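import Mathlib

set_option autoImplicit false

namespace Cfsg.Agent.Helper7

open scoped Pointwise

variable {G : Type*} [Group G]

theorem mem_map_conj_iff {H : Subgroup G} {g y : G} :
    y ∈ H.map (MulAut.conj g).toMonoidHom ↔ g⁻¹ * y * g ∈ H := by
  constructor
  · rintro ⟨x, hx, rfl⟩
    simpa [MulAut.conj_apply, mul_assoc] using hx
  · intro h
    refine ⟨g⁻¹ * y * g, h, ?_⟩
    simp [MulAut.conj_apply, mul_assoc]

theorem conj_mem_map_conj {H : Subgroup G} {g x : G} (hx : x ∈ H) :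
    g * x * g⁻¹ ∈ H.map (MulAut.conj g).toMonoidHom :=
  ⟨x, hx, by simp [MulAut.conj_apply]⟩

theorem mem_normalizer_iff_map_conj_eq' {H : Subgroup G} {g : G} :
    g ∈ Subgroup.normalizer (H : Set G) ↔ H.map (MulAut.conj g).toMonoidHom = H :=
  Subgroup.mem_normalizer_iff_map_conj_eq

theorem map_conj_eq_smul (H : Subgroup G) (g : G) :
    H.map (MulAut.conj g).toMonoidHom = MulAut.conj g • H := rfl

theorem mem_sylow_smul_iff {p : ℕ} {P : Sylow p G} {g y : G} :
    y ∈ g • P ↔ g⁻¹ * y * g ∈ P := by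
  show y ∈ ((g • P : Sylow p G) : Subgroup G) ↔ _
  rw [Sylow.coe_subgroup_smul, Subgroup.mem_pointwise_smul_iff_inv_smul_mem]
  simp only [MulAut.smul_def, MulAut.conj_apply, inv_inv, map_inv, MulAut.inv_apply, MulAut.conj_symm_apply]
  rfl

end Cfsg.Agent.Helper7

namespace Cfsg.Agent.Helper7

variable {G : Type*} [Group G]

/-- In a finite group, a subgroup stable under conjugation by `c⁻¹` is stable under conjugation by `c`. -/
theorem conj_mem_of_forall_inv_conj_mem [Finite G] {A : Subgroup G} {c : G}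
    (h : ∀ a ∈ A, c⁻¹ * a * c ∈ A) : ∀ a ∈ A, c * a * c⁻¹ ∈ A := by
  have key : ∀ k : ℕ, ∀ a ∈ A, (c⁻¹) ^ k * a * c ^ k ∈ A := by
    intro k
    induction k with
    | zero => intro a ha; simpa using ha
    | succ k ih =>
      intro a ha
      have := ih _ (h a ha)
      have e : c⁻¹ ^ (k + 1) * a * c ^ (k + 1) = c⁻¹ ^ k * (c⁻¹ * a * c) * c ^ k := by
        rw [pow_succ, pow_succ']; group
      rw [e]; exact this
  intro a ha
  have hn : 0 < orderOf c := orderOf_pos c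
  have h1 : c ^ (orderOf c - 1) = c⁻¹ := by
    apply eq_inv_of_mul_eq_one_left
    rw [← pow_succ, Nat.sub_add_cancel hn, pow_orderOf_eq_one]
  have h2 : c⁻¹ ^ (orderOf c - 1) = c := by
    rw [inv_pow, h1, inv_inv]
  have := key (orderOf c - 1) a ha
  rwa [h1, h2] at this

end Cfsg.Agent.Helper7

namespace Cfsg.Agent.Helper7

variable {G : Type*} [Group G]

/-- Sylow conjugacy inside a subgroup `H` containing the Sylow subgroup `S`. -/
theorem exists_conj_mem_sylow_of_le [Finite G] {p : ℕ} [Fact p.Prime] (S : Sylow p G)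
    {H Y : Subgroup G} (hSH : (S : Subgroup G) ≤ H) (hYH : Y ≤ H) (hY : IsPGroup p Y) :
    ∃ h ∈ H, ∀ y ∈ Y, h * y * h⁻¹ ∈ S := by
  have hYp : IsPGroup p (Y.subgroupOf H) :=
    hY.comap_of_injective H.subtype (Subgroup.subtype_injective H)
  obtain ⟨R, hR⟩ := hYp.exists_le_sylow
  obtain ⟨h, hh⟩ := MulAction.exists_smul_eq H R (S.subtype hSH)
  refine ⟨h, h.2, ?_⟩
  intro y hy
  have h1 : (⟨y, hYH hy⟩ : H) ∈ R := hR (by simpa [Subgroup.mem_subgroupOf] using hy)
  have h2 : (⟨y, hYH hy⟩ : H) ∈ h⁻¹ • (S.subtype hSH) := by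
    rw [← hh, inv_smul_smul]; exact h1
  rw [mem_sylow_smul_iff] at h2
  have h3 : (h⁻¹⁻¹ * ⟨y, hYH hy⟩ * h⁻¹ : H) ∈ (S.subtype hSH : Subgroup H) := h2
  rw [Sylow.coe_subtype, Subgroup.mem_subgroupOf] at h3
  show _ ∈ (S : Subgroup G)
  simpa using h3

end Cfsg.Agent.Helper7
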