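import Mathlib
import Cfsg.Prelude.Def_Local
import Cfsg.Agent.Helper7.Basic

set_option autoImplicit false

namespace Cfsg.Agent.Helper7

open Subgroup
open scoped commutatorElement

variable {G : Type*} [Group G]

/-! ### commutators and central factors -/

theorem commutator_sup_center_left (A B : Subgroup G) : ⁅A ⊔ center G, B⁆ = ⁅A, B⁆ := by
  apply le_antisymm
  · rw [commutator_le]
    intro g₁ h₁ g₂ h₂
    obtain ⟨a, ha, z, hz, rfl⟩ := mem_sup_of_normal_right.1 h₁
    have : ⁅a * z, g₂⁆ = ⁅a, g₂⁆ := by
      rw [mem_center_iff] at hz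
      rw [commutatorElement_def, commutatorElement_def]
      have h1 := hz g₂
      calc a * z * g₂ * (a * z)⁻¹ * g₂⁻¹ = a * (z * g₂) * z⁻¹ * a⁻¹ * g₂⁻¹ := by group
        _ = a * (g₂ * z) * z⁻¹ * a⁻¹ * g₂⁻¹ := by rw [h1]
        _ = a * g₂ * a⁻¹ * g₂⁻¹ := by group
    rw [this]
    exact commutator_mem_commutator ha h₂
  · exact commutator_mono le_sup_left le_rfl

theorem commutator_sup_center_right (A B : Subgroup G) : ⁅A, B ⊔ center G⁆ = ⁅A, B⁆ := by
  rw [commutator_comm, commutator_sup_center_left, commutator_comm]

theorem commutator_sup_center_both (A B : Subgroup G) :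
    ⁅A ⊔ center G, B ⊔ center G⁆ = ⁅A, B⁆ := by
  rw [commutator_sup_center_left, commutator_sup_center_right]

/-! ### transfer of quasisimplicity -/

theorem map_center_mulEquiv {H K : Type*} [Group H] [Group K] (e : H ≃* K) :
    (center H).map e.toMonoidHom = center K := by
  ext k
  constructor
  · rintro ⟨h, hh, rfl⟩
    rw [mem_center_iff]
    intro g
    obtain ⟨g', rfl⟩ := e.surjective g
    rw [SetLike.mem_coe, mem_center_iff] at hh
    simp only [MulEquiv.coe_toMonoidHom, ← map_mul, hh g']
  · intro hk
    refine ⟨e.symm k, ?_, by simp⟩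
    rw [SetLike.mem_coe, mem_center_iff]
    intro g
    rw [mem_center_iff] at hk
    apply e.injective
    simp only [map_mul, MulEquiv.apply_symm_apply, hk (e g)]

theorem isQuasisimple_of_mulEquiv {H K : Type*} [Group H] [Group K] (e : H ≃* K)
    (h : Cfsg.IsQuasisimple H) : Cfsg.IsQuasisimple K := by
  obtain ⟨hp, hs⟩ := h
  refine ⟨Group.IsPerfect.ofSurjective (f := e.toMonoidHom) e.surjective, ?_⟩
  have e' : H ⧸ center H ≃* K ⧸ center K :=
    QuotientGroup.congr (center H) (center K) e (map_center_mulEquiv e)
  exact e'.symm.isSimpleGroup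

theorem isQuasisimple_congr {H K : Type*} [Group H] [Group K] (e : H ≃* K) :
    Cfsg.IsQuasisimple H ↔ Cfsg.IsQuasisimple K :=
  ⟨isQuasisimple_of_mulEquiv e, isQuasisimple_of_mulEquiv e.symm⟩

/-! ### basic properties of quasisimple groups -/

theorem IsQuasisimple.nontrivial {X : Type*} [Group X] (h : Cfsg.IsQuasisimple X) : Nontrivial X := by
  obtain ⟨_, hs⟩ := h
  by_contra hn
  rw [not_nontrivial_iff_subsingleton] at hn
  have : Subsingleton (X ⧸ center X) := Quotient.instSubsingletonQuotient _
  exact not_nontrivial _ hs.toNontrivial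

theorem IsQuasisimple.center_ne_top {X : Type*} [Group X] (h : Cfsg.IsQuasisimple X) :
    center X ≠ ⊤ := by
  obtain ⟨_, hs⟩ := h
  intro ht
  have : Subsingleton (X ⧸ center X) := by
    rw [ht]; exact QuotientGroup.subsingleton_quotient_top
  exact not_nontrivial _ hs.toNontrivial

theorem IsQuasisimple.not_isMulCommutative {X : Type*} [Group X] (h : Cfsg.IsQuasisimple X) :
    ¬ IsMulCommutative X := by
  intro hc
  exact IsQuasisimple.center_ne_top h (center_eq_top_iff.2 hc)

theorem IsQuasisimple.not_isSolvable {X : Type*} [Group X] (h : Cfsg.IsQuasisimple X) :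
    ¬ Group.IsSolvable X := by
  have := IsQuasisimple.nontrivial h
  have := h.1
  exact Group.IsPerfect.not_isSolvable X

/-- A normal subgroup of a quasisimple group is the whole group or central. -/
theorem IsQuasisimple.normal_eq_top_or_le_center {X : Type*} [Group X] (h : Cfsg.IsQuasisimple X)
    (N : Subgroup X) [hN : N.Normal] : N = ⊤ ∨ N ≤ center X := by
  obtain ⟨hp, hs⟩ := h
  have hNn : (N.map (QuotientGroup.mk' (center X))).Normal :=
    hN.map _ (QuotientGroup.mk'_surjective _)
  rcases hNn.eq_bot_or_eq_top with hb | ht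
  · right
    rw [Subgroup.map_eq_bot_iff, QuotientGroup.ker_mk'] at hb
    exact hb
  · left
    have h1 : N ⊔ center X = ⊤ := by
      have := congrArg (comap (QuotientGroup.mk' (center X))) ht
      rw [comap_map_eq, QuotientGroup.ker_mk', comap_top] at this
      exact this
    have h2 : commutator X ≤ N := by
      rw [_root_.commutator_def, ← h1, commutator_sup_center_both]
      exact Subgroup.commutator_le_left N N
    rw [hp.commutator_eq_top] at h2
    exact top_le_iff.1 h2

/-- S1259: a subnormal subgroup of a quasisimple group is the whole group or central. -/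
theorem IsQuasisimple.subnormal_eq_top_or_le_center {X : Type*} [Group X]
    (h : Cfsg.IsQuasisimple X) {H : Subgroup X} (hH : H.IsSubnormal) : H = ⊤ ∨ H ≤ center X := by
  induction hH with
  | top => exact Or.inl rfl
  | step H K hle hK hN ih =>
    rcases ih with rfl | hK'
    · have : H.Normal := by
        rw [normal_subgroupOf_iff_le_normalizer le_top, top_le_iff, normalizer_eq_top_iff] at hN
        exact hN
      exact IsQuasisimple.normal_eq_top_or_le_center h H
    · exact Or.inr (hle.trans hK')

/-- Criterion: a perfect central extension of a nonabelian simple group is quasisimple. -/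
theorem isQuasisimple_of_surjective {Y S : Type*} [Group Y] [Group S] [IsSimpleGroup S]
    (hna : ¬ IsMulCommutative S) (f : Y →* S) (hf : Function.Surjective f)
    (hker : f.ker ≤ center Y) (hperf : Group.IsPerfect Y) : Cfsg.IsQuasisimple Y := by
  refine ⟨hperf, ?_⟩
  have hn : ((center Y).map f).Normal := (inferInstance : (center Y).Normal).map f hf
  have hc : center Y ≤ f.ker := by
    rcases hn.eq_bot_or_eq_top with hb | ht
    · rwa [Subgroup.map_eq_bot_iff] at hb
    · exfalso
      apply hna
      refine ⟨⟨fun s₁ s₂ => ?_⟩⟩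
      have h1 : s₁ ∈ (center Y).map f := by rw [ht]; trivial
      obtain ⟨z₁, hz₁, rfl⟩ := h1
      obtain ⟨y₂, rfl⟩ := hf s₂
      rw [SetLike.mem_coe, mem_center_iff] at hz₁
      rw [← map_mul, ← map_mul, hz₁ y₂]
  have heq : center Y = f.ker := le_antisymm hc hker
  have e : Y ⧸ center Y ≃* S :=
    (QuotientGroup.quotientMulEquivOfEq heq).trans (QuotientGroup.quotientKerEquivOfSurjective f hf)
  exact e.isSimpleGroup

/-- S1258 (first half): if `X / Z(X)` is non-abelian simple then `X = X' Z(X)`. -/
theorem commutator_sup_center_eq_top {X : Type*} [Group X]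
    (hs : IsSimpleGroup (X ⧸ center X)) (hna : ¬ IsMulCommutative (X ⧸ center X)) :
    commutator X ⊔ center X = ⊤ := by
  have h1 : (commutator X).map (QuotientGroup.mk' (center X)) = commutator (X ⧸ center X) := by
    rw [_root_.commutator_def, map_commutator, ← MonoidHom.range_eq_map,
      MonoidHom.range_eq_top.2 (QuotientGroup.mk'_surjective _), _root_.commutator_def]
  have h2 : commutator (X ⧸ center X) = ⊤ := by
    rcases (inferInstance : (commutator (X ⧸ center X)).Normal).eq_bot_or_eq_top with hb | ht
    · exact absurd ((commutator_eq_bot_iff _).1 hb) hna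
    · exact ht
  have := congrArg (comap (QuotientGroup.mk' (center X))) (h1.trans h2)
  rwa [comap_map_eq, QuotientGroup.ker_mk', comap_top] at this

/-- S1258 (second half). -/
theorem isQuasisimple_commutator {X : Type*} [Group X]
    (hs : IsSimpleGroup (X ⧸ center X)) (hna : ¬ IsMulCommutative (X ⧸ center X)) :
    Cfsg.IsQuasisimple ↥(commutator X) := by
  have htop := commutator_sup_center_eq_top hs hna
  have hperf : Group.IsPerfect ↥(commutator X) := by
    rw [Subgroup.isPerfect_iff]
    apply le_antisymm (Subgroup.commutator_le_self _)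
    calc commutator X = ⁅commutator X ⊔ center X, commutator X ⊔ center X⁆ := by
          rw [htop, _root_.commutator_def]
      _ = ⁅commutator X, commutator X⁆ := commutator_sup_center_both _ _
      _ ≤ _ := le_rfl
  let f : ↥(commutator X) →* X ⧸ center X :=
    (QuotientGroup.mk' (center X)).comp (commutator X).subtype
  have hf : Function.Surjective f := by
    intro q
    obtain ⟨x, rfl⟩ := QuotientGroup.mk'_surjective _ q
    have hx : x ∈ commutator X ⊔ center X := by rw [htop]; trivial
    obtain ⟨c, hc, z, hz, rfl⟩ := mem_sup_of_normal_right.1 hx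
    refine ⟨⟨c, hc⟩, ?_⟩
    show (QuotientGroup.mk' (center X)) c = (QuotientGroup.mk' (center X)) (c * z)
    rw [map_mul]
    have : (QuotientGroup.mk' (center X)) z = 1 := by
      rw [QuotientGroup.mk'_apply, QuotientGroup.eq_one_iff]; exact hz
    rw [this, mul_one]
  have hker : f.ker ≤ center ↥(commutator X) := by
    intro c hc
    rw [MonoidHom.mem_ker] at hc
    have hc' : (c : X) ∈ center X := by
      have : (QuotientGroup.mk' (center X)) (c : X) = 1 := hc
      rwa [QuotientGroup.mk'_apply, QuotientGroup.eq_one_iff] at this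
    rw [mem_center_iff] at hc' ⊢
    intro g
    apply Subtype.ext
    exact hc' g
  exact isQuasisimple_of_surjective hna f hf hker hperf

end Cfsg.Agent.Helper7

namespace Cfsg.Agent.Helper7

open Subgroup

/-- A group whose commutator subgroup is central is nilpotent. -/
theorem isNilpotent_of_commutator_le_center {H : Type*} [Group H]
    (h : commutator H ≤ center H) : Group.IsNilpotent H := by
  have hc : IsMulCommutative (H ⧸ center H) :=
    Subgroup.Normal.quotient_commutative_iff_commutator_le.2 h
  letI : CommGroup (H ⧸ center H) :=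
    { (inferInstance : Group (H ⧸ center H)) with mul_comm := fun a b => hc.is_comm.comm a b }
  exact Group.of_quotient_center_nilpotent inferInstance

/-- A nontrivial perfect group all of whose proper normal subgroups are central is quasisimple. -/
theorem isQuasisimple_of_normal_le_center {Y : Type*} [Group Y] [Nontrivial Y]
    (hperf : Group.IsPerfect Y)
    (h : ∀ N : Subgroup Y, N.Normal → N = ⊤ ∨ N ≤ center Y) : Cfsg.IsQuasisimple Y := by
  refine ⟨hperf, ?_⟩
  have hZ : center Y ≠ ⊤ := by
    intro ht
    have hc : IsMulCommutative Y := center_eq_top_iff.1 ht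
    have : Subsingleton Y := Group.IsPerfect.subsingleton_of_isMulCommutative
    exact not_nontrivial Y inferInstance
  haveI : Nontrivial (Y ⧸ center Y) := by
    rw [QuotientGroup.nontrivial_iff]
    exact hZ
  refine ⟨fun N hN => ?_⟩
  rcases h (N.comap (QuotientGroup.mk' (center Y))) (hN.comap _) with h1 | h1
  · right
    rw [← comap_top (QuotientGroup.mk' (center Y))] at h1
    exact comap_injective (QuotientGroup.mk'_surjective _) h1
  · left
    rw [eq_bot_iff]
    intro q hq
    obtain ⟨y, rfl⟩ := QuotientGroup.mk'_surjective _ q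
    have : y ∈ center Y := h1 hq
    rw [mem_bot, QuotientGroup.mk'_apply, QuotientGroup.eq_one_iff]
    exact this

end Cfsg.Agent.Helper7
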