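import Mathlib
import Cfsg.Prelude.Def_Local
import Cfsg.Agent.Helper7.Quasisimple

set_option autoImplicit false

namespace Cfsg.Agent.Helper7

open Subgroup
open scoped commutatorElement

universe u

variable {G : Type*} [Group G]

/-! ### `subgroupOf` utilities -/

theorem subgroupOf_le_subgroupOf_iff {A B X : Subgroup G} (hA : A ≤ X) :
    A.subgroupOf X ≤ B.subgroupOf X ↔ A ≤ B := by
  constructor
  · intro h a ha
    have : (⟨a, hA ha⟩ : X) ∈ B.subgroupOf X := h (by simpa [mem_subgroupOf] using ha)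
    simpa [mem_subgroupOf] using this
  · intro h x hx
    rw [mem_subgroupOf] at hx ⊢
    exact h hx

theorem commutator_subgroupOf_eq_bot_iff {A B X : Subgroup G} (hA : A ≤ X) (hB : B ≤ X) :
    ⁅A.subgroupOf X, B.subgroupOf X⁆ = ⊥ ↔ ⁅A, B⁆ = ⊥ := by
  rw [← map_eq_bot_iff_of_injective _ (subtype_injective X), map_commutator,
    map_subgroupOf_eq_of_le hA, map_subgroupOf_eq_of_le hB]

theorem card_lt_of_ne_top [Finite G] {X : Subgroup G} (h : X ≠ ⊤) : Nat.card X < Nat.card G := by
  apply lt_of_le_of_ne (card_le_card_group X)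
  intro he
  exact h (card_eq_iff_eq_top X |>.1 he)

/-! ### components in subgroups -/

theorem isComponent_subgroupOf {L X : Subgroup G} (hL : Cfsg.IsComponent L) (hLX : L ≤ X) :
    Cfsg.IsComponent (L.subgroupOf X) :=
  ⟨hL.1.subgroupOf, isQuasisimple_of_mulEquiv (subgroupOfEquivOfLe hLX).symm hL.2⟩

theorem isComponent_map_subtype {H : Subgroup G} (hH : H.IsSubnormal) {K : Subgroup H}
    (hK : Cfsg.IsComponent K) : Cfsg.IsComponent (K.map H.subtype) :=
  ⟨hK.1.trans' hH, isQuasisimple_of_mulEquiv (K.equivMapOfInjective _ (subtype_injective H)) hK.2⟩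

theorem isComponent_of_map_subtype {H : Subgroup G} {K : Subgroup H}
    (hK : Cfsg.IsComponent (K.map H.subtype)) : Cfsg.IsComponent K := by
  refine ⟨?_, isQuasisimple_of_mulEquiv (K.equivMapOfInjective _ (subtype_injective H)).symm hK.2⟩
  have := hK.1.subgroupOf (K := H)
  rwa [← comap_subtype, comap_map_eq_self_of_injective (subtype_injective H)] at this

theorem isComponent_top_iff : Cfsg.IsComponent (⊤ : Subgroup G) ↔ Cfsg.IsQuasisimple G :=
  ⟨fun h => isQuasisimple_of_mulEquiv topEquiv h.2,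
    fun h => ⟨IsSubnormal.top, isQuasisimple_of_mulEquiv topEquiv.symm h⟩⟩

theorem IsComponent.ne_bot {L : Subgroup G} (hL : Cfsg.IsComponent L) : L ≠ ⊥ := by
  have := IsQuasisimple.nontrivial hL.2
  exact (nontrivial_iff_ne_bot L).1 this

theorem IsComponent.commutator_eq {L : Subgroup G} (hL : Cfsg.IsComponent L) : ⁅L, L⁆ = L := by
  have := hL.2.1
  exact Subgroup.isPerfect_iff.1 this

/-- A perfect subgroup centralised modulo a double commutator: if `⁅⁅Y, L⁆, L⁆ = ⊥` and `L` is
perfect then `⁅L, Y⁆ = ⊥`. -/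
theorem commutator_eq_bot_of_perfect {L Y : Subgroup G} (hperf : ⁅L, L⁆ = L)
    (h : ⁅⁅Y, L⁆, L⁆ = ⊥) : ⁅L, Y⁆ = ⊥ := by
  have h1 : ⁅⁅L, Y⁆, L⁆ = ⊥ := by rwa [commutator_comm L Y]
  have := commutator_commutator_eq_bot_of_rotate (H₁ := L) (H₂ := L) (H₃ := Y) h1 h
  rwa [hperf] at this

/-- Aschbacher 31.4, by induction on the order of the group. -/
theorem component_le_or_commutator_eq_bot_aux : ∀ (n : ℕ) (G : Type u) [Group G] [Finite G],
    Nat.card G = n → ∀ L H : Subgroup G, Cfsg.IsComponent L → H.IsSubnormal →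
      L ≤ H ∨ ⁅L, H⁆ = ⊥ := by
  intro n
  induction n using Nat.strong_induction_on with
  | _ n ih =>
    intro G _ _ hn L H hL hH
    by_cases hHtop : H = ⊤
    · left; rw [hHtop]; exact le_top
    by_cases hLtop : L = ⊤
    · right
      subst hLtop
      have hq := isComponent_top_iff.1 hL
      rcases IsQuasisimple.subnormal_eq_top_or_le_center hq hH with h | h
      · exact absurd h hHtop
      · exact commutator_top_left_eq_bot_iff_le_center.2 h
    obtain ⟨X, hXn, hLX, hXlt⟩ := hL.1.exists_normal_and_le_and_lt_top_of_ne hLtop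
    obtain ⟨Y, hYn, hHY, hYlt⟩ := hH.exists_normal_and_le_and_lt_top_of_ne hHtop
    have hXY : (X ⊓ Y).Normal := inferInstance
    -- apply the induction hypothesis inside X
    have h1 := ih (Nat.card X) (hn ▸ card_lt_of_ne_top hXlt.ne) X rfl (L.subgroupOf X)
      ((X ⊓ Y).subgroupOf X) (isComponent_subgroupOf hL hLX)
      (Subgroup.Normal.isSubnormal (hXY.subgroupOf X))
    rcases h1 with h1 | h1
    · rw [subgroupOf_le_subgroupOf_iff hLX] at h1
      have hLY : L ≤ Y := h1.trans inf_le_right
      have h2 := ih (Nat.card Y) (hn ▸ card_lt_of_ne_top hYlt.ne) Y rfl (L.subgroupOf Y)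
        (H.subgroupOf Y) (isComponent_subgroupOf hL hLY) hH.subgroupOf
      rcases h2 with h2 | h2
      · left; exact (subgroupOf_le_subgroupOf_iff hLY).1 h2
      · right; exact (commutator_subgroupOf_eq_bot_iff hLY hHY).1 h2
    · right
      rw [commutator_subgroupOf_eq_bot_iff hLX inf_le_left] at h1
      have h3 : ⁅Y, L⁆ ≤ X ⊓ Y := by
        refine le_trans (commutator_mono le_rfl hLX) ?_
        rw [commutator_comm]
        exact commutator_le_inf X Y
      have h4 : ⁅⁅Y, L⁆, L⁆ = ⊥ := by
        rw [eq_bot_iff]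
        calc ⁅⁅Y, L⁆, L⁆ ≤ ⁅X ⊓ Y, L⁆ := commutator_mono h3 le_rfl
          _ = ⁅L, X ⊓ Y⁆ := commutator_comm _ _
          _ = ⊥ := h1
      have h5 := commutator_eq_bot_of_perfect (IsComponent.commutator_eq hL) h4
      rw [eq_bot_iff] at h5 ⊢
      exact le_trans (commutator_mono le_rfl hHY) h5

/-- S1261 (Aschbacher 31.4): a component lies in, or commutes with, each subnormal subgroup. -/
theorem component_le_or_commutator_eq_bot {G : Type u} [Group G] [Finite G] {L H : Subgroup G}
    (hL : Cfsg.IsComponent L) (hH : H.IsSubnormal) : L ≤ H ∨ ⁅L, H⁆ = ⊥ :=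
  component_le_or_commutator_eq_bot_aux _ G rfl L H hL hH

end Cfsg.Agent.Helper7

namespace Cfsg.Agent.Helper7

open Subgroup

universe u

theorem isSolvable_of_le {G : Type*} [Group G] {A B : Subgroup G} (h : A ≤ B)
    (hB : Group.IsSolvable B) : Group.IsSolvable A :=
  Group.isSolvable_of_isSolvable_injective (f := Subgroup.inclusion h) (Subgroup.inclusion_injective h)

/-- S1262: a component centralises every solvable subgroup it normalises. -/
theorem component_commutator_solvable_eq_bot {G : Type u} [Group G] [Finite G] {L H : Subgroup G}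
    (hL : Cfsg.IsComponent L) (hsolv : Group.IsSolvable H)
    (hinv : L ≤ normalizer (H : Set G)) : ⁅L, H⁆ = ⊥ := by
  have hLM : L ≤ L ⊔ H := le_sup_left
  have hHM : H ≤ L ⊔ H := le_sup_right
  have hMN : L ⊔ H ≤ normalizer (H : Set G) := sup_le hinv le_normalizer
  have hHn : (H.subgroupOf (L ⊔ H)).Normal :=
    (normal_subgroupOf_iff_le_normalizer hHM).2 hMN
  rcases component_le_or_commutator_eq_bot (isComponent_subgroupOf hL hLM)
    (Subgroup.Normal.isSubnormal hHn) with h | h
  · rw [subgroupOf_le_subgroupOf_iff hLM] at h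
    exact absurd (isSolvable_of_le h hsolv) (IsQuasisimple.not_isSolvable hL.2)
  · exact (commutator_subgroupOf_eq_bot_iff hLM hHM).1 h

end Cfsg.Agent.Helper7
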