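import Mathlib
import Cfsg.Prelude.Def_Local
import Cfsg.Agent.Helper14.PCore
import Cfsg.Agent.Helper7.Components

set_option autoImplicit false
set_option linter.style.haveILetI false

namespace Cfsg.Agent.Helper7

open Subgroup Cfsg
open Cfsg.Agent.Helper14 (pCore_isPGroup le_pCore pCore_characteristic)

universe u

/-! ### The join of the `p`-cores -/

/-- The join of all `p`-cores. -/
def pCoreSup (G : Type*) [Group G] : Subgroup G := ⨆ p : Nat.Primes, pCore (p : ℕ) G

theorem pCore_le_pCoreSup {G : Type*} [Group G] (p : ℕ) [hp : Fact p.Prime] :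
    pCore p G ≤ pCoreSup G :=
  le_iSup (fun q : Nat.Primes => pCore (q : ℕ) G) ⟨p, hp.out⟩

theorem pCoreSup_le_iff {G : Type*} [Group G] {K : Subgroup G} :
    pCoreSup G ≤ K ↔ ∀ p : ℕ, p.Prime → pCore p G ≤ K := by
  unfold pCoreSup
  rw [iSup_le_iff]
  exact ⟨fun h p hp => h ⟨p, hp⟩, fun h p => h p p.2⟩

theorem pCore_commute_of_ne {G : Type*} [Group G] {p q : ℕ} [Fact p.Prime] [Fact q.Prime]
    (hne : p ≠ q) : ⁅pCore p G, pCore q G⁆ = ⊥ :=
  commutator_eq_bot_of_disjoint
    (IsPGroup.disjoint_of_ne p q hne _ _ (pCore_isPGroup p) (pCore_isPGroup q))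

/-- A nontrivial finite group generated by its `p`-cores has nontrivial centre. -/
theorem center_ne_bot_of_pCoreSup_eq_top {G : Type*} [Group G] [Finite G] [Nontrivial G]
    (h : pCoreSup G = ⊤) : center G ≠ ⊥ := by
  -- some p-core is nontrivial
  obtain ⟨p, hp⟩ : ∃ p : Nat.Primes, pCore (p : ℕ) G ≠ ⊥ := by
    by_contra hcon
    push Not at hcon
    have : pCoreSup G = ⊥ := by
      unfold pCoreSup
      rw [iSup_eq_bot]
      exact hcon
    rw [h] at this
    exact top_ne_bot this
  haveI : Fact (p : ℕ).Prime := ⟨p.2⟩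
  haveI : Nontrivial (pCore (p : ℕ) G) := (nontrivial_iff_ne_bot _).2 hp
  haveI : Nontrivial (center (pCore (p : ℕ) G)) :=
    (pCore_isPGroup (G := G) (p : ℕ)).center_nontrivial
  obtain ⟨z, hz⟩ := exists_ne (1 : center (pCore (p : ℕ) G))
  have hzc : ∀ g : pCore (p : ℕ) G, g * (z : pCore (p : ℕ) G) = (z : pCore (p : ℕ) G) * g :=
    fun g => (mem_center_iff.1 z.2) g
  intro hbot
  have hz' : ((z : pCore (p : ℕ) G) : G) ∈ center G := by
    have hle : pCoreSup G ≤ centralizer {((z : pCore (p : ℕ) G) : G)} := by
      rw [pCoreSup_le_iff]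
      intro q hq
      haveI : Fact q.Prime := ⟨hq⟩
      by_cases hqp : q = (p : ℕ)
      · subst hqp
        intro g hg
        rw [mem_centralizer_iff]
        intro x hx
        rw [Set.mem_singleton_iff] at hx
        subst hx
        have := hzc ⟨g, hg⟩
        exact (congrArg Subtype.val this).symm
      · have hc := pCore_commute_of_ne (G := G) hqp
        rw [commutator_eq_bot_iff_le_centralizer] at hc
        intro g hg
        have := hc hg
        rw [mem_centralizer_iff] at this ⊢
        intro x hx
        rw [Set.mem_singleton_iff] at hx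
        subst hx
        exact this _ (z : pCore (p : ℕ) G).2
    rw [h] at hle
    rw [mem_center_iff]
    intro g
    have := hle (mem_top g)
    rw [mem_centralizer_iff] at this
    exact (this _ rfl).symm
  rw [hbot, mem_bot] at hz'
  apply hz
  apply Subtype.ext
  apply Subtype.ext
  exact hz'

theorem map_pCore_le {G H : Type*} [Group G] [Group H] (f : G →* H) (hf : Function.Surjective f)
    (p : ℕ) : (pCore p G).map f ≤ pCore p H :=
  le_pCore p ((Cfsg.pCore_normal p G).map f hf) ((pCore_isPGroup p).map f)

theorem pCoreSup_quotient_eq_top {G : Type*} [Group G] (N : Subgroup G) [N.Normal]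
    (h : pCoreSup G = ⊤) : pCoreSup (G ⧸ N) = ⊤ := by
  rw [eq_top_iff]
  calc (⊤ : Subgroup (G ⧸ N)) = (pCoreSup G).map (QuotientGroup.mk' N) := by
        rw [h, map_top_of_surjective _ (QuotientGroup.mk'_surjective N)]
    _ = ⨆ p : Nat.Primes, (pCore (p : ℕ) G).map (QuotientGroup.mk' N) := by
        unfold pCoreSup; rw [Subgroup.map_iSup]
    _ ≤ pCoreSup (G ⧸ N) :=
        iSup_mono fun p => map_pCore_le _ (QuotientGroup.mk'_surjective N) _

/-- (F1) A finite group generated by its `p`-cores is nilpotent. -/
theorem isNilpotent_of_pCoreSup_eq_top_aux : ∀ (n : ℕ) (G : Type u) [Group G] [Finite G],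
    Nat.card G = n → pCoreSup G = ⊤ → Group.IsNilpotent G := by
  intro n
  induction n using Nat.strong_induction_on with
  | _ n ih =>
    intro G _ _ hn h
    rcases subsingleton_or_nontrivial G with hs | hnt
    · infer_instance
    · have hZ := center_ne_bot_of_pCoreSup_eq_top h
      have hcq : Nat.card (G ⧸ center G) < Nat.card G := by
        rw [card_eq_card_quotient_mul_card_subgroup (center G)]
        apply lt_mul_of_one_lt_right Nat.card_pos
        exact (Subgroup.one_lt_card_iff_ne_bot _).mpr hZ
      have := ih _ (hn ▸ hcq) (G ⧸ center G) rfl (pCoreSup_quotient_eq_top _ h)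
      exact Group.of_quotient_center_nilpotent this

theorem isNilpotent_of_pCoreSup_eq_top {G : Type u} [Group G] [Finite G]
    (h : pCoreSup G = ⊤) : Group.IsNilpotent G :=
  isNilpotent_of_pCoreSup_eq_top_aux _ G rfl h

/-- (F1') A finite nilpotent group is generated by its `p`-cores. -/
theorem pCoreSup_eq_top_of_isNilpotent {G : Type*} [Group G] [Finite G] [Group.IsNilpotent G] :
    pCoreSup G = ⊤ := by
  rw [← index_eq_one, Nat.eq_one_iff_not_exists_prime_dvd]
  intro p hp hdvd
  haveI : Fact p.Prime := ⟨hp⟩
  obtain ⟨P⟩ : Nonempty (Sylow p G) := inferInstance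
  have hPn : (P : Subgroup G).Normal := inferInstance
  have hle : (P : Subgroup G) ≤ pCoreSup G :=
    (le_pCore p hPn P.2).trans (pCore_le_pCoreSup p)
  exact P.not_dvd_index (dvd_trans hdvd (index_dvd_of_le hle))

/-! ### The Fitting subgroup -/

instance fittingSubgroup_normal (G : Type*) [Group G] : (fittingSubgroup G).Normal :=
  Subgroup.sSup_normal _ (fun _ h => h.1)

theorem le_fittingSubgroup {G : Type*} [Group G] {N : Subgroup G} (hN : N.Normal)
    (hnil : Group.IsNilpotent N) : N ≤ fittingSubgroup G :=
  le_sSup ⟨hN, hnil⟩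

theorem pCore_le_fittingSubgroup {G : Type*} [Group G] [Finite G] (p : ℕ) [Fact p.Prime] :
    pCore p G ≤ fittingSubgroup G :=
  le_fittingSubgroup (Cfsg.pCore_normal p G) (pCore_isPGroup p).isNilpotent

theorem map_subtype_pCoreSup_le {G : Type*} [Group G] (N : Subgroup G) [N.Normal] :
    (pCoreSup N).map N.subtype ≤ pCoreSup G := by
  unfold pCoreSup
  rw [Subgroup.map_iSup]
  apply iSup_mono
  intro p
  haveI := pCore_characteristic (G := N) (p : ℕ)
  exact le_pCore _ inferInstance ((pCore_isPGroup _).map _)

/-- (F3) The Fitting subgroup of a finite group is the join of the `p`-cores. -/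
theorem fittingSubgroup_eq_pCoreSup {G : Type*} [Group G] [Finite G] :
    fittingSubgroup G = pCoreSup G := by
  apply le_antisymm
  · apply sSup_le
    rintro N ⟨hN, hnil⟩
    have h1 : pCoreSup N = ⊤ := pCoreSup_eq_top_of_isNilpotent
    have h2 := map_subtype_pCoreSup_le N
    rw [h1, ← MonoidHom.range_eq_map, range_subtype] at h2
    exact h2
  · rw [pCoreSup_le_iff]
    intro p hp
    haveI : Fact p.Prime := ⟨hp⟩
    exact pCore_le_fittingSubgroup p

/-- (F4) Fitting's theorem: the Fitting subgroup of a finite group is nilpotent. -/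
theorem fittingSubgroup_isNilpotent {G : Type u} [Group G] [Finite G] :
    Group.IsNilpotent (fittingSubgroup G) := by
  apply isNilpotent_of_pCoreSup_eq_top
  -- it suffices to compare images in G
  apply map_injective (subtype_injective (fittingSubgroup G))
  rw [← MonoidHom.range_eq_map (fittingSubgroup G).subtype, range_subtype]
  apply le_antisymm
  · exact (map_subtype_le _)
  · conv_lhs => rw [fittingSubgroup_eq_pCoreSup]
    rw [pCoreSup_le_iff]
    intro p hp
    haveI : Fact p.Prime := ⟨hp⟩
    have h1 : (pCore p G).subgroupOf (fittingSubgroup G) ≤ pCore p (fittingSubgroup G) :=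
      le_pCore p ((Cfsg.pCore_normal p G).subgroupOf _) (pCore_isPGroup p).comap_subtype
    calc pCore p G = ((pCore p G).subgroupOf (fittingSubgroup G)).map (fittingSubgroup G).subtype := by
          rw [map_subgroupOf_eq_of_le (pCore_le_fittingSubgroup p)]
      _ ≤ (pCore p (fittingSubgroup G)).map (fittingSubgroup G).subtype := map_mono h1
      _ ≤ (pCoreSup (fittingSubgroup G)).map (fittingSubgroup G).subtype :=
          map_mono (pCore_le_pCoreSup p)

end Cfsg.Agent.Helper7

namespace Cfsg.Agent.Helper7

open Subgroup Cfsg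
open Cfsg.Agent.Helper14 (pCore_isPGroup le_pCore pCore_characteristic)

universe u

/-- A subnormal `p`-subgroup of a finite group lies in the `p`-core. -/
theorem subnormal_pGroup_le_pCore_aux (p : ℕ) : ∀ (n : ℕ) (G : Type u) [Group G] [Finite G],
    Nat.card G = n → ∀ P : Subgroup G, P.IsSubnormal → IsPGroup p P → P ≤ pCore p G := by
  intro n
  induction n using Nat.strong_induction_on with
  | _ n ih =>
    intro G _ _ hn P hP hPp
    by_cases hPtop : P = ⊤
    · subst hPtop
      exact le_pCore p inferInstance hPp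
    · obtain ⟨N, hNn, hPN, hNlt⟩ := hP.exists_normal_and_le_and_lt_top_of_ne hPtop
      have h1 := ih (Nat.card N) (hn ▸ card_lt_of_ne_top hNlt.ne) N rfl (P.subgroupOf N)
        hP.subgroupOf hPp.comap_subtype
      haveI := pCore_characteristic (G := N) p
      have h2 : (pCore p N).map N.subtype ≤ pCore p G :=
        le_pCore p inferInstance ((pCore_isPGroup p).map _)
      calc P = (P.subgroupOf N).map N.subtype := (map_subgroupOf_eq_of_le hPN).symm
        _ ≤ (pCore p N).map N.subtype := map_mono h1
        _ ≤ pCore p G := h2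

theorem subnormal_pGroup_le_pCore {G : Type u} [Group G] [Finite G] {p : ℕ} {P : Subgroup G}
    (hP : P.IsSubnormal) (hPp : IsPGroup p P) : P ≤ pCore p G :=
  subnormal_pGroup_le_pCore_aux p _ G rfl P hP hPp

/-- (F2) A subnormal nilpotent subgroup of a finite group lies in the Fitting subgroup. -/
theorem subnormal_nilpotent_le_fittingSubgroup {G : Type u} [Group G] [Finite G] {S : Subgroup G}
    (hS : S.IsSubnormal) (hnil : Group.IsNilpotent S) : S ≤ fittingSubgroup G := by
  have h1 : pCoreSup S = ⊤ := pCoreSup_eq_top_of_isNilpotent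
  have h2 : (pCoreSup S).map S.subtype ≤ pCoreSup G := by
    unfold pCoreSup
    rw [Subgroup.map_iSup]
    apply iSup_mono
    intro p
    apply subnormal_pGroup_le_pCore
    · exact (Subgroup.Normal.isSubnormal (Cfsg.pCore_normal (p : ℕ) S)).trans' hS
    · exact (pCore_isPGroup _).map _
  rw [h1, ← MonoidHom.range_eq_map, range_subtype] at h2
  rw [fittingSubgroup_eq_pCoreSup]
  exact h2

/-! ### Images under isomorphisms, characteristic subgroups -/

theorem fittingSubgroup_map_equiv_le {G H : Type*} [Group G] [Group H] (e : G ≃* H) :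
    (fittingSubgroup G).map e.toMonoidHom ≤ fittingSubgroup H := by
  unfold fittingSubgroup
  rw [map_le_iff_le_comap]
  apply sSup_le
  rintro N ⟨hN, hnil⟩
  rw [← map_le_iff_le_comap]
  apply le_sSup
  refine ⟨hN.map _ e.surjective, ?_⟩
  exact (Group.isNilpotent_congr (N.equivMapOfInjective _ e.injective)).1 hnil

theorem fittingSubgroup_map_equiv {G H : Type*} [Group G] [Group H] (e : G ≃* H) :
    (fittingSubgroup G).map e.toMonoidHom = fittingSubgroup H := by
  apply le_antisymm (fittingSubgroup_map_equiv_le e)
  have h1 := fittingSubgroup_map_equiv_le e.symm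
  intro x hx
  refine ⟨e.symm x, h1 ⟨x, hx, rfl⟩, by simp⟩

instance fittingSubgroup_characteristic (G : Type*) [Group G] :
    (fittingSubgroup G).Characteristic := by
  rw [characteristic_iff_map_eq]
  intro ϕ
  exact fittingSubgroup_map_equiv ϕ

end Cfsg.Agent.Helper7
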