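import Mathlib
import Cfsg.Prelude.Def_Local
import Cfsg.Agent.Helper7.Fitting

set_option autoImplicit false
set_option linter.style.haveILetI false

namespace Cfsg.Agent.Helper7

open Subgroup Cfsg
open scoped Pointwise

universe u

variable {G : Type*} [Group G]

/-! ### products of subgroups -/

theorem mem_sup_of_le_normalizer {A B : Subgroup G} (h : B ≤ normalizer (A : Set G)) {x : G} :
    x ∈ A ⊔ B ↔ ∃ a ∈ A, ∃ b ∈ B, a * b = x := by
  rw [← SetLike.mem_coe, coe_mul_of_right_le_normalizer_left A B h, Set.mem_mul]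
  rfl

theorem le_normalizer_of_commutator_eq_bot {A B : Subgroup G} (h : ⁅A, B⁆ = ⊥) :
    B ≤ normalizer (A : Set G) := by
  rw [commutator_comm, commutator_eq_bot_iff_le_centralizer] at h
  exact h.trans (centralizer_le_normalizer _)

theorem mem_sup_of_commutator_eq_bot {A B : Subgroup G} (h : ⁅A, B⁆ = ⊥) {x : G} :
    x ∈ A ⊔ B ↔ ∃ a ∈ A, ∃ b ∈ B, a * b = x :=
  mem_sup_of_le_normalizer (le_normalizer_of_commutator_eq_bot h)

theorem map_subtype_center (K : Subgroup G) :
    (center K).map K.subtype = K ⊓ centralizer (K : Set G) := by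
  ext x
  constructor
  · rintro ⟨k, hk, rfl⟩
    refine mem_inf.2 ⟨k.2, ?_⟩
    rw [mem_centralizer_iff]
    intro g hg
    rw [SetLike.mem_coe, mem_center_iff] at hk
    exact congrArg Subtype.val (hk ⟨g, hg⟩)
  · intro hx
    obtain ⟨hxK, hxc⟩ := mem_inf.1 hx
    refine ⟨⟨x, hxK⟩, ?_, rfl⟩
    rw [SetLike.mem_coe, mem_center_iff]
    intro g
    apply Subtype.ext
    exact (mem_centralizer_iff.1 hxc) g g.2

theorem commutator_eq_bot_iff_forall_commute {A B : Subgroup G} :
    ⁅A, B⁆ = ⊥ ↔ ∀ a ∈ A, ∀ b ∈ B, a * b = b * a := by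
  rw [commutator_eq_bot_iff_le_centralizer]
  constructor
  · intro h a ha b hb
    exact ((mem_centralizer_iff.1 (h ha)) b hb).symm
  · intro h a ha
    rw [mem_centralizer_iff]
    intro b hb
    exact (h a ha b hb).symm

/-! ### components under isomorphisms; the layer is characteristic -/

theorem isComponent_map_equiv {H : Type*} [Group H] (e : G ≃* H) {L : Subgroup G}
    (hL : IsComponent L) : IsComponent (L.map e.toMonoidHom) :=
  ⟨hL.1.map e.surjective,
    isQuasisimple_of_mulEquiv (L.equivMapOfInjective _ e.injective) hL.2⟩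

theorem isComponent_map_conj {L : Subgroup G} (hL : IsComponent L) (g : G) :
    IsComponent (L.map (MulAut.conj g).toMonoidHom) :=
  isComponent_map_equiv (MulAut.conj g) hL

theorem layer_map_equiv_le {H : Type*} [Group H] (e : G ≃* H) :
    (layer G).map e.toMonoidHom ≤ layer H := by
  unfold layer
  rw [map_le_iff_le_comap]
  apply sSup_le
  intro L hL
  rw [← map_le_iff_le_comap]
  exact le_sSup (isComponent_map_equiv e hL)

theorem layer_map_equiv {H : Type*} [Group H] (e : G ≃* H) :
    (layer G).map e.toMonoidHom = layer H := by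
  apply le_antisymm (layer_map_equiv_le e)
  have h1 := layer_map_equiv_le e.symm
  intro x hx
  refine ⟨e.symm x, h1 ⟨x, hx, rfl⟩, by simp⟩

instance layer_characteristic (G : Type*) [Group G] : (layer G).Characteristic := by
  rw [characteristic_iff_map_eq]
  intro ϕ
  exact layer_map_equiv ϕ

instance layer_normal (G : Type*) [Group G] : (layer G).Normal := inferInstance

theorem IsComponent.le_layer {L : Subgroup G} (hL : IsComponent L) : L ≤ layer G :=
  le_sSup hL

theorem layer_le_iff {K : Subgroup G} : layer G ≤ K ↔ ∀ L : Subgroup G, IsComponent L → L ≤ K := by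
  unfold layer
  rw [sSup_le_iff]
  rfl

end Cfsg.Agent.Helper7

namespace Cfsg.Agent.Helper7

open Subgroup Cfsg

universe u

variable {G : Type u} [Group G] [Finite G]

theorem isNilpotent_of_isMulCommutative (H : Type*) [Group H] [h : IsMulCommutative H] :
    Group.IsNilpotent H := by
  letI : CommGroup H := { (inferInstance : Group H) with mul_comm := fun a b => h.is_comm.comm a b }
  infer_instance

/-- Distinct components commute. -/
theorem components_commute {L K : Subgroup G} (hL : IsComponent L) (hK : IsComponent K)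
    (hne : L ≠ K) : ⁅L, K⁆ = ⊥ := by
  rcases component_le_or_commutator_eq_bot hL hK.1 with h | h
  · exfalso
    rcases IsQuasisimple.subnormal_eq_top_or_le_center hK.2 (hL.1.subgroupOf (K := K)) with h1 | h1
    · apply hne
      apply le_antisymm h
      intro k hk
      have : (⟨k, hk⟩ : K) ∈ L.subgroupOf K := by rw [h1]; trivial
      simpa [mem_subgroupOf] using this
    · apply IsQuasisimple.not_isMulCommutative hL.2
      refine ⟨⟨fun a b => ?_⟩⟩
      have ha : (⟨a, h a.2⟩ : K) ∈ center K := h1 (by simp [mem_subgroupOf])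
      rw [mem_center_iff] at ha
      have := ha ⟨b, h b.2⟩
      apply Subtype.ext
      exact (congrArg Subtype.val this).symm
  · exact h

/-- Every component is normalised by the layer. -/
theorem layer_le_normalizer_component {L : Subgroup G} (hL : IsComponent L) :
    layer G ≤ normalizer (L : Set G) := by
  rw [layer_le_iff]
  intro K hK
  by_cases h : K = L
  · rw [h]; exact le_normalizer
  · exact le_normalizer_of_commutator_eq_bot (components_commute hL hK (Ne.symm h))

/-- The Fitting subgroup centralises every component. -/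
theorem component_commutator_fitting {L : Subgroup G} (hL : IsComponent L) :
    ⁅L, fittingSubgroup G⁆ = ⊥ := by
  rw [commutator_comm, commutator_eq_bot_iff_le_centralizer]
  unfold fittingSubgroup
  apply sSup_le
  rintro N ⟨hN, hnil⟩
  rw [← commutator_eq_bot_iff_le_centralizer, commutator_comm]
  haveI := hnil
  exact component_commutator_solvable_eq_bot hL inferInstance
    (by rw [normalizer_eq_top_iff.2 hN]; exact le_top)

theorem layer_commutator_fitting : ⁅layer G, fittingSubgroup G⁆ = ⊥ := by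
  rw [commutator_eq_bot_iff_le_centralizer, layer_le_iff]
  intro L hL
  rw [← commutator_eq_bot_iff_le_centralizer]
  exact component_commutator_fitting hL

/-- `Z(E(G))`, viewed in `G`. -/
theorem map_subtype_center_layer_le_fitting :
    (center (layer G)).map (layer G).subtype ≤ fittingSubgroup G := by
  apply le_fittingSubgroup inferInstance
  haveI : IsMulCommutative ((center (layer G)).map (layer G).subtype) :=
    Subgroup.map_isMulCommutative _ _
  exact isNilpotent_of_isMulCommutative _

/-- S1317: the centre of the layer is `F(G) ⊓ E(G)`. -/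
theorem map_subtype_center_layer :
    (center (layer G)).map (layer G).subtype = fittingSubgroup G ⊓ layer G := by
  apply le_antisymm
  · exact le_inf map_subtype_center_layer_le_fitting (map_subtype_le _)
  · rw [map_subtype_center]
    refine le_inf inf_le_right (inf_le_left.trans ?_)
    rw [← commutator_eq_bot_iff_le_centralizer, commutator_comm]
    exact layer_commutator_fitting

end Cfsg.Agent.Helper7

namespace Cfsg.Agent.Helper7

open Subgroup Cfsg

universe u

/-- The centre of a join of pairwise commuting subgroups is the join of the centres. -/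
theorem center_biSup_le {G : Type*} [Group G] (s : Finset (Subgroup G))
    (hcomm : ∀ L ∈ s, ∀ K ∈ s, L ≠ K → ⁅L, K⁆ = ⊥) :
    (⨆ L ∈ s, L) ⊓ centralizer ((⨆ L ∈ s, L : Subgroup G) : Set G) ≤
      ⨆ L ∈ s, (L ⊓ centralizer (L : Set G)) := by
  classical
  induction s using Finset.induction_on with
  | empty => simp
  | insert L t hLt ih =>
    have ih' := ih (fun A hA B hB => hcomm A (Finset.mem_insert_of_mem hA) B
      (Finset.mem_insert_of_mem hB))
    rw [Finset.iSup_insert, Finset.iSup_insert]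
    set M : Subgroup G := ⨆ K ∈ t, K with hM
    have hLM : ⁅L, M⁆ = ⊥ := by
      rw [commutator_comm, commutator_eq_bot_iff_le_centralizer, hM]
      apply iSup₂_le
      intro K hK
      rw [← commutator_eq_bot_iff_le_centralizer]
      apply hcomm K (Finset.mem_insert_of_mem hK) L (Finset.mem_insert_self L t)
      rintro rfl
      exact hLt hK
    have hLM' := commutator_eq_bot_iff_forall_commute.1 hLM
    intro z hz
    obtain ⟨hz1, hz2⟩ := mem_inf.1 hz
    obtain ⟨l, hl, m, hm, rfl⟩ := (mem_sup_of_commutator_eq_bot hLM).1 hz1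
    rw [mem_centralizer_iff] at hz2
    have hlc : l ∈ centralizer (L : Set G) := by
      rw [mem_centralizer_iff]
      intro x hx
      have h1 := hz2 x (mem_sup_left hx)
      have h2 := hLM' x hx m hm
      -- x * (l * m) = l * m * x and x * m = m * x
      have : x * l * m = l * x * m := by
        calc x * l * m = x * (l * m) := by group
          _ = l * m * x := h1
          _ = l * (m * x) := by group
          _ = l * (x * m) := by rw [h2]
          _ = l * x * m := by group
      exact mul_right_cancel this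
    have hmc : m ∈ centralizer (M : Set G) := by
      rw [mem_centralizer_iff]
      intro x hx
      have h1 := hz2 x (mem_sup_right hx)
      have h2 := hLM' l hl x hx
      have : l * (x * m) = l * (m * x) := by
        calc l * (x * m) = (l * x) * m := by group
          _ = x * l * m := by rw [h2]
          _ = x * (l * m) := by group
          _ = l * m * x := h1
          _ = l * (m * x) := by group
      exact mul_left_cancel this
    exact mul_mem (mem_sup_left (mem_inf.2 ⟨hl, hlc⟩))
      (mem_sup_right (ih' (mem_inf.2 ⟨hm, hmc⟩)))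

/-- S1263: `Z(E(G))` is generated by the centres of the components. -/
theorem map_subtype_center_layer_eq_iSup {G : Type u} [Group G] [Finite G] :
    (center (layer G)).map (layer G).subtype =
      ⨆ L : {K : Subgroup G // IsComponent K},
        (center (L : Subgroup G)).map (L : Subgroup G).subtype := by
  classical
  simp_rw [map_subtype_center]
  have hfin : Set.Finite {K : Subgroup G | IsComponent K} := Set.toFinite _
  have hE : layer G = ⨆ L ∈ hfin.toFinset, L := by
    unfold layer
    rw [sSup_eq_iSup]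
    simp only [Set.Finite.mem_toFinset]
  have hR : (⨆ L : {K : Subgroup G // IsComponent K},
      ((L : Subgroup G) ⊓ centralizer ((L : Subgroup G) : Set G))) =
      ⨆ L ∈ hfin.toFinset, (L ⊓ centralizer (L : Set G)) := by
    rw [iSup_subtype]
    simp only [Set.Finite.mem_toFinset, Set.mem_ofPred_eq]
  apply le_antisymm
  · rw [hR]
    conv_lhs => rw [hE]
    apply center_biSup_le
    intro L hL K hK hne
    rw [Set.Finite.mem_toFinset] at hL hK
    exact components_commute hL hK hne
  · apply iSup_le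
    rintro ⟨L, hL⟩
    refine le_inf (inf_le_left.trans (IsComponent.le_layer hL)) ?_
    rw [le_centralizer_iff, layer_le_iff]
    intro K hK
    rw [le_centralizer_iff]
    by_cases h : K = L
    · subst h; exact inf_le_right
    · refine inf_le_left.trans ?_
      rw [← commutator_eq_bot_iff_le_centralizer]
      exact components_commute hL hK (Ne.symm h)

end Cfsg.Agent.Helper7

namespace Cfsg.Agent.Helper7

open Subgroup Cfsg
open scoped commutatorElement

universe u

theorem commutatorElement_mul_mul_of_commute {G : Type*} [Group G] {a₁ a₂ b₁ b₂ : G}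
    (h11 : Commute a₁ b₁) (h12 : Commute a₁ b₂) (h21 : Commute a₂ b₁) (h22 : Commute a₂ b₂) :
    ⁅a₁ * b₁, a₂ * b₂⁆ = ⁅a₁, a₂⁆ * ⁅b₁, b₂⁆ := by
  rw [commutatorElement_def, commutatorElement_def, commutatorElement_def]
  have e1 : (a₁ * b₁)⁻¹ = a₁⁻¹ * b₁⁻¹ := by
    rw [mul_inv_rev]; exact (h11.inv_inv).symm.eq
  have e2 : (a₂ * b₂)⁻¹ = a₂⁻¹ * b₂⁻¹ := by
    rw [mul_inv_rev]; exact (h22.inv_inv).symm.eq
  rw [e1, e2]
  have s1 : a₁ * b₁ * (a₂ * b₂) = a₁ * a₂ * (b₁ * b₂) :=
    Commute.mul_mul_mul_comm h21.symm a₁ b₂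
  have s2 : a₁ * a₂ * (b₁ * b₂) * (a₁⁻¹ * b₁⁻¹) = a₁ * a₂ * a₁⁻¹ * (b₁ * b₂ * b₁⁻¹) := by
    have c : Commute (b₁ * b₂) a₁⁻¹ := ((h11.symm.mul_left h12.symm)).inv_right
    calc a₁ * a₂ * (b₁ * b₂) * (a₁⁻¹ * b₁⁻¹) = a₁ * a₂ * ((b₁ * b₂) * a₁⁻¹) * b₁⁻¹ := by group
      _ = a₁ * a₂ * (a₁⁻¹ * (b₁ * b₂)) * b₁⁻¹ := by rw [c.eq]
      _ = a₁ * a₂ * a₁⁻¹ * (b₁ * b₂ * b₁⁻¹) := by group
  have s3 : a₁ * a₂ * a₁⁻¹ * (b₁ * b₂ * b₁⁻¹) * (a₂⁻¹ * b₂⁻¹) =
      a₁ * a₂ * a₁⁻¹ * a₂⁻¹ * (b₁ * b₂ * b₁⁻¹ * b₂⁻¹) := by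
    have c : Commute (b₁ * b₂ * b₁⁻¹) a₂⁻¹ :=
      (((h21.symm.mul_left h22.symm).mul_left h21.symm.inv_left)).inv_right
    calc a₁ * a₂ * a₁⁻¹ * (b₁ * b₂ * b₁⁻¹) * (a₂⁻¹ * b₂⁻¹)
        = a₁ * a₂ * a₁⁻¹ * ((b₁ * b₂ * b₁⁻¹) * a₂⁻¹) * b₂⁻¹ := by group
      _ = a₁ * a₂ * a₁⁻¹ * (a₂⁻¹ * (b₁ * b₂ * b₁⁻¹)) * b₂⁻¹ := by rw [c.eq]
      _ = a₁ * a₂ * a₁⁻¹ * a₂⁻¹ * (b₁ * b₂ * b₁⁻¹ * b₂⁻¹) := by group
  rw [s1, s2, s3]

theorem commutator_sup_sup_le {G : Type*} [Group G] {A B : Subgroup G} (h : ⁅A, B⁆ = ⊥) :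
    ⁅A ⊔ B, A ⊔ B⁆ ≤ ⁅A, A⁆ ⊔ ⁅B, B⁆ := by
  have hc := commutator_eq_bot_iff_forall_commute.1 h
  rw [commutator_le]
  intro g₁ h₁ g₂ h₂
  obtain ⟨a₁, ha₁, b₁, hb₁, rfl⟩ := (mem_sup_of_commutator_eq_bot h).1 h₁
  obtain ⟨a₂, ha₂, b₂, hb₂, rfl⟩ := (mem_sup_of_commutator_eq_bot h).1 h₂
  rw [commutatorElement_mul_mul_of_commute (hc a₁ ha₁ b₁ hb₁) (hc a₁ ha₁ b₂ hb₂)
    (hc a₂ ha₂ b₁ hb₁) (hc a₂ ha₂ b₂ hb₂)]
  exact mul_mem (mem_sup_left (commutator_mem_commutator ha₁ ha₂))
    (mem_sup_right (commutator_mem_commutator hb₁ hb₂))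

/-- The layer is perfect. -/
theorem layer_commutator_eq {G : Type*} [Group G] : ⁅layer G, layer G⁆ = layer G := by
  apply le_antisymm (commutator_le_self _)
  rw [layer_le_iff]
  intro L hL
  calc L = ⁅L, L⁆ := (IsComponent.commutator_eq hL).symm
    _ ≤ ⁅layer G, layer G⁆ := commutator_mono (IsComponent.le_layer hL) (IsComponent.le_layer hL)

end Cfsg.Agent.Helper7
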