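import Mathlib
import Cfsg.Prelude.Def_Local
import Cfsg.Agent.Helper7.Layer

set_option autoImplicit false
set_option linter.style.haveILetI false

namespace Cfsg.Agent.Helper7

open Subgroup Cfsg

universe u

instance generalizedFittingSubgroup_characteristic (G : Type*) [Group G] :
    (generalizedFittingSubgroup G).Characteristic := by
  unfold generalizedFittingSubgroup
  infer_instance

instance generalizedFittingSubgroup_normal (G : Type*) [Group G] :
    (generalizedFittingSubgroup G).Normal := inferInstance

theorem layer_le_generalizedFitting (G : Type*) [Group G] :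
    layer G ≤ generalizedFittingSubgroup G := le_sup_left

theorem fitting_le_generalizedFitting (G : Type*) [Group G] :
    fittingSubgroup G ≤ generalizedFittingSubgroup G := le_sup_right

variable {G : Type u} [Group G] [Finite G]

/-- S1265: the generalized Fitting subgroup contains its centralizer. -/
theorem centralizer_generalizedFitting_le :
    centralizer (generalizedFittingSubgroup G : Set G) ≤ generalizedFittingSubgroup G := by
  set Fs := generalizedFittingSubgroup G with hFs
  set C := centralizer (Fs : Set G) with hC
  by_contra hcon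
  have hCn : C.Normal := inferInstance
  -- the set of subnormal subgroups of `C` not inside `Fs`
  let 𝒮 : Set (Subgroup G) := {S | S.IsSubnormal ∧ S ≤ C ∧ ¬ S ≤ Fs}
  have hne : 𝒮.Nonempty := ⟨C, hCn.isSubnormal, le_rfl, hcon⟩
  obtain ⟨S, hS𝒮, hmin⟩ := (wellFounded_lt (α := Subgroup G)).has_min 𝒮 hne
  obtain ⟨hSsn, hSC, hSF⟩ := hS𝒮
  -- elements of `Fs ⊓ C` are centralised by `C`
  have hcent : ∀ N : Subgroup G, N ≤ S → (N.subgroupOf S).Normal → N ≠ S →
      N ≤ centralizer (S : Set G) := by
    intro N hNS hNn hNne
    have hNsn : N.IsSubnormal := IsSubnormal.step N S hNS hSsn hNn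
    have hNF : N ≤ Fs := by
      by_contra h
      exact hmin N ⟨hNsn, hNS.trans hSC, h⟩ (lt_of_le_of_ne hNS hNne)
    intro n hn
    rw [mem_centralizer_iff]
    intro s hs
    have := (mem_centralizer_iff.1 (hSC hs)) n (hNF hn)
    exact this.symm
  haveI : Nontrivial S := by
    rw [nontrivial_iff_ne_bot]
    rintro rfl
    exact hSF bot_le
  by_cases hperf : ⁅S, S⁆ = S
  · -- S is quasisimple, hence a component
    apply hSF
    have hq : IsQuasisimple S := by
      apply isQuasisimple_of_normal_le_center (Subgroup.isPerfect_iff.2 hperf)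
      intro N hN
      by_cases hNtop : N = ⊤
      · exact Or.inl hNtop
      · right
        have h1 : N.map S.subtype ≤ S := map_subtype_le N
        have h2 : ((N.map S.subtype).subgroupOf S).Normal := by
          rw [← comap_subtype, comap_map_eq_self_of_injective (subtype_injective S)]
          exact hN
        have h3 : N.map S.subtype ≠ S := by
          intro h
          apply hNtop
          apply map_injective (subtype_injective S)
          rw [h, ← MonoidHom.range_eq_map, range_subtype]
        have h4 := hcent _ h1 h2 h3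
        intro n hn
        rw [mem_center_iff]
        intro g
        apply Subtype.ext
        exact (mem_centralizer_iff.1 (h4 ⟨n, hn, rfl⟩)) g g.2
    exact (IsComponent.le_layer ⟨hSsn, hq⟩).trans (layer_le_generalizedFitting G)
  · -- S is nilpotent of class at most two, hence inside F(G)
    apply hSF
    have h1 : ⁅S, S⁆ ≤ centralizer (S : Set G) :=
      hcent _ (commutator_le_self S)
        ((normal_subgroupOf_iff_le_normalizer (commutator_le_self S)).2
          (normalizer_commutator_ge_left S S)) hperf
    have hnil : Group.IsNilpotent S := by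
      apply isNilpotent_of_commutator_le_center
      intro x hx
      rw [mem_center_iff]
      intro g
      apply Subtype.ext
      have hx' : (x : G) ∈ ⁅S, S⁆ := by
        have : (commutator S).map S.subtype = ⁅S, S⁆ := map_subtype_commutator S
        rw [← this]
        exact ⟨x, hx, rfl⟩
      exact (mem_centralizer_iff.1 (h1 hx')) g g.2
    exact (subnormal_nilpotent_le_fittingSubgroup hSsn hnil).trans
      (fitting_le_generalizedFitting G)

/-- S1325. -/
theorem generalizedFitting_le_of_centralizer_le {Y : Subgroup G} [hY : Y.Normal]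
    (hF : fittingSubgroup G ≤ Y) (hC : centralizer (Y : Set G) ≤ Y) :
    generalizedFittingSubgroup G ≤ Y := by
  unfold generalizedFittingSubgroup
  refine sup_le ?_ hF
  rw [layer_le_iff]
  intro L hL
  rcases component_le_or_commutator_eq_bot hL hY.isSubnormal with h | h
  · exact h
  · rw [commutator_eq_bot_iff_le_centralizer] at h
    exact h.trans hC

/-- S1326. -/
theorem centralizer_fitting_le_iff_layer_eq_bot :
    centralizer (fittingSubgroup G : Set G) ≤ fittingSubgroup G ↔ layer G = ⊥ := by
  constructor
  · intro h
    rw [eq_bot_iff, layer_le_iff]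
    intro L hL
    exfalso
    have h1 : L ≤ centralizer (fittingSubgroup G : Set G) := by
      rw [← commutator_eq_bot_iff_le_centralizer]
      exact component_commutator_fitting hL
    apply IsQuasisimple.not_isMulCommutative hL.2
    refine ⟨⟨fun a b => ?_⟩⟩
    apply Subtype.ext
    have ha := h1 a.2
    have hb := h (h1 b.2)
    exact ((mem_centralizer_iff.1 ha) b hb).symm
  · intro h
    have : generalizedFittingSubgroup G = fittingSubgroup G := by
      unfold generalizedFittingSubgroup
      rw [h, bot_sup_eq]
    have h2 := centralizer_generalizedFitting_le (G := G)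
    rwa [this] at h2

end Cfsg.Agent.Helper7

namespace Cfsg.Agent.Helper7

open Subgroup Cfsg

universe u

theorem isNilpotent_of_commutator_le_centralizer {G : Type*} [Group G] {S : Subgroup G}
    (h : ⁅S, S⁆ ≤ centralizer (S : Set G)) : Group.IsNilpotent S := by
  apply isNilpotent_of_commutator_le_center
  intro x hx
  rw [mem_center_iff]
  intro g
  apply Subtype.ext
  have hx' : (x : G) ∈ ⁅S, S⁆ := by
    have : (commutator S).map S.subtype = ⁅S, S⁆ := map_subtype_commutator S
    rw [← this]
    exact ⟨x, hx, rfl⟩
  exact (mem_centralizer_iff.1 (h hx')) g g.2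

/-- The derived series of a subgroup, computed inside the ambient group. -/
def derivedIn {G : Type*} [Group G] (N : Subgroup G) : ℕ → Subgroup G
  | 0 => N
  | n + 1 => ⁅derivedIn N n, derivedIn N n⁆

theorem map_subtype_derivedSeries {G : Type*} [Group G] (N : Subgroup G) (n : ℕ) :
    (derivedSeries N n).map N.subtype = derivedIn N n := by
  induction n with
  | zero => simp [derivedIn, ← MonoidHom.range_eq_map]
  | succ n ih => rw [derivedSeries_succ, map_commutator, ih]; rfl

theorem derivedIn_le {G : Type*} [Group G] (N : Subgroup G) (n : ℕ) : derivedIn N n ≤ N := by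
  rw [← map_subtype_derivedSeries]; exact map_subtype_le _

theorem derivedIn_eq_bot_of_isSolvable {G : Type*} [Group G] (N : Subgroup G)
    [h : Group.IsSolvable N] : ∃ n, derivedIn N n = ⊥ := by
  obtain ⟨n, hn⟩ := h.solvable
  exact ⟨n, by rw [← map_subtype_derivedSeries, hn, Subgroup.map_bot]⟩

theorem derivedIn_isSubnormal {G : Type*} [Group G] {N : Subgroup G} (hN : N.IsSubnormal)
    (n : ℕ) : (derivedIn N n).IsSubnormal := by
  induction n with
  | zero => exact hN
  | succ n ih =>
    exact IsSubnormal.step _ _ (commutator_le_self _) ih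
      ((normal_subgroupOf_iff_le_normalizer (commutator_le_self _)).2
        (normalizer_commutator_ge_left _ _))

/-- A solvable subnormal subgroup centralising `F(G)` lies in `F(G)`. -/
theorem solvable_subnormal_le_fitting_of_le_centralizer {G : Type u} [Group G] [Finite G]
    {N : Subgroup G} (hN : N.IsSubnormal) (hsolv : Group.IsSolvable N)
    (hC : N ≤ centralizer (fittingSubgroup G : Set G)) : N ≤ fittingSubgroup G := by
  obtain ⟨n, hn⟩ := derivedIn_eq_bot_of_isSolvable N
  have key : ∀ j, j ≤ n → derivedIn N (n - j) ≤ fittingSubgroup G := by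
    intro j
    induction j with
    | zero => intro _; rw [Nat.sub_zero, hn]; exact bot_le
    | succ j ih =>
      intro hj
      have h1 := ih (Nat.le_of_succ_le hj)
      have e : n - j = (n - (j + 1)) + 1 := by omega
      rw [e] at h1
      set D := derivedIn N (n - (j + 1)) with hD
      have h2 : ⁅D, D⁆ ≤ centralizer (D : Set G) := by
        rw [le_centralizer_iff]
        exact ((derivedIn_le N _).trans hC).trans (centralizer_le h1)
      exact subnormal_nilpotent_le_fittingSubgroup (derivedIn_isSubnormal hN _)
        (isNilpotent_of_commutator_le_centralizer h2)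
  have := key n le_rfl
  rwa [Nat.sub_self] at this

/-- S1264. -/
theorem le_center_fitting_of_solvable {G : Type u} [Group G] [Finite G] {N : Subgroup G}
    (hN : N ≤ centralizer (fittingSubgroup G : Set G))
    (hnorm : centralizer (fittingSubgroup G : Set G) ≤ normalizer (N : Set G))
    (hsolv : Group.IsSolvable N) :
    N ≤ (center (fittingSubgroup G)).map (fittingSubgroup G).subtype := by
  rw [map_subtype_center]
  refine le_inf ?_ hN
  apply solvable_subnormal_le_fitting_of_le_centralizer _ hsolv hN
  have hCn : (centralizer (fittingSubgroup G : Set G)).Normal := inferInstance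
  exact IsSubnormal.step _ _ hN hCn.isSubnormal
    ((normal_subgroupOf_iff_le_normalizer hN).2 hnorm)

end Cfsg.Agent.Helper7

namespace Cfsg.Agent.Helper7

open Subgroup Cfsg

universe u

/-- The layer of a subnormal subgroup lies in the layer. -/
theorem map_subtype_layer_le {G : Type*} [Group G] {A : Subgroup G} (hA : A.IsSubnormal) :
    (layer A).map A.subtype ≤ layer G := by
  unfold layer
  rw [map_le_iff_le_comap]
  apply sSup_le
  intro K hK
  rw [← map_le_iff_le_comap]
  exact le_sSup (isComponent_map_subtype hA hK)

/-- Every component normalises every subnormal subgroup. -/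
theorem layer_le_normalizer_of_isSubnormal {G : Type u} [Group G] [Finite G] {A : Subgroup G}
    (hA : A.IsSubnormal) : layer G ≤ normalizer (A : Set G) := by
  rw [layer_le_iff]
  intro L hL
  rcases component_le_or_commutator_eq_bot hL hA with h | h
  · exact h.trans le_normalizer
  · rw [commutator_eq_bot_iff_le_centralizer] at h
    exact h.trans (centralizer_le_normalizer _)

/-- S1319. -/
theorem le_layer_of_layer_eq_top {G : Type u} [Group G] [Finite G] {A : Subgroup G}
    (hsn : A.IsSubnormal) (hA : layer A = ⊤) :
    A ≤ layer G ∧ (A.subgroupOf (layer G)).Normal := by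
  have h1 : A ≤ layer G := by
    have := map_subtype_layer_le hsn
    rwa [hA, ← MonoidHom.range_eq_map, range_subtype] at this
  exact ⟨h1, (normal_subgroupOf_iff_le_normalizer h1).2 (layer_le_normalizer_of_isSubnormal hsn)⟩

end Cfsg.Agent.Helper7

namespace Cfsg.Agent.Helper7

open Subgroup Cfsg

universe u

theorem derivedIn_mono {G : Type*} [Group G] {A B : Subgroup G} (h : A ≤ B) (n : ℕ) :
    derivedIn A n ≤ derivedIn B n := by
  induction n with
  | zero => exact h
  | succ n ih => exact commutator_mono ih ih

theorem derivedIn_of_perfect {G : Type*} [Group G] {A : Subgroup G} (h : ⁅A, A⁆ = A) (n : ℕ) :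
    derivedIn A n = A := by
  induction n with
  | zero => rfl
  | succ n ih => show ⁅derivedIn A n, derivedIn A n⁆ = A; rw [ih, h]

theorem derivedIn_sup_le {G : Type*} [Group G] {A B : Subgroup G} (h : ⁅A, B⁆ = ⊥) (n : ℕ) :
    derivedIn (A ⊔ B) n ≤ A ⊔ derivedIn B n := by
  induction n with
  | zero => exact le_rfl
  | succ n ih =>
    have h1 : ⁅A, derivedIn B n⁆ = ⊥ := by
      rw [eq_bot_iff, ← h]
      exact commutator_mono le_rfl (derivedIn_le B n)
    calc derivedIn (A ⊔ B) (n + 1) = ⁅derivedIn (A ⊔ B) n, derivedIn (A ⊔ B) n⁆ := rfl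
      _ ≤ ⁅A ⊔ derivedIn B n, A ⊔ derivedIn B n⁆ := commutator_mono ih ih
      _ ≤ ⁅A, A⁆ ⊔ ⁅derivedIn B n, derivedIn B n⁆ := commutator_sup_sup_le h1
      _ ≤ A ⊔ derivedIn B (n + 1) := sup_le_sup_right (commutator_le_self A) _

/-- S1316: the layer is the last term of the derived series of `F*`. -/
theorem iInf_derivedSeries_generalizedFitting {G : Type u} [Group G] [Finite G] :
    (⨅ n : ℕ, (derivedSeries (generalizedFittingSubgroup G) n).map
      (generalizedFittingSubgroup G).subtype) = layer G := by
  simp_rw [map_subtype_derivedSeries]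
  apply le_antisymm
  · haveI : Group.IsNilpotent (fittingSubgroup G) := fittingSubgroup_isNilpotent
    obtain ⟨n, hn⟩ := derivedIn_eq_bot_of_isSolvable (fittingSubgroup G)
    refine (iInf_le _ n).trans ?_
    have := derivedIn_sup_le (layer_commutator_fitting (G := G)) n
    rw [hn, sup_bot_eq] at this
    exact this
  · apply le_iInf
    intro n
    calc layer G = derivedIn (layer G) n := (derivedIn_of_perfect layer_commutator_eq n).symm
      _ ≤ derivedIn (generalizedFittingSubgroup G) n :=
        derivedIn_mono (layer_le_generalizedFitting G) n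

end Cfsg.Agent.Helper7

namespace Cfsg.Agent.Helper7

open Subgroup Cfsg

universe u

/-- The Fitting subgroup of a subnormal subgroup lies in the Fitting subgroup. -/
theorem map_subtype_fitting_le {G : Type u} [Group G] [Finite G] {S : Subgroup G}
    (hS : S.IsSubnormal) : (fittingSubgroup S).map S.subtype ≤ fittingSubgroup G := by
  unfold fittingSubgroup
  rw [map_le_iff_le_comap]
  apply sSup_le
  rintro N ⟨hN, hnil⟩
  rw [← map_le_iff_le_comap]
  apply subnormal_nilpotent_le_fittingSubgroup (hN.isSubnormal.trans' hS)
  exact (Group.isNilpotent_congr (N.equivMapOfInjective _ (subtype_injective S))).1 hnil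

/-- `F(S) = F(G) ⊓ S` for a subnormal subgroup `S`. -/
theorem map_subtype_fitting_eq {G : Type u} [Group G] [Finite G] {S : Subgroup G}
    (hS : S.IsSubnormal) : (fittingSubgroup S).map S.subtype = fittingSubgroup G ⊓ S := by
  apply le_antisymm
  · exact le_inf (map_subtype_fitting_le hS) (map_subtype_le _)
  · have hn : ((fittingSubgroup G).subgroupOf S).Normal := inferInstance
    have hnil : Group.IsNilpotent ((fittingSubgroup G).subgroupOf S) := by
      haveI : Group.IsNilpotent (fittingSubgroup G) := fittingSubgroup_isNilpotent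
      have e : (fittingSubgroup G).subgroupOf S ≃* ((fittingSubgroup G ⊓ S : Subgroup G)) := by
        have := ((fittingSubgroup G).subgroupOf S).equivMapOfInjective _ (subtype_injective S)
        rwa [subgroupOf_map_subtype] at this
      have h1 : Group.IsNilpotent ((fittingSubgroup G ⊓ S : Subgroup G)) := by
        have e2 : ((fittingSubgroup G ⊓ S : Subgroup G)) ≃*
            ((fittingSubgroup G ⊓ S).subgroupOf (fittingSubgroup G)) :=
          (subgroupOfEquivOfLe inf_le_left).symm
        exact (Group.isNilpotent_congr e2).2 inferInstance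
      exact (Group.isNilpotent_congr e).2 h1
    have := le_fittingSubgroup hn hnil
    calc fittingSubgroup G ⊓ S = ((fittingSubgroup G).subgroupOf S).map S.subtype :=
          (subgroupOf_map_subtype _ _).symm
      _ ≤ _ := map_mono this

/-- S1318. -/
theorem subnormal_of_generalizedFitting_factorization {G : Type u} [Group G] [Finite G]
    {S : Subgroup G} (hSle : S ≤ generalizedFittingSubgroup G)
    (hsn : (S.subgroupOf (generalizedFittingSubgroup G)).IsSubnormal) :
    (fittingSubgroup S).map S.subtype = fittingSubgroup G ⊓ S ∧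
      fittingSubgroup S ⊔ layer S = ⊤ := by
  have hS : S.IsSubnormal :=
    IsSubnormal.trans hSle hsn (generalizedFittingSubgroup_normal G).isSubnormal
  refine ⟨map_subtype_fitting_eq hS, ?_⟩
  apply map_injective (subtype_injective S)
  rw [Subgroup.map_sup, map_subtype_fitting_eq hS, ← MonoidHom.range_eq_map S.subtype,
    range_subtype]
  set E₁ := (layer S).map S.subtype with hE₁
  have hE₁S : E₁ ≤ S := map_subtype_le _
  apply le_antisymm (sup_le inf_le_right hE₁S)
  -- the key decomposition of the layer
  set E₂ := layer G ⊓ centralizer (S : Set G) with hE₂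
  have hEle : layer G ≤ E₁ ⊔ E₂ := by
    rw [layer_le_iff]
    intro L hL
    rcases component_le_or_commutator_eq_bot hL hS with h | h
    · refine le_trans ?_ le_sup_left
      have h1 : L.subgroupOf S ≤ layer S := IsComponent.le_layer (isComponent_subgroupOf hL h)
      calc L = (L.subgroupOf S).map S.subtype := (map_subgroupOf_eq_of_le h).symm
        _ ≤ E₁ := map_mono h1
    · refine le_trans ?_ le_sup_right
      rw [commutator_eq_bot_iff_le_centralizer] at h
      exact le_inf (IsComponent.le_layer hL) h
  have h12 : ⁅E₁, E₂⁆ = ⊥ := by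
    rw [commutator_comm, commutator_eq_bot_iff_le_centralizer]
    exact inf_le_right.trans (centralizer_le hE₁S)
  have hEF := commutator_eq_bot_iff_forall_commute.1 (layer_commutator_fitting (G := G))
  intro s hs
  have hs' : s ∈ layer G ⊔ fittingSubgroup G := hSle hs
  obtain ⟨e, he, f, hf, rfl⟩ := mem_sup_of_normal_right.1 hs'
  obtain ⟨e₁, he₁, e₂, he₂, rfl⟩ := (mem_sup_of_commutator_eq_bot h12).1 (hEle he)
  obtain ⟨he₂E, he₂C⟩ := mem_inf.1 he₂
  -- d = e₂ * f lies in S
  have hd : e₂ * f ∈ S := by
    have : e₂ * f = e₁⁻¹ * (e₁ * e₂ * f) := by group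
    rw [this]
    exact S.mul_mem (S.inv_mem (hE₁S he₁)) hs
  -- e₂ centralises the layer
  have he₂Z : e₂ ∈ centralizer (layer G : Set G) := by
    rw [mem_centralizer_iff]
    intro x hx
    obtain ⟨x₁, hx₁, x₂, hx₂, rfl⟩ := (mem_sup_of_commutator_eq_bot h12).1 (hEle hx)
    have c1 : x₁ * e₂ = e₂ * x₁ := (mem_centralizer_iff.1 he₂C) x₁ (hE₁S hx₁)
    obtain ⟨hx₂E, hx₂C⟩ := mem_inf.1 hx₂
    have c2 : (e₂ * f) * x₂ = x₂ * (e₂ * f) := ((mem_centralizer_iff.1 hx₂C) _ hd)
    have c3 : x₂ * f = f * x₂ := hEF x₂ hx₂E f hf
    have c4 : x₂ * e₂ = e₂ * x₂ := by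
      have : e₂ * x₂ * f = x₂ * e₂ * f := by
        calc e₂ * x₂ * f = e₂ * (x₂ * f) := by group
          _ = e₂ * (f * x₂) := by rw [c3]
          _ = (e₂ * f) * x₂ := by group
          _ = x₂ * (e₂ * f) := c2
          _ = x₂ * e₂ * f := by group
      exact (mul_right_cancel this).symm
    calc x₁ * x₂ * e₂ = x₁ * (x₂ * e₂) := by group
      _ = x₁ * (e₂ * x₂) := by rw [c4]
      _ = (x₁ * e₂) * x₂ := by group
      _ = (e₂ * x₁) * x₂ := by rw [c1]
      _ = e₂ * (x₁ * x₂) := by group
  have he₂F : e₂ ∈ fittingSubgroup G := by
    apply map_subtype_center_layer_le_fitting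
    rw [map_subtype_center]
    exact mem_inf.2 ⟨he₂E, he₂Z⟩
  have hdF : e₂ * f ∈ fittingSubgroup G ⊓ S :=
    mem_inf.2 ⟨mul_mem he₂F hf, hd⟩
  have : e₁ * e₂ * f = e₁ * (e₂ * f) := by group
  rw [this]
  exact mul_mem (mem_sup_right he₁) (mem_sup_left hdF)

end Cfsg.Agent.Helper7
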