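import Mathlib
import Cfsg.Prelude.Def_Local
import Cfsg.Agent.Helper7.FStar

set_option autoImplicit false
set_option linter.style.haveILetI false
set_option linter.unusedSectionVars false

namespace Cfsg.Agent.Helper7

open Subgroup Cfsg

universe u

theorem generalizedFittingSubgroup_map_equiv {G H : Type*} [Group G] [Group H] (e : G ≃* H) :
    (generalizedFittingSubgroup G).map e.toMonoidHom = generalizedFittingSubgroup H := by
  unfold generalizedFittingSubgroup
  rw [Subgroup.map_sup, layer_map_equiv, fittingSubgroup_map_equiv]

/-- `F*(S) ≤ F*(G)` for subnormal `S`. -/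
theorem map_subtype_generalizedFitting_le {G : Type u} [Group G] [Finite G] {S : Subgroup G}
    (hS : S.IsSubnormal) :
    (generalizedFittingSubgroup S).map S.subtype ≤ generalizedFittingSubgroup G := by
  unfold generalizedFittingSubgroup
  rw [Subgroup.map_sup]
  exact sup_le_sup (map_subtype_layer_le hS) (map_subtype_fitting_le hS)

/-- Relative version: `H ≤ B ≤ A`, `H` subnormal in `B`: `F*(H) ≤ F*(B)` inside `A`. -/
theorem map_subtype_generalizedFitting_le_of_le {A : Type u} [Group A] [Finite A]
    {H B : Subgroup A} (hHB : H ≤ B) (hsn : (H.subgroupOf B).IsSubnormal) :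
    (generalizedFittingSubgroup H).map H.subtype ≤
      (generalizedFittingSubgroup B).map B.subtype := by
  have h1 := map_subtype_generalizedFitting_le hsn
  have h2 := generalizedFittingSubgroup_map_equiv (subgroupOfEquivOfLe hHB)
  rw [← h2, Subgroup.map_map]
  have h3 : H.subtype.comp (subgroupOfEquivOfLe hHB).toMonoidHom =
      B.subtype.comp (H.subgroupOf B).subtype := by
    ext x
    rfl
  rw [h3, ← Subgroup.map_map]
  exact map_mono h1

/-- S1320: for `B ⊴ A`, `F*(A) ⊓ B = F*(B)`. -/
theorem generalizedFitting_inf_normal {A : Type u} [Group A] [Finite A] (B : Subgroup A)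
    [hB : B.Normal] :
    generalizedFittingSubgroup A ⊓ B = (generalizedFittingSubgroup B).map B.subtype := by
  apply le_antisymm
  · set H := generalizedFittingSubgroup A ⊓ B with hH
    have hHn : H.Normal := inferInstance
    have hle : H ≤ generalizedFittingSubgroup A := inf_le_left
    have hsn : (H.subgroupOf (generalizedFittingSubgroup A)).IsSubnormal :=
      (inferInstance : (H.subgroupOf (generalizedFittingSubgroup A)).Normal).isSubnormal
    have h1 := (subnormal_of_generalizedFitting_factorization hle hsn).2
    have h2 : generalizedFittingSubgroup H = ⊤ := by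
      unfold generalizedFittingSubgroup
      rw [sup_comm]
      exact h1
    have h3 := map_subtype_generalizedFitting_le_of_le (inf_le_right : H ≤ B)
      (inferInstance : (H.subgroupOf B).Normal).isSubnormal
    rwa [h2, ← MonoidHom.range_eq_map, range_subtype] at h3
  · exact le_inf (map_subtype_generalizedFitting_le hB.isSubnormal) (map_subtype_le _)

end Cfsg.Agent.Helper7

namespace Cfsg.Agent.Helper7

open Subgroup Cfsg

universe u

open scoped commutatorElement in
theorem conj_commutator_mem_left {G : Type*} [Group G] {H K : Subgroup G} {h' : G}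
    (hh' : h' ∈ H) {x : G} (hx : x ∈ ⁅H, K⁆) : h' * x * h'⁻¹ ∈ ⁅H, K⁆ := by
  have : ⁅H, K⁆ ≤ (⁅H, K⁆).comap (MulAut.conj h').toMonoidHom := by
    rw [commutator_le]
    intro h hh k hk
    rw [mem_comap]
    have e : (MulAut.conj h').toMonoidHom ⁅h, k⁆ = ⁅h' * h, k⁆ * ⁅h', k⁆⁻¹ := by
      simp only [MulEquiv.toMonoidHom_eq_coe, MonoidHom.coe_coe, MulAut.conj_apply,
        commutatorElement_def]
      group
    rw [e]
    exact mul_mem (commutator_mem_commutator (H.mul_mem hh' hh) hk)
      (inv_mem (commutator_mem_commutator hh' hk))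
  have := this hx
  simpa [mem_comap] using this

/-- `H` normalises `⁅H, K⁆`. -/
theorem le_normalizer_commutator_left {G : Type*} [Group G] (H K : Subgroup G) :
    H ≤ normalizer ((⁅H, K⁆ : Subgroup G) : Set G) := by
  intro h' hh'
  rw [mem_normalizer_iff]
  intro x
  constructor
  · exact conj_commutator_mem_left hh'
  · intro hx
    have := conj_commutator_mem_left (H.inv_mem hh') hx
    simpa [mul_assoc] using this

/-- S1321. -/
theorem layer_eq_centralizer_sup_commutator {G : Type u} [Group G] [Finite G] (U : Subgroup G) :
    layer G = (layer G ⊓ centralizer (U : Set G)) ⊔ ⁅layer G, U⁆ ∧ ⁅layer G, U⁆ ≤ layer G := by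
  have hD : ⁅layer G, U⁆ ≤ layer G := commutator_le_left _ _
  refine ⟨?_, hD⟩
  apply le_antisymm _ (sup_le inf_le_left hD)
  have hDsn : (⁅layer G, U⁆).IsSubnormal := by
    refine IsSubnormal.trans hD ?_ (layer_normal G).isSubnormal
    have : (⁅layer G, U⁆.subgroupOf (layer G)).Normal :=
      (normal_subgroupOf_iff_le_normalizer hD).2 (le_normalizer_commutator_left _ _)
    exact this.isSubnormal
  rw [layer_le_iff]
  intro L hL
  rcases component_le_or_commutator_eq_bot hL hDsn with h | h
  · exact h.trans le_sup_right
  · refine le_trans ?_ le_sup_left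
    refine le_inf (IsComponent.le_layer hL) ?_
    rw [← commutator_eq_bot_iff_le_centralizer]
    apply commutator_eq_bot_of_perfect (IsComponent.commutator_eq hL)
    rw [eq_bot_iff]
    calc ⁅⁅U, L⁆, L⁆ ≤ ⁅⁅layer G, U⁆, L⁆ := by
          apply commutator_mono _ le_rfl
          rw [commutator_comm]
          exact commutator_mono (IsComponent.le_layer hL) le_rfl
      _ = ⊥ := by rw [commutator_comm]; exact h

end Cfsg.Agent.Helper7
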