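import Mathlib
import Cfsg.Prelude.Def_Local
import Cfsg.Agent.Helper7.FStar2
import Cfsg.Agent.Lead.ThompsonPQ

set_option autoImplicit false
set_option linter.style.haveILetI false
set_option linter.unusedSectionVars false

namespace Cfsg.Agent.Helper7

open Subgroup Cfsg

universe u

/-- In a finite group, `x ^ (p ^ k)` is a `p'`-element for `k` the `p`-adic valuation of the order. -/
theorem orderOf_pow_ordProj_coprime {L : Type*} [Group L] [Finite L] (p : ℕ) [hp : Fact p.Prime]
    (x : L) : (orderOf (x ^ p ^ (orderOf x).factorization p)).Coprime p := by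
  have hn : orderOf x ≠ 0 := (orderOf_pos x).ne'
  rw [orderOf_pow' x (pow_ne_zero _ hp.out.ne_zero),
    Nat.gcd_eq_right (Nat.ordProj_dvd (orderOf x) p)]
  exact (Nat.coprime_ordCompl hp.out hn).symm

/-- A normal subgroup of a finite perfect group containing all `p'`-elements is everything. -/
theorem eq_top_of_perfect_of_forall_coprime_mem {L : Type*} [Group L] [Finite L]
    [Group.IsPerfect L] (p : ℕ) [hp : Fact p.Prime] (K : Subgroup L) [K.Normal]
    (h : ∀ a : L, (orderOf a).Coprime p → a ∈ K) : K = ⊤ := by
  have hpg : IsPGroup p (L ⧸ K) := by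
    intro g
    obtain ⟨x, rfl⟩ := QuotientGroup.mk_surjective g
    refine ⟨(orderOf x).factorization p, ?_⟩
    rw [← QuotientGroup.mk_pow, QuotientGroup.eq_one_iff]
    exact h _ (orderOf_pow_ordProj_coprime p x)
  haveI : Group.IsNilpotent (L ⧸ K) := hpg.isNilpotent
  by_contra hne
  haveI : Nontrivial (L ⧸ K) := QuotientGroup.nontrivial_iff.2 hne
  exact Group.IsPerfect.not_isSolvable (G := L ⧸ K) inferInstance

/-- Subgroup version. -/
theorem le_of_perfect_of_forall_coprime_mem {G : Type*} [Group G] [Finite G] {L K : Subgroup G}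
    (hL : ⁅L, L⁆ = L) (p : ℕ) [Fact p.Prime] (hK : L ≤ normalizer (K : Set G))
    (h : ∀ a ∈ L, (orderOf a).Coprime p → a ∈ K) : L ≤ K := by
  haveI : Group.IsPerfect L := Subgroup.isPerfect_iff.2 hL
  haveI : (K.subgroupOf L).Normal := normal_subgroupOf_of_le_normalizer hK
  have := eq_top_of_perfect_of_forall_coprime_mem p (K.subgroupOf L) (fun a ha => by
    rw [mem_subgroupOf]
    exact h a a.2 (by rwa [Subgroup.orderOf_coe]))
  exact subgroupOf_eq_top.1 this

open Cfsg.Agent.Helper14 (pCore_isPGroup le_pCore pCore_characteristic)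

variable {G : Type u} [Group G] [Finite G]

/-- `E(G)` centralises `O_p(G)`. -/
theorem layer_le_centralizer_pCore (p : ℕ) [Fact p.Prime] :
    layer G ≤ centralizer (pCore p G : Set G) := by
  rw [← commutator_eq_bot_iff_le_centralizer, eq_bot_iff]
  calc ⁅layer G, pCore p G⁆ ≤ ⁅layer G, fittingSubgroup G⁆ :=
        commutator_mono le_rfl (pCore_le_fittingSubgroup p)
    _ = ⊥ := layer_commutator_fitting

/-- A component of `N` (any subgroup) centralises `O_p(G) ⊓ N`. -/
theorem component_commutator_pCore_inf (p : ℕ) [Fact p.Prime] {N : Subgroup G} {L : Subgroup N}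
    (hL : IsComponent L) : ⁅L.map N.subtype, pCore p G ⊓ N⁆ = ⊥ := by
  have h1 : (pCore p G).subgroupOf N ≤ pCore p N := by
    apply le_pCore
    · infer_instance
    · exact (pCore_isPGroup p).comap_subtype
  have h2 : ⁅L, (pCore p G).subgroupOf N⁆ = ⊥ := by
    rw [eq_bot_iff]
    calc ⁅L, (pCore p G).subgroupOf N⁆ ≤ ⁅L, fittingSubgroup N⁆ :=
          commutator_mono le_rfl (h1.trans (pCore_le_fittingSubgroup p))
      _ = ⊥ := component_commutator_fitting hL
  have := congrArg (Subgroup.map N.subtype) h2
  rwa [map_commutator, subgroupOf_map_subtype, Subgroup.map_bot] at this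

/-- Key step for S1267: a component of `N ≥ C_G(P)`, `P ≤ O_p(G) ⊓ N`, centralises `O_p(G)`. -/
theorem component_le_centralizer_pCore (p : ℕ) [Fact p.Prime] {P N : Subgroup G}
    (hP : P ≤ pCore p G) (hPN : P ≤ N) (hCN : centralizer (P : Set G) ≤ N)
    {L : Subgroup N} (hL : IsComponent L) :
    L.map N.subtype ≤ centralizer (pCore p G : Set G) := by
  set U := pCore p G with hU
  set L' := L.map N.subtype with hL'
  have hcomm : ⁅L', U ⊓ N⁆ = ⊥ := component_commutator_pCore_inf p hL
  have hcent : U ⊓ N ≤ centralizer (L' : Set G) := by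
    rwa [commutator_comm, commutator_eq_bot_iff_le_centralizer] at hcomm
  have hperf : ⁅L', L'⁆ = L' := by
    rw [hL', ← map_commutator, IsComponent.commutator_eq hL]
  have hUp : IsPGroup p U := pCore_isPGroup p
  have hPp : IsPGroup p P := hUp.to_le hP
  apply le_of_perfect_of_forall_coprime_mem hperf p
  · rw [normalizer_eq_top]; exact le_top
  · intro a ha hcop
    have hAle : zpowers a ≤ L' := by rwa [zpowers_le]
    have hcentA : centralizer (L' : Set G) ≤ centralizer (zpowers a : Set G) :=
      centralizer_le hAle
    have := Cfsg.Agent.Lead.thompson_PQ p P (zpowers a) U hPp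
      (by rwa [Nat.card_zpowers]) hUp
      ((le_inf hP hPN).trans (hcent.trans hcentA))
      (by rw [normalizer_eq_top]; exact le_top) (by rw [normalizer_eq_top]; exact le_top)
      ((inf_le_inf_left U hCN).trans (hcent.trans hcentA))
    exact this (mem_zpowers a)

/-- S1267: `E(N_G(P)) = E(G)` for `P ≤ O_p(G)`. -/
theorem layer_normalizer_eq_of_le_pCore (p : ℕ) [Fact p.Prime] {P : Subgroup G}
    (hP : P ≤ pCore p G) :
    (layer (normalizer (P : Set G))).map (normalizer (P : Set G)).subtype = layer G := by
  have hCN : centralizer (pCore p G : Set G) ≤ normalizer (P : Set G) :=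
    (centralizer_le hP).trans (centralizer_le_normalizer _)
  apply le_antisymm
  · rw [map_le_iff_le_comap, layer_le_iff]
    intro L hL
    rw [← map_le_iff_le_comap]
    apply IsComponent.le_layer
    refine ⟨?_, isQuasisimple_of_mulEquiv
      (L.equivMapOfInjective _ (subtype_injective (normalizer (P : Set G)))) hL.2⟩
    have hle := component_le_centralizer_pCore p hP le_normalizer
      (centralizer_le_normalizer _) hL
    refine IsSubnormal.trans hle ?_
      (normal_centralizer (H := pCore p G)).isSubnormal
    have e : (L.map (normalizer (P : Set G)).subtype).subgroupOf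
        (centralizer (pCore p G : Set G)) = L.comap (inclusion hCN) := by
      ext x
      simp only [mem_subgroupOf, mem_comap, mem_map]
      constructor
      · rintro ⟨y, hy, hyx⟩
        have : y = inclusion hCN x := Subtype.ext hyx
        rwa [← this]
      · intro hx
        exact ⟨_, hx, rfl⟩
    rw [e]
    exact hL.1.comap _
  · rw [layer_le_iff]
    intro K hK
    have hKN : K ≤ normalizer (P : Set G) :=
      ((IsComponent.le_layer hK).trans (layer_le_centralizer_pCore p)).trans hCN
    have h1 : K.subgroupOf (normalizer (P : Set G)) ≤ layer (normalizer (P : Set G)) :=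
      IsComponent.le_layer (isComponent_subgroupOf hK hKN)
    calc K = (K.subgroupOf (normalizer (P : Set G))).map (normalizer (P : Set G)).subtype :=
          (map_subgroupOf_eq_of_le hKN).symm
      _ ≤ _ := map_mono h1

end Cfsg.Agent.Helper7
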