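import Mathlib
import Cfsg.Prelude.Def_Local
import Cfsg.Agent.Helper7.LocalLayer

set_option autoImplicit false
set_option linter.style.haveILetI false
set_option linter.unusedSectionVars false

namespace Cfsg.Agent.Helper7

open Subgroup Cfsg
open Cfsg.Agent.Helper14 (pCore_isPGroup le_pCore pCore_characteristic)

universe u

variable {G : Type u} [Group G] [Finite G]

/-- An element which is both a `p`-element and a `p'`-element is trivial. -/
theorem eq_one_of_mem_isPGroup_of_coprime {G : Type*} [Group G] {p : ℕ} [hp : Fact p.Prime]
    {U : Subgroup G} (hU : IsPGroup p U) {a : G} (ha : a ∈ U) (hcop : (orderOf a).Coprime p) :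
    a = 1 := by
  obtain ⟨k, hk⟩ := IsPGroup.iff_orderOf.1 hU (⟨a, ha⟩ : U)
  rw [Subgroup.orderOf_mk] at hk
  rw [hk] at hcop
  rcases Nat.eq_zero_or_pos k with h0 | hpos
  · rw [h0, pow_zero] at hk
    exact orderOf_eq_one_iff.1 hk
  · have := (Nat.coprime_pow_left_iff hpos p p).1 hcop
    exact absurd ((Nat.coprime_self p).1 this) hp.out.ne_one

/-- Key lemma for S1268: if `F*(G) = O_p(G)`, `P` a `p`-subgroup, `N = N_G(P)`, then a `p'`-element of `N`
centralising `O_p(N)` is trivial. -/
theorem eq_one_of_coprime_of_centralizes_pCore (p : ℕ) [Fact p.Prime]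
    (h : generalizedFittingSubgroup G = pCore p G) {P : Subgroup G} (hP : IsPGroup p P)
    (a : normalizer (P : Set G)) (hcop : (orderOf a).Coprime p)
    (hc : a ∈ centralizer (pCore p (normalizer (P : Set G)) : Set (normalizer (P : Set G)))) :
    a = 1 := by
  set U := pCore p G with hU
  have hUp : IsPGroup p U := pCore_isPGroup p
  have hUn : normalizer (U : Set G) = ⊤ := normalizer_eq_top U
  -- general principle: a normal `p`-subgroup of `N` commutes with `a`
  have key : ∀ V : Subgroup G, IsPGroup p V → V ≤ normalizer (P : Set G) →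
      normalizer (P : Set G) ≤ normalizer (V : Set G) →
      V ≤ centralizer (zpowers (a : G) : Set G) := by
    intro V hVp hVN hNV
    rw [le_centralizer_iff, zpowers_le, mem_centralizer_iff]
    intro x hx
    have hx' : (⟨x, hVN hx⟩ : normalizer (P : Set G)) ∈ pCore p (normalizer (P : Set G)) := by
      have : V.subgroupOf (normalizer (P : Set G)) ≤ pCore p (normalizer (P : Set G)) := by
        apply le_pCore
        · exact (normal_subgroupOf_iff_le_normalizer hVN).2 hNV
        · exact hVp.comap_subtype
      exact this (mem_subgroupOf.2 hx)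
    have hcomm := (mem_centralizer_iff.1 hc) _ hx'
    exact congrArg Subtype.val hcomm
  have h1 : U ⊓ normalizer (P : Set G) ≤ centralizer (zpowers (a : G) : Set G) := by
    apply key _ (hUp.to_le inf_le_left) inf_le_right
    intro n hn
    have h2 : n ∈ normalizer ((normalizer (P : Set G) : Subgroup G) : Set G) := le_normalizer hn
    have h3 : n ∈ normalizer (U : Set G) := by rw [hUn]; exact mem_top n
    exact (inf_normalizer_le_normalizer_inf) ⟨h3, h2⟩
  have h2 : P ≤ centralizer (zpowers (a : G) : Set G) := key P hP le_normalizer le_rfl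
  have h3 := Cfsg.Agent.Lead.thompson_PQ p P (zpowers (a : G)) U hP
    (by rw [Nat.card_zpowers, Subgroup.orderOf_coe]; exact hcop) hUp h2
    (by rw [hUn]; exact le_top) (by rw [hUn]; exact le_top)
    ((inf_le_inf_left U (centralizer_le_normalizer _)).trans h1)
  have h4 : centralizer (U : Set G) ≤ U := by
    have := centralizer_generalizedFitting_le (G := G)
    rwa [h] at this
  have h5 : (a : G) ∈ U := h4 (h3 (mem_zpowers _))
  have h6 : (a : G) = 1 :=
    eq_one_of_mem_isPGroup_of_coprime hUp h5 (by rw [Subgroup.orderOf_coe]; exact hcop)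
  exact Subtype.ext h6

/-- S1268. -/
theorem generalizedFitting_normalizer_eq_pCore (p : ℕ) [Fact p.Prime]
    (h : generalizedFittingSubgroup G = pCore p G) {P : Subgroup G} (hP : IsPGroup p P) :
    generalizedFittingSubgroup (normalizer (P : Set G)) = pCore p (normalizer (P : Set G)) := by
  apply le_antisymm
  · unfold generalizedFittingSubgroup
    apply sup_le
    · rw [layer_le_iff]
      intro L hL
      refine le_trans ?_ (bot_le : (⊥ : Subgroup (normalizer (P : Set G))) ≤ _)
      apply le_of_perfect_of_forall_coprime_mem (IsComponent.commutator_eq hL) p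
      · exact le_top.trans (normalizer_eq_top (⊥ : Subgroup (normalizer (P : Set G)))).ge
      · intro a ha hcop
        rw [mem_bot]
        apply eq_one_of_coprime_of_centralizes_pCore p h hP a hcop
        have h1 : ⁅L, pCore p (normalizer (P : Set G))⁆ = ⊥ := by
          rw [eq_bot_iff]
          calc ⁅L, pCore p (normalizer (P : Set G))⁆ ≤ ⁅L, fittingSubgroup _⁆ :=
                commutator_mono le_rfl (pCore_le_fittingSubgroup p)
            _ = ⊥ := component_commutator_fitting hL
        rw [commutator_eq_bot_iff_le_centralizer] at h1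
        exact h1 ha
    · rw [fittingSubgroup_eq_pCoreSup, pCoreSup_le_iff]
      intro q hq
      haveI : Fact q.Prime := ⟨hq⟩
      by_cases hqp : q = p
      · subst hqp; exact le_rfl
      · refine le_trans ?_ (bot_le : (⊥ : Subgroup (normalizer (P : Set G))) ≤ _)
        intro a ha
        rw [mem_bot]
        have hqg : IsPGroup q (pCore q (normalizer (P : Set G))) := pCore_isPGroup q
        obtain ⟨k, hk⟩ := IsPGroup.iff_orderOf.1 hqg ⟨a, ha⟩
        rw [Subgroup.orderOf_mk] at hk
        apply eq_one_of_coprime_of_centralizes_pCore p h hP a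
        · rw [hk]
          exact Nat.Coprime.pow_left _ ((Nat.coprime_primes hq (Fact.out)).2 hqp)
        · have h1 := pCore_commute_of_ne (G := normalizer (P : Set G)) hqp
          rw [commutator_eq_bot_iff_le_centralizer] at h1
          exact h1 ha
  · exact (pCore_le_fittingSubgroup p).trans (fitting_le_generalizedFitting _)

end Cfsg.Agent.Helper7
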