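import Mathlib
import Cfsg.Prelude.Def_Local
import Cfsg.Agent.Helper7.LocalFStar
import Cfsg.Agent.Helper19.Cores

set_option autoImplicit false
set_option linter.style.haveILetI false
set_option linter.unusedSectionVars false

namespace Cfsg.Agent.Helper7

open Subgroup Cfsg
open Cfsg.Agent.Helper14 (pCore_isPGroup le_pCore pCore_characteristic)
open Cfsg.Agent.Helper19 (pPrimeCore_coprime)

universe u

/-- A normal subgroup of a finite perfect group with `p`-group quotient is everything. -/
theorem eq_top_of_perfect_of_forall_pow_mem {L : Type*} [Group L] [Finite L]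
    [Group.IsPerfect L] (p : ℕ) [hp : Fact p.Prime] (K : Subgroup L) [K.Normal]
    (h : ∀ a : L, ∃ k : ℕ, a ^ p ^ k ∈ K) : K = ⊤ := by
  have hpg : IsPGroup p (L ⧸ K) := by
    intro g
    obtain ⟨x, rfl⟩ := QuotientGroup.mk_surjective g
    obtain ⟨k, hk⟩ := h x
    refine ⟨k, ?_⟩
    rw [← QuotientGroup.mk_pow, QuotientGroup.eq_one_iff]
    exact hk
  haveI : Group.IsNilpotent (L ⧸ K) := hpg.isNilpotent
  by_contra hne
  haveI : Nontrivial (L ⧸ K) := QuotientGroup.nontrivial_iff.2 hne
  exact Group.IsPerfect.not_isSolvable (G := L ⧸ K) inferInstance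

/-- Subgroup version. -/
theorem le_of_perfect_of_forall_pow_mem {G : Type*} [Group G] [Finite G] {L K : Subgroup G}
    (hL : ⁅L, L⁆ = L) (p : ℕ) [Fact p.Prime] (hK : L ≤ normalizer (K : Set G))
    (h : ∀ a ∈ L, ∃ k : ℕ, a ^ p ^ k ∈ K) : L ≤ K := by
  haveI : Group.IsPerfect L := Subgroup.isPerfect_iff.2 hL
  haveI : (K.subgroupOf L).Normal := normal_subgroupOf_of_le_normalizer hK
  have := eq_top_of_perfect_of_forall_pow_mem p (K.subgroupOf L) (fun a => by
    obtain ⟨k, hk⟩ := h a a.2
    exact ⟨k, by rw [mem_subgroupOf]; simpa using hk⟩)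
  exact subgroupOf_eq_top.1 this

variable {G : Type u} [Group G] [Finite G]

/-- The full preimage of `E(G/O_{p'}(G))`. -/
def pLayerPre (p : ℕ) (G : Type*) [Group G] : Subgroup G :=
  (layer (G ⧸ pPrimeCore p G)).comap (QuotientGroup.mk' (pPrimeCore p G))

instance pLayerPre_normal (p : ℕ) (G : Type*) [Group G] : (pLayerPre p G).Normal := by
  unfold pLayerPre
  infer_instance

theorem pPrimeCore_le_pLayerPre (p : ℕ) (G : Type*) [Group G] :
    pPrimeCore p G ≤ pLayerPre p G := by
  intro x hx
  unfold pLayerPre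
  rw [mem_comap]
  have : QuotientGroup.mk' (pPrimeCore p G) x = 1 := (QuotientGroup.eq_one_iff x).2 hx
  rw [this]
  exact one_mem _

/-- An element of `O_{p'}(G)` is a `p'`-element. -/
theorem orderOf_coprime_of_mem_pPrimeCore (p : ℕ) {x : G} (hx : x ∈ pPrimeCore p G) :
    (orderOf x).Coprime p := by
  have h1 : orderOf (⟨x, hx⟩ : pPrimeCore p G) ∣ Nat.card (pPrimeCore p G) := orderOf_dvd_natCard _
  rw [Subgroup.orderOf_mk] at h1
  exact Nat.Coprime.coprime_dvd_left h1 (pPrimeCore_coprime p)

/-- (a) The preimage of `E(G/O_{p'}(G))` lies in any normal subgroup containing its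
`p'`-elements. -/
theorem pLayerPre_le_of_forall_coprime_mem (p : ℕ) [Fact p.Prime] {K : Subgroup G} [K.Normal]
    (h : ∀ a ∈ pLayerPre p G, (orderOf a).Coprime p → a ∈ K) : pLayerPre p G ≤ K := by
  have hOK : pPrimeCore p G ≤ K := fun x hx =>
    h x (pPrimeCore_le_pLayerPre p G hx) (orderOf_coprime_of_mem_pPrimeCore p hx)
  have h1 : layer (G ⧸ pPrimeCore p G) ≤ K.map (QuotientGroup.mk' (pPrimeCore p G)) := by
    apply le_of_perfect_of_forall_pow_mem layer_commutator_eq p
    · rw [normalizer_eq_top]; exact le_top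
    · intro a ha
      obtain ⟨x, rfl⟩ := QuotientGroup.mk'_surjective (pPrimeCore p G) a
      have hx : x ∈ pLayerPre p G := ha
      refine ⟨(orderOf x).factorization p, ?_⟩
      rw [← map_pow]
      exact mem_map_of_mem _ (h _ (pow_mem hx _) (orderOf_pow_ordProj_coprime p x))
  calc pLayerPre p G ≤ (K.map (QuotientGroup.mk' (pPrimeCore p G))).comap
        (QuotientGroup.mk' (pPrimeCore p G)) := comap_mono h1
    _ = K ⊔ (QuotientGroup.mk' (pPrimeCore p G)).ker := comap_map_eq _ _
    _ = K := by rw [QuotientGroup.ker_mk']; exact sup_eq_left.2 hOK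

/-- (b') The preimage of `E(G/O_{p'}(G))` centralises every normal `p`-subgroup. -/
theorem pLayerPre_commutator_eq_bot (p : ℕ) [Fact p.Prime] {V : Subgroup G} [hV : V.Normal]
    (hVp : IsPGroup p V) : ⁅pLayerPre p G, V⁆ = ⊥ := by
  have h1 : ⁅pLayerPre p G, V⁆ ≤ pPrimeCore p G := by
    rw [← QuotientGroup.ker_mk' (pPrimeCore p G), ← Subgroup.map_eq_bot_iff, map_commutator, eq_bot_iff]
    have hV' : V.map (QuotientGroup.mk' (pPrimeCore p G)) ≤
        fittingSubgroup (G ⧸ pPrimeCore p G) := by
      refine le_trans ?_ (pCore_le_fittingSubgroup p)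
      apply le_pCore
      · exact hV.map _ (QuotientGroup.mk'_surjective _)
      · exact hVp.map _
    have hX : (pLayerPre p G).map (QuotientGroup.mk' (pPrimeCore p G)) ≤
        layer (G ⧸ pPrimeCore p G) := by
      unfold pLayerPre
      exact map_comap_le _ _
    calc _ ≤ ⁅layer (G ⧸ pPrimeCore p G), fittingSubgroup (G ⧸ pPrimeCore p G)⁆ :=
          commutator_mono hX hV'
      _ = ⊥ := layer_commutator_fitting
  have h2 : ⁅pLayerPre p G, V⁆ ≤ V := commutator_le_right _ _
  have h3 : pPrimeCore p G ⊓ V = ⊥ := by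
    apply disjoint_iff.1
    apply disjoint_of_coprime_natCard
    obtain ⟨n, hn⟩ := IsPGroup.iff_card.1 hVp
    rw [hn]
    exact Nat.Coprime.pow_right _ (pPrimeCore_coprime p)
  rw [eq_bot_iff, ← h3]
  exact le_inf h1 h2

end Cfsg.Agent.Helper7

namespace Cfsg.Agent.Helper7

open Subgroup Cfsg
open Cfsg.Agent.Helper14 (pCore_isPGroup le_pCore pCore_characteristic)
open Cfsg.Agent.Helper19 (pPrimeCore_coprime)

universe u

variable {G : Type u} [Group G] [Finite G]

/-- A `p'`-element of the preimage of `E(N/O_{p'}(N))`, `N = N_G(P)`, centralises `O_p(G)`. -/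
theorem mem_centralizer_pCore_of_mem_pLayerPre_normalizer (p : ℕ) [Fact p.Prime] {P : Subgroup G}
    (hP : IsPGroup p P) {a : normalizer (P : Set G)} (ha : a ∈ pLayerPre p (normalizer (P : Set G)))
    (hcop : (orderOf a).Coprime p) : (a : G) ∈ centralizer (pCore p G : Set G) := by
  set U := pCore p G with hU
  have hUp : IsPGroup p U := pCore_isPGroup p
  have hUn : normalizer (U : Set G) = ⊤ := normalizer_eq_top U
  have key : ∀ V : Subgroup G, IsPGroup p V → V ≤ normalizer (P : Set G) →
      normalizer (P : Set G) ≤ normalizer (V : Set G) →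
      V ≤ centralizer (zpowers (a : G) : Set G) := by
    intro V hVp hVN hNV
    rw [le_centralizer_iff, zpowers_le, mem_centralizer_iff]
    intro x hx
    haveI : (V.subgroupOf (normalizer (P : Set G))).Normal :=
      (normal_subgroupOf_iff_le_normalizer hVN).2 hNV
    have h1 := pLayerPre_commutator_eq_bot (G := normalizer (P : Set G)) p
      (V := V.subgroupOf (normalizer (P : Set G))) hVp.comap_subtype
    have h2 := commutator_eq_bot_iff_forall_commute.1 h1 a ha ⟨x, hVN hx⟩ (mem_subgroupOf.2 hx)
    exact (congrArg Subtype.val h2).symm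
  have h1 : U ⊓ normalizer (P : Set G) ≤ centralizer (zpowers (a : G) : Set G) := by
    apply key _ (hUp.to_le inf_le_left) inf_le_right
    intro n hn
    have h2 : n ∈ normalizer ((normalizer (P : Set G) : Subgroup G) : Set G) := le_normalizer hn
    have h3 : n ∈ normalizer (U : Set G) := by rw [hUn]; exact mem_top n
    exact (inf_normalizer_le_normalizer_inf) ⟨h3, h2⟩
  have h2 : P ≤ centralizer (zpowers (a : G) : Set G) := key P hP le_normalizer le_rfl
  have h3 := Cfsg.Agent.Lead.thompson_PQ p P (zpowers (a : G)) U hP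
    (by rw [Nat.card_zpowers, Subgroup.orderOf_coe]; exact hcop) hUp h2
    (by rw [hUn]; exact le_top) (by rw [hUn]; exact le_top)
    ((inf_le_inf_left U (centralizer_le_normalizer _)).trans h1)
  exact h3 (mem_zpowers _)

/-- S1266. -/
theorem pLayerPre_normalizer_le_centralizer_pCore (p : ℕ) [Fact p.Prime] {P : Subgroup G}
    (hP : IsPGroup p P) :
    (pLayerPre p (normalizer (P : Set G))).map (normalizer (P : Set G)).subtype ≤
      centralizer (pCore p G : Set G) := by
  haveI : (centralizer (pCore p G : Set G)).Normal := normal_centralizer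
  have := pLayerPre_le_of_forall_coprime_mem (G := normalizer (P : Set G)) p
    (K := (centralizer (pCore p G : Set G)).subgroupOf (normalizer (P : Set G)))
    (fun a ha hcop => mem_subgroupOf.2
      (mem_centralizer_pCore_of_mem_pLayerPre_normalizer p hP ha hcop))
  rw [map_le_iff_le_comap]
  exact this

end Cfsg.Agent.Helper7
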