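import Mathlib
import Cfsg.Prelude.Def_Local
import Cfsg.Agent.Helper7.PLocal
import Cfsg.Agent.Helper17.Basic

set_option autoImplicit false
set_option linter.style.haveILetI false
set_option linter.unusedSectionVars false

/-! # The `p'`-core `O_{p'}(G)` -/

namespace Cfsg.Agent.Helper7

open Subgroup Cfsg
open Cfsg.Agent.Helper19 (pPrimeCore_coprime)

universe u

theorem le_pPrimeCore {G : Type*} [Group G] {p : ℕ} {N : Subgroup G} (hN : N.Normal)
    (h : (Nat.card N).Coprime p) : N ≤ pPrimeCore p G :=
  le_sSup ⟨hN, h⟩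

theorem pPrimeCore_map_equiv_le {G H : Type*} [Group G] [Group H] (p : ℕ) (e : G ≃* H) :
    (pPrimeCore p G).map e.toMonoidHom ≤ pPrimeCore p H := by
  unfold pPrimeCore
  rw [map_le_iff_le_comap]
  apply sSup_le
  rintro N ⟨hN, hcop⟩
  rw [← map_le_iff_le_comap]
  apply le_sSup
  refine ⟨hN.map _ e.surjective, ?_⟩
  rwa [← Nat.card_congr (N.equivMapOfInjective _ e.injective).toEquiv]

theorem pPrimeCore_map_equiv {G H : Type*} [Group G] [Group H] (p : ℕ) (e : G ≃* H) :
    (pPrimeCore p G).map e.toMonoidHom = pPrimeCore p H := by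
  apply le_antisymm (pPrimeCore_map_equiv_le p e)
  have h1 := pPrimeCore_map_equiv_le p e.symm
  intro x hx
  refine ⟨e.symm x, h1 ⟨x, hx, rfl⟩, by simp⟩

instance pPrimeCore_characteristic (p : ℕ) (G : Type*) [Group G] :
    (pPrimeCore p G).Characteristic := by
  rw [characteristic_iff_map_eq]
  intro ϕ
  exact pPrimeCore_map_equiv p ϕ

/-- A subnormal `p'`-subgroup of a finite group lies in the `p'`-core. -/
theorem subnormal_coprime_le_pPrimeCore_aux (p : ℕ) : ∀ (n : ℕ) (G : Type u) [Group G] [Finite G],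
    Nat.card G = n → ∀ S : Subgroup G, S.IsSubnormal → (Nat.card S).Coprime p →
      S ≤ pPrimeCore p G := by
  intro n
  induction n using Nat.strong_induction_on with
  | _ n ih =>
    intro G _ _ hn S hS hSp
    by_cases hStop : S = ⊤
    · subst hStop
      exact le_pPrimeCore inferInstance hSp
    · obtain ⟨N, hNn, hSN, hNlt⟩ := hS.exists_normal_and_le_and_lt_top_of_ne hStop
      have hc : Nat.card (S.subgroupOf N) = Nat.card S :=
        Nat.card_congr (subgroupOfEquivOfLe hSN).toEquiv
      have h1 := ih (Nat.card N) (hn ▸ card_lt_of_ne_top hNlt.ne) N rfl (S.subgroupOf N)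
        hS.subgroupOf (hc ▸ hSp)
      have h2 : (pPrimeCore p N).map N.subtype ≤ pPrimeCore p G := by
        apply le_pPrimeCore
        · exact ConjAct.normal_of_characteristic_of_normal
        · rw [← Nat.card_congr ((pPrimeCore p N).equivMapOfInjective _
            (subtype_injective N)).toEquiv]
          exact pPrimeCore_coprime p
      calc S = (S.subgroupOf N).map N.subtype := (map_subgroupOf_eq_of_le hSN).symm
        _ ≤ (pPrimeCore p N).map N.subtype := map_mono h1
        _ ≤ pPrimeCore p G := h2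

theorem subnormal_coprime_le_pPrimeCore {G : Type u} [Group G] [Finite G] {p : ℕ}
    {S : Subgroup G} (hS : S.IsSubnormal) (hSp : (Nat.card S).Coprime p) :
    S ≤ pPrimeCore p G :=
  subnormal_coprime_le_pPrimeCore_aux p _ G rfl S hS hSp

/-- `O_{p'}(G/O_{p'}(G)) = 1`. -/
theorem pPrimeCore_quotient_eq_bot {G : Type*} [Group G] [Finite G] (p : ℕ) :
    pPrimeCore p (G ⧸ pPrimeCore p G) = ⊥ := by
  set O := pPrimeCore p G with hO
  set T := pPrimeCore p (G ⧸ O) with hT
  have hcard : Nat.card (T.comap (QuotientGroup.mk' O)) = Nat.card O * Nat.card T :=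
    QuotientGroup.card_preimage_mk O (T : Set (G ⧸ O))
  have h1 : T.comap (QuotientGroup.mk' O) ≤ O := by
    apply le_pPrimeCore
    · infer_instance
    · rw [hcard]
      exact Nat.Coprime.mul_left (pPrimeCore_coprime p) (pPrimeCore_coprime p)
  rw [eq_bot_iff]
  intro t ht
  obtain ⟨x, rfl⟩ := QuotientGroup.mk'_surjective O t
  have : x ∈ O := h1 ht
  rw [mem_bot]
  exact (QuotientGroup.eq_one_iff x).2 this

end Cfsg.Agent.Helper7
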