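import Mathlib
import Cfsg.Prelude.Def_Local
import Cfsg.Agent.Helper7.PPrimeCore

set_option autoImplicit false
set_option linter.style.haveILetI false
set_option linter.unusedSectionVars false

/-! # The `p'`-residual `O^{p'}(H)`: the subgroup generated by the `p`-elements of `H` -/

namespace Cfsg.Agent.Helper7

open Subgroup Cfsg

universe u

/-- A `p`-element lies in every normal subgroup of index prime to `p`. -/
theorem mem_of_pow_eq_one_of_index_coprime {Y : Type*} [Group Y] {p : ℕ} [hp : Fact p.Prime]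
    {N : Subgroup Y} [N.Normal] (hN : (N.index).Coprime p) {y : Y} {k : ℕ}
    (hy : y ^ p ^ k = 1) : y ∈ N := by
  have hfin : N.index ≠ 0 := by
    intro h0
    rw [h0] at hN
    exact hp.out.ne_one ((Nat.coprime_zero_left p).1 hN)
  haveI : N.FiniteIndex := ⟨hfin⟩
  haveI : Finite (Y ⧸ N) := Subgroup.finite_quotient_of_finiteIndex
  have h1 : orderOf (QuotientGroup.mk' N y) ∣ p ^ k := by
    apply orderOf_dvd_of_pow_eq_one
    rw [← map_pow, hy, map_one]
  have h2 : orderOf (QuotientGroup.mk' N y) ∣ N.index := by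
    rw [Subgroup.index_eq_card]
    exact orderOf_dvd_natCard _
  have h3 : orderOf (QuotientGroup.mk' N y) = 1 :=
    Nat.eq_one_of_dvd_coprimes (Nat.Coprime.pow_right k hN) h2 h1
  rw [orderOf_eq_one_iff] at h3
  exact (QuotientGroup.eq_one_iff y).1 h3

/-- If `S ⊔ O' = ⊤` with `O'` normal then `|G : S|` divides `|O'|`. -/
theorem index_dvd_card_of_sup_eq_top {Y : Type*} [Group Y] [Finite Y] {S O' : Subgroup Y}
    [O'.Normal] (h : S ⊔ O' = ⊤) : S.index ∣ Nat.card O' := by
  have h1 := Cfsg.Agent.Helper17.card_sup_mul_card_inf_of_normal O' S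
  rw [sup_comm, h, card_top] at h1
  have h2 := S.index_mul_card
  have hS : 0 < Nat.card S := Nat.card_pos
  refine ⟨Nat.card (O' ⊓ S : Subgroup Y), ?_⟩
  apply Nat.eq_of_mul_eq_mul_right hS
  rw [← h1, ← h2]
  ring

/-- (K1) A subnormal supplement to a normal `p'`-subgroup contains all `p`-elements. -/
theorem mem_of_pow_eq_one_of_subnormal_sup_eq_top {Y : Type*} [Group Y] [Finite Y] {p : ℕ}
    [hp : Fact p.Prime] {O' : Subgroup Y} [O'.Normal] (hO' : (Nat.card O').Coprime p)
    {S : Subgroup Y} (hS : S.IsSubnormal) (hSO : S ⊔ O' = ⊤) {y : Y} {k : ℕ}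
    (hy : y ^ p ^ k = 1) : y ∈ S := by
  induction hS with
  | top => exact mem_top y
  | step S K hle hK hN ih =>
    have hKO : K ⊔ O' = ⊤ := by
      rw [eq_top_iff, ← hSO]
      exact sup_le_sup_right hle _
    have hyK : y ∈ K := ih hKO
    have hidx : (S.relIndex K).Coprime p :=
      Nat.Coprime.coprime_dvd_left
        ((relIndex_dvd_index_of_le hle).trans (index_dvd_card_of_sup_eq_top hSO)) hO'
    have hy' : (⟨y, hyK⟩ : K) ^ p ^ k = 1 := Subtype.ext (by simpa using hy)
    have := mem_of_pow_eq_one_of_index_coprime (N := S.subgroupOf K) hidx hy'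
    exact mem_subgroupOf.1 this

/-! ### The subgroup generated by `p`-elements -/

/-- `O^{p'}(H)`: the subgroup generated by the `p`-elements of `H`. -/
def pGen {G : Type*} [Group G] (p : ℕ) (H : Subgroup G) : Subgroup G :=
  closure {x | x ∈ H ∧ ∃ k : ℕ, x ^ p ^ k = 1}

section pGen

variable {G : Type*} [Group G] {p : ℕ}

theorem pGen_le (H : Subgroup G) : pGen p H ≤ H := by
  unfold pGen
  rw [closure_le]
  exact fun x hx => hx.1

theorem mem_pGen {H : Subgroup G} {x : G} (hx : x ∈ H) {k : ℕ} (hk : x ^ p ^ k = 1) :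
    x ∈ pGen p H :=
  subset_closure ⟨hx, k, hk⟩

theorem pGen_le_iff {H K : Subgroup G} :
    pGen p H ≤ K ↔ ∀ x ∈ H, ∀ k : ℕ, x ^ p ^ k = 1 → x ∈ K := by
  unfold pGen
  rw [closure_le]
  exact ⟨fun h x hx k hk => h ⟨hx, k, hk⟩, fun h x hx => by
    obtain ⟨h1, k, hk⟩ := hx
    exact h x h1 k hk⟩

theorem pGen_mono {H K : Subgroup G} (h : H ≤ K) : pGen (p := p) H ≤ pGen p K := by
  rw [pGen_le_iff]
  exact fun x hx k hk => mem_pGen (h hx) hk

theorem pGen_pGen (H : Subgroup G) : pGen p (pGen p H) = pGen p H := by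
  apply le_antisymm (pGen_le _)
  rw [pGen_le_iff]
  exact fun x hx k hk => mem_pGen (mem_pGen hx hk) hk

theorem pGen_map_equiv_le {G' : Type*} [Group G'] (e : G ≃* G') (H : Subgroup G) :
    (pGen p H).map e.toMonoidHom ≤ pGen p (H.map e.toMonoidHom) := by
  rw [map_le_iff_le_comap, pGen_le_iff]
  intro x hx k hk
  rw [mem_comap]
  refine mem_pGen (k := k) (mem_map_of_mem _ hx) ?_
  rw [← map_pow, hk, map_one]

/-- Conjugation by an element normalising `H` preserves `O^{p'}(H)`. -/
theorem conj_mem_pGen {H : Subgroup G} {g : G} (hg : g ∈ normalizer (H : Set G)) {x : G}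
    (hx : x ∈ pGen p H) : g * x * g⁻¹ ∈ pGen p H := by
  have h1 := pGen_map_equiv_le (p := p) (MulAut.conj g) H
  have h2 : H.map (MulAut.conj g).toMonoidHom = H := by
    ext y
    constructor
    · rintro ⟨z, hz, rfl⟩
      exact (mem_normalizer_iff.1 hg z).1 hz
    · intro hy
      refine ⟨g⁻¹ * y * g, ?_, by simp [MulAut.conj_apply, mul_assoc]⟩
      have := (mem_normalizer_iff.1 (inv_mem hg) y).1 hy
      simpa using this
  rw [h2] at h1
  exact h1 ⟨x, hx, rfl⟩

theorem normalizer_le_normalizer_pGen (H : Subgroup G) :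
    normalizer (H : Set G) ≤ normalizer (pGen p H : Set G) := by
  intro g hg
  rw [mem_normalizer_iff]
  intro x
  constructor
  · exact conj_mem_pGen hg
  · intro hx
    have := conj_mem_pGen (p := p) (inv_mem hg) hx
    simpa [mul_assoc] using this

theorem le_normalizer_pGen (H : Subgroup G) : H ≤ normalizer (pGen p H : Set G) :=
  le_normalizer.trans (normalizer_le_normalizer_pGen H)

instance pGen_subgroupOf_normal (H : Subgroup G) : ((pGen p H).subgroupOf H).Normal :=
  (normal_subgroupOf_iff_le_normalizer (pGen_le H)).2 (le_normalizer_pGen H)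

/-- `O^{p'}(H)` lies in every normal subgroup of `H` of index prime to `p`. -/
theorem pGen_le_of_relIndex_coprime [hp : Fact p.Prime] {N H : Subgroup G}
    (hn : H ≤ normalizer (N : Set G)) (hidx : (N.relIndex H).Coprime p) : pGen p H ≤ N := by
  rw [pGen_le_iff]
  intro x hx k hk
  haveI : (N.subgroupOf H).Normal := normal_subgroupOf_of_le_normalizer hn
  have hx' : (⟨x, hx⟩ : H) ^ p ^ k = 1 := Subtype.ext (by simpa using hk)
  exact mem_subgroupOf.1 (mem_of_pow_eq_one_of_index_coprime (N := N.subgroupOf H) hidx hx')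

/-- `|H : O^{p'}(H)|` is prime to `p`. -/
theorem relIndex_pGen_coprime [Finite G] [hp : Fact p.Prime] (H : Subgroup G) :
    ((pGen p H).relIndex H).Coprime p := by
  rw [Nat.coprime_comm, Nat.Prime.coprime_iff_not_dvd hp.out]
  intro hdvd
  rw [relIndex, index_eq_card] at hdvd
  obtain ⟨ybar, hy⟩ := exists_prime_orderOf_dvd_card' p hdvd
  obtain ⟨y, rfl⟩ := QuotientGroup.mk_surjective ybar
  -- `y ^ m` is a `p`-element where `m` is the `p'`-part of the order
  set n := orderOf y with hn
  have hn0 : n ≠ 0 := (orderOf_pos y).ne'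
  set m := n / p ^ n.factorization p with hm
  have hpm : ¬ p ∣ m := Nat.not_dvd_ordCompl hp.out hn0
  have hym : (y ^ m) ^ p ^ n.factorization p = 1 := by
    rw [← pow_mul, hm, Nat.div_mul_cancel (Nat.ordProj_dvd n p)]
    exact pow_orderOf_eq_one y
  have h1 : ((y ^ m : H) : G) ∈ pGen p H := by
    apply mem_pGen (y ^ m).2 (k := n.factorization p)
    have := congrArg Subtype.val hym
    simpa using this
  have h2 : (QuotientGroup.mk y : H ⧸ (pGen p H).subgroupOf H) ^ m = 1 := by
    rw [← QuotientGroup.mk_pow, QuotientGroup.eq_one_iff, mem_subgroupOf]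
    exact h1
  have h3 : p ∣ m := by
    rw [← hy]
    exact orderOf_dvd_of_pow_eq_one h2
  exact hpm h3

end pGen

/-- (K1), subgroup version: if `S ≤ H` is subnormal in `H` and `H = S ⊔ O'` with `O' ⊴ H` a
`p'`-group, then `O^{p'}(H) ≤ S`. -/
theorem pGen_le_of_subnormal_sup_eq {G : Type*} [Group G] [Finite G] {p : ℕ} [Fact p.Prime]
    {S O' H : Subgroup G} (hSH : S ≤ H) (hOH : O' ≤ H) (hsn : (S.subgroupOf H).IsSubnormal)
    (hn : H ≤ normalizer (O' : Set G)) (hO' : (Nat.card O').Coprime p) (hsup : S ⊔ O' = H) :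
    pGen p H ≤ S := by
  rw [pGen_le_iff]
  intro x hx k hk
  haveI : (O'.subgroupOf H).Normal := (normal_subgroupOf_iff_le_normalizer hOH).2 hn
  have hc : (Nat.card (O'.subgroupOf H)).Coprime p := by
    rwa [Nat.card_congr (subgroupOfEquivOfLe hOH).toEquiv]
  have htop : S.subgroupOf H ⊔ O'.subgroupOf H = ⊤ := by
    rw [← subgroupOf_sup hSH hOH, hsup, subgroupOf_self]
  have hx' : (⟨x, hx⟩ : H) ^ p ^ k = 1 := Subtype.ext (by simpa using hk)
  exact mem_subgroupOf.1 (mem_of_pow_eq_one_of_subnormal_sup_eq_top hc hsn htop hx')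

end Cfsg.Agent.Helper7
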