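import Mathlib
import Cfsg.Prelude.Def_Local
import Cfsg.Agent.Helper7.PResidual

set_option autoImplicit false
set_option linter.style.haveILetI false
set_option linter.unusedSectionVars false

/-! # `p`-components and the `p`-layer -/

namespace Cfsg.Agent.Helper7

open Subgroup Cfsg
open Cfsg.Agent.Helper19 (pPrimeCore_coprime)

universe u

/-! ### Perfect groups whose central quotient is a `p'`-group -/

/-- In a perfect group every homomorphism with commutative image is trivial. -/
theorem perfect_hom_comm_eq_one {K A : Type*} [Group K] [Group A] [Group.IsPerfect K]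
    (f : K →* A) (hcomm : ∀ a b : K, f a * f b = f b * f a) (g : K) : f g = 1 := by
  have h1 : commutator K ≤ f.ker := by
    rw [commutator_def, commutator_le]
    intro a _ b _
    rw [MonoidHom.mem_ker, map_commutatorElement, commutatorElement_eq_one_iff_commute]
    exact hcomm a b
  have h2 : commutator K = ⊤ := Group.isPerfect_def.1 inferInstance
  rw [h2] at h1
  exact h1 (mem_top g)

theorem perfect_pow_index_center {K : Type*} [Group K] [Finite K] [Group.IsPerfect K] (g : K) :
    g ^ (center K).index = 1 := by
  have := perfect_hom_comm_eq_one (MonoidHom.transferCenterPow K)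
    (fun a b => Subtype.ext (Subgroup.mem_center_iff.1 (MonoidHom.transferCenterPow K b).2 _)) g
  have h2 := congrArg Subtype.val this
  simpa using h2

theorem card_coprime_of_perfect_of_index_center_coprime {K : Type*} [Group K] [Finite K]
    [Group.IsPerfect K] {p : ℕ} [hp : Fact p.Prime] (h : ((center K).index).Coprime p) :
    (Nat.card K).Coprime p := by
  rw [Nat.coprime_comm, Nat.Prime.coprime_iff_not_dvd hp.out]
  intro hdvd
  obtain ⟨g, hg⟩ := exists_prime_orderOf_dvd_card' p hdvd
  have h1 : p ∣ (center K).index := by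
    rw [← hg]
    exact orderOf_dvd_of_pow_eq_one (perfect_pow_index_center g)
  rw [Nat.coprime_comm, Nat.Prime.coprime_iff_not_dvd hp.out] at h
  exact h h1

/-- A component of a finite group with trivial `p'`-core has no proper normal subgroup of index
prime to `p`. -/
theorem IsComponent.eq_top_of_normal_of_index_coprime {Q : Type u} [Group Q] [Finite Q] {p : ℕ}
    [hp : Fact p.Prime] (hQ : pPrimeCore p Q = ⊥) {Kbar : Subgroup Q} (hK : IsComponent Kbar)
    (N : Subgroup Kbar) [N.Normal] (hN : (N.index).Coprime p) : N = ⊤ := by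
  rcases IsQuasisimple.normal_eq_top_or_le_center hK.2 N with h | h
  · exact h
  · exfalso
    haveI : Group.IsPerfect Kbar := hK.2.1
    have h1 : ((center Kbar).index).Coprime p :=
      Nat.Coprime.coprime_dvd_left (index_dvd_of_le h) hN
    have h2 := card_coprime_of_perfect_of_index_center_coprime h1
    have h3 := subnormal_coprime_le_pPrimeCore hK.1 h2
    rw [hQ, le_bot_iff] at h3
    exact IsComponent.ne_bot hK h3

variable {G : Type u} [Group G] [Finite G] {p : ℕ} [hp : Fact p.Prime]

/-- The `p`-component lying over a component `Kbar` of `G/O_{p'}(G)`. -/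
def pCompOver (p : ℕ) {G : Type*} [Group G] (Kbar : Subgroup (G ⧸ pPrimeCore p G)) :
    Subgroup G :=
  pGen p (Kbar.comap (QuotientGroup.mk' (pPrimeCore p G)))

theorem pPrimeCore_le_comap (Kbar : Subgroup (G ⧸ pPrimeCore p G)) :
    pPrimeCore p G ≤ Kbar.comap (QuotientGroup.mk' (pPrimeCore p G)) := by
  intro x hx
  rw [mem_comap]
  have : QuotientGroup.mk' (pPrimeCore p G) x = 1 := (QuotientGroup.eq_one_iff x).2 hx
  rw [this]
  exact one_mem _

theorem pCompOver_isSubnormal {Kbar : Subgroup (G ⧸ pPrimeCore p G)} (hK : Kbar.IsSubnormal) :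
    (pCompOver p Kbar).IsSubnormal := by
  unfold pCompOver
  exact IsSubnormal.trans (pGen_le _) (pGen_subgroupOf_normal _).isSubnormal (hK.comap _)

theorem map_pCompOver {Kbar : Subgroup (G ⧸ pPrimeCore p G)} (hK : IsComponent Kbar) :
    (pCompOver p Kbar).map (QuotientGroup.mk' (pPrimeCore p G)) = Kbar := by
  set O := pPrimeCore p G with hO
  set π := QuotientGroup.mk' O with hπ
  set H := Kbar.comap π with hH
  have hsurj : Function.Surjective π := QuotientGroup.mk'_surjective O
  have hHmap : H.map π = Kbar := map_comap_eq_self_of_surjective hsurj Kbar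
  have hle : (pGen p H).map π ≤ Kbar := by
    rw [← hHmap]; exact map_mono (pGen_le H)
  apply le_antisymm hle
  -- normality of the image in `Kbar`
  have hnorm : Kbar ≤ normalizer ((pGen p H).map π : Set _) := by
    rw [← hHmap]
    exact (map_mono (le_normalizer_pGen H)).trans (le_normalizer_map π)
  haveI : (((pGen p H).map π).subgroupOf Kbar).Normal :=
    (normal_subgroupOf_iff_le_normalizer hle).2 hnorm
  have hidx : ((((pGen p H).map π).subgroupOf Kbar).index).Coprime p := by
    have h1 : ((pGen p H).map π).relIndex Kbar ∣ (pGen p H).relIndex H := by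
      have hker : π.ker ≤ H := by
        rw [hπ, QuotientGroup.ker_mk']; exact pPrimeCore_le_comap Kbar
      rw [← hHmap, relIndex_map_map, sup_of_le_left hker]
      exact relIndex_dvd_of_le_left H le_sup_left
    exact Nat.Coprime.coprime_dvd_left h1 (relIndex_pGen_coprime H)
  have := IsComponent.eq_top_of_normal_of_index_coprime (pPrimeCore_quotient_eq_bot p) hK
    (((pGen p H).map π).subgroupOf Kbar) hidx
  exact subgroupOf_eq_top.1 this

/-- (K1) for `p`-components: a subnormal subgroup with image `Kbar` contains `pCompOver Kbar`. -/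
theorem pCompOver_le_of_map_eq {Kbar : Subgroup (G ⧸ pPrimeCore p G)} {S : Subgroup G}
    (hS : S.IsSubnormal) (hmap : S.map (QuotientGroup.mk' (pPrimeCore p G)) = Kbar) :
    pCompOver p Kbar ≤ S := by
  set O := pPrimeCore p G with hO
  set π := QuotientGroup.mk' O with hπ
  have hsup : S ⊔ O = Kbar.comap π := by
    rw [← hmap, comap_map_eq, hπ, QuotientGroup.ker_mk']
  unfold pCompOver
  apply pGen_le_of_subnormal_sup_eq (O' := O)
  · rw [← hsup]; exact le_sup_left
  · rw [← hsup]; exact le_sup_right
  · exact hS.subgroupOf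
  · rw [normalizer_eq_top]; exact le_top
  · exact pPrimeCore_coprime p
  · exact hsup

theorem isPComponent_pCompOver {Kbar : Subgroup (G ⧸ pPrimeCore p G)} (hK : IsComponent Kbar) :
    IsPComponent p (pCompOver p Kbar) := by
  refine ⟨pCompOver_isSubnormal hK.1, ?_, ?_⟩
  · rw [map_pCompOver hK]; exact hK
  · intro S hS hle hmap
    rw [map_pCompOver hK] at hmap
    exact le_antisymm hle (pCompOver_le_of_map_eq hS hmap)

theorem IsPComponent.eq_pCompOver {K : Subgroup G} (hK : IsPComponent p K) :
    K = pCompOver p (K.map (QuotientGroup.mk' (pPrimeCore p G))) := by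
  obtain ⟨hsn, hcomp, hmin⟩ := hK
  have h1 := pCompOver_le_of_map_eq hsn (rfl : K.map (QuotientGroup.mk' (pPrimeCore p G)) = _)
  exact (hmin _ (pCompOver_isSubnormal hcomp.1) h1 (map_pCompOver hcomp)).symm

/-- S1272, first part. -/
theorem existsUnique_pComponent_over {Kbar : Subgroup (G ⧸ pPrimeCore p G)}
    (hK : IsComponent Kbar) :
    ∃! K : Subgroup G, IsPComponent p K ∧ K.map (QuotientGroup.mk' (pPrimeCore p G)) = Kbar := by
  refine ⟨pCompOver p Kbar, ⟨isPComponent_pCompOver hK, map_pCompOver hK⟩, ?_⟩
  rintro K ⟨hK1, hK2⟩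
  rw [IsPComponent.eq_pCompOver hK1, hK2]

/-- S1272, second part. -/
theorem map_pLayer : (pLayer p G).map (QuotientGroup.mk' (pPrimeCore p G)) =
    layer (G ⧸ pPrimeCore p G) := by
  apply le_antisymm
  · unfold pLayer
    rw [map_le_iff_le_comap]
    apply sSup_le
    intro K hK
    rw [← map_le_iff_le_comap]
    exact IsComponent.le_layer hK.2.1
  · rw [layer_le_iff]
    intro Kbar hK
    rw [← map_pCompOver hK]
    apply map_mono
    exact le_sSup (isPComponent_pCompOver hK)

end Cfsg.Agent.Helper7
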