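import Mathlib
import Cfsg.Prelude.Def_Local
import Cfsg.Agent.Helper7.PComponent

set_option autoImplicit false
set_option linter.style.haveILetI false
set_option linter.unusedSectionVars false

/-! # `p`-components: further properties -/

namespace Cfsg.Agent.Helper7

open Subgroup Cfsg
open Cfsg.Agent.Helper19 (pPrimeCore_coprime)

universe u

variable {G : Type u} [Group G] [Finite G] {p : ℕ} [hp : Fact p.Prime]

theorem IsPComponent.pGen_eq {K : Subgroup G} (hK : IsPComponent p K) : pGen p K = K := by
  have h := IsPComponent.eq_pCompOver hK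
  unfold pCompOver at h
  rw [h, pGen_pGen]

/-- S1273. -/
theorem IsPComponent.eq_top_of_normal_of_index_coprime {K : Subgroup G} (hK : IsPComponent p K)
    (N : Subgroup K) [hN : N.Normal] (hidx : (N.index).Coprime p) : N = ⊤ := by
  have hsub : (N.map K.subtype).subgroupOf K = N :=
    comap_map_eq_self_of_injective (subtype_injective K) N
  have h1 : pGen p K ≤ N.map K.subtype := by
    apply pGen_le_of_relIndex_coprime
    · rw [← normal_subgroupOf_iff_le_normalizer (map_subtype_le N), hsub]
      exact hN
    · rw [relIndex, hsub]; exact hidx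
  rw [IsPComponent.pGen_eq hK] at h1
  rw [← hsub]
  exact subgroupOf_eq_top.2 h1

theorem IsPComponent.map_ne_bot {K : Subgroup G} (hK : IsPComponent p K) :
    K.map (QuotientGroup.mk' (pPrimeCore p G)) ≠ ⊥ :=
  IsComponent.ne_bot hK.2.1

theorem IsPComponent.not_le_pPrimeCore {K : Subgroup G} (hK : IsPComponent p K) :
    ¬ K ≤ pPrimeCore p G := by
  intro h
  apply IsPComponent.map_ne_bot hK
  rw [Subgroup.map_eq_bot_iff, QuotientGroup.ker_mk']
  exact h

theorem IsPComponent.dvd_card {K : Subgroup G} (hK : IsPComponent p K) : p ∣ Nat.card K := by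
  by_contra hnd
  have hc : (Nat.card K).Coprime p := by
    rw [Nat.coprime_comm, Nat.Prime.coprime_iff_not_dvd hp.out]; exact hnd
  exact IsPComponent.not_le_pPrimeCore hK (subnormal_coprime_le_pPrimeCore hK.1 hc)

theorem IsPComponent.commutator_eq {K : Subgroup G} (hK : IsPComponent p K) : ⁅K, K⁆ = K := by
  have hle : ⁅K, K⁆ ≤ K := commutator_le_self K
  have hsn : (⁅K, K⁆).IsSubnormal := by
    refine IsSubnormal.trans hle ?_ hK.1
    have : ((⁅K, K⁆ : Subgroup G).subgroupOf K).Normal :=
      (normal_subgroupOf_iff_le_normalizer hle).2 (le_normalizer_commutator_left K K)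
    exact this.isSubnormal
  apply hK.2.2 _ hsn hle
  rw [map_commutator, IsComponent.commutator_eq hK.2.1]

/-- A subnormal subgroup of `G` inside a component-image: dichotomy. -/
theorem IsPComponent.eq_of_subnormal_perfect {K : Subgroup G} (hK : IsPComponent p K)
    {H : Subgroup G} (hHK : H ≤ K) (hH : H.IsSubnormal) (hperf : ⁅H, H⁆ = H)
    (hdvd : p ∣ Nat.card H) : H = K := by
  set O := pPrimeCore p G with hO
  set π := QuotientGroup.mk' O with hπ
  set Kbar := K.map π with hKbar
  have hcomp : IsComponent Kbar := hK.2.1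
  have hle : H.map π ≤ Kbar := map_mono hHK
  have hsn : ((H.map π).subgroupOf Kbar).IsSubnormal :=
    (hH.map (f := π) (QuotientGroup.mk'_surjective O)).subgroupOf
  rcases IsQuasisimple.subnormal_eq_top_or_le_center hcomp.2 hsn with h | h
  · have h1 : Kbar ≤ H.map π := subgroupOf_eq_top.1 h
    exact hK.2.2 H hH hHK (le_antisymm hle h1)
  · exfalso
    -- the image of `H` is perfect and abelian, hence trivial
    have hperf' : ⁅H.map π, H.map π⁆ = H.map π := by rw [← map_commutator, hperf]
    have hab : ⁅H.map π, H.map π⁆ = ⊥ := by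
      rw [commutator_eq_bot_iff_forall_commute]
      intro a ha b hb
      have hb' : (⟨b, hle hb⟩ : Kbar) ∈ center Kbar := h (mem_subgroupOf.2 hb)
      have := Subgroup.mem_center_iff.1 hb' ⟨a, hle ha⟩
      exact congrArg Subtype.val this
    rw [hperf'] at hab
    have hHO : H ≤ O := by
      rw [Subgroup.map_eq_bot_iff, hπ, QuotientGroup.ker_mk'] at hab
      exact hab
    have hc : (Nat.card H).Coprime p :=
      Nat.Coprime.coprime_dvd_left (card_dvd_of_le hHO) (pPrimeCore_coprime p)
    rw [Nat.coprime_comm, Nat.Prime.coprime_iff_not_dvd hp.out] at hc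
    exact hc hdvd

/-- S1289. -/
theorem IsPComponent.characterization {K : Subgroup G} (hK : IsPComponent p K) :
    K.IsSubnormal ∧ ⁅K, K⁆ = K ∧ p ∣ Nat.card K ∧
      ∀ H : Subgroup G, H ≤ K → H.IsSubnormal → ⁅H, H⁆ = H → p ∣ Nat.card H → H = K :=
  ⟨hK.1, IsPComponent.commutator_eq hK, IsPComponent.dvd_card hK,
    fun _ h1 h2 h3 h4 => IsPComponent.eq_of_subnormal_perfect hK h1 h2 h3 h4⟩

/-- The `p`-layer normalises each `p`-component. -/
theorem pLayer_le_normalizer_pComponent {K : Subgroup G} (hK : IsPComponent p K) :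
    pLayer p G ≤ normalizer (K : Set G) := by
  set O := pPrimeCore p G with hO
  set π := QuotientGroup.mk' O with hπ
  set Kbar := K.map π with hKbar
  have hcomp : IsComponent Kbar := hK.2.1
  have h1 : (pLayer p G).map π ≤ normalizer (Kbar : Set _) := by
    have := map_pLayer (G := G) (p := p)
    rw [hπ, this]
    exact layer_le_normalizer_component hcomp
  have h2 : pLayer p G ≤ normalizer ((Kbar.comap π : Subgroup G) : Set G) := by
    rw [map_le_iff_le_comap] at h1
    exact h1.trans (le_normalizer_comap π)
  have h3 : K = pGen p (Kbar.comap π) := IsPComponent.eq_pCompOver hK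
  calc pLayer p G ≤ normalizer ((Kbar.comap π : Subgroup G) : Set G) := h2
    _ ≤ normalizer ((pGen p (Kbar.comap π) : Subgroup G) : Set G) :=
      normalizer_le_normalizer_pGen _
    _ = normalizer (K : Set G) := by rw [← h3]

/-- S1274. -/
theorem IsPComponent.normal_subgroupOf_pLayer {K : Subgroup G} (hK : IsPComponent p K) :
    (K.subgroupOf (pLayer p G)).Normal :=
  (normal_subgroupOf_iff_le_normalizer (le_sSup hK)).2 (pLayer_le_normalizer_pComponent hK)

end Cfsg.Agent.Helper7
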