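import Mathlib
import Cfsg.Prelude.Def_Local
import Cfsg.Agent.Helper7.PComponent2

set_option autoImplicit false
set_option linter.style.haveILetI false
set_option linter.unusedSectionVars false

/-! # `p`-components: quasisimplicity, cores -/

namespace Cfsg.Agent.Helper7

open Subgroup Cfsg
open Cfsg.Agent.Helper19 (pPrimeCore_coprime)

universe u

/-- A nontrivial homomorphic image of a quasisimple group is quasisimple. -/
theorem isQuasisimple_of_surjective' {L M : Type*} [Group L] [Group M] [Nontrivial M]
    (hL : IsQuasisimple L) (f : L →* M) (hf : Function.Surjective f) : IsQuasisimple M := by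
  haveI : Group.IsPerfect L := hL.1
  apply isQuasisimple_of_normal_le_center (Group.IsPerfect.ofSurjective (f := f) hf)
  intro N hN
  haveI : (N.comap f).Normal := hN.comap f
  rcases IsQuasisimple.normal_eq_top_or_le_center hL (N.comap f) with h | h
  · left
    rw [← comap_top f] at h
    exact comap_injective hf h
  · right
    intro n hn
    obtain ⟨l, rfl⟩ := hf n
    have hl : l ∈ center L := h hn
    rw [Subgroup.mem_center_iff]
    intro m
    obtain ⟨l', rfl⟩ := hf m
    rw [← map_mul, ← map_mul, Subgroup.mem_center_iff.1 hl l']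

/-- A perfect central extension of a quasisimple group is quasisimple. -/
theorem isQuasisimple_of_quotient_central {Y : Type*} [Group Y] (hperf : Group.IsPerfect Y)
    (Z : Subgroup Y) [Z.Normal] (hZ : Z ≤ center Y) (hq : IsQuasisimple (Y ⧸ Z)) :
    IsQuasisimple Y := by
  haveI : Nontrivial (Y ⧸ Z) := IsQuasisimple.nontrivial hq
  haveI : Nontrivial Y := Function.Surjective.nontrivial (QuotientGroup.mk'_surjective Z)
  apply isQuasisimple_of_normal_le_center hperf
  intro N hN
  have hNn : (N.map (QuotientGroup.mk' Z)).Normal := hN.map _ (QuotientGroup.mk'_surjective Z)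
  have hperf' : ⁅(⊤ : Subgroup Y), (⊤ : Subgroup Y)⁆ = (⊤ : Subgroup Y) := by
    rw [← commutator_def]; exact Group.isPerfect_def.1 hperf
  rcases IsQuasisimple.normal_eq_top_or_le_center hq (N.map (QuotientGroup.mk' Z)) with h | h
  · left
    -- `N ⊔ Z = ⊤`
    have h1 : N ⊔ Z = ⊤ := by
      have := congrArg (comap (QuotientGroup.mk' Z)) h
      rwa [comap_map_eq, QuotientGroup.ker_mk', comap_top] at this
    have h2 : N ⊔ center Y = ⊤ := by
      rw [eq_top_iff, ← h1]; exact sup_le_sup_left hZ N
    have h3 : ⁅N, N⁆ = ⊤ := by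
      rw [← commutator_sup_center_both, h2, hperf']
    rw [eq_top_iff, ← h3]
    exact commutator_le_self N
  · right
    -- `⁅N, ⊤⁆ ≤ Z`
    have h1 : ⁅N, (⊤ : Subgroup Y)⁆ ≤ Z := by
      rw [← QuotientGroup.ker_mk' Z, ← Subgroup.map_eq_bot_iff, map_commutator, eq_bot_iff,
        commutator_le]
      intro a ha b _
      rw [mem_bot, commutatorElement_eq_one_iff_commute]
      exact (Subgroup.mem_center_iff.1 (h ha) b).symm
    have h2 : ⁅⁅N, (⊤ : Subgroup Y)⁆, (⊤ : Subgroup Y)⁆ = ⊥ := by
      rw [eq_bot_iff]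
      calc ⁅⁅N, (⊤ : Subgroup Y)⁆, (⊤ : Subgroup Y)⁆ ≤ ⁅center Y, ⊤⁆ :=
            commutator_mono (h1.trans hZ) le_rfl
        _ = ⊥ := by
            rw [commutator_eq_bot_iff_le_centralizer, coe_top, centralizer_univ]
    have h3 := commutator_eq_bot_of_perfect hperf' h2
    rw [commutator_comm, commutator_eq_bot_iff_le_centralizer, coe_top, centralizer_univ] at h3
    exact h3

variable {G : Type u} [Group G] [Finite G] {p : ℕ} [hp : Fact p.Prime]

/-- `O_{p'}(K) = O_{p'}(G) ∩ K` for subnormal `K`. -/
theorem pPrimeCore_eq_subgroupOf {K : Subgroup G} (hK : K.IsSubnormal) :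
    pPrimeCore p K = (pPrimeCore p G).subgroupOf K := by
  apply le_antisymm
  · rw [subgroupOf, ← map_le_iff_le_comap]
    apply subnormal_coprime_le_pPrimeCore
    · exact (Subgroup.Normal.isSubnormal (pPrimeCore_normal p K)).trans' hK
    · rw [← Nat.card_congr ((pPrimeCore p K).equivMapOfInjective _
        (subtype_injective K)).toEquiv]
      exact pPrimeCore_coprime p
  · apply le_pPrimeCore inferInstance
    rw [Cfsg.Agent.Helper17.card_subgroupOf]
    exact Nat.Coprime.coprime_dvd_left (card_dvd_of_le inf_le_left) (pPrimeCore_coprime p)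

theorem map_subtype_pPrimeCore {K : Subgroup G} (hK : K.IsSubnormal) :
    (pPrimeCore p K).map K.subtype = pPrimeCore p G ⊓ K := by
  rw [pPrimeCore_eq_subgroupOf hK, subgroupOf_map_subtype]

/-- `K / O_{p'}(K)` is isomorphic to the image of `K` in `G / O_{p'}(G)`. -/
noncomputable def quotientPPrimeCoreEquiv {K : Subgroup G} (hK : K.IsSubnormal) :
    (K ⧸ pPrimeCore p K) ≃* (K.map (QuotientGroup.mk' (pPrimeCore p G))) := by
  let φ : K →* G ⧸ pPrimeCore p G := (QuotientGroup.mk' (pPrimeCore p G)).comp K.subtype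
  have hker : pPrimeCore p K = φ.ker := by
    rw [pPrimeCore_eq_subgroupOf hK]
    ext x
    simp only [φ, mem_subgroupOf, MonoidHom.mem_ker, MonoidHom.comp_apply, coe_subtype,
      QuotientGroup.mk'_apply, QuotientGroup.eq_one_iff]
  have hrange : φ.range = K.map (QuotientGroup.mk' (pPrimeCore p G)) := by
    rw [MonoidHom.range_comp, range_subtype]
  exact (QuotientGroup.quotientMulEquivOfEq hker).trans
    ((QuotientGroup.quotientKerEquivRange φ).trans (MulEquiv.subgroupCongr hrange))

/-- S1275 (any prime). -/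
theorem IsPComponent.isQuasisimple_quotient {K : Subgroup G} (hK : IsPComponent p K) :
    IsQuasisimple (K ⧸ pPrimeCore p K) :=
  isQuasisimple_of_mulEquiv (quotientPPrimeCoreEquiv hK.1).symm hK.2.1.2

theorem IsPComponent.pPrimeCore_ne_top {K : Subgroup G} (hK : IsPComponent p K) :
    pPrimeCore p K ≠ ⊤ := by
  intro h
  have h1 : (Nat.card (pPrimeCore p K)).Coprime p := pPrimeCore_coprime p
  rw [h, card_top] at h1
  rw [Nat.coprime_comm, Nat.Prime.coprime_iff_not_dvd hp.out] at h1
  exact h1 (IsPComponent.dvd_card hK)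

/-- S1276 (any prime). -/
theorem IsPComponent.isQuasisimple_iff {K : Subgroup G} (hK : IsPComponent p K) :
    IsQuasisimple K ↔ ⁅K, (pPrimeCore p K).map K.subtype⁆ = ⊥ := by
  constructor
  · intro hq
    rcases IsQuasisimple.normal_eq_top_or_le_center hq (pPrimeCore p K) with h | h
    · exact absurd h (IsPComponent.pPrimeCore_ne_top hK)
    · rw [commutator_eq_bot_iff_forall_commute]
      rintro a ha _ ⟨b, hb, rfl⟩
      have := Subgroup.mem_center_iff.1 (h hb) ⟨a, ha⟩
      exact congrArg Subtype.val this
  · intro hc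
    have hperf : Group.IsPerfect K := Subgroup.isPerfect_iff.2 (IsPComponent.commutator_eq hK)
    apply isQuasisimple_of_quotient_central hperf (pPrimeCore p K) _
      (IsPComponent.isQuasisimple_quotient hK)
    intro b hb
    rw [Subgroup.mem_center_iff]
    intro a
    apply Subtype.ext
    exact commutator_eq_bot_iff_forall_commute.1 hc a a.2 b ⟨b, hb, rfl⟩

end Cfsg.Agent.Helper7
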