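import Mathlib
import Cfsg.Prelude.Def_Local
import Cfsg.Agent.Helper7.PComponent3

set_option autoImplicit false
set_option linter.style.haveILetI false
set_option linter.unusedSectionVars false

/-! # `p`-components versus components -/

namespace Cfsg.Agent.Helper7

open Subgroup Cfsg
open Cfsg.Agent.Helper19 (pPrimeCore_coprime)

universe u

variable {G : Type u} [Group G] [Finite G] {p : ℕ} [hp : Fact p.Prime]

/-- The image of a component in `G/O_{p'}(G)` is trivial or a component. -/
theorem IsComponent.map_mk_eq_bot_or {L : Subgroup G} (hL : IsComponent L) :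
    L.map (QuotientGroup.mk' (pPrimeCore p G)) = ⊥ ∨
      IsComponent (L.map (QuotientGroup.mk' (pPrimeCore p G))) := by
  set π := QuotientGroup.mk' (pPrimeCore p G) with hπ
  by_cases h : L.map π = ⊥
  · exact Or.inl h
  · right
    refine ⟨hL.1.map (f := π) (QuotientGroup.mk'_surjective _), ?_⟩
    haveI : Nontrivial (L.map π) := (nontrivial_iff_ne_bot _).2 h
    exact isQuasisimple_of_surjective' hL.2 (π.subgroupMap L) (π.subgroupMap_surjective L)

/-- The image of `E(G)` lies in `E(G/O_{p'}(G))`. -/
theorem map_layer_le : (layer G).map (QuotientGroup.mk' (pPrimeCore p G)) ≤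
    layer (G ⧸ pPrimeCore p G) := by
  rw [map_le_iff_le_comap, layer_le_iff]
  intro L hL
  rw [← map_le_iff_le_comap]
  rcases IsComponent.map_mk_eq_bot_or (p := p) hL with h | h
  · rw [h]; exact bot_le
  · exact IsComponent.le_layer h

/-- A `p`-component whose image is the image of a component is that component. -/
theorem IsPComponent.eq_of_map_eq {K L : Subgroup G} (hK : IsPComponent p K)
    (hL : IsComponent L)
    (h : L.map (QuotientGroup.mk' (pPrimeCore p G)) =
      K.map (QuotientGroup.mk' (pPrimeCore p G))) : K = L := by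
  have hKL : K ≤ L := by
    rw [IsPComponent.eq_pCompOver hK]
    exact pCompOver_le_of_map_eq hL.1 h
  rcases IsQuasisimple.subnormal_eq_top_or_le_center hL.2 (hK.1.subgroupOf (K := L)) with h1 | h1
  · exact le_antisymm hKL (subgroupOf_eq_top.1 h1)
  · exfalso
    -- `K` is abelian and perfect, hence trivial
    have hab : ⁅K, K⁆ = ⊥ := by
      rw [commutator_eq_bot_iff_forall_commute]
      intro a ha b hb
      have hb' : (⟨b, hKL hb⟩ : L) ∈ center L := h1 (mem_subgroupOf.2 hb)
      have := Subgroup.mem_center_iff.1 hb' ⟨a, hKL ha⟩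
      exact congrArg Subtype.val this
    rw [IsPComponent.commutator_eq hK] at hab
    apply IsPComponent.not_le_pPrimeCore hK
    rw [hab]; exact bot_le

/-- S1277 (any prime). -/
theorem map_layer_eq_iff : (layer G).map (QuotientGroup.mk' (pPrimeCore p G)) =
    layer (G ⧸ pPrimeCore p G) ↔ pLayer p G ≤ layer G := by
  set π := QuotientGroup.mk' (pPrimeCore p G) with hπ
  constructor
  · intro h
    unfold pLayer
    apply sSup_le
    intro K hK
    set Kbar := K.map π with hKbar
    have hcomp : IsComponent Kbar := hK.2.1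
    -- some component of `G` maps onto `Kbar`
    have hex : ∃ L : Subgroup G, IsComponent L ∧ L.map π = Kbar := by
      by_contra hne
      push Not at hne
      have h1 : layer (G ⧸ pPrimeCore p G) ≤ centralizer (Kbar : Set _) := by
        rw [← h, map_le_iff_le_comap, layer_le_iff]
        intro L hL
        rw [← map_le_iff_le_comap, ← commutator_eq_bot_iff_le_centralizer]
        rcases IsComponent.map_mk_eq_bot_or (p := p) hL with h2 | h2
        · rw [← hπ] at h2
          rw [h2]; exact commutator_bot_left _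
        · exact components_commute h2 hcomp (hne L hL)
      have h2 : ⁅Kbar, Kbar⁆ = ⊥ := by
        rw [commutator_eq_bot_iff_le_centralizer]
        exact (IsComponent.le_layer hcomp).trans h1
      rw [IsComponent.commutator_eq hcomp] at h2
      exact IsComponent.ne_bot hcomp h2
    obtain ⟨L, hL, hLK⟩ := hex
    rw [IsPComponent.eq_of_map_eq hK hL hLK]
    exact IsComponent.le_layer hL
  · intro h
    apply le_antisymm map_layer_le
    rw [← map_pLayer]
    exact map_mono h

theorem IsPComponent.map_injective {K L : Subgroup G} (hK : IsPComponent p K)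
    (hL : IsPComponent p L)
    (h : K.map (QuotientGroup.mk' (pPrimeCore p G)) = L.map (QuotientGroup.mk' (pPrimeCore p G))) :
    K = L := by
  rw [IsPComponent.eq_pCompOver hK, IsPComponent.eq_pCompOver hL, h]

theorem IsPComponent.le_pLayer {K : Subgroup G} (hK : IsPComponent p K) : K ≤ pLayer p G :=
  le_sSup hK

theorem commutator_le_of_le_normalizer' {G : Type*} [Group G] {K A : Subgroup G}
    (hAK : A ≤ normalizer (K : Set G)) : ⁅K, A⁆ ≤ K := by
  rw [commutator_le]
  intro k hk a ha
  rw [commutatorElement_def]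
  have h1 : a * k⁻¹ * a⁻¹ ∈ K := (mem_normalizer_iff.1 (hAK ha) k⁻¹).1 (K.inv_mem hk)
  have : k * a * k⁻¹ * a⁻¹ = k * (a * k⁻¹ * a⁻¹) := by group
  rw [this]
  exact K.mul_mem hk h1

/-- S1278 (any prime). -/
theorem IsPComponent.commutator_le {K L : Subgroup G} (hK : IsPComponent p K)
    (hL : IsPComponent p L) (hne : K ≠ L) :
    ⁅K, L⁆ ≤ (pPrimeCore p K).map K.subtype ⊓ (pPrimeCore p L).map L.subtype ∧
      (IsQuasisimple K → ⁅K, L⁆ = ⊥) := by
  set π := QuotientGroup.mk' (pPrimeCore p G) with hπ
  have hO : ⁅K, L⁆ ≤ pPrimeCore p G := by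
    rw [← QuotientGroup.ker_mk' (pPrimeCore p G), ← Subgroup.map_eq_bot_iff, map_commutator]
    exact components_commute hK.2.1 hL.2.1 (fun h => hne (IsPComponent.map_injective hK hL h))
  have hKn : ⁅K, L⁆ ≤ K :=
    commutator_le_of_le_normalizer' ((IsPComponent.le_pLayer hL).trans (pLayer_le_normalizer_pComponent hK))
  have hLn : ⁅K, L⁆ ≤ L := by
    rw [commutator_comm]
    exact commutator_le_of_le_normalizer'
      ((IsPComponent.le_pLayer hK).trans (pLayer_le_normalizer_pComponent hL))
  have h1 : ⁅K, L⁆ ≤ (pPrimeCore p K).map K.subtype := by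
    rw [map_subtype_pPrimeCore hK.1]; exact le_inf hO hKn
  have h2 : ⁅K, L⁆ ≤ (pPrimeCore p L).map L.subtype := by
    rw [map_subtype_pPrimeCore hL.1]; exact le_inf hO hLn
  refine ⟨le_inf h1 h2, ?_⟩
  intro hq
  have hc := (IsPComponent.isQuasisimple_iff hK).1 hq
  apply commutator_eq_bot_of_perfect (IsPComponent.commutator_eq hK)
  rw [eq_bot_iff]
  calc ⁅⁅L, K⁆, K⁆ = ⁅⁅K, L⁆, K⁆ := by rw [commutator_comm L K]
    _ ≤ ⁅(pPrimeCore p K).map K.subtype, K⁆ := commutator_mono h1 le_rfl
    _ = ⁅K, (pPrimeCore p K).map K.subtype⁆ := commutator_comm _ _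
    _ = ⊥ := hc

end Cfsg.Agent.Helper7
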