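import Mathlib
import Cfsg.Prelude.Def_Local
import Cfsg.Agent.Helper7.PComponent4
import Cfsg.Agent.Lead.Coprime

set_option autoImplicit false
set_option linter.style.haveILetI false
set_option linter.unusedSectionVars false

/-! # `p`-constraint and the `p`-layer -/

namespace Cfsg.Agent.Helper7

open Subgroup Cfsg
open scoped Pointwise
open Cfsg.Agent.Helper14 (pCore_isPGroup le_pCore pCore_characteristic)
open Cfsg.Agent.Helper19 (pPrimeCore_coprime)

universe u

variable {G : Type u} [Group G] [Finite G] {p : ℕ} [hp : Fact p.Prime]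

/-- If `O_{p'}(G) = 1` then `F(G) = O_p(G)`. -/
theorem fittingSubgroup_eq_pCore_of_pPrimeCore_eq_bot (h : pPrimeCore p G = ⊥) :
    fittingSubgroup G = pCore p G := by
  apply le_antisymm _ (pCore_le_fittingSubgroup p)
  rw [fittingSubgroup_eq_pCoreSup, pCoreSup_le_iff]
  intro q hq
  haveI : Fact q.Prime := ⟨hq⟩
  by_cases hqp : q = p
  · subst hqp; exact le_rfl
  · refine le_trans ?_ (bot_le : (⊥ : Subgroup G) ≤ _)
    rw [← h]
    apply le_pPrimeCore inferInstance
    obtain ⟨k, hk⟩ := IsPGroup.iff_card.1 (pCore_isPGroup (G := G) q)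
    rw [hk]
    exact Nat.Coprime.pow_left _ ((Nat.coprime_primes hq hp.out).2 hqp)

theorem pLayer_eq_bot_iff : pLayer p G = ⊥ ↔ layer (G ⧸ pPrimeCore p G) = ⊥ := by
  constructor
  · intro h
    rw [← map_pLayer, h, Subgroup.map_bot]
  · intro h
    unfold pLayer
    rw [sSup_eq_bot]
    intro K hK
    exfalso
    apply IsPComponent.map_ne_bot hK
    rw [eq_bot_iff, ← h]
    exact IsComponent.le_layer hK.2.1

theorem layer_quotient_eq_bot_iff :
    layer (G ⧸ pPrimeCore p G) = ⊥ ↔
      centralizer (pCore p (G ⧸ pPrimeCore p G) : Set (G ⧸ pPrimeCore p G)) ≤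
        pCore p (G ⧸ pPrimeCore p G) := by
  rw [← centralizer_fitting_le_iff_layer_eq_bot,
    fittingSubgroup_eq_pCore_of_pPrimeCore_eq_bot (pPrimeCore_quotient_eq_bot p)]

/-- A Sylow `p`-subgroup of `O_{p',p}(G)` covers `O_p(G/O_{p'}(G))` and meets `O_{p'}(G)`
trivially. -/
theorem sylow_pPrimePCore_props (P : Sylow p (pPrimePCore p G)) :
    ((P : Subgroup (pPrimePCore p G)).map (pPrimePCore p G).subtype) ⊓ pPrimeCore p G = ⊥ ∧
    ((P : Subgroup (pPrimePCore p G)).map (pPrimePCore p G).subtype).map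
      (QuotientGroup.mk' (pPrimeCore p G)) = pCore p (G ⧸ pPrimeCore p G) := by
  set O := pPrimeCore p G with hO
  set π := QuotientGroup.mk' O with hπ
  set U := pCore p (G ⧸ O) with hU
  have hMdef : pPrimePCore p G = U.comap π := rfl
  set P' := (P : Subgroup (pPrimePCore p G)).map (pPrimePCore p G).subtype with hP'
  have hOM : O ≤ pPrimePCore p G := pPrimeCore_le_comap U
  have hP'M : P' ≤ pPrimePCore p G := map_subtype_le _
  have hcardM : Nat.card (pPrimePCore p G) = Nat.card O * Nat.card U :=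
    QuotientGroup.card_preimage_mk O (U : Set (G ⧸ O))
  obtain ⟨k, hk⟩ := IsPGroup.iff_card.1 (pCore_isPGroup (G := G ⧸ O) p)
  have hk' : Nat.card U = p ^ k := hk
  have hOcop : (Nat.card O).Coprime p := pPrimeCore_coprime p
  have hcardP' : Nat.card P' = Nat.card U := by
    have h1 : Nat.card P' = Nat.card (P : Subgroup (pPrimePCore p G)) :=
      (Nat.card_congr ((P : Subgroup (pPrimePCore p G)).equivMapOfInjective _
        (subtype_injective (pPrimePCore p G))).toEquiv).symm
    rw [h1, Sylow.card_eq_multiplicity, hcardM, hk']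
    have hO0 : Nat.card O ≠ 0 := Nat.card_pos.ne'
    have hp0 : p ^ k ≠ 0 := pow_ne_zero _ hp.out.ne_zero
    rw [Nat.factorization_mul hO0 hp0, Finsupp.add_apply,
      Nat.factorization_eq_zero_of_not_dvd
        ((Nat.Prime.coprime_iff_not_dvd hp.out).1 hOcop.symm),
      Nat.Prime.factorization_pow hp.out, Finsupp.single_eq_same, zero_add]
  have hdisj : P' ⊓ O = ⊥ := by
    apply disjoint_iff.1
    apply disjoint_of_coprime_natCard
    rw [hcardP', hk']
    exact Nat.Coprime.pow_left _ hOcop.symm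
  refine ⟨hdisj, ?_⟩
  have hsup : P' ⊔ O = pPrimePCore p G := by
    apply eq_of_le_of_card_ge (sup_le hP'M hOM)
    have h1 := Cfsg.Agent.Helper17.card_sup_mul_card_inf_of_normal O P'
    rw [inf_comm, hdisj, card_bot, mul_one, sup_comm] at h1
    rw [h1, hcardM, hcardP', mul_comm]
  have h2 : (pPrimePCore p G).map π = U := by
    rw [hMdef]
    exact map_comap_eq_self_of_surjective (QuotientGroup.mk'_surjective O) U
  rw [← h2, ← hsup, Subgroup.map_sup]
  have h3 : O.map π = ⊥ := by
    rw [Subgroup.map_eq_bot_iff, hπ, QuotientGroup.ker_mk']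
  rw [h3, sup_bot_eq]

/-- S1327. -/
theorem isPConstrained_iff : IsPConstrained p G ↔ pLayer p G = ⊥ := by
  rw [pLayer_eq_bot_iff, layer_quotient_eq_bot_iff]
  set O := pPrimeCore p G with hO
  set π := QuotientGroup.mk' O with hπ
  set U := pCore p (G ⧸ O) with hU
  have hMdef : pPrimePCore p G = U.comap π := rfl
  constructor
  · intro hc
    have P : Sylow p (pPrimePCore p G) := default
    obtain ⟨hdisj, hmap⟩ := sylow_pPrimePCore_props P
    set P' := (P : Subgroup (pPrimePCore p G)).map (pPrimePCore p G).subtype with hP'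
    have hmap' : P'.map π = U := hmap
    have hdisj' : P' ⊓ O = ⊥ := hdisj
    have hP'p : IsPGroup p P' := P.isPGroup'.map _
    intro cbar hcbar
    obtain ⟨c, rfl⟩ := QuotientGroup.mk'_surjective O cbar
    -- `c P' c⁻¹ ≤ O ⊔ P'`
    have hcomm : ∀ a ∈ P', π c * π a = π a * π c := by
      intro a ha
      have : π a ∈ U := by rw [← hmap']; exact mem_map_of_mem _ ha
      exact ((mem_centralizer_iff.1 hcbar) _ this).symm
    have hB : MulAut.conj c • P' ≤ O ⊔ P' := by
      intro x hx
      rw [Cfsg.Agent.Lead.mem_conj_smul_iff] at hx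
      set a := c⁻¹ * x * c with ha
      have hxa : x = c * a * c⁻¹ := by rw [ha]; group
      have h1 : x * a⁻¹ ∈ O := by
        rw [← QuotientGroup.ker_mk' O, MonoidHom.mem_ker, hxa]
        simp only [map_mul, map_inv]
        rw [← hπ, hcomm a hx]; group
      have : x = (x * a⁻¹) * a := by group
      rw [this]
      exact mul_mem (mem_sup_left h1) (mem_sup_right hx)
    have hcop : (Nat.card P').Coprime (Nat.card O) := by
      obtain ⟨k, hk⟩ := IsPGroup.iff_card.1 hP'p
      rw [hk]
      exact Nat.Coprime.pow_left _ (pPrimeCore_coprime p).symm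
    obtain ⟨u, hu, hconj⟩ := Cfsg.Agent.Lead.sz_conj_rel (K := O) (A := P') (B := MulAut.conj c • P')
      (by rw [normalizer_eq_top]; exact le_top) hcop
      (Or.inl (IsNilpotent.to_isSolvable (G := P') (h := hP'p.isNilpotent)))
      hB (Cfsg.Agent.Lead.card_conj_smul c P')
    -- `d = u⁻¹ c` centralises `P'`
    have hd : u⁻¹ * c ∈ centralizer (P' : Set G) := by
      rw [mem_centralizer_iff]
      intro a ha
      have ha' : a ∈ P' := ha
      have h1 : c * a * c⁻¹ ∈ MulAut.conj u • P' := by
        rw [hconj, Cfsg.Agent.Lead.mem_conj_smul_iff]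
        have : c⁻¹ * (c * a * c⁻¹) * c = a := by group
        rw [this]; exact ha'
      rw [Cfsg.Agent.Lead.mem_conj_smul_iff] at h1
      set b := u⁻¹ * (c * a * c⁻¹) * u with hb
      have h2 : b * a⁻¹ ∈ O := by
        rw [← QuotientGroup.ker_mk' O, MonoidHom.mem_ker, hb]
        have hu1 : π u = 1 := (QuotientGroup.eq_one_iff u).2 hu
        simp only [map_mul, map_inv]
        rw [← hπ, hu1, hcomm a ha']; group
      have h3 : b * a⁻¹ ∈ P' ⊓ O := mem_inf.2 ⟨P'.mul_mem h1 (P'.inv_mem ha'), h2⟩
      rw [hdisj', mem_bot] at h3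
      have h4 : b = a := by
        rw [mul_inv_eq_one] at h3; exact h3
      have : a * (u⁻¹ * c) = u⁻¹ * c * a := by
        calc a * (u⁻¹ * c) = b * (u⁻¹ * c) := by rw [h4]
          _ = u⁻¹ * c * a := by rw [hb]; group
      exact this
    have hdM : u⁻¹ * c ∈ pPrimePCore p G := hc P hd
    have hπd : π (u⁻¹ * c) = π c := by
      have hu1 : π u = 1 := (QuotientGroup.eq_one_iff u).2 hu
      simp only [map_mul, map_inv, hu1, inv_one, one_mul]
    rw [← hπd]
    exact hdM
  · intro hc P
    obtain ⟨hdisj, hmap⟩ := sylow_pPrimePCore_props P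
    have hmap' : ((P : Subgroup (pPrimePCore p G)).map (pPrimePCore p G).subtype).map π = U :=
      hmap
    intro c hcP
    show π c ∈ U
    apply hc
    rw [mem_centralizer_iff]
    intro abar habar
    rw [SetLike.mem_coe, ← hmap'] at habar
    obtain ⟨a, ha, rfl⟩ := habar
    rw [← map_mul, ← map_mul, (mem_centralizer_iff.1 hcP) a ha]

end Cfsg.Agent.Helper7
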