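import Mathlib
import Cfsg.Prelude.Def_Local
import Cfsg.Agent.Helper7.PConstrained

set_option autoImplicit false
set_option linter.style.haveILetI false
set_option linter.unusedSectionVars false

/-! # Local subgroups of `p`-constrained groups -/

namespace Cfsg.Agent.Helper7

open Subgroup Cfsg
open scoped Pointwise
open Cfsg.Agent.Helper14 (pCore_isPGroup le_pCore pCore_characteristic)
open Cfsg.Agent.Helper19 (pPrimeCore_coprime)

universe u

variable {G : Type u} [Group G] [Finite G] {p : ℕ} [hp : Fact p.Prime]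

/-- Normalizers of `p`-subgroups pass to quotients by normal `p'`-subgroups. -/
theorem normalizer_map_mk_eq {O : Subgroup G} [hO : O.Normal] (hOp : (Nat.card O).Coprime p)
    {P : Subgroup G} (hP : IsPGroup p P) :
    normalizer ((P.map (QuotientGroup.mk' O) : Subgroup (G ⧸ O)) : Set (G ⧸ O)) =
      (normalizer (P : Set G)).map (QuotientGroup.mk' O) := by
  set π := QuotientGroup.mk' O with hπ
  apply le_antisymm _ (le_normalizer_map π)
  intro xbar hx
  obtain ⟨x, rfl⟩ := QuotientGroup.mk'_surjective O xbar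
  have hB : MulAut.conj x • P ≤ O ⊔ P := by
    intro y hy
    rw [Cfsg.Agent.Lead.mem_conj_smul_iff] at hy
    set a := x⁻¹ * y * x with ha
    have hya : y = x * a * x⁻¹ := by rw [ha]; group
    -- `π y ∈ map π P`
    have h1 : π y ∈ P.map π := by
      rw [hya]
      have := (mem_normalizer_iff.1 hx (π a)).1 (mem_map_of_mem _ hy)
      rw [map_mul, map_mul, map_inv]
      exact this
    obtain ⟨b, hb, hby⟩ := h1
    have h2 : y * b⁻¹ ∈ O := by
      rw [← QuotientGroup.ker_mk' O, MonoidHom.mem_ker]
      simp only [map_mul, map_inv]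
      rw [← hπ, hby]; group
    have : y = (y * b⁻¹) * b := by group
    rw [this]
    exact mul_mem (mem_sup_left h2) (mem_sup_right hb)
  have hcop : (Nat.card P).Coprime (Nat.card O) := by
    obtain ⟨k, hk⟩ := IsPGroup.iff_card.1 hP
    rw [hk]
    exact Nat.Coprime.pow_left _ hOp.symm
  obtain ⟨u, hu, hconj⟩ := Cfsg.Agent.Lead.sz_conj_rel (K := O) (A := P) (B := MulAut.conj x • P)
    (by rw [normalizer_eq_top]; exact le_top) hcop
    (Or.inl (IsNilpotent.to_isSolvable (G := P) (h := hP.isNilpotent)))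
    hB (Cfsg.Agent.Lead.card_conj_smul x P)
  have hd : u⁻¹ * x ∈ normalizer (P : Set G) := by
    rw [mem_normalizer_iff]
    intro a
    have h1 : ∀ y, y ∈ MulAut.conj u • P ↔ y ∈ MulAut.conj x • P := fun y => by rw [hconj]
    have h2 := h1 (x * a * x⁻¹)
    rw [Cfsg.Agent.Lead.mem_conj_smul_iff, Cfsg.Agent.Lead.mem_conj_smul_iff] at h2
    have e1 : u⁻¹ * (x * a * x⁻¹) * u = u⁻¹ * x * a * (u⁻¹ * x)⁻¹ := by group
    have e2 : x⁻¹ * (x * a * x⁻¹) * x = a := by group
    rw [e1, e2] at h2
    exact h2.symm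
  refine ⟨u⁻¹ * x, hd, ?_⟩
  have hu1 : π u = 1 := (QuotientGroup.eq_one_iff u).2 hu
  rw [map_mul, map_inv, hu1, inv_one, one_mul]

/-- If `F*(M) = O_p(M)` then `O_{p'}(M) = 1`. -/
theorem pPrimeCore_eq_bot_of_generalizedFitting_eq_pCore {M : Type u} [Group M] [Finite M]
    (h : generalizedFittingSubgroup M = pCore p M) : pPrimeCore p M = ⊥ := by
  have hd : pPrimeCore p M ⊓ pCore p M = ⊥ := by
    apply disjoint_iff.1
    apply disjoint_of_coprime_natCard
    obtain ⟨k, hk⟩ := IsPGroup.iff_card.1 (pCore_isPGroup (G := M) p)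
    rw [hk]
    exact Nat.Coprime.pow_right _ (pPrimeCore_coprime p)
  have h1 : ⁅pPrimeCore p M, pCore p M⁆ = ⊥ := by
    rw [eq_bot_iff, ← hd]
    exact le_inf (commutator_le_left _ _) (commutator_le_right _ _)
  have h2 : pPrimeCore p M ≤ pCore p M := by
    rw [commutator_eq_bot_iff_le_centralizer] at h1
    have := centralizer_generalizedFitting_le (G := M)
    rw [h] at this
    exact h1.trans this
  rw [eq_bot_iff, ← hd]
  exact le_inf le_rfl h2

/-- If `F*(M) = O_p(M)` then `E(M) = 1`. -/
theorem layer_eq_bot_of_generalizedFitting_eq_pCore {M : Type u} [Group M] [Finite M]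
    (h : generalizedFittingSubgroup M = pCore p M) : layer M = ⊥ := by
  rw [← centralizer_fitting_le_iff_layer_eq_bot]
  have h1 : fittingSubgroup M = generalizedFittingSubgroup M :=
    le_antisymm (fitting_le_generalizedFitting M) (h ▸ pCore_le_fittingSubgroup p)
  rw [h1]
  exact centralizer_generalizedFitting_le

/-- If `O_{p'}(G) = 1` and `E(G) = 1` then `F*(G) = O_p(G)`. -/
theorem generalizedFitting_eq_pCore_of {M : Type u} [Group M] [Finite M]
    (h1 : pPrimeCore p M = ⊥) (h2 : layer M = ⊥) : generalizedFittingSubgroup M = pCore p M := by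
  unfold generalizedFittingSubgroup
  rw [h2, bot_sup_eq, fittingSubgroup_eq_pCore_of_pPrimeCore_eq_bot h1]

end Cfsg.Agent.Helper7

namespace Cfsg.Agent.Helper7

open Subgroup Cfsg
open scoped Pointwise
open Cfsg.Agent.Helper14 (pCore_isPGroup le_pCore pCore_characteristic)
open Cfsg.Agent.Helper19 (pPrimeCore_coprime)

universe u

variable {G : Type u} [Group G] [Finite G] {p : ℕ} [hp : Fact p.Prime]

/-- S1293. -/
theorem pLayer_normalizer_eq_bot (hL : pLayer p G = ⊥) {P : Subgroup G} (hP : IsPGroup p P) :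
    pLayer p (normalizer (P : Set G)) = ⊥ ∧
      (pPrimeCore p (normalizer (P : Set G))).map (normalizer (P : Set G)).subtype ≤
        pPrimeCore p G := by
  set O := pPrimeCore p G with hO
  set π := QuotientGroup.mk' O with hπ
  set H := normalizer (P : Set G) with hH
  have hGbar : generalizedFittingSubgroup (G ⧸ O) = pCore p (G ⧸ O) :=
    generalizedFitting_eq_pCore_of (pPrimeCore_quotient_eq_bot p) (pLayer_eq_bot_iff.1 hL)
  have hPbar : IsPGroup p (P.map π) := hP.map π
  have hN : normalizer ((P.map π : Subgroup (G ⧸ O)) : Set (G ⧸ O)) = H.map π :=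
    normalizer_map_mk_eq (pPrimeCore_coprime p) hP
  have key : ∀ S : Subgroup (G ⧸ O),
      S = normalizer ((P.map π : Subgroup (G ⧸ O)) : Set (G ⧸ O)) →
        pPrimeCore p S = ⊥ ∧ layer S = ⊥ := by
    rintro S rfl
    have := generalizedFitting_normalizer_eq_pCore p hGbar hPbar
    exact ⟨pPrimeCore_eq_bot_of_generalizedFitting_eq_pCore this,
      layer_eq_bot_of_generalizedFitting_eq_pCore this⟩
  obtain ⟨hS1, hS2⟩ := key (H.map π) hN.symm
  set φ : H →* H.map π := π.subgroupMap H with hφ
  have hφsurj : Function.Surjective φ := π.subgroupMap_surjective H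
  have hker : φ.ker = O.subgroupOf H := by
    ext x
    rw [MonoidHom.mem_ker, mem_subgroupOf]
    constructor
    · intro h
      have h1 : ((φ x : H.map π) : G ⧸ O) = 1 := congrArg Subtype.val h
      exact (QuotientGroup.eq_one_iff (x : G)).1 h1
    · intro h
      apply Subtype.ext
      exact (QuotientGroup.eq_one_iff (x : G)).2 h
  -- (i)
  have hY : pPrimeCore p H ≤ φ.ker := by
    have h1 : (pPrimeCore p H).map φ ≤ pPrimeCore p (H.map π) := by
      apply le_pPrimeCore
      · exact (pPrimeCore_normal p H).map φ hφsurj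
      · exact Nat.Coprime.coprime_dvd_left (card_map_dvd _ _) (pPrimeCore_coprime p)
    rw [hS1, le_bot_iff, Subgroup.map_eq_bot_iff] at h1
    exact h1
  have hY' : pPrimeCore p H = φ.ker := by
    apply le_antisymm hY
    rw [hker]
    apply le_pPrimeCore inferInstance
    rw [Cfsg.Agent.Helper17.card_subgroupOf]
    exact Nat.Coprime.coprime_dvd_left (card_dvd_of_le inf_le_left) (pPrimeCore_coprime p)
  constructor
  · rw [pLayer_eq_bot_iff]
    let e : (H ⧸ pPrimeCore p H) ≃* (H.map π) :=
      (QuotientGroup.quotientMulEquivOfEq hY').trans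
        (QuotientGroup.quotientKerEquivOfSurjective φ hφsurj)
    have := layer_map_equiv e.symm
    rw [hS2, Subgroup.map_bot] at this
    exact this.symm
  · rw [map_le_iff_le_comap]
    calc pPrimeCore p H ≤ φ.ker := hY
      _ = O.subgroupOf H := hker

end Cfsg.Agent.Helper7
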