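import Mathlib
import Cfsg.Prelude.Def_Balance
import Cfsg.Agent.Helper7.Basic

set_option autoImplicit false
set_option linter.style.haveILetI false
set_option linter.unusedSectionVars false

/-! # S1335 -/

namespace Cfsg.Agent.Helper7

open Subgroup Cfsg

/-- `PRankLE` transfers along injective homomorphisms (backwards). -/
theorem PRankLE.of_injective {G H : Type*} [Group G] [Group H] {p k : ℕ} (f : G →* H)
    (hf : Function.Injective f) (h : PRankLE p k H) : PRankLE p k G := by
  intro A hA hAp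
  have hc : IsMulCommutative (A.map f) := by
    refine ⟨⟨?_⟩⟩
    rintro ⟨_, ⟨a, ha, rfl⟩⟩ ⟨_, ⟨b, hb, rfl⟩⟩
    apply Subtype.ext
    have := hA.is_comm.comm (⟨a, ha⟩ : A) ⟨b, hb⟩
    have h2 := congrArg (fun x : A => f (x : G)) this
    simpa using h2
  have hp : ∀ x ∈ A.map f, x ^ p = 1 := by
    rintro _ ⟨a, ha, rfl⟩
    rw [← map_pow, hAp a ha, map_one]
  have := h (A.map f) hc hp
  rwa [← Nat.card_congr (A.equivMapOfInjective f hf).toEquiv] at this

/-- S1335. -/
theorem sylow_of_normalizers_le {G : Type*} [Group G] [Finite G] {p : ℕ} [hp : Fact p.Prime]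
    (k : ℕ) (H : Subgroup G) (P : Sylow p H)
    (hP : ¬ PRankLE p (k - 1) (P : Subgroup H))
    (hΓ : ∀ X : Subgroup G, X ≤ (P : Subgroup H).map H.subtype → ¬ PRankLE p (k - 1) X →
      normalizer (X : Set G) ≤ H) :
    ∃ Q : Sylow p G, (Q : Subgroup G) = (P : Subgroup H).map H.subtype := by
  set P' := (P : Subgroup H).map H.subtype with hP'
  have hP'p : IsPGroup p P' := P.isPGroup'.map _
  have hP'H : P' ≤ H := map_subtype_le _
  obtain ⟨Q, hQ⟩ := hP'p.exists_le_sylow
  refine ⟨Q, le_antisymm ?_ hQ⟩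
  by_contra hne
  -- `P'` is a proper subgroup of `Q`, so its normalizer in `Q` is bigger
  have hrank : ¬ PRankLE p (k - 1) P' := by
    intro h
    apply hP
    exact PRankLE.of_injective
      ((P : Subgroup H).equivMapOfInjective H.subtype (subtype_injective H)).toMonoidHom
      ((P : Subgroup H).equivMapOfInjective H.subtype (subtype_injective H)).injective h
  have hN : normalizer (P' : Set G) ≤ H := hΓ P' le_rfl hrank
  haveI : Group.IsNilpotent (Q : Subgroup G) := Q.isPGroup'.isNilpotent
  have hnc := Group.normalizerCondition_of_isNilpotent (G := (Q : Subgroup G))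
  have hlt : P'.subgroupOf (Q : Subgroup G) < ⊤ := by
    rw [lt_top_iff_ne_top]
    intro h
    exact hne (subgroupOf_eq_top.1 h)
  have h2 := hnc _ hlt
  obtain ⟨x, hxN, hxP⟩ := SetLike.exists_of_lt h2
  have hxN' : (x : G) ∈ normalizer (P' : Set G) := by
    rw [← subgroupOf_normalizer_eq hQ] at hxN
    exact mem_subgroupOf.1 hxN
  have hxH : (x : G) ∈ H := hN hxN'
  -- the subgroup generated by `P'` and `x`
  set R := P' ⊔ zpowers (x : G) with hR
  have hRQ : R ≤ Q := sup_le hQ (zpowers_le.2 x.2)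
  have hRp : IsPGroup p R := Q.isPGroup'.to_le hRQ
  have hRH : R ≤ H := sup_le hP'H (zpowers_le.2 hxH)
  have hmax := P.is_maximal' (Q := R.subgroupOf H) hRp.comap_subtype (by
    intro t ht
    rw [mem_subgroupOf]
    exact le_sup_left (a := P') (mem_map_of_mem _ ht))
  apply hxP
  rw [mem_subgroupOf]
  have hx1 : (⟨(x : G), hxH⟩ : H) ∈ R.subgroupOf H := by
    rw [mem_subgroupOf]
    exact le_sup_right (a := P') (mem_zpowers _)
  rw [hmax] at hx1
  exact ⟨_, hx1, rfl⟩

end Cfsg.Agent.Helper7
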