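import Mathlib
import Cfsg.Prelude.Def_Balance
import Cfsg.Agent.Helper7.Layer
import Cfsg.Agent.Helper17.Basic
import Cfsg.Agent.Lead.Coprime3

set_option autoImplicit false
set_option linter.style.haveILetI false
set_option linter.unusedSectionVars false

/-! # Signalizer functors: elementary facts -/

namespace Cfsg.Agent.Helper7

open Subgroup Cfsg

/-- An extension of solvable subgroups is solvable. -/
theorem isSolvable_sup_of_le_normalizer {G : Type*} [Group G] {X Y : Subgroup G}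
    (hX : Group.IsSolvable X) (hY : Group.IsSolvable Y) (h : Y ≤ normalizer (X : Set G)) :
    Group.IsSolvable ↥(X ⊔ Y) := by
  have hXU : X ≤ X ⊔ Y := le_sup_left
  haveI : (X.subgroupOf (X ⊔ Y)).Normal :=
    (normal_subgroupOf_iff_le_normalizer hXU).2 (sup_le le_normalizer h)
  -- the quotient is an image of `Y`
  let g : ↥(X ⊔ Y) →* ↥(X ⊔ Y) ⧸ X.subgroupOf (X ⊔ Y) := QuotientGroup.mk' _
  let f : X →* ↥(X ⊔ Y) := inclusion hXU
  let j : Y →* ↥(X ⊔ Y) ⧸ X.subgroupOf (X ⊔ Y) := g.comp (inclusion le_sup_right)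
  have hj : Function.Surjective j := by
    intro q
    obtain ⟨u, rfl⟩ := QuotientGroup.mk'_surjective _ q
    obtain ⟨x, hx, y, hy, hxy⟩ := (mem_sup_of_le_normalizer h).1 u.2
    refine ⟨⟨y, hy⟩, ?_⟩
    show g (inclusion le_sup_right ⟨y, hy⟩) = g u
    rw [QuotientGroup.mk'_apply, QuotientGroup.mk'_apply, QuotientGroup.eq, mem_subgroupOf]
    have h1 : y⁻¹ * x * y⁻¹⁻¹ ∈ X := (mem_normalizer_iff.1 (h (Y.inv_mem hy)) x).1 hx
    have h2 : (((inclusion le_sup_right ⟨y, hy⟩ : ↥(X ⊔ Y))⁻¹ * u : ↥(X ⊔ Y)) : G) =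
        y⁻¹ * x * y⁻¹⁻¹ := by
      simp only [coe_mul, coe_inclusion, InvMemClass.coe_inv]
      rw [← hxy]; group
    rw [h2]; exact h1
  haveI : Group.IsSolvable (↥(X ⊔ Y) ⧸ X.subgroupOf (X ⊔ Y)) := Group.isSolvable_of_surjective hj
  apply Group.isSolvable_of_ker_le_range f g
  intro u hu
  rw [QuotientGroup.ker_mk', mem_subgroupOf] at hu
  exact ⟨⟨u, hu⟩, rfl⟩

end Cfsg.Agent.Helper7

namespace Cfsg.Agent.Helper7

open Subgroup Cfsg

variable {G : Type*} [Group G]

theorem centralizer_zpowers_eq (a : G) :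
    centralizer ((zpowers a : Subgroup G) : Set G) = centralizer ({a} : Set G) := by
  rw [zpowers_eq_closure, centralizer_closure]

/-- Invariance under conjugation by all elements of a subgroup gives normalisation. -/
theorem le_normalizer_of_forall_conj_mem {A U : Subgroup G}
    (h : ∀ b ∈ A, ∀ u ∈ U, b * u * b⁻¹ ∈ U) : A ≤ normalizer (U : Set G) := by
  intro b hb
  rw [mem_normalizer_iff]
  intro n
  constructor
  · exact h b hb n
  · intro hn
    have := h b⁻¹ (A.inv_mem hb) _ hn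
    simpa [mul_assoc] using this

theorem forall_conj_mem_of_le_normalizer {A U : Subgroup G} (h : A ≤ normalizer (U : Set G)) :
    ∀ b ∈ A, ∀ u ∈ U, b * u * b⁻¹ ∈ U :=
  fun b hb u hu => (mem_normalizer_iff.1 (h hb) u).1 hu

theorem normalizer_inf_le_normalizer_sup (X Y : Subgroup G) :
    normalizer (X : Set G) ⊓ normalizer (Y : Set G) ≤ normalizer ((X ⊔ Y : Subgroup G) : Set G) := by
  apply le_normalizer_of_forall_conj_mem
  intro b hb u hu
  have h1 : X ⊔ Y ≤ (X ⊔ Y).comap (MulAut.conj b).toMonoidHom := by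
    apply sup_le
    · intro x hx
      rw [mem_comap]
      exact mem_sup_left ((mem_normalizer_iff.1 hb.1 x).1 hx)
    · intro y hy
      rw [mem_comap]
      exact mem_sup_right ((mem_normalizer_iff.1 hb.2 y).1 hy)
  exact h1 hu

theorem orderOf_eq_prime_of_pow_eq_one {p : ℕ} [hp : Fact p.Prime] {a : G} (h : a ^ p = 1)
    (h1 : a ≠ 1) : orderOf a = p := by
  rcases (Nat.dvd_prime hp.out).1 (orderOf_dvd_of_pow_eq_one h) with h2 | h2
  · exact absurd (orderOf_eq_one_iff.1 h2) h1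
  · exact h2

/-- S1280. -/
theorem signalizerFamily_sup [Finite G] (p : ℕ) [hp : Fact p.Prime] (A : Subgroup G)
    (hA : IsElementaryAbelian p A) (θ : G → Subgroup G) (X Y : Subgroup G)
    (hX : X ∈ signalizerFamily p A θ) (hY : Y ∈ signalizerFamily p A θ)
    (hn : Y ≤ normalizer (X : Set G)) : X ⊔ Y ∈ signalizerFamily p A θ := by
  obtain ⟨hXs, hXp, hXA, hXθ⟩ := hX
  obtain ⟨hYs, hYp, hYA, hYθ⟩ := hY
  have hAX : A ≤ normalizer (X : Set G) := le_normalizer_of_forall_conj_mem hXA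
  have hAY : A ≤ normalizer (Y : Set G) := le_normalizer_of_forall_conj_mem hYA
  have hcard : ¬ p ∣ Nat.card ↥(X ⊔ Y) := by
    intro hdvd
    have h1 := Cfsg.Agent.Helper17.card_sup_mul_card_inf X Y hn
    have h2 : p ∣ Nat.card X * Nat.card Y := by
      rw [← h1]; exact Dvd.dvd.mul_right hdvd _
    rcases (Nat.Prime.dvd_mul hp.out).1 h2 with h3 | h3
    · exact hXp h3
    · exact hYp h3
  refine ⟨isSolvable_sup_of_le_normalizer hXs hYs hn, hcard, ?_, ?_⟩
  · exact forall_conj_mem_of_le_normalizer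
      ((le_inf hAX hAY).trans (normalizer_inf_le_normalizer_sup X Y))
  · intro a ha ha1 k hk
    have hord : orderOf a = p := orderOf_eq_prime_of_pow_eq_one (hA.2 a ha) ha1
    have hcop : (Nat.card (zpowers a)).Coprime (Nat.card ↥(X ⊔ Y)) := by
      rw [Nat.card_zpowers, hord, Nat.Prime.coprime_iff_not_dvd hp.out]
      exact hcard
    have hk' : k ∈ (X ⊔ Y) ⊓ centralizer ((zpowers a : Subgroup G) : Set G) := by
      rw [centralizer_zpowers_eq]; exact hk
    obtain ⟨x, hx, y, hy, rfl⟩ := Cfsg.Agent.Lead.coprime_centralizer_product (zpowers a) (X ⊔ Y)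
      hcop (Or.inl inferInstance) X Y le_sup_left
      ((zpowers_le.2 ha).trans hAX) ((zpowers_le.2 ha).trans hAY)
      (fun k hk => by
        obtain ⟨x, hx, y, hy, hxy⟩ := (mem_sup_of_le_normalizer hn).1 hk
        exact ⟨x, hx, y, hy, hxy.symm⟩) k hk'
    rw [centralizer_zpowers_eq] at hx hy
    exact mul_mem (hXθ a ha ha1 hx) (hYθ a ha ha1 hy)

end Cfsg.Agent.Helper7

namespace Cfsg.Agent.Helper7

open Subgroup Cfsg

variable {G : Type*} [Group G]

/-- S1281. -/
theorem signalizerFunctor_quotient_balance [Finite G] (p : ℕ) [hp : Fact p.Prime]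
    (A : Subgroup G) (hA : IsElementaryAbelian p A) (θ : G → Subgroup G)
    (hθ : IsSolvableSignalizerFunctor p A θ) (N : Subgroup G) [hNn : N.Normal]
    (hN : ¬ p ∣ Nat.card N) (a b : G) (ha : a ∈ A) (ha1 : a ≠ 1) (hb : b ∈ A) (hb1 : b ≠ 1) :
    (θ a).map (QuotientGroup.mk' N) ⊓ centralizer {QuotientGroup.mk' N b} ≤
      (θ b).map (QuotientGroup.mk' N) := by
  set π := QuotientGroup.mk' N with hπ
  obtain ⟨⟨hcent, hpd, hinv, hbal⟩, hsol⟩ := hθ
  rintro xbar ⟨⟨x, hx, rfl⟩, hxb⟩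
  have hxb' : π x * π b = π b * π x := mem_centralizer_singleton_iff.1 hxb
  set D := θ a ⊓ N with hD
  have hAθ : A ≤ normalizer ((θ a : Subgroup G) : Set G) :=
    le_normalizer_of_forall_conj_mem (hinv a ha ha1)
  have hBD : zpowers b ≤ normalizer (D : Set G) := by
    refine le_trans ?_ inf_normalizer_le_normalizer_inf
    refine le_inf ((zpowers_le.2 hb).trans hAθ) ?_
    rw [normalizer_eq_top]; exact le_top
  have hord : orderOf b = p := orderOf_eq_prime_of_pow_eq_one (hA.2 b hb) hb1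
  have hcop : (Nat.card (zpowers b)).Coprime (Nat.card D) := by
    rw [Nat.card_zpowers, hord, Nat.Prime.coprime_iff_not_dvd hp.out]
    intro hdvd
    exact hN (hdvd.trans (card_dvd_of_le inf_le_right))
  have hfix : ∀ c ∈ zpowers b, c * x * c⁻¹ * x⁻¹ ∈ D := by
    intro c hc
    have hcA : c ∈ A := (zpowers_le.2 hb) hc
    rw [hD, mem_inf]
    refine ⟨?_, ?_⟩
    · exact (θ a).mul_mem (hinv a ha ha1 c hcA x hx) ((θ a).inv_mem hx)
    · rw [← QuotientGroup.ker_mk' N, MonoidHom.mem_ker]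
      obtain ⟨n, rfl⟩ := mem_zpowers_iff.1 hc
      have hcomm : Commute (π x) (π b) := hxb'
      have hcomm' : Commute (π x) (π (b ^ n)) := by
        rw [map_zpow]; exact hcomm.zpow_right n
      simp only [map_mul, map_inv]
      rw [← hπ, ← hcomm'.eq]; group
  obtain ⟨c, hc, hcx⟩ := Cfsg.Agent.Lead.coprime_invariant_coset_fixed (zpowers b) D hBD hcop
    (Or.inl inferInstance) x hfix
  have hcθ : c ∈ θ a := by
    have : c = (c * x⁻¹) * x := by group
    rw [this]; exact mul_mem hcx.1 hx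
  have hcb : c ∈ centralizer ({b} : Set G) := by
    rw [← centralizer_zpowers_eq]; exact hc
  refine ⟨c, hbal a ha ha1 b hb hb1 ⟨hcθ, hcb⟩, ?_⟩
  have h1 : π (c * x⁻¹) = 1 := (QuotientGroup.eq_one_iff _).2 hcx.2
  have : c = (c * x⁻¹) * x := by group
  rw [this, map_mul, h1, one_mul]

end Cfsg.Agent.Helper7
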