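import Mathlib
import Cfsg.Prelude.Def_Balance
import Cfsg.Agent.Helper7.Signalizer
import Cfsg.Agent.Lead.GenCent

set_option autoImplicit false
set_option linter.style.haveILetI false
set_option linter.unusedSectionVars false

/-! # Elementary abelian groups: hyperplanes; generation by centralizers of hyperplanes -/

namespace Cfsg.Agent.Helper7

open Subgroup Cfsg

variable {G : Type*} [Group G]

theorem IsElementaryAbelian.commute {p : ℕ} {A : Subgroup G} (hA : IsElementaryAbelian p A)
    {a b : G} (ha : a ∈ A) (hb : b ∈ A) : a * b = b * a := by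
  have := hA.1.is_comm.comm (⟨a, ha⟩ : A) ⟨b, hb⟩
  exact congrArg Subtype.val this

theorem IsElementaryAbelian.mono {p : ℕ} {A B : Subgroup G} (hA : IsElementaryAbelian p A)
    (h : B ≤ A) : IsElementaryAbelian p B := by
  refine ⟨⟨⟨?_⟩⟩, fun b hb => hA.2 b (h hb)⟩
  rintro ⟨a, ha⟩ ⟨b, hb⟩
  apply Subtype.ext
  exact IsElementaryAbelian.commute hA (h ha) (h hb)

theorem IsElementaryAbelian.isPGroup {p : ℕ} [Fact p.Prime] {A : Subgroup G}
    (hA : IsElementaryAbelian p A) : IsPGroup p A := by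
  intro a
  refine ⟨1, ?_⟩
  rw [pow_one]
  apply Subtype.ext
  simpa using hA.2 a a.2

/-- In a group where `b ^ p = 1`, a nontrivial power of `b` generates the same cyclic group. -/
theorem mem_zpowers_pow_of_not_dvd [Finite G] {p : ℕ} [hp : Fact p.Prime] {b : G} (hb : b ^ p = 1) {i : ℕ}
    (hi : ¬ p ∣ i) : b ∈ zpowers (b ^ i) := by
  have hb1 : b ≠ 1 ∨ b = 1 := (em (b = 1)).symm
  rcases hb1 with hb1 | hb1
  · have hord : orderOf b = p := orderOf_eq_prime_of_pow_eq_one hb hb1
    have hcop : Nat.Coprime (orderOf b) i := by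
      rw [hord]; exact (Nat.Prime.coprime_iff_not_dvd hp.out).2 hi
    have h := Nat.Coprime.orderOf_pow (y := b) hcop
    -- zpowers (b^i) ≤ zpowers b with same card
    have hle : zpowers (b ^ i) ≤ zpowers b := zpowers_le.2 (pow_mem (mem_zpowers b) i)
    have hcard : Nat.card (zpowers (b ^ i)) = Nat.card (zpowers b) := by
      rw [Nat.card_zpowers, Nat.card_zpowers, h]
    have heq : zpowers (b ^ i) = zpowers b :=
      Subgroup.eq_of_le_of_card_ge hle hcard.ge
    rw [heq]; exact mem_zpowers b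
  · rw [hb1]; exact one_mem _

/-- Hyperplane lemma: a nonidentity element of an elementary abelian `p`-group is missed by some
subgroup of index `p`. -/
theorem exists_hyperplane_not_mem [Finite G] {p : ℕ} [hp : Fact p.Prime] {A : Subgroup G}
    (hA : IsElementaryAbelian p A) {a : G} (ha : a ∈ A) (ha1 : a ≠ 1) :
    ∃ A₁ : Subgroup G, A₁ ≤ A ∧ a ∉ A₁ ∧ A₁ ⊔ zpowers a = A ∧
      Nat.card A = p * Nat.card A₁ ∧ A₁ ⊓ zpowers a = ⊥ := by
  -- a maximal subgroup of `A` avoiding `a`
  have hne : {B : Subgroup G | B ≤ A ∧ a ∉ B}.Nonempty :=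
    ⟨⊥, bot_le, fun h => ha1 (mem_bot.1 h)⟩
  obtain ⟨A₁, ⟨hA₁A, haA₁⟩, hmax⟩ :=
    (Set.toFinite {B : Subgroup G | B ≤ A ∧ a ∉ B}).exists_maximal hne
  have haz : zpowers a ≤ A := zpowers_le.2 ha
  have hsup : A₁ ⊔ zpowers a = A := by
    apply le_antisymm (sup_le hA₁A haz)
    intro b hb
    by_contra hbn
    have hbA₁ : b ∉ A₁ := fun h => hbn (mem_sup_left h)
    -- `A₁ ⊔ ⟨b⟩` contains `a`
    have h1 : a ∈ A₁ ⊔ zpowers b := by
      by_contra hcon
      have h2 : A₁ ⊔ zpowers b ≤ A₁ :=
        hmax ⟨sup_le hA₁A (zpowers_le.2 hb), hcon⟩ le_sup_left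
      exact hbA₁ (h2 (mem_sup_right (mem_zpowers b)))
    have hcomm : zpowers b ≤ normalizer (A₁ : Set G) := by
      intro x hx
      have hxA : x ∈ A := (zpowers_le.2 hb) hx
      rw [mem_normalizer_iff]
      intro y
      constructor
      · intro hy
        have : x * y * x⁻¹ = y := by
          rw [IsElementaryAbelian.commute hA hxA (hA₁A hy)]; group
        rwa [this]
      · intro hy
        have hyA : x * y * x⁻¹ ∈ A := hA₁A hy
        have hyA' : y ∈ A := by
          have : y = x⁻¹ * (x * y * x⁻¹) * x := by group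
          rw [this]; exact A.mul_mem (A.mul_mem (A.inv_mem hxA) hyA) hxA
        have : x * y * x⁻¹ = y := by
          rw [IsElementaryAbelian.commute hA hxA hyA']; group
        rwa [this] at hy
    obtain ⟨c, hc, d, hd, hcd⟩ := (mem_sup_of_le_normalizer hcomm).1 h1
    obtain ⟨n, rfl⟩ := mem_zpowers_iff.1 hd
    -- reduce the exponent to a natural number
    have hbp : b ^ p = 1 := hA.2 b hb
    set i := (n % (p : ℤ)).toNat with hi
    have hpos : (0 : ℤ) < p := by exact_mod_cast hp.out.pos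
    have hi' : (i : ℤ) = n % p := Int.toNat_of_nonneg (Int.emod_nonneg _ hpos.ne')
    have hbn' : b ^ n = b ^ i := by
      have : n = p * (n / p) + (i : ℤ) := by rw [hi']; exact (Int.mul_ediv_add_emod n p).symm
      rw [this, zpow_add, zpow_mul, zpow_natCast, hbp, one_zpow, one_mul, zpow_natCast]
    rw [hbn'] at hcd
    by_cases hpi : p ∣ i
    · obtain ⟨k, hk⟩ := hpi
      rw [hk, pow_mul, hbp, one_pow, mul_one] at hcd
      exact haA₁ (hcd ▸ hc)
    · have h3 : b ^ i ∈ A₁ ⊔ zpowers a := by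
        have : b ^ i = c⁻¹ * a := by rw [← hcd]; group
        rw [this]
        exact mul_mem (mem_sup_left (inv_mem hc)) (mem_sup_right (mem_zpowers a))
      have h4 : b ∈ zpowers (b ^ i) := mem_zpowers_pow_of_not_dvd hbp hpi
      exact hbn ((zpowers_le.2 h3) h4)
  -- cardinalities
  have hord : orderOf a = p := orderOf_eq_prime_of_pow_eq_one (hA.2 a ha) ha1
  have hdisj : A₁ ⊓ zpowers a = ⊥ := by
    rw [eq_bot_iff]
    intro x hx
    rw [mem_bot]
    by_contra hx1
    have hxp : x ^ p = 1 := hA.2 x (hA₁A hx.1)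
    obtain ⟨n, rfl⟩ := mem_zpowers_iff.1 hx.2
    -- `a ∈ zpowers (a ^ n)`
    have hcard : Nat.card (zpowers a) = p := by rw [Nat.card_zpowers, hord]
    haveI : Fact (Nat.card (zpowers a)).Prime := ⟨hcard ▸ hp.out⟩
    have hsub : (zpowers (a ^ n)).subgroupOf (zpowers a) = ⊤ := by
      rcases Subgroup.eq_bot_or_eq_top_of_prime_card ((zpowers (a ^ n)).subgroupOf (zpowers a))
        with h | h
      · exfalso
        apply hx1
        have : (⟨a ^ n, hx.2⟩ : zpowers a) ∈ (zpowers (a ^ n)).subgroupOf (zpowers a) :=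
          mem_subgroupOf.2 (mem_zpowers _)
        rw [h, mem_bot] at this
        exact congrArg Subtype.val this
      · exact h
    have : a ∈ zpowers (a ^ n) := (subgroupOf_eq_top.1 hsub) (mem_zpowers a)
    exact haA₁ ((zpowers_le.2 hx.1) this)
  have hnorm : zpowers a ≤ normalizer (A₁ : Set G) := by
    intro x hx
    have hxA : x ∈ A := haz hx
    rw [mem_normalizer_iff]
    intro y
    constructor
    · intro hy
      have : x * y * x⁻¹ = y := by
        rw [IsElementaryAbelian.commute hA hxA (hA₁A hy)]; group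
      rwa [this]
    · intro hy
      have hyA : x * y * x⁻¹ ∈ A := hA₁A hy
      have hyA' : y ∈ A := by
        have : y = x⁻¹ * (x * y * x⁻¹) * x := by group
        rw [this]; exact A.mul_mem (A.mul_mem (A.inv_mem hxA) hyA) hxA
      have : x * y * x⁻¹ = y := by
        rw [IsElementaryAbelian.commute hA hxA hyA']; group
      rwa [this] at hy
  have h5 := Cfsg.Agent.Helper17.card_sup_mul_card_inf A₁ (zpowers a) hnorm
  rw [hsup, hdisj, card_bot, mul_one, Nat.card_zpowers, hord] at h5
  refine ⟨A₁, hA₁A, haA₁, hsup, ?_, hdisj⟩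
  rw [h5, mul_comm]

theorem normalizer_inf_normalizer_le_normalizer_inf (X Y : Subgroup G) :
    normalizer (X : Set G) ⊓ normalizer (Y : Set G) ≤ normalizer ((X ⊓ Y : Subgroup G) : Set G) := by
  intro g hg
  rw [mem_inf, mem_normalizer_iff, mem_normalizer_iff] at hg
  rw [mem_normalizer_iff]
  intro h
  rw [mem_inf, mem_inf, hg.1 h, hg.2 h]


theorem card_mul_relIndex_of_le [Finite G] {B A : Subgroup G} (h : B ≤ A) :
    Nat.card B * B.relIndex A = Nat.card A := by
  have := relIndex_mul_relIndex (⊥ : Subgroup G) B A bot_le h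
  rwa [relIndex_bot_left, relIndex_bot_left] at this

theorem IsElementaryAbelian.not_isCyclic [Finite G] {p : ℕ} [hp : Fact p.Prime] {A : Subgroup G}
    (hA : IsElementaryAbelian p A) (h2 : p < Nat.card A) : ¬ IsCyclic A := by
  rintro ⟨⟨g, hg⟩, hgen⟩
  have h1 : Nat.card A = orderOf (⟨g, hg⟩ : A) := by
    rw [← Nat.card_zpowers]
    have : zpowers (⟨g, hg⟩ : A) = ⊤ := by
      rw [eq_top_iff]; intro x _; exact hgen x
    rw [this, card_top]
  have h3 : (⟨g, hg⟩ : A) ^ p = 1 := by
    apply Subtype.ext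
    simpa using hA.2 g hg
  have h4 : orderOf (⟨g, hg⟩ : A) ≤ p := Nat.le_of_dvd hp.out.pos (orderOf_dvd_of_pow_eq_one h3)
  omega

theorem le_centralizer_of_mem_elementaryAbelian {p : ℕ} {A : Subgroup G}
    (hA : IsElementaryAbelian p A) {a : G} (ha : a ∈ A) : A ≤ centralizer {a} := by
  intro x hx
  rw [mem_centralizer_singleton_iff]
  exact IsElementaryAbelian.commute hA hx ha

/-- Generation by centralizers of hyperplanes, as an inequality and for every elementary abelian
`A` (for `|A| ≤ p` the statement is trivial via `B = ⊥`). -/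
theorem le_iSup_inf_centralizer_hyperplane [Finite G] (p : ℕ) [hp : Fact p.Prime] :
    ∀ (n : ℕ) (A X : Subgroup G), Nat.card A = n → IsElementaryAbelian p A →
      ¬ p ∣ Nat.card X → A ≤ normalizer (X : Set G) →
      X ≤ ⨆ B : {B : Subgroup G // B ≤ A ∧ B.relIndex A ≤ p},
        X ⊓ centralizer ((B : Subgroup G) : Set G) := by
  intro n
  induction n using Nat.strong_induction_on with
  | _ n ih =>
  intro A X hn hA hX hAX
  by_cases hsmall : Nat.card A ≤ p
  · -- `B = ⊥`
    have hB : (⊥ : Subgroup G) ≤ A ∧ (⊥ : Subgroup G).relIndex A ≤ p :=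
      ⟨bot_le, by rw [relIndex_bot_left]; exact hsmall⟩
    refine le_trans ?_ (le_iSup (fun B : {B : Subgroup G // B ≤ A ∧ B.relIndex A ≤ p} =>
      X ⊓ centralizer ((B : Subgroup G) : Set G)) ⟨⊥, hB⟩)
    intro x hx
    refine ⟨hx, ?_⟩
    intro b hb
    have : b = 1 := by simpa using hb
    rw [this, one_mul, mul_one]
  · push Not at hsmall
    have hnc : ¬ IsCyclic A := IsElementaryAbelian.not_isCyclic hA hsmall
    haveI : IsMulCommutative A := hA.1
    have hpA : IsPGroup p A := IsElementaryAbelian.isPGroup hA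
    have hcop : (Nat.card A).Coprime (Nat.card X) := by
      obtain ⟨k, hk⟩ := hpA.exists_card_eq
      rw [hk]
      exact Nat.Coprime.pow_left _ ((Nat.Prime.coprime_iff_not_dvd hp.out).2 hX)
    have hgen := Cfsg.Agent.Lead.generated_by_centralizers A X hnc hAX hcop
    refine le_trans hgen.ge ?_
    refine iSup₂_le ?_
    rintro a ⟨haA, ha1⟩
    obtain ⟨A₁, hA₁A, haA₁, hsup, hcard, hdisjA⟩ := exists_hyperplane_not_mem hA haA ha1
    have hA₁ : IsElementaryAbelian p A₁ := IsElementaryAbelian.mono hA hA₁A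
    have hlt : Nat.card A₁ < n := by
      rw [← hn, hcard]
      have : 0 < Nat.card A₁ := Nat.card_pos
      have := hp.out.one_lt
      nlinarith
    set Y : Subgroup G := X ⊓ centralizer {a} with hY
    have hYX : Y ≤ X := inf_le_left
    have hpY : ¬ p ∣ Nat.card Y := fun h => hX (h.trans (card_dvd_of_le hYX))
    have hA₁Y : A₁ ≤ normalizer (Y : Set G) := by
      have h1 : A₁ ≤ normalizer (X : Set G) := hA₁A.trans hAX
      have h2 : A₁ ≤ normalizer ((centralizer {a} : Subgroup G) : Set G) :=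
        (hA₁A.trans (le_centralizer_of_mem_elementaryAbelian hA haA)).trans le_normalizer
      exact (le_inf h1 h2).trans (normalizer_inf_normalizer_le_normalizer_inf _ _)
    have hIH := ih (Nat.card A₁) hlt A₁ Y rfl hA₁ hpY hA₁Y
    refine hIH.trans (iSup_le ?_)
    rintro ⟨B₁, hB₁A₁, hB₁idx⟩
    -- `B = B₁ ⊔ ⟨a⟩`
    have haz : zpowers a ≤ A := zpowers_le.2 haA
    have hBA : B₁ ⊔ zpowers a ≤ A := sup_le (hB₁A₁.trans hA₁A) haz
    have hord : orderOf a = p := orderOf_eq_prime_of_pow_eq_one (hA.2 a haA) ha1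
    have hnorm : zpowers a ≤ normalizer (B₁ : Set G) := by
      have : zpowers a ≤ centralizer (B₁ : Set G) := by
        rw [zpowers_le]
        intro y hy
        exact (IsElementaryAbelian.commute hA haA (hA₁A (hB₁A₁ hy))).symm
      exact this.trans (centralizer_le_normalizer _)
    have hdisj : B₁ ⊓ zpowers a = ⊥ := by
      rw [eq_bot_iff, ← hdisjA]
      exact inf_le_inf_right _ hB₁A₁
    have hcardB : Nat.card (B₁ ⊔ zpowers a : Subgroup G) = Nat.card B₁ * p := by
      have h5 := Cfsg.Agent.Helper17.card_sup_mul_card_inf B₁ (zpowers a) hnorm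
      rw [hdisj, card_bot, mul_one, Nat.card_zpowers, hord] at h5
      exact h5
    have hidx : (B₁ ⊔ zpowers a).relIndex A ≤ p := by
      have h6 := card_mul_relIndex_of_le hBA
      have h7 := card_mul_relIndex_of_le hB₁A₁
      rw [hcardB, hcard, ← h7] at h6
      -- `card B₁ * p * idx = p * (card B₁ * idx₁)`
      have hpos : 0 < Nat.card B₁ * p := Nat.mul_pos Nat.card_pos hp.out.pos
      have h8 : (B₁ ⊔ zpowers a).relIndex A = B₁.relIndex A₁ := by
        apply Nat.eq_of_mul_eq_mul_left hpos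
        rw [h6]; ring
      rw [h8]; exact hB₁idx
    refine le_trans ?_ (le_iSup (fun B : {B : Subgroup G // B ≤ A ∧ B.relIndex A ≤ p} =>
      X ⊓ centralizer ((B : Subgroup G) : Set G)) ⟨B₁ ⊔ zpowers a, hBA, hidx⟩)
    intro y hy
    obtain ⟨⟨hyX, hya⟩, hyB⟩ := hy
    refine ⟨hyX, ?_⟩
    have : B₁ ⊔ zpowers a ≤ centralizer {y} := by
      refine sup_le ?_ ?_
      · intro b hb
        rw [mem_centralizer_singleton_iff]
        exact (hyB b hb)
      · rw [zpowers_le, mem_centralizer_singleton_iff]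
        exact ((mem_centralizer_singleton_iff).1 hya).symm
    intro b hb
    exact ((mem_centralizer_singleton_iff).1 (this hb))


/-- S1324 -/
theorem eq_iSup_inf_centralizer_hyperplane [Finite G] (p : ℕ) [hp : Fact p.Prime]
    (A X : Subgroup G) (hA : IsElementaryAbelian p A) (hX : ¬ p ∣ Nat.card X)
    (hAX : A ≤ normalizer (X : Set G)) :
    X = ⨆ B : {B : Subgroup G // B ≤ A ∧ B.relIndex A ≤ p},
        X ⊓ centralizer ((B : Subgroup G) : Set G) :=
  le_antisymm (le_iSup_inf_centralizer_hyperplane p _ A X rfl hA hX hAX)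
    (iSup_le fun _ => inf_le_left)

theorem relIndex_eq_one_or_prime_of_le [Finite G] {p : ℕ} [hp : Fact p.Prime] {A B : Subgroup G}
    (hA : IsPGroup p A) (h : B.relIndex A ≤ p) : B.relIndex A = 1 ∨ B.relIndex A = p := by
  obtain ⟨k, hk⟩ := hA.exists_card_eq
  have hdvd : B.relIndex A ∣ p ^ k := hk ▸ relIndex_dvd_card B A
  obtain ⟨j, _, hj⟩ := (Nat.dvd_prime_pow hp.out).1 hdvd
  rw [hj] at h ⊢
  rcases j with _ | _ | j
  · left; simp
  · right; simp
  · exfalso
    have : p ^ 2 ≤ p ^ (j + 1 + 1) := Nat.pow_le_pow_right hp.out.pos (by omega)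
    have h2 := hp.out.one_lt
    nlinarith

theorem exists_relIndex_eq_prime [Finite G] {p : ℕ} [hp : Fact p.Prime] {A : Subgroup G}
    (hA : IsElementaryAbelian p A) (h1 : 1 < Nat.card A) :
    ∃ D : Subgroup G, D ≤ A ∧ D.relIndex A = p := by
  obtain ⟨a, ha, ha1⟩ : ∃ a ∈ A, a ≠ 1 := by
    by_contra hcon
    push Not at hcon
    have : A = ⊥ := (eq_bot_iff_forall A).2 hcon
    rw [this, card_bot] at h1
    exact lt_irrefl _ h1
  obtain ⟨A₁, hA₁A, _, _, hcard, _⟩ := exists_hyperplane_not_mem hA ha ha1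
  refine ⟨A₁, hA₁A, ?_⟩
  have h := card_mul_relIndex_of_le hA₁A
  rw [hcard, mul_comm p] at h
  exact Nat.eq_of_mul_eq_mul_left Nat.card_pos h

end Cfsg.Agent.Helper7
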