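import Mathlib
import Cfsg.Prelude.Def_Balance
import Cfsg.Agent.S0519
import Cfsg.Agent.Helper9.NormalElemAb
import Cfsg.Agent.Helper9.NormalPSq
import Cfsg.Agent.Helper9.PGroupCent

set_option autoImplicit false
set_option linter.style.haveILetI false
set_option linter.unusedSectionVars false

/-! # Normal `E_{p²}` in `p`-groups of rank `≥ 3`, and the rank-2 commuting graph (S1337) -/

namespace Cfsg.Agent.Helper7

open Subgroup Cfsg

universe u

/-- A finite group with a cyclic subgroup of index two has `2`-rank at most two. -/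
theorem pRankLE_two_of_cyclic_index_two {G : Type*} [Group G] [Finite G] (x : G)
    (hx : 2 * orderOf x = Nat.card G) : PRankLE 2 2 G := by
  classical
  intro A hAc hA2
  set C := zpowers x with hC
  have hCcard : Nat.card C = orderOf x := Nat.card_zpowers x
  have hCidx : C.index = 2 := by
    have h1 := C.card_mul_index
    rw [hCcard, ← hx, mul_comm] at h1
    have hpos : 0 < orderOf x := orderOf_pos x
    exact Nat.eq_of_mul_eq_mul_right hpos h1
  haveI hCn : C.Normal := normal_of_index_eq_two hCidx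
  have hrel : C.relIndex A ≤ 2 := by
    have := relIndex_dvd_index_of_normal C A
    rw [hCidx] at this
    exact Nat.le_of_dvd (by norm_num) this
  have h1 : Nat.card (C.subgroupOf A) * C.relIndex A = Nat.card A := (C.subgroupOf A).card_mul_index
  have h2 : Nat.card (C.subgroupOf A) ≤ 2 := by
    haveI : Fintype C := Fintype.ofFinite C
    have hle : Nat.card (C.subgroupOf A) ≤ Nat.card {c : C // c ^ 2 = 1} := by
      apply Nat.card_le_card_of_injective
        (fun a : C.subgroupOf A => (⟨⟨((a : A) : G), a.2⟩, by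
          apply Subtype.ext
          exact hA2 _ (a : A).2⟩ : {c : C // c ^ 2 = 1}))
      intro a b hab
      apply Subtype.ext
      apply Subtype.ext
      have := congrArg (fun c : {c : C // c ^ 2 = 1} => ((c : C) : G)) hab
      exact this
    have hcyc := IsCyclic.card_pow_eq_one_le (α := C) (n := 2) (by norm_num)
    have : Nat.card {c : C // c ^ 2 = 1} = (Finset.univ.filter (fun c : C => c ^ 2 = 1)).card := by
      rw [Nat.card_eq_fintype_card, Fintype.card_subtype]
    rw [this] at hle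
    exact hle.trans hcyc
  calc Nat.card A = Nat.card (C.subgroupOf A) * C.relIndex A := h1.symm
    _ ≤ 2 * 2 := Nat.mul_le_mul h2 hrel
    _ = 2 ^ 2 := by norm_num

theorem pRankLE_two_of_s0519 {P : Type*} [Group P] [Finite P]
    (h : (∃ n : ℕ, Nonempty (P ≃* QuaternionGroup n)) ∨
      (∃ n : ℕ, 8 ≤ n ∧ Nonempty (P ≃* DihedralGroup n)) ∨ IsQuasiDihedral P) :
    PRankLE 2 2 P := by
  rcases h with ⟨n, ⟨e⟩⟩ | ⟨n, _, ⟨e⟩⟩ | ⟨n, _, hcard, x, y, hx, _, _⟩
  · set x := e.symm (QuaternionGroup.a 1) with hxdef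
    have hox : orderOf x = 2 * n := by
      rw [hxdef, e.symm.orderOf_eq]; exact QuaternionGroup.orderOf_a_one
    have hn : n ≠ 0 := by
      intro h0
      have := orderOf_pos x
      rw [hox, h0] at this
      omega
    haveI : NeZero n := ⟨hn⟩
    apply pRankLE_two_of_cyclic_index_two x
    rw [hox, Nat.card_congr e.toEquiv, Nat.card_eq_fintype_card, QuaternionGroup.card]
    ring
  · set x := e.symm (DihedralGroup.r 1) with hxdef
    have hox : orderOf x = n := by
      rw [hxdef, e.symm.orderOf_eq]; exact DihedralGroup.orderOf_r_one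
    apply pRankLE_two_of_cyclic_index_two x
    rw [hox, Nat.card_congr e.toEquiv, DihedralGroup.nat_card]
  · apply pRankLE_two_of_cyclic_index_two x
    rw [hx, hcard, pow_succ]
    ring

/-- In a finite `p`-group, a normal subgroup of order `p ^ k` contains normal subgroups of every
smaller order. -/
theorem exists_normal_le_card_pow {P : Type u} [Group P] [Finite P] {p : ℕ} [Fact p.Prime]
    (hP : IsPGroup p P) : ∀ (k : ℕ) (N : Subgroup P), N.Normal → Nat.card N = p ^ k → ∀ j ≤ k,
      ∃ N₀ : Subgroup P, N₀.Normal ∧ N₀ ≤ N ∧ Nat.card N₀ = p ^ j := by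
  intro k
  induction k with
  | zero =>
    intro N hN hcard j hj
    have : j = 0 := by omega
    subst this
    exact ⟨N, hN, le_rfl, hcard⟩
  | succ k ih =>
    intro N hN hcard j hj
    by_cases hjk : j = k + 1
    · subst hjk
      exact ⟨N, hN, le_rfl, hcard⟩
    · haveI := hN
      obtain ⟨B₀, hB₀n, -, hB₀N, hB₀card⟩ :=
        Cfsg.Agent.Helper9.exists_normal_index_p hP N k hcard
      obtain ⟨N₀, h1, h2, h3⟩ := ih B₀ hB₀n hB₀card j (by omega)
      exact ⟨N₀, h1, h2.trans hB₀N, h3⟩

/-- A non-cyclic abelian normal subgroup of a `p`-group gives a normal `E_{p²}`. -/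
theorem exists_normal_elemAb_sq_of_normal_abelian {P : Type u} [Group P] [Finite P] {p : ℕ}
    [hp : Fact p.Prime] (hP : IsPGroup p P) (A : Subgroup P) (hAn : A.Normal)
    (hAc : IsMulCommutative A) (hnc : ¬ IsCyclic A) :
    ∃ U : Subgroup P, U.Normal ∧ IsElementaryAbelian p U ∧ Nat.card U = p ^ 2 := by
  have hcomm : ∀ a ∈ A, ∀ b ∈ A, a * b = b * a := fun a ha b hb =>
    congrArg Subtype.val (mul_comm' (⟨a, ha⟩ : A) ⟨b, hb⟩)
  let V : Subgroup P :=
    { carrier := {a | a ∈ A ∧ a ^ p = 1}
      one_mem' := ⟨A.one_mem, one_pow p⟩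
      mul_mem' := by
        rintro a b ⟨ha, hap⟩ ⟨hb, hbp⟩
        refine ⟨A.mul_mem ha hb, ?_⟩
        have hc : Commute a b := hcomm a ha b hb
        rw [hc.mul_pow, hap, hbp, one_mul]
      inv_mem' := by
        rintro a ⟨ha, hap⟩
        exact ⟨A.inv_mem ha, by rw [inv_pow, hap, inv_one]⟩ }
  have hVmem : ∀ a, a ∈ V ↔ a ∈ A ∧ a ^ p = 1 := fun a => Iff.rfl
  have hVn : V.Normal := by
    refine ⟨fun a ha g => ?_⟩
    rw [hVmem] at ha ⊢
    refine ⟨hAn.conj_mem a ha.1 g, ?_⟩
    rw [conj_pow, ha.2]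
    group
  have hVel : IsElementaryAbelian p V := by
    refine ⟨⟨⟨fun a b => ?_⟩⟩, fun a ha => ((hVmem a).1 ha).2⟩
    apply Subtype.ext
    exact hcomm a ((hVmem a).1 a.2).1 b ((hVmem b).1 b.2).1
  obtain ⟨k, hk⟩ := IsPGroup.iff_card.1 (hP.to_subgroup V)
  -- `V` has order at least `p ^ 2`
  letI : CommGroup A := { (inferInstance : Group A) with mul_comm := fun a b => mul_comm' a b }
  have hAp : IsPGroup p A := hP.to_subgroup A
  obtain ⟨A₀, hA₀el, hA₀card⟩ := Cfsg.Agent.Helper9.exists_elemAb_sq_of_commGroup (R := A) hAp hnc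
  have hle : A₀.map A.subtype ≤ V := by
    rintro _ ⟨a, ha, rfl⟩
    rw [hVmem]
    refine ⟨a.2, ?_⟩
    have := hA₀el.2 a ha
    exact congrArg Subtype.val this
  have hk2 : 2 ≤ k := by
    by_contra hlt
    have h1 : Nat.card (A₀.map A.subtype) ≤ Nat.card V := card_le_of_le hle
    rw [card_map_of_injective A.subtype_injective, hA₀card, hk] at h1
    have h2 : p ^ k ≤ p ^ 1 := Nat.pow_le_pow_right hp.out.pos (by omega)
    have h3 : p ^ 1 < p ^ 2 := Nat.pow_lt_pow_right hp.out.one_lt (by norm_num)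
    omega
  obtain ⟨U, hUn, hUV, hUcard⟩ := exists_normal_le_card_pow hP k V hVn hk 2 hk2
  refine ⟨U, hUn, ⟨⟨⟨fun a b => ?_⟩⟩, fun a ha => hVel.2 a (hUV ha)⟩, hUcard⟩
  apply Subtype.ext
  exact hcomm a ((hVmem a).1 (hUV a.2)).1 b ((hVmem b).1 (hUV b.2)).1

/-- A finite `p`-group of `p`-rank at least three has a normal elementary abelian subgroup of
order `p ^ 2`. -/
theorem exists_normal_elemAb_sq_of_not_pRankLE {P : Type u} [Group P] [Finite P] (p : ℕ)
    [hp : Fact p.Prime] (hP : IsPGroup p P) (hrk : ¬ PRankLE p 2 P) :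
    ∃ U : Subgroup P, U.Normal ∧ IsElementaryAbelian p U ∧ Nat.card U = p ^ 2 := by
  classical
  unfold PRankLE at hrk
  push Not at hrk
  obtain ⟨E, hEc, hEp, hEcard⟩ := hrk
  have hEnc : ¬ IsCyclic E := by
    intro hcyc
    haveI : Fintype E := Fintype.ofFinite E
    have h1 := IsCyclic.card_pow_eq_one_le (α := E) (n := p) hp.out.pos
    have h2 : (Finset.univ.filter (fun a : E => a ^ p = 1)) = Finset.univ := by
      ext a
      simp only [Finset.mem_filter, Finset.mem_univ, true_and, iff_true]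
      apply Subtype.ext
      exact hEp a a.2
    rw [h2, Finset.card_univ, ← Nat.card_eq_fintype_card] at h1
    have h3 : p < p ^ 2 := by
      have := Nat.pow_lt_pow_right hp.out.one_lt (show 1 < 2 by norm_num)
      simpa using this
    omega
  by_cases hp2 : p = 2
  · subst hp2
    by_contra hno
    push Not at hno
    have hn : ∀ A : Subgroup P, A.Normal → IsMulCommutative A → IsCyclic A := by
      intro A hAn hAc
      by_contra hnc
      obtain ⟨U, hUn, hUel, hUcard⟩ := exists_normal_elemAb_sq_of_normal_abelian hP A hAn hAc hnc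
      exact hno U hUn hUel hUcard
    have h1 := Cfsg.Agent.S0519.result 2 hP hn ⟨E, hEc, hEnc⟩
    have h2 := pRankLE_two_of_s0519 h1.2
    exact absurd (h2 E hEc hEp) (by omega)
  · apply Cfsg.Agent.Helper9.exists_normal_elemAb_sq hp2 hP
    intro hcyc
    exact hEnc (Subgroup.isCyclic E)

section graph

variable {P : Type u} [Group P] [Finite P] {p : ℕ} [hp : Fact p.Prime]

theorem card_le_mul_card_inf_centralizer (hP : IsPGroup p P) (U : Subgroup P) [U.Normal]
    (hU : Nat.card U = p ^ 2) (E : Subgroup P) :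
    Nat.card E ≤ p * Nat.card (E ⊓ centralizer (U : Set P) : Subgroup P) := by
  obtain ⟨Z0, φ, hZ0, hker⟩ := Cfsg.Agent.Helper9.exists_hom_ker_le_centralizer hP U hU
  set ψ := φ.comp E.subtype with hψ
  have h1 : Nat.card ψ.ker * ψ.ker.index = Nat.card E := ψ.ker.card_mul_index
  rw [index_ker] at h1
  have h2 : Nat.card ψ.range ≤ p := by
    rw [← hZ0]; exact card_le_card_group _
  have h3 : Nat.card ψ.ker ≤ Nat.card (E ⊓ centralizer (U : Set P) : Subgroup P) := by
    apply Nat.card_le_card_of_injective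
      (fun e : ψ.ker => (⟨((e : E) : P), ⟨(e : E).2, hker (by
        have := e.2
        rw [MonoidHom.mem_ker] at this ⊢
        exact this)⟩⟩ : (E ⊓ centralizer (U : Set P) : Subgroup P)))
    intro a b hab
    apply Subtype.ext
    apply Subtype.ext
    exact congrArg (fun c : (E ⊓ centralizer (U : Set P) : Subgroup P) => (c : P)) hab
  calc Nat.card E = Nat.card ψ.ker * Nat.card ψ.range := h1.symm
    _ ≤ Nat.card (E ⊓ centralizer (U : Set P) : Subgroup P) * p := Nat.mul_le_mul h3 h2
    _ = p * Nat.card (E ⊓ centralizer (U : Set P) : Subgroup P) := mul_comm _ _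

theorem isElementaryAbelian_sup_of_commute {A B : Subgroup P} (hA : IsElementaryAbelian p A)
    (hB : IsElementaryAbelian p B) (hcomm : ∀ a ∈ A, ∀ b ∈ B, a * b = b * a) :
    IsElementaryAbelian p (A ⊔ B) := by
  have hAc : ∀ a ∈ A, ∀ a' ∈ A, a * a' = a' * a := fun a ha a' ha' => by
    haveI := hA.1
    exact congrArg Subtype.val (mul_comm' (⟨a, ha⟩ : A) ⟨a', ha'⟩)
  have hBc : ∀ b ∈ B, ∀ b' ∈ B, b * b' = b' * b := fun b hb b' hb' => by
    haveI := hB.1
    exact congrArg Subtype.val (mul_comm' (⟨b, hb⟩ : B) ⟨b', hb'⟩)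
  have hBA : B ≤ normalizer (A : Set P) := by
    refine le_trans ?_ (centralizer_le_normalizer _)
    intro b hb
    rw [mem_centralizer_iff]
    intro a ha
    exact hcomm a ha b hb
  have hdec : ∀ x ∈ A ⊔ B, ∃ a ∈ A, ∃ b ∈ B, a * b = x := by
    intro x hx
    rw [← SetLike.mem_coe, coe_mul_of_right_le_normalizer_left A B hBA, Set.mem_mul] at hx
    exact hx
  refine ⟨⟨⟨fun x y => ?_⟩⟩, ?_⟩
  · apply Subtype.ext
    obtain ⟨a, ha, b, hb, hab⟩ := hdec x x.2
    obtain ⟨a', ha', b', hb', hab'⟩ := hdec y y.2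
    show (x : P) * y = y * x
    rw [← hab, ← hab']
    calc a * b * (a' * b') = a * (b * a') * b' := by group
      _ = a * (a' * b) * b' := by rw [hcomm a' ha' b hb]
      _ = (a * a') * (b * b') := by group
      _ = (a' * a) * (b' * b) := by rw [hAc a ha a' ha', hBc b hb b' hb']
      _ = a' * (a * b') * b := by group
      _ = a' * (b' * a) * b := by rw [hcomm a ha b' hb']
      _ = a' * b' * (a * b) := by group
  · intro x hx
    obtain ⟨a, ha, b, hb, hab⟩ := hdec x hx
    rw [← hab, (show Commute a b from hcomm a ha b hb).mul_pow, hA.2 a ha, hB.2 b hb, one_mul]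

theorem le_centralizer_self_of_isElementaryAbelian {A : Subgroup P} (hA : IsElementaryAbelian p A) :
    A ≤ centralizer (A : Set P) := by
  intro a ha
  rw [mem_centralizer_iff]
  intro a' ha'
  haveI := hA.1
  exact congrArg Subtype.val (mul_comm' (⟨a', ha'⟩ : A) ⟨a, ha⟩)

theorem isElementaryAbelian_of_le {A B : Subgroup P} (hA : IsElementaryAbelian p A) (hBA : B ≤ A) :
    IsElementaryAbelian p B := by
  refine ⟨⟨⟨fun x y => ?_⟩⟩, fun b hb => hA.2 b (hBA hb)⟩
  apply Subtype.ext
  haveI := hA.1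
  show (x : P) * y = y * x
  exact congrArg Subtype.val (mul_comm' (⟨x, hBA x.2⟩ : A) ⟨y, hBA y.2⟩)

theorem not_pRankLE_centralizer_of_le {X F : Subgroup P} (hF : IsElementaryAbelian p F)
    (hFX : F ≤ centralizer (X : Set P)) (hcard : p ^ 2 < Nat.card F) :
    ¬ PRankLE p 2 ↥(centralizer (X : Set P)) := by
  intro h
  haveI := hF.1
  have h1 := h (F.subgroupOf (centralizer (X : Set P))) (subgroupOf_isMulCommutative _ F) (by
    intro a ha
    apply Subtype.ext
    have := hF.2 (a : P) (mem_subgroupOf.1 ha)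
    simpa using this)
  rw [Cfsg.Agent.Helper17.card_subgroupOf_of_le hFX] at h1
  omega

/-- A subgroup of a `p`-group of order greater than `p` has order at least `p ^ 2`. -/
theorem sq_le_card_of_lt (hP : IsPGroup p P) (H : Subgroup P) (h : p < Nat.card H) :
    p ^ 2 ≤ Nat.card H := by
  obtain ⟨i, hi⟩ := IsPGroup.iff_card.1 (hP.to_subgroup H)
  rw [hi] at h ⊢
  have : 2 ≤ i := by
    by_contra hlt
    have : p ^ i ≤ p ^ 1 := Nat.pow_le_pow_right hp.out.pos (by omega)
    simp at this
    omega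
  exact Nat.pow_le_pow_right hp.out.pos this

/-- S1337. -/
theorem rankGraph_criterion (p : ℕ) [hp : Fact p.Prime] (hP : IsPGroup p P)
    (hrk : ¬ PRankLE p 2 P) :
    ∃ U : Subgroup P, U.Normal ∧ IsElementaryAbelian p U ∧ Nat.card ↥U = p ^ 2 ∧
      ∀ X : Subgroup P, IsElementaryAbelian p X → p ^ 2 ≤ Nat.card ↥X →
        (Relation.ReflTransGen (fun A B : Subgroup P => IsElementaryAbelian p A ∧
          p ^ 2 ≤ Nat.card ↥A ∧ IsElementaryAbelian p B ∧ p ^ 2 ≤ Nat.card ↥B ∧
          ∀ a ∈ A, ∀ b ∈ B, a * b = b * a) X U ↔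
          ¬ PRankLE p 2 ↥(centralizer (X : Set P))) := by
  obtain ⟨U, hUn, hUel, hUcard⟩ := exists_normal_elemAb_sq_of_not_pRankLE p hP hrk
  haveI := hUn
  refine ⟨U, hUn, hUel, hUcard, ?_⟩
  have hrk' := hrk
  unfold PRankLE at hrk'
  push Not at hrk'
  obtain ⟨E, hEc, hEp, hEcard⟩ := hrk'
  have hEel : IsElementaryAbelian p E := ⟨hEc, hEp⟩
  have hp1 : 1 < p := hp.out.one_lt
  -- the base case: `C_P(U)` has rank at least three
  have hbase : ¬ PRankLE p 2 ↥(centralizer (U : Set P)) := by
    set E₀ := E ⊓ centralizer (U : Set P) with hE₀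
    have hE₀el : IsElementaryAbelian p E₀ := isElementaryAbelian_of_le hEel inf_le_left
    have hcomm : ∀ a ∈ E₀, ∀ b ∈ U, a * b = b * a := fun a ha b hb =>
      ((mem_centralizer_iff.1 ha.2) b hb).symm
    have hFel := isElementaryAbelian_sup_of_commute hE₀el hUel hcomm
    have hFle : E₀ ⊔ U ≤ centralizer (U : Set P) :=
      sup_le inf_le_right (le_centralizer_self_of_isElementaryAbelian hUel)
    apply not_pRankLE_centralizer_of_le hFel hFle
    by_contra hle
    push Not at hle
    have hUF : U = E₀ ⊔ U := eq_of_le_of_card_ge le_sup_right (by rw [hUcard]; exact hle)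
    have hE₀U : E₀ ≤ U := by rw [hUF]; exact le_sup_left
    have h1 : Nat.card E ≤ p * Nat.card E₀ := card_le_mul_card_inf_centralizer hP U hUcard E
    have h2 : p < Nat.card E₀ := by
      by_contra h
      push Not at h
      have : p * Nat.card E₀ ≤ p * p := Nat.mul_le_mul_left p h
      have h3 : p * p = p ^ 2 := (sq p).symm
      omega
    have h3 : p ^ 2 ≤ Nat.card E₀ := sq_le_card_of_lt hP E₀ h2
    have h4 : E₀ = U := eq_of_le_of_card_ge hE₀U (by rw [hUcard]; exact h3)
    have hUE : U ≤ E := by rw [← h4]; exact inf_le_left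
    have hEU : E ≤ centralizer (U : Set P) := by
      intro e he
      rw [mem_centralizer_iff]
      intro u hu
      haveI := hEc
      exact congrArg Subtype.val (mul_comm' (⟨u, hUE hu⟩ : E) ⟨e, he⟩)
    have h5 : E₀ = E := inf_eq_left.2 hEU
    rw [h5] at h4
    rw [h4, hUcard] at hEcard
    omega
  intro X hX hXcard
  constructor
  · intro hchain
    induction hchain using Relation.ReflTransGen.head_induction_on with
    | refl => exact hbase
    | @head Y Y₁ h' _ ih =>
      obtain ⟨hY, hYcard, hY₁, hY₁card, hcomm⟩ := h'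
      have hFel := isElementaryAbelian_sup_of_commute hY hY₁ hcomm
      have hFle : Y ⊔ Y₁ ≤ centralizer (Y : Set P) := by
        apply sup_le (le_centralizer_self_of_isElementaryAbelian hY)
        intro b hb
        rw [mem_centralizer_iff]
        intro a ha
        exact hcomm a ha b hb
      by_cases hbig : p ^ 2 < Nat.card (Y ⊔ Y₁ : Subgroup P)
      · exact not_pRankLE_centralizer_of_le hFel hFle hbig
      · push Not at hbig
        have h1 : Y = Y ⊔ Y₁ := eq_of_le_of_card_ge le_sup_left (hbig.trans hYcard)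
        have h2 : Y₁ = Y ⊔ Y₁ := eq_of_le_of_card_ge le_sup_right (hbig.trans hY₁card)
        have h3 : Y = Y₁ := h1.trans h2.symm
        rw [h3]
        exact ih hY₁ hY₁card
  · intro hX3
    unfold PRankLE at hX3
    push Not at hX3
    obtain ⟨E', hE'c, hE'p, hE'card⟩ := hX3
    set F := E'.map (centralizer (X : Set P)).subtype with hF
    have hFX : F ≤ centralizer (X : Set P) := map_subtype_le _
    have hFel : IsElementaryAbelian p F := by
      refine ⟨?_, ?_⟩
      · haveI := hE'c
        exact map_isMulCommutative _ _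
      · rintro _ ⟨a, ha, rfl⟩
        have := hE'p a ha
        exact congrArg Subtype.val this
    have hFcard : p ^ 2 < Nat.card F := by
      rw [hF, card_map_of_injective (subtype_injective _)]
      exact hE'card
    set F₀ := F ⊓ centralizer (U : Set P) with hF₀
    have hF₀el : IsElementaryAbelian p F₀ := isElementaryAbelian_of_le hFel inf_le_left
    have h1 : Nat.card F ≤ p * Nat.card F₀ := card_le_mul_card_inf_centralizer hP U hUcard F
    have h2 : p < Nat.card F₀ := by
      by_contra h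
      push Not at h
      have : p * Nat.card F₀ ≤ p * p := Nat.mul_le_mul_left p h
      have h3 : p * p = p ^ 2 := (sq p).symm
      omega
    have h3 : p ^ 2 ≤ Nat.card F₀ := sq_le_card_of_lt hP F₀ h2
    have hUsq : p ^ 2 ≤ Nat.card U := by rw [hUcard]
    have r1 : (fun A B : Subgroup P => IsElementaryAbelian p A ∧
          p ^ 2 ≤ Nat.card ↥A ∧ IsElementaryAbelian p B ∧ p ^ 2 ≤ Nat.card ↥B ∧
          ∀ a ∈ A, ∀ b ∈ B, a * b = b * a) X F :=
      ⟨hX, hXcard, hFel, hFcard.le, fun a ha b hb => (mem_centralizer_iff.1 (hFX hb)) a ha⟩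
    have r2 : (fun A B : Subgroup P => IsElementaryAbelian p A ∧
          p ^ 2 ≤ Nat.card ↥A ∧ IsElementaryAbelian p B ∧ p ^ 2 ≤ Nat.card ↥B ∧
          ∀ a ∈ A, ∀ b ∈ B, a * b = b * a) F F₀ :=
      ⟨hFel, hFcard.le, hF₀el, h3, fun a ha b hb => by
        haveI := hFel.1
        exact congrArg Subtype.val (mul_comm' (⟨a, ha⟩ : F) ⟨b, hb.1⟩)⟩
    have r3 : (fun A B : Subgroup P => IsElementaryAbelian p A ∧
          p ^ 2 ≤ Nat.card ↥A ∧ IsElementaryAbelian p B ∧ p ^ 2 ≤ Nat.card ↥B ∧
          ∀ a ∈ A, ∀ b ∈ B, a * b = b * a) F₀ U :=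
      ⟨hF₀el, h3, hUel, hUsq, fun a ha b hb => ((mem_centralizer_iff.1 ha.2) b hb).symm⟩
    exact Relation.ReflTransGen.head r1 (Relation.ReflTransGen.head r2
      (Relation.ReflTransGen.single r3))

end graph

end Cfsg.Agent.Helper7
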