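import Mathlib
import Cfsg.Agent.Lead.ThompsonPQ
import Cfsg.Agent.Lead.CoprimeFrattini
import Cfsg.Agent.Helper19.OmegaOne
import Cfsg.Agent.Helper29.NilpHall
import Cfsg.Agent.Helper18.FocalFusion

set_option autoImplicit false
set_option linter.style.haveILetI false
set_option linter.unusedSectionVars false

/-! # Thompson's `P × Q` lemma for nilpotent groups -/

namespace Cfsg.Agent.Helper7

open Subgroup

variable {G : Type*} [Group G] [Finite G]

/-- In a nilpotent subgroup `F`, an element of `q`-power order lies in the Sylow `q`-subgroup. -/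
theorem mem_map_sylow_of_orderOf {F : Subgroup G} [Group.IsNilpotent F] {q : ℕ} [Fact q.Prime]
    (P : Sylow q F) {w : G} (hw : w ∈ F) {k : ℕ} (hk : orderOf w = q ^ k) :
    w ∈ (P : Subgroup F).map F.subtype := by
  have h1 : IsPGroup q (zpowers (⟨w, hw⟩ : F)) := by
    rw [IsPGroup.iff_card, Nat.card_zpowers, Subgroup.orderOf_mk]
    exact ⟨k, hk⟩
  obtain ⟨P', hP'⟩ := h1.exists_le_sylow
  haveI : Unique (Sylow q F) := Sylow.unique_of_normal P inferInstance
  have : P' = P := Subsingleton.elim _ _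
  rw [this] at hP'
  exact ⟨⟨w, hw⟩, hP' (mem_zpowers _), rfl⟩

/-- Thompson's `P × Q` lemma for a nilpotent group `F` acted on coprimely by `Q`: if `Q`
centralises `Y ≤ F` and `C_F(Y)`, it centralises `F`. -/
theorem nilpotent_PQ (F Q Y : Subgroup G) (hF : Group.IsNilpotent F)
    (hcop : (Nat.card Q).Coprime (Nat.card F)) (hQF : Q ≤ normalizer (F : Set G)) (hYF : Y ≤ F)
    (hYQ : Y ≤ centralizer (Q : Set G)) (hC : F ⊓ centralizer (Y : Set G) ≤ centralizer (Q : Set G)) :
    Q ≤ centralizer (F : Set G) := by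
  haveI := hF
  rw [le_centralizer_iff]
  intro f hf
  apply Cfsg.Agent.Helper19.mem_of_forall_primePow_mem (centralizer (Q : Set G)) _ f rfl
  rintro w hw ⟨q, k, hq, hwk⟩
  haveI : Fact q.Prime := ⟨hq⟩
  have hwF : w ∈ F := (zpowers_le.2 hf) hw
  rcases k with _ | k
  · rw [pow_zero, orderOf_eq_one_iff] at hwk
    rw [hwk]; exact one_mem _
  have hqF : q ∣ Nat.card F := by
    have h1 : orderOf w ∣ Nat.card F := by
      have : orderOf (⟨w, hwF⟩ : F) = orderOf w := Subgroup.orderOf_mk w hwF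
      rw [← this]; exact orderOf_dvd_natCard _
    rw [hwk] at h1
    exact (dvd_pow_self q (Nat.succ_ne_zero k)).trans h1
  have hQq : (Nat.card Q).Coprime q := Nat.Coprime.coprime_dvd_right hqF hcop
  let P : Sylow q F := default
  set U := (P : Subgroup F).map F.subtype with hU
  have hUF : U ≤ F := map_subtype_le _
  have hUq : IsPGroup q U := P.isPGroup'.map _
  haveI : (P : Subgroup F).Characteristic := Sylow.characteristic_of_normal P inferInstance
  have hQU : Q ≤ normalizer (U : Set G) :=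
    hQF.trans (Cfsg.Agent.Lead.normalizer_le_normalizer_map_of_characteristic F (P : Subgroup F))
  have hFU : F ≤ normalizer (U : Set G) :=
    le_normalizer.trans (Cfsg.Agent.Lead.normalizer_le_normalizer_map_of_characteristic F
      (P : Subgroup F))
  have key : Q ≤ centralizer (U : Set G) := by
    apply Cfsg.Agent.Lead.thompson_PQ q (Y ⊓ U) Q U (hUq.to_le inf_le_right) hQq hUq
      (inf_le_left.trans hYQ) (inf_le_right.trans le_normalizer) hQU
    intro u hu
    apply hC
    refine ⟨hUF hu.1, ?_⟩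
    show u ∈ centralizer (Y : Set G)
    rw [mem_centralizer_iff]
    intro y hy
    obtain ⟨y₁, y₂, hy12, hy₁, hy₂, ⟨k', hk'⟩, hcop2⟩ :=
      Cfsg.Agent.Helper18.exists_pPart_decomp q y
    have hy₁Y : y₁ ∈ Y := (zpowers_le.2 hy) hy₁
    have hy₂Y : y₂ ∈ Y := (zpowers_le.2 hy) hy₂
    have hy₁U : y₁ ∈ U := mem_map_sylow_of_orderOf P (hYF hy₁Y) hk'
    have h1 : y₁ * u = u * y₁ := (mem_centralizer_iff.1 hu.2) y₁ ⟨hy₁Y, hy₁U⟩
    have h2 : y₂ * u = u * y₂ := by
      obtain ⟨ku, hku⟩ := (IsPGroup.iff_orderOf.1 hUq) ⟨u, hu.1⟩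
      have hou : orderOf u = q ^ ku := by
        rw [← hku]; exact (Subgroup.orderOf_mk u hu.1).symm
      have hcop3 : (orderOf (⟨y₂, hYF hy₂Y⟩ : F)).Coprime (orderOf (⟨u, hUF hu.1⟩ : F)) := by
        rw [Subgroup.orderOf_mk, Subgroup.orderOf_mk, hou]
        exact Nat.Coprime.pow_right _ hcop2
      have := Cfsg.Agent.Helper29.commute_of_nilpotent_of_coprime_orderOf F
        ⟨y₂, hYF hy₂Y⟩ ⟨u, hUF hu.1⟩ hcop3
      exact congrArg Subtype.val this.eq
    rw [hy12, mul_assoc, h2, ← mul_assoc, h1, mul_assoc]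
  have hwU : w ∈ U := mem_map_sylow_of_orderOf P hwF hwk
  exact (le_centralizer_iff.1 key) hwU

end Cfsg.Agent.Helper7
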