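import Mathlib
import Cfsg.Prelude.Def_Balance
import Cfsg.Agent.Helper7.Signalizer
import Cfsg.Agent.Helper7.PConstrained2
import Cfsg.Agent.Lead.CoprimeFrattini

set_option autoImplicit false
set_option linter.style.haveILetI false
set_option linter.unusedSectionVars false

/-! # The functor `a ↦ O_{p'}(C_G(a))` when centralizers are solvable -/

namespace Cfsg.Agent.Helper7

open Subgroup Cfsg
open Cfsg.Agent.Helper19 (pPrimeCore_coprime)

universe u

theorem normalizer_le_normalizer_centralizer {G : Type*} [Group G] (H : Subgroup G) :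
    normalizer (H : Set G) ≤ normalizer ((centralizer (H : Set G) : Subgroup G) : Set G) := by
  apply le_normalizer_of_forall_conj_mem
  intro n hn c hc
  rw [mem_centralizer_iff]
  intro h hh
  have hh' : n⁻¹ * h * n⁻¹⁻¹ ∈ H := (mem_normalizer_iff.1 (inv_mem hn) h).1 hh
  have h1 := (mem_centralizer_iff.1 hc) _ hh'
  calc h * (n * c * n⁻¹) = n * ((n⁻¹ * h * n⁻¹⁻¹) * c) * n⁻¹ := by group
    _ = n * (c * (n⁻¹ * h * n⁻¹⁻¹)) * n⁻¹ := by rw [h1]
    _ = n * c * n⁻¹ * h := by group

/-- A finite solvable group has trivial `p`-layer. -/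
theorem pLayer_eq_bot_of_isSolvable {G : Type u} [Group G] [Finite G] (p : ℕ) [Fact p.Prime]
    [hs : Group.IsSolvable G] : pLayer p G = ⊥ := by
  unfold pLayer
  rw [sSup_eq_bot]
  intro K hK
  exfalso
  apply IsQuasisimple.not_isSolvable hK.2.1.2
  infer_instance

/-- `O_{p'}(C_G(a))` is normalised by `N_G(⟨a⟩)`. -/
theorem normalizer_zpowers_le_normalizer_centralizerPPrimeCore {G : Type*} [Group G] (p : ℕ)
    (a : G) : normalizer ((zpowers a : Subgroup G) : Set G) ≤
      normalizer ((centralizerPPrimeCore p a : Subgroup G) : Set G) := by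
  unfold centralizerPPrimeCore
  have h1 := normalizer_le_normalizer_centralizer (zpowers a)
  rw [centralizer_zpowers_eq] at h1
  exact h1.trans (Cfsg.Agent.Lead.normalizer_le_normalizer_map_of_characteristic _ _)

theorem centralizerPPrimeCore_le {G : Type*} [Group G] (p : ℕ) (a : G) :
    centralizerPPrimeCore p a ≤ centralizer ({a} : Set G) := by
  unfold centralizerPPrimeCore
  exact map_subtype_le _

theorem card_centralizerPPrimeCore_coprime {G : Type*} [Group G] [Finite G] (p : ℕ) (a : G) :
    (Nat.card (centralizerPPrimeCore p a)).Coprime p := by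
  unfold centralizerPPrimeCore
  rw [← Nat.card_congr ((pPrimeCore p (centralizer ({a} : Set G))).equivMapOfInjective _
    (subtype_injective _)).toEquiv]
  exact pPrimeCore_coprime p

/-- Balance for solvable centralizers. -/
theorem centralizerPPrimeCore_inf_le {G : Type u} [Group G] [Finite G] (p : ℕ) [hp : Fact p.Prime]
    {a b : G} (hab : a * b = b * a) (ha : a ^ p = 1)
    (hsolv : Group.IsSolvable (centralizer ({b} : Set G))) :
    centralizerPPrimeCore p a ⊓ centralizer ({b} : Set G) ≤ centralizerPPrimeCore p b := by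
  set H := centralizer ({b} : Set G) with hH
  set W := centralizerPPrimeCore p a ⊓ H with hW
  have haH : a ∈ H := mem_centralizer_singleton_iff.2 hab
  set a' : H := ⟨a, haH⟩ with ha'
  set P : Subgroup H := zpowers a' with hP
  have hPp : IsPGroup p P := by
    rw [IsPGroup.iff_card, Nat.card_zpowers]
    have : orderOf a' ∣ p ^ 1 := by
      rw [pow_one]; apply orderOf_dvd_of_pow_eq_one
      apply Subtype.ext; simpa using ha
    obtain ⟨k, -, hk⟩ := (Nat.dvd_prime_pow hp.out).1 this
    exact ⟨k, hk⟩
  have hL : pLayer p H = ⊥ := pLayer_eq_bot_of_isSolvable p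
  have key := (pLayer_normalizer_eq_bot hL hPp).2
  -- `W` inside `H`, inside `N_H(P)`
  have hWH : W ≤ H := inf_le_right
  set W' : Subgroup H := W.subgroupOf H with hW'
  have hW'N : W' ≤ normalizer (P : Set H) := by
    intro w hw
    have hw1 : (w : G) ∈ centralizerPPrimeCore p a := (mem_subgroupOf.1 hw).1
    have hw2 : (w : G) * a = a * (w : G) :=
      mem_centralizer_singleton_iff.1 (centralizerPPrimeCore_le p a hw1)
    have : w ∈ centralizer ((zpowers a' : Subgroup H) : Set H) := by
      rw [centralizer_zpowers_eq, mem_centralizer_singleton_iff]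
      apply Subtype.ext
      exact hw2
    exact centralizer_le_normalizer _ this
  -- `N_H(P)` normalises `W'`
  have hNW' : normalizer (P : Set H) ≤ normalizer (W' : Set H) := by
    apply le_normalizer_of_forall_conj_mem
    intro n hn w hw
    rw [hW', mem_subgroupOf, hW, mem_inf]
    have hnG : (n : G) ∈ normalizer ((zpowers a : Subgroup G) : Set G) := by
      rw [mem_normalizer_iff]
      intro x
      have h1 := mem_normalizer_iff.1 hn
      constructor
      · intro hx
        have hxH : x ∈ H := (zpowers_le.2 haH) hx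
        have h2 : (⟨x, hxH⟩ : H) ∈ P := by
          obtain ⟨k, rfl⟩ := mem_zpowers_iff.1 hx
          exact mem_zpowers_iff.2 ⟨k, Subtype.ext (by simp [ha'])⟩
        have h3 := (h1 ⟨x, hxH⟩).1 h2
        obtain ⟨k, hk⟩ := mem_zpowers_iff.1 h3
        refine mem_zpowers_iff.2 ⟨k, ?_⟩
        have := congrArg Subtype.val hk
        simpa [ha'] using this
      · intro hx
        have hxH : x ∈ H := by
          have h4 : (n : G) * x * (n : G)⁻¹ ∈ H := (zpowers_le.2 haH) hx
          have : x = (n : G)⁻¹ * ((n : G) * x * (n : G)⁻¹) * (n : G) := by group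
          rw [this]
          exact H.mul_mem (H.mul_mem (H.inv_mem n.2) h4) n.2
        have h2 : n * (⟨x, hxH⟩ : H) * n⁻¹ ∈ P := by
          obtain ⟨k, hk⟩ := mem_zpowers_iff.1 hx
          exact mem_zpowers_iff.2 ⟨k, Subtype.ext (by simpa [ha'] using hk)⟩
        have h3 := (h1 ⟨x, hxH⟩).2 h2
        obtain ⟨k, hk⟩ := mem_zpowers_iff.1 h3
        refine mem_zpowers_iff.2 ⟨k, ?_⟩
        have := congrArg Subtype.val hk
        simpa [ha'] using this
    have hw1 : (w : G) ∈ centralizerPPrimeCore p a := (mem_subgroupOf.1 hw).1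
    refine ⟨?_, (n * w * n⁻¹).2⟩
    have := (mem_normalizer_iff.1
      (normalizer_zpowers_le_normalizer_centralizerPPrimeCore p a hnG) (w : G)).1 hw1
    simpa using this
  -- so `W'` restricted to `N_H(P)` lies in `O_{p'}(N_H(P))`
  have hWcop : (Nat.card W).Coprime p :=
    Nat.Coprime.coprime_dvd_left (card_dvd_of_le inf_le_left)
      (card_centralizerPPrimeCore_coprime p a)
  have h1 : W'.subgroupOf (normalizer (P : Set H)) ≤ pPrimeCore p (normalizer (P : Set H)) := by
    apply le_pPrimeCore
    · exact (normal_subgroupOf_iff_le_normalizer hW'N).2 hNW'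
    · rw [Nat.card_congr (subgroupOfEquivOfLe hW'N).toEquiv,
        Nat.card_congr (subgroupOfEquivOfLe hWH).toEquiv]
      exact hWcop
  have h2 : W' ≤ pPrimeCore p H := by
    calc W' = (W'.subgroupOf (normalizer (P : Set H))).map (normalizer (P : Set H)).subtype :=
          (map_subgroupOf_eq_of_le hW'N).symm
      _ ≤ (pPrimeCore p (normalizer (P : Set H))).map (normalizer (P : Set H)).subtype :=
          map_mono h1
      _ ≤ pPrimeCore p H := key
  calc W = W'.map H.subtype := (map_subgroupOf_eq_of_le hWH).symm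
    _ ≤ (pPrimeCore p H).map H.subtype := map_mono h2

end Cfsg.Agent.Helper7

namespace Cfsg.Agent.Helper7

open Subgroup Cfsg
open Cfsg.Agent.Helper19 (pPrimeCore_coprime)

universe u

/-- S1279. -/
theorem isSolvableSignalizerFunctor_centralizerPPrimeCore {G : Type u} [Group G] [Finite G]
    (p : ℕ) [hp : Fact p.Prime] (A : Subgroup G) (hA : IsElementaryAbelian p A)
    (hsolv : ∀ a ∈ A, a ≠ 1 → Group.IsSolvable ↥(centralizer ({a} : Set G))) :
    IsSolvableSignalizerFunctor p A (fun a => centralizerPPrimeCore p a) := by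
  have hcomm : ∀ a ∈ A, ∀ b ∈ A, a * b = b * a := by
    intro a ha b hb
    have := hA.1.is_comm.comm (⟨a, ha⟩ : A) ⟨b, hb⟩
    exact congrArg Subtype.val this
  refine ⟨⟨?_, ?_, ?_, ?_⟩, ?_⟩
  · intro a _ _
    exact centralizerPPrimeCore_le p a
  · intro a _ _
    have := card_centralizerPPrimeCore_coprime (G := G) p a
    rw [Nat.coprime_comm, Nat.Prime.coprime_iff_not_dvd hp.out] at this
    exact this
  · intro a ha _ b hb x hx
    have hb' : b ∈ normalizer ((zpowers a : Subgroup G) : Set G) := by
      apply centralizer_le_normalizer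
      rw [centralizer_zpowers_eq, mem_centralizer_singleton_iff]
      exact hcomm b hb a ha
    exact (mem_normalizer_iff.1
      (normalizer_zpowers_le_normalizer_centralizerPPrimeCore p a hb') x).1 hx
  · intro a ha _ b hb hb1
    exact centralizerPPrimeCore_inf_le p (hcomm a ha b hb) (hA.2 a ha) (hsolv b hb hb1)
  · intro a ha ha1
    haveI := hsolv a ha ha1
    show Group.IsSolvable ↥(centralizerPPrimeCore p a)
    unfold centralizerPPrimeCore
    exact Group.isSolvable_of_surjective
      (f := ((pPrimeCore p (centralizer ({a} : Set G))).equivMapOfInjective _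
        (subtype_injective _)).toMonoidHom)
      ((pPrimeCore p (centralizer ({a} : Set G))).equivMapOfInjective _
        (subtype_injective _)).surjective

end Cfsg.Agent.Helper7
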