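import Mathlib
import Cfsg.Prelude.Def_Balance
import Cfsg.Agent.Helper7.PConstrained2

set_option autoImplicit false
set_option linter.style.haveILetI false
set_option linter.unusedSectionVars false

/-! # The extended 2-layer -/

namespace Cfsg.Agent.Helper7

open Subgroup Cfsg
open scoped Pointwise
open Cfsg.Agent.Helper19 (pPrimeCore_coprime)

universe u

/-- `O_{p'}(C)` for a subgroup `C`, as a subgroup of the ambient group. -/
def coreOf {G : Type*} [Group G] (p : ℕ) (C : Subgroup G) : Subgroup G :=
  (pPrimeCore p C).map C.subtype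

section coreOf

variable {G : Type*} [Group G] {p : ℕ}

theorem coreOf_le (C : Subgroup G) : coreOf p C ≤ C := map_subtype_le _

theorem coreOf_map_equiv {G' : Type*} [Group G'] (e : G ≃* G') (C : Subgroup G) :
    (coreOf p C).map (e : G →* G') = coreOf p (C.map (e : G →* G')) := by
  unfold coreOf
  have h : map ((e.subgroupMap C : C ≃* C.map (e : G →* G')) : C →* C.map (e : G →* G'))
      (pPrimeCore p C) = pPrimeCore p (C.map (e : G →* G')) :=
    pPrimeCore_map_equiv p (e.subgroupMap C)
  rw [← h, Subgroup.map_map, Subgroup.map_map]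
  congr 1

theorem card_coreOf_coprime [Finite G] (C : Subgroup G) : (Nat.card (coreOf p C)).Coprime p := by
  unfold coreOf
  rw [← Nat.card_congr ((pPrimeCore p C).equivMapOfInjective _ (subtype_injective _)).toEquiv]
  exact pPrimeCore_coprime p

theorem centralizer_map_equiv {G' : Type*} [Group G'] (e : G ≃* G') (S : Subgroup G) :
    centralizer ((S.map e.toMonoidHom : Subgroup G') : Set G') =
      (centralizer (S : Set G)).map e.toMonoidHom := by
  ext x
  constructor
  · intro hx
    refine ⟨e.symm x, ?_, by simp⟩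
    show e.symm x ∈ centralizer (S : Set G)
    rw [mem_centralizer_iff]
    intro s hs
    have := (mem_centralizer_iff.1 hx) (e s) (mem_map_of_mem _ hs)
    apply e.injective
    simpa using this
  · rintro ⟨c, hc, rfl⟩
    rw [mem_centralizer_iff]
    rintro _ ⟨s, hs, rfl⟩
    have := (mem_centralizer_iff.1 hc) s hs
    show e s * e c = e c * e s
    rw [← map_mul, ← map_mul, this]

end coreOf

end Cfsg.Agent.Helper7

namespace Cfsg.Agent.Helper7

open Subgroup Cfsg
open scoped Pointwise
open Cfsg.Agent.Helper19 (pPrimeCore_coprime)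

universe u

section conj

variable {G : Type*} [Group G]

theorem map_conj_map_mk (N : Subgroup G) [N.Normal] (S : Subgroup G) (g : G) :
    (S.map (MulAut.conj g).toMonoidHom).map (QuotientGroup.mk' N) =
      (S.map (QuotientGroup.mk' N)).map (MulAut.conj (QuotientGroup.mk' N g)).toMonoidHom := by
  rw [Subgroup.map_map, Subgroup.map_map]
  congr 1

theorem map_conj_inv_map_conj (S : Subgroup G) (g : G) :
    (S.map (MulAut.conj g).toMonoidHom).map (MulAut.conj g⁻¹).toMonoidHom = S := by
  rw [Subgroup.map_map]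
  have : (MulAut.conj g⁻¹).toMonoidHom.comp (MulAut.conj g).toMonoidHom = MonoidHom.id G := by
    ext x
    simp [MulAut.conj_apply, mul_assoc]
  rw [this, Subgroup.map_id]

theorem map_conj_map_conj_inv (S : Subgroup G) (g : G) :
    (S.map (MulAut.conj g⁻¹).toMonoidHom).map (MulAut.conj g).toMonoidHom = S := by
  have := map_conj_inv_map_conj S g⁻¹
  rwa [inv_inv] at this

/-- A subgroup all of whose conjugates lie inside it is normal. -/
theorem normal_of_forall_map_conj_le {H : Subgroup G}
    (h : ∀ g : G, H.map (MulAut.conj g).toMonoidHom ≤ H) : H.Normal :=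
  ⟨fun n hn g => h g ⟨n, hn, rfl⟩⟩

end conj

variable {G : Type u} [Group G] [Finite G] {p : ℕ} [hp : Fact p.Prime]

theorem IsPComponent.map_conj {K : Subgroup G} (hK : IsPComponent p K) (g : G) :
    IsPComponent p (K.map (MulAut.conj g).toMonoidHom) := by
  obtain ⟨hsn, hcomp, hmin⟩ := hK
  refine ⟨hsn.map (MulAut.conj g).surjective, ?_, ?_⟩
  · rw [map_conj_map_mk]
    exact isComponent_map_conj hcomp _
  · intro H hH hle hmap
    have h1 : H.map (MulAut.conj g⁻¹).toMonoidHom ≤ K := by
      have := map_mono (f := (MulAut.conj g⁻¹).toMonoidHom) hle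
      rwa [map_conj_inv_map_conj] at this
    have h2 : (H.map (MulAut.conj g⁻¹).toMonoidHom).map (QuotientGroup.mk' (pPrimeCore p G)) =
        K.map (QuotientGroup.mk' (pPrimeCore p G)) := by
      rw [map_conj_map_mk, hmap, map_conj_map_mk, map_inv, map_conj_inv_map_conj]
    have h3 := hmin _ (hH.map (MulAut.conj g⁻¹).surjective) h1 h2
    rw [← h3, map_conj_map_conj_inv]

instance pLayer_normal (p : ℕ) [Fact p.Prime] (G : Type u) [Group G] [Finite G] :
    (pLayer p G).Normal := by
  apply normal_of_forall_map_conj_le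
  intro g
  unfold pLayer
  rw [map_le_iff_le_comap]
  apply sSup_le
  intro K hK
  rw [← map_le_iff_le_comap]
  exact le_sSup (IsPComponent.map_conj hK g)

instance pPrimePCore_normal (p : ℕ) (G : Type*) [Group G] : (pPrimePCore p G).Normal := by
  unfold pPrimePCore
  infer_instance

end Cfsg.Agent.Helper7

namespace Cfsg.Agent.Helper7

open Subgroup Cfsg
open scoped Pointwise
open Cfsg.Agent.Helper19 (pPrimeCore_coprime)

universe u

/-- Conjugating a Sylow subgroup of a normal subgroup. -/
theorem sylow_conjNormal_map_subtype {G : Type*} [Group G] {p : ℕ} {M : Subgroup G} [M.Normal]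
    (T : Sylow p M) (g : G) :
    (((MulAut.conjNormal g : MulAut M) • T : Sylow p M) : Subgroup M).map M.subtype =
      ((T : Subgroup M).map M.subtype).map (MulAut.conj g).toMonoidHom := by
  rw [Sylow.pointwise_smul_def]
  ext y
  constructor
  · rintro ⟨m, hm, rfl⟩
    obtain ⟨t, ht, rfl⟩ := (Subgroup.mem_smul_pointwise_iff_exists _ _ _).1 hm
    exact ⟨(t : G), ⟨t, ht, rfl⟩, rfl⟩
  · rintro ⟨_, ⟨t, ht, rfl⟩, rfl⟩
    refine ⟨(MulAut.conjNormal g : MulAut M) • t, ?_, rfl⟩
    exact (Subgroup.mem_smul_pointwise_iff_exists _ _ _).2 ⟨t, ht, rfl⟩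

/-- The "centralizer core" `O_{p'}(C_G(S))`. -/
theorem coreOf_centralizer_map_conj {G : Type*} [Group G] {p : ℕ} (S : Subgroup G) (g : G) :
    (coreOf p (centralizer (S : Set G))).map (MulAut.conj g).toMonoidHom =
      coreOf p (centralizer ((S.map (MulAut.conj g).toMonoidHom : Subgroup G) : Set G)) := by
  have h1 := coreOf_map_equiv (p := p) (MulAut.conj g) (centralizer (S : Set G))
  have h2 := centralizer_map_equiv (MulAut.conj g) S
  rw [h2]
  exact h1

/-- S1342. -/
theorem extendedTwoLayer_normal {X : Type u} [Group X] [Finite X] :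
    (extendedTwoLayer X).Normal := by
  apply normal_of_forall_map_conj_le
  intro g
  unfold extendedTwoLayer
  rw [Subgroup.map_sup, Subgroup.map_sup, Subgroup.map_iSup]
  apply sup_le (sup_le _ _)
  · apply iSup_le
    intro T
    refine le_trans ?_ le_sup_right
    have h1 := coreOf_centralizer_map_conj (p := 2)
      ((T : Subgroup ↥(pLayer 2 X ⊔ pPrimePCore 2 X)).map (pLayer 2 X ⊔ pPrimePCore 2 X).subtype) g
    rw [← sylow_conjNormal_map_subtype T g] at h1
    unfold coreOf at h1
    rw [h1]
    exact le_iSup (fun T : Sylow 2 ↥(pLayer 2 X ⊔ pPrimePCore 2 X) =>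
      (oddCore ↥(centralizer (((T : Subgroup ↥(pLayer 2 X ⊔ pPrimePCore 2 X)).map
          (pLayer 2 X ⊔ pPrimePCore 2 X).subtype : Subgroup X) : Set X))).map
        (centralizer (((T : Subgroup ↥(pLayer 2 X ⊔ pPrimePCore 2 X)).map
          (pLayer 2 X ⊔ pPrimePCore 2 X).subtype : Subgroup X) : Set X)).subtype)
      ((MulAut.conjNormal g : MulAut ↥(pLayer 2 X ⊔ pPrimePCore 2 X)) • T)
  · refine le_trans ?_ (le_sup_left.trans le_sup_left)
    rintro _ ⟨x, hx, rfl⟩
    exact (pLayer_normal 2 X).conj_mem x hx g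
  · refine le_trans ?_ (le_sup_right.trans le_sup_left)
    rintro _ ⟨x, hx, rfl⟩
    exact (pPrimeCore_normal 2 X).conj_mem x hx g

end Cfsg.Agent.Helper7
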