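import Mathlib
import Cfsg.Prelude.Def_Local
import Cfsg.Agent.Helper7.PConstrained
import Cfsg.Agent.Helper7.Signalizer2
import Cfsg.Agent.Helper7.ExtLayer
import Cfsg.Agent.Helper7.Hyperplane
import Cfsg.Agent.Lead.CoprimeFrattini

set_option autoImplicit false
set_option linter.style.haveILetI false
set_option linter.unusedSectionVars false

/-! # `O_{q',q}` of a solvable group and S1288 -/

namespace Cfsg.Agent.Helper7

open Subgroup Cfsg
open scoped commutatorElement
open Cfsg.Agent.Helper14 (pCore_isPGroup le_pCore pCore_characteristic)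
open Cfsg.Agent.Helper19 (pPrimeCore_coprime)

universe u

instance pPrimePCore_characteristic (q : ℕ) (K : Type*) [Group K] :
    (pPrimePCore q K).Characteristic := by
  rw [characteristic_iff_comap_eq]
  intro φ
  have hM : (pPrimeCore q K).map (φ : K →* K) = pPrimeCore q K := pPrimeCore_map_equiv q φ
  set φbar := QuotientGroup.congr (pPrimeCore q K) (pPrimeCore q K) φ hM with hφbar
  ext x
  unfold pPrimePCore
  rw [mem_comap, mem_comap, mem_comap]
  have h1 : QuotientGroup.mk' (pPrimeCore q K) (φ.toMonoidHom x) =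
      φbar (QuotientGroup.mk' (pPrimeCore q K) x) := rfl
  rw [h1]
  have h2 := (pCore_characteristic (G := K ⧸ pPrimeCore q K) q).fixed φbar
  exact (SetLike.ext_iff.1 h2 (QuotientGroup.mk' (pPrimeCore q K) x))

variable {K : Type u} [Group K] [Finite K] {q : ℕ} [hq : Fact q.Prime]

/-- `O_{q',q}(K)/O_{q'}(K)` is a `q`-group. -/
theorem exists_pow_mem_pPrimeCore_of_mem_pPrimePCore {x : K} (hx : x ∈ pPrimePCore q K) :
    ∃ k : ℕ, x ^ q ^ k ∈ pPrimeCore q K := by
  have hx' : QuotientGroup.mk' (pPrimeCore q K) x ∈ pCore q (K ⧸ pPrimeCore q K) := hx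
  obtain ⟨k, hk⟩ := (pCore_isPGroup (G := K ⧸ pPrimeCore q K) q) ⟨_, hx'⟩
  refine ⟨k, ?_⟩
  have h1 : (QuotientGroup.mk' (pPrimeCore q K) x) ^ q ^ k = 1 := by
    have := congrArg Subtype.val hk
    simpa using this
  rw [← map_pow] at h1
  rwa [← QuotientGroup.ker_mk' (pPrimeCore q K), MonoidHom.mem_ker]

/-- A `q'`-subgroup of `O_{q',q}(K)` lies in `O_{q'}(K)`. -/
theorem le_pPrimeCore_of_le_pPrimePCore {R : Subgroup K} (hR : R ≤ pPrimePCore q K)
    (hcop : ¬ q ∣ Nat.card R) : R ≤ pPrimeCore q K := by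
  intro r hr
  obtain ⟨k, hk⟩ := exists_pow_mem_pPrimeCore_of_mem_pPrimePCore (hR hr)
  set π := QuotientGroup.mk' (pPrimeCore q K) with hπ
  have h1 : (π r) ^ q ^ k = 1 := by
    rw [← map_pow, ← MonoidHom.mem_ker, hπ, QuotientGroup.ker_mk']
    exact hk
  have h2 : orderOf (π r) ∣ q ^ k := orderOf_dvd_of_pow_eq_one h1
  have h3 : orderOf (π r) ∣ Nat.card R := by
    refine (orderOf_map_dvd π r).trans ?_
    have : orderOf (⟨r, hr⟩ : R) = orderOf r := Subgroup.orderOf_mk r hr
    rw [← this]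
    exact orderOf_dvd_natCard _
  have hc : Nat.Coprime (q ^ k) (Nat.card R) :=
    Nat.Coprime.pow_left _ ((Nat.Prime.coprime_iff_not_dvd hq.out).2 hcop)
  have h4 : orderOf (π r) = 1 := Nat.eq_one_of_dvd_coprimes hc h2 h3
  rw [orderOf_eq_one_iff] at h4
  rwa [← QuotientGroup.ker_mk' (pPrimeCore q K), MonoidHom.mem_ker]

/-- In a finite solvable group, an element acting trivially on `O_{q',q}(K)/O_{q'}(K)` lies in
`O_{q',q}(K)`. -/
theorem mem_pPrimePCore_of_forall_commutator_mem [hs : Group.IsSolvable K] {k : K}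
    (h : ∀ x ∈ pPrimePCore q K, ⁅k, x⁆ ∈ pPrimeCore q K) : k ∈ pPrimePCore q K := by
  have h1 : pLayer q K = ⊥ := pLayer_eq_bot_of_isSolvable q
  have h2 := layer_quotient_eq_bot_iff.1 (pLayer_eq_bot_iff.1 h1)
  set π := QuotientGroup.mk' (pPrimeCore q K) with hπ
  show π k ∈ pCore q (K ⧸ pPrimeCore q K)
  apply h2
  rw [mem_centralizer_iff]
  intro y hy
  obtain ⟨x, rfl⟩ := QuotientGroup.mk'_surjective (pPrimeCore q K) y
  have hx : x ∈ pPrimePCore q K := hy
  have h3 : π ⁅k, x⁆ = 1 := by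
    rw [← MonoidHom.mem_ker, hπ, QuotientGroup.ker_mk']
    exact h x hx
  rw [map_commutatorElement, commutatorElement_eq_one_iff_mul_comm] at h3
  exact h3.symm

end Cfsg.Agent.Helper7
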