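import Mathlib
import Cfsg.Prelude.Def_Local
import Cfsg.Agent.Helper7.PConstrained2
import Cfsg.Agent.Lead.CoprimeFrattini

set_option autoImplicit false
set_option linter.style.haveILetI false
set_option linter.unusedSectionVars false

/-! # From involution centralizers to 2-locals (S1292) -/

namespace Cfsg.Agent.Helper7

open Subgroup Cfsg
open Cfsg.Agent.Helper14 (pCore_isPGroup le_pCore pCore_characteristic)
open Cfsg.Agent.Helper19 (pPrimeCore_coprime)

universe u

variable {G : Type u} [Group G] [Finite G] {p : ℕ} [hp : Fact p.Prime]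

/-- General transfer: if `T ⊴ N` is a `p`-group, `C ≥ C_G(T)`, and `M = N ⊓ C` has `F*(M) = O_p(M)`
(in the form: trivial layer and trivial `p'`-core), then `F*(N) = O_p(N)`. -/
theorem generalizedFitting_eq_pCore_of_inf {N C T : Subgroup G} (hTN : T ≤ N)
    (hNT : N ≤ normalizer (T : Set G)) (hT : IsPGroup p T)
    (hCT : centralizer (T : Set G) ≤ C)
    (h1 : layer ↥(N ⊓ C : Subgroup G) = ⊥) (h2 : pPrimeCore p ↥(N ⊓ C : Subgroup G) = ⊥) :
    generalizedFittingSubgroup N = pCore p N := by
  set M := N ⊓ C with hM
  have hMN : M ≤ N := inf_le_left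
  -- everything in `N` commuting with `O_p(N)` lies in `M`
  have hTcore : T.subgroupOf N ≤ pCore p N := by
    apply le_pCore
    · exact (normal_subgroupOf_iff_le_normalizer hTN).2 hNT
    · exact hT.comap_subtype
  have key : ∀ Y : Subgroup N, ⁅Y, pCore p N⁆ = ⊥ → Y.map N.subtype ≤ M := by
    intro Y hY
    refine le_inf (map_subtype_le _) (le_trans ?_ hCT)
    rintro _ ⟨y, hy, rfl⟩
    rw [mem_centralizer_iff]
    intro t ht
    have ht' : (⟨t, hTN ht⟩ : N) ∈ pCore p N := hTcore (mem_subgroupOf.2 ht)
    have := commutator_eq_bot_iff_forall_commute.1 hY y hy _ ht'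
    exact (congrArg Subtype.val this).symm
  apply generalizedFitting_eq_pCore_of
  · -- `O_{p'}(N) = 1`
    set W := pPrimeCore p N with hW
    have hd : Disjoint W (pCore p N) := by
      apply disjoint_of_coprime_natCard
      obtain ⟨k, hk⟩ := IsPGroup.iff_card.1 (pCore_isPGroup (G := N) p)
      rw [hk]
      exact Nat.Coprime.pow_right _ (pPrimeCore_coprime p)
    have hWM : W.map N.subtype ≤ M := key W (commutator_eq_bot_of_disjoint hd)
    have h3 : (W.map N.subtype).subgroupOf M ≤ pPrimeCore p M := by
      apply le_pPrimeCore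
      · have hn : N ≤ normalizer ((W.map N.subtype : Subgroup G) : Set G) := by
          have := Cfsg.Agent.Lead.normalizer_le_normalizer_map_of_characteristic N W
          exact le_normalizer.trans this
        exact (normal_subgroupOf_iff_le_normalizer hWM).2 (hMN.trans hn)
      · rw [Nat.card_congr (subgroupOfEquivOfLe hWM).toEquiv,
          ← Nat.card_congr (W.equivMapOfInjective _ (subtype_injective N)).toEquiv]
        exact pPrimeCore_coprime p
    rw [h2, le_bot_iff, subgroupOf_eq_bot, disjoint_iff, inf_of_le_left hWM] at h3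
    exact (map_eq_bot_iff_of_injective _ (subtype_injective N)).1 h3
  · -- `E(N) = 1`
    rw [eq_bot_iff, layer_le_iff]
    intro L hL
    exfalso
    have hcomm : ⁅L, pCore p N⁆ = ⊥ := by
      rw [eq_bot_iff]
      calc ⁅L, pCore p N⁆ ≤ ⁅L, fittingSubgroup N⁆ :=
            commutator_mono le_rfl (pCore_le_fittingSubgroup p)
        _ = ⊥ := component_commutator_fitting hL
    have hLM : L.map N.subtype ≤ M := key L hcomm
    have hcomp : IsComponent ((L.map N.subtype).subgroupOf M) := by
      constructor
      · have e : (L.map N.subtype).subgroupOf M = L.comap (inclusion hMN) := by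
          ext x
          simp only [mem_subgroupOf, mem_comap, mem_map]
          constructor
          · rintro ⟨y, hy, hyx⟩
            have : y = inclusion hMN x := Subtype.ext hyx
            rwa [← this]
          · intro hx
            exact ⟨_, hx, rfl⟩
        rw [e]
        exact hL.1.comap _
      · exact isQuasisimple_of_mulEquiv
          ((L.equivMapOfInjective _ (subtype_injective N)).trans
            (subgroupOfEquivOfLe hLM).symm) hL.2
    have := IsComponent.le_layer hcomp
    rw [h1, le_bot_iff] at this
    exact IsComponent.ne_bot hcomp this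

end Cfsg.Agent.Helper7

namespace Cfsg.Agent.Helper7

open Subgroup Cfsg
open Cfsg.Agent.Helper14 (pCore_isPGroup le_pCore pCore_characteristic)
open Cfsg.Agent.Helper19 (pPrimeCore_coprime)

universe u

variable {G : Type u} [Group G] [Finite G] {p : ℕ} [hp : Fact p.Prime]

/-- A nontrivial `p`-subgroup has a central element of order `p`. -/
theorem exists_central_orderOf_eq_prime {T : Subgroup G} (hT : IsPGroup p T) (hT1 : T ≠ ⊥) :
    ∃ z ∈ T, orderOf z = p ∧ ∀ t ∈ T, t * z = z * t := by
  haveI : Nontrivial T := (nontrivial_iff_ne_bot T).2 hT1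
  haveI : Nontrivial (center T) := hT.center_nontrivial
  have hZ : IsPGroup p (center T) := hT.to_subgroup (center T)
  have hdvd : p ∣ Nat.card (center T) := by
    rcases hZ.card_eq_or_dvd with h | h
    · exfalso
      have : Subsingleton (center T) := (Nat.card_eq_one_iff_unique.1 h).1
      exact not_subsingleton _ this
    · exact h
  obtain ⟨z, hz⟩ := exists_prime_orderOf_dvd_card' p hdvd
  refine ⟨((z : T) : G), (z : T).2, ?_, ?_⟩
  · rw [Subgroup.orderOf_coe, Subgroup.orderOf_coe]; exact hz
  · intro t ht
    have := Subgroup.mem_center_iff.1 z.2 ⟨t, ht⟩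
    exact congrArg Subtype.val this

/-- If `F*(C_G(z)) = O_p(C_G(z))` for all `z` of order `p`, then `F*(N_G(T)) = O_p(N_G(T))` for every
nontrivial `p`-subgroup `T`. (S1292 for any prime.) -/
theorem generalizedFitting_normalizer_eq_pCore_of_centralizers
    (h : ∀ t : G, orderOf t = p → generalizedFittingSubgroup ↥(centralizer ({t} : Set G)) =
      pCore p ↥(centralizer ({t} : Set G)))
    {T : Subgroup G} (hT : IsPGroup p T) (hT1 : T ≠ ⊥) :
    generalizedFittingSubgroup ↥(normalizer (T : Set G)) = pCore p ↥(normalizer (T : Set G)) := by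
  obtain ⟨z, hzT, hz, hzc⟩ := exists_central_orderOf_eq_prime hT hT1
  set C := centralizer ({z} : Set G) with hC
  have hCz := h z hz
  have hTC : T ≤ C := fun t ht => mem_centralizer_singleton_iff.2 (hzc t ht)
  have hCT : centralizer (T : Set G) ≤ C :=
    centralizer_le (Set.singleton_subset_iff.2 hzT)
  set N := normalizer (T : Set G) with hN
  have key : ∀ S : Subgroup C, S = normalizer ((T.subgroupOf C : Subgroup C) : Set C) →
      layer S = ⊥ ∧ pPrimeCore p S = ⊥ := by
    rintro S rfl
    have := generalizedFitting_normalizer_eq_pCore p hCz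
      (P := T.subgroupOf C) hT.comap_subtype
    exact ⟨layer_eq_bot_of_generalizedFitting_eq_pCore this,
      pPrimeCore_eq_bot_of_generalizedFitting_eq_pCore this⟩
  have heq : (N ⊓ C).subgroupOf C = normalizer ((T.subgroupOf C : Subgroup C) : Set C) := by
    rw [inf_subgroupOf_right, hN, subgroupOf_normalizer_eq hTC]
  obtain ⟨k1, k2⟩ := key _ heq
  have e : ↥((N ⊓ C).subgroupOf C) ≃* ↥(N ⊓ C : Subgroup G) :=
    subgroupOfEquivOfLe inf_le_right
  have h1 : layer ↥(N ⊓ C : Subgroup G) = ⊥ := by
    rw [← layer_map_equiv e, k1, Subgroup.map_bot]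
  have h2 : pPrimeCore p ↥(N ⊓ C : Subgroup G) = ⊥ := by
    rw [← pPrimeCore_map_equiv p e, k2, Subgroup.map_bot]
  exact generalizedFitting_eq_pCore_of_inf le_normalizer le_rfl hT hCT h1 h2

end Cfsg.Agent.Helper7
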