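import Mathlib
import Cfsg.Prelude.Def_Local
import Cfsg.Agent.Helper7.FStar2
import Cfsg.Agent.Lead.Coprime3
import Cfsg.Agent.Lead.CoprimeFrattini

set_option autoImplicit false
set_option linter.style.haveILetI false
set_option linter.unusedSectionVars false

namespace Cfsg.Agent.Helper7

open Subgroup Cfsg
open scoped commutatorElement

universe u

/-- If `K = [K,Y] C_K(Y)` then `[K,Y,Y] = [K,Y]`. -/
theorem commutator_commutator_eq_of_le_sup {G : Type*} [Group G] {K Y : Subgroup G}
    (h : K ≤ ⁅K, Y⁆ ⊔ (K ⊓ centralizer (Y : Set G))) : ⁅⁅K, Y⁆, Y⁆ = ⁅K, Y⁆ := by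
  apply le_antisymm
  · exact Lead.commutator_le_of_le_normalizer (Lead.le_normalizer_commutator_right K Y)
  · rw [commutator_le]
    intro k hk y hy
    have hnorm : K ⊓ centralizer (Y : Set G) ≤ normalizer ((⁅K, Y⁆ : Subgroup G) : Set G) :=
      inf_le_left.trans (Lead.le_normalizer_commutator_left K Y)
    obtain ⟨d, hd, c, hc, rfl⟩ := (mem_sup_of_le_normalizer hnorm).1 (h hk)
    have hcy : y * c = c * y := (mem_centralizer_iff.1 hc.2) y hy
    have e : ⁅d * c, y⁆ = ⁅d, y⁆ := by
      rw [commutatorElement_def, commutatorElement_def]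
      have : d * c * y * (d * c)⁻¹ = d * y * d⁻¹ := by
        calc d * c * y * (d * c)⁻¹ = d * (c * y) * c⁻¹ * d⁻¹ := by group
          _ = d * (y * c) * c⁻¹ * d⁻¹ := by rw [hcy]
          _ = d * y * d⁻¹ := by group
      rw [this]
    rw [e]
    exact commutator_mem_commutator hd hy

/-- The layer of a subgroup `L` (pushed to `G`) is generated by its commutator with, and its
centralizer of, any subgroup `Y` normalizing `L`. -/
theorem layerIn_le_commutator_sup_centralizer {G : Type u} [Group G] [Finite G] (L Y : Subgroup G)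
    (hY : Y ≤ normalizer (L : Set G)) :
    (layer L).map L.subtype ≤ ⁅(layer L).map L.subtype, Y⁆ ⊔
      ((layer L).map L.subtype ⊓ centralizer (Y : Set G)) := by
  set E : Subgroup G := (layer L).map L.subtype with hE
  have hEL : E ≤ L := map_subtype_le _
  have hYE : Y ≤ normalizer (E : Set G) :=
    hY.trans (Lead.normalizer_le_normalizer_map_of_characteristic L (layer L))
  set D : Subgroup G := ⁅E, Y⁆ with hD
  have hDE : D ≤ E := Lead.commutator_le_of_le_normalizer hYE
  have hDL : D ≤ L := hDE.trans hEL
  have hmapD : (D.subgroupOf L).map L.subtype = D := by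
    rw [subgroupOf_map_subtype]; exact inf_eq_left.2 hDL
  have hDlayer : D.subgroupOf L ≤ layer L := by
    rw [← map_le_map_iff_of_injective (subtype_injective L), hmapD]
    exact hDE
  have hDsn : (D.subgroupOf L).IsSubnormal := by
    refine IsSubnormal.trans hDlayer ?_ (layer_normal L).isSubnormal
    have hn : layer L ≤ normalizer ((D.subgroupOf L : Subgroup L) : Set L) := by
      have h1 : E ≤ normalizer (D : Set G) := Lead.le_normalizer_commutator_left E Y
      have h2 : (normalizer (D : Set G)).subgroupOf L ≤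
          normalizer ((D.subgroupOf L : Subgroup L) : Set L) := le_normalizer_comap L.subtype
      refine le_trans ?_ h2
      intro x hx
      rw [mem_subgroupOf]
      exact h1 (mem_map_of_mem _ hx)
    exact ((normal_subgroupOf_iff_le_normalizer hDlayer).2 hn).isSubnormal
  have key : layer L ≤ (D ⊔ (E ⊓ centralizer (Y : Set G))).subgroupOf L := by
    rw [layer_le_iff]
    intro K hK
    have hKE : K.map L.subtype ≤ E := map_mono (IsComponent.le_layer hK)
    rcases component_le_or_commutator_eq_bot hK hDsn with h | h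
    · have : K.map L.subtype ≤ D := by
        rw [← hmapD]; exact map_mono h
      intro x hx
      rw [mem_subgroupOf]
      exact mem_sup_left (this (mem_map_of_mem _ hx))
    · have h1 : ⁅K.map L.subtype, D⁆ = ⊥ := by
        rw [← hmapD, ← map_commutator, h, Subgroup.map_bot]
      have hperf : ⁅K.map L.subtype, K.map L.subtype⁆ = K.map L.subtype := by
        rw [← map_commutator, IsComponent.commutator_eq hK]
      have h2 : ⁅⁅Y, K.map L.subtype⁆, K.map L.subtype⁆ = ⊥ := by
        rw [eq_bot_iff]
        calc ⁅⁅Y, K.map L.subtype⁆, K.map L.subtype⁆ ≤ ⁅D, K.map L.subtype⁆ := by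
              apply commutator_mono _ le_rfl
              rw [commutator_comm]
              exact commutator_mono hKE le_rfl
          _ = ⊥ := by rw [commutator_comm]; exact h1
      have h3 := commutator_eq_bot_of_perfect hperf h2
      rw [commutator_eq_bot_iff_le_centralizer] at h3
      intro x hx
      rw [mem_subgroupOf]
      exact mem_sup_right ⟨hKE (mem_map_of_mem _ hx), h3 (mem_map_of_mem _ hx)⟩
  rw [hE, map_le_iff_le_comap]
  exact key

/-- In a finite group with `O_p = 1`, the Fitting subgroup is a `p'`-group. -/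
theorem fitting_coprime_of_pCore_eq_bot {G : Type u} [Group G] [Finite G] {p : ℕ} [Fact p.Prime]
    (h : pCore p G = ⊥) : (Nat.card (fittingSubgroup G)).Coprime p := by
  haveI : Group.IsNilpotent (fittingSubgroup G) := fittingSubgroup_isNilpotent
  obtain ⟨P⟩ : Nonempty (Sylow p (fittingSubgroup G)) := inferInstance
  have hPn : (P : Subgroup (fittingSubgroup G)).Normal := inferInstance
  have hsn : ((P : Subgroup (fittingSubgroup G)).map (fittingSubgroup G).subtype).IsSubnormal :=
    hPn.isSubnormal.trans' (fittingSubgroup_normal G).isSubnormal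
  have hle := subnormal_pGroup_le_pCore hsn (P.isPGroup'.map _)
  rw [h, le_bot_iff, (map_eq_bot_iff_of_injective _ (subtype_injective _))] at hle
  by_contra hcop
  have hdvd : p ∣ Nat.card (fittingSubgroup G) := by
    rcases (Nat.coprime_or_dvd_of_prime (Fact.out : p.Prime) (Nat.card (fittingSubgroup G))) with h | h
    · exact absurd h.symm hcop
    · exact h
  exact P.ne_bot_of_dvd_card hdvd hle

/-- Abstract form of S2812. -/
theorem commutator_sup_centralizer_of_fitting_sup_layer {G : Type u} [Group G] [Finite G]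
    {p : ℕ} [Fact p.Prime] (L Y : Subgroup G) (hY : IsPGroup p Y)
    (hYL : Y ≤ normalizer (L : Set G))
    (hFE : fittingSubgroup L ⊔ layer L = ⊤) (hp : (Nat.card (fittingSubgroup L)).Coprime p) :
    ⁅L, Y⁆ ⊔ (L ⊓ centralizer (Y : Set G)) = L ∧ ⁅L, Y⁆ = ⁅⁅L, Y⁆, Y⁆ := by
  set F : Subgroup G := (fittingSubgroup L).map L.subtype with hF
  set E : Subgroup G := (layer L).map L.subtype with hE
  have hL : L = F ⊔ E := by
    rw [hF, hE, ← Subgroup.map_sup, hFE, ← MonoidHom.range_eq_map, range_subtype]
  have hYF : Y ≤ normalizer (F : Set G) :=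
    hYL.trans (Lead.normalizer_le_normalizer_map_of_characteristic L (fittingSubgroup L))
  have hcop : (Nat.card Y).Coprime (Nat.card F) := by
    rw [hF, card_map_of_injective (subtype_injective L)]
    obtain ⟨n, hn⟩ := IsPGroup.iff_card.1 hY
    rw [hn]
    exact (Nat.Coprime.pow_right n hp).symm
  have hsolv : Group.IsSolvable Y := by
    haveI := hY.isNilpotent
    infer_instance
  have h1 : F ≤ ⁅L, Y⁆ ⊔ (L ⊓ centralizer (Y : Set G)) := by
    have hFL : F ≤ L := map_subtype_le _
    calc F = ⁅F, Y⁆ ⊔ (F ⊓ centralizer (Y : Set G)) :=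
          (Lead.coprime_commutator_sup_centralizer Y F hYF hcop (Or.inl hsolv)).symm
      _ ≤ _ := sup_le_sup (commutator_mono hFL le_rfl) (inf_le_inf_right _ hFL)
  have h2 : E ≤ ⁅L, Y⁆ ⊔ (L ⊓ centralizer (Y : Set G)) := by
    have hEL : E ≤ L := map_subtype_le _
    calc E ≤ ⁅E, Y⁆ ⊔ (E ⊓ centralizer (Y : Set G)) :=
          layerIn_le_commutator_sup_centralizer L Y hYL
      _ ≤ _ := sup_le_sup (commutator_mono hEL le_rfl) (inf_le_inf_right _ hEL)
  have h3 : L ≤ ⁅L, Y⁆ ⊔ (L ⊓ centralizer (Y : Set G)) := by
    conv_lhs => rw [hL]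
    exact sup_le h1 h2
  refine ⟨le_antisymm (sup_le (Lead.commutator_le_of_le_normalizer hYL) inf_le_left) h3, ?_⟩
  exact (commutator_commutator_eq_of_le_sup h3).symm

end Cfsg.Agent.Helper7
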