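import Mathlib
import Cfsg.Prelude.Def_Local
import Cfsg.Agent.Helper7.FStarComm

set_option autoImplicit false
set_option linter.style.haveILetI false
set_option linter.unusedSectionVars false

namespace Cfsg.Agent.Helper7

open Subgroup Cfsg
open Cfsg.Agent.Helper14 (pCore_isPGroup le_pCore pCore_characteristic pCore_map_equiv)

universe u

/-- S2812. -/
theorem commutator_sup_centralizer_of_subnormal_le_generalizedFitting
    {G : Type u} [Group G] [Finite G] {p : ℕ} [Fact p.Prime] (H : Subgroup G)
    (hO : pCore p H = ⊥) (Y : Subgroup G) (hY : IsPGroup p Y)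
    (L : Subgroup G) (hLF : L ≤ (generalizedFittingSubgroup H).map H.subtype)
    (hLsn : (L.subgroupOf H).IsSubnormal) (hYL : Y ≤ normalizer (L : Set G)) :
    ⁅L, Y⁆ ⊔ (L ⊓ centralizer (Y : Set G)) = L ∧ ⁅L, Y⁆ = ⁅⁅L, Y⁆, Y⁆ := by
  have hLH : L ≤ H := hLF.trans (map_subtype_le _)
  set S : Subgroup H := L.subgroupOf H with hS
  have hSle : S ≤ generalizedFittingSubgroup H := by
    intro x hx
    rw [hS, mem_subgroupOf] at hx
    obtain ⟨z, hz, hzx⟩ := hLF hx
    have : z = x := Subtype.ext hzx
    rwa [← this]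
  have hsn' : (S.subgroupOf (generalizedFittingSubgroup H)).IsSubnormal := hLsn.subgroupOf
  obtain ⟨_, hFE_S⟩ := subnormal_of_generalizedFitting_factorization hSle hsn'
  let e : S ≃* L := subgroupOfEquivOfLe hLH
  have hFE : fittingSubgroup L ⊔ layer L = ⊤ := by
    rw [← fittingSubgroup_map_equiv e, ← layer_map_equiv e, ← Subgroup.map_sup, hFE_S]
    exact map_top_of_surjective _ e.surjective
  have hpS : pCore p S = ⊥ := by
    have hsn : ((pCore p S).map S.subtype).IsSubnormal :=
      (pCore_normal p S).isSubnormal.trans' hLsn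
    have := subnormal_pGroup_le_pCore hsn ((pCore_isPGroup p).map _)
    rw [hO, le_bot_iff, map_eq_bot_iff_of_injective _ (subtype_injective _)] at this
    exact this
  have hpL : pCore p L = ⊥ := by rw [← pCore_map_equiv p e, hpS, Subgroup.map_bot]
  exact commutator_sup_centralizer_of_fitting_sup_layer L Y hY hYL hFE
    (fitting_coprime_of_pCore_eq_bot hpL)

end Cfsg.Agent.Helper7
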