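import Mathlib
import Cfsg.Prelude.Def_Local
import Cfsg.Agent.Helper7.FStarComm2

set_option autoImplicit false
set_option linter.style.haveILetI false
set_option linter.unusedSectionVars false

namespace Cfsg.Agent.Helper7

open Subgroup Cfsg
open Cfsg.Agent.Helper14 (pCore_isPGroup le_pCore pCore_characteristic pCore_map_equiv)

universe u

/-- `O_p(L) = 1` for `L` subnormal in `H` with `O_p(H) = 1`. -/
theorem pCore_eq_bot_of_isSubnormal {H : Type u} [Group H] [Finite H] {p : ℕ} [Fact p.Prime]
    (hO : pCore p H = ⊥) {L : Subgroup H} (hLsn : L.IsSubnormal) : pCore p L = ⊥ := by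
  have hsn : ((pCore p L).map L.subtype).IsSubnormal :=
    (pCore_normal p L).isSubnormal.trans' hLsn
  have := subnormal_pGroup_le_pCore hsn ((pCore_isPGroup p).map _)
  rw [hO, le_bot_iff, map_eq_bot_iff_of_injective _ (subtype_injective _)] at this
  exact this

/-- S2812 with `H` the whole group. -/
theorem commutator_sup_centralizer_of_subnormal_le_generalizedFitting'
    {H : Type u} [Group H] [Finite H] {p : ℕ} [Fact p.Prime]
    (hO : pCore p H = ⊥) (Y : Subgroup H) (hY : IsPGroup p Y)
    (L : Subgroup H) (hLF : L ≤ generalizedFittingSubgroup H)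
    (hLsn : L.IsSubnormal) (hYL : Y ≤ normalizer (L : Set H)) :
    ⁅L, Y⁆ ⊔ (L ⊓ centralizer (Y : Set H)) = L ∧ ⁅L, Y⁆ = ⁅⁅L, Y⁆, Y⁆ := by
  obtain ⟨_, hFE⟩ := subnormal_of_generalizedFitting_factorization hLF hLsn.subgroupOf
  exact commutator_sup_centralizer_of_fitting_sup_layer L Y hY hYL hFE
    (fitting_coprime_of_pCore_eq_bot (pCore_eq_bot_of_isSubnormal hO hLsn))

/-- `F*(A) ⊓ B = F*(B)` for `B` subnormal in `A`. -/
theorem generalizedFitting_inf_subnormal {A : Type u} [Group A] [Finite A] {B : Subgroup A}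
    (hB : B.IsSubnormal) :
    generalizedFittingSubgroup A ⊓ B = (generalizedFittingSubgroup B).map B.subtype := by
  apply le_antisymm
  · set H := generalizedFittingSubgroup A ⊓ B with hH
    have hle : H ≤ generalizedFittingSubgroup A := inf_le_left
    have hsn : (H.subgroupOf (generalizedFittingSubgroup A)).IsSubnormal := by
      rw [hH, inf_subgroupOf_left]
      exact hB.subgroupOf
    have h1 := (subnormal_of_generalizedFitting_factorization hle hsn).2
    have h2 : generalizedFittingSubgroup H = ⊤ := by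
      unfold generalizedFittingSubgroup
      rw [sup_comm]
      exact h1
    have hsn2 : (H.subgroupOf B).IsSubnormal := by
      rw [hH, inf_subgroupOf_right]
      exact ((generalizedFittingSubgroup_normal A).subgroupOf B).isSubnormal
    have h3 := map_subtype_generalizedFitting_le_of_le (inf_le_right : H ≤ B) hsn2
    rwa [h2, ← MonoidHom.range_eq_map, range_subtype] at h3
  · exact le_inf (map_subtype_generalizedFitting_le hB) (map_subtype_le _)

/-- If `D = [D, Y]` and `Y ≤ K` with `K` subnormal then `D ≤ K`. -/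
theorem le_of_commutator_eq_of_le_isSubnormal {G : Type*} [Group G] {D Y K : Subgroup G}
    (hD : ⁅D, Y⁆ = D) (hK : K.IsSubnormal) (hYK : Y ≤ K) : D ≤ K := by
  induction hK with
  | top => exact le_top
  | step K M hKM hM hn ih =>
    have hDM : D ≤ M := ih (hYK.trans hKM)
    have hMK : M ≤ normalizer (K : Set G) := (normal_subgroupOf_iff_le_normalizer hKM).1 hn
    calc D = ⁅D, Y⁆ := hD.symm
      _ ≤ ⁅M, K⁆ := commutator_mono hDM hYK
      _ ≤ K := by
        rw [commutator_comm]
        exact Lead.commutator_le_of_le_normalizer hMK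

/-- The centre of `F*(H)` lies in `F(H)`. -/
theorem generalizedFitting_inf_centralizer_le_fitting {H : Type u} [Group H] [Finite H] :
    generalizedFittingSubgroup H ⊓ centralizer (generalizedFittingSubgroup H : Set H) ≤
      fittingSubgroup H := by
  set Z := generalizedFittingSubgroup H ⊓ centralizer (generalizedFittingSubgroup H : Set H)
    with hZ
  haveI : (generalizedFittingSubgroup H).Normal := generalizedFittingSubgroup_normal H
  have hZn : Z.Normal := inferInstance
  have hcomm : IsMulCommutative Z := by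
    refine ⟨⟨fun a b => ?_⟩⟩
    apply Subtype.ext
    have := (mem_centralizer_iff.1 b.2.2) a a.2.1
    simpa using this
  exact le_fittingSubgroup hZn (isNilpotent_of_isMulCommutative Z)

/-- S2816. -/
theorem commutator_generalizedFitting_subnormal
    {H : Type u} [Group H] [Finite H] {p : ℕ} [Fact p.Prime]
    (hO : pCore p H = ⊥) (Y : Subgroup H) (hY : IsPGroup p Y) :
    (∀ K : Subgroup H, K.IsSubnormal → Y ≤ K →
      ⁅generalizedFittingSubgroup H, Y⁆ = ⁅(generalizedFittingSubgroup K).map K.subtype, Y⁆ ∧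
      ⁅(generalizedFittingSubgroup K).map K.subtype, Y⁆ =
        ⁅⁅(generalizedFittingSubgroup K).map K.subtype, Y⁆, Y⁆) ∧
    (∀ Y₀ : Subgroup H, Y₀ ≤ Y → ⁅⁅generalizedFittingSubgroup H, Y⁆, Y₀⁆ = ⊥ → Y₀ = ⊥) := by
  set Fs := generalizedFittingSubgroup H with hFs
  haveI hFsn : Fs.Normal := generalizedFittingSubgroup_normal H
  obtain ⟨h1, h2⟩ := commutator_sup_centralizer_of_subnormal_le_generalizedFitting' hO Y hY Fs
    le_rfl hFsn.isSubnormal le_normalizer_of_normal
  set D := ⁅Fs, Y⁆ with hD
  have hDFs : D ≤ Fs := commutator_le_left _ _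
  constructor
  · intro K hK hYK
    have hDK : D ≤ K := le_of_commutator_eq_of_le_isSubnormal h2.symm hK hYK
    have hFK : (generalizedFittingSubgroup K).map K.subtype = Fs ⊓ K :=
      (generalizedFitting_inf_subnormal hK).symm
    rw [hFK]
    have e1 : D = ⁅Fs ⊓ K, Y⁆ := by
      apply le_antisymm
      · calc D = ⁅D, Y⁆ := h2
          _ ≤ ⁅Fs ⊓ K, Y⁆ := commutator_mono (le_inf hDFs hDK) le_rfl
      · exact commutator_mono inf_le_left le_rfl
    refine ⟨e1, ?_⟩
    rw [← e1]
    exact h2
  · intro Y₀ hY₀ hcomm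
    have hDc : D ≤ centralizer (Y₀ : Set H) := commutator_eq_bot_iff_le_centralizer.1 hcomm
    have hFsc : Fs ≤ centralizer (Y₀ : Set H) := by
      rw [← h1]
      exact sup_le hDc (inf_le_right.trans (centralizer_le hY₀))
    have hY₀c : Y₀ ≤ centralizer (Fs : Set H) := le_centralizer_iff.1 hFsc
    have hY₀F : Y₀ ≤ fittingSubgroup H :=
      (le_inf (hY₀c.trans centralizer_generalizedFitting_le) hY₀c).trans
        generalizedFitting_inf_centralizer_le_fitting
    have hcop := fitting_coprime_of_pCore_eq_bot hO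
    have hdvd : Nat.card Y₀ ∣ Nat.card (fittingSubgroup H) := card_dvd_of_le hY₀F
    obtain ⟨n, hn⟩ := IsPGroup.iff_card.1 (hY.to_le hY₀)
    have hc1 : (Nat.card Y₀).Coprime (Nat.card Y₀) := by
      have : (Nat.card Y₀).Coprime (Nat.card (fittingSubgroup H)) := by
        rw [hn]; exact (Nat.Coprime.pow_right n hcop).symm
      exact Nat.Coprime.coprime_dvd_right hdvd this
    have : Nat.card Y₀ = 1 := (Nat.coprime_self _).1 hc1
    exact card_eq_one.1 this

end Cfsg.Agent.Helper7
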