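import Mathlib
import Cfsg.Prelude.Def_Local
import Cfsg.Agent.Helper7.FStarComm3
import Cfsg.Agent.Lead.RelQuot
import Cfsg.Agent.Lead.CoprimeAbelian

set_option autoImplicit false
set_option linter.style.haveILetI false
set_option linter.unusedSectionVars false

namespace Cfsg.Agent.Helper7

open Subgroup Cfsg
open scoped commutatorElement

universe u

/-- `Z(X) ∩ X' ≤ Φ(X)`. -/
theorem center_inf_commutator_le_frattini {X : Type*} [Group X] :
    center X ⊓ commutator X ≤ frattini X := by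
  intro z hz
  unfold frattini Order.radical
  rw [Subgroup.mem_iInf]
  intro M
  rw [Subgroup.mem_iInf]
  intro hM
  by_contra hzM
  have htop : M ⊔ zpowers z = ⊤ := by
    apply hM.2
    apply lt_of_le_of_ne le_sup_left
    intro h
    apply hzM
    rw [h]
    exact mem_sup_right (mem_zpowers z)
  have hzc : ∀ g : X, g * z = z * g := fun g => (mem_center_iff.1 hz.1) g
  have hnorm : zpowers z ≤ normalizer (M : Set X) := by
    intro w hw
    obtain ⟨k, rfl⟩ := mem_zpowers_iff.1 hw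
    have hc : z ^ k ∈ center X := (center X).zpow_mem hz.1 k
    rw [mem_normalizer_iff]
    intro x
    have : z ^ k * x * (z ^ k)⁻¹ = x := by
      rw [← (mem_center_iff.1 hc) x]; group
    rw [this]
  have hcomm : commutator X ≤ M := by
    rw [commutator_def, commutator_le]
    intro a _ b _
    have ha : a ∈ M ⊔ zpowers z := by rw [htop]; trivial
    have hb : b ∈ M ⊔ zpowers z := by rw [htop]; trivial
    obtain ⟨m₁, hm₁, w₁, hw₁, rfl⟩ := (mem_sup_of_le_normalizer hnorm).1 ha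
    obtain ⟨m₂, hm₂, w₂, hw₂, rfl⟩ := (mem_sup_of_le_normalizer hnorm).1 hb
    have hw₁c : w₁ ∈ center X := by
      obtain ⟨k, rfl⟩ := mem_zpowers_iff.1 hw₁
      exact (center X).zpow_mem hz.1 k
    have hw₂c : w₂ ∈ center X := by
      obtain ⟨k, rfl⟩ := mem_zpowers_iff.1 hw₂
      exact (center X).zpow_mem hz.1 k
    have e : ⁅m₁ * w₁, m₂ * w₂⁆ = ⁅m₁, m₂⁆ := by
      rw [commutatorElement_def, commutatorElement_def]
      have c1 := (mem_center_iff.1 hw₁c)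
      have c2 := (mem_center_iff.1 hw₂c)
      calc m₁ * w₁ * (m₂ * w₂) * (m₁ * w₁)⁻¹ * (m₂ * w₂)⁻¹
          = m₁ * (w₁ * m₂) * w₂ * w₁⁻¹ * m₁⁻¹ * w₂⁻¹ * m₂⁻¹ := by group
        _ = m₁ * (m₂ * w₁) * w₂ * w₁⁻¹ * m₁⁻¹ * w₂⁻¹ * m₂⁻¹ := by rw [c1 m₂]
        _ = m₁ * m₂ * (w₁ * (w₂ * w₁⁻¹)) * m₁⁻¹ * w₂⁻¹ * m₂⁻¹ := by group
        _ = m₁ * m₂ * ((w₂ * w₁⁻¹) * w₁) * m₁⁻¹ * w₂⁻¹ * m₂⁻¹ := by rw [c1 (w₂ * w₁⁻¹)]
        _ = m₁ * m₂ * (w₂ * m₁⁻¹) * w₂⁻¹ * m₂⁻¹ := by group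
        _ = m₁ * m₂ * (m₁⁻¹ * w₂) * w₂⁻¹ * m₂⁻¹ := by rw [c2 m₁⁻¹]
        _ = m₁ * m₂ * m₁⁻¹ * m₂⁻¹ := by group
    rw [e]
    rw [commutatorElement_def]
    exact M.mul_mem (M.mul_mem (M.mul_mem hm₁ hm₂) (M.inv_mem hm₁)) (M.inv_mem hm₂)
  exact hzM (hcomm hz.2)

/-- `subgroupOf` commutes with commutators of subgroups below. -/
theorem subgroupOf_commutator {G : Type*} [Group G] {A B K : Subgroup G} (hA : A ≤ K)
    (hB : B ≤ K) : (⁅A, B⁆).subgroupOf K = ⁅A.subgroupOf K, B.subgroupOf K⁆ := by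
  apply map_injective (subtype_injective K)
  rw [map_commutator, subgroupOf_map_subtype, subgroupOf_map_subtype, subgroupOf_map_subtype,
    inf_eq_left.2 hA, inf_eq_left.2 hB]
  exact inf_eq_left.2 ((commutator_mono hA hB).trans (commutator_le_self K))

/-- If `A` normalizes `R` then it normalizes `⁅R, R⁆`. -/
theorem le_normalizer_commutator_self {G : Type*} [Group G] {A R : Subgroup G}
    (h : A ≤ normalizer (R : Set G)) : A ≤ normalizer ((⁅R, R⁆ : Subgroup G) : Set G) := by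
  intro a ha
  rw [mem_normalizer_iff_map_conj_eq', map_commutator,
    mem_normalizer_iff_map_conj_eq'.1 (h ha)]

/-- If `x` centralizes `Q` and `⁅A, Q⁆`, and `g ∈ A`, then `g x g⁻¹` centralizes `Q`. -/
theorem conj_mem_centralizer_of_mem {G : Type*} [Group G] {A Q : Subgroup G} {x g : G}
    (hxQ : x ∈ centralizer (Q : Set G)) (hxL : x ∈ centralizer ((⁅A, Q⁆ : Subgroup G) : Set G))
    (hg : g ∈ A) : g * x * g⁻¹ ∈ centralizer (Q : Set G) := by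
  rw [mem_centralizer_iff]
  intro y hy
  have hc : ⁅g⁻¹, y⁆ ∈ ⁅A, Q⁆ := commutator_mem_commutator (A.inv_mem hg) hy
  have h1 : ⁅g⁻¹, y⁆ * x = x * ⁅g⁻¹, y⁆ := (mem_centralizer_iff.1 hxL) _ hc
  have h2 : y * x = x * y := (mem_centralizer_iff.1 hxQ) y hy
  have e1 : y * g = g * ⁅g⁻¹, y⁆ * y := by rw [commutatorElement_def]; group
  calc y * (g * x * g⁻¹) = (y * g) * x * g⁻¹ := by group
    _ = g * (⁅g⁻¹, y⁆ * (y * x)) * g⁻¹ := by rw [e1]; group
    _ = g * (⁅g⁻¹, y⁆ * (x * y)) * g⁻¹ := by rw [h2]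
    _ = g * ((⁅g⁻¹, y⁆ * x) * y) * g⁻¹ := by group
    _ = g * ((x * ⁅g⁻¹, y⁆) * y) * g⁻¹ := by rw [h1]
    _ = g * x * g⁻¹ * ((g * ⁅g⁻¹, y⁆) * y * g⁻¹) := by group
    _ = g * x * g⁻¹ * (y * g * g⁻¹) := by rw [← e1]
    _ = g * x * g⁻¹ * y := by group

/-- `[E ⊔ N, Q] ≤ [N, Q] ⊔ [E, Q]` when `E` and `N` commute and `Q` normalizes `N`. -/
theorem commutator_sup_le_of_commute {G : Type*} [Group G] {E N Q : Subgroup G}
    (hEN : ⁅E, N⁆ = ⊥) (hQN : Q ≤ normalizer (N : Set G)) :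
    ⁅E ⊔ N, Q⁆ ≤ ⁅N, Q⁆ ⊔ ⁅E, Q⁆ := by
  rw [commutator_le]
  intro g hg y hy
  obtain ⟨e, he, n, hn, rfl⟩ := (mem_sup_of_commutator_eq_bot hEN).1 hg
  have hny : ⁅n, y⁆ ∈ ⁅N, Q⁆ := commutator_mem_commutator hn hy
  have hnyN : ⁅n, y⁆ ∈ N := Lead.commutator_le_of_le_normalizer hQN hny
  have hc : e * ⁅n, y⁆ = ⁅n, y⁆ * e :=
    (commutator_eq_bot_iff_forall_commute.1 hEN) e he _ hnyN
  have e1 : ⁅e * n, y⁆ = ⁅n, y⁆ * ⁅e, y⁆ := by
    calc ⁅e * n, y⁆ = (e * ⁅n, y⁆) * e⁻¹ * ⁅e, y⁆ := by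
          simp only [commutatorElement_def]; group
      _ = (⁅n, y⁆ * e) * e⁻¹ * ⁅e, y⁆ := by rw [hc]
      _ = ⁅n, y⁆ * ⁅e, y⁆ := by group
  rw [e1]
  exact mul_mem (mem_sup_left hny) (mem_sup_right (commutator_mem_commutator he hy))

end Cfsg.Agent.Helper7

namespace Cfsg.Agent.Helper7

open Subgroup Cfsg
open scoped commutatorElement

/-- Coprime action on the abelianization: if `L = R·L'` with `R` of order prime to `|Q|`, then
`C_L(Q) ∩ [L, Q] ≤ L'`. -/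
theorem coprime_centralizer_inf_commutator_le {G : Type*} [Group G] [Finite G] {L Q R : Subgroup G}
    (hQL : Q ≤ normalizer (L : Set G))
    (hcop : (Nat.card Q).Coprime (Nat.card R))
    (hLR : ∀ l ∈ L, ∃ r ∈ R, r⁻¹ * l ∈ ⁅L, L⁆) :
    L ⊓ centralizer (Q : Set G) ⊓ ⁅L, Q⁆ ≤ ⁅L, L⁆ := by
  set N : Subgroup G := ⁅L, L⁆ with hN
  have hLN : L ≤ normalizer (N : Set G) := le_normalizer_commutator_self le_normalizer
  have hQN : Q ≤ normalizer (N : Set G) := le_normalizer_commutator_self hQL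
  set V := Lead.bar N L with hV
  set A := Lead.bar N Q with hA
  have hmk : ∀ (a b : G) (ha : a ∈ normalizer (N : Set G)) (hb : b ∈ normalizer (N : Set G)),
      a⁻¹ * b ∈ N → Lead.relMk N ⟨a, ha⟩ = Lead.relMk N ⟨b, hb⟩ := by
    intro a b ha hb hab
    unfold Lead.relMk
    rw [QuotientGroup.mk'_apply, QuotientGroup.mk'_apply, QuotientGroup.eq]
    exact hab
  have hVcomm : IsMulCommutative V := by
    refine ⟨⟨fun a b => ?_⟩⟩
    apply Subtype.ext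
    obtain ⟨l₁, hl₁, h1⟩ := a.2
    obtain ⟨l₂, hl₂, h2⟩ := b.2
    rw [Subgroup.coe_mul, Subgroup.coe_mul, ← h1, ← h2, ← map_mul, ← map_mul]
    apply hmk
    have : ((l₁ : G) * (l₂ : G))⁻¹ * ((l₂ : G) * (l₁ : G))
        = ⁅(l₂ : G)⁻¹, (l₁ : G)⁻¹⁆ := by
      rw [commutatorElement_def]; group
    rw [this]
    exact commutator_mem_commutator (L.inv_mem (mem_subgroupOf.1 hl₂))
      (L.inv_mem (mem_subgroupOf.1 hl₁))
  have hAV : A ≤ normalizer (V : Set _) := Lead.bar_le_normalizer_bar N hQL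
  have hVR : V ≤ Lead.bar N R := by
    rintro v ⟨l, hl, rfl⟩
    obtain ⟨r, hr, hrl⟩ := hLR l (mem_subgroupOf.1 hl)
    have hrn : r ∈ normalizer (N : Set G) := by
      have : r = (l : G) * (r⁻¹ * l)⁻¹ := by group
      rw [this]
      exact mul_mem l.2 (inv_mem (le_normalizer hrl))
    refine ⟨⟨r, hrn⟩, mem_subgroupOf.2 hr, ?_⟩
    exact hmk r l hrn l.2 hrl
  have hcop' : (Nat.card A).Coprime (Nat.card V) := by
    have h1 : Nat.card A ∣ Nat.card Q := Lead.card_bar_dvd N Q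
    have h2 : Nat.card V ∣ Nat.card R :=
      (card_dvd_of_le hVR).trans (Lead.card_bar_dvd N R)
    exact Nat.Coprime.coprime_dvd_left h1 (Nat.Coprime.coprime_dvd_right h2 hcop)
  have hbot := Lead.coprime_abelian_inf A V hAV hcop'
  have hbarcomm : Lead.bar N ⁅L, Q⁆ = ⁅V, A⁆ := by
    rw [hV, hA]
    unfold Lead.bar
    rw [subgroupOf_commutator hLN hQN, map_commutator]
  intro c hc
  obtain ⟨⟨hcL, hcQ⟩, hcD⟩ := hc
  have hcn : c ∈ normalizer (N : Set G) := hLN hcL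
  set cb := Lead.relMk N ⟨c, hcn⟩ with hcb
  have hcV : cb ∈ V := ⟨⟨c, hcn⟩, mem_subgroupOf.2 hcL, rfl⟩
  have hcC : cb ∈ centralizer (A : Set _) := by
    rw [mem_centralizer_iff]
    rintro a ⟨y, hy, rfl⟩
    rw [hcb, ← map_mul, ← map_mul]
    congr 1
    apply Subtype.ext
    exact (mem_centralizer_iff.1 hcQ) y (mem_subgroupOf.1 hy)
  have hcD' : cb ∈ ⁅V, A⁆ := by
    rw [← hbarcomm]
    exact ⟨⟨c, hcn⟩, mem_subgroupOf.2 hcD, rfl⟩
  have h1 : cb ∈ (⊥ : Subgroup _) := by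
    rw [← hbot]; exact ⟨⟨hcV, hcC⟩, hcD'⟩
  rw [mem_bot, hcb] at h1
  have h2 : (⟨c, hcn⟩ : ↥(normalizer (N : Set G))) ∈ (Lead.relMk N).ker := h1
  rw [Lead.ker_relMk, mem_subgroupOf] at h2
  exact h2

end Cfsg.Agent.Helper7
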