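import Mathlib
import Cfsg.Agent.Helper7.PConstrained2
import Cfsg.Agent.Helper7.LocalLayer
import Cfsg.Agent.Helper7.PComponent4
import Cfsg.Agent.S3800

set_option autoImplicit false
set_option linter.style.haveILetI false
set_option linter.unusedSectionVars false

/-! # `p`-constraint of `p`-local subgroups from maximal locals or centralizers (S3247) -/

namespace Cfsg.Agent.Helper7

open Subgroup Cfsg
open Cfsg.Agent.Helper14 (pCore_isPGroup le_pCore pCore_characteristic)
open Cfsg.Agent.Helper19 (pPrimeCore_coprime)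

universe u

section general

variable {G : Type*} [Group G]

/-- The image of a component under a surjective homomorphism is trivial or a component. -/
theorem IsComponent.map_eq_bot_or {Y : Type*} [Group Y] (f : G →* Y)
    (hf : Function.Surjective f) {L : Subgroup G} (hL : IsComponent L) :
    L.map f = ⊥ ∨ IsComponent (L.map f) := by
  by_cases h : L.map f = ⊥
  · exact Or.inl h
  · right
    refine ⟨hL.1.map (f := f) hf, ?_⟩
    haveI : Nontrivial (L.map f) := (nontrivial_iff_ne_bot _).2 h
    exact isQuasisimple_of_surjective' hL.2 (f.subgroupMap L) (f.subgroupMap_surjective L)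

theorem exists_isComponent_of_layer_ne_bot (h : layer G ≠ ⊥) : ∃ L : Subgroup G, IsComponent L := by
  by_contra hne
  apply h
  unfold layer
  rw [sSup_eq_bot]
  intro K hK
  exact absurd ⟨K, hK⟩ hne

end general

section iso

variable {G : Type*} [Group G] [Finite G] {H : Type*} [Group H] [Finite H] {p : ℕ}
  [hp : Fact p.Prime]

/-- `p`-constraint (in the form `L_{p'} = 1`) is invariant under isomorphism. -/
theorem pLayer_eq_bot_of_mulEquiv (e : G ≃* H) (h : pLayer p G = ⊥) : pLayer p H = ⊥ := by
  rw [pLayer_eq_bot_iff] at h ⊢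
  let e' : (G ⧸ pPrimeCore p G) ≃* (H ⧸ pPrimeCore p H) :=
    QuotientGroup.congr (pPrimeCore p G) (pPrimeCore p H) e (pPrimeCore_map_equiv p e)
  have := layer_map_equiv e'
  rw [h, Subgroup.map_bot] at this
  exact this.symm

end iso

section lemmaA

variable {N : Type u} [Group N] [Finite N] {p : ℕ} [hp : Fact p.Prime]

theorem centralizer_zpowers_eq' (x : N) :
    centralizer ((zpowers x : Subgroup N) : Set N) = centralizer {x} := by
  rw [zpowers_eq_closure, centralizer_closure]

/-- If `x ∈ O_p(N)` and `C_N(x)` is `p`-constrained then so is `N`. -/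
theorem pLayer_eq_bot_of_centralizer {x : N} (hx : x ∈ pCore p N)
    (h : pLayer p ↥(centralizer ({x} : Set N)) = ⊥) : pLayer p N = ⊥ := by
  rw [pLayer_eq_bot_iff] at h ⊢
  set O := pPrimeCore p N with hO
  set π := QuotientGroup.mk' O with hπ
  set D := centralizer ({x} : Set N) with hD
  by_contra hne
  obtain ⟨L, hL⟩ := exists_isComponent_of_layer_ne_bot hne
  -- `π x ∈ O_p(N/O)`
  have hxbar : π x ∈ pCore p (N ⧸ O) := by
    have : (pCore p N).map π ≤ pCore p (N ⧸ O) := by
      apply le_pCore p
      · exact (Cfsg.Agent.Helper14.pCore_normal p).map π (QuotientGroup.mk'_surjective _)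
      · exact (pCore_isPGroup p).map π
    exact this (mem_map_of_mem π hx)
  -- `L ≤ C(π x) = π(D)`
  have hLc : L ≤ centralizer ({π x} : Set (N ⧸ O)) := by
    refine (IsComponent.le_layer hL).trans ((layer_le_centralizer_pCore p).trans ?_)
    apply centralizer_le
    intro y hy
    rw [Set.mem_singleton_iff] at hy
    rw [hy]; exact hxbar
  have hxp : IsPGroup p (zpowers x) := (pCore_isPGroup p).to_le (by
    rw [zpowers_le]; exact hx)
  have hcent : centralizer ({π x} : Set (N ⧸ O)) = D.map π := by
    have h2 := (Cfsg.Agent.S3800.result O (pPrimeCore_coprime p) (zpowers x) hxp).2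
    rw [MonoidHom.map_zpowers, centralizer_zpowers_eq', centralizer_zpowers_eq'] at h2
    exact h2
  rw [hcent] at hLc
  -- the component `L'` of `π(D)`
  have hL' : IsComponent (L.subgroupOf (D.map π)) := isComponent_subgroupOf hL hLc
  set φ : D →* D.map π := π.subgroupMap D with hφ
  have hφsurj : Function.Surjective φ := π.subgroupMap_surjective D
  have hker : φ.ker ≤ pPrimeCore p D := by
    have hker' : φ.ker = O.subgroupOf D := by
      ext y
      rw [MonoidHom.mem_ker, mem_subgroupOf]
      constructor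
      · intro hy
        have h1 : ((φ y : D.map π) : N ⧸ O) = 1 := congrArg Subtype.val hy
        exact (QuotientGroup.eq_one_iff (y : N)).1 h1
      · intro hy
        apply Subtype.ext
        exact (QuotientGroup.eq_one_iff (y : N)).2 hy
    rw [hker']
    apply le_pPrimeCore inferInstance
    rw [Cfsg.Agent.Helper17.card_subgroupOf]
    exact Nat.Coprime.coprime_dvd_left (card_dvd_of_le inf_le_left) (pPrimeCore_coprime p)
  -- the factoring map
  let χ : ↥(D.map π) →* (D ⧸ pPrimeCore p D) :=
    (QuotientGroup.map φ.ker (pPrimeCore p D) (MonoidHom.id D) hker).comp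
      (QuotientGroup.quotientKerEquivOfSurjective φ hφsurj).symm.toMonoidHom
  have hχ : ∀ d : D, χ (φ d) = QuotientGroup.mk' (pPrimeCore p D) d := by
    intro d
    have : (QuotientGroup.quotientKerEquivOfSurjective φ hφsurj).symm (φ d) =
        (QuotientGroup.mk d : D ⧸ φ.ker) := by
      rw [MulEquiv.symm_apply_eq]
      rfl
    show (QuotientGroup.map φ.ker (pPrimeCore p D) (MonoidHom.id D) hker)
      ((QuotientGroup.quotientKerEquivOfSurjective φ hφsurj).symm (φ d)) = _
    rw [this]
    rfl
  have hχsurj : Function.Surjective χ := by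
    intro y
    obtain ⟨d, rfl⟩ := QuotientGroup.mk'_surjective _ y
    exact ⟨φ d, hχ d⟩
  rcases IsComponent.map_eq_bot_or χ hχsurj hL' with h0 | h0
  · -- `L` is a `p'`-group
    have hle : L.subgroupOf (D.map π) ≤ (pPrimeCore p D).map φ := by
      intro l hl
      obtain ⟨d, rfl⟩ := hφsurj l
      have h1 : χ (φ d) = 1 := by
        have : χ (φ d) ∈ (L.subgroupOf (D.map π)).map χ := mem_map_of_mem χ hl
        rw [h0, mem_bot] at this
        exact this
      rw [hχ d] at h1
      exact ⟨d, (QuotientGroup.eq_one_iff d).1 h1, rfl⟩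
    have hcop : (Nat.card L).Coprime p := by
      have h1 : Nat.card L = Nat.card (L.subgroupOf (D.map π)) := by
        rw [Cfsg.Agent.Helper17.card_subgroupOf, inf_eq_left.2 hLc]
      rw [h1]
      exact Nat.Coprime.coprime_dvd_left
        ((card_dvd_of_le hle).trans (card_map_dvd _ _)) (pPrimeCore_coprime p)
    have hLbot : L ≤ pPrimeCore p (N ⧸ O) := subnormal_coprime_le_pPrimeCore hL.1 hcop
    rw [pPrimeCore_quotient_eq_bot p, le_bot_iff] at hLbot
    exact IsComponent.ne_bot hL hLbot
  · have := IsComponent.le_layer h0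
    rw [h, le_bot_iff] at this
    exact IsComponent.ne_bot h0 this

end lemmaA

section main

variable {G : Type u} [Group G] [Finite G] {p : ℕ} [hp : Fact p.Prime]

/-- If `C` is `p`-constrained and `T ≤ C` is a `p`-subgroup then `N_G(T) ∩ C` is
`p`-constrained. -/
theorem pLayer_normalizer_inf_eq_bot {C T : Subgroup G} (hC : pLayer p ↥C = ⊥)
    (hT : IsPGroup p T) (hTC : T ≤ C) : pLayer p ↥(normalizer (T : Set G) ⊓ C) = ⊥ := by
  have hT₀ : IsPGroup p (T.subgroupOf C) := hT.comap_subtype
  have h1 := (pLayer_normalizer_eq_bot hC hT₀).1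
  have h2 : normalizer ((T.subgroupOf C : Subgroup C) : Set C) =
      (normalizer (T : Set G) ⊓ C).subgroupOf C := by
    rw [← subgroupOf_normalizer_eq hTC, inf_subgroupOf_right]
  let e : ↥(normalizer ((T.subgroupOf C : Subgroup C) : Set C)) ≃*
      ↥(normalizer (T : Set G) ⊓ C) :=
    (MulEquiv.subgroupCongr h2).trans (subgroupOfEquivOfLe inf_le_right)
  exact pLayer_eq_bot_of_mulEquiv e h1

/-- **S3247**, in the form `L_{p'} = 1`. -/
theorem pLayer_normalizer_eq_bot_of_maximal_or_centralizers
    (h : (∀ M : Subgroup G, (∃ T : Subgroup G, IsPGroup p ↥T ∧ T ≠ ⊥ ∧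
          M = normalizer (T : Set G)) → M ≠ ⊤ →
        (∀ M' : Subgroup G, (∃ T' : Subgroup G, IsPGroup p ↥T' ∧ T' ≠ ⊥ ∧
          M' = normalizer (T' : Set G)) → M' ≠ ⊤ → M ≤ M' → M = M') →
        pLayer p ↥M = ⊥) ∨
      (∀ x : G, orderOf x = p → pLayer p ↥(centralizer ({x} : Set G)) = ⊥))
    (T : Subgroup G) (hT : IsPGroup p ↥T) (hT1 : T ≠ ⊥) (hTG : normalizer (T : Set G) ≠ ⊤) :
    pLayer p ↥(normalizer (T : Set G)) = ⊥ := by
  set N := normalizer (T : Set G) with hN
  rcases h with h | h
  · -- maximal locals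
    set 𝒮 : Set (Subgroup G) := {M | (∃ T' : Subgroup G, IsPGroup p ↥T' ∧ T' ≠ ⊥ ∧
      M = normalizer (T' : Set G)) ∧ M ≠ ⊤ ∧ N ≤ M} with h𝒮
    have hN𝒮 : N ∈ 𝒮 := ⟨⟨T, hT, hT1, rfl⟩, hTG, le_rfl⟩
    obtain ⟨M, hNM, hM⟩ := Set.Finite.exists_le_maximal (Set.toFinite 𝒮) hN𝒮
    have hMc : pLayer p ↥M = ⊥ := by
      apply h M hM.1.1 hM.1.2.1
      intro M' hM' hM'top hMM'
      exact le_antisymm hMM' (hM.2 ⟨hM', hM'top, hNM.trans hMM'⟩ hMM')
    have hTM : T ≤ M := le_normalizer.trans hNM
    have := pLayer_normalizer_inf_eq_bot hMc hT hTM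
    rw [inf_eq_left.2 hNM] at this
    exact this
  · -- centralizers
    haveI : Nontrivial T := (nontrivial_iff_ne_bot T).2 hT1
    haveI : Nontrivial (center T) := hT.center_nontrivial
    have hZp : IsPGroup p (center T) := hT.to_subgroup _
    have hdvd : p ∣ Nat.card (center T) := by
      rcases hZp.card_eq_or_dvd with h1 | h1
      · exfalso
        have : Subsingleton (center T) := (Nat.card_eq_one_iff_unique.1 h1).1
        exact not_subsingleton (center T) this
      · exact h1
    obtain ⟨z, hz⟩ := exists_prime_orderOf_dvd_card' p hdvd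
    set x : G := ((z : T) : G) with hx
    have hxo : orderOf x = p := by
      rw [hx, Subgroup.orderOf_coe, Subgroup.orderOf_coe]; exact hz
    have hxT : x ∈ T := (z : T).2
    set C := centralizer ({x} : Set G) with hC
    have hTC : T ≤ C := by
      intro y hy
      rw [hC, mem_centralizer_singleton_iff]
      have := Subgroup.mem_center_iff.1 z.2 ⟨y, hy⟩
      exact (congrArg Subtype.val this)
    have h1 := pLayer_normalizer_inf_eq_bot (h x hxo) hT hTC
    -- transfer into `N`
    have hxN : x ∈ N := le_normalizer hxT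
    set x' : N := ⟨x, hxN⟩ with hx'
    have h2 : centralizer ({x'} : Set N) = C.subgroupOf N := by
      ext y
      rw [mem_centralizer_singleton_iff, mem_subgroupOf, hC, mem_centralizer_singleton_iff]
      constructor
      · intro hy
        exact congrArg Subtype.val hy
      · intro hy
        exact Subtype.ext hy
    have h3 : C.subgroupOf N = (N ⊓ C).subgroupOf N := by
      rw [inf_comm, inf_subgroupOf_right]
    let e : ↥(N ⊓ C) ≃* ↥(centralizer ({x'} : Set N)) :=
      ((MulEquiv.subgroupCongr (h2.trans h3)).trans (subgroupOfEquivOfLe inf_le_left)).symm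
    have h4 : pLayer p ↥(centralizer ({x'} : Set N)) = ⊥ := pLayer_eq_bot_of_mulEquiv e h1
    apply pLayer_eq_bot_of_centralizer (x := x') _ h4
    have : T.subgroupOf N ≤ pCore p N := le_pCore p normal_in_normalizer hT.comap_subtype
    exact this (mem_subgroupOf.2 hxT)

end main

end Cfsg.Agent.Helper7
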