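import Mathlib
import Cfsg.Agent.Helper23.HallHigman
import Cfsg.Agent.Helper19.Cores

set_option autoImplicit false
set_option linter.style.haveILetI false
set_option linter.unusedSectionVars false

/-! # Dual Hall–Higman lemma: `O_p(G) = 1`, `G` `p`-solvable ⇒ `C_G(O_{p'}(G)) ≤ O_{p'}(G)` -/

namespace Cfsg.Agent.Helper7

open Subgroup Cfsg

/-- In a finite `p`-solvable group with `O_p(G) = 1`, `C_G(O_{p'}(G)) ≤ O_{p'}(G)`. -/
theorem centralizer_pPrimeCore_le_of_isPSolvable {G : Type*} [Group G] [Finite G] {p : ℕ}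
    [hp : Fact p.Prime] (hsolv : Cfsg.IsPSolvable p G) (hO : Cfsg.pCore p G = ⊥) :
    centralizer (Cfsg.pPrimeCore p G : Set G) ≤ Cfsg.pPrimeCore p G := by
  by_contra hne
  set P := Cfsg.pPrimeCore p G with hP
  set C := centralizer (P : Set G) with hC
  have hPn : P.Normal := inferInstance
  have hCn : C.Normal := inferInstance
  have hPcop : (Nat.card P).Coprime p := Cfsg.Agent.Helper19.pPrimeCore_coprime p
  set Z := P ⊓ C with hZ
  have hZn : Z.Normal := inferInstance
  have hZC : Z ≤ C := inf_le_right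
  have hZcop : (Nat.card Z).Coprime p :=
    Nat.Coprime.coprime_dvd_left (card_dvd_of_le inf_le_left) hPcop
  have hZcn : (Z.subgroupOf C).Normal := inferInstance
  have hY : Cfsg.IsPSolvable p (↥C ⧸ Z.subgroupOf C) :=
    Cfsg.Agent.Lead.isPSolvable_quotient
      (Cfsg.Agent.Helper21.PSolv.isPSolvable_subgroup hp.out hsolv C) (Z.subgroupOf C)
  have hYnt : Nontrivial (↥C ⧸ Z.subgroupOf C) := by
    obtain ⟨c, hcC, hcP⟩ := SetLike.not_le_iff_exists.mp hne
    refine ⟨⟨(QuotientGroup.mk' (Z.subgroupOf C)) ⟨c, hcC⟩, 1, ?_⟩⟩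
    intro h
    rw [QuotientGroup.mk'_apply, QuotientGroup.eq_one_iff, mem_subgroupOf] at h
    exact hcP h.1
  obtain ⟨Mb, hMbn, hMbne, hMb⟩ := Cfsg.Agent.Lead.exists_normal_of_isPSolvable hY
  set Mc := Mb.comap (QuotientGroup.mk' (Z.subgroupOf C)) with hMc
  have hMcn : Mc.Normal := inferInstance
  have hMccard : Nat.card Mc = Nat.card (Z.subgroupOf C) * Nat.card Mb :=
    Cfsg.Agent.Helper23.card_comap_mk' _ _
  have hZccard : Nat.card (Z.subgroupOf C) = Nat.card Z :=
    Nat.card_congr (Subgroup.subgroupOfEquivOfLe hZC).toEquiv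
  set M := Mc.map C.subtype with hM
  have hMC : M ≤ C := map_subtype_le _
  have hMcard : Nat.card M = Nat.card Z * Nat.card Mb := by
    rw [hM, Subgroup.card_map_of_injective C.subtype_injective, hMccard, hZccard]
  have hMsub : M.IsSubnormal :=
    Subgroup.IsSubnormal.trans' (Subgroup.Normal.isSubnormal hMcn) (Subgroup.Normal.isSubnormal hCn)
  have hZM : Z ≤ M := by
    intro z hz
    exact ⟨⟨z, hZC hz⟩, Cfsg.Agent.Helper23.le_comap_mk' _ _ (mem_subgroupOf.mpr hz), rfl⟩
  have hMbcard : Nat.card Mb ≠ 1 := fun h => hMbne (Subgroup.card_eq_one.mp h)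
  rcases hMb with ⟨m, hm⟩ | hcop
  · -- `M / Z` is a `p`-group with `Z` central: `M` is nilpotent, its Sylow `p`-subgroup is a
    -- subnormal `p`-subgroup of `G`
    have hZcen : Z.subgroupOf M ≤ center ↥M := by
      intro z hz
      rw [mem_center_iff]
      intro x
      have hz' : (z : G) ∈ Z := hz
      have hx : (x : G) ∈ C := hMC x.2
      have := (mem_centralizer_iff.mp hx) (z : G) hz'.1
      exact Subtype.ext this.symm
    haveI hZMn : (Z.subgroupOf M).Normal := inferInstance
    have hZmcard : Nat.card (Z.subgroupOf M) = Nat.card Z :=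
      Nat.card_congr (Subgroup.subgroupOfEquivOfLe hZM).toEquiv
    have hqcard : Nat.card (↥M ⧸ Z.subgroupOf M) = p ^ m := by
      have h1 := (Z.subgroupOf M).card_mul_index
      rw [hZmcard, hMcard, hm] at h1
      have := Nat.eq_of_mul_eq_mul_left Nat.card_pos h1
      rw [← this]; rfl
    haveI : Group.IsNilpotent (↥M ⧸ Z.subgroupOf M) :=
      (IsPGroup.of_card hqcard).isNilpotent
    have hMnil : Group.IsNilpotent ↥M := by
      apply Subgroup.isNilpotent_of_ker_le_center (QuotientGroup.mk' (Z.subgroupOf M))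
      rw [QuotientGroup.ker_mk']
      exact hZcen
    obtain ⟨S⟩ : Nonempty (Sylow p ↥M) := inferInstance
    haveI : Group.IsNilpotent ↥M := hMnil
    have hSn : (S : Subgroup ↥M).Normal := inferInstance
    have hSsub : ((S : Subgroup ↥M).map M.subtype).IsSubnormal :=
      Subgroup.IsSubnormal.trans' (Subgroup.Normal.isSubnormal hSn) hMsub
    have hSp : IsPGroup p ↥((S : Subgroup ↥M).map M.subtype) := S.2.map _
    have hSle := Cfsg.Agent.Helper14.le_pCore_of_isSubnormal hSsub hSp
    rw [hO, le_bot_iff] at hSle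
    have hScard : Nat.card (S : Subgroup ↥M) = 1 := by
      rw [← Subgroup.card_map_of_injective M.subtype_injective, hSle, Subgroup.card_bot]
    have h2 := Sylow.card_eq_multiplicity S
    rw [hScard] at h2
    have hfac : (Nat.card ↥M).factorization p = 0 := by
      by_contra hne0
      have : 1 < p ^ (Nat.card ↥M).factorization p := Nat.one_lt_pow hne0 hp.out.one_lt
      omega
    have hm0 : m ≠ 0 := by
      rintro rfl
      exact hMbcard (by rw [hm, pow_zero])
    have hdvd : p ∣ Nat.card ↥M := by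
      rw [hMcard, hm]
      exact Dvd.dvd.mul_left (dvd_pow_self p hm0) _
    have := (hp.out.dvd_iff_one_le_factorization Nat.card_pos.ne').1 hdvd
    omega
  · -- `M` is a subnormal `p'`-subgroup, hence inside `P ⊓ C = Z`
    have hMcop : (Nat.card M).Coprime p := by
      rw [hMcard]; exact Nat.Coprime.mul_left hZcop hcop
    have hMP : M ≤ P := Cfsg.Agent.Helper7.subnormal_coprime_le_pPrimeCore hMsub hMcop
    have hMZ : M ≤ Z := le_inf hMP hMC
    have h1 : Nat.card M = Nat.card Z := by
      rw [le_antisymm hMZ hZM]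
    rw [hMcard] at h1
    have hZpos : 0 < Nat.card Z := Nat.card_pos
    have : Nat.card Mb = 1 := by
      have h2 : Nat.card Z * Nat.card Mb = Nat.card Z * 1 := by rw [h1, mul_one]
      exact Nat.eq_of_mul_eq_mul_left hZpos h2
    exact hMbcard this

/-- The property `C(O_{p'}) ≤ O_{p'}` transfers along an isomorphism. -/
theorem centralizer_pPrimeCore_le_of_mulEquiv {A B : Type*} [Group A] [Group B] {p : ℕ}
    (e : A ≃* B)
    (h : centralizer (Cfsg.pPrimeCore p A : Set A) ≤ Cfsg.pPrimeCore p A) :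
    centralizer (Cfsg.pPrimeCore p B : Set B) ≤ Cfsg.pPrimeCore p B := by
  intro b hb
  have hmap := pPrimeCore_map_equiv p e
  have h1 : e.symm b ∈ centralizer (Cfsg.pPrimeCore p A : Set A) := by
    rw [mem_centralizer_iff]
    intro a ha
    have ha' : e a ∈ Cfsg.pPrimeCore p B := by
      rw [← hmap]; exact ⟨a, ha, rfl⟩
    have := (mem_centralizer_iff.mp hb) (e a) ha'
    apply e.injective
    rw [map_mul, map_mul, e.apply_symm_apply]
    exact this
  have h2 := h h1
  rw [← hmap]
  exact ⟨e.symm b, h2, e.apply_symm_apply b⟩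

end Cfsg.Agent.Helper7
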