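import Mathlib
import Cfsg.Agent.Helper7.K2M.Defs2

set_option autoImplicit false
set_option linter.unusedSectionVars false
set_option linter.unusedVariables false

/-! # S5694, `k = 2` minus blocks, chapter SIEGEL: pieces S-MOVE, S-TOSIEG -/

namespace Cfsg.Agent.K2M

open Matrix Cfsg.Agent.OC2P Cfsg.Agent.Helper28.Sg Cfsg.Agent.Helper28.Spin
  Cfsg.Agent.Helper12.OrthGen

variable {F : Type*} [Field F] {t : ℕ} {Q : QuadraticForm F (Fin t × Fin 2 → F)}
  {q : QuadraticForm F (Fin 2 → F)}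

theorem SMOVE.main {H : Subgroup (OG Q)} {a b : Fin t × Fin 2 → F} (ha : Q a ≠ 0) (hb : Q b ≠ 0)
    (hab : reflO Q a ha * reflO Q b hb ∈ H) {m : OG Q} (hm : m ∈ H) (hmb : mt Q m *ᵥ b = b)
    (hma : Q (mt Q m *ᵥ a) ≠ 0) : reflO Q a ha * reflO Q (mt Q m *ᵥ a) hma ∈ H := by
  have hmb' : Q (mt Q m *ᵥ b) ≠ 0 := by rw [hmb]; exact hb
  have h1 : reflO Q (mt Q m *ᵥ a) hma * reflO Q (mt Q m *ᵥ b) hmb' ∈ H := by
    rw [reflO_conj Q m a ha hma, reflO_conj Q m b hb hmb']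
    have : m * reflO Q a ha * m⁻¹ * (m * reflO Q b hb * m⁻¹) =
        m * (reflO Q a ha * reflO Q b hb) * m⁻¹ := by group
    rw [this]
    exact H.mul_mem (H.mul_mem hm hab) (H.inv_mem hm)
  have h2 : reflO Q (mt Q m *ᵥ b) hmb' = reflO Q b hb := reflO_congr' hmb hmb' hb
  rw [h2] at h1
  have h3 : reflO Q a ha * reflO Q (mt Q m *ᵥ a) hma =
      reflO Q a ha * reflO Q b hb * (reflO Q (mt Q m *ᵥ a) hma * reflO Q b hb)⁻¹ := by
    rw [_root_.mul_inv_rev, reflO_inv, reflO_inv, mul_assoc, ← mul_assoc (reflO Q b hb), reflO_mul_self,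
      one_mul]
  rw [h3]
  exact H.mul_mem hab (H.inv_mem h1)

theorem STOSIEG.main {H : Subgroup (OG Q)} {a a' : Fin t × Fin 2 → F} (ha : Q a ≠ 0)
    (ha' : Q a' ≠ 0) (hQ : Q a' = Q a) (hz : Q (a - a') = 0)
    (h : reflO Q a ha * reflO Q a' ha' ∈ H) : (-(Q a)⁻¹) • a ∈ Rad H (a - a') hz := by
  -- `B a a' = 2 Q a`
  have hB : B Q a a' = Q a + Q a := by
    have h1 := map_sub'' Q a a'
    rw [hz, hQ] at h1
    show QuadraticMap.polar ⇑Q a a' = _
    linear_combination h1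
  have hza : B Q (a - a') a = 0 := by
    show QuadraticMap.polar ⇑Q (a - a') a = 0
    rw [QuadraticMap.polar_sub_left, polar_self', QuadraticMap.polar_comm]
    have : QuadraticMap.polar ⇑Q a a' = Q a + Q a := hB
    rw [this]; ring
  have e1 : a + (-1 : F) • (a - a') = a' := by
    rw [neg_one_smul]; abel
  have hv' : Q (a + (-1 : F) • (a - a')) ≠ 0 := by rw [e1]; exact ha'
  have h' : B Q (a - a') (((-1 : F) * (Q a)⁻¹) • a) = 0 := B_smul_right_zero Q _ hza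
  have key := reflO_mul_reflO (Q := Q) (-1 : F) hz hza ha hv' h'
  have e2 : reflO Q (a + (-1 : F) • (a - a')) hv' = reflO Q a' ha' := reflO_congr' e1 hv' ha'
  rw [e2] at key
  have e3 : (-(Q a)⁻¹) • a = ((-1 : F) * (Q a)⁻¹) • a := by rw [neg_one_mul]
  rw [e3]
  exact ⟨h', by rw [← key]; exact h⟩

end Cfsg.Agent.K2M
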