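import Mathlib
import Cfsg.Agent.Helper25.QPSwap

set_option autoImplicit false

/-! Board `qppieces`, piece P3W: the rank inequality `P3` on an `a`-invariant subspace. -/

noncomputable section

namespace Cfsg.Agent.QPP

open Cfsg Cfsg.Agent.Helper25.QP Cfsg.Agent.Helper25.QuadPair Polynomial

variable {k : Type*} [Field k] {M : Type*} [AddCommGroup M] [Module k M]

theorem P3W [FiniteDimensional k M] {a b : Module.End k M} (h : a * b * a = 0) (W : Submodule k M)
    (hW : W.map a ≤ W) :
    Module.finrank k (W.map (a * b)) + Module.finrank k (W.map (b * a))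
      ≤ Module.finrank k (W.map b) := by
  have h1 := finrank_map_add_finrank_inf_ker a (W.map b)
  have e1 : (W.map b).map a = W.map (a * b) := by
    rw [← Submodule.map_comp]
    rfl
  rw [e1] at h1
  have h2 : W.map (b * a) ≤ W.map b ⊓ LinearMap.ker a := by
    rintro _ ⟨m, hm, rfl⟩
    refine ⟨⟨a m, hW ⟨m, hm, rfl⟩, rfl⟩, ?_⟩
    show (b * a) m ∈ LinearMap.ker a
    rw [LinearMap.mem_ker]
    have := LinearMap.congr_fun h m
    simpa using this
  have h3 := Submodule.finrank_mono h2
  omega

end Cfsg.Agent.QPP

end
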