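import Mathlib
import Cfsg.Agent.Helper25.QPSwap
import Cfsg.Agent.Helper18.SL2Ext5

set_option autoImplicit false

/-! Board `qppieces`, piece S5060R: transfer of S5060 (`Helper18.SL2Ext.sl_two_generated`) to the
subgroups `Hmat`, functoriality of `Hmat`, and the torus element modulo an irreducible polynomial. -/

noncomputable section

namespace Cfsg.Agent.QPP

open Cfsg Cfsg.Agent.Helper25.QP Cfsg.Agent.Helper25.QuadPair Polynomial

variable {k : Type*} [Field k] {M : Type*} [AddCommGroup M] [Module k M]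

theorem S5060R_aux_e12_iff {R : Type*} [CommRing R] (g : Matrix.SpecialLinearGroup (Fin 2) R) (x : R) :
    (g : Matrix (Fin 2) (Fin 2) R) = !![1, x; 0, 1] ↔ g = e12 x := by
  constructor
  · intro h
    exact Subtype.ext h
  · intro h
    rw [h]
    rfl

theorem S5060R_aux_e21_iff {R : Type*} [CommRing R] (g : Matrix.SpecialLinearGroup (Fin 2) R) (x : R) :
    (g : Matrix (Fin 2) (Fin 2) R) = !![1, 0; x, 1] ↔ g = e21 x := by
  constructor
  · intro h
    exact Subtype.ext h
  · intro h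
    rw [h]
    rfl

theorem Hmat_top (hk2 : ringChar k ≠ 2) (hk3 : Nat.card k ≠ 3) {K : Type*} [Field K] [Algebra k K]
    (lam : K) (hlam : IsAlgebraic k lam) (h0 : lam ≠ 0)
    (htop : IntermediateField.adjoin k ({lam} : Set K) = ⊤) : Hmat k lam = ⊤ := by
  have h := Cfsg.Agent.Helper18.SL2Ext.sl_two_generated hk2 hk3 lam hlam h0
  have hset : ({g : Matrix.SpecialLinearGroup (Fin 2) K | ∃ c : k,
        (g : Matrix (Fin 2) (Fin 2) K) = !![1, algebraMap k K c; 0, 1]} ∪
        {g : Matrix.SpecialLinearGroup (Fin 2) K | ∃ c : k,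
          (g : Matrix (Fin 2) (Fin 2) K) = !![1, 0; algebraMap k K c * lam, 1]}) =
      (Set.range (fun c : k => e12 (algebraMap k K c)) ∪
        Set.range (fun c : k => e21 (algebraMap k K c * lam))) := by
    ext g
    simp only [Set.mem_union, Set.mem_ofPred_eq, Set.mem_range, S5060R_aux_e12_iff,
      S5060R_aux_e21_iff]
    constructor
    · rintro (⟨c, hc⟩ | ⟨c, hc⟩)
      · exact Or.inl ⟨c, hc.symm⟩
      · exact Or.inr ⟨c, hc.symm⟩
    · rintro (⟨c, hc⟩ | ⟨c, hc⟩)
      · exact Or.inl ⟨c, hc.symm⟩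
      · exact Or.inr ⟨c, hc.symm⟩
  rw [hset] at h
  rw [eq_top_iff]
  intro g _
  have hg : g ∈ ((Subgroup.closure (Set.range (fun c : k => e12 (algebraMap k K c)) ∪
        Set.range (fun c : k => e21 (algebraMap k K c * lam))) :
      Subgroup (Matrix.SpecialLinearGroup (Fin 2) K)) :
        Set (Matrix.SpecialLinearGroup (Fin 2) K)) := by
    rw [h]
    intro i j
    rw [htop]
    exact IntermediateField.mem_top
  exact hg

theorem S5060R_aux_map_e12 {R S : Type*} [CommRing R] [CommRing S] (f : R →+* S) (x : R) :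
    Matrix.SpecialLinearGroup.map f (e12 x) = e12 (f x) := by
  apply Subtype.ext
  rw [Matrix.SpecialLinearGroup.map_apply_coe]
  ext i j
  fin_cases i <;> fin_cases j <;> simp [e12, RingHom.mapMatrix_apply]

theorem S5060R_aux_map_e21 {R S : Type*} [CommRing R] [CommRing S] (f : R →+* S) (x : R) :
    Matrix.SpecialLinearGroup.map f (e21 x) = e21 (f x) := by
  apply Subtype.ext
  rw [Matrix.SpecialLinearGroup.map_apply_coe]
  ext i j
  fin_cases i <;> fin_cases j <;> simp [e21, RingHom.mapMatrix_apply]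

theorem Hmat_map {R S : Type*} [CommRing R] [Algebra k R] [CommRing S] [Algebra k S]
    (f : R →ₐ[k] S) (lam : R) :
    (Hmat k lam).map (Matrix.SpecialLinearGroup.map (f : R →+* S)) = Hmat k (f lam) := by
  unfold Hmat
  rw [MonoidHom.map_closure, Set.image_union, ← Set.range_comp, ← Set.range_comp]
  congr 2
  · ext g
    simp only [Set.mem_range, Function.comp_apply, S5060R_aux_map_e12]
    constructor
    · rintro ⟨c, rfl⟩
      exact ⟨c, by simp⟩
    · rintro ⟨c, rfl⟩
      exact ⟨c, by simp⟩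
  · ext g
    simp only [Set.mem_range, Function.comp_apply, S5060R_aux_map_e21]
    constructor
    · rintro ⟨c, rfl⟩
      exact ⟨c, by simp⟩
    · rintro ⟨c, rfl⟩
      exact ⟨c, by simp⟩

/-- the diagonal matrix `diag(x, y)` with `x y = 1` -/
def S5060R_aux_diag {R : Type*} [CommRing R] (x y : R) (h : x * y = 1) :
    Matrix.SpecialLinearGroup (Fin 2) R :=
  ⟨!![x, 0; 0, y], by simp [Matrix.det_fin_two, h]⟩

/-- existence of the torus element modulo an irreducible polynomial -/
theorem EXX (hk2 : ringChar k ≠ 2) (hk3 : Nat.card k ≠ 3) (p : k[X]) (hp : Irreducible p)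
    (hpX : ¬ p ∣ X) (s : k) (hs : s ≠ 0) :
    ∃ g ∈ Htil k, p ∣ (g 0 1) ∧ p ∣ (g 1 0) ∧ p ∣ (g 0 0 - C s) ∧ p ∣ (g 1 1 - C s⁻¹) := by
  have : Fact (Irreducible p) := ⟨hp⟩
  have hp0 : p ≠ 0 := hp.ne_zero
  have hlam0 : AdjoinRoot.root p ≠ 0 := by
    rw [← AdjoinRoot.mk_X]
    intro h
    exact hpX (AdjoinRoot.mk_eq_zero.mp h)
  have hint : IsIntegral k (AdjoinRoot.root p) := AdjoinRoot.isIntegral_root hp0
  have halg : IsAlgebraic k (AdjoinRoot.root p) := hint.isAlgebraic
  have htop : IntermediateField.adjoin k ({AdjoinRoot.root p} : Set (AdjoinRoot p)) = ⊤ := by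
    rw [eq_top_iff]
    intro x _
    have hx : x ∈ Algebra.adjoin k ({AdjoinRoot.root p} : Set (AdjoinRoot p)) := by
      rw [AdjoinRoot.adjoinRoot_eq_top]
      exact Algebra.mem_top
    exact IntermediateField.algebra_adjoin_le_adjoin k _ hx
  have hH : Hmat k (AdjoinRoot.root p) = ⊤ := Hmat_top hk2 hk3 _ halg hlam0 htop
  have hmap := Hmat_map (k := k) (AdjoinRoot.mkₐ p) (X : k[X])
  have hfX : (AdjoinRoot.mkₐ p) (X : k[X]) = AdjoinRoot.root p := by
    rw [AdjoinRoot.coe_mkₐ, AdjoinRoot.mk_X]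
  rw [hfX, hH] at hmap
  have hss : algebraMap k (AdjoinRoot p) s * algebraMap k (AdjoinRoot p) s⁻¹ = 1 := by
    rw [← map_mul, mul_inv_cancel₀ hs, map_one]
  have hd : S5060R_aux_diag (algebraMap k (AdjoinRoot p) s) (algebraMap k (AdjoinRoot p) s⁻¹) hss
      ∈ (Htil k).map (Matrix.SpecialLinearGroup.map
        ((AdjoinRoot.mkₐ p : k[X] →ₐ[k] AdjoinRoot p) : k[X] →+* AdjoinRoot p)) := by
    unfold Htil
    rw [hmap]
    exact Subgroup.mem_top _
  obtain ⟨g, hg, hgd⟩ := hd
  refine ⟨g, hg, ?_, ?_, ?_, ?_⟩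
  · have h := congrArg (fun m : Matrix.SpecialLinearGroup (Fin 2) (AdjoinRoot p) =>
      (m : Matrix (Fin 2) (Fin 2) (AdjoinRoot p)) 0 1) hgd
    simp only [Matrix.SpecialLinearGroup.map_apply_coe, RingHom.mapMatrix_apply, Matrix.map_apply,
      S5060R_aux_diag] at h
    have h' : AdjoinRoot.mk p (g 0 1) = 0 := by simpa using h
    exact AdjoinRoot.mk_eq_zero.mp h'
  · have h := congrArg (fun m : Matrix.SpecialLinearGroup (Fin 2) (AdjoinRoot p) =>
      (m : Matrix (Fin 2) (Fin 2) (AdjoinRoot p)) 1 0) hgd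
    simp only [Matrix.SpecialLinearGroup.map_apply_coe, RingHom.mapMatrix_apply, Matrix.map_apply,
      S5060R_aux_diag] at h
    have h' : AdjoinRoot.mk p (g 1 0) = 0 := by simpa using h
    exact AdjoinRoot.mk_eq_zero.mp h'
  · have h := congrArg (fun m : Matrix.SpecialLinearGroup (Fin 2) (AdjoinRoot p) =>
      (m : Matrix (Fin 2) (Fin 2) (AdjoinRoot p)) 0 0) hgd
    simp only [Matrix.SpecialLinearGroup.map_apply_coe, RingHom.mapMatrix_apply, Matrix.map_apply,
      S5060R_aux_diag] at h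
    have h' : AdjoinRoot.mk p (g 0 0) = algebraMap k (AdjoinRoot p) s := by simpa using h
    apply AdjoinRoot.mk_eq_zero.mp
    rw [map_sub, h', AdjoinRoot.mk_C, AdjoinRoot.algebraMap_eq]
    exact sub_self _
  · have h := congrArg (fun m : Matrix.SpecialLinearGroup (Fin 2) (AdjoinRoot p) =>
      (m : Matrix (Fin 2) (Fin 2) (AdjoinRoot p)) 1 1) hgd
    simp only [Matrix.SpecialLinearGroup.map_apply_coe, RingHom.mapMatrix_apply, Matrix.map_apply,
      S5060R_aux_diag] at h
    have h' : AdjoinRoot.mk p (g 1 1) = algebraMap k (AdjoinRoot p) s⁻¹ := by simpa using h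
    apply AdjoinRoot.mk_eq_zero.mp
    rw [map_sub, h', AdjoinRoot.mk_C, AdjoinRoot.algebraMap_eq]
    exact sub_self _

end Cfsg.Agent.QPP

end
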