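import Mathlib
import Cfsg.Agent.Helper25.QPDefs2
import Cfsg.Agent.Helper25.QPAct
import Cfsg.Agent.Helper18.SL2Ext5
import Cfsg.Agent.Helper23.QPTRANS
import Cfsg.Agent.Helper12.QPNONU
import Cfsg.Agent.Helper4.QPROOT

set_option autoImplicit false

/-! Board `qppieces`, second batch, piece OPP: in the non-unipotent case `σ - 1`, `τ - 1` are
opposite. -/

noncomputable section

universe u v

namespace Cfsg.Agent.QPP

open Cfsg Cfsg.Agent.Helper25.QP Cfsg.Agent.Helper25.QuadPair Polynomial

variable {k : Type u} [Field k] {M : Type v} [AddCommGroup M] [Module k M]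

local notation "GLkM" => LinearMap.GeneralLinearGroup k M

theorem OPP_aux_unip_zero_left (y : Module.End k M) : UnipPair (0 : Module.End k M) y := by
  unfold UnipPair
  rw [zero_mul]
  exact IsNilpotent.zero

theorem OPP_aux_unip_zero_right (x : Module.End k M) : UnipPair x (0 : Module.End k M) := by
  unfold UnipPair
  rw [mul_zero]
  exact IsNilpotent.zero

section s5065
variable [FiniteDimensional k M] {G : Subgroup (LinearMap.GeneralLinearGroup k M)}
  {σ τ : LinearMap.GeneralLinearGroup k M}

/-- in the non-unipotent case `σ - 1` and `τ - 1` are opposite -/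
theorem OPP (hk2 : ringChar k ≠ 2) (hk3 : Nat.card k ≠ 3)
    (hσ : σ ∈ minimalQuadraticElements G) (hτ : τ ∈ minimalQuadraticElements G)
    (hN : ¬ AllUnip (sameActionSubgroup G σ) (sameActionSubgroup G τ)) :
    OppPair ((σ : Module.End k M) - 1) ((τ : Module.End k M) - 1) := by
  unfold AllUnip at hN
  simp only [not_forall] at hN
  obtain ⟨e, he, f, hf, hnu⟩ := hN
  have he1 : e ≠ 1 := by
    rintro rfl
    apply hnu
    have : ((1 : GLkM) : Module.End k M) - 1 = 0 := by simp
    rw [this]
    exact OPP_aux_unip_zero_left _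
  have hf1 : f ≠ 1 := by
    rintro rfl
    apply hnu
    have : ((1 : GLkM) : Module.End k M) - 1 = 0 := by simp
    rw [this]
    exact OPP_aux_unip_zero_right _
  obtain ⟨hqe, hke, hre⟩ := ROOT_Qd hσ he he1
  obtain ⟨hqf, hkf, hrf⟩ := ROOT_Qd hτ hf hf1
  have hrank : commutatorRank σ = commutatorRank τ := TRANS_rank hσ hτ
  rw [← hrank] at hqf
  have hp : QPair G (commutatorRank σ) ((e : Module.End k M) - 1) ((f : Module.End k M) - 1) :=
    ⟨(TRANS_Qd hσ).1, hqe, hqf⟩
  obtain ⟨hopp, -, -⟩ := NONU hk2 hk3 hp hnu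
  unfold OppPair at hopp ⊢
  rw [hke, hre, hkf, hrf] at hopp
  exact hopp

end s5065

end Cfsg.Agent.QPP

end
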