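import Mathlib
import Cfsg.Agent.Helper25.QPDefs2
import Cfsg.Agent.Helper25.QPAct
import Cfsg.Agent.Helper18.SL2Ext5
import Cfsg.Agent.Helper14.QPVANU
import Cfsg.Agent.Helper21.QPELT

set_option autoImplicit false

/-! Board `qppieces`, second batch, piece INVOL: the central involution of `Hgrp`. -/

noncomputable section

universe u v

namespace Cfsg.Agent.QPP

open Cfsg Cfsg.Agent.Helper25.QP Cfsg.Agent.Helper25.QuadPair Polynomial

variable {k : Type u} [Field k] {M : Type v} [AddCommGroup M] [Module k M]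

local notation "GLkM" => LinearMap.GeneralLinearGroup k M

/-- the coordinates `(-2u, 0, 0, -2u)` -/
def INVOL_aux_Q (w : k[X]) : Co k := ⟨-(2 * w), 0, 0, -(2 * w)⟩

theorem INVOL_aux_det (w : k[X]) :
    (1 + Co.matn (INVOL_aux_Q w)).det - 1 = (4 * X * w) * (X * w - 1) := by
  simp only [INVOL_aux_Q, Co.matn, Matrix.det_fin_two]
  simp
  ring

theorem INVOL_aux_opn (a b : Module.End k M) (w : k[X]) :
    opn a b (INVOL_aux_Q w) = aeval (zz a b) (-(2 * (X * w))) := by
  simp only [opn, INVOL_aux_Q, map_zero, zero_mul, add_zero]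
  rw [← mul_add]
  have hz : a * b + b * a = aeval (zz a b) (X : k[X]) := by
    rw [aeval_X]
    rfl
  rw [hz, ← map_mul]
  congr 1
  ring

/-- the central involution of `Hgrp` -/
theorem INVOL [FiniteDimensional k M] (hk2 : ringChar k ≠ 2) (hk3 : Nat.card k ≠ 3)
    {G : Subgroup GLkM} {d : ℕ} {a b : Module.End k M} (hp : QPair G d a b)
    (hnu : ¬ UnipPair a b) :
    ∃ i ∈ Hgrp a b hp.qa.1.1 hp.qb.1.1, (∀ m ∈ M0 a b, (i : Module.End k M) m = m) ∧
      (∀ m ∈ M1 a b, (i : Module.End k M) m = -m) := by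
  obtain ⟨w, hw⟩ := FIT_invpoly (zz a b)
  have hw1 : X * w - 1 ∈ Van1 a b := hw
  have hdet : (1 + Co.matn (INVOL_aux_Q w)).det - 1 ∈ Van1 a b := by
    rw [INVOL_aux_det]
    exact Ideal.mul_mem_left _ _ hw1
  obtain ⟨h, hh, h0, h1⟩ := ELT hk2 hk3 hp hnu (INVOL_aux_Q w) hdet
  refine ⟨h, hh, h0, ?_⟩
  intro m hm
  rw [h1 m hm, INVOL_aux_opn]
  have hv : aeval (zz a b) (X * w - 1) m = 0 := hw1 m hm
  have hv' : aeval (zz a b) (X * w) m = m := by
    rw [map_sub, map_one, LinearMap.sub_apply, Module.End.one_apply, sub_eq_zero] at hv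
    exact hv
  have h2 : aeval (zz a b) (-(2 * (X * w))) m = -(2 : k) • m := by
    rw [map_neg, LinearMap.neg_apply]
    have : (2 : k[X]) * (X * w) = C (2 : k) * (X * w) := by
      rw [map_ofNat]
    rw [this, map_mul, aeval_C, Module.End.mul_apply, hv']
    simp [Algebra.algebraMap_eq_smul_one]
  rw [h2]
  rw [neg_smul, two_smul]
  abel

end Cfsg.Agent.QPP

end
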