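import Mathlib
import Cfsg.Agent.Helper1.S4504MDefs

/-!
# S4504, piece M-SPLIT: a uniserial `N`-summand generated by an `H`-eigenvector

`split_strong` is a copy of `Cfsg.Agent.Helper5.GC.exists_split` (helper5, `Helper5/GCe.lean`) that
also exports the nilpotency length `b + 1` of `u = ρ x - 1` and the injectivity of `u ^ b` on the
generating `H`-submodule `W`.
-/

set_option autoImplicit false

namespace Cfsg.Agent.Helper7.S4504SPLIT

open Module Cfsg.Agent.Helper5.GC

section copy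

variable {k : Type*} [Field k] {Γ : Type*} [Group Γ] [Finite Γ]
variable {X : Type*} [AddCommGroup X] [Module k X]

theorem split_strong (ρ : Representation k Γ X) [FiniteDimensional k X] [Nontrivial X] (x : Γ)
    (H : Subgroup Γ) (p : ℕ) [Fact p.Prime] [CharP k p] (hd : PHData Γ x H) (hx : x ^ p = 1)
    (hcard : (Nat.card H : k) ≠ 0) :
    ∃ (Y Z W : Submodule k X) (b : ℕ), Y ≠ ⊥ ∧ IsCompl Y Z ∧ (∀ γ : Γ, ∀ v ∈ Y, ρ γ v ∈ Y) ∧
      (∀ γ : Γ, ∀ v ∈ Z, ρ γ v ∈ Z) ∧ W ≤ Y ∧ HStab ρ H W ∧ W ≠ ⊥ ∧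
      (∀ W' ≤ W, HStab ρ H W' → W' = ⊥ ∨ W' = W) ∧ Y = W ⊔ Y.map (uop ρ x) ∧
      uop ρ x ^ b ≠ 0 ∧ uop ρ x ^ (b + 1) = 0 ∧ (∀ w ∈ W, (uop ρ x ^ b) w = 0 → w = 0) := by
  classical
  set u := uop ρ x with hu
  have hnil : ∃ a, u ^ a = 0 := ⟨p, uop_pow_p ρ x p hx⟩
  have ha0 : u ^ Nat.find hnil = 0 := Nat.find_spec hnil
  have hapos : 0 < Nat.find hnil := by
    rcases Nat.eq_zero_or_pos (Nat.find hnil) with h | h
    · exfalso
      rw [h, pow_zero] at ha0
      obtain ⟨v, hv⟩ := exists_ne (0 : X)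
      have := congrArg (fun F : Module.End k X => F v) ha0
      simp at this
      exact hv this
    · exact h
  obtain ⟨b, hb⟩ : ∃ b, Nat.find hnil = b + 1 := ⟨Nat.find hnil - 1, by omega⟩
  have hb0 : u ^ b ≠ 0 := Nat.find_min hnil (by omega : b < Nat.find hnil)
  have hb1 : u ^ (b + 1) = 0 := by rw [← hb]; exact ha0
  -- the kernel of u^b and an H-stable complement
  have hK₁ : HStab ρ H (LinearMap.ker (u ^ b)) := hstab_ker_uop_pow hd b
  obtain ⟨C, hC, hKC⟩ := exists_hstab_compl ρ H hcard _ hK₁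
  have hCne : C ≠ ⊥ := by
    intro h
    rw [h] at hKC
    have htop : LinearMap.ker (u ^ b) = ⊤ := by
      have := hKC.sup_eq_top
      rwa [sup_bot_eq] at this
    exact hb0 (LinearMap.ker_eq_top.mp htop)
  -- a minimal H-stable subspace of C
  obtain ⟨W, ⟨hWne, hWH, hWC⟩, hWmin⟩ := wellFounded_lt.has_min
    {U : Submodule k X | U ≠ ⊥ ∧ HStab ρ H U ∧ U ≤ C} ⟨C, hCne, hC, le_refl _⟩
  have hWirr : ∀ W' ≤ W, HStab ρ H W' → W' = ⊥ ∨ W' = W := by
    intro W' hW'W hW'H
    by_cases h0 : W' = ⊥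
    · exact Or.inl h0
    · right
      by_contra hne
      exact hWmin W' ⟨h0, hW'H, hW'W.trans hWC⟩ (lt_of_le_of_ne hW'W hne)
  have hinj : ∀ w ∈ W, (u ^ b) w = 0 → w = 0 := by
    intro w hw h0
    have h1 : w ∈ LinearMap.ker (u ^ b) ⊓ C := ⟨LinearMap.mem_ker.mpr h0, hWC hw⟩
    rw [hKC.inf_eq_bot] at h1
    exact (Submodule.mem_bot k).mp h1
  -- the k[u]-span of W
  set Y : Submodule k X := ⨆ i : ℕ, W.map (u ^ i) with hY
  have hWY : W ≤ Y := by
    refine le_trans ?_ (le_iSup (fun i : ℕ => W.map (u ^ i)) 0)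
    rw [pow_zero]
    intro w hw
    exact ⟨w, hw, rfl⟩
  have hmapu : Y.map u = ⨆ i : ℕ, W.map (u ^ (i + 1)) := by
    rw [hY, Submodule.map_iSup]
    congr 1
    funext i
    rw [← Submodule.map_comp, pow_succ']
    rfl
  have hYu : ∀ v ∈ Y, u v ∈ Y := by
    intro v hv
    have : u v ∈ Y.map u := ⟨v, hv, rfl⟩
    rw [hmapu] at this
    exact (iSup_le fun i => le_iSup (fun i : ℕ => W.map (u ^ i)) (i + 1)) this
  have hYeq : Y = W ⊔ Y.map u := by
    rw [hmapu]
    have := sup_iSup_nat_succ (fun i : ℕ => W.map (u ^ i))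
    rw [← hY] at this
    rw [← this, pow_zero]
    congr 1
    ext w
    constructor
    · rintro ⟨w', hw', rfl⟩; exact hw'
    · intro hw; exact ⟨w, hw, rfl⟩
  have hYP : PStab ρ x Y := pstab_of_uop hYu
  have hYH : HStab ρ H Y := by
    intro h hh v hv
    have hle : Y ≤ Y.comap (ρ h) := by
      rw [hY]
      refine iSup_le fun i => ?_
      rintro _ ⟨w, hw, rfl⟩
      exact rep_uop_pow_mem hd hWH hWY hYP i h hh w hw
    exact hle hv
  have hYupow : ∀ j : ℕ, ∀ v ∈ Y, (u ^ j) v ∈ Y := hYP.uop_pow_mem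
  -- the key purity property
  have hpure : ∀ y ∈ Y, (u ^ b) y = 0 → ∃ y' ∈ Y, y = u y' := by
    intro y hy h0
    rw [hYeq] at hy
    obtain ⟨w, hw, t, ⟨y', hy', rfl⟩, rfl⟩ := Submodule.mem_sup.mp hy
    have h1 : (u ^ b) (u y') = 0 := by
      have : (u ^ b) (u y') = (u ^ (b + 1)) y' := by rw [pow_succ]; rfl
      rw [this, hb1]; rfl
    rw [map_add, h1, add_zero] at h0
    rw [hinj w hw h0, zero_add]
    exact ⟨y', hy', rfl⟩
  -- a maximal u-stable subspace disjoint from Y
  obtain ⟨Z, ⟨hZu, hYZ⟩, hZmax⟩ := wellFounded_gt.has_min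
    {Z : Submodule k X | (∀ v ∈ Z, u v ∈ Z) ∧ Disjoint Y Z}
    ⟨⊥, fun v hv => by rw [(Submodule.mem_bot k).mp hv, map_zero]; exact Submodule.zero_mem _,
      disjoint_bot_right⟩
  have hZupow : ∀ j : ℕ, ∀ v ∈ Z, (u ^ j) v ∈ Z := by
    intro j
    induction j with
    | zero => intro v hv; simpa using hv
    | succ j ih =>
      intro v hv
      rw [pow_succ, Module.End.mul_apply]
      exact ih _ (hZu v hv)
  have htop : Y ⊔ Z = ⊤ := by
    by_contra hne
    obtain ⟨v, hv⟩ : ∃ v, v ∉ Y ⊔ Z := by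
      by_contra hall
      push Not at hall
      exact hne (eq_top_iff.mpr fun v _ => hall v)
    have hex : ∃ j, (u ^ j) v ∈ Y ⊔ Z := ⟨b + 1, by rw [hb1]; exact Submodule.zero_mem _⟩
    have hj0 : Nat.find hex ≠ 0 := by
      intro h0
      have := Nat.find_spec hex
      rw [h0, pow_zero] at this
      exact hv this
    obtain ⟨j', hj'⟩ : ∃ j', Nat.find hex = j' + 1 := ⟨Nat.find hex - 1, by omega⟩
    have hv₁ : (u ^ j') v ∉ Y ⊔ Z := Nat.find_min hex (by omega : j' < Nat.find hex)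
    have huv₁ : u ((u ^ j') v) ∈ Y ⊔ Z := by
      have := Nat.find_spec hex
      rw [hj', pow_succ'] at this
      exact this
    set v₁ := (u ^ j') v with hv₁def
    obtain ⟨y, hy, z, hz, hyz⟩ := Submodule.mem_sup.mp huv₁
    have h0 : (u ^ b) (u v₁) = 0 := by
      have : (u ^ b) (u v₁) = (u ^ (b + 1)) v₁ := by rw [pow_succ]; rfl
      rw [this, hb1]; rfl
    have h1 : (u ^ b) y = - (u ^ b) z := by
      rw [← hyz, map_add] at h0
      exact eq_neg_of_add_eq_zero_left h0
    have h2 : (u ^ b) y = 0 := by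
      have hmem : (u ^ b) y ∈ Y ⊓ Z :=
        ⟨hYupow b y hy, by rw [h1]; exact Z.neg_mem (hZupow b z hz)⟩
      rw [hYZ.eq_bot] at hmem
      exact (Submodule.mem_bot k).mp hmem
    obtain ⟨y', hy', rfl⟩ := hpure y hy h2
    set v₂ := v₁ - y' with hv₂def
    have huv₂ : u v₂ = z := by
      rw [hv₂def, map_sub, ← hyz]; abel
    have hv₂ : v₂ ∉ Y ⊔ Z := by
      intro hmem
      apply hv₁
      have : v₁ = v₂ + y' := by rw [hv₂def]; abel
      rw [this]
      exact Submodule.add_mem _ hmem (Submodule.mem_sup_left hy')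
    have hv₂Z : v₂ ∉ Z := fun h => hv₂ (Submodule.mem_sup_right h)
    set Z' : Submodule k X := Z ⊔ Submodule.span k {v₂} with hZ'
    have hZ'u : ∀ t ∈ Z', u t ∈ Z' := by
      intro t ht
      obtain ⟨z₁, hz₁, s, hs, rfl⟩ := Submodule.mem_sup.mp ht
      obtain ⟨c, rfl⟩ := Submodule.mem_span_singleton.mp hs
      rw [map_add, map_smul, huv₂]
      exact Submodule.mem_sup_left (Z.add_mem (hZu z₁ hz₁) (Z.smul_mem c hz))
    have hYZ' : Disjoint Y Z' := by
      rw [Submodule.disjoint_def]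
      intro t htY htZ'
      obtain ⟨z₁, hz₁, s, hs, hts⟩ := Submodule.mem_sup.mp htZ'
      obtain ⟨c, rfl⟩ := Submodule.mem_span_singleton.mp hs
      by_cases hc : c = 0
      · rw [hc, zero_smul, add_zero] at hts
        have hmem : t ∈ Y ⊓ Z := ⟨htY, by rw [← hts]; exact hz₁⟩
        rw [hYZ.eq_bot] at hmem
        exact (Submodule.mem_bot k).mp hmem
      · exfalso
        apply hv₂
        have : v₂ = c⁻¹ • t - c⁻¹ • z₁ := by
          rw [← hts, smul_add, smul_smul, inv_mul_cancel₀ hc, one_smul]; abel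
        rw [this]
        exact Submodule.sub_mem _ (Submodule.mem_sup_left (Y.smul_mem _ htY))
          (Submodule.mem_sup_right (Z.smul_mem _ hz₁))
    have hlt : Z < Z' := by
      refine lt_of_le_of_ne le_sup_left ?_
      intro h
      apply hv₂Z
      rw [h]
      exact Submodule.mem_sup_right (Submodule.mem_span_singleton_self v₂)
    exact hZmax Z' ⟨hZ'u, hYZ'⟩ hlt
  have hcompl : IsCompl Y Z := ⟨hYZ, codisjoint_iff.mpr htop⟩
  -- the projection onto Y along Z commutes with u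
  set π₀ : Module.End k X := Y.subtype ∘ₗ Submodule.projectionOnto Y Z hcompl with hπ₀
  have hπ₀Y : ∀ y ∈ Y, π₀ y = y := by
    intro y hy
    have := Submodule.projectionOnto_apply_of_mem_left hcompl hy
    simp only [hπ₀, LinearMap.comp_apply, Submodule.subtype_apply]
    rw [this]
  have hπ₀Z : ∀ z ∈ Z, π₀ z = 0 := by
    intro z hz
    have := Submodule.projectionOnto_apply_of_mem_right hcompl hz
    simp only [hπ₀, LinearMap.comp_apply, Submodule.subtype_apply]
    rw [this]; rfl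
  have hπ₀mem : ∀ v, π₀ v ∈ Y := fun v => (Submodule.projectionOnto Y Z hcompl v).2
  have hπ₀u : Commute π₀ u := by
    ext v
    have hv : v ∈ Y ⊔ Z := by rw [htop]; trivial
    obtain ⟨y, hy, z, hz, rfl⟩ := Submodule.mem_sup.mp hv
    simp only [Module.End.mul_apply, map_add]
    rw [hπ₀Y y hy, hπ₀Z z hz, hπ₀Y _ (hYu y hy), hπ₀Z _ (hZu z hz), map_zero]
  have hπ₀x : Commute π₀ (ρ x) := by
    have : ρ x = u + 1 := by rw [hu]; unfold uop; abel
    rw [this]
    exact hπ₀u.add_right (Commute.one_right _)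
  set π := avgH ρ H π₀ with hπ
  have hπ1 : ∀ v, π v ∈ Y := avgH_mem hπ₀mem hYH
  have hπ2 : ∀ y ∈ Y, π y = y := avgH_eq_self hπ₀Y hYH hcard
  have hπx : Commute π (ρ x) := avgH_comm_x hd hπ₀x
  have hπall : ∀ γ : Γ, ∀ v, π (ρ γ v) = ρ γ (π v) := by
    intro γ v
    obtain ⟨h, hh, i, rfl⟩ := hd.gen γ
    have e1 : ρ (h * x ^ i) = ρ h * ρ x ^ i := by rw [map_mul, rep_pow]
    have e2 : π * (ρ h * ρ x ^ i) = (ρ h * ρ x ^ i) * π := by
      rw [← mul_assoc, ← avgH_comm_H ρ H π₀ h hh, mul_assoc, (hπx.pow_right i).eq, mul_assoc]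
    have := congrArg (fun F : Module.End k X => F v) e2
    simp only [Module.End.mul_apply] at this
    rw [e1]
    exact this
  refine ⟨Y, LinearMap.ker π, W, b, ?_, isCompl_ker_of_proj hπ1 hπ2, stab_all hd hYH hYP, ?_, hWY,
    hWH, hWne, hWirr, hYeq, hb0, hb1, hinj⟩
  · intro h
    apply hWne
    rw [eq_bot_iff, ← h]
    exact hWY
  · intro γ v hv
    rw [LinearMap.mem_ker] at hv ⊢
    rw [hπall, hv, map_zero]


end copy

section aux

variable {k : Type*} [Field k] {X : Type*} [AddCommGroup X] [Module k X]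

/-- the vectors `v, u v, …, u^b v` are independent if `u^b v ≠ 0 = u^(b+1) v` -/
theorem li_pow (u : Module.End k X) (v : X) (b : ℕ) (h1 : (u ^ b) v ≠ 0)
    (h2 : (u ^ (b + 1)) v = 0) :
    LinearIndependent k (fun j : Fin (b + 1) => (u ^ (j : ℕ)) v) := by
  classical
  rw [Fintype.linearIndependent_iff]
  intro g hg
  have hz : ∀ t, b + 1 ≤ t → (u ^ t) v = 0 := by
    intro t ht
    obtain ⟨s, rfl⟩ := Nat.exists_eq_add_of_le ht
    rw [add_comm, pow_add, Module.End.mul_apply, h2, map_zero]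
  have key : ∀ n : ℕ, ∀ j : Fin (b + 1), (j : ℕ) = n → g j = 0 := by
    intro n
    induction n using Nat.strong_induction_on with
    | _ n ih =>
      intro j hj
      have hjb : (j : ℕ) < b + 1 := j.2
      have hsum := congrArg (u ^ (b - n)) hg
      rw [map_sum, map_zero] at hsum
      have hterm : ∀ i : Fin (b + 1), (u ^ (b - n)) (g i • (u ^ (i : ℕ)) v) =
          if i = j then g j • (u ^ b) v else 0 := by
        intro i
        rw [map_smul, ← Module.End.mul_apply, ← pow_add]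
        by_cases hij : i = j
        · subst hij
          rw [if_pos rfl]
          congr 3
          omega
        · rw [if_neg hij]
          have hne : (i : ℕ) ≠ n := fun h => hij (Fin.ext (h.trans hj.symm))
          rcases lt_or_gt_of_ne hne with hlt | hgt
          · rw [ih i hlt i rfl, zero_smul]
          · rw [hz _ (by omega), smul_zero]
      rw [Finset.sum_congr rfl (fun i _ => hterm i), Finset.sum_ite_eq' Finset.univ j] at hsum
      rw [if_pos (Finset.mem_univ j)] at hsum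
      rcases smul_eq_zero.mp hsum with h | h
      · exact h
      · exact absurd h h1
  intro j
  exact key j j rfl

/-- a minimal `H`-stable subspace, `H` abelian, over an algebraically closed field is a line spanned
by a common eigenvector -/
theorem exists_eigen {Γ : Type*} [Group Γ] [IsAlgClosed k] [FiniteDimensional k X]
    (ρ : Representation k Γ X) (H : Subgroup Γ) (hab : ∀ a ∈ H, ∀ b ∈ H, a * b = b * a)
    (W : Submodule k X) (hWH : HStab ρ H W) (hWne : W ≠ ⊥)
    (hWirr : ∀ W' ≤ W, HStab ρ H W' → W' = ⊥ ∨ W' = W) :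
    ∃ (v : X) (μ : Γ → k), v ≠ 0 ∧ v ∈ W ∧ (∀ h ∈ H, ρ h v = μ h • v) ∧
      W = Submodule.span k {v} := by
  classical
  have hnt : Nontrivial W := Submodule.nontrivial_iff_ne_bot.mpr hWne
  have step1 : ∀ h ∈ H, ∃ c : k, ∀ w ∈ W, ρ h w = c • w := by
    intro h hh
    obtain ⟨c, hc⟩ := Module.End.exists_eigenvalue
      ((ρ h).restrict (fun w hw => hWH h hh w hw) : Module.End k W)
    obtain ⟨w0, hw0⟩ := hc.exists_hasEigenvector
    have hw0e : ρ h (w0 : X) = c • (w0 : X) := by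
      have := hw0.apply_eq_smul
      exact congrArg Subtype.val this
    have hw0ne : (w0 : X) ≠ 0 := fun h0 => hw0.2 (Subtype.ext h0)
    refine ⟨c, ?_⟩
    let E : Submodule k X := W ⊓ LinearMap.ker (ρ h - c • (1 : Module.End k X))
    have hmemE : ∀ w, w ∈ E ↔ w ∈ W ∧ ρ h w = c • w := by
      intro w
      show w ∈ W ⊓ LinearMap.ker (ρ h - c • (1 : Module.End k X)) ↔ _
      rw [Submodule.mem_inf, LinearMap.mem_ker, LinearMap.sub_apply, LinearMap.smul_apply,
        Module.End.one_apply, sub_eq_zero]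
    have hEW : E ≤ W := inf_le_left
    have hEH : HStab ρ H E := by
      intro h2 hh2 w hw
      rw [hmemE] at hw ⊢
      refine ⟨hWH h2 hh2 w hw.1, ?_⟩
      have hcomm : ρ h (ρ h2 w) = ρ h2 (ρ h w) := by
        rw [← Module.End.mul_apply, ← Module.End.mul_apply, ← map_mul, ← map_mul, hab h hh h2 hh2]
      rw [hcomm, hw.2, map_smul]
    rcases hWirr E hEW hEH with hE | hE
    · exfalso
      have : (w0 : X) ∈ E := (hmemE _).mpr ⟨w0.2, hw0e⟩
      rw [hE, Submodule.mem_bot] at this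
      exact hw0ne this
    · intro w hw
      have : w ∈ E := by rw [hE]; exact hw
      exact ((hmemE w).mp this).2
  obtain ⟨v, hvW, hv0⟩ := Submodule.exists_mem_ne_zero_of_ne_bot hWne
  refine ⟨v, fun g => if hg : g ∈ H then Classical.choose (step1 g hg) else 0, hv0, hvW, ?_, ?_⟩
  · intro h hh
    show ρ h v = (if hg : h ∈ H then Classical.choose (step1 h hg) else 0) • v
    rw [dif_pos hh]
    exact Classical.choose_spec (step1 h hh) v hvW
  · have hle : Submodule.span k {v} ≤ W := by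
      rw [Submodule.span_singleton_le_iff_mem]
      exact hvW
    have hst : HStab ρ H (Submodule.span k {v}) := by
      intro h hh w hw
      obtain ⟨a, rfl⟩ := Submodule.mem_span_singleton.mp hw
      obtain ⟨c, hc⟩ := step1 h hh
      rw [map_smul, hc v hvW, smul_smul]
      exact Submodule.smul_mem _ _ (Submodule.mem_span_singleton_self v)
    rcases hWirr _ hle hst with h0 | h0
    · exfalso
      have : v ∈ Submodule.span k {v} := Submodule.mem_span_singleton_self v
      rw [h0, Submodule.mem_bot] at this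
      exact hv0 this
    · exact h0.symm

end aux

end Cfsg.Agent.Helper7.S4504SPLIT

namespace Cfsg.Agent.S4504P

open Cfsg.Agent.Helper5.GC Module Cfsg.Agent.Helper7.S4504SPLIT

-- M-SPLIT
theorem exists_uniserial_summand {k : Type*} [Field k] [IsAlgClosed k] {G : Type*} [Group G]
    [Finite G] {N H : Subgroup G} {x : G} {p : ℕ} [Fact p.Prime] [CharP k p]
    (hd : TIData G N H x p) (hcard : (Nat.card H : k) ≠ 0)
    (hab : ∀ a ∈ H, ∀ b ∈ H, a * b = b * a)
    {W : Type*} [AddCommGroup W] [Module k W] [FiniteDimensional k W]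
    (ρ : Representation k G W) (hx : ρ x ≠ 1) :
    ∃ (π : Module.End k W) (v : W) (μ : G → k) (d : ℕ), π * π = π ∧ IsHomOn ρ ρ N π ∧ 2 ≤ d ∧
      π v = v ∧ (∀ h ∈ H, ρ h v = μ h • v) ∧ (uop ρ x ^ d) v = 0 ∧
      LinearIndependent k (fun j : Fin d => (uop ρ x ^ (j : ℕ)) v) ∧
      LinearMap.range π = Submodule.span k (Set.range fun j : Fin d => (uop ρ x ^ (j : ℕ)) v) := by
  classical
  have hnt : Nontrivial W := by
    by_contra h
    rw [not_nontrivial_iff_subsingleton] at h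
    exact hx (LinearMap.ext fun v => Subsingleton.elim _ _)
  have hcard' : (Nat.card (H.subgroupOf N) : k) ≠ 0 := by
    rw [card_subgroupOf_of_le hd.hHN]
    exact hcard
  obtain ⟨Y, Z, W₀, b, _, hYZ, hYst, hZst, hWY, hWH, hWne, hWirr, hYeq, hb0, hb1, hinj⟩ :=
    split_strong (resN ρ N) (⟨x, hd.hxN⟩ : N) (H.subgroupOf N) p hd.phData hd.pow_eq_one hcard'
  obtain ⟨u, hu⟩ : ∃ u : Module.End k W, u = uop ρ x := ⟨_, rfl⟩
  have hu' : uop (resN ρ N) (⟨x, hd.hxN⟩ : N) = u := hu.symm ▸ rfl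
  rw [hu'] at hYeq hb0 hb1 hinj
  -- `b ≥ 1`
  have hb : 1 ≤ b := by
    rcases Nat.eq_zero_or_pos b with h0 | h0
    · exfalso
      rw [h0, zero_add, pow_one] at hb1
      apply hx
      have : ρ x - 1 = 0 := by rw [← hb1, hu]; rfl
      exact sub_eq_zero.mp this
    · exact h0
  -- the eigenvector
  have hab' : ∀ a ∈ H.subgroupOf N, ∀ c ∈ H.subgroupOf N, a * c = c * a := by
    intro a ha c hc
    apply Subtype.ext
    exact hab a (Subgroup.mem_subgroupOf.mp ha) c (Subgroup.mem_subgroupOf.mp hc)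
  obtain ⟨v, μ', hv0, hvW, hμ', hWspan⟩ :=
    exists_eigen (resN ρ N) (H.subgroupOf N) hab' W₀ hWH hWne hWirr
  -- stability of `Y` under `u`
  have hYx : ∀ y ∈ Y, ρ x y ∈ Y := fun y hy => hYst ⟨x, hd.hxN⟩ y hy
  have hYu : ∀ y ∈ Y, u y ∈ Y := by
    intro y hy
    rw [hu, uop_apply]
    exact Y.sub_mem (hYx y hy) hy
  have hYupow : ∀ j : ℕ, ∀ y ∈ Y, (u ^ j) y ∈ Y := by
    intro j
    induction j with
    | zero => intro y hy; simpa using hy
    | succ j ih =>
      intro y hy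
      rw [pow_succ, Module.End.mul_apply]
      exact ih _ (hYu y hy)
  have hvY : v ∈ Y := hWY hvW
  have hbv : (u ^ b) v ≠ 0 := fun h => hv0 (hinj v hvW h)
  have hb1v : (u ^ (b + 1)) v = 0 := by rw [hb1]; rfl
  have hz : ∀ t, b + 1 ≤ t → (u ^ t) v = 0 := by
    intro t ht
    obtain ⟨s, rfl⟩ := Nat.exists_eq_add_of_le ht
    rw [add_comm, pow_add, Module.End.mul_apply, hb1v, map_zero]
  obtain ⟨S, hS⟩ : ∃ S : Submodule k W,
      S = Submodule.span k (Set.range fun j : Fin (b + 1) => (u ^ (j : ℕ)) v) := ⟨_, rfl⟩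
  have hgen : ∀ t : ℕ, (u ^ t) v ∈ S := by
    intro t
    by_cases ht : t < b + 1
    · rw [hS]
      exact Submodule.subset_span ⟨⟨t, ht⟩, rfl⟩
    · rw [hz t (by omega)]
      exact S.zero_mem
  -- `Y = S`
  have hSY : S ≤ Y := by
    rw [hS, Submodule.span_le]
    rintro _ ⟨j, rfl⟩
    exact hYupow j v hvY
  have hYS : Y ≤ S := by
    have key : ∀ t : ℕ, ∀ y ∈ Y, ∃ s ∈ S, ∃ y' ∈ Y, y = s + (u ^ t) y' := by
      intro t
      induction t with
      | zero =>
        intro y hy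
        exact ⟨0, S.zero_mem, y, hy, by simp⟩
      | succ t ih =>
        intro y hy
        obtain ⟨s, hs, y', hy', rfl⟩ := ih y hy
        rw [hYeq] at hy'
        obtain ⟨w, hw, z, ⟨y'', hy'', rfl⟩, rfl⟩ := Submodule.mem_sup.mp hy'
        rw [hWspan] at hw
        obtain ⟨a, rfl⟩ := Submodule.mem_span_singleton.mp hw
        refine ⟨s + a • (u ^ t) v, S.add_mem hs (S.smul_mem a (hgen t)), y'', hy'', ?_⟩
        rw [map_add, map_smul, pow_succ, Module.End.mul_apply]
        abel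
    intro y hy
    obtain ⟨s, hs, y', _, rfl⟩ := key (b + 1) y hy
    rw [hb1]
    simpa using hs
  have hYSeq : Y = S := le_antisymm hYS hSY
  -- the projection
  refine ⟨Y.projection Z hYZ, v, fun g => if hg : g ∈ N then μ' ⟨g, hg⟩ else 0, b + 1, ?_, ?_,
    by omega, ?_, ?_, ?_, ?_, ?_⟩
  · exact (Submodule.isIdempotentElem_projection hYZ).eq
  · intro g hg w
    exact projection_equivariant hYZ hYst hZst (⟨g, hg⟩ : N) w
  · exact Submodule.projection_apply_of_mem_left hYZ hvY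
  · intro h hh
    show ρ h v = (if hg : h ∈ N then μ' ⟨h, hg⟩ else 0) • v
    rw [dif_pos (hd.hHN hh)]
    exact hμ' ⟨h, hd.hHN hh⟩ (Subgroup.mem_subgroupOf.mpr hh)
  · rw [← hu]
    exact hb1v
  · rw [← hu]
    exact li_pow u v b hbv hb1v
  · rw [Submodule.range_projection, hYSeq, hS, hu]

end Cfsg.Agent.S4504P
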