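import Mathlib
import Cfsg.Agent.Helper2.S2094.DefsA

set_option autoImplicit false
set_option linter.unusedSectionVars false
set_option linter.unusedVariables false

/-! S2094 chapter A, piece CLYA (driver helper2; helper7): the lifts of `Ys a s` and of a long root
element `X a d t` commute. -/

namespace Cfsg.Agent.S2094P

open Matrix Cfsg.Agent.S3352P Cfsg.Agent.S3351P Cfsg.Agent.S2096P Cfsg.Agent.S2086P
open scoped commutatorElement

variable {n : ℕ} {F : Type*} [Field F] [Fintype F] {G : Type*} [Group G] {E : Type*} [Group E]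
  {X : J n → J n → F → G} {Ys : J n → F → G}

namespace CLYA

/-- a long root element as a commutator through a third index -/
theorem X_eq_comm (hn : 3 ≤ n) (hX : DRel X) {a d : J n} (had : IsRoot a d) (t : F) :
    X a d t = ⁅X a (th hn a d) t, X (th hn a d) d 1⁆ := by
  have h1 : IsRoot a (th hn a d) := isRoot_iff_ab.2 (ab_th_ne_left hn a d).symm
  have h2 : IsRoot (th hn a d) d := isRoot_iff_ab.2 (ab_th_ne_right hn a d)
  have h := hX.mul a (th hn a d) d h1 h2 had t 1
  rw [mul_one, cm_def] at h
  rw [← h, commutatorElement_def]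

end CLYA

/-- CLYA: the lifts of `Ys a s` and of a long root element `X a d t` commute -/
theorem cl_Ys_X_fst (hn : 3 ≤ n) (hB : BRel X Ys) (ψ : E →* G) (hψ : Function.Surjective ψ)
    (hc : ψ.ker ≤ Subgroup.center E) {a d : J n} (had : IsRoot a d) (s t : F) :
    CL ψ (Ys a s) (X a d t) := by
  have h1 : IsRoot a (th hn a d) := isRoot_iff_ab.2 (ab_th_ne_left hn a d).symm
  have h2 : IsRoot (th hn a d) d := isRoot_iff_ab.2 (ab_th_ne_right hn a d)
  rw [CLYA.X_eq_comm hn hB.dX had t]
  apply CL_of_comm ψ hψ hc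
  · exact hB.ycomm a a (th hn a d) h1 h1.1.symm (ng_ne a).symm s t
  · refine hB.ycomm a (th hn a d) d h2 had.1.symm ?_ s 1
    intro h
    apply ab_th_ne_left hn a d
    rw [h, ab_ng]

end Cfsg.Agent.S2094P
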