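import Mathlib
import Cfsg.Agent.Helper2.S2094.DefsA
import Cfsg.Agent.Helper16.S2096YMAP
import Cfsg.Agent.Helper7.S2094CLYA

set_option autoImplicit false
set_option linter.unusedSectionVars false
set_option linter.unusedVariables false

/-! S2094 chapter A, piece CLYY (driver helper2; helper7): the lifts of two elements of a short root
subgroup commute. -/

namespace Cfsg.Agent.S2094P

open Matrix Cfsg.Agent.S3352P Cfsg.Agent.S3351P Cfsg.Agent.S2096P Cfsg.Agent.S2086P
open scoped commutatorElement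

variable {n : ℕ} {F : Type*} [Field F] [Fintype F] {G : Type*} [Group G] {E : Type*} [Group E]
  {X : J n → J n → F → G} {Ys : J n → F → G}

namespace CLYY

/-- the lifts of `X a b s` and `X a (ng b) t` commute -/
theorem CL_orth (hn : 3 ≤ n) (hX : DRel X) (ψ : E →* G) (hψ : Function.Surjective ψ)
    (hc : ψ.ker ≤ Subgroup.center E) (hL : LongOK X ψ hψ hn) {a b : J n} (hab : IsRoot a b)
    (s t : F) : CL ψ (X a b s) (X a (ng b) t) :=
  CL_of_commute ψ hc (map_Y hX ψ hψ hn hab s) (map_Y hX ψ hψ hn (isRoot_ng_right' hab) t)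
    (hL.rel.orth a b hab s t)

/-- an element commuting with lifts of `g₁`, `g₂` commutes with every lift of `g₁ * g₂` -/
theorem commute_of_mul {ψ : E →* G} (hψ : Function.Surjective ψ)
    (hc : ψ.ker ≤ Subgroup.center E) {c w : E} {g₀ g₁ g₂ : G} (hcg : ψ c = g₀)
    (h1 : CL ψ g₀ g₁) (h2 : CL ψ g₀ g₂) (hw : ψ w = g₁ * g₂) : Commute c w := by
  obtain ⟨p, hp⟩ := hψ g₁
  obtain ⟨q, hq⟩ := hψ g₂
  have hk : w * (p * q)⁻¹ ∈ Subgroup.center E :=
    hc (by rw [MonoidHom.mem_ker, map_mul, map_inv, map_mul, hw, hp, hq, mul_inv_cancel])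
  have e : w = (w * (p * q)⁻¹) * (p * q) := by group
  rw [e]
  have k1 : Commute c (w * (p * q)⁻¹) := Subgroup.mem_center_iff.mp hk c
  have k2 : Commute c (p * q) := (h1 c p hcg hp).mul_right (h2 c q hcg hq)
  exact k1.mul_right k2

end CLYY

open CLYY

/-- CLYY: the lifts of two elements of a short root subgroup commute -/
theorem cl_Ys_Ys (hn : 3 ≤ n) (hB : BRel X Ys) (ψ : E →* G) (hψ : Function.Surjective ψ)
    (hc : ψ.ker ≤ Subgroup.center E) (hL : LongOK X ψ hψ hn) (a : J n) (s t : F) :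
    CL ψ (Ys a s) (Ys a t) := by
  set b := th hn a a with hb
  have hab : IsRoot a b := isRoot_iff_ab.2 (ab_th_ne_left hn a a).symm
  have hab' : IsRoot a (ng b) := isRoot_ng_right' hab
  obtain ⟨x, hx⟩ := hψ (X a b t)
  obtain ⟨y, hy⟩ := hψ (Ys b 1)
  obtain ⟨z, hz⟩ := hψ (X a (ng b) (-t))
  obtain ⟨u, hu⟩ := hψ (Ys a s)
  -- the image of `⁅x, y⁆`
  have hxy : ψ ⁅x, y⁆ = Ys a t * X a (ng b) t := by
    rw [map_commutatorElement, hx, hy, commutatorElement_def, ← cm_def, hB.xy a b hab t 1, mul_one,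
      mul_one]
  -- `⁅x, y⁆ * z` is a lift of `Ys a t`
  have hlift : ψ (⁅x, y⁆ * z) = Ys a t := by
    rw [map_mul, hxy, hz, mul_assoc, ← hB.dX.add a (ng b) hab', add_neg_cancel,
      WCONJ.X_zero hB.dX hab', mul_one]
  apply CL_of_commute ψ hc hu hlift
  -- `u` commutes with `x` and `z`
  have hux : Commute u x := cl_Ys_X_fst hn hB ψ hψ hc hab s t u x hu hx
  have huz : Commute u z := cl_Ys_X_fst hn hB ψ hψ hc hab' s (-t) u z hu hz
  -- `c = ⁅u, y⁆` is a lift of `X a (ng b) (-(2 s))`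
  set c := ⁅u, y⁆ with hcdef
  have hcim : ψ c = X a (ng b) (-(2 * s * 1)) := by
    rw [hcdef, map_commutatorElement, hu, hy, commutatorElement_def, ← cm_def, hB.yy a b hab s 1]
  -- `c` commutes with `x`
  have hcx : Commute c x :=
    ((CL_orth hn hB.dX ψ hψ hc hL hab t (-(2 * s * 1))).symm) c x hcim hx
  -- `c` commutes with `⁅x, y⁆`
  have hcxy : Commute c ⁅x, y⁆ := by
    apply commute_of_mul hψ hc hcim _ _ hxy
    · exact (cl_Ys_X_fst hn hB ψ hψ hc hab' t (-(2 * s * 1))).symm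
    · exact hL.c2 a (ng b) a (ng b) hab' hab' hab.2.symm hab.2 (ng_ne a).symm
        (by rw [ng_ng]; exact hab.1) (fun h => hab.1 (ng_injective h).symm)
        (by rw [ng_ng]; exact ng_ne b) (-(2 * s * 1)) t
  -- conjugate `⁅x, y⁆` by `u`
  have huy : u * y * u⁻¹ = c * y := by
    rw [hcdef, commutatorElement_def]; group
  have hconj : u * ⁅x, y⁆ * u⁻¹ = ⁅x, y⁆ := by
    have e1 : u * ⁅x, y⁆ * u⁻¹ = ⁅u * x * u⁻¹, u * y * u⁻¹⁆ := by
      simp only [commutatorElement_def]; group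
    have e2 : u * x * u⁻¹ = x := by rw [hux.eq, mul_inv_cancel_right]
    rw [e1, e2, huy]
    have e3 : ⁅x, c * y⁆ = ⁅x, c⁆ * (c * ⁅x, y⁆ * c⁻¹) := by
      simp only [commutatorElement_def]; group
    have e4 : ⁅x, c⁆ = 1 := by
      rw [commutatorElement_def, ← hcx.eq]; group
    rw [e3, e4, one_mul, hcxy.eq, mul_inv_cancel_right]
  have huxy : Commute u ⁅x, y⁆ := by
    have : u * ⁅x, y⁆ = ⁅x, y⁆ * u := by
      calc u * ⁅x, y⁆ = (u * ⁅x, y⁆ * u⁻¹) * u := by group
        _ = ⁅x, y⁆ * u := by rw [hconj]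
    exact this
  exact huxy.mul_right huz

end Cfsg.Agent.S2094P
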