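import Mathlib
import Cfsg.Agent.Helper2.S2099.DefsA
import Cfsg.Agent.Helper2.S2099.DefsZ
import Cfsg.Agent.Helper16.S2096YMAP
import Cfsg.Agent.Helper7.S2094CLYY
import Cfsg.Agent.Helper18.S2099CLYXQ

set_option autoImplicit false
set_option linter.unusedSectionVars false
set_option linter.unusedVariables false

/-! S2099 chapter A, piece CLYYQ (driver helper2; helper7): the lifts of two elements of a short root subgroup
commute (port of `Helper7.S2094CLYY`). -/

namespace Cfsg.Agent.S2099P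

open Matrix Cfsg.Agent.S3352P Cfsg.Agent.S3351P Cfsg.Agent.S2096P Cfsg.Agent.S2086P
open Cfsg.Agent.S2094P (LongOK isRoot_ng_right' isRoot_ng_left')
open scoped commutatorElement

section general

variable {n : ℕ} {F : Type*} [Field F] [Fintype F] {P : Type*} [AddCommGroup P] [Module F P]
  {G : Type*} [Group G] {E : Type*} [Group E] {Q0 : QuadraticForm F P}
  {X : J n → J n → F → G} {Ys : J n → P → G} {h₀ : G} {R D : P →ₗ[F] P}

/-- CLYYQ: the lifts of two elements of a short root subgroup commute -/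
theorem cl_Ys_Ys_Q (hn : 3 ≤ n) (hB : QRel Q0 X Ys) (hR : Rot Q0 X Ys h₀ R D) (ψ : E →* G)
    (hψ : Function.Surjective ψ) (hc : ψ.ker ≤ Subgroup.center E) (hL : LongOK X ψ hψ hn)
    (a : J n) (w v : P) : CL ψ (Ys a w) (Ys a v) := by
  set b := th hn a a with hb
  have hab : IsRoot a b := isRoot_iff_ab.2 (ab_th_ne_left hn a a).symm
  have hab' : IsRoot a (ng b) := isRoot_ng_right' hab
  obtain ⟨x, hx⟩ := hψ (X a b 1)
  obtain ⟨y, hy⟩ := hψ (Ys b v)
  obtain ⟨z, hz⟩ := hψ (X a (ng b) (-(Q0 v)))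
  obtain ⟨u, hu⟩ := hψ (Ys a w)
  -- the image of `⁅x, y⁆`
  have hxy : ψ ⁅x, y⁆ = Ys a v * X a (ng b) (Q0 v) := by
    rw [map_commutatorElement, hx, hy, commutatorElement_def, ← cm_def, hB.xy a b hab 1 v, one_smul,
      one_mul]
  -- `⁅x, y⁆ * z` is a lift of `Ys a v`
  have hlift : ψ (⁅x, y⁆ * z) = Ys a v := by
    rw [map_mul, hxy, hz, mul_assoc, ← hB.dX.add a (ng b) hab', add_neg_cancel,
      WCONJ.X_zero hB.dX hab', mul_one]
  apply Cfsg.Agent.S2094P.CL_of_commute ψ hc hu hlift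
  -- the lifts of `Ys a _` and of `X a d _` commute
  have hYX : ∀ {d : J n}, IsRoot a d → ∀ (w' : P) (t : F), CL ψ (Ys a w') (X a d t) :=
    fun {d} had w' t => cl_Ys_X hn hB hR ψ hψ hc had had.1.symm (ng_ne a).symm w' t
  have hux : Commute u x := hYX hab w 1 u x hu hx
  have huz : Commute u z := hYX hab' w (-(Q0 v)) u z hu hz
  -- `c = ⁅u, y⁆` is a lift of `X a (ng b) (-(polar w v))`
  set c := ⁅u, y⁆ with hcdef
  have hcim : ψ c = X a (ng b) (-(QuadraticMap.polar Q0 w v)) := by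
    rw [hcdef, map_commutatorElement, hu, hy, commutatorElement_def, ← cm_def, hB.yy a b hab w v]
  -- `c` commutes with `x`
  have hcx : Commute c x :=
    ((Cfsg.Agent.S2094P.CLYY.CL_orth hn hB.dX ψ hψ hc hL hab 1
      (-(QuadraticMap.polar Q0 w v))).symm) c x hcim hx
  -- `c` commutes with `⁅x, y⁆`
  have hcxy : Commute c ⁅x, y⁆ := by
    apply Cfsg.Agent.S2094P.CLYY.commute_of_mul hψ hc hcim _ _ hxy
    · exact (hYX hab' v (-(QuadraticMap.polar Q0 w v))).symm
    · exact hL.c2 a (ng b) a (ng b) hab' hab' hab.2.symm hab.2 (ng_ne a).symm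
        (by rw [ng_ng]; exact hab.1) (fun h => hab.1 (ng_injective h).symm)
        (by rw [ng_ng]; exact ng_ne b) (-(QuadraticMap.polar Q0 w v)) (Q0 v)
  -- conjugate `⁅x, y⁆` by `u`
  have huy : u * y * u⁻¹ = c * y := by
    rw [hcdef, commutatorElement_def]; group
  have hconj : u * ⁅x, y⁆ * u⁻¹ = ⁅x, y⁆ := by
    have e1 : u * ⁅x, y⁆ * u⁻¹ = ⁅u * x * u⁻¹, u * y * u⁻¹⁆ := by
      simp only [commutatorElement_def]; group
    have e2 : u * x * u⁻¹ = x := by rw [hux.eq, mul_inv_cancel_right]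
    rw [e1, e2, huy]
    have e3 : ⁅x, c * y⁆ = ⁅x, c⁆ * (c * ⁅x, y⁆ * c⁻¹) := by
      simp only [commutatorElement_def]; group
    have e4 : ⁅x, c⁆ = 1 := by
      rw [commutatorElement_def, ← hcx.eq]; group
    rw [e3, e4, one_mul, hcxy.eq, mul_inv_cancel_right]
  have huxy : Commute u ⁅x, y⁆ := by
    have : u * ⁅x, y⁆ = ⁅x, y⁆ * u := by
      calc u * ⁅x, y⁆ = (u * ⁅x, y⁆ * u⁻¹) * u := by group
        _ = ⁅x, y⁆ * u := by rw [hconj]
    exact this
  exact huxy.mul_right huz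

end general

end Cfsg.Agent.S2099P
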