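import Mathlib
import Cfsg.Agent.Helper29.S2264Defs

/-! S2264 piece FACS (helper7): API for the monic irreducible factors `facs μ` and `mult μ f`. -/

set_option autoImplicit false

namespace Cfsg.Agent.S2264P

open Polynomial
open scoped Classical

noncomputable section

variable {F : Type*} [Field F]

theorem mem_facs {μ f : F[X]} (hμ : μ ≠ 0) :
    f ∈ facs μ ↔ Irreducible f ∧ f.Monic ∧ f ∣ μ := by
  unfold facs
  rw [Multiset.mem_toFinset, UniqueFactorizationMonoid.mem_normalizedFactors_iff' hμ]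
  constructor
  · rintro ⟨h1, h2, h3⟩
    refine ⟨h1, ?_, h3⟩
    rw [← h2]
    exact Polynomial.monic_normalize h1.ne_zero
  · rintro ⟨h1, h2, h3⟩
    exact ⟨h1, h2.normalize_eq_self, h3⟩

theorem mult_pos {μ f : F[X]} (hf : f ∈ facs μ) : 1 ≤ mult μ f := by
  unfold facs at hf
  unfold mult
  rw [Multiset.mem_toFinset] at hf
  exact Multiset.count_pos.mpr hf

theorem prod_facs {μ : F[X]} (hμ : μ.Monic) : ∏ f ∈ facs μ, f ^ mult μ f = μ := by
  unfold facs mult
  rw [← Finset.prod_multiset_count, UniqueFactorizationMonoid.prod_normalizedFactors_eq hμ.ne_zero,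
    hμ.normalize_eq_self]

theorem natDegree_eq_sum {μ : F[X]} (hμ : μ.Monic) :
    μ.natDegree = ∑ f ∈ facs μ, mult μ f * f.natDegree := by
  have h := congrArg natDegree (prod_facs hμ)
  rw [Polynomial.natDegree_prod_of_monic] at h
  · rw [← h]
    refine Finset.sum_congr rfl fun f hf => ?_
    have hm : f.Monic := ((mem_facs hμ.ne_zero).mp hf).2.1
    rw [hm.natDegree_pow]
  · intro f hf
    exact ((mem_facs hμ.ne_zero).mp hf).2.1.pow _

theorem facs_coprime {μ f g : F[X]} (hf : f ∈ facs μ) (hg : g ∈ facs μ) (hne : f ≠ g) :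
    IsCoprime f g := by
  have hμ : μ ≠ 0 := by
    rintro rfl
    simp [facs] at hf
  obtain ⟨hfi, hfm, -⟩ := (mem_facs hμ).mp hf
  obtain ⟨hgi, hgm, -⟩ := (mem_facs hμ).mp hg
  rw [hfi.coprime_iff_not_dvd]
  intro hd
  exact hne (Polynomial.eq_of_monic_of_associated hfm hgm (hfi.associated_of_dvd hgi hd))

theorem pow_dvd_iff_le_mult {μ f : F[X]} (hμ : μ ≠ 0) (hf : Irreducible f) (hm : f.Monic)
    (k : ℕ) : f ^ k ∣ μ ↔ k ≤ mult μ f := by
  unfold mult
  rw [UniqueFactorizationMonoid.dvd_iff_normalizedFactors_le_normalizedFactors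
      (pow_ne_zero _ hf.ne_zero) hμ,
    UniqueFactorizationMonoid.normalizedFactors_pow,
    UniqueFactorizationMonoid.normalizedFactors_irreducible hf, hm.normalize_eq_self,
    Multiset.nsmul_singleton, Multiset.le_count_iff_replicate_le]

theorem coeff_zero_ne_zero_of_mem_facs {μ f : F[X]} (h0 : μ.coeff 0 ≠ 0) (hf : f ∈ facs μ) :
    f.coeff 0 ≠ 0 := by
  have hμ : μ ≠ 0 := by
    rintro rfl
    simp at h0
  obtain ⟨-, -, hd⟩ := (mem_facs hμ).mp hf
  intro h
  apply h0
  rw [← Polynomial.X_dvd_iff] at h ⊢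
  exact h.trans hd

end

end Cfsg.Agent.S2264P
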