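import Mathlib

set_option autoImplicit false

/-! Counting classes of elements of prime order in `G ⧸ center G` via complete invariants. -/

namespace Cfsg.Agent.Helper7.PCls

open Subgroup

section Generic

variable {Q : Type*} [Group Q]

/-- A complete conjugacy invariant on the elements satisfying `P` counts the classes meeting `P`. -/
theorem card_classes_of_invariant (P : Q → Prop) {Y : Type*}
    (inv : {x : Q // P x} → Y) (hsurj : Function.Surjective inv)
    (hiff : ∀ x y, inv x = inv y ↔ IsConj (x : Q) (y : Q)) :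
    Nat.card {C : ConjClasses Q // ∃ g, ConjClasses.mk g = C ∧ P g} = Nat.card Y := by
  classical
  let f : {C : ConjClasses Q // ∃ g, ConjClasses.mk g = C ∧ P g} → Y :=
    fun C => inv ⟨C.2.choose, C.2.choose_spec.2⟩
  have hf : Function.Bijective f := by
    constructor
    · intro C C' h
      have h1 := (hiff _ _).1 h
      apply Subtype.ext
      rw [← C.2.choose_spec.1, ← C'.2.choose_spec.1]
      exact ConjClasses.mk_eq_mk_iff_isConj.2 h1
    · intro y
      obtain ⟨x, rfl⟩ := hsurj y
      let C0 : {C : ConjClasses Q // ∃ g, ConjClasses.mk g = C ∧ P g} :=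
        ⟨ConjClasses.mk x.1, x.1, rfl, x.2⟩
      refine ⟨C0, ?_⟩
      apply (hiff _ _).2
      have := C0.2.choose_spec.1
      exact ConjClasses.mk_eq_mk_iff_isConj.1 this
  exact Nat.card_congr (Equiv.ofBijective f hf)

end Generic

variable {G : Type*} [Group G]

theorem isConj_mk_iff (g h : G) :
    IsConj (QuotientGroup.mk g : G ⧸ center G) (QuotientGroup.mk h) ↔
      ∃ k : G, ∃ z ∈ center G, k * g * k⁻¹ = h * z := by
  constructor
  · intro hc
    obtain ⟨c, hc⟩ := isConj_iff.1 hc
    obtain ⟨k, rfl⟩ := QuotientGroup.mk_surjective c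
    have h1 : ((k * g * k⁻¹ : G) : G ⧸ center G) = (h : G ⧸ center G) := by
      simpa using hc
    rw [QuotientGroup.eq] at h1
    refine ⟨k, ((k * g * k⁻¹)⁻¹ * h)⁻¹, inv_mem h1, ?_⟩
    group
  · rintro ⟨k, z, hz, hk⟩
    refine isConj_iff.2 ⟨(k : G ⧸ center G), ?_⟩
    rw [← QuotientGroup.mk_inv, ← QuotientGroup.mk_mul, ← QuotientGroup.mk_mul, hk,
      QuotientGroup.mk_mul, (QuotientGroup.eq_one_iff z).2 hz, mul_one]

theorem orderOf_mk_eq_iff (r : ℕ) [hr : Fact r.Prime] (g : G) :
    orderOf (QuotientGroup.mk g : G ⧸ center G) = r ↔ g ∉ center G ∧ g ^ r ∈ center G := by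
  rw [orderOf_eq_prime_iff, ← QuotientGroup.mk_pow, QuotientGroup.eq_one_iff, Ne,
    QuotientGroup.eq_one_iff]
  exact and_comm

theorem mul_pow_of_mem_center (h z : G) (hz : z ∈ center G) (m : ℕ) :
    (h * z) ^ m = h ^ m * z ^ m :=
  (Commute.mul_pow (Subgroup.mem_center_iff.1 hz h) m)

theorem conj_eq_of_mem_center (k z : G) (hz : z ∈ center G) : k * z * k⁻¹ = z := by
  rw [Subgroup.mem_center_iff.1 hz k, mul_inv_cancel_right]

end Cfsg.Agent.Helper7.PCls
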