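import Mathlib
import Cfsg.Agent.Helper7.PCls1

set_option autoImplicit false

/-! Main abstract count of classes of elements of prime order in `G ⧸ center G`. -/

namespace Cfsg.Agent.Helper7.PCls

open Subgroup
open scoped IsMulCommutative

variable {G : Type*} [Group G]

/-- The relation "conjugate modulo the centre" on `G`. -/
def CRel (g h : G) : Prop := ∃ k : G, ∃ z ∈ center G, k * g * k⁻¹ = h * z

theorem CRel.refl (g : G) : CRel g g := ⟨1, 1, one_mem _, by simp⟩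

theorem CRel.symm {g h : G} (hgh : CRel g h) : CRel h g := by
  obtain ⟨k, z, hz, hk⟩ := hgh
  refine ⟨k⁻¹, z⁻¹, inv_mem hz, ?_⟩
  have h1 : h = k * g * k⁻¹ * z⁻¹ := by rw [hk, mul_inv_cancel_right]
  rw [h1, inv_inv]
  have h2 : k⁻¹ * (k * g * k⁻¹ * z⁻¹) * k = g * (k⁻¹ * z⁻¹ * k) := by group
  rw [h2]
  have h3 := conj_eq_of_mem_center k⁻¹ z⁻¹ (inv_mem hz)
  rw [inv_inv] at h3
  rw [h3]

theorem CRel.pow_eq {g h : G} (hgh : CRel g h) (r : ℕ) (hg : g ^ r ∈ center G) :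
    ∃ z ∈ center G, g ^ r = h ^ r * z ^ r := by
  obtain ⟨k, z, hz, hk⟩ := hgh
  refine ⟨z, hz, ?_⟩
  have h1 : (k * g * k⁻¹) ^ r = k * g ^ r * k⁻¹ := conj_pow
  rw [hk, mul_pow_of_mem_center h z hz, conj_eq_of_mem_center k _ hg] at h1
  exact h1.symm


/-- Subtype of noncentral elements of `G` with trivial `r`-th power. -/
abbrev S1 (G : Type*) [Group G] (r : ℕ) := {g : G // g ^ r = 1 ∧ g ∉ center G}

/-- The subgroup of `r`-th powers in the centre. -/
abbrev RZ (G : Type*) [Group G] (r : ℕ) : Subgroup (center G) :=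
  (powMonoidHom (α := center G) r).range

/-- Parameter type for the classes of the second kind. -/
abbrev BT (G : Type*) [Group G] (r : ℕ) (ε : Prop) := {b : center G ⧸ RZ G r // b ≠ 1 ∧ ε}

/-- The hypotheses of the abstract counting theorem. -/
structure Data (G : Type*) [Group G] (r : ℕ) (T : Type*) [MulAction (Multiplicative (ZMod r)) T]
    (ε : Prop) where
  ζ : G
  hζ : ζ ∈ center G
  hζr : ζ ^ r = 1
  hroot : ∀ z ∈ center G, z ^ r = 1 → ∃ m : ℕ, z = ζ ^ m
  τ : S1 G r → T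
  τ_surj : Function.Surjective τ
  τ_conj : ∀ g h, τ g = τ h ↔ IsConj (g : G) (h : G)
  τ_rot : ∀ (m : ℕ) (g h : S1 G r), (h : G) = ζ ^ m * g →
    τ h = Multiplicative.ofAdd (m : ZMod r) • τ g
  hB1 : ∀ g h : G, g ^ r = h ^ r → g ^ r ∈ center G → (¬ ∃ c ∈ center G, g ^ r = c ^ r) →
    IsConj g h
  hB2 : ε → ∀ z ∈ center G, ∃ g : G, g ^ r = z
  hB3 : ¬ ε → ∀ g : G, g ^ r ∈ center G → ∃ c ∈ center G, g ^ r = c ^ r

variable {r : ℕ} {T : Type*} [MulAction (Multiplicative (ZMod r)) T] {ε : Prop}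

theorem mk_eq_one_iff (g : G) (hgr : g ^ r ∈ center G) :
    (QuotientGroup.mk ⟨g ^ r, hgr⟩ : center G ⧸ RZ G r) = 1 ↔ ∃ c ∈ center G, g ^ r = c ^ r := by
  rw [QuotientGroup.eq_one_iff]
  show _ ∈ (powMonoidHom (α := center G) r).range ↔ _
  rw [MonoidHom.mem_range]
  constructor
  · rintro ⟨c, hc⟩
    refine ⟨c.1, c.2, ?_⟩
    have := congrArg Subtype.val hc
    simpa using this.symm
  · rintro ⟨c, hc, h⟩
    refine ⟨⟨c, hc⟩, ?_⟩
    apply Subtype.ext
    simpa using h.symm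

/-- Specification of the invariant, first kind. -/
def SpecA (D : Data G r T ε) (g : G)
    (y : MulAction.orbitRel.Quotient (Multiplicative (ZMod r)) T ⊕ BT G r ε) : Prop :=
  ∃ c ∈ center G, ∃ g1 : S1 G r, (g1 : G) = c⁻¹ * g ∧
    y = Sum.inl (Quotient.mk'' (D.τ g1))

/-- Specification of the invariant, second kind. -/
def SpecB (T : Type*) [MulAction (Multiplicative (ZMod r)) T] (g : G)
    (y : MulAction.orbitRel.Quotient (Multiplicative (ZMod r)) T ⊕ BT G r ε) : Prop :=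
  ∃ (hgr : g ^ r ∈ center G) (hε : ε)
    (hne : (QuotientGroup.mk ⟨g ^ r, hgr⟩ : center G ⧸ RZ G r) ≠ 1),
    y = Sum.inr ⟨QuotientGroup.mk ⟨g ^ r, hgr⟩, hne, hε⟩

theorem SpecA.pow_eq {D : Data G r T ε} {g : G}
    {y : MulAction.orbitRel.Quotient (Multiplicative (ZMod r)) T ⊕ BT G r ε}
    (h : SpecA D g y) : ∃ c ∈ center G, g ^ r = c ^ r := by
  obtain ⟨c, hc, g1, hg1, -⟩ := h
  refine ⟨c, hc, ?_⟩
  have h1 : g = g1 * c := by
    rw [hg1, mul_assoc, Subgroup.mem_center_iff.1 hc g, ← mul_assoc, inv_mul_cancel, one_mul]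
  rw [h1, mul_pow_of_mem_center _ _ hc, g1.2.1, one_mul]


theorem mul_mem_S1 (D : Data G r T ε) (m : ℕ) (h1 : S1 G r) :
    (D.ζ ^ m * (h1 : G)) ^ r = 1 ∧ D.ζ ^ m * (h1 : G) ∉ center G := by
  have hz : D.ζ ^ m ∈ center G := pow_mem D.hζ _
  have hz1 : (D.ζ ^ m) ^ r = 1 := by rw [← pow_mul, mul_comm, pow_mul, D.hζr, one_pow]
  constructor
  · rw [← Subgroup.mem_center_iff.1 hz, mul_pow_of_mem_center _ _ hz, h1.2.1, hz1, one_mul]
  · intro hmem
    apply h1.2.2
    have := mul_mem (inv_mem hz) hmem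
    simpa using this

theorem specA_specA [Fact r.Prime] (D : Data G r T ε) {g h : G}
    {y y' : MulAction.orbitRel.Quotient (Multiplicative (ZMod r)) T ⊕ BT G r ε}
    (hy : SpecA D g y) (hy' : SpecA D h y') : y = y' ↔ CRel g h := by
  obtain ⟨c, hc, g1, hg1, rfl⟩ := hy
  obtain ⟨c', hc', h1, hh1, rfl⟩ := hy'
  have eg : g = c * g1 := by rw [hg1, mul_inv_cancel_left]
  rw [Sum.inl.injEq, Quotient.eq'', MulAction.orbitRel_apply, MulAction.mem_orbit_iff]
  constructor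
  · rintro ⟨m, hm⟩
    set m' : ℕ := (Multiplicative.toAdd m).val with hm'
    have hz : D.ζ ^ m' ∈ center G := pow_mem D.hζ _
    let h2 : S1 G r := ⟨D.ζ ^ m' * h1, mul_mem_S1 D m' h1⟩
    have h3 : D.τ h2 = m • D.τ h1 := by
      rw [D.τ_rot m' h1 h2 rfl]
      congr 1
      rw [hm', ZMod.natCast_zmod_val]
      rfl
    have h4 : IsConj (g1 : G) (h2 : G) := (D.τ_conj g1 h2).1 (by rw [h3, hm])
    obtain ⟨k, hk⟩ := isConj_iff.1 h4
    have hw : c * D.ζ ^ m' * c'⁻¹ ∈ center G := mul_mem (mul_mem hc hz) (inv_mem hc')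
    refine ⟨k, c * D.ζ ^ m' * c'⁻¹, hw, ?_⟩
    have e3 : k * (c * (g1 : G)) * k⁻¹ = c * (k * g1 * k⁻¹) := by
      rw [← mul_assoc k c, Subgroup.mem_center_iff.1 hc k]
      group
    rw [eg, e3, hk, Subgroup.mem_center_iff.1 hw h]
    show c * (D.ζ ^ m' * (h1 : G)) = _
    rw [hh1]
    group
  · rintro ⟨k, z, hz, hk⟩
    have hw : c' * c⁻¹ * z ∈ center G := mul_mem (mul_mem hc' (inv_mem hc)) hz
    have e1 : k * (g1 : G) * k⁻¹ = h1 * (c' * c⁻¹ * z) := by
      have e3 : k * (c⁻¹ * g) * k⁻¹ = c⁻¹ * (k * g * k⁻¹) := by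
        rw [← mul_assoc k c⁻¹, Subgroup.mem_center_iff.1 (inv_mem hc) k]
        group
      have hcomm : h * c⁻¹ = c⁻¹ * h := Subgroup.mem_center_iff.1 (inv_mem hc) h
      rw [hg1, e3, hk, hh1]
      have e4 : c'⁻¹ * h * (c' * c⁻¹ * z) = c'⁻¹ * (h * c') * c⁻¹ * z := by group
      rw [e4, Subgroup.mem_center_iff.1 hc' h, ← mul_assoc c⁻¹ h z, ← hcomm]
      group
    have e2 : (c' * c⁻¹ * z) ^ r = 1 := by
      have e5 : (k * (g1 : G) * k⁻¹) ^ r = 1 := by rw [conj_pow, g1.2.1]; group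
      rw [e1, mul_pow_of_mem_center _ _ hw, h1.2.1, one_mul] at e5
      exact e5
    obtain ⟨m, hm⟩ := D.hroot _ hw e2
    let h2 : S1 G r := ⟨D.ζ ^ m * h1, mul_mem_S1 D m h1⟩
    have h4 : IsConj (g1 : G) (h2 : G) := by
      refine isConj_iff.2 ⟨k, ?_⟩
      rw [e1, Subgroup.mem_center_iff.1 hw, hm]
    refine ⟨Multiplicative.ofAdd (m : ZMod r), ?_⟩
    rw [← D.τ_rot m h1 h2 rfl]
    exact ((D.τ_conj g1 h2).2 h4).symm


theorem specB_specB (D : Data G r T ε) {g h : G}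
    {y y' : MulAction.orbitRel.Quotient (Multiplicative (ZMod r)) T ⊕ BT G r ε}
    (hy : SpecB T g y) (hy' : SpecB T h y') : y = y' ↔ CRel g h := by
  obtain ⟨hgr, hε, hne, rfl⟩ := hy
  obtain ⟨hhr, hε', hne', rfl⟩ := hy'
  rw [Sum.inr.injEq, Subtype.mk.injEq, QuotientGroup.eq]
  constructor
  · intro hmem
    obtain ⟨c, hc⟩ := MonoidHom.mem_range.1 hmem
    have hc' : (c : G) ^ r = (g ^ r)⁻¹ * h ^ r := by
      have := congrArg Subtype.val hc
      simpa using this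
    have e1 : (g * c) ^ r = h ^ r := by
      rw [mul_pow_of_mem_center _ _ c.2, hc', mul_inv_cancel_left]
    have hnotA : ¬ ∃ c0 ∈ center G, (g * c) ^ r = c0 ^ r := by
      rw [e1]
      intro hA
      exact hne' ((mk_eq_one_iff h hhr).2 hA)
    have hconj := D.hB1 (g * c) h e1 (e1 ▸ hhr) hnotA
    obtain ⟨k, hk⟩ := isConj_iff.1 hconj
    refine ⟨k, (c : G)⁻¹, inv_mem c.2, ?_⟩
    rw [← hk]
    have e2 : k * (g * c) * k⁻¹ = k * g * k⁻¹ * c := by
      have e3 := conj_eq_of_mem_center k c c.2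
      calc k * (g * c) * k⁻¹ = k * g * k⁻¹ * (k * c * k⁻¹) := by group
        _ = _ := by rw [e3]
    rw [e2, mul_inv_cancel_right]
  · intro hgh
    obtain ⟨z, hz, e⟩ := hgh.pow_eq r hgr
    refine MonoidHom.mem_range.2 ⟨⟨z⁻¹, inv_mem hz⟩, ?_⟩
    apply Subtype.ext
    show (z⁻¹) ^ r = (g ^ r)⁻¹ * h ^ r
    rw [e, mul_inv_rev, inv_mul_cancel_right, inv_pow]

theorem specA_specB (D : Data G r T ε) {g h : G}
    {y y' : MulAction.orbitRel.Quotient (Multiplicative (ZMod r)) T ⊕ BT G r ε}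
    (hy : SpecA D g y) (hy' : SpecB T h y') : ¬ CRel g h := by
  intro hgh
  obtain ⟨c, hc, e⟩ := hy.pow_eq
  obtain ⟨hhr, hε', hne', -⟩ := hy'
  obtain ⟨z, hz, e2⟩ := hgh.symm.pow_eq r hhr
  apply hne'
  rw [mk_eq_one_iff]
  refine ⟨c * z, mul_mem hc hz, ?_⟩
  rw [e2, e, mul_pow_of_mem_center _ _ hz]

/-- Specification of the invariant. -/
def Spec (D : Data G r T ε) (g : G)
    (y : MulAction.orbitRel.Quotient (Multiplicative (ZMod r)) T ⊕ BT G r ε) : Prop :=
  SpecA D g y ∨ SpecB T g y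

theorem spec_iff [Fact r.Prime] (D : Data G r T ε) {g h : G}
    {y y' : MulAction.orbitRel.Quotient (Multiplicative (ZMod r)) T ⊕ BT G r ε}
    (hy : Spec D g y) (hy' : Spec D h y') : y = y' ↔ CRel g h := by
  rcases hy with hy | hy <;> rcases hy' with hy' | hy'
  · exact specA_specA D hy hy'
  · constructor
    · intro e
      obtain ⟨c, hc, g1, hg1, rfl⟩ := hy
      obtain ⟨hhr, hε', hne', e'⟩ := hy'
      rw [e'] at e
      exact absurd e (by simp)
    · intro e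
      exact absurd e (specA_specB D hy hy')
  · constructor
    · intro e
      obtain ⟨c, hc, g1, hg1, rfl⟩ := hy'
      obtain ⟨hhr, hε', hne', e'⟩ := hy
      rw [e'] at e
      exact absurd e (by simp)
    · intro e
      exact absurd e.symm (specA_specB D hy' hy)
  · exact specB_specB D hy hy'

theorem exists_spec (D : Data G r T ε) (g : G) (hg : g ∉ center G) (hgr : g ^ r ∈ center G) :
    ∃ y, Spec D g y := by
  by_cases hA : ∃ c ∈ center G, g ^ r = c ^ r
  · obtain ⟨c, hc, e⟩ := hA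
    have h1 : (c⁻¹ * g) ^ r = 1 := by
      rw [← Subgroup.mem_center_iff.1 (inv_mem hc), mul_pow_of_mem_center _ _ (inv_mem hc), e,
        inv_pow, mul_inv_cancel]
    have h2 : c⁻¹ * g ∉ center G := by
      intro hmem
      apply hg
      have := mul_mem hc hmem
      simpa using this
    exact ⟨_, Or.inl ⟨c, hc, ⟨c⁻¹ * g, h1, h2⟩, rfl, rfl⟩⟩
  · have hε : ε := by
      by_contra hε
      exact hA (D.hB3 hε g hgr)
    have hne : (QuotientGroup.mk ⟨g ^ r, hgr⟩ : center G ⧸ RZ G r) ≠ 1 := by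
      intro h1
      exact hA ((mk_eq_one_iff g hgr).1 h1)
    exact ⟨_, Or.inr ⟨hgr, hε, hne, rfl⟩⟩

theorem exists_of_spec (D : Data G r T ε)
    (y : MulAction.orbitRel.Quotient (Multiplicative (ZMod r)) T ⊕ BT G r ε) :
    ∃ g : G, g ∉ center G ∧ g ^ r ∈ center G ∧ Spec D g y := by
  rcases y with q | ⟨b, hb, hε⟩
  · induction q using Quotient.inductionOn' with
    | h a =>
      obtain ⟨g1, rfl⟩ := D.τ_surj a
      refine ⟨g1, g1.2.2, ?_, Or.inl ⟨1, one_mem _, g1, by simp, rfl⟩⟩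
      rw [g1.2.1]
      exact one_mem _
  · obtain ⟨z, rfl⟩ := QuotientGroup.mk_surjective b
    obtain ⟨g, hg⟩ := D.hB2 hε z z.2
    have hgr : g ^ r ∈ center G := by rw [hg]; exact z.2
    have e1 : (⟨g ^ r, hgr⟩ : center G) = z := Subtype.ext hg
    have hne : (QuotientGroup.mk ⟨g ^ r, hgr⟩ : center G ⧸ RZ G r) ≠ 1 := by rw [e1]; exact hb
    have hgZ : g ∉ center G := by
      intro hmem
      apply hne
      rw [mk_eq_one_iff]
      exact ⟨g, hmem, rfl⟩
    refine ⟨g, hgZ, hgr, Or.inr ⟨hgr, hε, hne, ?_⟩⟩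
    congr 1
    apply Subtype.ext
    show (QuotientGroup.mk z : center G ⧸ RZ G r) = QuotientGroup.mk ⟨g ^ r, hgr⟩
    rw [e1]


theorem card_BT [Finite G] [Decidable ε] (hidx : Nat.card (center G ⧸ RZ G r) = r) :
    Nat.card (BT G r ε) = if ε then r - 1 else 0 := by
  classical
  split_ifs with hε
  · have e1 : BT G r ε ≃ {b : center G ⧸ RZ G r // b ≠ 1} :=
      Equiv.subtypeEquivRight (fun b => by simp [hε])
    have e2 := Nat.card_congr (Equiv.optionSubtypeNe (1 : center G ⧸ RZ G r))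
    rw [Finite.card_option, hidx] at e2
    rw [Nat.card_congr e1]
    omega
  · have : IsEmpty (BT G r ε) := ⟨fun b => hε b.2.2⟩
    exact Nat.card_of_isEmpty

theorem card_classes_main [Finite G] [hr : Fact r.Prime] [Decidable ε] (D : Data G r T ε)
    (hidx : Nat.card (center G ⧸ RZ G r) = r) :
    Nat.card {C : ConjClasses (G ⧸ center G) // ∃ x, ConjClasses.mk x = C ∧ orderOf x = r} =
      Nat.card (MulAction.orbitRel.Quotient (Multiplicative (ZMod r)) T) +
        (if ε then r - 1 else 0) := by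
  classical
  have hspec : ∀ x : {x : G ⧸ center G // orderOf x = r}, ∃ y, Spec D (x.1.out) y := by
    intro x
    have h1 : orderOf (QuotientGroup.mk x.1.out : G ⧸ center G) = r := by
      rw [QuotientGroup.out_eq']; exact x.2
    rw [orderOf_mk_eq_iff] at h1
    exact exists_spec D _ h1.1 h1.2
  choose inv hinv using hspec
  have hT : Finite T := Finite.of_surjective D.τ D.τ_surj
  have hcard := card_classes_of_invariant (fun x : G ⧸ center G => orderOf x = r) inv ?_ ?_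
  · rw [hcard, Nat.card_sum, card_BT hidx]
  · intro y
    obtain ⟨g, hg1, hg2, hs⟩ := exists_of_spec D y
    have hx : orderOf (QuotientGroup.mk g : G ⧸ center G) = r :=
      (orderOf_mk_eq_iff r g).2 ⟨hg1, hg2⟩
    refine ⟨⟨QuotientGroup.mk g, hx⟩, ?_⟩
    apply (spec_iff D (hinv _) hs).2
    apply (isConj_mk_iff _ _).1
    rw [QuotientGroup.out_eq']
  · intro x y
    rw [spec_iff D (hinv x) (hinv y), CRel, ← isConj_mk_iff, QuotientGroup.out_eq',
      QuotientGroup.out_eq']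

end Cfsg.Agent.Helper7.PCls
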