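import Mathlib

set_option autoImplicit false

/-! Orbit counting for actions of the cyclic group of prime order; rotation of tuples. -/

namespace Cfsg.Agent.Helper7.PCls

open MulAction

theorem fixedBy_eq_fixedPoints (r : ℕ) [hr : Fact r.Prime] (T : Type*)
    [MulAction (Multiplicative (ZMod r)) T] (g : Multiplicative (ZMod r)) (hg : g ≠ 1) :
    fixedBy T g = fixedPoints (Multiplicative (ZMod r)) T := by
  have hcard : Nat.card (Multiplicative (ZMod r)) = r := by
    rw [Nat.card_eq_fintype_card, Fintype.card_multiplicative, ZMod.card]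
  ext t
  constructor
  · intro ht m
    have h1 : g ∈ stabilizer (Multiplicative (ZMod r)) t := ht
    have h2 : Subgroup.zpowers g ≤ stabilizer (Multiplicative (ZMod r)) t :=
      (Subgroup.zpowers_le).2 h1
    rw [zpowers_eq_top_of_prime_card hcard hg] at h2
    exact h2 (Subgroup.mem_top m)
  · intro ht
    exact ht g

theorem card_orbits_prime (r : ℕ) [hr : Fact r.Prime] (T : Type*) [Finite T]
    [MulAction (Multiplicative (ZMod r)) T] :
    Nat.card (orbitRel.Quotient (Multiplicative (ZMod r)) T) =
      (Nat.card T - Nat.card (fixedPoints (Multiplicative (ZMod r)) T)) / r +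
        Nat.card (fixedPoints (Multiplicative (ZMod r)) T) := by
  classical
  have : Fintype T := Fintype.ofFinite T
  have : Fintype (orbitRel.Quotient (Multiplicative (ZMod r)) T) := Fintype.ofFinite _
  have hB := sum_card_fixedBy_eq_card_orbits_mul_card_group (Multiplicative (ZMod r)) T
  have hr0 : 0 < r := hr.out.pos
  set F := Nat.card (fixedPoints (Multiplicative (ZMod r)) T) with hF
  have h1 : ∀ g ∈ (Finset.univ : Finset (Multiplicative (ZMod r))).erase 1,
      Fintype.card (fixedBy T g) = F := by
    intro g hg
    rw [hF, ← Nat.card_eq_fintype_card]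
    have := fixedBy_eq_fixedPoints r T g (Finset.ne_of_mem_erase hg)
    rw [this]
  have h2 : Fintype.card (fixedBy T (1 : Multiplicative (ZMod r))) = Nat.card T := by
    rw [← Nat.card_eq_fintype_card]
    have : fixedBy T (1 : Multiplicative (ZMod r)) = Set.univ := by
      ext t; simp
    rw [this, Nat.card_coe_set_eq, Set.ncard_univ]
  rw [← Finset.add_sum_erase _ _ (Finset.mem_univ (1 : Multiplicative (ZMod r))), h2,
    Finset.sum_congr rfl h1, Finset.sum_const, Finset.card_erase_of_mem (Finset.mem_univ _),
    Finset.card_univ, Fintype.card_multiplicative, ZMod.card, smul_eq_mul,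
    ← Nat.card_eq_fintype_card] at hB
  have hle : F ≤ Nat.card T := by
    rw [hF]
    exact Nat.card_le_card_of_injective _ Subtype.val_injective
  have h3 : Nat.card T - F + r * F = Nat.card (orbitRel.Quotient (Multiplicative (ZMod r)) T) * r := by
    rw [← hB]
    have : (r - 1) * F + F = r * F := by
      have : r = (r - 1) + 1 := by omega
      conv_rhs => rw [this, add_mul, one_mul]
    omega
  have h4 : (Nat.card T - F + r * F) / r = (Nat.card T - F) / r + F :=
    Nat.add_mul_div_left _ _ hr0
  rw [← h4, h3, Nat.mul_div_cancel _ hr0]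


/-- Tuples of multiplicities indexed by `ZMod r`, with sum `n` and every entry `< n`. -/
def Tup (r n : ℕ) [NeZero r] := {a : ZMod r → ℕ // ∑ j, a j = n ∧ ∀ j, a j < n}

variable {r n : ℕ} [hr : Fact r.Prime]

instance : MulAction (Multiplicative (ZMod r)) (Tup r n) where
  smul m a := ⟨fun j => a.1 (j - Multiplicative.toAdd m),
    (Fintype.sum_equiv (Equiv.subRight (Multiplicative.toAdd m)) _ _ (fun j => rfl)).trans a.2.1,
    fun j => a.2.2 _⟩
  one_smul a := by
    apply Subtype.ext
    funext j
    show a.1 (j - 0) = a.1 j
    rw [sub_zero]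
  mul_smul m m' a := by
    apply Subtype.ext
    funext j
    show a.1 (j - (Multiplicative.toAdd m + Multiplicative.toAdd m')) =
      a.1 (j - Multiplicative.toAdd m - Multiplicative.toAdd m')
    rw [sub_sub]

theorem Tup.smul_apply (m : Multiplicative (ZMod r)) (a : Tup r n) (j : ZMod r) :
    (m • a).1 j = a.1 (j - Multiplicative.toAdd m) := rfl

instance : Finite (Tup r n) := by
  have : Function.Injective (fun a : Tup r n => fun j => (⟨a.1 j, by
      have := a.2.2 j; omega⟩ : Fin (n + 1))) := by
    intro a b h
    apply Subtype.ext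
    funext j
    have := congrFun h j
    simpa using congrArg Fin.val this
  exact Finite.of_injective _ this

theorem card_tup (hn : 1 ≤ n) : Nat.card (Tup r n) = (n + r - 1).choose (r - 1) - r := by
  classical
  have hr0 : 0 < r := hr.out.pos
  set s := Finset.piAntidiag (Finset.univ : Finset (ZMod r)) n with hs
  have hcard : s.card = (n + r - 1).choose (r - 1) := by
    rw [hs, ← Finset.map_sym_eq_piAntidiag, Finset.card_map, Finset.sym_univ, Finset.card_univ,
      Sym.card_sym_eq_multichoose, ZMod.card, Nat.multichoose_eq]
    have h1 : r + n - 1 = n + r - 1 := by omega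
    rw [h1]
    apply Nat.choose_symm_of_eq_add
    omega
  have h1 : Nat.card (Tup r n) = (s.filter (fun a => ∀ j, a j < n)).card := by
    rw [Tup, Nat.subtype_card (s.filter (fun a => ∀ j, a j < n))]
    intro a
    rw [Finset.mem_filter, hs, Finset.mem_piAntidiag]
    simp
  have h2 : s.filter (fun a => ¬ ∀ j, a j < n) =
      (Finset.univ : Finset (ZMod r)).image (fun j => Pi.single j n) := by
    ext a
    rw [Finset.mem_filter, hs, Finset.mem_piAntidiag, Finset.mem_image]
    constructor
    · rintro ⟨⟨hsum, -⟩, hnot⟩
      push Not at hnot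
      obtain ⟨j, hj⟩ := hnot
      refine ⟨j, Finset.mem_univ _, ?_⟩
      have hsum' : ∑ x, a x = n := hsum
      have h3 := Finset.add_sum_erase Finset.univ a (Finset.mem_univ j)
      have h4 : ∑ x ∈ Finset.univ.erase j, a x = 0 := by omega
      rw [Finset.sum_eq_zero_iff] at h4
      funext i
      by_cases hij : i = j
      · subst hij
        rw [Pi.single_eq_same]
        omega
      · rw [Pi.single_eq_of_ne hij]
        exact (h4 i (Finset.mem_erase.2 ⟨hij, Finset.mem_univ _⟩)).symm
    · rintro ⟨j, -, rfl⟩
      refine ⟨⟨?_, by simp⟩, ?_⟩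
      · rw [Finset.sum_pi_single']
        simp
      · push Not
        exact ⟨j, by rw [Pi.single_eq_same]⟩
  have h3 : (s.filter (fun a => ¬ ∀ j, a j < n)).card = r := by
    rw [h2, Finset.card_image_of_injective, Finset.card_univ, ZMod.card]
    intro i j hij
    by_contra hne
    have := congrFun hij i
    simp only [Pi.single_eq_same, Pi.single_eq_of_ne hne] at this
    omega
  have h4 := Finset.card_filter_add_card_filter_not (s := s) (fun a => ∀ j, a j < n)
  rw [h1, ← hcard]
  omega


theorem card_fixedPoints_tup (hn : 1 ≤ n) :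
    Nat.card (fixedPoints (Multiplicative (ZMod r)) (Tup r n)) = if r ∣ n then 1 else 0 := by
  classical
  have hr2 : 2 ≤ r := hr.out.two_le
  have hconst : ∀ a : Tup r n, a ∈ fixedPoints (Multiplicative (ZMod r)) (Tup r n) →
      ∀ j, a.1 j = a.1 0 := by
    intro a ha j
    have h1 := congrArg (fun b : Tup r n => b.1 j) (ha (Multiplicative.ofAdd j))
    simp only [Tup.smul_apply, toAdd_ofAdd, sub_self] at h1
    exact h1.symm
  have hsum : ∀ a : Tup r n, a ∈ fixedPoints (Multiplicative (ZMod r)) (Tup r n) →
      r * a.1 0 = n := by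
    intro a ha
    have h1 := a.2.1
    rw [Finset.sum_congr rfl (fun j _ => hconst a ha j), Finset.sum_const, Finset.card_univ,
      ZMod.card, smul_eq_mul] at h1
    exact h1
  split_ifs with hdvd
  · obtain ⟨c, rfl⟩ := hdvd
    have hc : 0 < c := by
      rcases Nat.eq_zero_or_pos c with h | h
      · subst h; omega
      · exact h
    let a0 : Tup r (r * c) := ⟨fun _ => c, by
      rw [Finset.sum_const, Finset.card_univ, ZMod.card, smul_eq_mul], fun _ => by nlinarith⟩
    have : fixedPoints (Multiplicative (ZMod r)) (Tup r (r * c)) = {a0} := by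
      ext a
      rw [Set.mem_singleton_iff]
      constructor
      · intro ha
        apply Subtype.ext
        funext j
        show a.1 j = c
        rw [hconst a ha j]
        have := hsum a ha
        exact Nat.eq_of_mul_eq_mul_left (by omega) this
      · rintro rfl m
        apply Subtype.ext
        funext j
        rfl
    rw [this, Nat.card_coe_set_eq, Set.ncard_singleton]
  · have : fixedPoints (Multiplicative (ZMod r)) (Tup r n) = ∅ := by
      ext a
      simp only [Set.mem_empty_iff_false, iff_false]
      intro ha
      exact hdvd ⟨_, (hsum a ha).symm⟩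
    rw [this, Nat.card_coe_set_eq, Set.ncard_empty]

theorem card_orbits_tup (hn : 1 ≤ n) :
    Nat.card (orbitRel.Quotient (Multiplicative (ZMod r)) (Tup r n)) =
      ((n + r - 1).choose (r - 1) - r - (if r ∣ n then 1 else 0)) / r +
        (if r ∣ n then 1 else 0) := by
  rw [card_orbits_prime, card_fixedPoints_tup hn, card_tup hn]

end Cfsg.Agent.Helper7.PCls
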