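import Mathlib
import Cfsg.Agent.Helper12.PrimeOrderClassA
import Cfsg.Agent.Helper7.PCls3

set_option autoImplicit false
set_option linter.unusedSectionVars false
set_option linter.deprecated false
set_option linter.style.haveILetI false

/-! Matrices of prime order `r` over a field containing the `r`-th roots of unity:
diagonalisation and the multiplicity invariant. -/

namespace Cfsg.Agent.Helper7.PCls

open Polynomial Matrix

variable {F : Type*} [Field F] {n r : ℕ} [hr : Fact r.Prime] {ω : F}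

theorem aeval_X_pow_sub_one (M : Matrix (Fin n) (Fin n) F) (hM : M ^ r = 1) :
    aeval M (X ^ r - C (1 : F) : F[X]) = 0 := by
  rw [map_sub, map_pow, aeval_X, aeval_C, hM, map_one, sub_self]

theorem splits_charpoly (hω : IsPrimitiveRoot ω r) (M : Matrix (Fin n) (Fin n) F)
    (hM : M ^ r = 1) : M.charpoly.Splits := by
  have hsp : (X ^ r - C (1 : F) : F[X]).Splits := X_pow_sub_one_splits hω
  have hne : (X ^ r - C (1 : F) : F[X]) ≠ 0 := (monic_X_pow_sub_C (1 : F) hr.out.ne_zero).ne_zero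
  rw [splits_iff_splits]
  right
  intro g hg hgd
  have h1 : g ∣ (X ^ r - C (1 : F) : F[X]) :=
    Cfsg.Agent.Helper12.POC.dvd_of_irreducible_dvd_charpoly M _ (aeval_X_pow_sub_one M hM) g hg hgd
  exact (hsp.of_dvd hne h1).degree_eq_one_of_irreducible hg

theorem root_pow_eq_one (M : Matrix (Fin n) (Fin n) F) (hM : M ^ r = 1) {x : F}
    (hx : x ∈ M.charpoly.roots) : x ^ r = 1 := by
  have h0 : (X - C x : F[X]) ∣ M.charpoly := dvd_iff_isRoot.2 (isRoot_of_mem_roots hx)
  have h1 : (X - C x : F[X]) ∣ (X ^ r - C (1 : F) : F[X]) :=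
    Cfsg.Agent.Helper12.POC.dvd_of_irreducible_dvd_charpoly M _ (aeval_X_pow_sub_one M hM) _
      (irreducible_X_sub_C x) h0
  have h2 := dvd_iff_isRoot.1 h1
  rw [IsRoot.def, eval_sub, eval_pow, eval_X, eval_C, sub_eq_zero] at h2
  exact h2

theorem root_eq_pow (hω : IsPrimitiveRoot ω r) (M : Matrix (Fin n) (Fin n) F) (hM : M ^ r = 1)
    {x : F} (hx : x ∈ M.charpoly.roots) : ∃ j : ZMod r, x = ω ^ j.val := by
  obtain ⟨i, hi, hix⟩ := hω.eq_pow_of_pow_eq_one (root_pow_eq_one M hM hx)
  refine ⟨(i : ZMod r), ?_⟩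
  rw [ZMod.val_natCast_of_lt hi, hix]

/-- The diagonal matrix with entries `ω ^ d i`. -/
noncomputable def Dm (ω : F) (d : Fin n → ZMod r) : Matrix (Fin n) (Fin n) F :=
  Matrix.diagonal (fun i => ω ^ (d i).val)

theorem Dm_pow (hω1 : ω ^ r = 1) (d : Fin n → ZMod r) : (Dm ω d) ^ r = 1 := by
  rw [Dm, Matrix.diagonal_pow, ← Matrix.diagonal_one]
  congr 1
  funext i
  show (ω ^ (d i).val) ^ r = 1
  rw [← pow_mul, mul_comm, pow_mul, hω1, one_pow]

theorem Dm_charpoly (d : Fin n → ZMod r) :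
    (Dm ω d).charpoly = ∏ i, (X - C (ω ^ (d i).val)) := by
  rw [Dm, Matrix.charpoly_diagonal]

theorem Dm_roots (d : Fin n → ZMod r) :
    (Dm ω d).charpoly.roots = (Finset.univ : Finset (Fin n)).val.map (fun i => ω ^ (d i).val) := by
  rw [Dm_charpoly, Finset.prod_eq_multiset_prod]
  have := Polynomial.roots_multiset_prod_X_sub_C
    ((Finset.univ : Finset (Fin n)).val.map (fun i => ω ^ (d i).val))
  rw [Multiset.map_map] at this
  exact this

theorem exists_charpoly_eq (hω : IsPrimitiveRoot ω r) (M : Matrix (Fin n) (Fin n) F)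
    (hM : M ^ r = 1) : ∃ d : Fin n → ZMod r, M.charpoly = (Dm ω d).charpoly := by
  classical
  have hsp := splits_charpoly hω M hM
  set s := M.charpoly.roots with hs
  have hcard : Fintype.card s = n := by
    rw [Multiset.card_coe, hs, ← hsp.natDegree_eq_card_roots, Matrix.charpoly_natDegree_eq_dim,
      Fintype.card_fin]
  have e : Fin n ≃ s := (Fintype.equivFinOfCardEq hcard).symm
  have hj : ∀ x : s, ∃ j : ZMod r, (x : F) = ω ^ j.val := fun x =>
    root_eq_pow hω M hM (Multiset.coe_mem)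
  choose j hj using hj
  refine ⟨fun i => j (e i), ?_⟩
  rw [Dm_charpoly]
  conv_lhs => rw [hsp.eq_prod_roots_of_monic (Matrix.charpoly_monic M)]
  rw [← hs, ← Multiset.map_univ s (fun a => X - C a), ← Finset.prod_eq_multiset_prod]
  rw [← Equiv.prod_comp e]
  apply Finset.prod_congr rfl
  intro i _
  rw [hj (e i)]


theorem neZero_of_primitive (hω : IsPrimitiveRoot ω r) : (r : F) ≠ 0 := by
  haveI : NeZero r := ⟨hr.out.ne_zero⟩
  exact (hω.neZero').out

theorem isSemisimple_of_pow (hω : IsPrimitiveRoot ω r) (M : Matrix (Fin n) (Fin n) F)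
    (hM : M ^ r = 1) : Module.End.IsSemisimple (Matrix.toLin' M) :=
  Cfsg.Agent.Helper12.isSemisimple_of_pow_eq_one M r (neZero_of_primitive hω) hM

/-- Fundamental lemma: a matrix with `M ^ r = 1` is conjugate to some `Dm ω d`. -/
theorem exists_conj_Dm (hω : IsPrimitiveRoot ω r) (M : Matrix (Fin n) (Fin n) F)
    (hM : M ^ r = 1) : ∃ d : Fin n → ZMod r, ∃ P : GL (Fin n) F,
      (P : Matrix (Fin n) (Fin n) F) * M = Dm ω d * (P : Matrix (Fin n) (Fin n) F) := by
  obtain ⟨d, hd⟩ := exists_charpoly_eq hω M hM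
  obtain ⟨P, hP⟩ := Cfsg.Agent.Helper12.exists_gl_conj_of_semisimple M (Dm ω d)
    (isSemisimple_of_pow hω M hM) (isSemisimple_of_pow hω _ (Dm_pow hω.pow_eq_one d)) hd
  exact ⟨d, P, hP⟩

/-- The multiplicity of `ω ^ j` as a root of the characteristic polynomial. -/
noncomputable def mult (ω : F) (M : Matrix (Fin n) (Fin n) F) (j : ZMod r) : ℕ := by
  classical exact M.charpoly.roots.count (ω ^ j.val)

theorem charpoly_eq_of_conj (P : GL (Fin n) F) (M N : Matrix (Fin n) (Fin n) F)
    (h : (P : Matrix (Fin n) (Fin n) F) * M = N * (P : Matrix (Fin n) (Fin n) F)) :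
    M.charpoly = N.charpoly := by
  have h1 : N = (P : Matrix (Fin n) (Fin n) F) * M * ((P⁻¹ : GL (Fin n) F) : Matrix (Fin n) (Fin n) F) := by
    rw [h, mul_assoc, ← Units.val_mul, mul_inv_cancel, Units.val_one, mul_one]
  rw [h1, Matrix.coe_units_inv, Matrix.charpoly_units_conj]

theorem mult_eq_of_conj (P : GL (Fin n) F) (M N : Matrix (Fin n) (Fin n) F)
    (h : (P : Matrix (Fin n) (Fin n) F) * M = N * (P : Matrix (Fin n) (Fin n) F)) :
    mult (r := r) ω M = mult ω N := by
  funext j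
  rw [mult, mult, charpoly_eq_of_conj P M N h]

theorem pow_val_injective (hω : IsPrimitiveRoot ω r) {i j : ZMod r}
    (h : ω ^ i.val = ω ^ j.val) : i = j := by
  haveI : NeZero r := ⟨hr.out.ne_zero⟩
  exact ZMod.val_injective r (hω.pow_inj (ZMod.val_lt i) (ZMod.val_lt j) h)

theorem mult_Dm (hω : IsPrimitiveRoot ω r) (d : Fin n → ZMod r) (j : ZMod r) :
    mult ω (Dm ω d) j = (Finset.univ.filter (fun i => d i = j)).card := by
  classical
  rw [mult, Dm_roots, Multiset.count_map]
  show ((Finset.univ.filter (fun i => ω ^ j.val = ω ^ (d i).val)).val).card = _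
  congr 2
  ext i
  simp only [Finset.mem_filter, Finset.mem_univ, true_and]
  constructor
  · intro h; exact (pow_val_injective hω h).symm
  · intro h; rw [h]

/-- Completeness of the multiplicity invariant. -/
theorem exists_conj_of_mult_eq (hω : IsPrimitiveRoot ω r) (M N : Matrix (Fin n) (Fin n) F)
    (hM : M ^ r = 1) (hN : N ^ r = 1) (h : mult (r := r) ω M = mult ω N) :
    ∃ P : GL (Fin n) F,
      (P : Matrix (Fin n) (Fin n) F) * M = N * (P : Matrix (Fin n) (Fin n) F) := by
  classical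
  apply Cfsg.Agent.Helper12.exists_gl_conj_of_semisimple M N
    (isSemisimple_of_pow hω M hM) (isSemisimple_of_pow hω N hN)
  rw [(splits_charpoly hω M hM).eq_prod_roots_of_monic (Matrix.charpoly_monic M),
    (splits_charpoly hω N hN).eq_prod_roots_of_monic (Matrix.charpoly_monic N)]
  congr 2
  ext x
  by_cases hx : ∃ j : ZMod r, x = ω ^ j.val
  · obtain ⟨j, rfl⟩ := hx
    have := congrFun h j
    rw [mult, mult] at this
    convert this
  · rw [Multiset.count_eq_zero_of_notMem, Multiset.count_eq_zero_of_notMem]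
    · intro hmem; exact hx (root_eq_pow hω N hN hmem)
    · intro hmem; exact hx (root_eq_pow hω M hM hmem)


theorem sum_mult (hω : IsPrimitiveRoot ω r) (M : Matrix (Fin n) (Fin n) F) (hM : M ^ r = 1) :
    ∑ j, mult (r := r) ω M j = n := by
  classical
  obtain ⟨d, P, hP⟩ := exists_conj_Dm hω M hM
  rw [mult_eq_of_conj P M _ hP]
  simp_rw [mult_Dm hω d]
  have := Finset.card_eq_sum_card_fiberwise (f := d) (s := Finset.univ) (t := Finset.univ)
    (fun _ _ => Finset.mem_univ _)
  rw [← this, Finset.card_univ, Fintype.card_fin]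

theorem eq_scalar_of_mult_eq (hω : IsPrimitiveRoot ω r) (M : Matrix (Fin n) (Fin n) F)
    (hM : M ^ r = 1) (j : ZMod r) (h : mult ω M j = n) : M = Matrix.scalar (Fin n) (ω ^ j.val) := by
  classical
  obtain ⟨d, P, hP⟩ := exists_conj_Dm hω M hM
  rw [mult_eq_of_conj P M _ hP, mult_Dm hω d] at h
  have h1 : ∀ i, d i = j := by
    intro i
    have h2 : (Finset.univ.filter (fun i => d i = j)).card = (Finset.univ : Finset (Fin n)).card := by
      rw [h, Finset.card_univ, Fintype.card_fin]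
    have h3 := (Finset.card_filter_eq_iff.1 h2) i (Finset.mem_univ i)
    exact h3
  have h2 : Dm ω d = Matrix.scalar (Fin n) (ω ^ j.val) := by
    rw [Dm]
    ext a b
    by_cases hab : a = b
    · subst hab
      simp [h1 a]
    · simp [hab]
  rw [h2] at hP
  have h3 : (P : Matrix (Fin n) (Fin n) F) * M =
      (P : Matrix (Fin n) (Fin n) F) * Matrix.scalar (Fin n) (ω ^ j.val) := by
    rw [hP]
    exact Matrix.scalar_comm _ (fun r' => Commute.all _ r') _
  have h4 := congrArg (fun X => ((P⁻¹ : GL (Fin n) F) : Matrix (Fin n) (Fin n) F) * X) h3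
  simp only [← mul_assoc, ← Units.val_mul, inv_mul_cancel, Units.val_one, one_mul] at h4
  exact h4

theorem pow_val_add (hω1 : ω ^ r = 1) (a b : ZMod r) :
    ω ^ (a + b).val = ω ^ a.val * ω ^ b.val := by
  haveI : NeZero r := ⟨hr.out.ne_zero⟩
  rw [ZMod.val_add, ← pow_add, ← pow_eq_pow_mod _ hω1]

theorem pow_val_natCast (hω1 : ω ^ r = 1) (m : ℕ) : ω ^ ((m : ZMod r)).val = ω ^ m := by
  rw [ZMod.val_natCast, ← pow_eq_pow_mod _ hω1]

theorem smul_Dm (hω1 : ω ^ r = 1) (d : Fin n → ZMod r) (m : ℕ) :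
    (ω ^ m) • Dm ω d = Dm ω (fun i => d i + (m : ZMod r)) := by
  rw [Dm, Dm]
  ext a b
  by_cases hab : a = b
  · subst hab
    simp only [Matrix.smul_apply, Matrix.diagonal_apply_eq, smul_eq_mul]
    rw [pow_val_add hω1, pow_val_natCast hω1, mul_comm]
  · simp only [Matrix.smul_apply, Matrix.diagonal_apply_ne _ hab, smul_zero]

theorem mult_smul (hω : IsPrimitiveRoot ω r) (M : Matrix (Fin n) (Fin n) F) (hM : M ^ r = 1)
    (m : ℕ) (j : ZMod r) : mult ω ((ω ^ m) • M) j = mult ω M (j - (m : ZMod r)) := by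
  classical
  obtain ⟨d, P, hP⟩ := exists_conj_Dm hω M hM
  have hP' : (P : Matrix (Fin n) (Fin n) F) * ((ω ^ m) • M) =
      Dm ω (fun i => d i + (m : ZMod r)) * (P : Matrix (Fin n) (Fin n) F) := by
    rw [← smul_Dm hω.pow_eq_one, Matrix.mul_smul, hP, Matrix.smul_mul]
  rw [mult_eq_of_conj P _ _ hP', mult_eq_of_conj P M _ hP, mult_Dm hω, mult_Dm hω]
  apply congrArg Finset.card
  apply Finset.filter_congr
  intro i _
  exact eq_sub_iff_add_eq.symm


theorem exists_d_of_tuple (a : ZMod r → ℕ) (ha : ∑ j, a j = n) :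
    ∃ d : Fin n → ZMod r, ∀ j, (Finset.univ.filter (fun i => d i = j)).card = a j := by
  classical
  have hcard : Fintype.card ((j : ZMod r) × Fin (a j)) = n := by
    rw [Fintype.card_sigma]
    simp [ha]
  let e : Fin n ≃ (j : ZMod r) × Fin (a j) := (Fintype.equivFinOfCardEq hcard).symm
  refine ⟨fun i => (e i).1, fun j => ?_⟩
  rw [← Fintype.card_subtype]
  have e1 : {i : Fin n // (e i).1 = j} ≃ {x : (j : ZMod r) × Fin (a j) // x.1 = j} :=
    Equiv.subtypeEquiv e (fun i => Iff.rfl)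
  rw [Fintype.card_congr (e1.trans (Equiv.sigmaSubtype j)), Fintype.card_fin]

theorem Dm_eq_scalar_apply (d : Fin n → ZMod r) (c : F)
    (h : Dm ω d = Matrix.scalar (Fin n) c) (i : Fin n) : ω ^ (d i).val = c := by
  have := congrFun (congrFun h i) i
  simpa [Dm] using this

end Cfsg.Agent.Helper7.PCls
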