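import Mathlib
import Cfsg.Agent.Helper7.PCls2
import Cfsg.Agent.Helper7.PCls4

set_option autoImplicit false
set_option linter.unusedSectionVars false
set_option linter.style.haveILetI false

/-! The first-kind data (elements with a lift of order `r`) for `GL_n(F)`. -/

namespace Cfsg.Agent.Helper7.PCls

open Polynomial Matrix Subgroup

variable {F : Type*} [Field F] {n r : ℕ} [hr : Fact r.Prime] {ω : Fˣ}

/-- the central element `ω · 1`. -/
noncomputable def zetaGL (n : ℕ) (ω : Fˣ) : GL (Fin n) F := GeneralLinearGroup.scalar (Fin n) ω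

theorem zetaGL_mem_center : zetaGL n ω ∈ center (GL (Fin n) F) := by
  rw [GeneralLinearGroup.center_eq_range_scalar]
  exact ⟨ω, rfl⟩

theorem zetaGL_pow (m : ℕ) : zetaGL n ω ^ m = GeneralLinearGroup.scalar (Fin n) (ω ^ m) := by
  rw [zetaGL, map_pow]

theorem zetaGL_pow_mul_val (m : ℕ) (g : GL (Fin n) F) :
    ((zetaGL n ω ^ m * g : GL (Fin n) F) : Matrix (Fin n) (Fin n) F) =
      ((ω : F) ^ m) • (g : Matrix (Fin n) (Fin n) F) := by
  rw [zetaGL_pow, Units.val_mul, GeneralLinearGroup.coe_scalar, Matrix.scalar_apply,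
    ← Matrix.smul_eq_diagonal_mul, Units.val_pow_eq_pow_val]

theorem val_pow_eq_one {g : GL (Fin n) F} (hg : g ^ r = 1) :
    (g : Matrix (Fin n) (Fin n) F) ^ r = 1 := by
  rw [← Units.val_pow_eq_pow_val, hg, Units.val_one]

theorem not_scalar_of_not_mem_center {g : GL (Fin n) F} (hg : g ∉ center (GL (Fin n) F)) (c : F) :
    (g : Matrix (Fin n) (Fin n) F) ≠ Matrix.scalar (Fin n) c := by
  intro h
  apply hg
  rw [GeneralLinearGroup.mem_center_iff_val_mem_range_scalar]
  exact ⟨c, h.symm⟩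

theorem mult_lt (hω : IsPrimitiveRoot (ω : F) r) (g : S1 (GL (Fin n) F) r) (j : ZMod r) :
    mult (ω : F) (g.1 : Matrix (Fin n) (Fin n) F) j < n := by
  have hM := val_pow_eq_one g.2.1
  have hsum := sum_mult hω _ hM
  have hle : mult (ω : F) (g.1 : Matrix (Fin n) (Fin n) F) j ≤ n :=
    le_trans (Finset.single_le_sum (f := fun j => mult (ω : F) (g.1 : Matrix (Fin n) (Fin n) F) j)
      (fun _ _ => Nat.zero_le _) (Finset.mem_univ j)) (le_of_eq hsum)
  refine lt_of_le_of_ne hle (fun h => ?_)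
  exact not_scalar_of_not_mem_center g.2.2 _ (eq_scalar_of_mult_eq hω _ hM j h)

/-- the multiplicity tuple of a noncentral element of order `r`. -/
noncomputable def tauGL (hω : IsPrimitiveRoot (ω : F) r) (g : S1 (GL (Fin n) F) r) : Tup r n :=
  ⟨mult (ω : F) (g.1 : Matrix (Fin n) (Fin n) F), sum_mult hω _ (val_pow_eq_one g.2.1),
    mult_lt hω g⟩

theorem tauGL_conj (hω : IsPrimitiveRoot (ω : F) r) (g h : S1 (GL (Fin n) F) r) :
    tauGL hω g = tauGL hω h ↔ IsConj (g : GL (Fin n) F) (h : GL (Fin n) F) := by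
  constructor
  · intro e
    have e1 : mult (r := r) (ω : F) (g.1 : Matrix (Fin n) (Fin n) F) =
        mult (ω : F) (h.1 : Matrix (Fin n) (Fin n) F) := congrArg Subtype.val e
    obtain ⟨P, hP⟩ := exists_conj_of_mult_eq hω _ _ (val_pow_eq_one g.2.1)
      (val_pow_eq_one h.2.1) e1
    refine isConj_iff.2 ⟨P, ?_⟩
    rw [mul_inv_eq_iff_eq_mul]
    apply Units.ext
    rw [Units.val_mul, Units.val_mul]
    exact hP
  · intro hc
    obtain ⟨P, hP⟩ := isConj_iff.1 hc
    rw [mul_inv_eq_iff_eq_mul] at hP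
    have hP' := congrArg (fun x : GL (Fin n) F => (x : Matrix (Fin n) (Fin n) F)) hP
    simp only [Units.val_mul] at hP'
    apply Subtype.ext
    exact mult_eq_of_conj P _ _ hP'

theorem tauGL_rot (hω : IsPrimitiveRoot (ω : F) r) (m : ℕ) (g h : S1 (GL (Fin n) F) r)
    (e : (h : GL (Fin n) F) = zetaGL n ω ^ m * g) :
    tauGL hω h = Multiplicative.ofAdd (m : ZMod r) • tauGL hω g := by
  apply Subtype.ext
  funext j
  rw [Tup.smul_apply]
  show mult (ω : F) (h.1 : Matrix (Fin n) (Fin n) F) j =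
    mult (ω : F) (g.1 : Matrix (Fin n) (Fin n) F) (j - (m : ZMod r))
  rw [e, zetaGL_pow_mul_val, mult_smul hω _ (val_pow_eq_one g.2.1)]


theorem tauGL_surj (hn : 1 ≤ n) (hω : IsPrimitiveRoot (ω : F) r) :
    Function.Surjective (tauGL (n := n) hω) := by
  intro a
  obtain ⟨d, hd⟩ := exists_d_of_tuple a.1 a.2.1
  have hdet : (Dm (ω : F) d).det ≠ 0 := by
    rw [Dm, det_diagonal]
    exact Finset.prod_ne_zero_iff.2 (fun i _ => pow_ne_zero _ ω.ne_zero)
  let g : GL (Fin n) F := GeneralLinearGroup.mkOfDetNeZero _ hdet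
  have hgval : (g : Matrix (Fin n) (Fin n) F) = Dm (ω : F) d := rfl
  have hgr : g ^ r = 1 := by
    apply Units.ext
    rw [Units.val_pow_eq_pow_val, hgval, Dm_pow hω.pow_eq_one]
    rfl
  have hgc : g ∉ center (GL (Fin n) F) := by
    intro hmem
    rw [GeneralLinearGroup.mem_center_iff_val_mem_range_scalar] at hmem
    obtain ⟨c, hc⟩ := hmem
    have h1 : ∀ i, (ω : F) ^ (d i).val = c := fun i =>
      Dm_eq_scalar_apply d c (hgval ▸ hc.symm) i
    let i0 : Fin n := ⟨0, hn⟩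
    have h2 : ∀ i, d i = d i0 := fun i => pow_val_injective hω ((h1 i).trans (h1 i0).symm)
    have h3 := hd (d i0)
    rw [Finset.filter_true_of_mem (fun i _ => h2 i), Finset.card_univ, Fintype.card_fin] at h3
    have := a.2.2 (d i0)
    omega
  refine ⟨⟨g, hgr, hgc⟩, ?_⟩
  apply Subtype.ext
  funext j
  show mult (ω : F) (g : Matrix (Fin n) (Fin n) F) j = a.1 j
  rw [hgval, mult_Dm hω, hd]

theorem root_GL (hn : 1 ≤ n) (hω : IsPrimitiveRoot (ω : F) r) (z : GL (Fin n) F)
    (hz : z ∈ center (GL (Fin n) F)) (hzr : z ^ r = 1) : ∃ m : ℕ, z = zetaGL n ω ^ m := by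
  rw [GeneralLinearGroup.center_eq_range_scalar] at hz
  obtain ⟨c, rfl⟩ := hz
  have hzr' : GeneralLinearGroup.scalar (Fin n) (c ^ r) = 1 := by rw [map_pow]; exact hzr
  have hc' : ((c ^ r : Fˣ) : F) = 1 := by
    have := congrArg (fun x : GL (Fin n) F => (x : Matrix (Fin n) (Fin n) F) ⟨0, hn⟩ ⟨0, hn⟩) hzr'
    simp only [GeneralLinearGroup.coe_scalar, Matrix.scalar_apply, Matrix.diagonal_apply_eq,
      Units.val_one, Matrix.one_apply_eq] at this
    exact this
  rw [Units.val_pow_eq_pow_val] at hc'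
  haveI : NeZero r := ⟨hr.out.ne_zero⟩
  obtain ⟨i, hi, hic⟩ := hω.eq_pow_of_pow_eq_one hc'
  refine ⟨i, ?_⟩
  rw [zetaGL_pow]
  congr 1
  apply Units.ext
  rw [Units.val_pow_eq_pow_val]
  exact hic.symm

end Cfsg.Agent.Helper7.PCls
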