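import Mathlib
import Cfsg.Agent.Helper12.PrimeOrderClassA
import Cfsg.Agent.Helper7.PCls5

set_option autoImplicit false
set_option linter.unusedSectionVars false
set_option linter.style.haveILetI false

/-! The second-kind classes (lifts whose `r`-th power is a non-`r`-th-power scalar) in `GL_n(F)`. -/

namespace Cfsg.Agent.Helper7.PCls

open Polynomial Matrix Subgroup

variable {F : Type*} [Field F] {n r : ℕ} [hr : Fact r.Prime]

/-- a monic polynomial all of whose irreducible factors divide the irreducible `N` is a power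
of `N`. -/
theorem eq_pow_of_forall_irreducible_dvd (N : F[X]) (hN : Irreducible N)
    (hNm : N.Monic) : ∀ (d : ℕ) (p : F[X]), p.natDegree = d → p.Monic →
      (∀ Q : F[X], Irreducible Q → Q ∣ p → Q ∣ N) → ∃ k : ℕ, p = N ^ k := by
  intro d
  induction d using Nat.strong_induction_on with
  | _ d ih =>
    intro p hd hp hQ
    by_cases h1 : p = 1
    · exact ⟨0, by rw [h1, pow_zero]⟩
    · have hnu : ¬ IsUnit p := by
        intro hu
        exact h1 (hp.eq_one_of_isUnit hu)
      obtain ⟨Q, hQi, hQp⟩ := WfDvdMonoid.exists_irreducible_factor hnu hp.ne_zero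
      have hQN : Q ∣ N := hQ Q hQi hQp
      have hNQ : N ∣ Q := hQi.dvd_symm hN hQN
      obtain ⟨p', hp'⟩ := hNQ.trans hQp
      have hp'm : p'.Monic := hNm.of_mul_monic_left (hp' ▸ hp)
      have hdeg : p.natDegree = N.natDegree + p'.natDegree := by
        rw [hp', hNm.natDegree_mul hp'm]
      have hNpos : 0 < N.natDegree := hN.natDegree_pos
      obtain ⟨k, hk⟩ := ih p'.natDegree (by omega) p' rfl hp'm
        (fun R hR hRp => hQ R hR (hRp.trans ⟨N, by rw [hp', mul_comm]⟩))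
      exact ⟨k + 1, by rw [hp', hk, pow_succ']⟩

theorem charpoly_eq_pow (A : Matrix (Fin n) (Fin n) F) (N : F[X]) (hN : Irreducible N)
    (hNm : N.Monic) (hA : aeval A N = 0) : ∃ k : ℕ, A.charpoly = N ^ k :=
  eq_pow_of_forall_irreducible_dvd N hN hNm _ A.charpoly rfl (Matrix.charpoly_monic A)
    (fun Q hQ hQd => Cfsg.Agent.Helper12.POC.dvd_of_irreducible_dvd_charpoly A N hA Q hQ hQd)

theorem charpoly_eq_of_aeval (A A' : Matrix (Fin n) (Fin n) F) (N : F[X]) (hN : Irreducible N)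
    (hNm : N.Monic) (hA : aeval A N = 0) (hA' : aeval A' N = 0) : A.charpoly = A'.charpoly := by
  obtain ⟨k, hk⟩ := charpoly_eq_pow A N hN hNm hA
  obtain ⟨k', hk'⟩ := charpoly_eq_pow A' N hN hNm hA'
  have h1 : A.charpoly.natDegree = A'.charpoly.natDegree := by
    rw [Matrix.charpoly_natDegree_eq_dim, Matrix.charpoly_natDegree_eq_dim]
  rw [hk, hk', hNm.natDegree_pow, hNm.natDegree_pow] at h1
  have hNpos : 0 < N.natDegree := hN.natDegree_pos
  have : k = k' := Nat.eq_of_mul_eq_mul_right hNpos h1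
  rw [hk, hk', this]

theorem algebraMap_eq_scalar {ι : Type*} [Fintype ι] [DecidableEq ι] (c : F) :
    algebraMap F (Matrix ι ι F) c = Matrix.scalar ι c := by
  rw [Matrix.algebraMap_eq_diagonal]
  rfl

theorem aeval_X_pow_sub_C (M : Matrix (Fin n) (Fin n) F) (c : F)
    (hM : M ^ r = Matrix.scalar (Fin n) c) : aeval M (X ^ r - C c : F[X]) = 0 := by
  rw [map_sub, map_pow, aeval_X, aeval_C, hM, algebraMap_eq_scalar, sub_self]

theorem isSemisimple_of_pow_eq_scalar (hr0 : (r : F) ≠ 0) (M : Matrix (Fin n) (Fin n) F) (c : F)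
    (hc : c ≠ 0) (hM : M ^ r = Matrix.scalar (Fin n) c) :
    Module.End.IsSemisimple (Matrix.toLin' M) := by
  have hsq : Squarefree (X ^ r - C c : F[X]) :=
    (Polynomial.separable_X_pow_sub_C c hr0 hc).squarefree
  apply Module.End.isSemisimple_of_squarefree_aeval_eq_zero hsq
  have h1 := aeval_X_pow_sub_C M c hM
  have h2 := Polynomial.aeval_algHom_apply
    (Matrix.toLinAlgEquiv' (R := F) (n := Fin n)).toAlgHom M (X ^ r - C c : F[X])
  have e1 : ((Matrix.toLinAlgEquiv' (R := F) (n := Fin n)).toAlgHom : _ → _) M =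
      Matrix.toLin' M := rfl
  rw [e1] at h2
  rw [h2, h1, map_zero]

theorem exists_conj_of_pow_eq_scalar (hr0 : (r : F) ≠ 0) (M N : Matrix (Fin n) (Fin n) F) (c : F)
    (hc : c ≠ 0) (hirr : ∀ b : F, b ^ r ≠ c) (hM : M ^ r = Matrix.scalar (Fin n) c)
    (hN : N ^ r = Matrix.scalar (Fin n) c) :
    ∃ P : GL (Fin n) F,
      (P : Matrix (Fin n) (Fin n) F) * M = N * (P : Matrix (Fin n) (Fin n) F) := by
  apply Cfsg.Agent.Helper12.exists_gl_conj_of_semisimple M N
    (isSemisimple_of_pow_eq_scalar hr0 M c hc hM) (isSemisimple_of_pow_eq_scalar hr0 N c hc hN)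
  exact charpoly_eq_of_aeval M N (X ^ r - C c) (X_pow_sub_C_irreducible_of_prime hr.out hirr)
    (monic_X_pow_sub_C c hr.out.ne_zero) (aeval_X_pow_sub_C M c hM) (aeval_X_pow_sub_C N c hN)


theorem hB1_GL (hr0 : (r : F) ≠ 0) (g h : GL (Fin n) F) (e : g ^ r = h ^ r)
    (hgr : g ^ r ∈ center (GL (Fin n) F))
    (hnA : ¬ ∃ c ∈ center (GL (Fin n) F), g ^ r = c ^ r) : IsConj g h := by
  rw [GeneralLinearGroup.center_eq_range_scalar] at hgr
  obtain ⟨lam, hlam⟩ := hgr
  have hM : (g : Matrix (Fin n) (Fin n) F) ^ r = Matrix.scalar (Fin n) (lam : F) := by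
    rw [← Units.val_pow_eq_pow_val, ← hlam]
    rfl
  have hN : (h : Matrix (Fin n) (Fin n) F) ^ r = Matrix.scalar (Fin n) (lam : F) := by
    rw [← Units.val_pow_eq_pow_val, ← e, ← hlam]
    rfl
  have hirr : ∀ b : F, b ^ r ≠ lam := by
    intro b hb
    have hb0 : b ≠ 0 := by
      rintro rfl
      rw [zero_pow hr.out.ne_zero] at hb
      exact lam.ne_zero hb.symm
    apply hnA
    refine ⟨GeneralLinearGroup.scalar (Fin n) (Units.mk0 b hb0), ?_, ?_⟩
    · rw [GeneralLinearGroup.center_eq_range_scalar]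
      exact ⟨_, rfl⟩
    · rw [← hlam, ← map_pow]
      congr 1
      apply Units.ext
      simp [hb]
  obtain ⟨P, hP⟩ := exists_conj_of_pow_eq_scalar hr0 _ _ lam lam.ne_zero hirr hM hN
  refine isConj_iff.2 ⟨P, ?_⟩
  rw [mul_inv_eq_iff_eq_mul]
  apply Units.ext
  rw [Units.val_mul, Units.val_mul]
  exact hP

theorem hB3_GL (hrn : ¬ r ∣ n) (g : GL (Fin n) F) (hgr : g ^ r ∈ center (GL (Fin n) F)) :
    ∃ c ∈ center (GL (Fin n) F), g ^ r = c ^ r := by
  rw [GeneralLinearGroup.center_eq_range_scalar] at hgr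
  obtain ⟨lam, hlam⟩ := hgr
  have hdet : (GeneralLinearGroup.det g) ^ r = lam ^ n := by
    rw [← map_pow, ← hlam, GeneralLinearGroup.det_scalar, Fintype.card_fin]
  have hcop : Nat.Coprime r n := (Nat.Prime.coprime_iff_not_dvd hr.out).2 hrn
  have hb : (r : ℤ) * Nat.gcdA r n + n * Nat.gcdB r n = 1 := by
    have := Nat.gcd_eq_gcd_ab r n
    rw [← this, hcop.gcd_eq_one]
    rfl
  set a := Nat.gcdA r n
  set b := Nat.gcdB r n
  have hc0 : (lam ^ a * (GeneralLinearGroup.det g) ^ b) ^ r = lam := by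
    have hdet' : (GeneralLinearGroup.det g) ^ (r : ℤ) = lam ^ (n : ℤ) := by
      rw [zpow_natCast, zpow_natCast, hdet]
    have hexp : a * (r : ℤ) + (n : ℤ) * b = 1 := by linarith [hb]
    rw [← zpow_natCast, mul_zpow, ← _root_.zpow_mul, ← _root_.zpow_mul, mul_comm b,
      _root_.zpow_mul (GeneralLinearGroup.det g), hdet', ← _root_.zpow_mul, ← _root_.zpow_add,
      hexp, zpow_one]
  refine ⟨GeneralLinearGroup.scalar (Fin n) (lam ^ a * (GeneralLinearGroup.det g) ^ b), ?_, ?_⟩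
  · rw [GeneralLinearGroup.center_eq_range_scalar]
    exact ⟨_, rfl⟩
  · rw [← hlam, ← map_pow, hc0]


theorem exists_pow_eq_scalar (hrn : r ∣ n) (lam : F) :
    ∃ M : Matrix (Fin n) (Fin n) F, M ^ r = Matrix.scalar (Fin n) lam := by
  obtain ⟨k, rfl⟩ := hrn
  obtain ⟨M0, hM0⟩ := Cfsg.Agent.Helper12.exists_matrix_charpoly_eq (n := r)
    (X ^ r - C lam) (monic_X_pow_sub_C _ hr.out.ne_zero) (natDegree_X_pow_sub_C)
  have hM0r : M0 ^ r = Matrix.scalar (Fin r) lam := by
    have := Matrix.aeval_self_charpoly M0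
    rw [hM0, map_sub, map_pow, aeval_X, aeval_C, algebraMap_eq_scalar, sub_eq_zero] at this
    exact this
  have hB : (Matrix.blockDiagonal (fun _ : Fin k => M0)) ^ r =
      algebraMap F (Matrix (Fin r × Fin k) (Fin r × Fin k) F) lam := by
    rw [← Matrix.blockDiagonal_pow, algebraMap_eq_scalar]
    have : (fun _ : Fin k => M0) ^ r = fun _ : Fin k => Matrix.diagonal (fun _ : Fin r => lam) := by
      funext i
      rw [Pi.pow_apply, hM0r]
      rfl
    rw [this, Matrix.blockDiagonal_diagonal]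
    rfl
  refine ⟨Matrix.reindexAlgEquiv F F (finProdFinEquiv : Fin r × Fin k ≃ Fin (r * k))
    (Matrix.blockDiagonal (fun _ : Fin k => M0)), ?_⟩
  rw [← map_pow, hB, AlgEquiv.commutes, algebraMap_eq_scalar]

theorem hB2_GL (hrn : r ∣ n) (z : GL (Fin n) F) (hz : z ∈ center (GL (Fin n) F)) :
    ∃ g : GL (Fin n) F, g ^ r = z := by
  rw [GeneralLinearGroup.center_eq_range_scalar] at hz
  obtain ⟨lam, rfl⟩ := hz
  obtain ⟨M, hM⟩ := exists_pow_eq_scalar (r := r) hrn (lam : F) (n := n)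
  have hdet : M.det ≠ 0 := by
    intro h0
    have h1 := congrArg Matrix.det hM
    rw [Matrix.det_pow, h0, zero_pow hr.out.ne_zero, Matrix.scalar_apply, Matrix.det_diagonal,
      Finset.prod_const] at h1
    exact pow_ne_zero _ lam.ne_zero h1.symm
  refine ⟨GeneralLinearGroup.mkOfDetNeZero M hdet, ?_⟩
  apply Units.ext
  rw [Units.val_pow_eq_pow_val]
  exact hM

end Cfsg.Agent.Helper7.PCls
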