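import Mathlib
import Cfsg.Agent.Helper7.PCls6

set_option autoImplicit false
set_option linter.unusedSectionVars false
set_option linter.style.haveILetI false

/-! Number of classes of elements of prime order `r ∣ q - 1` in `PGL_n(q)`. -/

namespace Cfsg.Agent.Helper7.PCls

open Polynomial Matrix Subgroup
open scoped IsMulCommutative

variable {F : Type*} [Field F] {n r : ℕ} [hr : Fact r.Prime]

theorem zetaGL_ne_one (hn : 1 ≤ n) {ω : Fˣ} (hω : IsPrimitiveRoot (ω : F) r) :
    zetaGL n ω ≠ 1 := by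
  intro h
  have := congrArg (fun x : GL (Fin n) F => (x : Matrix (Fin n) (Fin n) F) ⟨0, hn⟩ ⟨0, hn⟩) h
  simp only [zetaGL, GeneralLinearGroup.coe_scalar, Matrix.scalar_apply, Matrix.diagonal_apply_eq,
    Units.val_one, Matrix.one_apply_eq] at this
  exact hω.ne_one hr.out.one_lt this

theorem zetaGL_pow_r {ω : Fˣ} (hω : IsPrimitiveRoot (ω : F) r) : zetaGL n ω ^ r = 1 := by
  rw [zetaGL_pow]
  have : ω ^ r = 1 := by
    apply Units.ext
    rw [Units.val_pow_eq_pow_val, hω.pow_eq_one, Units.val_one]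
  rw [this, map_one]

theorem hidx_GL [Finite F] (hn : 1 ≤ n) {ω : Fˣ} (hω : IsPrimitiveRoot (ω : F) r) :
    Nat.card (center (GL (Fin n) F) ⧸ RZ (GL (Fin n) F) r) = r := by
  have hmem : ∀ u : Fˣ, GeneralLinearGroup.scalar (Fin n) u ∈ center (GL (Fin n) F) := by
    intro u
    rw [GeneralLinearGroup.center_eq_range_scalar]
    exact ⟨u, rfl⟩
  let f : Fˣ →* center (GL (Fin n) F) :=
    (GeneralLinearGroup.scalar (Fin n)).codRestrict (center (GL (Fin n) F)) hmem
  have hf : Function.Surjective f := by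
    rintro ⟨z, hz⟩
    have hz' := hz
    rw [GeneralLinearGroup.center_eq_range_scalar] at hz'
    obtain ⟨u, rfl⟩ := hz'
    exact ⟨u, rfl⟩
  haveI : IsCyclic (center (GL (Fin n) F)) := isCyclic_of_surjective f hf
  have h1 := IsCyclic.index_powMonoidHom_range (center (GL (Fin n) F)) r
  rw [Subgroup.index_eq_card] at h1
  rw [RZ, h1]
  apply Nat.gcd_eq_right
  let z0 : center (GL (Fin n) F) := ⟨zetaGL n ω, zetaGL_mem_center⟩
  have hz0 : orderOf z0 = r := by
    apply orderOf_eq_prime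
    · apply Subtype.ext
      rw [Subgroup.coe_pow]
      exact zetaGL_pow_r hω
    · intro h
      exact zetaGL_ne_one hn hω (congrArg Subtype.val h)
  rw [← hz0]
  exact orderOf_dvd_natCard z0

/-- the data for `GL_n(F)`. -/
noncomputable def dataGL (hn : 1 ≤ n) {ω : Fˣ} (hω : IsPrimitiveRoot (ω : F) r) :
    Data (GL (Fin n) F) r (Tup r n) (r ∣ n) where
  ζ := zetaGL n ω
  hζ := zetaGL_mem_center
  hζr := zetaGL_pow_r hω
  hroot := root_GL hn hω
  τ := tauGL hω
  τ_surj := tauGL_surj hn hω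
  τ_conj := tauGL_conj hω
  τ_rot := tauGL_rot hω
  hB1 := hB1_GL (neZero_of_primitive hω)
  hB2 := hB2_GL
  hB3 := hB3_GL

theorem card_pgl_classes [Fintype F] (hn : 2 ≤ n) (hrq : r ∣ Fintype.card F - 1) :
    Nat.card {C : ConjClasses (GL (Fin n) F ⧸ center (GL (Fin n) F)) //
        ∃ g : GL (Fin n) F ⧸ center (GL (Fin n) F), ConjClasses.mk g = C ∧ orderOf g = r} =
      (Nat.choose (n + r - 1) (r - 1) - r - (if r ∣ n then 1 else 0)) / r +
        r * (if r ∣ n then 1 else 0) := by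
  classical
  have hcard : r ∣ Fintype.card Fˣ := by rw [Fintype.card_units]; exact hrq
  obtain ⟨ω, hω⟩ := exists_prime_orderOf_dvd_card r hcard
  have hω' : IsPrimitiveRoot (ω : F) r := by
    rw [IsPrimitiveRoot.coe_units_iff, ← hω]
    exact IsPrimitiveRoot.orderOf ω
  have hn1 : 1 ≤ n := by omega
  rw [card_classes_main (dataGL hn1 hω') (hidx_GL hn1 hω'), card_orbits_tup hn1]
  have hr1 : 1 ≤ r := hr.out.pos
  split_ifs
  · omega
  · omega

end Cfsg.Agent.Helper7.PCls
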