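import Mathlib
import Cfsg.Agent.Helper28.GU
import Cfsg.Agent.Helper28.Herm
import Cfsg.Agent.S2587
import Cfsg.Agent.Helper7.PCls7

set_option autoImplicit false
set_option linter.unusedSectionVars false
set_option linter.style.haveILetI false

/-! The centre of `GU_n(q)` and scalar elements. -/

namespace Cfsg.Agent.Helper7.PGU

open Matrix Subgroup Cfsg.Agent.Helper28 Cfsg.Agent.Helper7.PCls

variable {K : Type*} [Field K] {n q r : ℕ}

/-- the underlying matrix of an element of `GU`. -/
abbrev valM (g : ↥(Cfsg.GU n K q)) : Matrix (Fin n) (Fin n) K :=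
  ((g : GL (Fin n) K) : Matrix (Fin n) (Fin n) K)

theorem valM_mul (g h : ↥(Cfsg.GU n K q)) : valM (g * h) = valM g * valM h := rfl

theorem valM_one : valM (1 : ↥(Cfsg.GU n K q)) = 1 := rfl

theorem valM_pow (g : ↥(Cfsg.GU n K q)) (m : ℕ) : valM (g ^ m) = valM g ^ m := by
  induction m with
  | zero => rfl
  | succ m ih => rw [pow_succ, pow_succ, valM_mul, ih]

theorem valM_injective : Function.Injective (valM : ↥(Cfsg.GU n K q) → Matrix (Fin n) (Fin n) K) := by
  intro g h e
  apply Subtype.ext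
  apply Units.ext
  exact e

theorem mem_center_of_scalar (z : ↥(Cfsg.GU n K q)) (c : K)
    (hz : valM z = Matrix.scalar (Fin n) c) : z ∈ center ↥(Cfsg.GU n K q) := by
  rw [Subgroup.mem_center_iff]
  intro g
  apply valM_injective
  rw [valM_mul, valM_mul, hz]
  exact (Matrix.scalar_comm c (fun r' => Commute.all _ r') _).symm

section sigma

variable (σ : K →+* K) (hσ : ∀ x, σ x = x ^ q)
include σ hσ

/-- the scalar element `c · 1` of `GU`, for `c ^ (q + 1) = 1`. -/
noncomputable def scalGU (c : K) (hc : c ^ (q + 1) = 1) : ↥(Cfsg.GU n K q) :=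
  GUlib.mkGU σ hσ (Matrix.diagonal (fun _ => c)) (GUlib.diagonal_unitary σ hσ _ (fun _ => hc))

theorem valM_scalGU (c : K) (hc : c ^ (q + 1) = 1) :
    valM (scalGU (n := n) σ hσ c hc) = Matrix.scalar (Fin n) c := rfl

theorem scalar_pow_of_mem (z : ↥(Cfsg.GU n K q)) (c : K) (hn : 1 ≤ n)
    (hz : valM z = Matrix.scalar (Fin n) c) : c ^ (q + 1) = 1 := by
  have h1 := (GUlib.mem_GU_iff σ hσ (z : GL (Fin n) K)).1 z.2
  have h2 := congrFun (congrFun h1 ⟨0, hn⟩) ⟨0, hn⟩
  have hz' : ((z : GL (Fin n) K) : Matrix (Fin n) (Fin n) K) = Matrix.diagonal (fun _ => c) := hz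
  rw [hz', Matrix.diagonal_transpose, Matrix.diagonal_map (map_zero σ),
    Matrix.diagonal_mul_diagonal, Matrix.diagonal_apply_eq, Matrix.one_apply_eq] at h2
  simp only [hσ] at h2
  rw [pow_succ']
  exact h2

theorem exists_scalar_of_mem_center (hn : 1 ≤ n) (a : K) (ha : a ≠ 1) (ha1 : a ^ (q + 1) = 1)
    (z : ↥(Cfsg.GU n K q)) (hz : z ∈ center ↥(Cfsg.GU n K q)) :
    ∃ c : K, valM z = Matrix.scalar (Fin n) c := by
  classical
  rw [Subgroup.mem_center_iff] at hz
  have hD : ∀ i : Fin n, valM z * Matrix.diagonal (Function.update (fun _ => (1 : K)) i a) =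
      Matrix.diagonal (Function.update (fun _ => (1 : K)) i a) * valM z := by
    intro i
    have hd : ∀ j, (Function.update (fun _ => (1 : K)) i a) j ^ (q + 1) = 1 := by
      intro j
      by_cases hji : j = i
      · subst hji; rw [Function.update_self]; exact ha1
      · rw [Function.update_of_ne hji]; exact one_pow _
    have := hz (GUlib.mkGU σ hσ _ (GUlib.diagonal_unitary σ hσ _ hd))
    have h2 := congrArg valM this
    rw [valM_mul, valM_mul] at h2
    exact h2.symm
  have hP : ∀ i j : Fin n, valM z * (Equiv.swap i j).permMatrix K =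
      (Equiv.swap i j).permMatrix K * valM z := by
    intro i j
    have := hz (GUlib.mkGU σ hσ _ (GUlib.perm_unitary σ (Equiv.swap i j)))
    have h2 := congrArg valM this
    rw [valM_mul, valM_mul] at h2
    exact h2.symm
  exact ⟨_, GUlib.scalar_of_commute (valM z) a ha hD hP ⟨0, hn⟩⟩

end sigma

end Cfsg.Agent.Helper7.PGU
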