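import Mathlib
import Cfsg.Agent.Helper1.S3401Defs
import Cfsg.Agent.Helper28.S3401CARD

set_option autoImplicit false

namespace Cfsg.Agent.S3401P

/-- (= SYL.mono, proved here to keep WITT independent of the SYL module.) -/
theorem WITT.aux_mono {G : Type*} [Group G] [Finite G] {X Y P : Subgroup G} (hP : IsSyl2 X P)
    (hPY : P ≤ Y) (hYX : Y ≤ X) : IsSyl2 Y P := by
  refine ⟨hPY, ?_⟩
  rw [hP.2]
  congr 1
  have h1 : Nat.card P ∣ Nat.card Y := Subgroup.card_dvd_of_le hPY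
  have h2 : Nat.card Y ∣ Nat.card X := Subgroup.card_dvd_of_le hYX
  rw [hP.2] at h1
  have hY0 : Nat.card Y ≠ 0 := Nat.card_pos.ne'
  have hX0 : Nat.card X ≠ 0 := Nat.card_pos.ne'
  have le1 : (Nat.card X).factorization 2 ≤ (Nat.card Y).factorization 2 :=
    (Nat.prime_two.pow_dvd_iff_le_factorization hY0).mp h1
  have le2 : (Nat.card Y).factorization 2 ≤ (Nat.card X).factorization 2 :=
    (Nat.factorization_le_iff_dvd hY0 hX0).mpr h2 2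
  omega

theorem WITT.aux_conj {G : Type*} [Group G] [Finite G] {X P P' : Subgroup G} (hP : IsSyl2 X P)
    (hP' : IsSyl2 X P') : ∃ x ∈ X, ∀ g : G, g ∈ P' ↔ x⁻¹ * g * x ∈ P := by
  classical
  have : Fact (Nat.Prime 2) := ⟨Nat.prime_two⟩
  have hc : ∀ R : Subgroup G, R ≤ X → Nat.card (R.subgroupOf X) = Nat.card R :=
    fun R hR => Nat.card_congr (Subgroup.subgroupOfEquivOfLe hR).toEquiv
  let SP : Sylow 2 X := Sylow.ofCard (P.subgroupOf X) (by rw [hc P hP.1, hP.2])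
  let SP' : Sylow 2 X := Sylow.ofCard (P'.subgroupOf X) (by rw [hc P' hP'.1, hP'.2])
  obtain ⟨x, hx⟩ := MulAction.exists_smul_eq X SP SP'
  refine ⟨x, x.2, ?_⟩
  intro g
  by_cases hgX : g ∈ X
  · have key : (⟨g, hgX⟩ : X) ∈ SP' ↔ x⁻¹ * ⟨g, hgX⟩ * x ∈ SP := by
      rw [← hx]
      show (⟨g, hgX⟩ : X) ∈ ((x • SP : Sylow 2 X) : Subgroup X) ↔ _
      rw [Sylow.coe_subgroup_smul, Subgroup.mem_pointwise_smul_iff_inv_smul_mem]
      simp only [MulAut.smul_def, MulAut.conj_inv_apply]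
      exact Iff.rfl
    have e1 : (⟨g, hgX⟩ : X) ∈ SP' ↔ g ∈ P' := by
      show (⟨g, hgX⟩ : X) ∈ P'.subgroupOf X ↔ _
      rw [Subgroup.mem_subgroupOf]
    have e2 : x⁻¹ * ⟨g, hgX⟩ * x ∈ SP ↔ (x : G)⁻¹ * g * x ∈ P := by
      show x⁻¹ * ⟨g, hgX⟩ * x ∈ P.subgroupOf X ↔ _
      rw [Subgroup.mem_subgroupOf]
      simp
    rw [← e1, key, e2]
  · constructor
    · intro h
      exact absurd (hP'.1 h) hgX
    · intro h
      exfalso
      apply hgX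
      have h3 : (x : G) * ((x : G)⁻¹ * g * x) * (x : G)⁻¹ ∈ X :=
        X.mul_mem (X.mul_mem x.2 (hP.1 h)) (X.inv_mem x.2)
      have e : (x : G) * ((x : G)⁻¹ * g * x) * (x : G)⁻¹ = g := by group
      rwa [e] at h3

variable {G : Type*} [Group G] [Finite G] {Ω : Type*} [Fintype Ω] [MulAction G Ω]

/-- WITT: the normalizer of `Q` in `G` is 2-transitive on `Fix Q`. -/
theorem WITT {M : Subgroup G} (h : Hyp Ω M) {a : Ω} {Q S : Subgroup G} {t : G}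
    (c : Config M a Q S t) {γ₁ γ₂ δ₁ δ₂ : Ω} (h1 : γ₁ ∈ Fix Ω Q) (h2 : γ₂ ∈ Fix Ω Q)
    (h3 : δ₁ ∈ Fix Ω Q) (h4 : δ₂ ∈ Fix Ω Q) (hγ : γ₁ ≠ γ₂) (hδ : δ₁ ≠ δ₂) :
    ∃ g ∈ Subgroup.normalizer (Q : Set G), g • γ₁ = δ₁ ∧ g • γ₂ = δ₂ := by
  classical
  -- `g0` moves `(γ₁, γ₂)` to `(δ₁, δ₂)`
  obtain ⟨g0, hg1, hg2⟩ : ∃ g0 : G, g0 • γ₁ = δ₁ ∧ g0 • γ₂ = δ₂ :=
    MulAction.is_two_pretransitive_iff.mp h.h2 hγ hδ
  set X : Subgroup G := M ⊓ MulAction.stabilizer G δ₁ ⊓ MulAction.stabilizer G δ₂ with hX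
  set Q' : Subgroup G := Q.map (MulAut.conj g0).toMonoidHom with hQ'
  have hQM : Q ≤ M := fun q hq => (c.hQ.1 hq).1
  have hQX : Q ≤ X := by
    intro q hq
    refine ⟨⟨hQM hq, ?_⟩, ?_⟩
    · exact MulAction.mem_stabilizer_iff.mpr (h3 q hq)
    · exact MulAction.mem_stabilizer_iff.mpr (h4 q hq)
  have hQ'X : Q' ≤ X := by
    intro y hy
    obtain ⟨q, hq, rfl⟩ := Subgroup.mem_map.mp hy
    have hyq : (MulAut.conj g0).toMonoidHom q = g0 * q * g0⁻¹ := rfl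
    rw [hyq]
    refine ⟨⟨h.hnormal.conj_mem q (hQM hq) g0, ?_⟩, ?_⟩
    · apply MulAction.mem_stabilizer_iff.mpr
      rw [← hg1, mul_smul, mul_smul, inv_smul_smul, h1 q hq]
    · apply MulAction.mem_stabilizer_iff.mpr
      rw [← hg2, mul_smul, mul_smul, inv_smul_smul, h2 q hq]
  have hcardQ' : Nat.card Q' = Nat.card Q :=
    (Nat.card_congr (Q.equivMapOfInjective (MulAut.conj g0).toMonoidHom
      (MulAut.conj g0).injective).toEquiv).symm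
  -- `Q` is Sylow in `M ⊓ stab δ₁`
  have hQ1 : IsSyl2 (M ⊓ MulAction.stabilizer G δ₁) Q := by
    refine ⟨fun q hq => ⟨hQM hq, MulAction.mem_stabilizer_iff.mpr (h3 q hq)⟩, ?_⟩
    rw [c.hQ.2]
    have e1 := CARD h a
    have e2 := CARD h δ₁
    congr 1
    omega
  have hQ2 : IsSyl2 X Q := WITT.aux_mono hQ1 hQX inf_le_left
  have hQ'2 : IsSyl2 X Q' := ⟨hQ'X, by rw [hcardQ', hQ2.2]⟩
  obtain ⟨x, hxX, hx⟩ := WITT.aux_conj hQ'2 hQ2
  refine ⟨x * g0, ?_, ?_, ?_⟩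
  · rw [Subgroup.mem_normalizer_iff]
    intro q
    rw [hx (x * g0 * q * (x * g0)⁻¹)]
    have e : x⁻¹ * (x * g0 * q * (x * g0)⁻¹) * x = (MulAut.conj g0).toMonoidHom q := by
      show _ = g0 * q * g0⁻¹
      group
    rw [e, hQ', Subgroup.mem_map_iff_mem (MulAut.conj g0).injective]
  · rw [mul_smul, hg1]
    exact MulAction.mem_stabilizer_iff.mp hxX.1.2
  · rw [mul_smul, hg2]
    exact MulAction.mem_stabilizer_iff.mp hxX.2

end Cfsg.Agent.S3401P
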