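import Mathlib
import Cfsg.Prelude.Def_Characters
import Cfsg.Prelude.Def_Blocks
import Cfsg.Agent.Helper24.Abelian
import Cfsg.Agent.Helper24.Linear
import Cfsg.Agent.Helper24.Expansion
import Cfsg.Agent.Helper8.D1Base
import Cfsg.Agent.Helper8.D1Conj
import Cfsg.Agent.Helper11.D1QC
import Cfsg.Agent.Helper20.S4705BLKDefs

set_option autoImplicit false

/-!
# S4705, piece BLK, sub-piece BLKE: the exact decomposition of `χ|_C`
-/

namespace Cfsg.Agent.S4705P

open Cfsg Cfsg.Agent.Helper24 Cfsg.Agent.Helper8.D1 Cfsg.Agent.Helper11.D1QC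
  Cfsg.Agent.Helper11.D1QL Cfsg.Agent.Helper18.D1QO

universe u

variable {G : Type u} [Group G] [Finite G]

/-! ### BLKE: the exact decomposition -/
theorem blk_exact (p : ℕ) [Fact p.Prime] (P : Sylow p G) (hP : Nat.card P = p)
    (θ : IrrCharacter (Subgroup.centralizer ((P : Subgroup G) : Set G)))
    (hθP : ∀ x : Subgroup.centralizer ((P : Subgroup G) : Set G), (x : G) ∈ (P : Subgroup G) →
      (θ : Subgroup.centralizer ((P : Subgroup G) : Set G) → ℂ) x =
        (θ : Subgroup.centralizer ((P : Subgroup G) : Set G) → ℂ) 1)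
    (χ : IrrCharacter G)
    (a : (Subgroup.centralizer ((P : Subgroup G) : Set G) → ℂ) → ℕ)
    (ha : ∀ μ, IsPLin p μ → mult (Subgroup.centralizer ((P : Subgroup G) : Set G))
      (fun c => μ c * (θ : Subgroup.centralizer ((P : Subgroup G) : Set G) → ℂ) c) (χ : G → ℂ) =
        (a μ : ℂ))
    (hsum : irrDeg θ * ∑ᶠ μ : {μ : Subgroup.centralizer ((P : Subgroup G) : Set G) → ℂ //
      IsPLin p μ}, a μ.1 = irrDeg χ) :
    ∀ c : Subgroup.centralizer ((P : Subgroup G) : Set G), (χ : G → ℂ) c =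
      ∑ᶠ μ : {μ : Subgroup.centralizer ((P : Subgroup G) : Set G) → ℂ // IsPLin p μ},
        (a μ.1 : ℂ) * (μ.1 c * (θ : Subgroup.centralizer ((P : Subgroup G) : Set G) → ℂ) c) := by
  classical
  have hp : p.Prime := Fact.out
  obtain ⟨hZ, hZc, hZi⟩ := subgroupOf_facts P hP
  have hcardL0 : Nat.card (Lty p (P : Subgroup G)) = p := card_pLin _ hZ hZc hZi
  have : Finite (Lty p (P : Subgroup G)) :=
    Nat.finite_of_card_ne_zero (by rw [hcardL0]; exact hp.ne_zero)
  let _ : Fintype (Subgroup.centralizer ((P : Subgroup G) : Set G)) := Fintype.ofFinite _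
  have : Fintype (IrrCharacter (Subgroup.centralizer ((P : Subgroup G) : Set G))) :=
    Fintype.ofFinite _
  have : Fintype (Lty p (P : Subgroup G)) := Fintype.ofFinite _
  have : Fintype (Tty (P : Subgroup G)) := Fintype.ofFinite _
  -- the expansion of `χ|_C`
  have hres : IsCharacter (Subgroup.centralizer ((P : Subgroup G) : Set G))
      (fun c : Subgroup.centralizer ((P : Subgroup G) : Set G) => (χ : G → ℂ) c) :=
    Cfsg.Agent.Helper8.isCharacter_restrict _ (IsIrrCharacter.isCharacter χ.2)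
  obtain ⟨n, hn⟩ := IsCharacter.exists_nat_coeff hres
  have hnval : ∀ ξ : IrrCharacter (Subgroup.centralizer ((P : Subgroup G) : Set G)),
      classInner (fun c : Subgroup.centralizer ((P : Subgroup G) : Set G) => (χ : G → ℂ) c)
        (ξ : Subgroup.centralizer ((P : Subgroup G) : Set G) → ℂ) = (n ξ : ℂ) := by
    intro ξ
    rw [hn]
    exact classInner_sum_irr _ ξ
  -- the element `θ` of `Tty`
  let θ0 : Tty (P : Subgroup G) := ⟨θ, fun z hz => hθP z (Subgroup.mem_subgroupOf.mp hz)⟩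
  have hna : ∀ μ : Lty p (P : Subgroup G), n (mulIrr μ θ) = a μ.1 := by
    intro μ
    have h1 := ha μ.1 μ.2
    rw [mult_eq] at h1
    have h2 := hnval (mulIrr μ θ)
    have h3 : ((n (mulIrr μ θ) : ℕ) : ℂ) = (a μ.1 : ℂ) := by
      rw [← h2, ← h1]
      rfl
    exact_mod_cast h3
  -- evaluate at a point
  have hpt : ∀ c : Subgroup.centralizer ((P : Subgroup G) : Set G), (χ : G → ℂ) c =
      ∑ θ' : Tty (P : Subgroup G), ∑ μ : Lty p (P : Subgroup G), (n (mulIrr μ θ'.1) : ℂ) *
        (μ.1 c * (θ'.1 : Subgroup.centralizer ((P : Subgroup G) : Set G) → ℂ) c) := by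
    intro c
    have h1 := congrFun hn c
    simp only [Finset.sum_apply, Pi.smul_apply, smul_eq_mul] at h1
    rw [h1, sum_irr_eq_sum_prod P hP]
    rfl
  -- the degree
  have hdeg : irrDeg χ = ∑ θ' : Tty (P : Subgroup G), ∑ μ : Lty p (P : Subgroup G),
      n (mulIrr μ θ'.1) * irrDeg θ'.1 := by
    have h1 := hpt 1
    have h2 : ((irrDeg χ : ℕ) : ℂ) = ((∑ θ' : Tty (P : Subgroup G), ∑ μ : Lty p (P : Subgroup G),
      n (mulIrr μ θ'.1) * irrDeg θ'.1 : ℕ) : ℂ) := by
      rw [← irrDeg_spec χ]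
      push_cast
      rw [← Subgroup.coe_one (Subgroup.centralizer ((P : Subgroup G) : Set G)), h1]
      refine Finset.sum_congr rfl fun θ' _ => Finset.sum_congr rfl fun μ _ => ?_
      rw [μ.2.one, one_mul, irrDeg_spec]
    exact_mod_cast h2
  -- the part over `θ`
  have hfin : ∑ᶠ μ : {μ : Subgroup.centralizer ((P : Subgroup G) : Set G) → ℂ // IsPLin p μ}, a μ.1
      = ∑ μ : Lty p (P : Subgroup G), a μ.1 := finsum_eq_sum_of_fintype _
  have hθpart : ∑ μ : Lty p (P : Subgroup G), n (mulIrr μ θ0.1) * irrDeg θ0.1 = irrDeg χ := by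
    rw [← hsum, hfin, Finset.mul_sum]
    refine Finset.sum_congr rfl fun μ _ => ?_
    rw [hna μ, mul_comm]
  -- the other parts vanish
  have hzero : ∀ θ' : Tty (P : Subgroup G), θ' ≠ θ0 → ∀ μ : Lty p (P : Subgroup G),
      n (mulIrr μ θ'.1) = 0 := by
    intro θ' hne μ
    have hsplit := Finset.add_sum_erase Finset.univ
      (fun θ' : Tty (P : Subgroup G) => ∑ μ : Lty p (P : Subgroup G),
        n (mulIrr μ θ'.1) * irrDeg θ'.1) (Finset.mem_univ θ0)
    rw [← hdeg, hθpart] at hsplit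
    have h0 : ∑ θ' ∈ Finset.univ.erase θ0, ∑ μ : Lty p (P : Subgroup G),
        n (mulIrr μ θ'.1) * irrDeg θ'.1 = 0 := by omega
    have h1 := (Finset.sum_eq_zero_iff.mp h0) θ' (Finset.mem_erase.mpr ⟨hne, Finset.mem_univ _⟩)
    have h2 := (Finset.sum_eq_zero_iff.mp h1) μ (Finset.mem_univ _)
    rcases Nat.mul_eq_zero.mp h2 with h | h
    · exact h
    · exact absurd h (irrDeg_pos θ'.1).ne'
  intro c
  rw [hpt c, finsum_eq_sum_of_fintype, Finset.sum_eq_single θ0]
  · refine Finset.sum_congr rfl fun μ _ => ?_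
    rw [hna μ]
  · intro θ' _ hne
    apply Finset.sum_eq_zero
    intro μ _
    rw [hzero θ' hne μ, Nat.cast_zero, zero_mul]
  · intro h
    exact absurd (Finset.mem_univ _) h

end Cfsg.Agent.S4705P
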