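import Mathlib
import Cfsg.Agent.Helper1.S4503Defs
import Cfsg.Agent.Helper1.D1PA
import Cfsg.Agent.Helper23.S4503LIN
import Cfsg.Agent.Helper23.S4503SHIFT
import Cfsg.Agent.Helper23.S4503ORB
import Cfsg.Agent.Helper11.D1QLb
import Cfsg.Agent.Helper18.D1QO

/-!
# S4503 piece PNORM: the inner products of `ψ ψ̄` and `ψ ψ̄₂` on `C = C_G(P)`
-/

set_option autoImplicit false

namespace Cfsg.Agent.Helper7.S4503PNORM

open Cfsg Cfsg.Agent.Helper24 Cfsg.Agent.Helper8.D1
open scoped ComplexConjugate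

section gen

variable {X : Type*} [Group X] [Fintype X]

/-- the inner product of a product of two multiplicity-free sums with a function `ν` that
multiplies irreducible characters to irreducible characters -/
theorem classInner_prod_sums (S S₂ : Finset (IrrCharacter X)) (ν : X → ℂ)
    (hν : ∀ ξ' : IrrCharacter X, IsIrrCharacter X (fun c => ν c * (ξ' : X → ℂ) c)) :
    classInner (fun c => (∑ ξ ∈ S, (ξ : X → ℂ) c) * conj (∑ ξ' ∈ S₂, (ξ' : X → ℂ) c)) ν =
      ∑ ξ ∈ S, ∑ ξ' ∈ S₂,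
        (if (ξ : X → ℂ) = (fun c => ν c * (ξ' : X → ℂ) c) then (1 : ℂ) else 0) := by
  classical
  have h1 : ∀ ξ ξ' : IrrCharacter X,
      classInner (ξ : X → ℂ) (fun c => ν c * (ξ' : X → ℂ) c) =
        if (ξ : X → ℂ) = (fun c => ν c * (ξ' : X → ℂ) c) then 1 else 0 := by
    intro ξ ξ'
    have h := classInner_irr ξ ⟨_, hν ξ'⟩
    rw [h]
    simp only [Subtype.ext_iff]
  simp only [← h1]
  have h2 : classInner (fun c => (∑ ξ ∈ S, (ξ : X → ℂ) c) * conj (∑ ξ' ∈ S₂, (ξ' : X → ℂ) c)) ν =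
      classInner (∑ ξ ∈ S, (ξ : X → ℂ)) (∑ ξ' ∈ S₂, (fun c => ν c * (ξ' : X → ℂ) c)) := by
    unfold classInner
    congr 1
    apply Finset.sum_congr rfl
    intro c _
    simp only [Finset.sum_apply, map_sum, map_mul, Finset.mul_sum, Finset.sum_mul]
    apply Finset.sum_congr rfl
    intro ξ' _
    apply Finset.sum_congr rfl
    intro ξ _
    ring
  rw [h2, classInner_sum_left]
  apply Finset.sum_congr rfl
  intro ξ _
  rw [classInner_sum_right]

end gen

section sub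

open Cfsg.Agent.S4705P Cfsg.Agent.S4503P

universe u

variable {G : Type u} [Group G] [Finite G]

/-- `⟨(A B̄)|_C, ν⟩` for `A`, `B` restricting to multiplicity-free sums on `C` -/
theorem mult_mulConj_eq (C : Subgroup G) [Fintype C] (A B : G → ℂ)
    (SA SB : Finset (IrrCharacter C))
    (hA : ∀ c : C, A c = ∑ ξ ∈ SA, (ξ : C → ℂ) c)
    (hB : ∀ c : C, B c = ∑ ξ ∈ SB, (ξ : C → ℂ) c) (ν : C → ℂ)
    (hν : ∀ ξ' : IrrCharacter C, IsIrrCharacter C (fun c => ν c * (ξ' : C → ℂ) c)) :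
    mult C ν (mulConj A B) = ∑ ξ ∈ SA, ∑ ξ' ∈ SB,
        (if (ξ : C → ℂ) = (fun c => ν c * (ξ' : C → ℂ) c) then (1 : ℂ) else 0) := by
  rw [mult_eq, ← classInner_prod_sums SA SB ν hν]
  congr 1
  funext c
  show A c * conj (B c) = _
  rw [hA, hB]

/-- the same as a natural number -/
theorem multN_mulConj_eq (C : Subgroup G) [Fintype C] (A B : G → ℂ)
    (hAB : IsCharacter G (mulConj A B))
    (SA SB : Finset (IrrCharacter C))
    (hA : ∀ c : C, A c = ∑ ξ ∈ SA, (ξ : C → ℂ) c)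
    (hB : ∀ c : C, B c = ∑ ξ ∈ SB, (ξ : C → ℂ) c) (ν : C → ℂ) (hνirr : IsIrrCharacter C ν)
    (hν : ∀ ξ' : IrrCharacter C, IsIrrCharacter C (fun c => ν c * (ξ' : C → ℂ) c)) :
    multN C ν (mulConj A B) = ∑ ξ ∈ SA, ∑ ξ' ∈ SB,
        (if (ξ : C → ℂ) = (fun c => ν c * (ξ' : C → ℂ) c) then 1 else 0) := by
  apply Nat.cast_injective (R := ℂ)
  rw [multN_cast C ν hνirr _ hAB, mult_mulConj_eq C A B SA SB hA hB ν hν]
  push_cast
  rfl

/-- `ν ↦ ν ξ'` is injective on the `p`-linear functions -/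
theorem pLin_mul_injective (p : ℕ) [Fact p.Prime] (P : Sylow p G) (hP : Nat.card P = p)
    (ξ ξ' : IrrCharacter (Subgroup.centralizer ((P : Subgroup G) : Set G)))
    (ν ν' : Subgroup.centralizer ((P : Subgroup G) : Set G) → ℂ) (hν : IsPLin p ν)
    (hν' : IsPLin p ν')
    (h1 : (ξ : Subgroup.centralizer ((P : Subgroup G) : Set G) → ℂ) =
      fun c => ν c * (ξ' : Subgroup.centralizer ((P : Subgroup G) : Set G) → ℂ) c)
    (h2 : (ξ : Subgroup.centralizer ((P : Subgroup G) : Set G) → ℂ) =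
      fun c => ν' c * (ξ' : Subgroup.centralizer ((P : Subgroup G) : Set G) → ℂ) c) :
    ν = ν' := by
  obtain ⟨hZ, hZc, hZi⟩ := Cfsg.Agent.Helper18.D1QO.subgroupOf_facts P hP
  obtain ⟨pr, hpr, -⟩ := Cfsg.Agent.Helper11.D1QL.exists_unique_decomp _ hZ hZc hZi ξ'
  obtain ⟨pr2, -, huniq⟩ := Cfsg.Agent.Helper11.D1QL.exists_unique_decomp _ hZ hZc hZi ξ
  have e1 := huniq (⟨fun c => ν c * pr.1.1 c, hν.mul' pr.1.2⟩, pr.2) (by
    rw [h1, hpr]
    funext c
    simp only
    ring)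
  have e2 := huniq (⟨fun c => ν' c * pr.1.1 c, hν'.mul' pr.1.2⟩, pr.2) (by
    rw [h2, hpr]
    funext c
    simp only
    ring)
  have e3 := e1.trans e2.symm
  have h3 : (fun c => ν c * pr.1.1 c) = (fun c => ν' c * pr.1.1 c) :=
    congrArg (fun q => q.1.1) e3
  funext c
  have h4 := congrFun h3 c
  exact mul_right_cancel₀ (pr.1.2.ne_zero c) h4

end sub

end Cfsg.Agent.Helper7.S4503PNORM

namespace Cfsg.Agent.S4503P

open Cfsg Cfsg.Agent.Helper24 Cfsg.Agent.Helper8.D1 Cfsg.Agent.S4705P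
open Cfsg.Agent.Helper7.S4503PNORM
open scoped ComplexConjugate

universe u

variable {G : Type u} [Group G] [Finite G]

theorem psi_norms (p : ℕ) [Fact p.Prime] (P : Sylow p G) (hP : Nat.card P = p)
    (ψ ψ₂ : IrrCharacter G) (D : PsiSets p P ψ ψ₂) :
    multN (Subgroup.centralizer ((P : Subgroup G) : Set G)) (triv _)
      (mulConj (ψ : G → ℂ) (ψ : G → ℂ)) = fN (P : Subgroup G) ∧
    multN (Subgroup.centralizer ((P : Subgroup G) : Set G)) (triv _)
      (mulConj (ψ : G → ℂ) (ψ₂ : G → ℂ)) = 0 ∧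
    ∑ᶠ ν ∈ {ν : Subgroup.centralizer ((P : Subgroup G) : Set G) → ℂ | IsPLin p ν},
      multN (Subgroup.centralizer ((P : Subgroup G) : Set G)) ν
        (mulConj (ψ : G → ℂ) (ψ : G → ℂ)) ≤ fN (P : Subgroup G) ^ 2 ∧
    ∑ᶠ x : (P : Subgroup G), (ψ : G → ℂ) (x : G) * conj ((ψ₂ : G → ℂ) (x : G)) = 0 := by
  classical
  have _iC : Fintype (Subgroup.centralizer ((P : Subgroup G) : Set G)) := Fintype.ofFinite _
  have hψ : IsCharacter G (ψ : G → ℂ) := IsIrrCharacter.isCharacter ψ.2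
  have hψ₂ : IsCharacter G (ψ₂ : G → ℂ) := IsIrrCharacter.isCharacter ψ₂.2
  have h11 : IsCharacter G (mulConj (ψ : G → ℂ) (ψ : G → ℂ)) := isCharacter_mulConj _ _ hψ hψ
  have h12 : IsCharacter G (mulConj (ψ : G → ℂ) (ψ₂ : G → ℂ)) := isCharacter_mulConj _ _ hψ hψ₂
  have hpl : ∀ ν : Subgroup.centralizer ((P : Subgroup G) : Set G) → ℂ, IsPLin p ν →
      ∀ ξ' : IrrCharacter (Subgroup.centralizer ((P : Subgroup G) : Set G)),
        IsIrrCharacter (Subgroup.centralizer ((P : Subgroup G) : Set G))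
          (fun c => ν c * (ξ' : Subgroup.centralizer ((P : Subgroup G) : Set G) → ℂ) c) :=
    fun ν hν ξ' => hν.isIrr_mul ξ'.2
  have htriv : IsPLin p (triv (Subgroup.centralizer ((P : Subgroup G) : Set G))) := isPLin_one p
  have htrivmul : ∀ ξ ξ' : IrrCharacter (Subgroup.centralizer ((P : Subgroup G) : Set G)),
      ((ξ : Subgroup.centralizer ((P : Subgroup G) : Set G) → ℂ) =
        fun c => triv (Subgroup.centralizer ((P : Subgroup G) : Set G)) c *
          (ξ' : Subgroup.centralizer ((P : Subgroup G) : Set G) → ℂ) c) ↔ ξ = ξ' := by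
    intro ξ ξ'
    have e : (fun c => triv (Subgroup.centralizer ((P : Subgroup G) : Set G)) c *
        (ξ' : Subgroup.centralizer ((P : Subgroup G) : Set G) → ℂ) c) =
        (ξ' : Subgroup.centralizer ((P : Subgroup G) : Set G) → ℂ) := by
      funext c
      simp [triv]
    rw [e, Subtype.ext_iff]
  -- the two orbits are disjoint
  have hdisj : ∀ ξ ∈ D.S, ∀ ξ' ∈ D.S₂, ξ ≠ ξ' := by
    intro ξ hξ ξ' hξ' heq
    have h0 := D.orth ξ hξ ξ' hξ'
    rw [← heq, finsum_mem_eq_finite_toFinset_sum _ (Set.toFinite _)] at h0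
    have h1 : ∀ c : Subgroup.centralizer ((P : Subgroup G) : Set G),
        (ξ : Subgroup.centralizer ((P : Subgroup G) : Set G) → ℂ) c *
          conj ((ξ : Subgroup.centralizer ((P : Subgroup G) : Set G) → ℂ) c) =
        ((Complex.normSq ((ξ : Subgroup.centralizer ((P : Subgroup G) : Set G) → ℂ) c) : ℝ) : ℂ) :=
      fun c => Complex.mul_conj _
    simp only [h1] at h0
    rw [← Complex.ofReal_sum, Complex.ofReal_eq_zero] at h0
    have h2 := (Finset.sum_eq_zero_iff_of_nonneg (fun c _ => Complex.normSq_nonneg _)).mp h0 1 (by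
      rw [Set.Finite.mem_toFinset]
      show ((1 : Subgroup.centralizer ((P : Subgroup G) : Set G)) : G) ∈ (P : Subgroup G)
      rw [Subgroup.coe_one]
      exact Subgroup.one_mem _)
    rw [Complex.normSq_eq_zero] at h2
    exact Cfsg.Agent.Helper11.D1QL.irr_one_ne_zero ξ h2
  refine ⟨?_, ?_, ?_, ?_⟩
  · rw [multN_mulConj_eq _ _ _ h11 D.S D.S D.resψ D.resψ _ (isIrrCharacter_triv _) (hpl _ htriv),
      ← D.cardS, Finset.card_eq_sum_ones]
    apply Finset.sum_congr rfl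
    intro ξ hξ
    simp only [htrivmul, Finset.sum_ite_eq, hξ, if_true]
  · rw [multN_mulConj_eq _ _ _ h12 D.S D.S₂ D.resψ D.resψ₂ _ (isIrrCharacter_triv _) (hpl _ htriv)]
    apply Finset.sum_eq_zero
    intro ξ hξ
    apply Finset.sum_eq_zero
    intro ξ' hξ'
    exact if_neg (fun h => hdisj ξ hξ ξ' hξ' ((htrivmul ξ ξ').mp h))
  · have hfin := Cfsg.Agent.Helper23.S4503SHIFT.finite_isPLin p P hP
    rw [finsum_mem_eq_finite_toFinset_sum _ hfin]
    have hterm : ∀ ν ∈ hfin.toFinset,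
        multN (Subgroup.centralizer ((P : Subgroup G) : Set G)) ν
          (mulConj (ψ : G → ℂ) (ψ : G → ℂ)) = ∑ ξ ∈ D.S, ∑ ξ' ∈ D.S,
        (if (ξ : Subgroup.centralizer ((P : Subgroup G) : Set G) → ℂ) =
          (fun c => ν c * (ξ' : Subgroup.centralizer ((P : Subgroup G) : Set G) → ℂ) c)
          then 1 else 0) := by
      intro ν hν
      have hν' : IsPLin p ν := hfin.mem_toFinset.mp hν
      exact multN_mulConj_eq _ _ _ h11 D.S D.S D.resψ D.resψ ν
        (isIrrCharacter_of_isPLin p P ν hν') (hpl ν hν')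
    rw [Finset.sum_congr rfl hterm, Finset.sum_comm]
    have hle : ∀ ξ ∈ D.S, ∑ ν ∈ hfin.toFinset, ∑ ξ' ∈ D.S,
        (if (ξ : Subgroup.centralizer ((P : Subgroup G) : Set G) → ℂ) =
          (fun c => ν c * (ξ' : Subgroup.centralizer ((P : Subgroup G) : Set G) → ℂ) c)
          then 1 else 0) ≤ D.S.card := by
      intro ξ _
      rw [Finset.sum_comm, Finset.card_eq_sum_ones]
      apply Finset.sum_le_sum
      intro ξ' _
      rw [← Finset.card_filter]
      apply Finset.card_le_one.mpr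
      intro ν hν ν' hν'
      rw [Finset.mem_filter] at hν hν'
      exact pLin_mul_injective p P hP ξ ξ' ν ν' (hfin.mem_toFinset.mp hν.1)
        (hfin.mem_toFinset.mp hν'.1) hν.2 hν'.2
    calc ∑ ξ ∈ D.S, ∑ ν ∈ hfin.toFinset, ∑ ξ' ∈ D.S,
        (if (ξ : Subgroup.centralizer ((P : Subgroup G) : Set G) → ℂ) =
          (fun c => ν c * (ξ' : Subgroup.centralizer ((P : Subgroup G) : Set G) → ℂ) c)
          then 1 else 0) ≤ ∑ _ξ ∈ D.S, D.S.card := Finset.sum_le_sum hle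
      _ = fN (P : Subgroup G) ^ 2 := by
        rw [Finset.sum_const, smul_eq_mul, D.cardS, sq]
  · have hle := Cfsg.Agent.Helper1.D1PA.le_centralizer P hP
    let e : (P : Subgroup G) ≃
        {c : Subgroup.centralizer ((P : Subgroup G) : Set G) | (c : G) ∈ (P : Subgroup G)} :=
      { toFun := fun x => ⟨⟨x.1, hle x.2⟩, x.2⟩
        invFun := fun c => ⟨c.1.1, c.2⟩
        left_inv := fun x => rfl
        right_inv := fun c => rfl }
    have h1 : ∑ᶠ x : (P : Subgroup G), (ψ : G → ℂ) (x : G) * conj ((ψ₂ : G → ℂ) (x : G)) =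
        ∑ᶠ c ∈ {c : Subgroup.centralizer ((P : Subgroup G) : Set G) | (c : G) ∈ (P : Subgroup G)},
          (ψ : G → ℂ) (c : G) * conj ((ψ₂ : G → ℂ) (c : G)) := by
      rw [← finsum_set_coe_eq_finsum_mem, ← finsum_comp_equiv e]
      rfl
    rw [h1, finsum_mem_eq_finite_toFinset_sum _ (Set.toFinite _)]
    have h2 : ∀ c : Subgroup.centralizer ((P : Subgroup G) : Set G),
        (ψ : G → ℂ) (c : G) * conj ((ψ₂ : G → ℂ) (c : G)) = ∑ ξ ∈ D.S, ∑ ξ' ∈ D.S₂,
          (ξ : Subgroup.centralizer ((P : Subgroup G) : Set G) → ℂ) c *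
            conj ((ξ' : Subgroup.centralizer ((P : Subgroup G) : Set G) → ℂ) c) := by
      intro c
      rw [D.resψ, D.resψ₂, map_sum, Finset.sum_mul_sum]
    simp only [h2]
    rw [Finset.sum_comm]
    apply Finset.sum_eq_zero
    intro ξ hξ
    rw [Finset.sum_comm]
    apply Finset.sum_eq_zero
    intro ξ' hξ'
    have h0 := D.orth ξ hξ ξ' hξ'
    rw [finsum_mem_eq_finite_toFinset_sum _ (Set.toFinite _)] at h0
    exact h0

end Cfsg.Agent.S4503P
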