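import Mathlib
import Cfsg.Prelude.Def_Blocks
import Cfsg.Prelude.Def_BlockRank
import Cfsg.Agent.Helper5.S4607Defs
import Cfsg.Agent.Helper5.GCo

/-!
# S4607, piece RESDET: the residue map commutes with determinants
-/

set_option autoImplicit false

namespace Cfsg.Agent.S4607P

open Cfsg Cfsg.Agent.Helper5.Res Cfsg.Agent.Helper5.CC Cfsg.Agent.Helper24

section Reduction

variable {M : Ideal AlgInt} [hMax : M.IsMaximal]

/-- RESDET: the residue map commutes with determinants -/
theorem res_det {n : Type*} [Fintype n] [DecidableEq n] (A : Matrix n n ℂ)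
    (hA : ∀ i j, MemLocalRing M (A i j)) :
    MemLocalRing M A.det ∧ res M A.det = (A.map (res M)).det := by
  have hMp := hMax.isPrime
  refine ⟨?_, ?_⟩
  · rw [Matrix.det_apply]
    apply Cfsg.Agent.Helper5.Loc.lr_sum hMp
    intro σ _
    rw [Units.smul_def, zsmul_eq_mul]
    exact Cfsg.Agent.Helper5.Loc.lr_mul hMp (Cfsg.Agent.Helper5.Loc.memLocalRing_intCast hMp _)
      (Cfsg.Agent.Helper5.Loc.lr_prod hMp _ _ (fun i _ => hA _ _))
  · rw [Cfsg.Agent.Helper5.GC.res_det A hA]
    rfl

end Reduction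

end Cfsg.Agent.S4607P
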