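import Mathlib
import Cfsg.Prelude.Def_Blocks
import Cfsg.Prelude.Def_BlockRank
import Cfsg.Agent.Helper5.S4607Defs
import Cfsg.Agent.Helper3.S4607GCENTER
import Cfsg.Agent.Helper3.S4607RED

/-!
# S4607, piece REDCEN: reductions of class functions are central
-/

set_option autoImplicit false

namespace Cfsg.Agent.S4607P

open Cfsg Cfsg.Agent.Helper5.Res Cfsg.Agent.Helper5.CC Cfsg.Agent.Helper24

section Reduction

variable {M : Ideal AlgInt} [hMax : M.IsMaximal]

variable {G : Type*} [Group G] [Fintype G]

/-- REDCEN: reductions of class functions are central -/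
theorem red_mem_center (a : G → ℂ) (ha : IsClassFunction G a) :
    red M a ∈ Subalgebra.center (AlgInt ⧸ M) (MonoidAlgebra (AlgInt ⧸ M) G) := by
  rw [mem_center_iff]
  intro g x
  rw [red_coeff, red_coeff, ha g x]

end Reduction

end Cfsg.Agent.S4607P
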