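import Mathlib
import Cfsg.Prelude.Def_Blocks
import Cfsg.Prelude.Def_BlockRank
import Cfsg.Agent.Helper5.S4607Defs
import Cfsg.Agent.Helper5.Osima
import Cfsg.Agent.Helper5.BrauerMap2
import Cfsg.Agent.Helper5.BlockBasic
import Cfsg.Agent.Helper7.S4607REDCEN
import Cfsg.Agent.Helper3.S4607RED

/-!
# S4607, piece EPS: the reduced block idempotent is a central idempotent
-/

set_option autoImplicit false

namespace Cfsg.Agent.S4607P

open Cfsg Cfsg.Agent.Helper5.Res Cfsg.Agent.Helper5.CC Cfsg.Agent.Helper24

section Block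

variable {M : Ideal AlgInt} [hMax : M.IsMaximal] {G : Type*} [Group G] [Fintype G]
  [Fintype (IrrCharacter G)]

/-- EPS: the reduced block idempotent is a central idempotent -/
theorem eps_mul_eps (B : Set (IrrCharacter G)) (hB : IsPBlock M B) :
    eps M B * eps M B = eps M B := by
  have hMp := hMax.isPrime
  have hlr := osima hMp B hB
  unfold eps
  rw [← red_conv _ _ hlr hlr, conv_blockCoeff_self]

theorem eps_mem_center (B : Set (IrrCharacter G)) :
    eps M B ∈ Subalgebra.center (AlgInt ⧸ M) (MonoidAlgebra (AlgInt ⧸ M) G) :=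
  red_mem_center _ (isClassFunction_blockCoeff B)

end Block

end Cfsg.Agent.S4607P
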