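import Mathlib
import Cfsg.Prelude.Def_Blocks
import Cfsg.Prelude.Def_BlockRank
import Cfsg.Agent.Helper5.S4607Defs
import Cfsg.Agent.Helper3.S4607RED

/-!
# S4607, piece REDCMAT: the class matrix of a reduction is the reduction of the class matrix
-/

set_option autoImplicit false

namespace Cfsg.Agent.S4607P

open Cfsg Cfsg.Agent.Helper5.Res Cfsg.Agent.Helper5.CC Cfsg.Agent.Helper24

section Reduction

variable {M : Ideal AlgInt} [hMax : M.IsMaximal]

variable {G : Type*} [Group G] [Fintype G]

/-- REDCMAT: the class matrix of a reduction is the reduction of the class matrix -/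
theorem cmat_red (a : G → ℂ) (ha : ∀ g, MemLocalRing M (a g)) :
    cmat (fun g => (red M a).coeff g) = (cmat a).map (res M) ∧
      ∀ K L, MemLocalRing M (cmat a K L) := by
  classical
  have hMp := hMax.isPrime
  have hlr : ∀ (K L : ConjClasses G) (h : G),
      MemLocalRing M (if ConjClasses.mk h = L then a (rep K * h⁻¹) else 0) := by
    intro K L h
    split_ifs
    · exact ha _
    · exact Cfsg.Agent.Helper5.Loc.memLocalRing_zero hMp
  refine ⟨?_, ?_⟩
  · ext K L
    rw [Matrix.map_apply]
    unfold cmat
    rw [res_sum _ _ (fun h _ => hlr K L h)]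
    apply Finset.sum_congr rfl
    intro h _
    split_ifs
    · exact red_coeff a _
    · rw [res_zero]
  · intro K L
    exact Cfsg.Agent.Helper5.Loc.lr_sum hMp _ _ (fun h _ => hlr K L h)

end Reduction

end Cfsg.Agent.S4607P
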