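import Cfsg.Agent.Helper7.S5639KEQ

set_option autoImplicit false

/-! S5639 piece KFIELD (driver helper1; helper7): the common value of the sets `Kij` is a subfield
containing `F₀`. -/

namespace Cfsg.Agent.S5639P

open Matrix
open Cfsg.Agent.Helper28.SLMax Cfsg.Agent.Helper28.SimMax

variable {F : Type*} [Field F] {n : ℕ}

local notation "GLn" => Matrix.GeneralLinearGroup (Fin n) F
local notation "Mat" => Matrix (Fin n) (Fin n) F

namespace KFIELD

/-- in a finite field the inverse is a power -/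
theorem inv_eq_pow [Finite F] (c : F) (hc : c ≠ 0) : ∃ k : ℕ, c⁻¹ = c ^ k := by
  have : Fintype F := Fintype.ofFinite F
  refine ⟨Fintype.card F - 2, ?_⟩
  have h1 := FiniteField.pow_card_sub_one_eq_one c hc
  have h2 : 2 ≤ Fintype.card F := Fintype.one_lt_card
  have h3 : Fintype.card F - 1 = (Fintype.card F - 2) + 1 := by omega
  rw [h3, pow_succ] at h1
  exact (eq_inv_of_mul_eq_one_left h1).symm

end KFIELD

/-- KFIELD: the common value of the `Kij` is a subfield containing `F₀`. -/
theorem KFIELD.exists_subfield [Finite F] (F₀ : Subfield F) (hn : 3 ≤ n) (M : Subgroup GLn)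
    (hM : HasRat F₀ M) :
    ∃ K : Subfield F, F₀ ≤ K ∧ ∀ i j : Fin n, i ≠ j → Kij M i j = (K : Set F) := by
  let i0 : Fin n := ⟨0, by omega⟩
  let i1 : Fin n := ⟨1, by omega⟩
  let i2 : Fin n := ⟨2, by omega⟩
  have h01 : i0 ≠ i1 := by intro h; have := congrArg Fin.val h; simp [i0, i1] at this
  have h12 : i1 ≠ i2 := by intro h; have := congrArg Fin.val h; simp [i1, i2] at this
  have h02 : i0 ≠ i2 := by intro h; have := congrArg Fin.val h; simp [i0, i2] at this
  have hmul : ∀ c d : F, c ∈ Kij M i0 i1 → d ∈ Kij M i0 i1 → c * d ∈ Kij M i0 i1 := by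
    intro c d hc hd
    rw [KEQ.kij_eq F₀ hn M hM i0 i1 i1 i2 h01 h12] at hd
    have := KMUL.kij_mul M i0 i1 i2 h01 h12 h02 hc hd
    rw [KEQ.kij_eq F₀ hn M hM i0 i1 i0 i2 h01 h02]
    exact this
  have hone : (1 : F) ∈ Kij M i0 i1 := KADD.kij_rat F₀ M hM i0 i1 h01 F₀.one_mem
  have hzero : (0 : F) ∈ Kij M i0 i1 := KADD.kij_rat F₀ M hM i0 i1 h01 F₀.zero_mem
  have hpow : ∀ (c : F) (k : ℕ), c ∈ Kij M i0 i1 → c ^ k ∈ Kij M i0 i1 := by
    intro c k hc
    induction k with
    | zero => rw [pow_zero]; exact hone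
    | succ k ih => rw [pow_succ]; exact hmul _ _ ih hc
  let K : Subfield F :=
    { carrier := Kij M i0 i1
      mul_mem' := fun {a b} ha hb => hmul a b ha hb
      one_mem' := hone
      add_mem' := fun {a b} ha hb => KADD.kij_add M i0 i1 h01 ha hb
      zero_mem' := hzero
      neg_mem' := fun {a} ha => KADD.kij_neg M i0 i1 h01 ha
      inv_mem' := by
        intro a ha
        by_cases h0 : a = 0
        · rw [h0, _root_.inv_zero]; exact hzero
        · obtain ⟨k, hk⟩ := KFIELD.inv_eq_pow a h0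
          rw [hk]
          exact hpow a k ha }
  refine ⟨K, ?_, ?_⟩
  · intro c hc
    exact KADD.kij_rat F₀ M hM i0 i1 h01 hc
  · intro i j hij
    exact KEQ.kij_eq F₀ hn M hM i j i0 i1 hij h01

end Cfsg.Agent.S5639P
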