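import Mathlib
import Cfsg.Prelude.Def_ClassicalGeometry
import Cfsg.Agent.Helper16.S5955Defs

/-!
# S5955, piece PRODB: orthogonal sums of `IsYSp` spaces
-/

set_option autoImplicit false
set_option linter.unusedSectionVars false
open scoped MatrixGroups

universe u

namespace Cfsg.Agent.S5955P

open Polynomial Cfsg.Agent.Helper2.SympInvol Cfsg.Agent.Helper2.SympUnits Cfsg.Agent.S5961P

namespace PRODB

variable {F V₁ V₂ : Type*} [Field F] [AddCommGroup V₁] [Module F V₁]
    [AddCommGroup V₂] [Module F V₂]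

/-- the product of two submodules, as a module, is the product of the two modules -/
def prodSubEquiv (p : Submodule F V₁) (q : Submodule F V₂) : ↥(p.prod q) ≃ₗ[F] ↥p × ↥q where
  toFun x := (⟨x.1.1, (Submodule.mem_prod.1 x.2).1⟩, ⟨x.1.2, (Submodule.mem_prod.1 x.2).2⟩)
  invFun y := ⟨(y.1.1, y.2.1), Submodule.mem_prod.2 ⟨y.1.2, y.2.2⟩⟩
  map_add' _ _ := rfl
  map_smul' _ _ := rfl
  left_inv _ := rfl
  right_inv _ := rfl

theorem finrank_prod_sub [FiniteDimensional F V₁] [FiniteDimensional F V₂]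
    (p : Submodule F V₁) (q : Submodule F V₂) :
    Module.finrank F ↥(p.prod q) = Module.finrank F ↥p + Module.finrank F ↥q := by
  rw [(prodSubEquiv p q).finrank_eq, Module.finrank_prod]

theorem prodMap_eq (y₁ : Module.End F V₁) (y₂ : Module.End F V₂) :
    y₁.prodMap y₂ = LinearMap.prodMapAlgHom F V₁ V₂ (y₁, y₂) := rfl

theorem aeval_prodMap (y₁ : Module.End F V₁) (y₂ : Module.End F V₂) (g : F[X]) :
    aeval (y₁.prodMap y₂) g = (aeval y₁ g).prodMap (aeval y₂ g) := by
  rw [prodMap_eq, Polynomial.aeval_algHom_apply, Polynomial.aeval_prod_apply]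
  rfl

theorem prodMap_sub_one (y₁ : Module.End F V₁) (y₂ : Module.End F V₂) :
    y₁.prodMap y₂ - 1 = (y₁ - 1).prodMap (y₂ - 1) := by
  apply LinearMap.ext
  intro x
  rfl

theorem prodMap_pow (y₁ : Module.End F V₁) (y₂ : Module.End F V₂) (k : ℕ) :
    (y₁.prodMap y₂) ^ k = (y₁ ^ k).prodMap (y₂ ^ k) := by
  rw [prodMap_eq, ← map_pow]
  rfl

end PRODB

open PRODB in
/-- PRODB -/
theorem prod_isYSp {F V₁ V₂ : Type*} [Field F] [AddCommGroup V₁] [Module F V₁]
    [FiniteDimensional F V₁] [AddCommGroup V₂] [Module F V₂] [FiniteDimensional F V₂]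
    (B₁ : LinearMap.BilinForm F V₁) (B₂ : LinearMap.BilinForm F V₂)
    (y₁ : Module.End F V₁) (y₂ : Module.End F V₂) (r : ℕ)
    (h₁ : IsYSp B₁ y₁ r) (h₂ : IsYSp B₂ y₂ r) :
    IsYSp (prodB B₁ B₂) (y₁.prodMap y₂) r ∧
    Module.finrank F (LinearMap.ker (y₁.prodMap y₂ - 1)) =
      Module.finrank F (LinearMap.ker (y₁ - 1)) + Module.finrank F (LinearMap.ker (y₂ - 1)) ∧
    ∀ g : F[X],
      Module.finrank F ↥(LinearMap.range (y₁.prodMap y₂ - 1) ⊓
        LinearMap.ker (aeval (y₁.prodMap y₂) g)) =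
      Module.finrank F ↥(LinearMap.range (y₁ - 1) ⊓ LinearMap.ker (aeval y₁ g)) +
      Module.finrank F ↥(LinearMap.range (y₂ - 1) ⊓ LinearMap.ker (aeval y₂ g)) := by
  classical
  refine ⟨⟨?_, ?_, ?_, ?_⟩, ?_, ?_⟩
  · intro v
    rw [prodB_apply, h₁.alt, h₂.alt, add_zero]
  · intro m _ hm
    by_cases hm1 : m.1 = 0
    · have hm2 : m.2 ≠ 0 := by
        intro h
        apply hm
        exact Prod.ext hm1 h
      obtain ⟨v, -, hv⟩ := h₂.nondeg m.2 trivial hm2
      refine ⟨(0, v), trivial, ?_⟩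
      rw [prodB_apply]
      simpa using hv
    · obtain ⟨v, -, hv⟩ := h₁.nondeg m.1 trivial hm1
      refine ⟨(v, 0), trivial, ?_⟩
      rw [prodB_apply]
      simpa using hv
  · intro u v
    rw [prodB_apply, prodB_apply, LinearMap.prodMap_apply, LinearMap.prodMap_apply]
    simp only
    rw [h₁.isom, h₂.isom]
  · rw [prodMap_pow, h₁.pow, h₂.pow, LinearMap.prodMap_one]
  · rw [prodMap_sub_one, LinearMap.ker_prodMap, finrank_prod_sub]
  · intro g
    rw [prodMap_sub_one, aeval_prodMap, LinearMap.ker_prodMap, LinearMap.range_prodMap,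
      Submodule.prod_inf_prod, finrank_prod_sub]

end Cfsg.Agent.S5955P
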