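import Cfsg.Agent.Helper7.FieldPSp3
import Cfsg.Agent.Helper12.SpSylowA

/-!
# Field automorphisms of `PSp_{2m}(q)`, part 4 (helper7)

Speiser's theorem for matrices over an arbitrary finite index type, the descent data of the
fixed field of a field automorphism, and Gram matrices of alternating forms.
-/

set_option autoImplicit false
set_option linter.unusedSectionVars false
set_option linter.unusedVariables false

namespace Cfsg.Agent.Helper7.FieldPSp

open Matrix
open Cfsg.Agent.Helper7.FieldPSL (FDesc nrmF nrmF_zero nrmF_succ)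

section speiser

variable {F : Type*} [Field F] {ι : Type*} [Fintype ι] [DecidableEq ι]

/-- the entrywise action on vectors -/
def vmapS (τ : F ≃+* F) (v : ι → F) : ι → F := fun k => τ (v k)

theorem vmapS_smul (τ : F ≃+* F) (c : F) (v : ι → F) : vmapS τ (c • v) = τ c • vmapS τ v := by
  funext k
  exact map_mul τ _ _

theorem vmapS_mulVec (τ : F ≃+* F) (M : Matrix ι ι F) (v : ι → F) :
    vmapS τ (M *ᵥ v) = M.map τ *ᵥ vmapS τ v := by
  funext i
  simp only [vmapS, Matrix.mulVec, dotProduct, map_sum, map_mul, Matrix.map_apply]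

theorem vmapS_sum {κ : Type*} (τ : F ≃+* F) (s : Finset κ) (f : κ → ι → F) :
    vmapS τ (∑ i ∈ s, f i) = ∑ i ∈ s, vmapS τ (f i) := by
  funext k
  simp only [vmapS, Finset.sum_apply, map_sum]

theorem vmapS_one (v : ι → F) : vmapS (1 : F ≃+* F) v = v := rfl

theorem vmapS_mul (τ ρ : F ≃+* F) (v : ι → F) : vmapS (τ * ρ) v = vmapS τ (vmapS ρ v) := rfl

/-- the partial norms `G σ(G) ⋯ σ^{i-1}(G)` of a matrix -/
def nrmMs (σ : F ≃+* F) (G : Matrix ι ι F) : ℕ → Matrix ι ι F
  | 0 => 1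
  | i + 1 => G * (nrmMs σ G i).map σ

theorem nrmMs_zero (σ : F ≃+* F) (G : Matrix ι ι F) : nrmMs σ G 0 = 1 := rfl

theorem nrmMs_succ (σ : F ≃+* F) (G : Matrix ι ι F) (i : ℕ) :
    nrmMs σ G (i + 1) = G * (nrmMs σ G i).map σ := rfl

theorem map_pow_apply_gen (σ : F ≃+* F) (i : ℕ) (M : Matrix ι ι F) :
    (M.map (σ ^ i : F ≃+* F)).map σ = M.map (σ ^ (i + 1) : F ≃+* F) := by
  ext a b
  simp only [Matrix.map_apply]
  rw [pow_succ']
  rfl

/-- the other recursion -/
theorem nrmMs_succ' (σ : F ≃+* F) (G : Matrix ι ι F) (i : ℕ) :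
    nrmMs σ G (i + 1) = nrmMs σ G i * G.map (σ ^ i : F ≃+* F) := by
  induction i with
  | zero =>
    rw [nrmMs_succ, nrmMs_zero, Matrix.one_mul, pow_zero]
    have h1 : (1 : Matrix ι ι F).map σ = 1 := by
      rw [← RingEquiv.coe_toRingHom, ← RingHom.mapMatrix_apply, map_one]
    have h2 : G.map (1 : F ≃+* F) = G := by
      ext a b
      rfl
    rw [h1, h2, Matrix.mul_one]
  | succ i ih =>
    have h1 : (nrmMs σ G i * G.map (σ ^ i : F ≃+* F)).map σ
        = (nrmMs σ G i).map σ * (G.map (σ ^ i : F ≃+* F)).map σ := by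
      ext a b
      simp only [Matrix.map_apply, Matrix.mul_apply, map_sum, map_mul]
    calc nrmMs σ G (i + 1 + 1) = G * (nrmMs σ G (i + 1)).map σ := nrmMs_succ σ G (i + 1)
      _ = G * ((nrmMs σ G i).map σ * (G.map (σ ^ i : F ≃+* F)).map σ) := by rw [ih, h1]
      _ = (G * (nrmMs σ G i).map σ) * G.map (σ ^ (i + 1) : F ≃+* F) := by
          rw [map_pow_apply_gen, Matrix.mul_assoc]
      _ = nrmMs σ G (i + 1) * G.map (σ ^ (i + 1) : F ≃+* F) := by rw [← nrmMs_succ]

theorem nrmMs_smul (σ : F ≃+* F) (c : F) (G : Matrix ι ι F) (i : ℕ) :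
    nrmMs σ (c • G) i = nrmF σ c i • nrmMs σ G i := by
  induction i with
  | zero => rw [nrmMs_zero, nrmMs_zero, nrmF_zero, one_smul]
  | succ i ih =>
    rw [nrmMs_succ, nrmMs_succ, ih, nrmF_succ]
    ext a b
    simp only [Matrix.mul_apply, Matrix.smul_apply, Matrix.map_apply, smul_eq_mul, map_mul,
      Finset.mul_sum]
    apply Finset.sum_congr rfl
    intro k _
    ring

/-- **Speiser's theorem** (Hilbert 90 for `GL`), cyclic case, arbitrary finite index type -/
theorem speiser_gen (σ : F ≃+* F) (G : Matrix ι ι F) (hN : nrmMs σ G (orderOf σ) = 1)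
    (hr : 0 < orderOf σ) :
    ∃ A : Matrix ι ι F, IsUnit A ∧ G * A.map σ = A := by
  classical
  set r := orderOf σ with hrdef
  have hσr : σ ^ r = 1 := pow_orderOf_eq_one σ
  let t : (ι → F) → ℕ → (ι → F) := fun v i => nrmMs σ G i *ᵥ vmapS (σ ^ i) v
  let b : (ι → F) → (ι → F) := fun v => ∑ i ∈ Finset.range r, t v i
  let S : Set (ι → F) := {w | G *ᵥ vmapS σ w = w}
  have ht : ∀ v i, G *ᵥ vmapS σ (t v i) = t v (i + 1) := by
    intro v i
    show G *ᵥ vmapS σ (nrmMs σ G i *ᵥ vmapS (σ ^ i) v)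
      = nrmMs σ G (i + 1) *ᵥ vmapS (σ ^ (i + 1)) v
    rw [vmapS_mulVec, Matrix.mulVec_mulVec, ← nrmMs_succ, pow_succ', vmapS_mul]
  have ht0 : ∀ v, t v 0 = v := by
    intro v
    show nrmMs σ G 0 *ᵥ vmapS (σ ^ 0) v = v
    rw [nrmMs_zero, pow_zero, Matrix.one_mulVec, vmapS_one]
  have htr : ∀ v, t v r = v := by
    intro v
    show nrmMs σ G r *ᵥ vmapS (σ ^ r) v = v
    rw [hN, hσr, Matrix.one_mulVec, vmapS_one]
  have hS1 : ∀ v, b v ∈ S := by
    intro v
    show G *ᵥ vmapS σ (∑ i ∈ Finset.range r, t v i) = ∑ i ∈ Finset.range r, t v i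
    rw [vmapS_sum, Matrix.mulVec_sum]
    simp_rw [ht]
    have h1 := Finset.sum_range_succ (t v) r
    have h2 := Finset.sum_range_succ' (t v) r
    rw [h1, htr, ht0] at h2
    exact (add_right_cancel h2).symm
  have hli : LinearIndependent F (fun i : Fin r => ((σ ^ (i : ℕ) : F ≃+* F) : F → F)) := by
    have h0 := linearIndependent_monoidHom F F
    have hinj : Function.Injective
        (fun i : Fin r => (MonoidHomClass.toMonoidHom (σ ^ (i : ℕ) : F ≃+* F) : F →* F)) := by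
      intro i j hij
      have h1 : (σ ^ (i : ℕ) : F ≃+* F) = σ ^ (j : ℕ) := by
        ext x
        exact DFunLike.congr_fun hij x
      apply Fin.ext
      exact pow_injOn_Iio_orderOf (x := σ) (Set.mem_Iio.2 i.2) (Set.mem_Iio.2 j.2) h1
    exact h0.comp _ hinj
  have hspan : Submodule.span F S = ⊤ := by
    by_contra hne
    obtain ⟨u, hu0, hu⟩ := Submodule.exists_le_ker_of_lt_top _ (lt_top_iff_ne_top.2 hne)
    apply hu0
    refine LinearMap.ext fun v => ?_
    have h1 : ∀ c : F, ∑ i ∈ Finset.range r, (σ ^ i : F ≃+* F) c * u (t v i) = 0 := by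
      intro c
      have h2 : u (b (c • v)) = 0 := hu (Submodule.subset_span (hS1 (c • v)))
      have h3 : b (c • v) = ∑ i ∈ Finset.range r, (σ ^ i : F ≃+* F) c • t v i := by
        show ∑ i ∈ Finset.range r, nrmMs σ G i *ᵥ vmapS (σ ^ i) (c • v) = _
        apply Finset.sum_congr rfl
        intro i _
        rw [vmapS_smul, Matrix.mulVec_smul]
      rw [h3, map_sum] at h2
      simp_rw [map_smul, smul_eq_mul] at h2
      exact h2
    have h4 : ∑ i : Fin r, u (t v i) • ((σ ^ (i : ℕ) : F ≃+* F) : F → F) = 0 := by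
      funext c
      rw [Finset.sum_apply, Pi.zero_apply, ← h1 c, Finset.sum_range]
      apply Finset.sum_congr rfl
      intro i _
      rw [Pi.smul_apply, smul_eq_mul, mul_comm]
    have h5 := Fintype.linearIndependent_iff.1 hli (fun i => u (t v i)) h4 ⟨0, hr⟩
    simp only at h5
    rw [ht0] at h5
    rw [h5]
    rfl
  obtain ⟨bs, hbS, hbspan, hbli⟩ := exists_linearIndependent F S
  have hbtop : ⊤ ≤ Submodule.span F (Set.range ((↑) : bs → (ι → F))) := by
    rw [Subtype.range_coe, hbspan, hspan]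
  let B : Module.Basis bs F (ι → F) := Module.Basis.mk hbli hbtop
  have : Fintype bs := FiniteDimensional.fintypeBasisIndex B
  have hcard : Fintype.card ι = Fintype.card bs := by
    rw [← Module.finrank_eq_card_basis B, Module.finrank_fintype_fun_eq_card]
  let e : ι ≃ bs := Fintype.equivOfCardEq hcard
  let A : Matrix ι ι F := Matrix.of fun i k => ((e k : bs) : ι → F) i
  have hAcol : A.col = fun k => ((e k : bs) : ι → F) := by
    funext k i
    rfl
  have hAunit : IsUnit A := by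
    rw [← Matrix.linearIndependent_cols_iff_isUnit, hAcol]
    exact hbli.comp e e.injective
  refine ⟨A, hAunit, ?_⟩
  ext i k
  have hk : ((e k : bs) : ι → F) ∈ S := hbS (e k).2
  have := congrFun hk i
  simp only [Matrix.mulVec, dotProduct, vmapS] at this
  rw [Matrix.mul_apply]
  exact this

end speiser

section fixedfield

variable {F : Type*} [Field F]

/-- the descent data of the fixed field of a field automorphism -/
def fixedFDesc (σ : F ≃+* F) :
    FDesc F ↥(RingHom.eqLocusField (σ : F →+* F) (RingHom.id F)) where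
  σ := σ
  j := (RingHom.eqLocusField (σ : F →+* F) (RingHom.id F)).subtype
  fix_j x := x.2
  exists_j y hy := ⟨⟨y, hy⟩, rfl⟩

theorem fixedFDesc_σ (σ : F ≃+* F) : (fixedFDesc σ).σ = σ := rfl

end fixedfield

section gram

universe u

variable {K : Type u} [Field K] {m : ℕ}

/-- every invertible alternating matrix is a Gram matrix of the standard symplectic form -/
theorem exists_gram_alt [Finite K] (Ω : Matrix (Fin m ⊕ Fin m) (Fin m ⊕ Fin m) K)
    (hΩu : IsUnit Ω) (hΩa : ∀ u, u ⬝ᵥ (Ω *ᵥ u) = 0) :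
    ∃ a : GL (Fin m ⊕ Fin m) K,
      (a : Matrix (Fin m ⊕ Fin m) (Fin m ⊕ Fin m) K)ᵀ * J (Fin m) K
        * (a : Matrix (Fin m ⊕ Fin m) (Fin m ⊕ Fin m) K) = Ω := by
  have hAlt : (Matrix.toBilin' Ω).IsAlt := by
    intro u
    rw [Matrix.toBilin'_apply']
    exact hΩa u
  have hdet : Ω.det ≠ 0 := by
    have := (Matrix.isUnit_iff_isUnit_det Ω).1 hΩu
    exact this.ne_zero
  have hnd : (Matrix.toBilin' Ω).Nondegenerate :=
    LinearMap.BilinForm.nondegenerate_toBilin'_of_det_ne_zero' Ω hdet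
  have hI : ∀ B : LinearMap.BilinForm K (Fin m ⊕ Fin m → K),
      Cfsg.Agent.Helper12.SympConj.IsIsom B (1 : Module.End K (Fin m ⊕ Fin m → K)) 2 :=
    fun B => ⟨fun x y => rfl, one_pow 2, le_refl 2⟩
  have hss : (1 : Module.End K (Fin m ⊕ Fin m → K)).IsSemisimple := Module.End.isSemisimple_id
  obtain ⟨φ, -, hφ⟩ := Cfsg.Agent.Helper12.SympConj.exists_isometry (hI (Matrix.toBilin' Ω))
    (hI (Cfsg.Agent.Helper28.SympFrame.sB m K)) hAlt
    (Cfsg.Agent.Helper28.SympFrame.sB_isAlt m K) hnd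
    (Cfsg.Agent.Helper28.SympFrame.sB_nondeg m K) hss hss rfl
  have h1 : LinearMap.toMatrix' (φ : (Fin m ⊕ Fin m → K) →ₗ[K] (Fin m ⊕ Fin m → K)) *
      LinearMap.toMatrix' (φ.symm : (Fin m ⊕ Fin m → K) →ₗ[K] (Fin m ⊕ Fin m → K)) = 1 := by
    rw [← LinearMap.toMatrix'_comp, LinearEquiv.comp_coe, LinearEquiv.symm_trans_self,
      LinearEquiv.refl_toLinearMap, LinearMap.toMatrix'_id]
  have h2 : LinearMap.toMatrix' (φ.symm : (Fin m ⊕ Fin m → K) →ₗ[K] (Fin m ⊕ Fin m → K)) *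
      LinearMap.toMatrix' (φ : (Fin m ⊕ Fin m → K) →ₗ[K] (Fin m ⊕ Fin m → K)) = 1 := by
    rw [← LinearMap.toMatrix'_comp, LinearEquiv.comp_coe, LinearEquiv.self_trans_symm,
      LinearEquiv.refl_toLinearMap, LinearMap.toMatrix'_id]
  refine ⟨⟨_, _, h1, h2⟩, ?_⟩
  show (LinearMap.toMatrix' (φ : (Fin m ⊕ Fin m → K) →ₗ[K] (Fin m ⊕ Fin m → K)))ᵀ * J (Fin m) K
      * LinearMap.toMatrix' (φ : (Fin m ⊕ Fin m → K) →ₗ[K] (Fin m ⊕ Fin m → K)) = Ω
  set a := LinearMap.toMatrix' (φ : (Fin m ⊕ Fin m → K) →ₗ[K] (Fin m ⊕ Fin m → K)) with ha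
  have key : ∀ x y : Fin m ⊕ Fin m → K, x ⬝ᵥ ((aᵀ * J (Fin m) K * a) *ᵥ y) = x ⬝ᵥ (Ω *ᵥ y) := by
    intro x y
    rw [← Cfsg.Agent.Helper2.Sp.om_mulVec]
    have e1 := hφ x y
    rw [Cfsg.Agent.Helper28.SympFrame.sB_apply, Matrix.toBilin'_apply'] at e1
    rw [← e1, ha, LinearMap.toMatrix'_mulVec, LinearMap.toMatrix'_mulVec]
    rfl
  ext i j
  have := key (Pi.single i 1) (Pi.single j 1)
  rw [mulVec_single_one, mulVec_single_one, single_one_dotProduct, single_one_dotProduct] at this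
  exact this

end gram

end Cfsg.Agent.Helper7.FieldPSp
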