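import Mathlib
import Cfsg.Agent.Helper28.Siegel5
import Cfsg.Agent.Helper28.Siegel7

/-!
# Automorphisms of `PΩ(Q)`, part 1 (helper7)

The total Siegel map `rh u v` (the Siegel transformation `ρ(u, v)` when `u` is singular and
`v ⟂ u`, and `1` otherwise) with its calculus: products, inverses, conjugation, rescaling, the
change of basis on a totally singular line, powers.
-/

set_option autoImplicit false
set_option linter.unusedSectionVars false
set_option linter.unusedVariables false

namespace Cfsg.Agent.Helper7.AutO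

open Matrix Cfsg.Agent.Helper28.Sg Cfsg.Agent.Helper28.Spin

variable {F : Type*} [Field F] {ι : Type} [Fintype ι] [DecidableEq ι]
  (Q : QuadraticForm F (ι → F))

/-! ### bilinearity helpers -/

theorem B_add_left (x y z : ι → F) : B Q (x + y) z = B Q x z + B Q y z :=
  QuadraticMap.polar_add_left _ _ _ _

theorem B_add_right (x y z : ι → F) : B Q x (y + z) = B Q x y + B Q x z :=
  QuadraticMap.polar_add_right _ _ _ _

theorem B_sub_left (x y z : ι → F) : B Q (x - y) z = B Q x z - B Q y z :=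
  QuadraticMap.polar_sub_left _ _ _ _

theorem B_sub_right (x y z : ι → F) : B Q x (y - z) = B Q x y - B Q x z :=
  QuadraticMap.polar_sub_right _ _ _ _

theorem B_smul_left (a : F) (x y : ι → F) : B Q (a • x) y = a * B Q x y := by
  show QuadraticMap.polar ⇑Q (a • x) y = _
  rw [QuadraticMap.polar_smul_left, smul_eq_mul]

theorem B_smul_right (a : F) (x y : ι → F) : B Q x (a • y) = a * B Q x y := by
  show QuadraticMap.polar ⇑Q x (a • y) = _
  rw [QuadraticMap.polar_smul_right, smul_eq_mul]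

theorem B_neg_left (x y : ι → F) : B Q (-x) y = - B Q x y := QuadraticMap.polar_neg_left _ _ _

theorem B_zero_left (y : ι → F) : B Q 0 y = 0 := QuadraticMap.polar_zero_left _ _

theorem B_zero_right (y : ι → F) : B Q y 0 = 0 := QuadraticMap.polar_zero_right _ _

theorem Q_zero' : Q (0 : ι → F) = 0 := map_zero Q

theorem Q_neg' (x : ι → F) : Q (-x) = Q x := QuadraticMap.map_neg Q x

theorem Q_isom (g : ↥(Cfsg.isometryGroup F ⇑Q)) (x : ι → F) : Q (mt Q g *ᵥ x) = Q x :=
  Cfsg.Agent.Helper28.Spin.isom_apply Q g x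

/-- the total Siegel map -/
noncomputable def rh (u v : ι → F) : ↥(Cfsg.isometryGroup F ⇑Q) := by
  classical
  exact if h : Q u = 0 ∧ B Q u v = 0 then siegO Q u v h.1 h.2 else 1

theorem rh_eq {u v : ι → F} (hu : Q u = 0) (huv : B Q u v = 0) :
    rh Q u v = siegO Q u v hu huv := by
  unfold rh
  rw [dif_pos ⟨hu, huv⟩]

theorem rh_of_not {u v : ι → F} (h : ¬ (Q u = 0 ∧ B Q u v = 0)) : rh Q u v = 1 := by
  unfold rh
  rw [dif_neg h]

theorem rh_mulVec {u v : ι → F} (hu : Q u = 0) (huv : B Q u v = 0) (x : ι → F) :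
    mt Q (rh Q u v) *ᵥ x = x + B Q u x • v - B Q v x • u - (Q v * B Q u x) • u := by
  rw [rh_eq Q hu huv, siegO_mulVec]

theorem rh_zero_right (u : ι → F) : rh Q u 0 = 1 := by
  by_cases hu : Q u = 0
  · rw [rh_eq Q hu (B_zero_right Q u), siegO_zero]
  · exact rh_of_not Q (fun h => hu h.1)

theorem rh_zero_left (v : ι → F) : rh Q 0 v = 1 := by
  rw [rh_eq Q (Q_zero' Q) (B_zero_left Q v), siegO_zero_left]

theorem rh_mul {u v w : ι → F} (hu : Q u = 0) (huv : B Q u v = 0) (huw : B Q u w = 0) :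
    rh Q u v * rh Q u w = rh Q u (v + w) := by
  have h : B Q u (v + w) = 0 := by rw [B_add_right, huv, huw, add_zero]
  rw [rh_eq Q hu huv, rh_eq Q hu huw, rh_eq Q hu h, siegO_mul]

theorem rh_inv (u v : ι → F) : (rh Q u v)⁻¹ = rh Q u (-v) := by
  by_cases h : Q u = 0 ∧ B Q u v = 0
  · have h' : B Q u (-v) = 0 := by rw [B_neg_right, h.2, neg_zero]
    rw [rh_eq Q h.1 h.2, rh_eq Q h.1 h', siegO_inv]
  · rw [rh_of_not Q h, rh_of_not Q, inv_one]
    intro h'
    apply h
    refine ⟨h'.1, ?_⟩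
    have := h'.2
    rw [B_neg_right, neg_eq_zero] at this
    exact this

/-- conjugation of the total Siegel map -/
theorem rh_conj (g : ↥(Cfsg.isometryGroup F ⇑Q)) (u v : ι → F) :
    g * rh Q u v * g⁻¹ = rh Q (mt Q g *ᵥ u) (mt Q g *ᵥ v) := by
  by_cases h : Q u = 0 ∧ B Q u v = 0
  · have hu' : Q (mt Q g *ᵥ u) = 0 := by rw [Q_isom, h.1]
    have huv' : B Q (mt Q g *ᵥ u) (mt Q g *ᵥ v) = 0 := by rw [B_isom, h.2]
    rw [rh_eq Q h.1 h.2, rh_eq Q hu' huv', siegO_conj]
  · rw [rh_of_not Q h, rh_of_not Q, mul_one, mul_inv_cancel]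
    intro h'
    apply h
    rw [Q_isom, B_isom] at h'
    exact h'

theorem rh_smul (c : F) {u v : ι → F} (hu : Q u = 0) (huv : B Q u v = 0) :
    rh Q (c • u) v = rh Q u (c • v) := by
  have hu' : Q (c • u) = 0 := by rw [Q_smul, hu, mul_zero]
  have huv' : B Q (c • u) v = 0 := by rw [B_smul_left, huv, mul_zero]
  have huv'' : B Q u (c • v) = 0 := by rw [B_smul_right, huv, mul_zero]
  rw [rh_eq Q hu' huv', rh_eq Q hu huv'']
  exact siegO_smul Q c hu huv hu' huv' huv''

theorem rh_add_smul_self (c : F) {u v : ι → F} (hu : Q u = 0) (huv : B Q u v = 0) :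
    rh Q u (v + c • u) = rh Q u v := by
  have h : B Q u (v + c • u) = 0 := by
    rw [B_add_right, huv, B_smul_right, B_self_of_singular Q hu, mul_zero, add_zero]
  rw [rh_eq Q hu h, rh_eq Q hu huv]
  exact siegO_add_smul_self Q c hu huv h

/-- the change of basis on a totally singular line -/
theorem rh_line {a b : ι → F} (ha : Q a = 0) (hb : Q b = 0) (hab : B Q a b = 0)
    (α β γ δ : F) :
    rh Q (α • a + β • b) (γ • a + δ • b) = rh Q a ((α * δ - β * γ) • b) := by
  have hba : B Q b a = 0 := by rw [B_comm]; exact hab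
  have haa := B_self_of_singular Q ha
  have hbb := B_self_of_singular Q hb
  have h1 : Q (α • a + β • b) = 0 := by
    rw [Q_lin2, ha, hb, hab]; ring
  have h1' : Q (γ • a + δ • b) = 0 := by
    rw [Q_lin2, ha, hb, hab]; ring
  have h2 : B Q (α • a + β • b) (γ • a + δ • b) = 0 := by
    simp only [B_add_left, B_add_right, B_smul_left, B_smul_right, haa, hbb, hab, hba]
    ring
  have h3 : B Q a ((α * δ - β * γ) • b) = 0 := by rw [B_smul_right, hab, mul_zero]
  apply O_ext
  intro x
  rw [rh_mulVec Q h1 h2, rh_mulVec Q ha h3, h1', Q_smul, hb]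
  simp only [B_add_left, B_smul_left]
  module

/-- for a singular second vector the two arguments can be exchanged -/
theorem rh_swap {a b : ι → F} (ha : Q a = 0) (hb : Q b = 0) (hab : B Q a b = 0) :
    rh Q a b = rh Q b (-a) := by
  have h := rh_line Q ha hb hab 0 1 (-1) 0
  have h' := rh_line Q ha hb hab 1 0 0 1
  simp only [zero_smul, one_smul, zero_add, add_zero, neg_smul, mul_zero, mul_one,
    mul_neg, sub_neg_eq_add, sub_zero, neg_zero] at h h'
  rw [h]

theorem rh_pow {u v : ι → F} (hu : Q u = 0) (huv : B Q u v = 0) (k : ℕ) :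
    rh Q u v ^ k = rh Q u (k • v) := by
  induction k with
  | zero => rw [pow_zero, zero_smul, rh_zero_right]
  | succ k ih =>
    have h : B Q u (k • v) = 0 := by
      rw [← Nat.cast_smul_eq_nsmul F, B_smul_right, huv, mul_zero]
    rw [pow_succ, ih, rh_mul Q hu h huv, succ_nsmul]

theorem rh_pow_char (p : ℕ) [CharP F p] (u v : ι → F) : rh Q u v ^ p = 1 := by
  by_cases h : Q u = 0 ∧ B Q u v = 0
  · rw [rh_pow Q h.1 h.2, ← Nat.cast_smul_eq_nsmul F, CharP.cast_eq_zero F p, zero_smul,
      rh_zero_right]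
  · rw [rh_of_not Q h, one_pow]

/-- `ρ(e, w) = ρ(e, w')` forces `w - w'` to be a multiple of `e` (given a partner of `e`) -/
theorem rh_inj {e f w w' : ι → F} (he : Q e = 0) (hef : B Q e f = 1) (hw : B Q e w = 0)
    (hw' : B Q e w' = 0) (h : rh Q e w = rh Q e w') :
    ∃ c : F, w - w' = c • e := by
  have h1 := congrArg (fun g => mt Q g *ᵥ f) h
  beta_reduce at h1
  rw [rh_mulVec Q he hw, rh_mulVec Q he hw', hef] at h1
  refine ⟨B Q w f + Q w - B Q w' f - Q w', ?_⟩
  have h2 : w - w' = (f + (1 : F) • w - B Q w f • e - (Q w * 1) • e)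
      - (f + (1 : F) • w' - B Q w' f • e - (Q w' * 1) • e)
      + (B Q w f + Q w - B Q w' f - Q w') • e := by module
  rw [h2, h1]
  module

end Cfsg.Agent.Helper7.AutO
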