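import Mathlib
import Cfsg.Agent.Helper7.AutO1
import Cfsg.Agent.Helper28.PgoAut1

/-!
# Automorphisms of `PΩ(Q)`, part 2 (helper7)

The Siegel maps at the level of `Ω(Q)` (`ro`) and `PΩ(Q)` (`rb`); central elements of `Ω(Q)` are
scalars; the projection `Ω(Q) → PΩ(Q)` is injective on `p`-elements; the conjugation action of the
isometry group on `PΩ(Q)`.
-/

set_option autoImplicit false
set_option linter.unusedSectionVars false
set_option linter.unusedVariables false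

namespace Cfsg.Agent.Helper7.AutO

open Matrix Cfsg.Agent.Helper28.Sg Cfsg.Agent.Helper28.Spin Cfsg.Agent.Helper28.PG

variable {F : Type*} [Field F] {ι : Type} [Fintype ι] [DecidableEq ι]
  (Q : QuadraticForm F (ι → F))

/-- the Siegel map with values in `Ω(Q)` -/
noncomputable def ro (u v : ι → F) : ↥(Cfsg.Omega F ⇑Q) := by
  classical
  exact if h : rh Q u v ∈ Cfsg.Omega F ⇑Q then ⟨rh Q u v, h⟩ else 1

/-- the projection `Ω(Q) → PΩ(Q)` -/
noncomputable def pr : ↥(Cfsg.Omega F ⇑Q) →* Cfsg.POmega F ⇑Q := QuotientGroup.mk' _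

theorem pr_surjective : Function.Surjective (pr Q) := QuotientGroup.mk'_surjective _

theorem pr_eq_one_iff (g : ↥(Cfsg.Omega F ⇑Q)) :
    pr Q g = 1 ↔ g ∈ Subgroup.center ↥(Cfsg.Omega F ⇑Q) := by
  unfold pr
  rw [QuotientGroup.mk'_apply, QuotientGroup.eq_one_iff]

theorem pr_eq_iff (x y : ↥(Cfsg.Omega F ⇑Q)) :
    pr Q x = pr Q y ↔ x⁻¹ * y ∈ Subgroup.center ↥(Cfsg.Omega F ⇑Q) := by
  unfold pr
  rw [QuotientGroup.mk'_apply, QuotientGroup.mk'_apply, QuotientGroup.eq]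

/-- the Siegel map with values in `PΩ(Q)` -/
noncomputable def rb (u v : ι → F) : Cfsg.POmega F ⇑Q := pr Q (ro Q u v)

/-- the matrix action of an element of `Ω(Q)` -/
abbrev mo (x : ↥(Cfsg.Omega F ⇑Q)) : Matrix ι ι F := mt Q (x : ↥(Cfsg.isometryGroup F ⇑Q))

theorem mo_mul (x y : ↥(Cfsg.Omega F ⇑Q)) (v : ι → F) :
    mo Q (x * y) *ᵥ v = mo Q x *ᵥ (mo Q y *ᵥ v) := by
  show mt Q ((x : ↥(Cfsg.isometryGroup F ⇑Q)) * (y : ↥(Cfsg.isometryGroup F ⇑Q))) *ᵥ v = _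
  rw [mt_mul_mulVec]

theorem mo_one (v : ι → F) : mo Q (1 : ↥(Cfsg.Omega F ⇑Q)) *ᵥ v = v := mt_one_mulVec Q v

theorem mo_inv_mulVec (x : ↥(Cfsg.Omega F ⇑Q)) (v : ι → F) :
    mo Q x⁻¹ *ᵥ (mo Q x *ᵥ v) = v := by
  rw [← mo_mul, inv_mul_cancel, mo_one]

theorem mo_mulVec_inv (x : ↥(Cfsg.Omega F ⇑Q)) (v : ι → F) :
    mo Q x *ᵥ (mo Q x⁻¹ *ᵥ v) = v := by
  rw [← mo_mul, mul_inv_cancel, mo_one]

theorem Om_ext {x y : ↥(Cfsg.Omega F ⇑Q)} (h : ∀ v, mo Q x *ᵥ v = mo Q y *ᵥ v) : x = y :=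
  Subtype.ext (O_ext Q h)

theorem mo_pow_scalar {x : ↥(Cfsg.Omega F ⇑Q)} {l : F} {v : ι → F}
    (hx : mo Q x *ᵥ v = l • v) (k : ℕ) : mo Q (x ^ k) *ᵥ v = l ^ k • v := by
  induction k with
  | zero => rw [pow_zero, pow_zero, mo_one, one_smul]
  | succ k ih => rw [pow_succ, mo_mul, hx, Matrix.mulVec_smul, ih, smul_smul, pow_succ, mul_comm]

section char

variable (p : ℕ) [Fact p.Prime] [CharP F p]

theorem eq_one_of_pow_char_pow {l : F} {k : ℕ} (hl : l ^ p ^ k = 1) : l = 1 := by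
  have := iterateFrobenius_inj F p k
  apply this
  rw [iterateFrobenius_def, iterateFrobenius_def, hl, one_pow]

end char

section nd

variable (hQ : (QuadraticMap.polarBilin Q).Nondegenerate) (fr : Frame3 Q)

include hQ fr

theorem rh_mem_Omega (u v : ι → F) : rh Q u v ∈ Cfsg.Omega F ⇑Q := by
  by_cases h : Q u = 0 ∧ B Q u v = 0
  · rw [rh_eq Q h.1 h.2]
    exact S_le_Omega hQ fr (siegO_mem_S Q u v h.1 h.2)
  · rw [rh_of_not Q h]
    exact Subgroup.one_mem _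

theorem ro_val (u v : ι → F) :
    ((ro Q u v : ↥(Cfsg.Omega F ⇑Q)) : ↥(Cfsg.isometryGroup F ⇑Q)) = rh Q u v := by
  unfold ro
  rw [dif_pos (rh_mem_Omega Q hQ fr u v)]

theorem ro_mulVec {u v : ι → F} (hu : Q u = 0) (huv : B Q u v = 0) (x : ι → F) :
    mo Q (ro Q u v) *ᵥ x = x + B Q u x • v - B Q v x • u - (Q v * B Q u x) • u := by
  show mt Q ((ro Q u v : ↥(Cfsg.Omega F ⇑Q)) : ↥(Cfsg.isometryGroup F ⇑Q)) *ᵥ x = _
  rw [ro_val Q hQ fr, rh_mulVec Q hu huv]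

theorem ro_zero_right (u : ι → F) : ro Q u 0 = 1 := by
  apply Subtype.ext
  rw [ro_val Q hQ fr, rh_zero_right]
  rfl

theorem ro_mul {u v w : ι → F} (hu : Q u = 0) (huv : B Q u v = 0) (huw : B Q u w = 0) :
    ro Q u v * ro Q u w = ro Q u (v + w) := by
  apply Subtype.ext
  rw [Subgroup.coe_mul, ro_val Q hQ fr, ro_val Q hQ fr, ro_val Q hQ fr, rh_mul Q hu huv huw]

theorem ro_inv (u v : ι → F) : (ro Q u v)⁻¹ = ro Q u (-v) := by
  apply Subtype.ext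
  rw [Subgroup.coe_inv, ro_val Q hQ fr, ro_val Q hQ fr, rh_inv]

theorem ro_conj (g : ↥(Cfsg.Omega F ⇑Q)) (u v : ι → F) :
    g * ro Q u v * g⁻¹ = ro Q (mo Q g *ᵥ u) (mo Q g *ᵥ v) := by
  apply Subtype.ext
  rw [Subgroup.coe_mul, Subgroup.coe_mul, Subgroup.coe_inv, ro_val Q hQ fr, ro_val Q hQ fr,
    rh_conj]

theorem ro_pow_char (p : ℕ) [CharP F p] (u v : ι → F) : ro Q u v ^ p = 1 := by
  apply Subtype.ext
  rw [Subgroup.coe_pow, ro_val Q hQ fr, rh_pow_char]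
  rfl

theorem ro_pElement (p : ℕ) [CharP F p] (u v : ι → F) : ro Q u v ^ p ^ 1 = 1 := by
  rw [pow_one]
  exact ro_pow_char Q hQ fr p u v

theorem ro_congr {u v u' v' : ι → F} (h : rh Q u v = rh Q u' v') : ro Q u v = ro Q u' v' := by
  apply Subtype.ext
  rw [ro_val Q hQ fr, ro_val Q hQ fr, h]

/-- central elements of `Ω(Q)` are scalars -/
theorem center_scalar {z : ↥(Cfsg.Omega F ⇑Q)} (hz : z ∈ Subgroup.center ↥(Cfsg.Omega F ⇑Q)) :
    ∃ l : F, ∀ x, mo Q z *ᵥ x = l • x := by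
  apply scalar_of_comm_sieg hQ fr (mo Q z)
  intro u v hu huv
  rw [Subgroup.mem_center_iff] at hz
  have h1 := hz ⟨siegO Q u v hu huv, S_le_Omega hQ fr (siegO_mem_S Q u v hu huv)⟩
  have h2 := congrArg (fun y : ↥(Cfsg.Omega F ⇑Q) => mo Q y) h1
  exact h2.symm

/-- scalars of `Ω(Q)` are central -/
theorem mem_center_of_scalar {z : ↥(Cfsg.Omega F ⇑Q)} {l : F}
    (hl : ∀ x, mo Q z *ᵥ x = l • x) : z ∈ Subgroup.center ↥(Cfsg.Omega F ⇑Q) := by
  rw [Subgroup.mem_center_iff]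
  intro h
  apply Subtype.ext
  exact comm_of_scalar hl (h : ↥(Cfsg.isometryGroup F ⇑Q))

variable (p : ℕ) [Fact p.Prime] [CharP F p]

theorem center_pElement_eq_one {z : ↥(Cfsg.Omega F ⇑Q)}
    (hz : z ∈ Subgroup.center ↥(Cfsg.Omega F ⇑Q)) {k : ℕ} (hzk : z ^ p ^ k = 1) : z = 1 := by
  obtain ⟨l, hl⟩ := center_scalar Q hQ fr hz
  have h1 : l ^ p ^ k = 1 := by
    have h2 := mo_pow_scalar Q (hl (fr.e 0)) (p ^ k)
    rw [hzk, mo_one] at h2
    have h3 : ((1 : F) - l ^ p ^ k) • fr.e 0 = 0 := by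
      rw [sub_smul, one_smul, ← h2, sub_self]
    rcases smul_eq_zero.1 h3 with h | h
    · exact (sub_eq_zero.1 h).symm
    · exact absurd h (Frame3.e_ne_zero fr 0)
  have hl1 := eq_one_of_pow_char_pow p h1
  apply Om_ext
  intro x
  rw [hl, hl1, one_smul, mo_one]

/-- `p`-elements of `Ω(Q)` with the same image in `PΩ(Q)` are equal -/
theorem pr_inj_p {x y : ↥(Cfsg.Omega F ⇑Q)} {a b : ℕ} (hx : x ^ p ^ a = 1)
    (hy : y ^ p ^ b = 1) (hxy : pr Q x = pr Q y) : x = y := by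
  have hz := (pr_eq_iff Q x y).mp hxy
  obtain ⟨z, hzdef⟩ : ∃ z, z = x⁻¹ * y := ⟨_, rfl⟩
  rw [← hzdef] at hz
  have hyz : y = x * z := by rw [hzdef]; group
  have hcomm : Commute x z := by
    rw [Subgroup.mem_center_iff] at hz
    exact hz x
  have h1 : z ^ p ^ (a + b) = 1 := by
    have h2 : y ^ p ^ (a + b) = 1 := by
      rw [pow_add, mul_comm, pow_mul, hy, one_pow]
    have h3 : x ^ p ^ (a + b) = 1 := by
      rw [pow_add, pow_mul, hx, one_pow]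
    rw [hyz, hcomm.mul_pow, h3, one_mul] at h2
    exact h2
  have := center_pElement_eq_one Q hQ fr p hz h1
  rw [hyz, this, mul_one]

/-- commuting in `PΩ(Q)` with a `p`-element lifts to `Ω(Q)` -/
theorem comm_of_pr_comm {x y : ↥(Cfsg.Omega F ⇑Q)} {b : ℕ} (hy : y ^ p ^ b = 1)
    (h : pr Q x * pr Q y = pr Q y * pr Q x) : x * y = y * x := by
  have h1 : pr Q (x * y * x⁻¹) = pr Q y := by
    rw [map_mul, map_mul, h, map_inv, mul_inv_cancel_right]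
  have h2 : (x * y * x⁻¹) ^ p ^ b = 1 := by
    rw [conj_pow, hy, mul_one, mul_inv_cancel]
  have h3 := pr_inj_p Q hQ fr p h2 hy h1
  calc x * y = x * y * x⁻¹ * x := by group
    _ = y * x := by rw [h3]

include p in
theorem rb_eq_rb {u v u' v' : ι → F} (h : rb Q u v = rb Q u' v') : rh Q u v = rh Q u' v' := by
  have h1 := pr_inj_p Q hQ fr p (ro_pElement Q hQ fr p u v) (ro_pElement Q hQ fr p u' v') h
  rw [← ro_val Q hQ fr, ← ro_val Q hQ fr, h1]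

end nd

end Cfsg.Agent.Helper7.AutO
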