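import Mathlib
import Cfsg.Agent.Helper7.AutO2

/-!
# Automorphisms of `PΩ(Q)`, part 3 (helper7)

Totally singular lines: dual vectors, the line of a Siegel element `ρ(a, b)`, commuting Siegel
elements (the lines meet or are perpendicular), and elements which are not long root elements.
-/

set_option autoImplicit false
set_option linter.unusedSectionVars false
set_option linter.unusedVariables false

namespace Cfsg.Agent.Helper7.AutO

open Matrix Cfsg.Agent.Helper28.Sg Cfsg.Agent.Helper28.Spin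

variable {F : Type*} [Field F] {ι : Type} [Fintype ι] [DecidableEq ι]
  (Q : QuadraticForm F (ι → F))

/-- `(a, b)` spans a totally singular line -/
def IsLine (a b : ι → F) : Prop := Q a = 0 ∧ Q b = 0 ∧ B Q a b = 0 ∧ Indep a b

/-- `v` lies on the line spanned by `a`, `b` -/
def InL (a b v : ι → F) : Prop := ∃ s t : F, v = s • a + t • b

theorem InL.left (a b : ι → F) : InL a b a := ⟨1, 0, by simp⟩

theorem InL.right (a b : ι → F) : InL a b b := ⟨0, 1, by simp⟩

theorem InL.add {a b v w : ι → F} (hv : InL a b v) (hw : InL a b w) : InL a b (v + w) := by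
  obtain ⟨s, t, rfl⟩ := hv
  obtain ⟨s', t', rfl⟩ := hw
  exact ⟨s + s', t + t', by module⟩

theorem InL.sub {a b v w : ι → F} (hv : InL a b v) (hw : InL a b w) : InL a b (v - w) := by
  obtain ⟨s, t, rfl⟩ := hv
  obtain ⟨s', t', rfl⟩ := hw
  exact ⟨s - s', t - t', by module⟩

theorem InL.smul {a b v : ι → F} (c : F) (hv : InL a b v) : InL a b (c • v) := by
  obtain ⟨s, t, rfl⟩ := hv
  exact ⟨c * s, c * t, by module⟩

theorem InL.neg {a b v : ι → F} (hv : InL a b v) : InL a b (-v) := by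
  obtain ⟨s, t, rfl⟩ := hv
  exact ⟨-s, -t, by module⟩

theorem InL.trans {a b a' b' v : ι → F} (hv : InL a' b' v) (ha : InL a b a') (hb : InL a b b') :
    InL a b v := by
  obtain ⟨s, t, rfl⟩ := hv
  exact (ha.smul s).add (hb.smul t)

theorem InL.symm' {a b v : ι → F} (hv : InL a b v) : InL b a v := by
  obtain ⟨s, t, rfl⟩ := hv
  exact ⟨t, s, by module⟩

variable {Q}

theorem IsLine.symm {a b : ι → F} (h : IsLine Q a b) : IsLine Q b a :=
  ⟨h.2.1, h.1, by rw [B_comm]; exact h.2.2.1, h.2.2.2.symm⟩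

theorem IsLine.Q_inL {a b v : ι → F} (h : IsLine Q a b) (hv : InL a b v) : Q v = 0 := by
  obtain ⟨s, t, rfl⟩ := hv
  rw [Q_lin2, h.1, h.2.1, h.2.2.1]; ring

theorem IsLine.B_inL {a b v w : ι → F} (h : IsLine Q a b) (hv : InL a b v) (hw : InL a b w) :
    B Q v w = 0 := by
  obtain ⟨s, t, rfl⟩ := hv
  obtain ⟨s', t', rfl⟩ := hw
  have hba : B Q b a = 0 := by rw [B_comm]; exact h.2.2.1
  simp only [B_add_left, B_add_right, B_smul_left, B_smul_right, B_self_of_singular Q h.1,
    B_self_of_singular Q h.2.1, h.2.2.1, hba]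
  ring

theorem IsLine.map {a b : ι → F} (h : IsLine Q a b) (g : ↥(Cfsg.isometryGroup F ⇑Q)) :
    IsLine Q (mt Q g *ᵥ a) (mt Q g *ᵥ b) := by
  refine ⟨by rw [Q_isom, h.1], by rw [Q_isom, h.2.1], by rw [B_isom, h.2.2.1], ?_⟩
  intro x y hxy
  apply h.2.2.2
  have h1 : mt Q g *ᵥ (x • a + y • b) = 0 := by
    rw [Matrix.mulVec_add, Matrix.mulVec_smul, Matrix.mulVec_smul, hxy]
  have h2 := congrArg (fun z => mt Q g⁻¹ *ᵥ z) h1
  beta_reduce at h2
  rwa [mt_inv_mulVec, Matrix.mulVec_zero] at h2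

/-- two independent vectors of a line span it -/
theorem inL_swap {a b a' b' : ι → F} (hab : Indep a b) (ha : InL a' b' a) (hb : InL a' b' b) :
    InL a b a' ∧ InL a b b' := by
  obtain ⟨α, β, ha⟩ := ha
  obtain ⟨γ, δ, hb⟩ := hb
  have h1 : δ • a - β • b = (α * δ - β * γ) • a' := by rw [ha, hb]; module
  have h2 : -γ • a + α • b = (α * δ - β * γ) • b' := by rw [ha, hb]; module
  by_cases hD : α * δ - β * γ = 0
  · exfalso
    rw [hD, zero_smul] at h1 h2
    have h3 := hab δ (-β) (by rw [← h1]; module)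
    have h4 := hab (-γ) α h2
    have hβ : β = 0 := neg_eq_zero.1 h3.2
    apply hab.ne_zero_left
    rw [ha, h4.2, hβ]
    simp
  · constructor
    · refine ⟨(α * δ - β * γ)⁻¹ * δ, -((α * δ - β * γ)⁻¹ * β), ?_⟩
      have : a' = (α * δ - β * γ)⁻¹ • ((α * δ - β * γ) • a') := by
        rw [smul_smul, inv_mul_cancel₀ hD, one_smul]
      rw [this, ← h1]
      module
    · refine ⟨-((α * δ - β * γ)⁻¹ * γ), (α * δ - β * γ)⁻¹ * α, ?_⟩
      have : b' = (α * δ - β * γ)⁻¹ • ((α * δ - β * γ) • b') := by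
        rw [smul_smul, inv_mul_cancel₀ hD, one_smul]
      rw [this, ← h2]
      module

section nd

variable (hQ : (QuadraticMap.polarBilin Q).Nondegenerate) (fr : Frame3 Q)

include hQ fr

/-- a vector dual to the first vector of an independent pair -/
theorem exists_dual {a b : ι → F} (hab : Indep a b) : ∃ x, B Q a x = 1 ∧ B Q b x = 0 := by
  obtain ⟨g, hga, hgb⟩ := witt_pair hQ fr a b hab
  refine ⟨mt Q g *ᵥ (fr.f 0), ?_, ?_⟩
  · rw [B_map_eq' Q g hga]
    simp only [B_add_left, B_smul_left]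
    simp only [B, fr.Bef, fr.Bff]
    simp
  · rw [B_map_eq' Q g hgb]
    simp only [B_add_left, B_smul_left]
    simp only [B, fr.Bef, fr.Bff]
    simp

theorem rh_line_apply {a b : ι → F} (h : IsLine Q a b) (x : ι → F) :
    mt Q (rh Q a b) *ᵥ x = x + B Q a x • b - B Q b x • a := by
  rw [rh_mulVec Q h.1 h.2.2.1, h.2.1]
  simp

/-- the displacement of a root element lies on its line -/
theorem rh_line_sub {a b : ι → F} (h : IsLine Q a b) (x : ι → F) :
    InL a b (mt Q (rh Q a b) *ᵥ x - x) := by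
  rw [rh_line_apply hQ fr h]
  exact ⟨-B Q b x, B Q a x, by module⟩

/-- the line of a root element is determined by the element -/
theorem line_of_rh_eq {a b a' b' : ι → F} (h : IsLine Q a b) (h' : IsLine Q a' b')
    (heq : rh Q a b = rh Q a' b') : InL a b a' ∧ InL a b b' := by
  obtain ⟨x, hx1, hx2⟩ := exists_dual hQ fr h'.2.2.2
  obtain ⟨x', hx1', hx2'⟩ := exists_dual hQ fr h'.2.2.2.symm
  constructor
  · have h1 := rh_line_sub hQ fr h x'
    rw [heq, rh_line_apply hQ fr h', hx1', hx2'] at h1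
    have h2 : a' = -(x' + (0 : F) • b' - (1 : F) • a' - x') := by module
    rw [h2]
    exact h1.neg
  · have h1 := rh_line_sub hQ fr h x
    rw [heq, rh_line_apply hQ fr h', hx1, hx2] at h1
    have h2 : b' = x + (1 : F) • b' - (0 : F) • a' - x := by module
    rw [h2]
    exact h1

/-- a root element is not trivial -/
theorem rh_line_ne_one {a b : ι → F} (h : IsLine Q a b) : rh Q a b ≠ 1 := by
  intro h1
  obtain ⟨x, hx1, hx2⟩ := exists_dual hQ fr h.2.2.2
  have h2 := rh_line_apply hQ fr h x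
  rw [h1, mt_one_mulVec, hx1, hx2] at h2
  have h3 : b = 0 := by
    have : b = (x + (1 : F) • b - (0 : F) • a) - x := by module
    rw [this, ← h2, sub_self]
  have := h.2.2.2.symm.ne_zero_left
  exact this h3

/-- commuting root elements: the lines meet or are perpendicular -/
theorem meet_or_perp {a b c d : ι → F} (h : IsLine Q a b) (h' : IsLine Q c d)
    (hc : rh Q c d * rh Q a b = rh Q a b * rh Q c d) :
    (∃ p : ι → F, p ≠ 0 ∧ InL a b p ∧ InL c d p) ∨
      (B Q c a = 0 ∧ B Q d a = 0 ∧ B Q c b = 0 ∧ B Q d b = 0) := by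
  have h1 : rh Q a b = rh Q (mt Q (rh Q c d) *ᵥ a) (mt Q (rh Q c d) *ᵥ b) := by
    rw [← rh_conj, hc, mul_inv_cancel_right]
  obtain ⟨h2, h3⟩ := line_of_rh_eq hQ fr h (h.map (rh Q c d)) h1
  have h4 : InL a b (mt Q (rh Q c d) *ᵥ a - a) := h2.sub (InL.left a b)
  have h5 : InL a b (mt Q (rh Q c d) *ᵥ b - b) := h3.sub (InL.right a b)
  have h6 := rh_line_sub hQ fr h' a
  have h7 := rh_line_sub hQ fr h' b
  by_cases ha : mt Q (rh Q c d) *ᵥ a - a = 0
  · by_cases hb : mt Q (rh Q c d) *ᵥ b - b = 0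
    · right
      rw [rh_line_apply hQ fr h'] at ha hb
      have e1 := h'.2.2.2 (-B Q d a) (B Q c a) (by rw [← ha]; module)
      have e2 := h'.2.2.2 (-B Q d b) (B Q c b) (by rw [← hb]; module)
      exact ⟨e1.2, neg_eq_zero.1 e1.1, e2.2, neg_eq_zero.1 e2.1⟩
    · exact Or.inl ⟨_, hb, h5, h7⟩
  · exact Or.inl ⟨_, ha, h4, h6⟩

/-- `ρ(e, w)` with `w` non-singular is not a root element -/
theorem singular_of_rh_eq_line {e w a b : ι → F} (he : Q e = 0) (hew : B Q e w = 0)
    (hind : Indep e w) (h : IsLine Q a b) (heq : rh Q e w = rh Q a b) : Q w = 0 := by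
  obtain ⟨x, hx1, hx2⟩ := exists_dual hQ fr hind
  obtain ⟨x', hx1', hx2'⟩ := exists_dual hQ fr hind.symm
  have h1 := rh_line_sub hQ fr h x
  have h2 := rh_line_sub hQ fr h x'
  rw [← heq, rh_mulVec Q he hew] at h1 h2
  rw [hx1, hx2] at h1
  rw [hx2', hx1'] at h2
  have he' : InL a b e := by
    have : e = -(x' + (0 : F) • w - (1 : F) • e - (Q w * 0) • e - x') := by module
    rw [this]
    exact h2.neg
  have hw' : InL a b w := by
    have : w = (x + (1 : F) • w - (0 : F) • e - (Q w * 1) • e - x) + Q w • e := by module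
    rw [this]
    exact h1.add (he'.smul _)
  exact h.Q_inL hw'

end nd

end Cfsg.Agent.Helper7.AutO
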