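import Mathlib
import Cfsg.Agent.Helper7.AutO3

/-!
# Automorphisms of `PΩ(Q)`, part 4 (helper7)

Four independent vectors and their dual vectors; the product of two root elements on disjoint
perpendicular lines is not a root element; elements commuting with the Siegel group of a singular
vector `e`; isometries fixing `e` and acting trivially on `e^⊥ / e` are Siegel elements.
-/

set_option autoImplicit false
set_option linter.unusedSectionVars false
set_option linter.unusedVariables false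

namespace Cfsg.Agent.Helper7.AutO

open Matrix Cfsg.Agent.Helper28.Sg Cfsg.Agent.Helper28.Spin

variable {F : Type*} [Field F] {ι : Type} [Fintype ι] [DecidableEq ι]
  {Q : QuadraticForm F (ι → F)}

/-- four linearly independent vectors -/
def Indep4 (a b c d : ι → F) : Prop :=
  ∀ α β γ δ : F, α • a + β • b + γ • c + δ • d = 0 → α = 0 ∧ β = 0 ∧ γ = 0 ∧ δ = 0

theorem Indep4.rot {a b c d : ι → F} (h : Indep4 a b c d) : Indep4 b c d a := by
  intro α β γ δ h0
  have := h δ α β γ (by rw [← h0]; abel)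
  exact ⟨this.2.1, this.2.2.1, this.2.2.2, this.1⟩

theorem indep4_of_disjoint {a b c d : ι → F} (hab : Indep a b) (hcd : Indep c d)
    (hdis : ∀ p, InL a b p → InL c d p → p = 0) : Indep4 a b c d := by
  intro α β γ δ h0
  have h1 : α • a + β • b = (-γ) • c + (-δ) • d := by
    have : α • a + β • b = (α • a + β • b + γ • c + δ • d) + ((-γ) • c + (-δ) • d) := by module
    rw [this, h0, zero_add]
  have h2 := hdis (α • a + β • b) ⟨α, β, rfl⟩ ⟨-γ, -δ, h1⟩
  have h3 := hab α β h2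
  rw [h2] at h1
  have h4 := hcd (-γ) (-δ) h1.symm
  exact ⟨h3.1, h3.2, neg_eq_zero.1 h4.1, neg_eq_zero.1 h4.2⟩

theorem exists_dual4 (hQ : (QuadraticMap.polarBilin Q).Nondegenerate) {a b c d : ι → F}
    (h : Indep4 a b c d) : ∃ x, B Q a x = 1 ∧ B Q b x = 0 ∧ B Q c x = 0 ∧ B Q d x = 0 := by
  have ha : a ∉ Submodule.span F ({b, c, d} : Set (ι → F)) := by
    intro hmem
    rw [Submodule.mem_span_triple] at hmem
    obtain ⟨β, γ, δ, hsum⟩ := hmem
    have := h (-1) β γ δ (by rw [← hsum]; module)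
    have h1 : (-1 : F) = 0 := this.1
    exact one_ne_zero (neg_eq_zero.1 h1)
  obtain ⟨w, hw1, hw2⟩ := Cfsg.Agent.Helper28.QWitt.exists_dual_vec Q hQ _ a ha
  refine ⟨w, hw2, hw1 b (Submodule.subset_span (by simp)), hw1 c (Submodule.subset_span (by simp)),
    hw1 d (Submodule.subset_span (by simp))⟩

section nd

variable (hQ : (QuadraticMap.polarBilin Q).Nondegenerate) (fr : Frame3 Q)

include hQ fr

/-- the action of the product of two root elements on perpendicular lines -/
theorem two_apply {a b c d : ι → F} (h : IsLine Q a b) (h' : IsLine Q c d)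
    (hp : B Q c a = 0 ∧ B Q d a = 0 ∧ B Q c b = 0 ∧ B Q d b = 0) (x : ι → F) :
    mt Q (rh Q a b * rh Q c d) *ᵥ x =
      x + B Q a x • b - B Q b x • a + B Q c x • d - B Q d x • c := by
  rw [mt_mul_mulVec, rh_line_apply hQ fr h', rh_line_apply hQ fr h]
  have e1 : B Q a c = 0 := by rw [B_comm]; exact hp.1
  have e2 : B Q a d = 0 := by rw [B_comm]; exact hp.2.1
  have e3 : B Q b c = 0 := by rw [B_comm]; exact hp.2.2.1
  have e4 : B Q b d = 0 := by rw [B_comm]; exact hp.2.2.2
  simp only [B_add_right, B_sub_right, B_smul_right, e1, e2, e3, e4]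
  module

/-- the product of two root elements on disjoint perpendicular lines is not a root element -/
theorem not_line_of_two {a b c d a' b' : ι → F} (h : IsLine Q a b) (h' : IsLine Q c d)
    (hp : B Q c a = 0 ∧ B Q d a = 0 ∧ B Q c b = 0 ∧ B Q d b = 0)
    (hdis : ∀ p, InL a b p → InL c d p → p = 0) (h'' : IsLine Q a' b') :
    rh Q a b * rh Q c d ≠ rh Q a' b' := by
  intro heq
  have h4 := indep4_of_disjoint h.2.2.2 h'.2.2.2 hdis
  obtain ⟨xa, ha1, ha2, ha3, ha4⟩ := exists_dual4 hQ h4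
  obtain ⟨xb, hb1, hb2, hb3, hb4⟩ := exists_dual4 hQ h4.rot
  obtain ⟨xc, hc1, hc2, hc3, hc4⟩ := exists_dual4 hQ h4.rot.rot
  have e1 := rh_line_sub hQ fr h'' xa
  have e2 := rh_line_sub hQ fr h'' xb
  have e3 := rh_line_sub hQ fr h'' xc
  rw [← heq, two_apply hQ fr h h' hp] at e1 e2 e3
  rw [ha1, ha2, ha3, ha4] at e1
  rw [hb1, hb2, hb3, hb4] at e2
  rw [hc1, hc2, hc3, hc4] at e3
  have hb' : InL a' b' b := by
    have : b = xa + (1 : F) • b - (0 : F) • a + (0 : F) • d - (0 : F) • c - xa := by module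
    rw [this]; exact e1
  have ha' : InL a' b' a := by
    have : a = -(xb + (0 : F) • b - (1 : F) • a + (0 : F) • d - (0 : F) • c - xb) := by module
    rw [this]; exact e2.neg
  have hd' : InL a' b' d := by
    have : d = xc + (0 : F) • b - (0 : F) • a + (1 : F) • d - (0 : F) • c - xc := by module
    rw [this]; exact e3
  obtain ⟨i1, i2⟩ := inL_swap h.2.2.2 ha' hb'
  have hd'' : InL a b d := hd'.trans i1 i2
  have := hdis d hd'' (InL.right c d)
  exact h'.2.2.2.symm.ne_zero_left this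

/-- an isometry commuting with the Siegel elements `ρ(u, v)` has `u` as an eigenvector -/
theorem eig_of_comm {u : ι → F} (hu : Q u = 0) (hu0 : u ≠ 0) (z : ↥(Cfsg.isometryGroup F ⇑Q))
    (hz : ∀ v, B Q u v = 0 → z * rh Q u v = rh Q u v * z) : ∃ c : F, mt Q z *ᵥ u = c • u := by
  obtain ⟨g, hg⟩ := witt_single hQ fr hu hu0
  have key : ∀ i : Fin 3, i ≠ 0 → InL u (mt Q g *ᵥ (fr.e i)) (mt Q z *ᵥ u) := by
    intro i hi
    have hl : IsLine Q u (mt Q g *ᵥ (fr.e i)) := by
      rw [← hg]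
      refine IsLine.map ⟨fr.Qe 0, fr.Qe i, fr.Bee 0 i, ?_⟩ g
      intro x y hxy
      have h1 := congrArg (fun w => B Q w (fr.f 0)) hxy
      have h2 := congrArg (fun w => B Q w (fr.f i)) hxy
      simp only [B_add_left, B_smul_left, B_zero_left] at h1 h2
      simp only [B, fr.Bef] at h1 h2
      simp [hi, hi.symm] at h1 h2
      exact ⟨h1, h2⟩
    have h1 : rh Q u (mt Q g *ᵥ (fr.e i)) =
        rh Q (mt Q z *ᵥ u) (mt Q z *ᵥ (mt Q g *ᵥ (fr.e i))) := by
      rw [← rh_conj, hz _ hl.2.2.1, mul_inv_cancel_right]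
    exact (line_of_rh_eq hQ fr hl (hl.map z) h1).1
  obtain ⟨s, t, h1⟩ := key 1 (by decide)
  obtain ⟨s', t', h2⟩ := key 2 (by decide)
  -- pair with `g f₁`
  have e1 : B Q u (mt Q g *ᵥ (fr.f 1)) = 0 := by
    rw [B_map_eq' Q g hg]; simp only [B, fr.Bef]; simp
  have e2 : B Q (mt Q g *ᵥ (fr.e 1)) (mt Q g *ᵥ (fr.f 1)) = 1 := by
    rw [B_isom]; simp only [B, fr.Bef]; simp
  have e3 : B Q (mt Q g *ᵥ (fr.e 2)) (mt Q g *ᵥ (fr.f 1)) = 0 := by
    rw [B_isom]; simp only [B, fr.Bef]; simp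
  have h3 := congrArg (fun w => B Q w (mt Q g *ᵥ (fr.f 1))) (h1.symm.trans h2)
  simp only [B_add_left, B_smul_left, e1, e2, e3] at h3
  have ht : t = 0 := by linear_combination h3
  refine ⟨s, ?_⟩
  rw [h1, ht, zero_smul, add_zero]

end nd

/-- a `Q`-preserving matrix fixing `e` and acting trivially on `e^⊥ / e` is a Siegel matrix -/
theorem eq_siegM_of_fix {e f : ι → F} (he : Q e = 0) (hf : Q f = 0) (hef : B Q e f = 1)
    {M : Matrix ι ι F} (hM : ∀ x, Q (M *ᵥ x) = Q x) (hMe : M *ᵥ e = e)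
    (hW : ∀ w, B Q e w = 0 → ∃ μ : F, M *ᵥ w = w + μ • e) :
    B Q e (M *ᵥ f - f) = 0 ∧ ∀ x, M *ᵥ x = siegM Q e (M *ᵥ f - f) *ᵥ x := by
  have hBM : ∀ x y, B Q (M *ᵥ x) (M *ᵥ y) = B Q x y := fun x y => polar_isom Q hM x y
  set y := M *ᵥ f - f with hy
  have hey : B Q e y = 0 := by
    rw [hy, B_sub_right, hef]
    have := hBM e f
    rw [hMe, hef] at this
    rw [this, sub_self]
  have hMf : M *ᵥ f = f + y := by rw [hy]; abel
  have hQy : Q y + B Q f y = 0 := by
    have h1 := hM f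
    rw [hMf, Q_add, hf, zero_add] at h1
    exact h1
  have hfe : B Q f e = 1 := by rw [B_comm]; exact hef
  refine ⟨hey, ?_⟩
  have hye : B Q y e = 0 := by rw [B_comm]; exact hey
  have hyf : B Q y f = B Q f y := B_comm Q _ _
  have hQy' : Q y = - B Q f y := by linear_combination hQy
  have key : ∀ (x₀ : ι → F) (s t : F), B Q e x₀ = 0 → B Q x₀ f = 0 →
      M *ᵥ (x₀ + s • e + t • f) = siegM Q e y *ᵥ (x₀ + s • e + t • f) := by
    intro x₀ s t hx₀e hx₀f
    obtain ⟨μ, hμ⟩ := hW x₀ hx₀e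
    have hμ' : μ = - B Q x₀ y := by
      have h1 := hBM x₀ f
      rw [hμ, hMf, hx₀f] at h1
      simp only [B_add_left, B_add_right, B_smul_left, hx₀f, hef, hey] at h1
      linear_combination h1
    have hyx₀ : B Q y x₀ = B Q x₀ y := B_comm Q _ _
    rw [siegM_mulVec, Matrix.mulVec_add, Matrix.mulVec_add, Matrix.mulVec_smul,
      Matrix.mulVec_smul, hμ, hMe, hMf, hμ']
    simp only [B_add_right, B_smul_right, hx₀e, B_self_of_singular Q he, hef, hyx₀, hye, hyf]
    rw [hQy']
    module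
  intro x
  set x₀ := x - B Q x f • e - B Q x e • f with hx₀
  have hx : x = x₀ + B Q x f • e + B Q x e • f := by rw [hx₀]; abel
  have hx₀e : B Q e x₀ = 0 := by
    rw [hx₀, B_sub_right, B_sub_right, B_smul_right, B_smul_right, B_self_of_singular Q he, hef,
      B_comm Q x e]
    ring
  have hx₀f : B Q x₀ f = 0 := by
    rw [hx₀, B_sub_left, B_sub_left, B_smul_left, B_smul_left, B_self_of_singular Q hf, hef]
    ring
  have := key x₀ (B Q x f) (B Q x e) hx₀e hx₀f
  rwa [← hx] at this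

end Cfsg.Agent.Helper7.AutO
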