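import Mathlib
import Cfsg.Agent.Helper7.AutO4

/-!
# Automorphisms of `PΩ(Q)`, part 5 (helper7)

The root groups `XΩ a b`, `Xb a b` and the Siegel groups `TΩ e`, `Qb e` in `Ω(Q)` and `PΩ(Q)`;
the conjugation action `cO` of the isometry group on `PΩ(Q)`.
-/

set_option autoImplicit false
set_option linter.unusedSectionVars false
set_option linter.unusedVariables false

namespace Cfsg.Agent.Helper7.AutO

open Matrix Cfsg.Agent.Helper28.Sg Cfsg.Agent.Helper28.Spin Cfsg.Agent.Helper28.PG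

theorem mem_closure_iff_of_closed {G : Type*} [Group G] (S : Set G) (h1 : (1 : G) ∈ S)
    (hm : ∀ x y, x ∈ S → y ∈ S → x * y ∈ S) (hi : ∀ x, x ∈ S → x⁻¹ ∈ S) {x : G} :
    x ∈ Subgroup.closure S ↔ x ∈ S := by
  constructor
  · intro hx
    induction hx using Subgroup.closure_induction with
    | mem x hx => exact hx
    | one => exact h1
    | mul x y _ _ hx hy => exact hm x y hx hy
    | inv x _ hx => exact hi x hx
  · exact fun hx => Subgroup.subset_closure hx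

variable {F : Type*} [Field F] {ι : Type} [Fintype ι] [DecidableEq ι]
  (Q : QuadraticForm F (ι → F))

/-- the root group of the line `⟨a, b⟩` in `Ω(Q)` -/
noncomputable def XΩ (a b : ι → F) : Subgroup ↥(Cfsg.Omega F ⇑Q) :=
  Subgroup.closure (Set.range fun t : F => ro Q a (t • b))

/-- the Siegel group of `e` in `Ω(Q)` -/
noncomputable def TΩ (e : ι → F) : Subgroup ↥(Cfsg.Omega F ⇑Q) :=
  Subgroup.closure {x | ∃ w : ι → F, B Q e w = 0 ∧ x = ro Q e w}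

/-- the root group of the line `⟨a, b⟩` in `PΩ(Q)` -/
noncomputable def Xb (a b : ι → F) : Subgroup (Cfsg.POmega F ⇑Q) := (XΩ Q a b).map (pr Q)

/-- the Siegel group of `e` in `PΩ(Q)` -/
noncomputable def Qb (e : ι → F) : Subgroup (Cfsg.POmega F ⇑Q) := (TΩ Q e).map (pr Q)

/-- conjugation by an isometry, as an automorphism of `PΩ(Q)` -/
noncomputable def cO (g : ↥(Cfsg.isometryGroup F ⇑Q)) : MulAut (Cfsg.POmega F ⇑Q) :=
  cG Q ⟨(g : GL ι F), O_le_GO Q g.2⟩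

section nd

variable (hQ : (QuadraticMap.polarBilin Q).Nondegenerate) (fr : Frame3 Q)

include hQ fr

theorem mem_XΩ {a b : ι → F} (ha : Q a = 0) (hab : B Q a b = 0) {x : ↥(Cfsg.Omega F ⇑Q)} :
    x ∈ XΩ Q a b ↔ ∃ t : F, x = ro Q a (t • b) := by
  unfold XΩ
  have hv : ∀ t : F, B Q a (t • b) = 0 := fun t => by rw [B_smul_right, hab, mul_zero]
  rw [mem_closure_iff_of_closed]
  · constructor
    · rintro ⟨t, rfl⟩; exact ⟨t, rfl⟩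
    · rintro ⟨t, rfl⟩; exact ⟨t, rfl⟩
  · exact ⟨0, by simp only [zero_smul]; exact ro_zero_right Q hQ fr a⟩
  · rintro _ _ ⟨t, rfl⟩ ⟨t', rfl⟩
    refine ⟨t + t', ?_⟩
    beta_reduce
    rw [ro_mul Q hQ fr ha (hv t) (hv t'), add_smul]
  · rintro _ ⟨t, rfl⟩
    refine ⟨-t, ?_⟩
    beta_reduce
    rw [ro_inv Q hQ fr, neg_smul]

theorem mem_TΩ {e : ι → F} (he : Q e = 0) {x : ↥(Cfsg.Omega F ⇑Q)} :
    x ∈ TΩ Q e ↔ ∃ w : ι → F, B Q e w = 0 ∧ x = ro Q e w := by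
  unfold TΩ
  rw [mem_closure_iff_of_closed]
  · rfl
  · exact ⟨0, B_zero_right Q e, (ro_zero_right Q hQ fr e).symm⟩
  · rintro _ _ ⟨w, hw, rfl⟩ ⟨w', hw', rfl⟩
    exact ⟨w + w', by rw [B_add_right, hw, hw', add_zero], ro_mul Q hQ fr he hw hw'⟩
  · rintro _ ⟨w, hw, rfl⟩
    exact ⟨-w, by rw [B_neg_right, hw, neg_zero], ro_inv Q hQ fr e w⟩

theorem mem_Xb {a b : ι → F} (ha : Q a = 0) (hab : B Q a b = 0) {x : Cfsg.POmega F ⇑Q} :
    x ∈ Xb Q a b ↔ ∃ t : F, x = rb Q a (t • b) := by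
  unfold Xb
  rw [Subgroup.mem_map]
  constructor
  · rintro ⟨y, hy, rfl⟩
    obtain ⟨t, rfl⟩ := (mem_XΩ Q hQ fr ha hab).1 hy
    exact ⟨t, rfl⟩
  · rintro ⟨t, rfl⟩
    exact ⟨_, (mem_XΩ Q hQ fr ha hab).2 ⟨t, rfl⟩, rfl⟩

theorem mem_Qb {e : ι → F} (he : Q e = 0) {x : Cfsg.POmega F ⇑Q} :
    x ∈ Qb Q e ↔ ∃ w : ι → F, B Q e w = 0 ∧ x = rb Q e w := by
  unfold Qb
  rw [Subgroup.mem_map]
  constructor
  · rintro ⟨y, hy, rfl⟩
    obtain ⟨w, hw, rfl⟩ := (mem_TΩ Q hQ fr he).1 hy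
    exact ⟨w, hw, rfl⟩
  · rintro ⟨w, hw, rfl⟩
    exact ⟨_, (mem_TΩ Q hQ fr he).2 ⟨w, hw, rfl⟩, rfl⟩

theorem rb_zero_right (u : ι → F) : rb Q u 0 = 1 := by
  unfold rb
  rw [ro_zero_right Q hQ fr, map_one]

theorem rb_mul {u v w : ι → F} (hu : Q u = 0) (huv : B Q u v = 0) (huw : B Q u w = 0) :
    rb Q u v * rb Q u w = rb Q u (v + w) := by
  unfold rb
  rw [← map_mul, ro_mul Q hQ fr hu huv huw]

theorem rb_inv (u v : ι → F) : (rb Q u v)⁻¹ = rb Q u (-v) := by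
  unfold rb
  rw [← map_inv, ro_inv Q hQ fr]

theorem rb_conj (g : ↥(Cfsg.Omega F ⇑Q)) (u v : ι → F) :
    pr Q g * rb Q u v * (pr Q g)⁻¹ = rb Q (mo Q g *ᵥ u) (mo Q g *ᵥ v) := by
  unfold rb
  rw [← map_inv, ← map_mul, ← map_mul, ro_conj Q hQ fr]

theorem rb_congr {u v u' v' : ι → F} (h : rh Q u v = rh Q u' v') : rb Q u v = rb Q u' v' := by
  unfold rb
  rw [ro_congr Q hQ fr h]

theorem XΩ_le_TΩ {a b : ι → F} (ha : Q a = 0) (hab : B Q a b = 0) : XΩ Q a b ≤ TΩ Q a := by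
  intro x hx
  obtain ⟨t, rfl⟩ := (mem_XΩ Q hQ fr ha hab).1 hx
  exact (mem_TΩ Q hQ fr ha).2 ⟨t • b, by rw [B_smul_right, hab, mul_zero], rfl⟩

theorem Xb_le_Qb {a b : ι → F} (ha : Q a = 0) (hab : B Q a b = 0) : Xb Q a b ≤ Qb Q a :=
  Subgroup.map_mono (XΩ_le_TΩ Q hQ fr ha hab)

/-- the conjugation action on Siegel elements -/
theorem cO_rb (g : ↥(Cfsg.isometryGroup F ⇑Q)) (u v : ι → F) :
    cO Q g (rb Q u v) = rb Q (mt Q g *ᵥ u) (mt Q g *ᵥ v) := by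
  unfold cO rb pr
  rw [QuotientGroup.mk'_apply, cG_mk, QuotientGroup.mk'_apply]
  congr 1
  apply Subtype.ext
  rw [conjΩ_coe, ro_val Q hQ fr, ro_val Q hQ fr, ← rh_conj]
  apply Subtype.ext
  rw [conjO_coe]
  rfl

theorem cO_pr (g x : ↥(Cfsg.Omega F ⇑Q)) :
    cO Q (g : ↥(Cfsg.isometryGroup F ⇑Q)) (pr Q x) = pr Q g * pr Q x * (pr Q g)⁻¹ := by
  unfold cO pr
  rw [QuotientGroup.mk'_apply, cG_mk, QuotientGroup.mk'_apply]
  rw [← QuotientGroup.mk_inv, ← QuotientGroup.mk_mul, ← QuotientGroup.mk_mul]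
  congr 1

theorem cO_Xb (g : ↥(Cfsg.isometryGroup F ⇑Q)) {a b : ι → F} (ha : Q a = 0)
    (hab : B Q a b = 0) :
    (Xb Q a b).map (cO Q g).toMonoidHom = Xb Q (mt Q g *ᵥ a) (mt Q g *ᵥ b) := by
  have ha' : Q (mt Q g *ᵥ a) = 0 := by rw [Q_isom, ha]
  have hab' : B Q (mt Q g *ᵥ a) (mt Q g *ᵥ b) = 0 := by rw [B_isom, hab]
  ext x
  rw [Subgroup.mem_map, mem_Xb Q hQ fr ha' hab']
  constructor
  · rintro ⟨y, hy, rfl⟩
    obtain ⟨t, rfl⟩ := (mem_Xb Q hQ fr ha hab).1 hy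
    refine ⟨t, ?_⟩
    show cO Q g (rb Q a (t • b)) = _
    rw [cO_rb Q hQ fr, Matrix.mulVec_smul]
  · rintro ⟨t, rfl⟩
    refine ⟨rb Q a (t • b), (mem_Xb Q hQ fr ha hab).2 ⟨t, rfl⟩, ?_⟩
    show cO Q g (rb Q a (t • b)) = _
    rw [cO_rb Q hQ fr, Matrix.mulVec_smul]

theorem cO_Qb (g : ↥(Cfsg.isometryGroup F ⇑Q)) {e : ι → F} (he : Q e = 0) :
    (Qb Q e).map (cO Q g).toMonoidHom = Qb Q (mt Q g *ᵥ e) := by
  have he' : Q (mt Q g *ᵥ e) = 0 := by rw [Q_isom, he]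
  ext x
  rw [Subgroup.mem_map, mem_Qb Q hQ fr he']
  constructor
  · rintro ⟨y, hy, rfl⟩
    obtain ⟨w, hw, rfl⟩ := (mem_Qb Q hQ fr he).1 hy
    refine ⟨mt Q g *ᵥ w, by rw [B_isom, hw], ?_⟩
    show cO Q g (rb Q e w) = _
    rw [cO_rb Q hQ fr]
  · rintro ⟨w, hw, rfl⟩
    refine ⟨rb Q e (mt Q g⁻¹ *ᵥ w), (mem_Qb Q hQ fr he).2 ⟨_, ?_, rfl⟩, ?_⟩
    · have := B_isom Q g e (mt Q g⁻¹ *ᵥ w)
      rw [mt_mulVec_inv] at this
      rw [← this, hw]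
    · show cO Q g (rb Q e (mt Q g⁻¹ *ᵥ w)) = _
      rw [cO_rb Q hQ fr, mt_mulVec_inv]

end nd

end Cfsg.Agent.Helper7.AutO
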