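import Mathlib
import Cfsg.Agent.Helper7.AutO5

/-!
# Automorphisms of `PΩ(Q)`, part 6 (helper7)

Generic lemmas on centres of subgroups and Sylow subgroups; the `p`-subgroup `TΩ e₀ ⊔ EΩ` of
`Ω(Q)`; the centre of a Sylow `p`-subgroup containing it lies in the root group `XΩ e₀ e₁`.
-/

set_option autoImplicit false
set_option linter.unusedSectionVars false
set_option linter.unusedVariables false

namespace Cfsg.Agent.Helper7.AutO

open Matrix Cfsg.Agent.Helper28.Sg Cfsg.Agent.Helper28.Spin Cfsg.Agent.Helper28.PG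

section generic

variable {G : Type*} [Group G]

/-- the centre of a subgroup, as a subgroup of the ambient group -/
def zz (H : Subgroup G) : Subgroup G := H ⊓ Subgroup.centralizer (H : Set G)

theorem mem_zz {H : Subgroup G} {x : G} : x ∈ zz H ↔ x ∈ H ∧ ∀ y ∈ H, y * x = x * y := by
  unfold zz
  rw [Subgroup.mem_inf, Subgroup.mem_centralizer_iff]
  rfl

theorem zz_map (α : MulAut G) (H : Subgroup G) :
    zz (H.map α.toMonoidHom) = (zz H).map α.toMonoidHom := by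
  ext x
  constructor
  · intro hx
    rw [mem_zz] at hx
    obtain ⟨⟨y, hy, rfl⟩, hc⟩ := hx
    refine ⟨y, mem_zz.2 ⟨hy, fun z hz => ?_⟩, rfl⟩
    have := hc (α z) ⟨z, hz, rfl⟩
    apply α.injective
    rw [map_mul, map_mul]
    exact this
  · rintro ⟨y, hy', rfl⟩
    have hy : y ∈ zz H := hy'
    rw [mem_zz] at hy ⊢
    refine ⟨⟨y, hy.1, rfl⟩, ?_⟩
    rintro _ ⟨z, hz, rfl⟩
    show α z * α y = α y * α z
    rw [← map_mul, ← map_mul, hy.2 z hz]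

/-- automorphisms map a Sylow subgroup to a conjugate -/
theorem exists_conj_of_sylow [Finite G] {p : ℕ} [Fact p.Prime] (P : Sylow p G) (α : MulAut G) :
    ∃ g : G, (P : Subgroup G).map α.toMonoidHom =
      (P : Subgroup G).map (MulAut.conj g).toMonoidHom := by
  have hp : IsPGroup p ((P : Subgroup G).map α.toMonoidHom) := P.2.map _
  obtain ⟨Q, hQ⟩ := hp.exists_le_sylow
  obtain ⟨g, hg⟩ := MulAction.exists_smul_eq G P Q
  refine ⟨g, ?_⟩
  have h1 : (Q : Subgroup G) = (P : Subgroup G).map (MulAut.conj g).toMonoidHom := by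
    rw [← hg]
    rfl
  rw [← h1]
  apply Subgroup.eq_of_le_of_card_ge hQ
  rw [h1, Subgroup.card_map_of_injective (MulAut.conj g).injective,
    Subgroup.card_map_of_injective α.injective]

/-- a nontrivial finite `p`-subgroup has a nontrivial central element -/
theorem exists_zz_ne_one [Finite G] {p : ℕ} [Fact p.Prime] {H : Subgroup G} (hH : IsPGroup p H)
    {x : G} (hx : x ∈ H) (hx1 : x ≠ 1) : ∃ z ∈ zz H, z ≠ 1 := by
  have : Nontrivial ↥H := ⟨⟨⟨x, hx⟩, 1, fun h => hx1 (congrArg Subtype.val h)⟩⟩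
  have hc := hH.center_nontrivial
  obtain ⟨⟨z, hz⟩, hz1⟩ := exists_ne (1 : Subgroup.center ↥H)
  refine ⟨(z : G), ?_, ?_⟩
  · rw [mem_zz]
    refine ⟨z.2, fun y hy => ?_⟩
    rw [Subgroup.mem_center_iff] at hz
    have := hz ⟨y, hy⟩
    exact congrArg Subtype.val this
  · intro h
    apply hz1
    apply Subtype.ext
    apply Subtype.ext
    exact h

end generic

variable {F : Type*} [Field F] {ι : Type} [Fintype ι] [DecidableEq ι]
  (Q : QuadraticForm F (ι → F))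

/-- the group of Siegel elements `ρ(e₁, v)` with `v ⟂ e₀, e₁` -/
noncomputable def EΩ (fr : Frame3 Q) : Subgroup ↥(Cfsg.Omega F ⇑Q) :=
  Subgroup.closure {x | ∃ v : ι → F, B Q (fr.e 0) v = 0 ∧ B Q (fr.e 1) v = 0 ∧ x = ro Q (fr.e 1) v}

section nd

variable (hQ : (QuadraticMap.polarBilin Q).Nondegenerate) (fr : Frame3 Q)

include hQ fr

theorem mem_EΩ {x : ↥(Cfsg.Omega F ⇑Q)} :
    x ∈ EΩ Q fr ↔ ∃ v : ι → F, B Q (fr.e 0) v = 0 ∧ B Q (fr.e 1) v = 0 ∧ x = ro Q (fr.e 1) v := by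
  unfold EΩ
  rw [mem_closure_iff_of_closed]
  · rfl
  · exact ⟨0, B_zero_right Q _, B_zero_right Q _, (ro_zero_right Q hQ fr _).symm⟩
  · rintro _ _ ⟨w, hw0, hw, rfl⟩ ⟨w', hw0', hw', rfl⟩
    exact ⟨w + w', by rw [B_add_right, hw0, hw0', add_zero],
      by rw [B_add_right, hw, hw', add_zero], ro_mul Q hQ fr (fr.Qe 1) hw hw'⟩
  · rintro _ ⟨w, hw0, hw, rfl⟩
    exact ⟨-w, by rw [B_neg_right, hw0, neg_zero], by rw [B_neg_right, hw, neg_zero],
      ro_inv Q hQ fr _ w⟩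

variable (p : ℕ) [Fact p.Prime] [CharP F p]

theorem TΩ_isPGroup {e : ι → F} (he : Q e = 0) : IsPGroup p ↥(TΩ Q e) := by
  rintro ⟨g, hg⟩
  obtain ⟨w, hw, rfl⟩ := (mem_TΩ Q hQ fr he).1 hg
  refine ⟨1, ?_⟩
  apply Subtype.ext
  rw [Subgroup.coe_pow, Subgroup.coe_one]
  exact ro_pElement Q hQ fr p e w

theorem EΩ_isPGroup : IsPGroup p ↥(EΩ Q fr) := by
  rintro ⟨g, hg⟩
  obtain ⟨w, -, -, rfl⟩ := (mem_EΩ Q hQ fr).1 hg
  refine ⟨1, ?_⟩
  apply Subtype.ext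
  rw [Subgroup.coe_pow, Subgroup.coe_one]
  exact ro_pElement Q hQ fr p _ w

theorem ro_e1_fix_e0 {v : ι → F} (hv0 : B Q (fr.e 0) v = 0) (hv : B Q (fr.e 1) v = 0) :
    mo Q (ro Q (fr.e 1) v) *ᵥ (fr.e 0) = fr.e 0 := by
  rw [ro_mulVec Q hQ fr (fr.Qe 1) hv, show B Q (fr.e 1) (fr.e 0) = 0 from fr.Bee 1 0,
    B_comm Q v, hv0]
  simp

theorem EΩ_le_normalizer :
    EΩ Q fr ≤ Subgroup.normalizer ((TΩ Q (fr.e 0) : Subgroup ↥(Cfsg.Omega F ⇑Q)) : Set _) := by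
  have key : ∀ x ∈ EΩ Q fr, ∀ h ∈ TΩ Q (fr.e 0), x * h * x⁻¹ ∈ TΩ Q (fr.e 0) := by
    intro x hx h hh
    obtain ⟨v, hv0, hv, rfl⟩ := (mem_EΩ Q hQ fr).1 hx
    obtain ⟨w, hw, rfl⟩ := (mem_TΩ Q hQ fr (fr.Qe 0)).1 hh
    rw [ro_conj Q hQ fr, ro_e1_fix_e0 Q hQ fr hv0 hv]
    refine (mem_TΩ Q hQ fr (fr.Qe 0)).2 ⟨_, ?_, rfl⟩
    have := B_isom Q (ro Q (fr.e 1) v : ↥(Cfsg.isometryGroup F ⇑Q)) (fr.e 0) w
    have h2 := ro_e1_fix_e0 Q hQ fr hv0 hv
    unfold mo at h2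
    rw [h2] at this
    rw [this, hw]
  intro x hx
  rw [Subgroup.mem_normalizer_iff]
  intro h
  constructor
  · exact key x hx h
  · intro hh
    have := key x⁻¹ ((EΩ Q fr).inv_mem hx) _ hh
    rwa [show x⁻¹ * (x * h * x⁻¹) * x⁻¹⁻¹ = h by group] at this

variable [Fintype F]

/-- a Sylow `p`-subgroup of `Ω(Q)` containing `TΩ e₀` and `EΩ` -/
theorem exists_sylow_ge : ∃ U : Sylow p ↥(Cfsg.Omega F ⇑Q),
    TΩ Q (fr.e 0) ≤ (U : Subgroup ↥(Cfsg.Omega F ⇑Q)) ∧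
      EΩ Q fr ≤ (U : Subgroup ↥(Cfsg.Omega F ⇑Q)) := by
  have h1 := (EΩ_isPGroup Q hQ fr p).to_sup_of_normal_right' (TΩ_isPGroup Q hQ fr p (fr.Qe 0))
    (EΩ_le_normalizer Q hQ fr)
  obtain ⟨U, hU⟩ := h1.exists_le_sylow
  exact ⟨U, le_trans le_sup_right hU, le_trans le_sup_left hU⟩

end nd

end Cfsg.Agent.Helper7.AutO
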