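import Mathlib
import Cfsg.Agent.Helper7.AutO6

/-!
# Automorphisms of `PΩ(Q)`, part 7 (helper7)

The centre of a Sylow `p`-subgroup of `Ω(Q)` containing `TΩ e₀` and `EΩ` is contained in the root
group `XΩ e₀ e₁`.
-/

set_option autoImplicit false
set_option linter.unusedSectionVars false
set_option linter.unusedVariables false

namespace Cfsg.Agent.Helper7.AutO

open Matrix Cfsg.Agent.Helper28.Sg Cfsg.Agent.Helper28.Spin Cfsg.Agent.Helper28.PG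

variable {F : Type*} [Field F] {ι : Type} [Fintype ι] [DecidableEq ι]
  {Q : QuadraticForm F (ι → F)}

theorem Bef' (fr : Frame3 Q) (i j : Fin 3) : B Q (fr.e i) (fr.f j) = if i = j then 1 else 0 :=
  fr.Bef i j

theorem Bfe' (fr : Frame3 Q) (i j : Fin 3) : B Q (fr.f i) (fr.e j) = if i = j then 1 else 0 :=
  fr.Bfe i j

theorem Bee' (fr : Frame3 Q) (i j : Fin 3) : B Q (fr.e i) (fr.e j) = 0 := fr.Bee i j

theorem Bff' (fr : Frame3 Q) (i j : Fin 3) : B Q (fr.f i) (fr.f j) = 0 := fr.Bff i j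

/-- a vector perpendicular to `⟨e₀, e₁⟩^⊥` lies in `⟨e₀, e₁⟩` -/
theorem perp_perp (hQ : (QuadraticMap.polarBilin Q).Nondegenerate) (fr : Frame3 Q) {y : ι → F}
    (h0 : B Q y (fr.e 0) = 0) (h1 : B Q y (fr.e 1) = 0)
    (h : ∀ v, B Q (fr.e 0) v = 0 → B Q (fr.e 1) v = 0 → B Q y v = 0) :
    y = B Q y (fr.f 0) • fr.e 0 + B Q y (fr.f 1) • fr.e 1 := by
  set y' := y - B Q y (fr.f 0) • fr.e 0 - B Q y (fr.f 1) • fr.e 1 with hy'
  have hzero : y' = 0 := by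
    apply hQ.1
    intro x
    show B Q y' x = 0
    set x' := x - B Q x (fr.f 0) • fr.e 0 - B Q x (fr.e 0) • fr.f 0 - B Q x (fr.f 1) • fr.e 1
      - B Q x (fr.e 1) • fr.f 1 with hx'
    have hx : x = x' + B Q x (fr.f 0) • fr.e 0 + B Q x (fr.e 0) • fr.f 0 + B Q x (fr.f 1) • fr.e 1
      + B Q x (fr.e 1) • fr.f 1 := by rw [hx']; abel
    have e0 : B Q (fr.e 0) x' = 0 := by
      rw [hx']
      simp only [B_sub_right, B_smul_right, Bef', Bee', B_comm Q x (fr.e 0)]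
      simp
    have e1 : B Q (fr.e 1) x' = 0 := by
      rw [hx']
      simp only [B_sub_right, B_smul_right, Bef', Bee', B_comm Q x (fr.e 1)]
      simp
    have e2 := h x' e0 e1
    have key : ∀ (s₀ t₀ s₁ t₁ : F), B Q y' (x' + s₀ • fr.e 0 + t₀ • fr.f 0 + s₁ • fr.e 1
        + t₁ • fr.f 1) = 0 := by
      intro s₀ t₀ s₁ t₁
      rw [hy']
      simp only [B_sub_left, B_add_right, B_smul_left, B_smul_right, Bef', Bee', e0, e1, e2, h0, h1]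
      simp
    have := key (B Q x (fr.f 0)) (B Q x (fr.e 0)) (B Q x (fr.f 1)) (B Q x (fr.e 1))
    rwa [← hx] at this
  have : y = y' + B Q y (fr.f 0) • fr.e 0 + B Q y (fr.f 1) • fr.e 1 := by rw [hy']; abel
  rw [hzero, zero_add] at this
  exact this

section nd

variable (hQ : (QuadraticMap.polarBilin Q).Nondegenerate) (fr : Frame3 Q)
variable (p : ℕ) [Fact p.Prime] [CharP F p] [Fintype F]

include hQ fr

theorem sylow_pElement (U : Sylow p ↥(Cfsg.Omega F ⇑Q)) {x : ↥(Cfsg.Omega F ⇑Q)}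
    (hx : x ∈ U) : ∃ k : ℕ, x ^ p ^ k = 1 := by
  obtain ⟨k, hk⟩ := U.isPGroup' ⟨x, hx⟩
  refine ⟨k, ?_⟩
  have := congrArg Subtype.val hk
  rwa [Subgroup.coe_pow, Subgroup.coe_one] at this

/-- a `p`-element commuting with `TΩ e` (with `e = e₀`) is a Siegel element `ρ(e₀, y)` -/
theorem eq_rh_of_comm_TΩ {z : ↥(Cfsg.Omega F ⇑Q)} {k : ℕ} (hk : z ^ p ^ k = 1)
    (hzc : ∀ w, B Q (fr.e 0) w = 0 → ro Q (fr.e 0) w * z = z * ro Q (fr.e 0) w) :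
    ∃ y, B Q (fr.e 0) y = 0 ∧ (z : ↥(Cfsg.isometryGroup F ⇑Q)) = rh Q (fr.e 0) y := by
  have hc0 : ∀ w, B Q (fr.e 0) w = 0 →
      (z : ↥(Cfsg.isometryGroup F ⇑Q)) * rh Q (fr.e 0) w = rh Q (fr.e 0) w * z := by
    intro w hw
    have h2 := congrArg Subtype.val (hzc w hw)
    rw [Subgroup.coe_mul, Subgroup.coe_mul, ro_val Q hQ fr] at h2
    exact h2.symm
  obtain ⟨c, hc⟩ := eig_of_comm hQ fr (fr.Qe 0) (fr.e_ne_zero 0) _ hc0
  have hc1 : c = 1 := by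
    have h2 := mo_pow_scalar Q hc (p ^ k)
    rw [hk, mo_one] at h2
    have h3 : ((1 : F) - c ^ p ^ k) • fr.e 0 = 0 := by
      rw [sub_smul, one_smul, ← h2, sub_self]
    rcases smul_eq_zero.1 h3 with h | h
    · exact eq_one_of_pow_char_pow p (sub_eq_zero.1 h).symm
    · exact absurd h (fr.e_ne_zero 0)
  rw [hc1, one_smul] at hc
  have hef : B Q (fr.e 0) (fr.f 0) = 1 := by rw [Bef']; simp
  have hW : ∀ w, B Q (fr.e 0) w = 0 → ∃ μ : F, mo Q z *ᵥ w = w + μ • fr.e 0 := by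
    intro w hw
    have h1 : rh Q (fr.e 0) (mo Q z *ᵥ w) = rh Q (fr.e 0) w := by
      have := rh_conj Q (z : ↥(Cfsg.isometryGroup F ⇑Q)) (fr.e 0) w
      rw [hc, hc0 w hw, mul_inv_cancel_right] at this
      exact this.symm
    have hw' : B Q (fr.e 0) (mo Q z *ᵥ w) = 0 := by
      have := B_isom Q (z : ↥(Cfsg.isometryGroup F ⇑Q)) (fr.e 0) w
      rw [hc] at this
      rw [this, hw]
    obtain ⟨c', hc'⟩ := rh_inj Q (fr.Qe 0) hef hw' hw h1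
    exact ⟨c', by rw [← hc']; abel⟩
  obtain ⟨hey, hM⟩ := eq_siegM_of_fix (fr.Qe 0) (fr.Qf 0) hef
    (Q_isom Q (z : ↥(Cfsg.isometryGroup F ⇑Q))) hc hW
  refine ⟨_, hey, ?_⟩
  apply O_ext
  intro x
  rw [hM x, rh_eq Q (fr.Qe 0) hey, siegO_val]

/-- the centre of a Sylow subgroup containing `TΩ e₀` and `EΩ` lies in the root group -/
theorem zz_le (U : Sylow p ↥(Cfsg.Omega F ⇑Q))
    (hT : TΩ Q (fr.e 0) ≤ (U : Subgroup ↥(Cfsg.Omega F ⇑Q)))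
    (hE : EΩ Q fr ≤ (U : Subgroup ↥(Cfsg.Omega F ⇑Q))) :
    zz (U : Subgroup ↥(Cfsg.Omega F ⇑Q)) ≤ XΩ Q (fr.e 0) (fr.e 1) := by
  intro z hz
  rw [mem_zz] at hz
  obtain ⟨hzU, hzc⟩ := hz
  obtain ⟨k, hk⟩ := sylow_pElement hQ fr p U hzU
  obtain ⟨y, hey, hz1⟩ := eq_rh_of_comm_TΩ hQ fr p hk
    (fun w hw => hzc _ (hT ((mem_TΩ Q hQ fr (fr.Qe 0)).2 ⟨w, hw, rfl⟩)))
  have hef : B Q (fr.e 0) (fr.f 0) = 1 := by rw [Bef']; simp
  -- commuting with `ρ(e₁, v)`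
  have hE' : ∀ v, B Q (fr.e 0) v = 0 → B Q (fr.e 1) v = 0 →
      ∃ c : F, mt Q (rh Q (fr.e 1) v) *ᵥ y - y = c • fr.e 0 := by
    intro v hv0 hv
    have h1 := hzc _ (hE ((mem_EΩ Q hQ fr).2 ⟨v, hv0, hv, rfl⟩))
    have h2 := congrArg Subtype.val h1
    rw [Subgroup.coe_mul, Subgroup.coe_mul, ro_val Q hQ fr, hz1] at h2
    have hfix : mt Q (rh Q (fr.e 1) v) *ᵥ (fr.e 0) = fr.e 0 := by
      have := ro_e1_fix_e0 Q hQ fr hv0 hv
      unfold mo at this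
      rwa [ro_val Q hQ fr] at this
    have h3 : rh Q (fr.e 0) (mt Q (rh Q (fr.e 1) v) *ᵥ y) = rh Q (fr.e 0) y := by
      have := rh_conj Q (rh Q (fr.e 1) v) (fr.e 0) y
      rw [hfix, h2, mul_inv_cancel_right] at this
      exact this.symm
    have hw' : B Q (fr.e 0) (mt Q (rh Q (fr.e 1) v) *ᵥ y) = 0 := by
      have := B_isom Q (rh Q (fr.e 1) v) (fr.e 0) y
      rw [hfix] at this
      rw [this, hey]
    exact rh_inj Q (fr.Qe 0) hef hw' hey h3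
  -- `y ⟂ e₁`
  have hy1 : B Q (fr.e 1) y = 0 := by
    obtain ⟨c, hc⟩ := hE' (fr.e 2) (Bee' fr 0 2) (Bee' fr 1 2)
    rw [rh_mulVec Q (fr.Qe 1) (Bee' fr 1 2), fr.Qe 2] at hc
    have h1 := congrArg (fun w => B Q w (fr.f 2)) hc
    simp only [B_sub_left, B_add_left, B_smul_left, Bef', Bee'] at h1
    simp at h1
    exact h1
  -- `y ⟂ ⟨e₀, e₁⟩^⊥`
  have hyv : ∀ v, B Q (fr.e 0) v = 0 → B Q (fr.e 1) v = 0 → B Q y v = 0 := by
    intro v hv0 hv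
    obtain ⟨c, hc⟩ := hE' v hv0 hv
    rw [rh_mulVec Q (fr.Qe 1) hv, hy1] at hc
    have h1 := congrArg (fun w => B Q w (fr.f 1)) hc
    simp only [B_sub_left, B_add_left, B_smul_left, Bef', Bee'] at h1
    simp at h1
    rw [B_comm Q y v]
    exact h1
  have hdec := perp_perp hQ fr (by rw [B_comm]; exact hey) (by rw [B_comm]; exact hy1) hyv
  rw [mem_XΩ Q hQ fr (fr.Qe 0) (Bee' fr 0 1)]
  refine ⟨B Q y (fr.f 1), ?_⟩
  apply Subtype.ext
  rw [hz1, ro_val Q hQ fr]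
  have h1 : B Q (fr.e 0) (B Q y (fr.f 1) • fr.e 1) = 0 := by
    rw [B_smul_right, Bee', mul_zero]
  rw [← rh_add_smul_self Q (B Q y (fr.f 0)) (fr.Qe 0) h1]
  congr 1
  rw [add_comm]
  exact hdec

end nd

end Cfsg.Agent.Helper7.AutO
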