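import Mathlib
import Cfsg.Agent.Helper7.AutO7

/-!
# Automorphisms of `PΩ(Q)`, part 8 (helper7)

The centre of a Sylow `p`-subgroup of `Ω(Q)` containing `TΩ e₀` and `EΩ` is the root group
`XΩ e₀ e₁`; the centres of the Sylow `p`-subgroups of `PΩ(Q)` are the root groups `Xb a b`; every
automorphism of `PΩ(Q)` permutes the root groups.
-/

set_option autoImplicit false
set_option linter.unusedSectionVars false
set_option linter.unusedVariables false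

namespace Cfsg.Agent.Helper7.AutO

open Matrix Cfsg.Agent.Helper28.Sg Cfsg.Agent.Helper28.Spin Cfsg.Agent.Helper28.PG

variable {F : Type*} [Field F] {ι : Type} [Fintype ι] [DecidableEq ι]
  {Q : QuadraticForm F (ι → F)}

theorem isLine_frame (fr : Frame3 Q) {i j : Fin 3} (hij : i ≠ j) : IsLine Q (fr.e i) (fr.e j) := by
  refine ⟨fr.Qe i, fr.Qe j, fr.Bee i j, ?_⟩
  intro x y hxy
  have h1 := congrArg (fun w => B Q w (fr.f i)) hxy
  have h2 := congrArg (fun w => B Q w (fr.f j)) hxy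
  simp only [B_add_left, B_smul_left, B_zero_left, Bef'] at h1 h2
  rw [if_neg hij.symm] at h1
  rw [if_neg hij] at h2
  simp at h1 h2
  exact ⟨h1, h2⟩

theorem IsLine.smul_right {a b : ι → F} (h : IsLine Q a b) {t : F} (ht : t ≠ 0) :
    IsLine Q a (t • b) := by
  refine ⟨h.1, by rw [Q_smul, h.2.1, mul_zero], by rw [B_smul_right, h.2.2.1, mul_zero], ?_⟩
  intro x y hxy
  rw [smul_smul] at hxy
  have := h.2.2.2 x (y * t) hxy
  refine ⟨this.1, ?_⟩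
  rcases mul_eq_zero.1 this.2 with h' | h'
  · exact h'
  · exact absurd h' ht

section nd

variable (hQ : (QuadraticMap.polarBilin Q).Nondegenerate) (fr : Frame3 Q)
variable (p : ℕ) [Fact p.Prime] [CharP F p] [Fintype F]

include hQ fr

/-- an isometry commuting with a root element `ρ(a, b)` centralises the whole root group -/
theorem comm_root_group {a b f₀ f₁ : ι → F} (h : IsLine Q a b) (hf₀ : B Q a f₀ = 1)
    (hf₁ : B Q a f₁ = 0) (hf₁' : B Q b f₁ = 1)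
    (u : ↥(Cfsg.isometryGroup F ⇑Q)) (hu : u * rh Q a b = rh Q a b * u) (s : F) :
    u * rh Q a (s • b) = rh Q a (s • b) * u := by
  have h1 : rh Q a b = rh Q (mt Q u *ᵥ a) (mt Q u *ᵥ b) := by
    rw [← rh_conj, hu, mul_inv_cancel_right]
  obtain ⟨⟨α, β, h2⟩, ⟨γ, δ, h3⟩⟩ := line_of_rh_eq hQ fr h (h.map u) h1
  have h4 : rh Q a b = rh Q a ((α * δ - β * γ) • b) := by
    rw [h1, h2, h3, rh_line Q h.1 h.2.1 h.2.2.1]
  obtain ⟨c, hc⟩ := rh_inj Q h.1 hf₀ h.2.2.1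
    (by rw [B_smul_right, h.2.2.1, mul_zero]) h4
  have hD : α * δ - β * γ = 1 := by
    have h5 := congrArg (fun w => B Q w f₁) hc
    simp only [B_sub_left, B_smul_left, hf₁, hf₁'] at h5
    linear_combination -h5
  have h6 : rh Q (mt Q u *ᵥ a) (mt Q u *ᵥ (s • b)) = rh Q a (s • b) := by
    rw [Matrix.mulVec_smul, h2, h3]
    have : s • (γ • a + δ • b) = (s * γ) • a + (s * δ) • b := by module
    rw [this, rh_line Q h.1 h.2.1 h.2.2.1]
    have : α * (s * δ) - β * (s * γ) = s := by linear_combination s * hD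
    rw [this]
  rw [← rh_conj] at h6
  calc u * rh Q a (s • b) = u * rh Q a (s • b) * u⁻¹ * u := by group
    _ = rh Q a (s • b) * u := by rw [h6]

/-- the centre of a Sylow subgroup containing `TΩ e₀` and `EΩ` is the root group -/
theorem zz_eq (U : Sylow p ↥(Cfsg.Omega F ⇑Q))
    (hT : TΩ Q (fr.e 0) ≤ (U : Subgroup ↥(Cfsg.Omega F ⇑Q)))
    (hE : EΩ Q fr ≤ (U : Subgroup ↥(Cfsg.Omega F ⇑Q))) :
    zz (U : Subgroup ↥(Cfsg.Omega F ⇑Q)) = XΩ Q (fr.e 0) (fr.e 1) := by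
  apply le_antisymm (zz_le hQ fr p U hT hE)
  have hl : IsLine Q (fr.e 0) (fr.e 1) := isLine_frame fr (by decide)
  have hmem : ro Q (fr.e 0) (fr.e 1) ∈ (U : Subgroup ↥(Cfsg.Omega F ⇑Q)) :=
    hT ((mem_TΩ Q hQ fr (fr.Qe 0)).2 ⟨_, hl.2.2.1, rfl⟩)
  have hne : ro Q (fr.e 0) (fr.e 1) ≠ 1 := by
    intro h
    apply rh_line_ne_one hQ fr hl
    rw [← ro_val Q hQ fr, h]
    rfl
  obtain ⟨z, hz, hz1⟩ := exists_zz_ne_one U.isPGroup' hmem hne
  obtain ⟨t₀, rfl⟩ := (mem_XΩ Q hQ fr (fr.Qe 0) hl.2.2.1).1 (zz_le hQ fr p U hT hE hz)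
  have ht₀ : t₀ ≠ 0 := by
    intro h
    apply hz1
    rw [h, zero_smul, ro_zero_right Q hQ fr]
  have hl' := hl.smul_right ht₀
  rw [mem_zz] at hz
  intro x hx
  obtain ⟨t, rfl⟩ := (mem_XΩ Q hQ fr (fr.Qe 0) hl.2.2.1).1 hx
  rw [mem_zz]
  refine ⟨hT ((mem_TΩ Q hQ fr (fr.Qe 0)).2 ⟨_, by rw [B_smul_right, hl.2.2.1, mul_zero], rfl⟩), ?_⟩
  intro u hu
  have h1 := congrArg Subtype.val (hz.2 u hu)
  rw [Subgroup.coe_mul, Subgroup.coe_mul, ro_val Q hQ fr] at h1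
  have h2 := comm_root_group hQ fr hl' (f₀ := fr.f 0) (f₁ := t₀⁻¹ • fr.f 1) (by rw [Bef']; simp)
    (by rw [B_smul_right, Bef']; simp)
    (by rw [B_smul_left, B_smul_right, Bef']; simp [ht₀]) _ h1 (t * t₀⁻¹)
  rw [smul_smul, inv_mul_cancel_right₀ ht₀] at h2
  apply Subtype.ext
  rw [Subgroup.coe_mul, Subgroup.coe_mul, ro_val Q hQ fr]
  exact h2

theorem pr_injOn_pGroup {P : Subgroup ↥(Cfsg.Omega F ⇑Q)} (hP : IsPGroup p P)
    {x y : ↥(Cfsg.Omega F ⇑Q)} (hx : x ∈ P) (hy : y ∈ P) (hxy : pr Q x = pr Q y) : x = y := by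
  obtain ⟨a, ha⟩ := hP ⟨x, hx⟩
  obtain ⟨b, hb⟩ := hP ⟨y, hy⟩
  have ha' : x ^ p ^ a = 1 := by
    have := congrArg Subtype.val ha
    rwa [Subgroup.coe_pow, Subgroup.coe_one] at this
  have hb' : y ^ p ^ b = 1 := by
    have := congrArg Subtype.val hb
    rwa [Subgroup.coe_pow, Subgroup.coe_one] at this
  exact pr_inj_p Q hQ fr p ha' hb' hxy

/-- the centre of the image of a `p`-subgroup -/
theorem zz_map_pr {P : Subgroup ↥(Cfsg.Omega F ⇑Q)} (hP : IsPGroup p P) :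
    zz (P.map (pr Q)) = (zz P).map (pr Q) := by
  apply le_antisymm
  · intro x hx
    rw [mem_zz] at hx
    obtain ⟨⟨y, hy, rfl⟩, hc⟩ := hx
    refine ⟨y, ?_, rfl⟩
    show y ∈ zz P
    rw [mem_zz]
    refine ⟨hy, fun z hz => ?_⟩
    apply pr_injOn_pGroup hQ fr p hP (P.mul_mem hz hy) (P.mul_mem hy hz)
    rw [map_mul, map_mul]
    exact hc _ ⟨z, hz, rfl⟩
  · rintro x ⟨y, hy, rfl⟩
    have hy' : y ∈ zz P := hy
    clear hy
    rw [mem_zz] at hy' ⊢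
    refine ⟨⟨y, hy'.1, rfl⟩, ?_⟩
    rintro z ⟨z', hz', rfl⟩
    rw [← map_mul, ← map_mul, hy'.2 z' hz']

/-- a Sylow subgroup of `PΩ(Q)` whose centre is the standard root group -/
theorem exists_sylow_zz : ∃ P : Sylow p (Cfsg.POmega F ⇑Q),
    zz (P : Subgroup (Cfsg.POmega F ⇑Q)) = Xb Q (fr.e 0) (fr.e 1) := by
  obtain ⟨U, hT, hE⟩ := exists_sylow_ge Q hQ fr p
  refine ⟨U.mapSurjective (pr_surjective Q), ?_⟩
  rw [Sylow.coe_mapSurjective, zz_map_pr hQ fr p U.isPGroup', zz_eq hQ fr p U hT hE]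
  rfl

include p in
/-- **every automorphism permutes the root groups** -/
theorem map_aut_Xb (α : MulAut (Cfsg.POmega F ⇑Q)) {a b : ι → F} (h : IsLine Q a b) :
    ∃ a' b' : ι → F, IsLine Q a' b' ∧ (Xb Q a b).map α.toMonoidHom = Xb Q a' b' := by
  obtain ⟨P, hzz⟩ := exists_sylow_zz hQ fr p
  obtain ⟨g, hga, hgb⟩ := witt_pair hQ fr a b h.2.2.2
  rw [h.1, zero_smul, add_zero] at hga
  rw [h.2.1, h.2.2.1, zero_smul, zero_smul, add_zero, add_zero] at hgb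
  have hl : IsLine Q (fr.e 0) (fr.e 1) := isLine_frame fr (by decide)
  have h1 : Xb Q a b = (Xb Q (fr.e 0) (fr.e 1)).map (cO Q g).toMonoidHom := by
    rw [cO_Xb Q hQ fr g hl.1 hl.2.2.1, hga, hgb]
  obtain ⟨x, hx⟩ := exists_conj_of_sylow P (α * cO Q g)
  obtain ⟨s, rfl⟩ := pr_surjective Q x
  refine ⟨mo Q s *ᵥ (fr.e 0), mo Q s *ᵥ (fr.e 1), hl.map _, ?_⟩
  have hcomp : (α.toMonoidHom).comp (cO Q g).toMonoidHom = (α * cO Q g).toMonoidHom := rfl
  have hconj : (MulAut.conj (pr Q s)).toMonoidHom =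
      (cO Q (s : ↥(Cfsg.isometryGroup F ⇑Q))).toMonoidHom := by
    apply MonoidHom.ext
    intro y
    obtain ⟨y, rfl⟩ := pr_surjective Q y
    show MulAut.conj (pr Q s) (pr Q y) = cO Q _ (pr Q y)
    rw [cO_pr Q hQ fr, MulAut.conj_apply]
  rw [h1, Subgroup.map_map, hcomp, ← hzz, ← zz_map, hx, zz_map, hzz, hconj,
    cO_Xb Q hQ fr _ hl.1 hl.2.2.1]

end nd

end Cfsg.Agent.Helper7.AutO
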