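import Mathlib
import Cfsg.Agent.Helper7.AutO8

/-!
# Automorphisms of `PΩ(Q)`, part 9 (helper7)

Root groups and root elements of `PΩ(Q)`: the root group depends only on the line, root groups
with a common non-trivial element coincide, automorphisms preserve root groups and root elements.
-/

set_option autoImplicit false
set_option linter.unusedSectionVars false
set_option linter.unusedVariables false

namespace Cfsg.Agent.Helper7.AutO

open Matrix Cfsg.Agent.Helper28.Sg Cfsg.Agent.Helper28.Spin Cfsg.Agent.Helper28.PG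

variable {F : Type*} [Field F] {ι : Type} [Fintype ι] [DecidableEq ι]
  (Q : QuadraticForm F (ι → F))

/-- `X` is a long root group -/
def RootGrp (X : Subgroup (Cfsg.POmega F ⇑Q)) : Prop :=
  ∃ a b : ι → F, IsLine Q a b ∧ X = Xb Q a b

/-- `x` is a long root element -/
def RootElt (x : Cfsg.POmega F ⇑Q) : Prop :=
  ∃ a b : ι → F, IsLine Q a b ∧ x = rb Q a b

variable {Q}

theorem Indep.of_not_inL {p x y : ι → F} (hp : p ≠ 0) (h : ¬ InL p x y) : Indep p y := by
  intro s t hst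
  by_cases ht : t = 0
  · subst ht
    rw [zero_smul, add_zero] at hst
    rcases smul_eq_zero.1 hst with h' | h'
    · exact ⟨h', rfl⟩
    · exact absurd h' hp
  · exfalso
    apply h
    refine ⟨-(t⁻¹ * s), 0, ?_⟩
    have : y = t⁻¹ • (s • p + t • y) - (t⁻¹ * s) • p := by
      rw [smul_add, smul_smul, smul_smul, inv_mul_cancel₀ ht, one_smul]; abel
    rw [this, hst]
    module

section nd

variable (hQ : (QuadraticMap.polarBilin Q).Nondegenerate) (fr : Frame3 Q)
variable (p : ℕ) [Fact p.Prime] [CharP F p] [Fintype F]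

include hQ fr

theorem Xb_le_of_inL {a b a' b' : ι → F} (h : IsLine Q a b) (h' : IsLine Q a' b')
    (ha : InL a b a') (hb : InL a b b') : Xb Q a' b' ≤ Xb Q a b := by
  intro x hx
  obtain ⟨t, rfl⟩ := (mem_Xb Q hQ fr h'.1 h'.2.2.1).1 hx
  obtain ⟨α, β, rfl⟩ := ha
  obtain ⟨γ, δ, rfl⟩ := hb
  rw [mem_Xb Q hQ fr h.1 h.2.2.1]
  refine ⟨α * (t * δ) - β * (t * γ), ?_⟩
  apply rb_congr Q hQ fr
  have : t • (γ • a + δ • b) = (t * γ) • a + (t * δ) • b := by module
  rw [this, rh_line Q h.1 h.2.1 h.2.2.1]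

/-- the root group only depends on the line -/
theorem Xb_eq_of_inL {a b a' b' : ι → F} (h : IsLine Q a b) (h' : IsLine Q a' b')
    (ha : InL a b a') (hb : InL a b b') : Xb Q a' b' = Xb Q a b := by
  apply le_antisymm (Xb_le_of_inL hQ fr h h' ha hb)
  obtain ⟨i1, i2⟩ := inL_swap h'.2.2.2 ha hb
  exact Xb_le_of_inL hQ fr h' h i1 i2

theorem rb_mem_Xb {a b : ι → F} (h : IsLine Q a b) (t : F) : rb Q a (t • b) ∈ Xb Q a b :=
  (mem_Xb Q hQ fr h.1 h.2.2.1).2 ⟨t, rfl⟩

theorem rb_mem_Xb' {a b : ι → F} (h : IsLine Q a b) : rb Q a b ∈ Xb Q a b := by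
  have := rb_mem_Xb hQ fr h 1
  rwa [one_smul] at this

include p in
theorem rb_line_ne_one {a b : ι → F} (h : IsLine Q a b) : rb Q a b ≠ 1 := by
  intro h1
  rw [← rb_zero_right Q hQ fr a] at h1
  have := rb_eq_rb Q hQ fr p h1
  rw [rh_zero_right] at this
  exact rh_line_ne_one hQ fr h this

include p in
/-- root groups with a common non-trivial element coincide -/
theorem Xb_eq_of_common {a b a' b' : ι → F} (h : IsLine Q a b) (h' : IsLine Q a' b')
    {x : Cfsg.POmega F ⇑Q} (hx : x ∈ Xb Q a b) (hx' : x ∈ Xb Q a' b') (hx1 : x ≠ 1) :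
    Xb Q a' b' = Xb Q a b := by
  obtain ⟨t, rfl⟩ := (mem_Xb Q hQ fr h.1 h.2.2.1).1 hx
  obtain ⟨t', ht'⟩ := (mem_Xb Q hQ fr h'.1 h'.2.2.1).1 hx'
  have ht : t ≠ 0 := by
    intro h0
    apply hx1
    rw [h0, zero_smul, rb_zero_right Q hQ fr]
  have ht'0 : t' ≠ 0 := by
    intro h0
    apply hx1
    rw [ht', h0, zero_smul, rb_zero_right Q hQ fr]
  have h1 := rb_eq_rb Q hQ fr p ht'
  obtain ⟨i1, i2⟩ := line_of_rh_eq hQ fr (h.smul_right ht) (h'.smul_right ht'0) h1
  have j1 : InL a b a := InL.left a b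
  have j2 : InL a b (t • b) := (InL.right a b).smul t
  have k1 : InL a b a' := i1.trans j1 j2
  have k2 : InL a b b' := by
    have := (i2.trans j1 j2).smul t'⁻¹
    rwa [smul_smul, inv_mul_cancel₀ ht'0, one_smul] at this
  exact Xb_eq_of_inL hQ fr h h' k1 k2

include p in
theorem rootElt_iff {x : Cfsg.POmega F ⇑Q} :
    RootElt Q x ↔ x ≠ 1 ∧ ∃ X, RootGrp Q X ∧ x ∈ X := by
  constructor
  · rintro ⟨a, b, h, rfl⟩
    exact ⟨rb_line_ne_one hQ fr p h, _, ⟨a, b, h, rfl⟩, rb_mem_Xb' hQ fr h⟩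
  · rintro ⟨hx1, X, ⟨a, b, h, rfl⟩, hx⟩
    obtain ⟨t, rfl⟩ := (mem_Xb Q hQ fr h.1 h.2.2.1).1 hx
    have ht : t ≠ 0 := by
      intro h0
      apply hx1
      rw [h0, zero_smul, rb_zero_right Q hQ fr]
    exact ⟨a, t • b, h.smul_right ht, rfl⟩

include p in
theorem rootGrp_map (α : MulAut (Cfsg.POmega F ⇑Q)) {X : Subgroup (Cfsg.POmega F ⇑Q)}
    (hX : RootGrp Q X) : RootGrp Q (X.map α.toMonoidHom) := by
  obtain ⟨a, b, h, rfl⟩ := hX
  obtain ⟨a', b', h', h2⟩ := map_aut_Xb hQ fr p α h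
  exact ⟨a', b', h', h2⟩

include p in
theorem rootElt_map (α : MulAut (Cfsg.POmega F ⇑Q)) {x : Cfsg.POmega F ⇑Q}
    (hx : RootElt Q x) : RootElt Q (α x) := by
  rw [rootElt_iff hQ fr p] at hx ⊢
  obtain ⟨hx1, X, hX, hxX⟩ := hx
  refine ⟨?_, X.map α.toMonoidHom, rootGrp_map hQ fr p α hX, ⟨x, hxX, rfl⟩⟩
  intro h
  apply hx1
  apply α.injective
  rw [h, map_one]

include p in
theorem rootElt_map_iff (α : MulAut (Cfsg.POmega F ⇑Q)) {x : Cfsg.POmega F ⇑Q} :
    RootElt Q (α x) ↔ RootElt Q x := by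
  constructor
  · intro h
    have := rootElt_map hQ fr p α⁻¹ h
    rwa [MulAut.inv_apply_self] at this
  · exact rootElt_map hQ fr p α

/-- re-parametrisation of a line by one of its points -/
theorem exists_line_through {a b q : ι → F} (h : IsLine Q a b) (hq : q ≠ 0) (hq' : InL a b q) :
    ∃ x, IsLine Q q x ∧ InL a b x ∧ Xb Q q x = Xb Q a b := by
  obtain ⟨s, t, hst⟩ := hq'
  have hQq : Q q = 0 := h.Q_inL ⟨s, t, hst⟩
  by_cases hs : s = 0
  · have ht : t ≠ 0 := by
      intro ht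
      apply hq
      rw [hst, hs, ht]; simp
    have hl : IsLine Q q a := by
      refine ⟨hQq, h.1, h.B_inL ⟨s, t, hst⟩ (InL.left a b), ?_⟩
      intro α β hαβ
      rw [hst, hs, zero_smul, zero_add, smul_smul] at hαβ
      have := h.2.2.2 β (α * t) (by rw [← hαβ]; abel)
      refine ⟨?_, this.1⟩
      rcases mul_eq_zero.1 this.2 with h' | h'
      · exact h'
      · exact absurd h' ht
    exact ⟨a, hl, InL.left a b, Xb_eq_of_inL hQ fr h hl ⟨s, t, hst⟩ (InL.left a b)⟩
  · have hl : IsLine Q q b := by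
      refine ⟨hQq, h.2.1, h.B_inL ⟨s, t, hst⟩ (InL.right a b), ?_⟩
      intro α β hαβ
      rw [hst] at hαβ
      have := h.2.2.2 (α * s) (α * t + β) (by rw [← hαβ]; module)
      have hα : α = 0 := by
        rcases mul_eq_zero.1 this.1 with h' | h'
        · exact h'
        · exact absurd h' hs
      refine ⟨hα, ?_⟩
      have h2 := this.2
      rw [hα, zero_mul, zero_add] at h2
      exact h2
    exact ⟨b, hl, InL.right a b, Xb_eq_of_inL hQ fr h hl ⟨s, t, hst⟩ (InL.right a b)⟩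

end nd

end Cfsg.Agent.Helper7.AutO
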