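import Mathlib
import Cfsg.Agent.Helper7.AutO9

/-!
# Automorphisms of `PΩ(Q)`, part 10 (helper7)

Commuting and "collinear" pairs of root groups: two root groups are collinear (they commute and
the products of their non-trivial elements are root elements) iff their lines meet and are
perpendicular.
-/

set_option autoImplicit false
set_option linter.unusedSectionVars false
set_option linter.unusedVariables false

namespace Cfsg.Agent.Helper7.AutO

open Matrix Cfsg.Agent.Helper28.Sg Cfsg.Agent.Helper28.Spin Cfsg.Agent.Helper28.PG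

variable {F : Type*} [Field F] {ι : Type} [Fintype ι] [DecidableEq ι]
  (Q : QuadraticForm F (ι → F))

/-- elementwise commuting subgroups -/
def Comm {G : Type*} [Group G] (X Y : Subgroup G) : Prop := ∀ x ∈ X, ∀ y ∈ Y, x * y = y * x

/-- collinear root groups -/
def Col (X Y : Subgroup (Cfsg.POmega F ⇑Q)) : Prop :=
  X ≠ Y ∧ Comm X Y ∧ ∀ x ∈ X, ∀ y ∈ Y, x ≠ 1 → y ≠ 1 → RootElt Q (x * y)

variable {Q}

section nd

variable (hQ : (QuadraticMap.polarBilin Q).Nondegenerate) (fr : Frame3 Q)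
variable (p : ℕ) [Fact p.Prime] [CharP F p] [Fintype F]

include hQ fr p

theorem rh_comm_of_rb_comm {a b c d : ι → F} (h : rb Q a b * rb Q c d = rb Q c d * rb Q a b) :
    rh Q a b * rh Q c d = rh Q c d * rh Q a b := by
  have h1 := comm_of_pr_comm Q hQ fr p (ro_pElement Q hQ fr p c d) h
  have h2 := congrArg Subtype.val h1
  rwa [Subgroup.coe_mul, Subgroup.coe_mul, ro_val Q hQ fr, ro_val Q hQ fr] at h2

/-- collinear root groups: the lines meet and are perpendicular -/
theorem col_lines {a b c d : ι → F} (h : IsLine Q a b) (h' : IsLine Q c d)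
    (hcol : Col Q (Xb Q a b) (Xb Q c d)) :
    (∃ q : ι → F, q ≠ 0 ∧ InL a b q ∧ InL c d q) ∧
      (B Q c a = 0 ∧ B Q d a = 0 ∧ B Q c b = 0 ∧ B Q d b = 0) := by
  obtain ⟨hne, hcomm, hprod⟩ := hcol
  by_cases hmeet : ∃ q : ι → F, q ≠ 0 ∧ InL a b q ∧ InL c d q
  · refine ⟨hmeet, ?_⟩
    obtain ⟨q, hq0, hq1, hq2⟩ := hmeet
    obtain ⟨x, hlx, hx, hXx⟩ := exists_line_through hQ fr h hq0 hq1
    obtain ⟨y, hly, hy, hXy⟩ := exists_line_through hQ fr h' hq0 hq2
    have h1 : rb Q q x ∈ Xb Q a b := by rw [← hXx]; exact rb_mem_Xb' hQ fr hlx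
    have h2 : rb Q q y ∈ Xb Q c d := by rw [← hXy]; exact rb_mem_Xb' hQ fr hly
    obtain ⟨a', b', hl', h3⟩ := hprod _ h1 _ h2 (rb_line_ne_one hQ fr p hlx)
      (rb_line_ne_one hQ fr p hly)
    rw [rb_mul Q hQ fr hlx.1 hlx.2.2.1 hly.2.2.1] at h3
    have h4 := rb_eq_rb Q hQ fr p h3
    have hind : Indep q (x + y) := by
      apply Indep.of_not_inL hq0 (x := x)
      intro hin
      apply hne
      rw [← hXx, ← hXy]
      have : InL q x y := by
        have := hin.sub (InL.right q x)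
        rwa [add_sub_cancel_left] at this
      exact (Xb_eq_of_inL hQ fr hlx hly (InL.left q x) this).symm
    have h5 := singular_of_rh_eq_line hQ fr hlx.1
      (by rw [B_add_right, hlx.2.2.1, hly.2.2.1, add_zero]) hind hl' h4
    have hxy : B Q x y = 0 := by
      rw [Q_add, hlx.2.1, hly.2.1, zero_add, zero_add] at h5
      exact h5
    -- everything on `⟨q, x⟩` is perpendicular to everything on `⟨q, y⟩`
    have hperp : ∀ u v, InL q x u → InL q y v → B Q v u = 0 := by
      rintro u v ⟨s, t, rfl⟩ ⟨s', t', rfl⟩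
      have e1 : B Q y x = 0 := by rw [B_comm]; exact hxy
      have e2 : B Q y q = 0 := by rw [B_comm]; exact hly.2.2.1
      simp only [B_add_left, B_add_right, B_smul_left, B_smul_right,
        B_self_of_singular Q hlx.1, hlx.2.2.1, e1, e2]
      ring
    obtain ⟨i1, i2⟩ := inL_swap hlx.2.2.2 (by
      rw [show q = q from rfl]; exact hq1) hx
    obtain ⟨j1, j2⟩ := inL_swap hly.2.2.2 hq2 hy
    exact ⟨hperp a c i1 j1, hperp a d i1 j2, hperp b c i2 j1, hperp b d i2 j2⟩
  · exfalso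
    have hc := hcomm _ (rb_mem_Xb' hQ fr h) _ (rb_mem_Xb' hQ fr h')
    have hc' := rh_comm_of_rb_comm hQ fr p hc
    rcases meet_or_perp hQ fr h h' hc'.symm with h1 | h1
    · exact hmeet h1
    · obtain ⟨a', b', hl', h3⟩ := hprod _ (rb_mem_Xb' hQ fr h) _ (rb_mem_Xb' hQ fr h')
        (rb_line_ne_one hQ fr p h) (rb_line_ne_one hQ fr p h')
      have h4 : pr Q (ro Q a b * ro Q c d) = pr Q (ro Q a' b') := by rw [map_mul]; exact h3
      have h5 : (ro Q a b * ro Q c d) ^ p ^ 1 = 1 := by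
        have hcm : Commute (ro Q a b) (ro Q c d) := by
          apply Subtype.ext
          rw [Subgroup.coe_mul, Subgroup.coe_mul, ro_val Q hQ fr, ro_val Q hQ fr]
          exact hc'
        rw [hcm.mul_pow, ro_pElement Q hQ fr p, ro_pElement Q hQ fr p, one_mul]
      have h6 := pr_inj_p Q hQ fr p h5 (ro_pElement Q hQ fr p a' b') h4
      have h7 := congrArg Subtype.val h6
      rw [Subgroup.coe_mul, ro_val Q hQ fr, ro_val Q hQ fr, ro_val Q hQ fr] at h7
      refine not_line_of_two hQ fr h h' h1 ?_ hl' h7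
      intro q hq1 hq2
      by_contra hq0
      exact hmeet ⟨q, hq0, hq1, hq2⟩

/-- two root groups through a common point on perpendicular lines are collinear -/
theorem col_of_perp {e x y : ι → F} (hlx : IsLine Q e x) (hly : IsLine Q e y)
    (hxy : B Q x y = 0) (hne : Xb Q e x ≠ Xb Q e y) : Col Q (Xb Q e x) (Xb Q e y) := by
  refine ⟨hne, ?_, ?_⟩
  · intro u hu v hv
    obtain ⟨s, rfl⟩ := (mem_Xb Q hQ fr hlx.1 hlx.2.2.1).1 hu
    obtain ⟨t, rfl⟩ := (mem_Xb Q hQ fr hly.1 hly.2.2.1).1 hv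
    have e1 : B Q e (s • x) = 0 := by rw [B_smul_right, hlx.2.2.1, mul_zero]
    have e2 : B Q e (t • y) = 0 := by rw [B_smul_right, hly.2.2.1, mul_zero]
    rw [rb_mul Q hQ fr hlx.1 e1 e2, rb_mul Q hQ fr hlx.1 e2 e1, add_comm]
  · intro u hu v hv hu1 hv1
    obtain ⟨s, rfl⟩ := (mem_Xb Q hQ fr hlx.1 hlx.2.2.1).1 hu
    obtain ⟨t, rfl⟩ := (mem_Xb Q hQ fr hly.1 hly.2.2.1).1 hv
    have hs : s ≠ 0 := by
      intro h0; apply hu1; rw [h0, zero_smul, rb_zero_right Q hQ fr]
    have ht : t ≠ 0 := by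
      intro h0; apply hv1; rw [h0, zero_smul, rb_zero_right Q hQ fr]
    have e1 : B Q e (s • x) = 0 := by rw [B_smul_right, hlx.2.2.1, mul_zero]
    have e2 : B Q e (t • y) = 0 := by rw [B_smul_right, hly.2.2.1, mul_zero]
    rw [rb_mul Q hQ fr hlx.1 e1 e2]
    refine ⟨e, s • x + t • y, ⟨hlx.1, ?_, ?_, ?_⟩, rfl⟩
    · rw [Q_lin2, hlx.2.1, hly.2.1, hxy]; ring
    · rw [B_add_right, e1, e2, add_zero]
    · apply Indep.of_not_inL hlx.2.2.2.ne_zero_left (x := x)
      intro hin
      apply hne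
      have : InL e x y := by
        have h1 := (hin.sub ((InL.right e x).smul s)).smul t⁻¹
        rwa [add_sub_cancel_left, smul_smul, inv_mul_cancel₀ ht, one_smul] at h1
      exact (Xb_eq_of_inL hQ fr hlx hly (InL.left e x) this).symm

end nd

end Cfsg.Agent.Helper7.AutO
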