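import Mathlib
import Cfsg.Agent.Helper7.AutO10

/-!
# Automorphisms of `PΩ(Q)`, part 11 (helper7)

The subgroup `GXY X Y` generated by two root groups and the root groups collinear to both; its
equivariance under automorphisms; self-centralising subgroups.
-/

set_option autoImplicit false
set_option linter.unusedSectionVars false
set_option linter.unusedVariables false

namespace Cfsg.Agent.Helper7.AutO

open Matrix Cfsg.Agent.Helper28.Sg Cfsg.Agent.Helper28.Spin Cfsg.Agent.Helper28.PG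

variable {F : Type*} [Field F] {ι : Type} [Fintype ι] [DecidableEq ι]
  (Q : QuadraticForm F (ι → F))

/-- generated by `X`, `Y` and the root groups collinear to both -/
def GXY (X Y : Subgroup (Cfsg.POmega F ⇑Q)) : Subgroup (Cfsg.POmega F ⇑Q) :=
  Subgroup.closure ((X : Set (Cfsg.POmega F ⇑Q)) ∪ (Y : Set (Cfsg.POmega F ⇑Q)) ∪
    {z | ∃ Z : Subgroup (Cfsg.POmega F ⇑Q), RootGrp Q Z ∧ Col Q Z X ∧ Col Q Z Y ∧ z ∈ Z})

/-- a self-centralising subgroup -/
def SelfC {G : Type*} [Group G] (K : Subgroup G) : Prop :=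
  ∀ x : G, (∀ y ∈ K, x * y = y * x) → x ∈ K

theorem SelfC.map {G : Type*} [Group G] {K : Subgroup G} (h : SelfC K) (α : MulAut G) :
    SelfC (K.map α.toMonoidHom) := by
  intro x hx
  refine ⟨α⁻¹ x, h _ ?_, by simp⟩
  intro y hy
  apply α.injective
  rw [map_mul, map_mul, MulAut.apply_inv_self]
  exact hx _ ⟨y, hy, rfl⟩

theorem Comm.map {G : Type*} [Group G] {X Y : Subgroup G} (h : Comm X Y) (α : MulAut G) :
    Comm (X.map α.toMonoidHom) (Y.map α.toMonoidHom) := by
  rintro _ ⟨x, hx, rfl⟩ _ ⟨y, hy, rfl⟩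
  show α x * α y = α y * α x
  rw [← map_mul, ← map_mul, h x hx y hy]

theorem map_map_inv {G : Type*} [Group G] (X : Subgroup G) (α : MulAut G) :
    (X.map α.toMonoidHom).map (α⁻¹).toMonoidHom = X := by
  rw [Subgroup.map_map]
  have : (α⁻¹).toMonoidHom.comp α.toMonoidHom = MonoidHom.id G := by
    ext x
    simp
  rw [this, Subgroup.map_id]

theorem map_inv_map {G : Type*} [Group G] (X : Subgroup G) (α : MulAut G) :
    (X.map (α⁻¹).toMonoidHom).map α.toMonoidHom = X := by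
  have := map_map_inv X α⁻¹
  rwa [inv_inv] at this

variable {Q}

section nd

variable (hQ : (QuadraticMap.polarBilin Q).Nondegenerate) (fr : Frame3 Q)
variable (p : ℕ) [Fact p.Prime] [CharP F p] [Fintype F]

include hQ fr p

theorem Col.map {X Y : Subgroup (Cfsg.POmega F ⇑Q)} (h : Col Q X Y)
    (α : MulAut (Cfsg.POmega F ⇑Q)) : Col Q (X.map α.toMonoidHom) (Y.map α.toMonoidHom) := by
  obtain ⟨hne, hc, hp⟩ := h
  refine ⟨?_, hc.map α, ?_⟩
  · intro heq
    exact hne (Subgroup.map_injective α.injective heq)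
  · rintro _ ⟨x, hx, rfl⟩ _ ⟨y, hy, rfl⟩ hx1 hy1
    show RootElt Q (α x * α y)
    rw [← map_mul]
    apply rootElt_map hQ fr p
    apply hp x hx y hy
    · intro h; apply hx1; rw [h]; exact map_one _
    · intro h; apply hy1; rw [h]; exact map_one _

theorem GXY_map_le (X Y : Subgroup (Cfsg.POmega F ⇑Q)) (α : MulAut (Cfsg.POmega F ⇑Q)) :
    (GXY Q X Y).map α.toMonoidHom ≤ GXY Q (X.map α.toMonoidHom) (Y.map α.toMonoidHom) := by
  rw [Subgroup.map_le_iff_le_comap]
  unfold GXY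
  rw [Subgroup.closure_le]
  rintro s ((hs | hs) | ⟨Z, hZ, hZX, hZY, hs⟩)
  · apply Subgroup.subset_closure
    exact Or.inl (Or.inl ⟨s, hs, rfl⟩)
  · apply Subgroup.subset_closure
    exact Or.inl (Or.inr ⟨s, hs, rfl⟩)
  · apply Subgroup.subset_closure
    refine Or.inr ⟨Z.map α.toMonoidHom, rootGrp_map hQ fr p α hZ, Col.map hQ fr p hZX α,
      Col.map hQ fr p hZY α, ⟨s, hs, rfl⟩⟩

theorem GXY_map (X Y : Subgroup (Cfsg.POmega F ⇑Q)) (α : MulAut (Cfsg.POmega F ⇑Q)) :
    (GXY Q X Y).map α.toMonoidHom = GXY Q (X.map α.toMonoidHom) (Y.map α.toMonoidHom) := by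
  apply le_antisymm (GXY_map_le hQ fr p X Y α)
  have h1 := GXY_map_le hQ fr p (X.map α.toMonoidHom) (Y.map α.toMonoidHom) α⁻¹
  rw [map_map_inv, map_map_inv] at h1
  have h2 := Subgroup.map_mono (f := α.toMonoidHom) h1
  rwa [map_inv_map] at h2

end nd

end Cfsg.Agent.Helper7.AutO
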