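import Mathlib
import Cfsg.Agent.Helper7.AutO11

/-!
# Automorphisms of `PΩ(Q)`, part 12 (helper7)

For the standard root groups `X₀ = Xb e₀ e₁` and `Y₀ = Xb e₀ f₁` (two non-perpendicular lines
through `e₀`), the group `GXY X₀ Y₀` is the Siegel group `Qb e₀`.
-/

set_option autoImplicit false
set_option linter.unusedSectionVars false
set_option linter.unusedVariables false

namespace Cfsg.Agent.Helper7.AutO

open Matrix Cfsg.Agent.Helper28.Sg Cfsg.Agent.Helper28.Spin Cfsg.Agent.Helper28.PG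

variable {F : Type*} [Field F] {ι : Type} [Fintype ι] [DecidableEq ι]
  {Q : QuadraticForm F (ι → F)}

theorem isLine_frame_ef (fr : Frame3 Q) {i j : Fin 3} (hij : i ≠ j) :
    IsLine Q (fr.e i) (fr.f j) := by
  refine ⟨fr.Qe i, fr.Qf j, by rw [Bef', if_neg hij], ?_⟩
  intro x y hxy
  have h1 := congrArg (fun w => B Q w (fr.f i)) hxy
  have h2 := congrArg (fun w => B Q w (fr.e j)) hxy
  simp only [B_add_left, B_smul_left, B_zero_left, Bef', Bff', Bee', Bfe'] at h1 h2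
  simp at h1 h2
  exact ⟨h1, h2⟩

section nd

variable (hQ : (QuadraticMap.polarBilin Q).Nondegenerate) (fr : Frame3 Q)
variable (p : ℕ) [Fact p.Prime] [CharP F p] [Fintype F]

include hQ fr p

/-- a root group collinear to both standard root groups lies in `Qb e₀` -/
theorem le_Qb_of_col {Z : Subgroup (Cfsg.POmega F ⇑Q)} (hZ : RootGrp Q Z)
    (h1 : Col Q Z (Xb Q (fr.e 0) (fr.e 1))) (h2 : Col Q Z (Xb Q (fr.e 0) (fr.f 1))) :
    Z ≤ Qb Q (fr.e 0) := by
  obtain ⟨c, d, hl, rfl⟩ := hZ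
  have hl1 : IsLine Q (fr.e 0) (fr.e 1) := isLine_frame fr (by decide)
  have hl2 : IsLine Q (fr.e 0) (fr.f 1) := isLine_frame_ef fr (by decide)
  obtain ⟨⟨q, hq0, hq1, α, β, hq2⟩, -⟩ := col_lines hQ fr p hl hl1 h1
  obtain ⟨⟨q', hq0', hq1', α', β', hq2'⟩, -⟩ := col_lines hQ fr p hl hl2 h2
  have h3 := hl.B_inL hq1 hq1'
  rw [hq2, hq2'] at h3
  simp only [B_add_left, B_add_right, B_smul_left, B_smul_right, Bef', Bee'] at h3
  simp at h3
  have he : InL c d (fr.e 0) := by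
    rcases h3 with h | h
    · rw [h, zero_smul, add_zero] at hq2'
      have hα' : α' ≠ 0 := by
        intro h0; apply hq0'; rw [hq2', h0, zero_smul]
      have := hq1'.smul α'⁻¹
      rwa [hq2', smul_smul, inv_mul_cancel₀ hα', one_smul] at this
    · rw [h, zero_smul, add_zero] at hq2
      have hα : α ≠ 0 := by
        intro h0; apply hq0; rw [hq2, h0, zero_smul]
      have := hq1.smul α⁻¹
      rwa [hq2, smul_smul, inv_mul_cancel₀ hα, one_smul] at this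
  obtain ⟨x, hlx, -, hX⟩ := exists_line_through hQ fr hl (fr.e_ne_zero 0) he
  rw [← hX]
  exact Xb_le_Qb Q hQ fr hlx.1 hlx.2.2.1

/-- singular vectors perpendicular to `e₀, f₀, e₁, f₁` give elements of `GXY X₀ Y₀` -/
theorem rb_mem_GXY_of_sing {z : ι → F} (hz : Q z = 0) (h0 : B Q (fr.e 0) z = 0)
    (h0' : B Q (fr.f 0) z = 0) (h1 : B Q (fr.e 1) z = 0) (h1' : B Q (fr.f 1) z = 0) :
    rb Q (fr.e 0) z ∈ GXY Q (Xb Q (fr.e 0) (fr.e 1)) (Xb Q (fr.e 0) (fr.f 1)) := by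
  by_cases hz0 : z = 0
  · rw [hz0, rb_zero_right Q hQ fr]
    exact Subgroup.one_mem _
  have hl1 : IsLine Q (fr.e 0) (fr.e 1) := isLine_frame fr (by decide)
  have hl2 : IsLine Q (fr.e 0) (fr.f 1) := isLine_frame_ef fr (by decide)
  have hl : IsLine Q (fr.e 0) z := by
    refine ⟨fr.Qe 0, hz, h0, ?_⟩
    intro s t hst
    have e1 := congrArg (fun w => B Q (fr.f 0) w) hst
    simp only [B_add_right, B_smul_right, B_zero_right, Bfe', h0'] at e1
    simp at e1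
    rw [e1, zero_smul, zero_add] at hst
    rcases smul_eq_zero.1 hst with h | h
    · exact ⟨e1, h⟩
    · exact absurd h hz0
  -- `z` is not on the two standard lines
  have hne : ∀ v v' : ι → F, B Q (fr.f 0) v = 0 → B Q v' v = 1 → B Q v' z = 0 →
      B Q v' (fr.e 0) = 0 → IsLine Q (fr.e 0) v → Xb Q (fr.e 0) z ≠ Xb Q (fr.e 0) v := by
    intro v v' hv hv'v hv'z hv'e hlv heq
    have h2 : rb Q (fr.e 0) z ∈ Xb Q (fr.e 0) v := by rw [← heq]; exact rb_mem_Xb' hQ fr hl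
    obtain ⟨t, ht⟩ := (mem_Xb Q hQ fr hlv.1 hlv.2.2.1).1 h2
    have h3 := rb_eq_rb Q hQ fr p ht
    obtain ⟨c, hc⟩ := rh_inj Q (f := fr.f 0) (fr.Qe 0) (by rw [Bef']; simp) h0
      (by rw [B_smul_right, hlv.2.2.1, mul_zero]) h3
    have e1 := congrArg (fun w => B Q (fr.f 0) w) hc
    simp only [B_sub_right, B_smul_right, Bfe', h0', hv] at e1
    simp at e1
    have e2 := congrArg (fun w => B Q v' w) hc
    simp only [B_sub_right, B_smul_right, hv'z, hv'v, hv'e] at e2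
    simp at e2
    rw [← e1, zero_smul, e2, zero_smul, sub_zero] at hc
    exact hz0 hc
  have hzf1 : B Q z (fr.f 1) = 0 := by rw [B_comm]; exact h1'
  have hze1 : B Q z (fr.e 1) = 0 := by rw [B_comm]; exact h1
  have hc1 : Col Q (Xb Q (fr.e 0) z) (Xb Q (fr.e 0) (fr.e 1)) :=
    col_of_perp hQ fr p hl hl1 hze1
      (hne (fr.e 1) (fr.f 1) (by rw [Bfe']; simp) (by rw [Bfe']; simp) h1' (by rw [Bfe']; simp) hl1)
  have hc2 : Col Q (Xb Q (fr.e 0) z) (Xb Q (fr.e 0) (fr.f 1)) :=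
    col_of_perp hQ fr p hl hl2 hzf1
      (hne (fr.f 1) (fr.e 1) (by rw [Bff']) (by rw [Bef']; simp) h1 (by rw [Bee']) hl2)
  apply Subgroup.subset_closure
  exact Or.inr ⟨_, ⟨_, _, hl, rfl⟩, hc1, hc2, rb_mem_Xb' hQ fr hl⟩


omit hQ p in
/-- a vector perpendicular to `e₀, f₀, e₁, f₁` is a sum of three such singular vectors -/
theorem sum_of_sing {v : ι → F} (h0 : B Q (fr.e 0) v = 0)
    (h0' : B Q (fr.f 0) v = 0) (h1 : B Q (fr.e 1) v = 0) (h1' : B Q (fr.f 1) v = 0) :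
    ∃ z₁ z₂ z₃ : ι → F, v = z₁ + z₂ + z₃ ∧
      (∀ z ∈ ({z₁, z₂, z₃} : Set (ι → F)), Q z = 0 ∧ B Q (fr.e 0) z = 0 ∧ B Q (fr.f 0) z = 0 ∧
        B Q (fr.e 1) z = 0 ∧ B Q (fr.f 1) z = 0) := by
  set s := B Q v (fr.f 2) with hs
  set t := B Q v (fr.e 2) with ht
  set v' := v - s • fr.e 2 - t • fr.f 2 with hv'
  have e2 : B Q v' (fr.e 2) = 0 := by
    rw [hv']
    simp only [B_sub_left, B_smul_left, Bee', Bfe']
    simp [ht]
  have f2 : B Q v' (fr.f 2) = 0 := by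
    rw [hv']
    simp only [B_sub_left, B_smul_left, Bef', Bff']
    simp [hs]
  have g0 : B Q (fr.e 0) v' = 0 := by
    rw [hv']; simp only [B_sub_right, B_smul_right, Bee', Bef', h0]; simp
  have g0' : B Q (fr.f 0) v' = 0 := by
    rw [hv']; simp only [B_sub_right, B_smul_right, Bfe', Bff', h0']; simp
  have g1 : B Q (fr.e 1) v' = 0 := by
    rw [hv']; simp only [B_sub_right, B_smul_right, Bee', Bef', h1]; simp
  have g1' : B Q (fr.f 1) v' = 0 := by
    rw [hv']; simp only [B_sub_right, B_smul_right, Bfe', Bff', h1']; simp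
  refine ⟨v' + fr.e 2 - Q v' • fr.f 2, (s - 1) • fr.e 2, (t + Q v') • fr.f 2, ?_, ?_⟩
  · rw [hv']; module
  · intro z hz
    rcases hz with rfl | rfl | rfl
    · refine ⟨?_, ?_, ?_, ?_, ?_⟩
      · rw [sub_eq_add_neg, ← neg_smul, Q_add, Q_add, Q_smul, fr.Qe, fr.Qf]
        simp only [B_add_left, B_smul_right, e2, f2, Bef']
        simp
      · simp only [B_sub_right, B_add_right, B_smul_right, g0, Bee', Bef']; simp
      · simp only [B_sub_right, B_add_right, B_smul_right, g0', Bfe', Bff']; simp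
      · simp only [B_sub_right, B_add_right, B_smul_right, g1, Bee', Bef']; simp
      · simp only [B_sub_right, B_add_right, B_smul_right, g1', Bfe', Bff']; simp
    · refine ⟨by rw [Q_smul, fr.Qe, mul_zero], ?_, ?_, ?_, ?_⟩
      · rw [B_smul_right, Bee', mul_zero]
      · rw [B_smul_right, Bfe']; simp
      · rw [B_smul_right, Bee', mul_zero]
      · rw [B_smul_right, Bfe']; simp
    · refine ⟨by rw [Q_smul, fr.Qf, mul_zero], ?_, ?_, ?_, ?_⟩
      · rw [B_smul_right, Bef']; simp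
      · rw [B_smul_right, Bff', mul_zero]
      · rw [B_smul_right, Bef']; simp
      · rw [B_smul_right, Bff', mul_zero]

/-- **the standard pair generates the Siegel group** -/
theorem GXY_std :
    GXY Q (Xb Q (fr.e 0) (fr.e 1)) (Xb Q (fr.e 0) (fr.f 1)) = Qb Q (fr.e 0) := by
  have hl1 : IsLine Q (fr.e 0) (fr.e 1) := isLine_frame fr (by decide)
  have hl2 : IsLine Q (fr.e 0) (fr.f 1) := isLine_frame_ef fr (by decide)
  apply le_antisymm
  · unfold GXY
    rw [Subgroup.closure_le]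
    rintro s ((hs | hs) | ⟨Z, hZ, hZX, hZY, hs⟩)
    · exact Xb_le_Qb Q hQ fr hl1.1 hl1.2.2.1 hs
    · exact Xb_le_Qb Q hQ fr hl2.1 hl2.2.2.1 hs
    · exact le_Qb_of_col hQ fr p hZ hZX hZY hs
  · intro x hx
    obtain ⟨w, hw, rfl⟩ := (mem_Qb Q hQ fr (fr.Qe 0)).1 hx
    set H := GXY Q (Xb Q (fr.e 0) (fr.e 1)) (Xb Q (fr.e 0) (fr.f 1)) with hH
    have hadd : ∀ v v', B Q (fr.e 0) v = 0 → B Q (fr.e 0) v' = 0 → rb Q (fr.e 0) v ∈ H →
        rb Q (fr.e 0) v' ∈ H → rb Q (fr.e 0) (v + v') ∈ H := by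
      intro v v' hv hv' h1 h2
      rw [← rb_mul Q hQ fr (fr.Qe 0) hv hv']
      exact H.mul_mem h1 h2
    set w' := w - B Q w (fr.f 0) • fr.e 0 - B Q w (fr.f 1) • fr.e 1 - B Q w (fr.e 1) • fr.f 1
      with hw'
    have hwe : B Q w (fr.e 0) = 0 := by rw [B_comm]; exact hw
    have g0 : B Q (fr.e 0) w' = 0 := by
      rw [hw']; simp only [B_sub_right, B_smul_right, Bee', Bef', hw]; simp
    have g0' : B Q (fr.f 0) w' = 0 := by
      rw [hw']; simp only [B_sub_right, B_smul_right, Bfe', Bff', B_comm Q (fr.f 0) w]; simp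
    have g1 : B Q (fr.e 1) w' = 0 := by
      rw [hw']; simp only [B_sub_right, B_smul_right, Bee', Bef', B_comm Q (fr.e 1) w]; simp
    have g1' : B Q (fr.f 1) w' = 0 := by
      rw [hw']; simp only [B_sub_right, B_smul_right, Bfe', Bff', B_comm Q (fr.f 1) w]; simp
    obtain ⟨z₁, z₂, z₃, hsum, hz⟩ := sum_of_sing fr g0 g0' g1 g1'
    have hz1 := hz z₁ (by simp)
    have hz2 := hz z₂ (by simp)
    have hz3 := hz z₃ (by simp)
    have m1 := rb_mem_GXY_of_sing hQ fr p hz1.1 hz1.2.1 hz1.2.2.1 hz1.2.2.2.1 hz1.2.2.2.2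
    have m2 := rb_mem_GXY_of_sing hQ fr p hz2.1 hz2.2.1 hz2.2.2.1 hz2.2.2.2.1 hz2.2.2.2.2
    have m3 := rb_mem_GXY_of_sing hQ fr p hz3.1 hz3.2.1 hz3.2.2.1 hz3.2.2.2.1 hz3.2.2.2.2
    have mX : rb Q (fr.e 0) (B Q w (fr.f 1) • fr.e 1) ∈ H := by
      apply Subgroup.subset_closure
      exact Or.inl (Or.inl (rb_mem_Xb hQ fr hl1 _))
    have mY : rb Q (fr.e 0) (B Q w (fr.e 1) • fr.f 1) ∈ H := by
      apply Subgroup.subset_closure
      exact Or.inl (Or.inr (rb_mem_Xb hQ fr hl2 _))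
    have bX : B Q (fr.e 0) (B Q w (fr.f 1) • fr.e 1) = 0 := by
      rw [B_smul_right, Bee', mul_zero]
    have bY : B Q (fr.e 0) (B Q w (fr.e 1) • fr.f 1) = 0 := by
      rw [B_smul_right, Bef']; simp
    have b12 : B Q (fr.e 0) (z₁ + z₂) = 0 := by rw [B_add_right, hz1.2.1, hz2.2.1, add_zero]
    have b123 : B Q (fr.e 0) (z₁ + z₂ + z₃) = 0 := by rw [B_add_right, b12, hz3.2.1, add_zero]
    have bXY : B Q (fr.e 0) (B Q w (fr.f 1) • fr.e 1 + B Q w (fr.e 1) • fr.f 1) = 0 := by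
      rw [B_add_right, bX, bY, add_zero]
    have m123 := hadd _ _ b12 hz3.2.1 (hadd _ _ hz1.2.1 hz2.2.1 m1 m2) m3
    have mall := hadd _ _ bXY b123 (hadd _ _ bX bY mX mY) m123
    have hwdec : w = (B Q w (fr.f 1) • fr.e 1 + B Q w (fr.e 1) • fr.f 1 + (z₁ + z₂ + z₃))
        + B Q w (fr.f 0) • fr.e 0 := by
      rw [← hsum, hw']; abel
    have hb : B Q (fr.e 0) (B Q w (fr.f 1) • fr.e 1 + B Q w (fr.e 1) • fr.f 1 + (z₁ + z₂ + z₃))
        = 0 := by rw [B_add_right, bXY, b123, add_zero]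
    have : rb Q (fr.e 0) w = rb Q (fr.e 0)
        (B Q w (fr.f 1) • fr.e 1 + B Q w (fr.e 1) • fr.f 1 + (z₁ + z₂ + z₃)) := by
      apply rb_congr Q hQ fr
      rw [hwdec, rh_add_smul_self Q _ (fr.Qe 0) hb]
      rw [← hwdec]
    rw [this]
    exact mall

end nd

end Cfsg.Agent.Helper7.AutO
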