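import Mathlib
import Cfsg.Agent.Helper7.AutO12

/-!
# Automorphisms of `PΩ(Q)`, part 13 (helper7)

The Siegel group `Qb e₀` is self-centralising in `PΩ(Q)`.
-/

set_option autoImplicit false
set_option linter.unusedSectionVars false
set_option linter.unusedVariables false

namespace Cfsg.Agent.Helper7.AutO

open Matrix Cfsg.Agent.Helper28.Sg Cfsg.Agent.Helper28.Spin Cfsg.Agent.Helper28.PG

variable {F : Type*} [Field F] {ι : Type} [Fintype ι] [DecidableEq ι]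
  {Q : QuadraticForm F (ι → F)}

section nd

variable (hQ : (QuadraticMap.polarBilin Q).Nondegenerate) (fr : Frame3 Q)
variable (p : ℕ) [Fact p.Prime] [CharP F p] [Fintype F]

include hQ fr p

/-- an element of `Ω(Q)` commuting with `TΩ e₀` is a Siegel element up to a central element -/
theorem pr_mem_Qb_of_comm {x : ↥(Cfsg.Omega F ⇑Q)}
    (hc : ∀ w, B Q (fr.e 0) w = 0 → x * ro Q (fr.e 0) w = ro Q (fr.e 0) w * x) :
    pr Q x ∈ Qb Q (fr.e 0) := by
  have hc0 : ∀ w, B Q (fr.e 0) w = 0 →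
      (x : ↥(Cfsg.isometryGroup F ⇑Q)) * rh Q (fr.e 0) w = rh Q (fr.e 0) w * x := by
    intro w hw
    have h2 := congrArg Subtype.val (hc w hw)
    rwa [Subgroup.coe_mul, Subgroup.coe_mul, ro_val Q hQ fr] at h2
  obtain ⟨c, hce⟩ := eig_of_comm hQ fr (fr.Qe 0) (fr.e_ne_zero 0) _ hc0
  have hc_ne : c ≠ 0 := by
    intro h0
    rw [h0, zero_smul] at hce
    have := mo_inv_mulVec Q x (fr.e 0)
    unfold mo at this
    rw [hce, Matrix.mulVec_zero] at this
    exact fr.e_ne_zero 0 this.symm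
  have hef : B Q (fr.e 0) (fr.f 0) = 1 := by rw [Bef']; simp
  have hW : ∀ w, B Q (fr.e 0) w = 0 → ∃ μ : F, c • (mo Q x *ᵥ w) = w + μ • fr.e 0 := by
    intro w hw
    have hw' : B Q (fr.e 0) (mo Q x *ᵥ w) = 0 := by
      have := B_isom Q (x : ↥(Cfsg.isometryGroup F ⇑Q)) (fr.e 0) w
      rw [hce, B_smul_left, hw] at this
      rcases mul_eq_zero.1 this with h | h
      · exact absurd h hc_ne
      · exact h
    have h1 : rh Q (fr.e 0) (c • (mo Q x *ᵥ w)) = rh Q (fr.e 0) w := by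
      have := rh_conj Q (x : ↥(Cfsg.isometryGroup F ⇑Q)) (fr.e 0) w
      rw [hce, hc0 w hw, mul_inv_cancel_right, rh_smul Q c (fr.Qe 0) hw'] at this
      exact this.symm
    obtain ⟨c', hc'⟩ := rh_inj Q (fr.Qe 0) hef (by rw [B_smul_right, hw', mul_zero]) hw h1
    exact ⟨c', by rw [← hc']; abel⟩
  have hcc : c * c = 1 := by
    have hw1 : B Q (fr.e 0) (fr.e 1 + fr.f 1) = 0 := by
      rw [B_add_right, Bee', Bef']; simp
    obtain ⟨μ, hμ⟩ := hW _ hw1
    have hQw1 : Q (fr.e 1 + fr.f 1) = 1 := by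
      rw [Q_add, fr.Qe, fr.Qf, Bef']; simp
    have h2 : B Q (fr.e 1 + fr.f 1) (fr.e 0) = 0 := by rw [B_comm]; exact hw1
    have h1 := congrArg (fun v => Q v) hμ
    beta_reduce at h1
    rw [Q_smul, Q_isom, hQw1, Q_add (Q := Q) (fr.e 1 + fr.f 1), hQw1, Q_smul, fr.Qe, B_smul_right,
      h2] at h1
    simpa using h1
  have hM : ∀ v, Q ((c • mo Q x) *ᵥ v) = Q v := by
    intro v
    rw [Matrix.smul_mulVec, Q_smul, Q_isom, hcc, one_mul]
  have hMe : (c • mo Q x) *ᵥ (fr.e 0) = fr.e 0 := by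
    rw [Matrix.smul_mulVec]
    unfold mo
    rw [hce, smul_smul, hcc, one_smul]
  obtain ⟨hey, hMv⟩ := eq_siegM_of_fix (fr.Qe 0) (fr.Qf 0) hef hM hMe
    (fun w hw => by rw [Matrix.smul_mulVec]; exact hW w hw)
  set y := (c • mo Q x) *ᵥ (fr.f 0) - fr.f 0 with hy
  -- `x * (ro e₀ y)⁻¹` is the scalar `c`
  have hz : x * (ro Q (fr.e 0) y)⁻¹ ∈ Subgroup.center ↥(Cfsg.Omega F ⇑Q) := by
    apply mem_center_of_scalar Q hQ fr (l := c)
    intro v
    rw [mo_mul]
    set v' := mo Q (ro Q (fr.e 0) y)⁻¹ *ᵥ v with hv'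
    have h1 : c • (mo Q x *ᵥ v') = v := by
      rw [← Matrix.smul_mulVec, hMv v', hv']
      have := mo_mulVec_inv Q (ro Q (fr.e 0) y) v
      unfold mo at this ⊢
      rw [ro_val Q hQ fr, rh_eq Q (fr.Qe 0) hey, siegO_val] at this
      exact this
    rw [← h1, smul_smul, hcc, one_smul]
  have h3 : pr Q x = pr Q (ro Q (fr.e 0) y) := by
    have := (pr_eq_one_iff Q _).2 hz
    rw [map_mul, map_inv, mul_inv_eq_one] at this
    exact this
  rw [h3]
  exact (mem_Qb Q hQ fr (fr.Qe 0)).2 ⟨y, hey, rfl⟩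

/-- **`Qb e₀` is self-centralising** -/
theorem selfC_Qb : SelfC (Qb Q (fr.e 0)) := by
  intro xb hx
  obtain ⟨x, rfl⟩ := pr_surjective Q xb
  apply pr_mem_Qb_of_comm hQ fr p
  intro w hw
  exact comm_of_pr_comm Q hQ fr p (ro_pElement Q hQ fr p _ w)
    (hx _ ((mem_Qb Q hQ fr (fr.Qe 0)).2 ⟨w, hw, rfl⟩))

end nd

end Cfsg.Agent.Helper7.AutO
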