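import Mathlib
import Cfsg.Agent.Helper7.AutO13

/-!
# Automorphisms of `PΩ(Q)`, part 14 (helper7)

Two root groups on disjoint perpendicular lines (spanning a totally singular `4`-space `S`): if
some vector of `S^⊥` lies outside `S`, then the group `GXY X Y` is not self-centralising.
-/

set_option autoImplicit false
set_option linter.unusedSectionVars false
set_option linter.unusedVariables false

namespace Cfsg.Agent.Helper7.AutO

open Matrix Cfsg.Agent.Helper28.Sg Cfsg.Agent.Helper28.Spin Cfsg.Agent.Helper28.PG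

variable {F : Type*} [Field F] {ι : Type} [Fintype ι] [DecidableEq ι]
  {Q : QuadraticForm F (ι → F)}

/-- `v` lies in the span of `a, b, c, d` -/
def InS (a b c d v : ι → F) : Prop := ∃ α β γ δ : F, v = α • a + β • b + γ • c + δ • d

theorem InS.add {a b c d v w : ι → F} (hv : InS a b c d v) (hw : InS a b c d w) :
    InS a b c d (v + w) := by
  obtain ⟨α, β, γ, δ, rfl⟩ := hv
  obtain ⟨α', β', γ', δ', rfl⟩ := hw
  exact ⟨α + α', β + β', γ + γ', δ + δ', by module⟩

theorem InS.sub {a b c d v w : ι → F} (hv : InS a b c d v) (hw : InS a b c d w) :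
    InS a b c d (v - w) := by
  obtain ⟨α, β, γ, δ, rfl⟩ := hv
  obtain ⟨α', β', γ', δ', rfl⟩ := hw
  exact ⟨α - α', β - β', γ - γ', δ - δ', by module⟩

theorem InS.smul {a b c d v : ι → F} (t : F) (hv : InS a b c d v) : InS a b c d (t • v) := by
  obtain ⟨α, β, γ, δ, rfl⟩ := hv
  exact ⟨t * α, t * β, t * γ, t * δ, by module⟩

theorem InS.neg {a b c d v : ι → F} (hv : InS a b c d v) : InS a b c d (-v) := by
  obtain ⟨α, β, γ, δ, rfl⟩ := hv
  exact ⟨-α, -β, -γ, -δ, by module⟩

theorem InS.zero (a b c d : ι → F) : InS a b c d 0 := ⟨0, 0, 0, 0, by simp⟩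

theorem InS.of_left {a b c d v : ι → F} (hv : InL a b v) : InS a b c d v := by
  obtain ⟨s, t, rfl⟩ := hv
  exact ⟨s, t, 0, 0, by module⟩

theorem InS.of_right {a b c d v : ι → F} (hv : InL c d v) : InS a b c d v := by
  obtain ⟨s, t, rfl⟩ := hv
  exact ⟨0, 0, s, t, by module⟩

theorem InS.of_inL {a b c d u u' v : ι → F} (hu : InS a b c d u) (hu' : InS a b c d u')
    (hv : InL u u' v) : InS a b c d v := by
  obtain ⟨s, t, rfl⟩ := hv
  exact (hu.smul s).add (hu'.smul t)

/-- a vector perpendicular to `a, b, c, d` is perpendicular to their span -/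
theorem B_inS_of_perp {a b c d z s : ι → F} (ha : B Q a z = 0) (hb : B Q b z = 0)
    (hc : B Q c z = 0) (hd : B Q d z = 0) (hs : InS a b c d s) : B Q s z = 0 := by
  obtain ⟨α, β, γ, δ, rfl⟩ := hs
  simp only [B_add_left, B_smul_left, ha, hb, hc, hd]
  ring

section ts

variable {a b c d : ι → F} (h : IsLine Q a b) (h' : IsLine Q c d)
  (hp : B Q c a = 0 ∧ B Q d a = 0 ∧ B Q c b = 0 ∧ B Q d b = 0)

include h h' hp

theorem B_inS {u v : ι → F} (hu : InS a b c d u) (hv : InS a b c d v) : B Q u v = 0 := by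
  have ha : B Q a v = 0 := by
    obtain ⟨α, β, γ, δ, rfl⟩ := hv
    have e1 : B Q a c = 0 := by rw [B_comm]; exact hp.1
    have e2 : B Q a d = 0 := by rw [B_comm]; exact hp.2.1
    simp only [B_add_right, B_smul_right, B_self_of_singular Q h.1, h.2.2.1, e1, e2]
    ring
  have hb : B Q b v = 0 := by
    obtain ⟨α, β, γ, δ, rfl⟩ := hv
    have e0 : B Q b a = 0 := by rw [B_comm]; exact h.2.2.1
    have e1 : B Q b c = 0 := by rw [B_comm]; exact hp.2.2.1
    have e2 : B Q b d = 0 := by rw [B_comm]; exact hp.2.2.2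
    simp only [B_add_right, B_smul_right, B_self_of_singular Q h.2.1, e0, e1, e2]
    ring
  have hc : B Q c v = 0 := by
    obtain ⟨α, β, γ, δ, rfl⟩ := hv
    simp only [B_add_right, B_smul_right, B_self_of_singular Q h'.1, h'.2.2.1, hp.1, hp.2.2.1]
    ring
  have hd : B Q d v = 0 := by
    obtain ⟨α, β, γ, δ, rfl⟩ := hv
    have e0 : B Q d c = 0 := by rw [B_comm]; exact h'.2.2.1
    simp only [B_add_right, B_smul_right, B_self_of_singular Q h'.2.1, e0, hp.2.1, hp.2.2.2]
    ring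
  exact B_inS_of_perp ha hb hc hd hu

theorem Q_inS {u : ι → F} (hu : InS a b c d u) : Q u = 0 := by
  have h1 := B_inS h h' hp hu hu
  obtain ⟨α, β, γ, δ, rfl⟩ := hu
  have e1 : B Q a c = 0 := by rw [B_comm]; exact hp.1
  have e2 : B Q a d = 0 := by rw [B_comm]; exact hp.2.1
  have e3 : B Q b c = 0 := by rw [B_comm]; exact hp.2.2.1
  have e4 : B Q b d = 0 := by rw [B_comm]; exact hp.2.2.2
  rw [Q_add, Q_add, Q_add, Q_smul, Q_smul, Q_smul, Q_smul, h.1, h.2.1, h'.1, h'.2.1]
  simp only [B_add_left, B_smul_left, B_smul_right, h.2.2.1, e1, e2, e3, e4, h'.2.2.1]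
  ring

end ts

section nd

variable (hQ : (QuadraticMap.polarBilin Q).Nondegenerate) (fr : Frame3 Q)
variable (p : ℕ) [Fact p.Prime] [CharP F p] [Fintype F]

/-- the elements of `PΩ(Q)` with a lift acting trivially on `S` and on `V / S` -/
def AS (a b c d : ι → F) (x : Cfsg.POmega F ⇑Q) : Prop :=
  ∃ g : ↥(Cfsg.Omega F ⇑Q), pr Q g = x ∧ (∀ w, InS a b c d (mo Q g *ᵥ w - w)) ∧
    ∀ s, InS a b c d s → mo Q g *ᵥ s = s

omit [Fintype F] in
theorem AS_closure {a b c d : ι → F} {K : Set (Cfsg.POmega F ⇑Q)}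
    (hK : ∀ x ∈ K, AS a b c d x) : ∀ x ∈ Subgroup.closure K, AS a b c d x := by
  intro x hx
  induction hx using Subgroup.closure_induction with
  | mem x hx => exact hK x hx
  | one => exact ⟨1, map_one _, fun w => by rw [mo_one, sub_self]; exact InS.zero a b c d,
      fun s _ => mo_one Q s⟩
  | mul x y _ _ hx hy =>
    obtain ⟨g, rfl, hg1, hg2⟩ := hx
    obtain ⟨g', rfl, hg1', hg2'⟩ := hy
    refine ⟨g * g', map_mul _ _ _, fun w => ?_, fun s hs => ?_⟩
    · rw [mo_mul]
      have : mo Q g *ᵥ (mo Q g' *ᵥ w) - w =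
          (mo Q g *ᵥ (mo Q g' *ᵥ w) - mo Q g' *ᵥ w) + (mo Q g' *ᵥ w - w) := by abel
      rw [this]
      exact (hg1 _).add (hg1' w)
    · rw [mo_mul, hg2' s hs, hg2 s hs]
  | inv x _ hx =>
    obtain ⟨g, rfl, hg1, hg2⟩ := hx
    refine ⟨g⁻¹, map_inv _ _, fun w => ?_, fun s hs => ?_⟩
    · have h1 := hg1 (mo Q g⁻¹ *ᵥ w)
      rw [mo_mulVec_inv] at h1
      have : mo Q g⁻¹ *ᵥ w - w = -(w - mo Q g⁻¹ *ᵥ w) := by abel
      rw [this]
      exact h1.neg
    · have := mo_inv_mulVec Q g s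
      rwa [hg2 s hs] at this

include hQ fr

/-- Siegel elements `ρ(u, v)` with `u, v ∈ S` act trivially on `S` and `V / S` -/
theorem AS_rb {a b c d : ι → F} (h : IsLine Q a b) (h' : IsLine Q c d)
    (hp : B Q c a = 0 ∧ B Q d a = 0 ∧ B Q c b = 0 ∧ B Q d b = 0) {u v : ι → F}
    (hu : InS a b c d u) (hv : InS a b c d v) : AS a b c d (rb Q u v) := by
  have hQu := Q_inS h h' hp hu
  have huv := B_inS h h' hp hu hv
  refine ⟨ro Q u v, rfl, fun w => ?_, fun s hs => ?_⟩
  · rw [ro_mulVec Q hQ fr hQu huv, Q_inS h h' hp hv]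
    have : w + B Q u w • v - B Q v w • u - ((0 : F) * B Q u w) • u - w =
        B Q u w • v - B Q v w • u := by module
    rw [this]
    exact (hv.smul _).sub (hu.smul _)
  · rw [ro_mulVec Q hQ fr hQu huv, B_inS h h' hp hu hs, B_inS h h' hp hv hs]
    simp

include p

/-- **the non-standard case**: `GXY X Y` is not self-centralising -/
theorem not_selfC_of_disjoint {a b c d z : ι → F} (h : IsLine Q a b) (h' : IsLine Q c d)
    (hp : B Q c a = 0 ∧ B Q d a = 0 ∧ B Q c b = 0 ∧ B Q d b = 0)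
    (hdis : ∀ q, InL a b q → InL c d q → q = 0)
    (hza : B Q a z = 0) (hzb : B Q b z = 0) (hzc : B Q c z = 0) (hzd : B Q d z = 0)
    (hz : ¬ InS a b c d z) : ¬ SelfC (GXY Q (Xb Q a b) (Xb Q c d)) := by
  intro hself
  -- the generators
  have hgen : ∀ x ∈ ((Xb Q a b : Set (Cfsg.POmega F ⇑Q)) ∪ (Xb Q c d : Set (Cfsg.POmega F ⇑Q)) ∪
      {z | ∃ Z : Subgroup (Cfsg.POmega F ⇑Q), RootGrp Q Z ∧ Col Q Z (Xb Q a b) ∧
        Col Q Z (Xb Q c d) ∧ z ∈ Z}), ∃ u v, InS a b c d u ∧ InS a b c d v ∧ x = rb Q u v := by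
    rintro x ((hx | hx) | ⟨Z, ⟨c', d', hl, rfl⟩, hZX, hZY, hx⟩)
    · obtain ⟨t, rfl⟩ := (mem_Xb Q hQ fr h.1 h.2.2.1).1 hx
      exact ⟨a, t • b, InS.of_left (InL.left a b), InS.of_left ((InL.right a b).smul t), rfl⟩
    · obtain ⟨t, rfl⟩ := (mem_Xb Q hQ fr h'.1 h'.2.2.1).1 hx
      exact ⟨c, t • d, InS.of_right (InL.left c d), InS.of_right ((InL.right c d).smul t), rfl⟩
    · obtain ⟨t, rfl⟩ := (mem_Xb Q hQ fr hl.1 hl.2.2.1).1 hx
      obtain ⟨⟨q, hq0, hq1, hq2⟩, -⟩ := col_lines hQ fr p hl h hZX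
      obtain ⟨⟨q', hq0', hq1', hq2'⟩, -⟩ := col_lines hQ fr p hl h' hZY
      have hind : Indep q q' := by
        intro s t' hst
        have h1 : s • q = (-t') • q' := by
          have : s • q = (s • q + t' • q') + (-t') • q' := by module
          rw [this, hst, zero_add]
        have h2 := hdis (s • q) (hq2.smul s) (by rw [h1]; exact hq2'.smul _)
        have hs : s = 0 := by
          rcases smul_eq_zero.1 h2 with h3 | h3
          · exact h3
          · exact absurd h3 hq0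
        rw [hs, zero_smul, zero_add] at hst
        rcases smul_eq_zero.1 hst with h3 | h3
        · exact ⟨hs, h3⟩
        · exact absurd h3 hq0'
      obtain ⟨i1, i2⟩ := inL_swap hind hq1 hq1'
      have hq : InS a b c d q := InS.of_left hq2
      have hq' : InS a b c d q' := InS.of_right hq2'
      exact ⟨c', t • d', InS.of_inL hq hq' i1, (InS.of_inL hq hq' i2).smul t, rfl⟩
  -- the witness
  have hQa := h.1
  have hfix : ∀ s, InS a b c d s → mo Q (ro Q a z) *ᵥ s = s := by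
    intro s hs
    have e1 : B Q a s = 0 := B_inS h h' hp (InS.of_left (InL.left a b)) hs
    have e2 : B Q z s = 0 := by rw [B_comm]; exact B_inS_of_perp hza hzb hzc hzd hs
    rw [ro_mulVec Q hQ fr hQa hza, e1, e2]
    simp
  have hcomm : ∀ y ∈ GXY Q (Xb Q a b) (Xb Q c d), rb Q a z * y = y * rb Q a z := by
    intro y hy
    unfold GXY at hy
    induction hy using Subgroup.closure_induction with
    | mem y hy =>
      obtain ⟨u, v, hu, hv, rfl⟩ := hgen y hy
      have h1 := rb_conj Q hQ fr (ro Q a z) u v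
      rw [hfix u hu, hfix v hv] at h1
      calc rb Q a z * rb Q u v = pr Q (ro Q a z) * rb Q u v * (pr Q (ro Q a z))⁻¹ * rb Q a z := by
            unfold rb; group
        _ = rb Q u v * rb Q a z := by rw [h1]
    | one => rw [mul_one, one_mul]
    | mul x y _ _ hx hy => rw [← mul_assoc, hx, mul_assoc, hy, mul_assoc]
    | inv x _ hx =>
      calc rb Q a z * x⁻¹ = x⁻¹ * (x * rb Q a z) * x⁻¹ := by group
        _ = x⁻¹ * (rb Q a z * x) * x⁻¹ := by rw [hx]
        _ = x⁻¹ * rb Q a z := by group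
  have hmem := hself _ hcomm
  obtain ⟨g, hg, hg1, hg2⟩ := AS_closure (fun x hx => by
    obtain ⟨u, v, hu, hv, rfl⟩ := hgen x hx
    exact AS_rb hQ fr h h' hp hu hv) _ hmem
  -- `g` and `ρ(a, z)` differ by a scalar, which is one
  have hcen := (pr_eq_iff Q g (ro Q a z)).1 hg
  obtain ⟨l, hl⟩ := center_scalar Q hQ fr hcen
  have ha0 : a ≠ 0 := h.2.2.2.ne_zero_left
  have haS : InS a b c d a := InS.of_left (InL.left a b)
  have hl1 : l = 1 := by
    have h1 := hl a
    rw [mo_mul, hfix a haS] at h1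
    have h2 := mo_inv_mulVec Q g a
    rw [hg2 a haS, h1] at h2
    have h3 : (l - 1) • a = 0 := by rw [sub_smul, one_smul, h2, sub_self]
    rcases smul_eq_zero.1 h3 with h4 | h4
    · exact sub_eq_zero.1 h4
    · exact absurd h4 ha0
  have heq : ∀ v, mo Q (ro Q a z) *ᵥ v = mo Q g *ᵥ v := by
    intro v
    have h1 := hl v
    rw [mo_mul, hl1, one_smul] at h1
    have h2 := congrArg (fun w => mo Q g *ᵥ w) h1
    beta_reduce at h2
    rwa [mo_mulVec_inv] at h2
  obtain ⟨x, hx⟩ := exists_pair_one hQ ha0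
  have h5 := hg1 x
  rw [← heq, ro_mulVec Q hQ fr hQa hza, hx] at h5
  apply hz
  have : z = (x + (1 : F) • z - B Q z x • a - (Q z * 1) • a - x) + (B Q z x + Q z) • a := by
    module
  rw [this]
  exact h5.add (haS.smul _)

end nd

end Cfsg.Agent.Helper7.AutO
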