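import Mathlib
import Cfsg.Agent.Helper7.AutO14

/-!
# Automorphisms of `PΩ(Q)`, part 15 (helper7)

Witt's theorem for triples of vectors; every automorphism of `PΩ(Q)` maps the Siegel group
`Qb e₀` to a Siegel group `Qb e'` (under the hypothesis `HS4` on totally singular `4`-spaces).
-/

set_option autoImplicit false
set_option linter.unusedSectionVars false
set_option linter.unusedVariables false

namespace Cfsg.Agent.Helper7.AutO

open Matrix Module Cfsg.Agent.Helper28.Sg Cfsg.Agent.Helper28.Spin Cfsg.Agent.Helper28.PG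

variable {F : Type*} [Field F] {ι : Type} [Fintype ι] [DecidableEq ι]
  {Q : QuadraticForm F (ι → F)}

/-- three linearly independent vectors -/
def Indep3 (u v w : ι → F) : Prop :=
  ∀ α β γ : F, α • u + β • v + γ • w = 0 → α = 0 ∧ β = 0 ∧ γ = 0

/-- **Witt's theorem for triples** -/
theorem witt_triple (hQ : (QuadraticMap.polarBilin Q).Nondegenerate) {u v w u' v' w' : ι → F}
    (hind : Indep3 u v w) (hind' : Indep3 u' v' w')
    (hQeq : ∀ α β γ : F, Q (α • u + β • v + γ • w) = Q (α • u' + β • v' + γ • w')) :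
    ∃ g : ↥(Cfsg.isometryGroup F ⇑Q), mt Q g *ᵥ u = u' ∧ mt Q g *ᵥ v = v' ∧ mt Q g *ᵥ w = w' := by
  let i₀ : F × F × F →ₗ[F] (ι → F) :=
    (LinearMap.fst F F (F × F)).smulRight u +
      ((LinearMap.fst F F F).comp (LinearMap.snd F F (F × F))).smulRight v +
      ((LinearMap.snd F F F).comp (LinearMap.snd F F (F × F))).smulRight w
  let s₀ : F × F × F →ₗ[F] (ι → F) :=
    (LinearMap.fst F F (F × F)).smulRight u' +
      ((LinearMap.fst F F F).comp (LinearMap.snd F F (F × F))).smulRight v' +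
      ((LinearMap.snd F F F).comp (LinearMap.snd F F (F × F))).smulRight w'
  have hi₀ : ∀ q : F × F × F, i₀ q = q.1 • u + q.2.1 • v + q.2.2 • w := fun q => rfl
  have hs₀ : ∀ q : F × F × F, s₀ q = q.1 • u' + q.2.1 • v' + q.2.2 • w' := fun q => rfl
  have hinj_i : Function.Injective i₀ := by
    rw [injective_iff_map_eq_zero]
    intro q hq
    rw [hi₀] at hq
    obtain ⟨h1, h2, h3⟩ := hind _ _ _ hq
    ext
    · exact h1
    · exact h2
    · exact h3
  have hinj_s : Function.Injective s₀ := by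
    rw [injective_iff_map_eq_zero]
    intro q hq
    rw [hs₀] at hq
    obtain ⟨h1, h2, h3⟩ := hind' _ _ _ hq
    ext
    · exact h1
    · exact h2
    · exact h3
  have hfr : finrank F (F × F × F) = 3 := by
    rw [Module.finrank_prod, Module.finrank_prod, Module.finrank_self]
  obtain ⟨gL, hgQ, hg⟩ := Cfsg.Agent.Helper28.QWitt.witt_aux Q hQ 3 (F × F × F) i₀ s₀ hfr hinj_i
    hinj_s (by intro q; rw [hi₀, hs₀, hQeq])
  obtain ⟨M, hM⟩ := Cfsg.Agent.Helper28.WO.exists_isom Q
    (LinearEquiv.ofInjectiveEndo gL (Cfsg.Agent.Helper28.QWitt.isom_injective Q hQ hgQ)) hgQ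
  refine ⟨M, ?_, ?_, ?_⟩
  · have := hg (1, 0, 0)
    rw [hi₀, hs₀] at this
    simp only [one_smul, zero_smul, add_zero] at this
    show ((M : GL ι F) : Matrix ι ι F) *ᵥ u = u'
    rw [hM]
    exact this
  · have := hg (0, 1, 0)
    rw [hi₀, hs₀] at this
    simp only [one_smul, zero_smul, add_zero, zero_add] at this
    show ((M : GL ι F) : Matrix ι ι F) *ᵥ v = v'
    rw [hM]
    exact this
  · have := hg (0, 0, 1)
    rw [hi₀, hs₀] at this
    simp only [one_smul, zero_smul, add_zero, zero_add] at this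
    show ((M : GL ι F) : Matrix ι ι F) *ᵥ w = w'
    rw [hM]
    exact this

variable (Q) in
/-- the hypothesis on totally singular `4`-spaces: some vector of `S^⊥` lies outside `S` -/
def HS4 : Prop :=
  ∀ a b c d : ι → F, IsLine Q a b → IsLine Q c d →
    (B Q c a = 0 ∧ B Q d a = 0 ∧ B Q c b = 0 ∧ B Q d b = 0) →
    (∀ q, InL a b q → InL c d q → q = 0) →
    ∃ z, B Q a z = 0 ∧ B Q b z = 0 ∧ B Q c z = 0 ∧ B Q d z = 0 ∧ ¬ InS a b c d z

end Cfsg.Agent.Helper7.AutO
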