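import Mathlib
import Cfsg.Agent.Helper7.AutO15

/-!
# Automorphisms of `PΩ(Q)`, part 16 (helper7)

Every automorphism of `PΩ(Q)` maps the Siegel group `Qb e₀` to a Siegel group `Qb e'`.
-/

set_option autoImplicit false
set_option linter.unusedSectionVars false
set_option linter.unusedVariables false

namespace Cfsg.Agent.Helper7.AutO

open Matrix Module Cfsg.Agent.Helper28.Sg Cfsg.Agent.Helper28.Spin Cfsg.Agent.Helper28.PG

variable {F : Type*} [Field F] {ι : Type} [Fintype ι] [DecidableEq ι]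
  {Q : QuadraticForm F (ι → F)}

section nd

variable (hQ : (QuadraticMap.polarBilin Q).Nondegenerate) (fr : Frame3 Q)
variable (p : ℕ) [Fact p.Prime] [CharP F p] [Fintype F]

include hQ fr p

/-- the two standard root groups are not collinear -/
theorem not_col_std : ¬ Col Q (Xb Q (fr.e 0) (fr.e 1)) (Xb Q (fr.e 0) (fr.f 1)) := by
  rintro ⟨-, -, hprod⟩
  have hl1 : IsLine Q (fr.e 0) (fr.e 1) := isLine_frame fr (by decide)
  have hl2 : IsLine Q (fr.e 0) (fr.f 1) := isLine_frame_ef fr (by decide)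
  obtain ⟨a', b', hl', h3⟩ := hprod _ (rb_mem_Xb' hQ fr hl1) _ (rb_mem_Xb' hQ fr hl2)
    (rb_line_ne_one hQ fr p hl1) (rb_line_ne_one hQ fr p hl2)
  rw [rb_mul Q hQ fr (fr.Qe 0) hl1.2.2.1 hl2.2.2.1] at h3
  have h4 := rb_eq_rb Q hQ fr p h3
  have hind : Indep (fr.e 0) (fr.e 1 + fr.f 1) := by
    intro s t hst
    have e1 := congrArg (fun w => B Q w (fr.f 0)) hst
    have e2 := congrArg (fun w => B Q w (fr.f 1)) hst
    simp only [B_add_left, B_smul_left, B_zero_left, Bef', Bff'] at e1 e2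
    simp at e1 e2
    exact ⟨e1, e2⟩
  have h5 := singular_of_rh_eq_line hQ fr (fr.Qe 0)
    (by rw [B_add_right, hl1.2.2.1, hl2.2.2.1, add_zero]) hind hl' h4
  rw [Q_add, fr.Qe, fr.Qf, Bef'] at h5
  simp at h5

theorem comm_std : Comm (Xb Q (fr.e 0) (fr.e 1)) (Xb Q (fr.e 0) (fr.f 1)) := by
  have hl1 : IsLine Q (fr.e 0) (fr.e 1) := isLine_frame fr (by decide)
  have hl2 : IsLine Q (fr.e 0) (fr.f 1) := isLine_frame_ef fr (by decide)
  intro u hu v hv
  obtain ⟨s, rfl⟩ := (mem_Xb Q hQ fr hl1.1 hl1.2.2.1).1 hu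
  obtain ⟨t, rfl⟩ := (mem_Xb Q hQ fr hl2.1 hl2.2.2.1).1 hv
  have e1 : B Q (fr.e 0) (s • fr.e 1) = 0 := by rw [B_smul_right, hl1.2.2.1, mul_zero]
  have e2 : B Q (fr.e 0) (t • fr.f 1) = 0 := by rw [B_smul_right, hl2.2.2.1, mul_zero]
  rw [rb_mul Q hQ fr (fr.Qe 0) e1 e2, rb_mul Q hQ fr (fr.Qe 0) e2 e1, add_comm]

theorem ne_std : Xb Q (fr.e 0) (fr.e 1) ≠ Xb Q (fr.e 0) (fr.f 1) := by
  have hl1 : IsLine Q (fr.e 0) (fr.e 1) := isLine_frame fr (by decide)
  have hl2 : IsLine Q (fr.e 0) (fr.f 1) := isLine_frame_ef fr (by decide)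
  intro heq
  have h1 : rb Q (fr.e 0) (fr.e 1) ∈ Xb Q (fr.e 0) (fr.f 1) := by
    rw [← heq]; exact rb_mem_Xb' hQ fr hl1
  obtain ⟨t, ht⟩ := (mem_Xb Q hQ fr hl2.1 hl2.2.2.1).1 h1
  have h3 := rb_eq_rb Q hQ fr p ht
  obtain ⟨c, hc⟩ := rh_inj Q (f := fr.f 0) (fr.Qe 0) (by rw [Bef']; simp) hl1.2.2.1
    (by rw [B_smul_right, hl2.2.2.1, mul_zero]) h3
  have e1 := congrArg (fun w => B Q w (fr.f 1)) hc
  simp only [B_sub_left, B_smul_left, Bef', Bff'] at e1
  simp at e1

/-- **every automorphism maps `Qb e₀` to a Siegel group** -/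
theorem map_aut_Qb (hS : HS4 Q) (α : MulAut (Cfsg.POmega F ⇑Q)) :
    ∃ e' : ι → F, Q e' = 0 ∧ e' ≠ 0 ∧ (Qb Q (fr.e 0)).map α.toMonoidHom = Qb Q e' := by
  have hl1 : IsLine Q (fr.e 0) (fr.e 1) := isLine_frame fr (by decide)
  have hl2 : IsLine Q (fr.e 0) (fr.f 1) := isLine_frame_ef fr (by decide)
  obtain ⟨a, b, hl, hX⟩ := map_aut_Xb hQ fr p α hl1
  obtain ⟨c, d, hl', hY⟩ := map_aut_Xb hQ fr p α hl2
  have hG : (Qb Q (fr.e 0)).map α.toMonoidHom = GXY Q (Xb Q a b) (Xb Q c d) := by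
    rw [← GXY_std hQ fr p, GXY_map hQ fr p, hX, hY]
  have hself : SelfC (GXY Q (Xb Q a b) (Xb Q c d)) := by
    rw [← hG]; exact (selfC_Qb hQ fr p).map α
  have hcomm : Comm (Xb Q a b) (Xb Q c d) := by
    rw [← hX, ← hY]; exact (comm_std hQ fr p).map α
  have hne : Xb Q a b ≠ Xb Q c d := by
    rw [← hX, ← hY]
    intro heq
    exact ne_std hQ fr p (Subgroup.map_injective α.injective heq)
  have hncol : ¬ Col Q (Xb Q a b) (Xb Q c d) := by
    intro hcol
    have := Col.map hQ fr p hcol α⁻¹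
    rw [← hX, ← hY, map_map_inv, map_map_inv] at this
    exact not_col_std hQ fr p this
  by_cases hmeet : ∃ q : ι → F, q ≠ 0 ∧ InL a b q ∧ InL c d q
  · obtain ⟨q, hq0, hq1, hq2⟩ := hmeet
    obtain ⟨x, hlx, hx, hXx⟩ := exists_line_through hQ fr hl hq0 hq1
    obtain ⟨y, hly, hy, hXy⟩ := exists_line_through hQ fr hl' hq0 hq2
    have hxy : B Q x y ≠ 0 := by
      intro h0
      apply hncol
      rw [← hXx, ← hXy]
      apply col_of_perp hQ fr p hlx hly h0
      rw [hXx, hXy]; exact hne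
    refine ⟨q, hlx.1, hq0, ?_⟩
    -- move the standard triple to `(q, x, y)`
    have hyx : B Q y x = B Q x y := B_comm Q _ _
    have hyq : B Q y q = 0 := by rw [B_comm]; exact hly.2.2.1
    have hxq : B Q x q = 0 := by rw [B_comm]; exact hlx.2.2.1
    obtain ⟨g, hg0, hg1, hg2⟩ := witt_triple hQ (u := fr.e 0) (v := fr.e 1)
      (w := B Q x y • fr.f 1) (u' := q) (v' := x) (w' := y)
      (by
        intro α' β γ h0
        have e1 := congrArg (fun w => B Q w (fr.f 0)) h0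
        have e2 := congrArg (fun w => B Q w (fr.f 1)) h0
        have e3 := congrArg (fun w => B Q w (fr.e 1)) h0
        simp only [B_add_left, B_smul_left, B_zero_left, Bef', Bff', Bee', Bfe'] at e1 e2 e3
        simp at e1 e2 e3
        exact ⟨e1, e2, e3.resolve_right hxy⟩)
      (by
        intro α' β γ h0
        have e2 := congrArg (fun w => B Q w y) h0
        have e3 := congrArg (fun w => B Q w x) h0
        simp only [B_add_left, B_smul_left, B_zero_left, hlx.2.2.1, hly.2.2.1,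
          B_self_of_singular Q hlx.2.1, B_self_of_singular Q hly.2.1, hyx] at e2 e3
        simp at e2 e3
        have hβ := e2.resolve_right hxy
        have hγ := e3.resolve_right hxy
        rw [hβ, hγ, zero_smul, zero_smul, add_zero, add_zero] at h0
        rcases smul_eq_zero.1 h0 with h | h
        · exact ⟨h, hβ, hγ⟩
        · exact absurd h hq0)
      (by
        intro α' β γ
        have he01 : B Q (fr.e 0) (fr.e 1) = 0 := Bee' fr 0 1
        have he0f1 : B Q (fr.e 0) (fr.f 1) = 0 := by rw [Bef']; simp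
        have he1f1 : B Q (fr.e 1) (fr.f 1) = 1 := by rw [Bef']; simp
        have e1 : Q (α' • fr.e 0 + β • fr.e 1 + γ • B Q x y • fr.f 1) = β * γ * B Q x y := by
          rw [Q_add, Q_add, Q_smul, Q_smul, Q_smul, Q_smul, fr.Qe, fr.Qe, fr.Qf]
          simp only [B_add_left, B_smul_left, B_smul_right, he01, he0f1, he1f1]
          ring
        have e2 : Q (α' • q + β • x + γ • y) = β * γ * B Q x y := by
          rw [Q_add, Q_add, Q_smul, Q_smul, Q_smul, hlx.1, hlx.2.1, hly.2.1]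
          simp only [B_add_left, B_smul_left, B_smul_right, hlx.2.2.1, hly.2.2.1]
          ring
        rw [e1, e2])
    have hX' : (Xb Q (fr.e 0) (fr.e 1)).map (cO Q g).toMonoidHom = Xb Q q x := by
      rw [cO_Xb Q hQ fr g hl1.1 hl1.2.2.1, hg0, hg1]
    have hY' : (Xb Q (fr.e 0) (fr.f 1)).map (cO Q g).toMonoidHom = Xb Q q y := by
      rw [cO_Xb Q hQ fr g hl2.1 hl2.2.2.1, hg0]
      have h1 : mt Q g *ᵥ (fr.f 1) = (B Q x y)⁻¹ • y := by
        have := congrArg (fun v => (B Q x y)⁻¹ • v) hg2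
        beta_reduce at this
        rw [Matrix.mulVec_smul, smul_smul, inv_mul_cancel₀ hxy, one_smul] at this
        exact this
      rw [h1]
      have hl3 : IsLine Q q ((B Q x y)⁻¹ • y) := hly.smul_right (inv_ne_zero hxy)
      exact Xb_eq_of_inL hQ fr hly hl3 (InL.left q y) ((InL.right q y).smul _)
    rw [hG, ← hXx, ← hXy, ← hX', ← hY', ← GXY_map hQ fr p, GXY_std hQ fr p,
      cO_Qb Q hQ fr g (fr.Qe 0), hg0]
  · exfalso
    have hc := hcomm _ (rb_mem_Xb' hQ fr hl) _ (rb_mem_Xb' hQ fr hl')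
    have hc' := rh_comm_of_rb_comm hQ fr p hc
    rcases meet_or_perp hQ fr hl hl' hc'.symm with h1 | h1
    · exact hmeet h1
    · have hdis : ∀ q, InL a b q → InL c d q → q = 0 := by
        intro q hq1 hq2
        by_contra hq0
        exact hmeet ⟨q, hq0, hq1, hq2⟩
      obtain ⟨z, hza, hzb, hzc, hzd, hz⟩ := hS a b c d hl hl' h1 hdis
      exact not_selfC_of_disjoint hQ fr p hl hl' h1 hdis hza hzb hzc hzd hz hself

end nd

end Cfsg.Agent.Helper7.AutO
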