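import Mathlib
import Cfsg.Agent.Helper7.AutO16

/-!
# Automorphisms of `PΩ(Q)`, part 17 (helper7)

Normalisation: after composing with conjugations by isometries, an automorphism of `PΩ(Q)` fixes
the two Siegel groups `Qb e₀` and `Qb f₀`.
-/

set_option autoImplicit false
set_option linter.unusedSectionVars false
set_option linter.unusedVariables false

namespace Cfsg.Agent.Helper7.AutO

open Matrix Module Cfsg.Agent.Helper28.Sg Cfsg.Agent.Helper28.Spin Cfsg.Agent.Helper28.PG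

variable {F : Type*} [Field F] {ι : Type} [Fintype ι] [DecidableEq ι]
  {Q : QuadraticForm F (ι → F)}

/-- `α` fixes the Siegel groups of `e₀` and `f₀` -/
def Nrm (fr : Frame3 Q) (α : MulAut (Cfsg.POmega F ⇑Q)) : Prop :=
  (Qb Q (fr.e 0)).map α.toMonoidHom = Qb Q (fr.e 0) ∧
    (Qb Q (fr.f 0)).map α.toMonoidHom = Qb Q (fr.f 0)

section nd

variable (hQ : (QuadraticMap.polarBilin Q).Nondegenerate) (fr : Frame3 Q)

include hQ fr

theorem Qb_smul {e : ι → F} (he : Q e = 0) {c : F} (hc : c ≠ 0) : Qb Q (c • e) = Qb Q e := by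
  have he' : Q (c • e) = 0 := by rw [Q_smul, he, mul_zero]
  ext x
  rw [mem_Qb Q hQ fr he', mem_Qb Q hQ fr he]
  constructor
  · rintro ⟨w, hw, rfl⟩
    have hw' : B Q e w = 0 := by
      rw [B_smul_left] at hw
      exact (mul_eq_zero.1 hw).resolve_left hc
    exact ⟨c • w, by rw [B_smul_right, hw', mul_zero],
      rb_congr Q hQ fr (rh_smul Q c he hw')⟩
  · rintro ⟨w, hw, rfl⟩
    refine ⟨c⁻¹ • w, by rw [B_smul_left, B_smul_right, hw]; simp, ?_⟩
    apply rb_congr Q hQ fr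
    rw [rh_smul Q c he (by rw [B_smul_right, hw, mul_zero]), smul_smul, mul_inv_cancel₀ hc,
      one_smul]

variable (p : ℕ) [Fact p.Prime] [CharP F p] [Fintype F]

include p

/-- the Siegel groups of a hyperbolic pair intersect trivially -/
theorem Qb_inf {e f : ι → F} (he : Q e = 0) (hf : Q f = 0) (hef : B Q e f = 1)
    {x : Cfsg.POmega F ⇑Q} (hx : x ∈ Qb Q e) (hx' : x ∈ Qb Q f) : x = 1 := by
  obtain ⟨w, hw, rfl⟩ := (mem_Qb Q hQ fr he).1 hx
  obtain ⟨w', hw', h1⟩ := (mem_Qb Q hQ fr hf).1 hx'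
  have h2 := rb_eq_rb Q hQ fr p h1
  have h3 := congrArg (fun g => mt Q g *ᵥ e) h2
  beta_reduce at h3
  have hfe : B Q f e = 1 := by rw [B_comm]; exact hef
  rw [rh_mulVec Q he hw, rh_mulVec Q hf hw', B_self_of_singular Q he, B_comm Q w e, hw, hfe] at h3
  have h4 : w' = (B Q w' e + Q w') • f := by
    have h5 : e + (0 : F) • w - (0 : F) • e - (Q w * 0) • e = e := by module
    rw [h5] at h3
    have h6 : (0 : ι → F) = w' - (B Q w' e + Q w') • f := by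
      calc (0 : ι → F) = e - e := by abel
        _ = (e + (1 : F) • w' - B Q w' e • f - (Q w' * 1) • f) - e := by rw [← h3]
        _ = w' - (B Q w' e + Q w') • f := by module
    exact sub_eq_zero.1 h6.symm
  rw [h1]
  have h5 : rb Q f w' = rb Q f (0 + (B Q w' e + Q w') • f) := by rw [zero_add, ← h4]
  rw [h5]
  have h6 := rh_add_smul_self Q (B Q w' e + Q w') hf (B_zero_right Q f)
  rw [rb_congr Q hQ fr h6, rb_zero_right Q hQ fr]

theorem Qb_ne_bot {e : ι → F} (he : Q e = 0) (he0 : e ≠ 0) : ∃ x ∈ Qb Q e, x ≠ 1 := by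
  obtain ⟨g, hg⟩ := witt_single hQ fr he he0
  have hl : IsLine Q e (mt Q g *ᵥ (fr.e 1)) := by
    rw [← hg]; exact (isLine_frame fr (by decide)).map g
  exact ⟨rb Q e _, (mem_Qb Q hQ fr he).2 ⟨_, hl.2.2.1, rfl⟩, rb_line_ne_one hQ fr p hl⟩

/-- **normalisation** -/
theorem exists_normalize (hS : HS4 Q) (α : MulAut (Cfsg.POmega F ⇑Q)) :
    ∃ g₁ g₂ : ↥(Cfsg.isometryGroup F ⇑Q), Nrm fr (cO Q g₂ * (cO Q g₁ * α)) := by
  have hef : B Q (fr.e 0) (fr.f 0) = 1 := by rw [Bef']; simp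
  obtain ⟨e', he', he'0, h1⟩ := map_aut_Qb hQ fr p hS α
  obtain ⟨g₁, hg₁⟩ := witt_single hQ fr he' he'0
  set α₁ := cO Q g₁⁻¹ * α with hα₁
  have hmapmul : ∀ (β γ : MulAut (Cfsg.POmega F ⇑Q)) (K : Subgroup (Cfsg.POmega F ⇑Q)),
      K.map (β * γ).toMonoidHom = (K.map γ.toMonoidHom).map β.toMonoidHom := by
    intro β γ K
    rw [Subgroup.map_map]
    rfl
  have h2 : (Qb Q (fr.e 0)).map α₁.toMonoidHom = Qb Q (fr.e 0) := by
    rw [hα₁, hmapmul, h1, cO_Qb Q hQ fr _ he', ← hg₁, mt_inv_mulVec]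
  -- the image of `Qb f₀`
  obtain ⟨gf, hgf⟩ := witt_single hQ fr (fr.Qf 0) (fun h => by
    have := hef; rw [h, B_zero_right] at this; exact zero_ne_one this)
  obtain ⟨f', hf', hf'0, h3⟩ := map_aut_Qb hQ fr p hS (α₁ * cO Q gf)
  rw [hmapmul, cO_Qb Q hQ fr _ (fr.Qe 0), hgf] at h3
  -- `f'` is not perpendicular to `e₀`
  have hinf : ∀ x, x ∈ Qb Q (fr.e 0) → x ∈ Qb Q f' → x = 1 := by
    intro x hx hx'
    rw [← h2] at hx
    rw [← h3] at hx'
    obtain ⟨y, hy, rfl⟩ := hx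
    obtain ⟨y', hy', hyy⟩ := hx'
    have : y' = y := α₁.injective hyy
    rw [this] at hy'
    have := Qb_inf hQ fr p (fr.Qe 0) (fr.Qf 0) hef hy hy'
    rw [this]
    exact map_one _
  have hne : B Q (fr.e 0) f' ≠ 0 := by
    intro h0
    by_cases hind : Indep (fr.e 0) f'
    · have hl : IsLine Q (fr.e 0) f' := ⟨fr.Qe 0, hf', h0, hind⟩
      have hx1 : rb Q (fr.e 0) f' ∈ Qb Q (fr.e 0) := (mem_Qb Q hQ fr (fr.Qe 0)).2 ⟨_, h0, rfl⟩
      have hx2 : rb Q (fr.e 0) f' ∈ Qb Q f' := by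
        rw [rb_congr Q hQ fr (rh_swap Q (fr.Qe 0) hf' h0)]
        exact (mem_Qb Q hQ fr hf').2 ⟨_, by rw [B_neg_right, B_comm, h0, neg_zero], rfl⟩
      exact rb_line_ne_one hQ fr p hl (hinf _ hx1 hx2)
    · -- `f'` is proportional to `e₀`
      have hprop : ∃ c : F, f' = c • fr.e 0 := by
        by_contra hcon
        exact hind (indep_of_not_smul (fr.e_ne_zero 0) hcon)
      obtain ⟨c, hc⟩ := hprop
      have hc0 : c ≠ 0 := by
        intro h; apply hf'0; rw [hc, h, zero_smul]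
      have : Qb Q f' = Qb Q (fr.e 0) := by rw [hc, Qb_smul hQ fr (fr.Qe 0) hc0]
      obtain ⟨x, hx, hx1⟩ := Qb_ne_bot hQ fr p (fr.Qe 0) (fr.e_ne_zero 0)
      exact hx1 (hinf x hx (by rw [this]; exact hx))
  -- move `f'` back to `f₀`
  set f'' := (B Q (fr.e 0) f')⁻¹ • f' with hf''
  have hQf'' : Q f'' = 0 := by rw [hf'', Q_smul, hf', mul_zero]
  have hef'' : B Q (fr.e 0) f'' = 1 := by rw [hf'', B_smul_right, inv_mul_cancel₀ hne]
  have hQb'' : Qb Q f'' = Qb Q f' := Qb_smul hQ fr hf' (inv_ne_zero hne)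
  have hperp : B Q (fr.e 0) (f'' - fr.f 0) = 0 := by rw [B_sub_right, hef'', hef, sub_self]
  set h := siegO Q (fr.e 0) (f'' - fr.f 0) (fr.Qe 0) hperp with hh
  have hmove : mt Q h *ᵥ (fr.f 0) = f'' := siegO_move (fr.Qe 0) (fr.Qf 0) hQf'' hef hef'' hperp
  have hfix : mt Q h *ᵥ (fr.e 0) = fr.e 0 := siegO_fix (fr.Qe 0) hperp
  refine ⟨g₁⁻¹, h⁻¹, ?_, ?_⟩
  · rw [hmapmul, h2, cO_Qb Q hQ fr _ (fr.Qe 0)]
    nth_rewrite 1 [← hfix]
    rw [mt_inv_mulVec]
  · rw [hmapmul, h3, ← hQb'', cO_Qb Q hQ fr _ hQf'', ← hmove, mt_inv_mulVec]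

end nd

end Cfsg.Agent.Helper7.AutO
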