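import Mathlib
import Cfsg.Agent.Helper7.AutO17

/-!
# Automorphisms of `PΩ(Q)`, part 18 (helper7)

The parametrisation of the Siegel group `Qb e` by `W = ⟨e, f⟩^⊥` for a hyperbolic pair `(e, f)`,
and the additive map `Amap α e f` of `W` attached to an automorphism `α` fixing `Qb e`.
-/

set_option autoImplicit false
set_option linter.unusedSectionVars false
set_option linter.unusedVariables false

namespace Cfsg.Agent.Helper7.AutO

open Matrix Module Cfsg.Agent.Helper28.Sg Cfsg.Agent.Helper28.Spin Cfsg.Agent.Helper28.PG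

variable {F : Type*} [Field F] {ι : Type} [Fintype ι] [DecidableEq ι]
  (Q : QuadraticForm F (ι → F))

/-- `w` is perpendicular to `e` and `f` -/
def InW (e f w : ι → F) : Prop := B Q e w = 0 ∧ B Q f w = 0

/-- the map of `W` induced by an automorphism fixing `Qb e` -/
noncomputable def Amap (α : MulAut (Cfsg.POmega F ⇑Q)) (e f : ι → F) (w : ι → F) : ι → F := by
  classical
  exact if h : ∃ w', InW Q e f w' ∧ α (rb Q e w) = rb Q e w' then Classical.choose h else 0

variable {Q}

theorem InW.add {e f w w' : ι → F} (h : InW Q e f w) (h' : InW Q e f w') :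
    InW Q e f (w + w') :=
  ⟨by rw [B_add_right, h.1, h'.1, add_zero], by rw [B_add_right, h.2, h'.2, add_zero]⟩

theorem InW.smul {e f w : ι → F} (t : F) (h : InW Q e f w) : InW Q e f (t • w) :=
  ⟨by rw [B_smul_right, h.1, mul_zero], by rw [B_smul_right, h.2, mul_zero]⟩

theorem InW.neg {e f w : ι → F} (h : InW Q e f w) : InW Q e f (-w) :=
  ⟨by rw [B_neg_right, h.1, neg_zero], by rw [B_neg_right, h.2, neg_zero]⟩

theorem InW.sub {e f w w' : ι → F} (h : InW Q e f w) (h' : InW Q e f w') :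
    InW Q e f (w - w') :=
  ⟨by rw [B_sub_right, h.1, h'.1, sub_zero], by rw [B_sub_right, h.2, h'.2, sub_zero]⟩

theorem InW.zero (e f : ι → F) : InW Q e f 0 := ⟨B_zero_right Q e, B_zero_right Q f⟩

theorem InW.swap {e f w : ι → F} (h : InW Q e f w) : InW Q f e w := ⟨h.2, h.1⟩

section nd

variable (hQ : (QuadraticMap.polarBilin Q).Nondegenerate) (fr : Frame3 Q)
variable (p : ℕ) [Fact p.Prime] [CharP F p] [Fintype F]
variable {e f : ι → F} (he : Q e = 0) (hf : Q f = 0) (hef : B Q e f = 1)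

include hQ fr p he hf hef

/-- every element of `Qb e` is `rb e w` for some `w ∈ W` -/
theorem exists_param {x : Cfsg.POmega F ⇑Q} (hx : x ∈ Qb Q e) :
    ∃ w, InW Q e f w ∧ x = rb Q e w := by
  obtain ⟨v, hv, rfl⟩ := (mem_Qb Q hQ fr he).1 hx
  have hfe : B Q f e = 1 := by rw [B_comm]; exact hef
  refine ⟨v + (-B Q f v) • e, ⟨?_, ?_⟩, ?_⟩
  · rw [B_add_right, hv, B_smul_right, B_self_of_singular Q he]; ring
  · rw [B_add_right, B_smul_right, hfe]; ring
  · exact (rb_congr Q hQ fr (rh_add_smul_self Q _ he hv)).symm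

/-- the parameter in `W` is unique -/
theorem param_unique {w w' : ι → F} (hw : InW Q e f w) (hw' : InW Q e f w')
    (h : rb Q e w = rb Q e w') : w = w' := by
  have h1 := rb_eq_rb Q hQ fr p h
  obtain ⟨c, hc⟩ := rh_inj Q he hef hw.1 hw'.1 h1
  have hfe : B Q f e = 1 := by rw [B_comm]; exact hef
  have h2 := congrArg (fun v => B Q f v) hc
  simp only [B_sub_right, B_smul_right, hw.2, hw'.2, hfe] at h2
  have hc0 : c = 0 := by linear_combination -h2
  rw [hc0, zero_smul] at hc
  exact sub_eq_zero.1 hc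

variable {α : MulAut (Cfsg.POmega F ⇑Q)} (hα : (Qb Q e).map α.toMonoidHom = Qb Q e)

include hα

theorem exists_Amap (w : ι → F) : ∃ w', InW Q e f w' ∧ α (rb Q e w) = rb Q e w' := by
  have h1 : α (rb Q e w) ∈ Qb Q e := by
    rw [← hα]
    refine ⟨rb Q e w, ?_, rfl⟩
    by_cases hw : B Q e w = 0
    · exact (mem_Qb Q hQ fr he).2 ⟨w, hw, rfl⟩
    · have : rb Q e w = 1 := by
        rw [← rb_zero_right Q hQ fr e]
        apply rb_congr Q hQ fr
        rw [rh_of_not Q (fun h => hw h.2), rh_zero_right]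
      rw [this]; exact Subgroup.one_mem _
  exact exists_param hQ fr p he hf hef h1

theorem Amap_spec (w : ι → F) :
    InW Q e f (Amap Q α e f w) ∧ α (rb Q e w) = rb Q e (Amap Q α e f w) := by
  have h := exists_Amap hQ fr p he hf hef hα w
  unfold Amap
  rw [dif_pos h]
  exact Classical.choose_spec h

theorem Amap_unique {w w' : ι → F} (hw' : InW Q e f w') (h : α (rb Q e w) = rb Q e w') :
    Amap Q α e f w = w' := by
  obtain ⟨h1, h2⟩ := Amap_spec hQ fr p he hf hef hα w
  exact param_unique hQ fr p he hf hef h1 hw' (h2.symm.trans h)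

theorem Amap_zero : Amap Q α e f 0 = 0 := by
  apply Amap_unique hQ fr p he hf hef hα (InW.zero e f)
  rw [rb_zero_right Q hQ fr, map_one]

theorem Amap_add {w w' : ι → F} (hw : B Q e w = 0) (hw' : B Q e w' = 0) :
    Amap Q α e f (w + w') = Amap Q α e f w + Amap Q α e f w' := by
  obtain ⟨h1, h2⟩ := Amap_spec hQ fr p he hf hef hα w
  obtain ⟨h1', h2'⟩ := Amap_spec hQ fr p he hf hef hα w'
  apply Amap_unique hQ fr p he hf hef hα (h1.add h1')
  rw [← rb_mul Q hQ fr he hw hw', map_mul, h2, h2', rb_mul Q hQ fr he h1.1 h1'.1]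

theorem Amap_neg {w : ι → F} (hw : B Q e w = 0) :
    Amap Q α e f (-w) = - Amap Q α e f w := by
  have h := Amap_add hQ fr p he hf hef hα hw (by rw [B_neg_right, hw, neg_zero] : B Q e (-w) = 0)
  rw [add_neg_cancel, Amap_zero hQ fr p he hf hef hα] at h
  exact (neg_eq_of_add_eq_zero_right h.symm).symm

theorem Amap_sub {w w' : ι → F} (hw : B Q e w = 0) (hw' : B Q e w' = 0) :
    Amap Q α e f (w - w') = Amap Q α e f w - Amap Q α e f w' := by
  rw [sub_eq_add_neg, Amap_add hQ fr p he hf hef hα hw (by rw [B_neg_right, hw', neg_zero]),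
    Amap_neg hQ fr p he hf hef hα hw', sub_eq_add_neg]

/-- `Amap` is injective on `W` -/
theorem Amap_eq_zero {w : ι → F} (hw : InW Q e f w) (h : Amap Q α e f w = 0) : w = 0 := by
  obtain ⟨-, h2⟩ := Amap_spec hQ fr p he hf hef hα w
  rw [h, rb_zero_right Q hQ fr] at h2
  have h3 : rb Q e w = 1 := by
    apply α.injective
    rw [h2, map_one]
  rw [← rb_zero_right Q hQ fr e] at h3
  exact param_unique hQ fr p he hf hef hw (InW.zero e f) h3

end nd

end Cfsg.Agent.Helper7.AutO
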