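import Mathlib
import Cfsg.Agent.Helper7.AutO18

/-!
# Automorphisms of `PΩ(Q)`, part 19 (helper7)

The map `Amap α e f` preserves singular vectors (in both directions) and maps the points of `W`
on the singular cone to points.
-/

set_option autoImplicit false
set_option linter.unusedSectionVars false
set_option linter.unusedVariables false

namespace Cfsg.Agent.Helper7.AutO

open Matrix Module Cfsg.Agent.Helper28.Sg Cfsg.Agent.Helper28.Spin Cfsg.Agent.Helper28.PG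

variable {F : Type*} [Field F] {ι : Type} [Fintype ι] [DecidableEq ι]
  {Q : QuadraticForm F (ι → F)}

theorem indep_of_InW {e f w : ι → F} (hef : B Q e f = 1) (hw : InW Q e f w) (hw0 : w ≠ 0) :
    Indep e w := by
  intro x y hxy
  have h1 := congrArg (fun v => B Q f v) hxy
  simp only [B_add_right, B_smul_right, B_zero_right, hw.2] at h1
  rw [B_comm Q f e, hef] at h1
  have hx : x = 0 := by linear_combination h1
  rw [hx, zero_smul, zero_add] at hxy
  rcases smul_eq_zero.1 hxy with h | h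
  · exact ⟨hx, h⟩
  · exact absurd h hw0

section nd

variable (hQ : (QuadraticMap.polarBilin Q).Nondegenerate) (fr : Frame3 Q)
variable (p : ℕ) [Fact p.Prime] [CharP F p] [Fintype F]
variable {e f : ι → F} (he : Q e = 0) (hf : Q f = 0) (hef : B Q e f = 1)

include hQ fr p he hf hef

theorem rootElt_rb_iff {w : ι → F} (hw : InW Q e f w) (hw0 : w ≠ 0) :
    RootElt Q (rb Q e w) ↔ Q w = 0 := by
  have hind := indep_of_InW hef hw hw0
  constructor
  · rintro ⟨a, b, hl, h⟩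
    have h1 := rb_eq_rb Q hQ fr p h
    exact singular_of_rh_eq_line hQ fr he hw.1 hind hl h1
  · intro hQw
    exact ⟨e, w, ⟨he, hQw, hw.1, hind⟩, rfl⟩

variable {α : MulAut (Cfsg.POmega F ⇑Q)} (hα : (Qb Q e).map α.toMonoidHom = Qb Q e)

include hα

theorem hα_inv : (Qb Q e).map (α⁻¹).toMonoidHom = Qb Q e := by
  have := map_map_inv (Qb Q e) α
  rwa [hα] at this

theorem Amap_inv_Amap {w : ι → F} (hw : InW Q e f w) :
    Amap Q α⁻¹ e f (Amap Q α e f w) = w := by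
  obtain ⟨h1, h2⟩ := Amap_spec hQ fr p he hf hef hα w
  apply Amap_unique hQ fr p he hf hef (hα_inv hQ fr p he hf hef hα) hw
  rw [← h2, MulAut.inv_apply_self]

theorem Amap_sing {w : ι → F} (hw : InW Q e f w) : Q (Amap Q α e f w) = 0 ↔ Q w = 0 := by
  by_cases hw0 : w = 0
  · rw [hw0, Amap_zero hQ fr p he hf hef hα]
  obtain ⟨h1, h2⟩ := Amap_spec hQ fr p he hf hef hα w
  have hA0 : Amap Q α e f w ≠ 0 := fun h => hw0 (Amap_eq_zero hQ fr p he hf hef hα hw h)
  rw [← rootElt_rb_iff hQ fr p he hf hef h1 hA0, ← rootElt_rb_iff hQ fr p he hf hef hw hw0, ← h2,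
    rootElt_map_iff hQ fr p]

/-- the image of a root group in `Qb e` -/
theorem map_Xb_eq {w : ι → F} (hw : InW Q e f w) (hw0 : w ≠ 0) (hQw : Q w = 0) :
    (Xb Q e w).map α.toMonoidHom = Xb Q e (Amap Q α e f w) := by
  obtain ⟨h1, h2⟩ := Amap_spec hQ fr p he hf hef hα w
  have hA0 : Amap Q α e f w ≠ 0 := fun h => hw0 (Amap_eq_zero hQ fr p he hf hef hα hw h)
  have hl : IsLine Q e w := ⟨he, hQw, hw.1, indep_of_InW hef hw hw0⟩
  have hl' : IsLine Q e (Amap Q α e f w) :=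
    ⟨he, (Amap_sing hQ fr p he hf hef hα hw).2 hQw, h1.1, indep_of_InW hef h1 hA0⟩
  obtain ⟨a', b', hl'', h3⟩ := map_aut_Xb hQ fr p α hl
  rw [h3]
  have hx : rb Q e (Amap Q α e f w) ∈ Xb Q a' b' := by
    rw [← h3, ← h2]
    exact ⟨_, rb_mem_Xb' hQ fr hl, rfl⟩
  exact (Xb_eq_of_common hQ fr p hl'' hl' hx (rb_mem_Xb' hQ fr hl')
    (rb_line_ne_one hQ fr p hl')).symm

theorem Amap_smul_exists {w : ι → F} (hw : InW Q e f w) (hQw : Q w = 0) (t : F) :
    ∃ s : F, Amap Q α e f (t • w) = s • Amap Q α e f w := by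
  by_cases hw0 : w = 0
  · exact ⟨0, by rw [hw0, smul_zero, Amap_zero hQ fr p he hf hef hα, smul_zero]⟩
  obtain ⟨h1, h2⟩ := Amap_spec hQ fr p he hf hef hα w
  have hl : IsLine Q e w := ⟨he, hQw, hw.1, indep_of_InW hef hw hw0⟩
  have h3 : α (rb Q e (t • w)) ∈ Xb Q e (Amap Q α e f w) := by
    rw [← map_Xb_eq hQ fr p he hf hef hα hw hw0 hQw]
    exact ⟨_, rb_mem_Xb hQ fr hl t, rfl⟩
  obtain ⟨s, hs⟩ := (mem_Xb Q hQ fr he h1.1).1 h3
  exact ⟨s, Amap_unique hQ fr p he hf hef hα (h1.smul s) hs⟩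

theorem Amap_smul_exists' {w : ι → F} (hw : InW Q e f w) (hQw : Q w = 0) (s : F) :
    ∃ t : F, Amap Q α e f (t • w) = s • Amap Q α e f w := by
  by_cases hw0 : w = 0
  · exact ⟨0, by rw [hw0, smul_zero, Amap_zero hQ fr p he hf hef hα, smul_zero]⟩
  obtain ⟨h1, h2⟩ := Amap_spec hQ fr p he hf hef hα w
  have hl : IsLine Q e w := ⟨he, hQw, hw.1, indep_of_InW hef hw hw0⟩
  have h3 : rb Q e (s • Amap Q α e f w) ∈ (Xb Q e w).map α.toMonoidHom := by
    rw [map_Xb_eq hQ fr p he hf hef hα hw hw0 hQw]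
    exact (mem_Xb Q hQ fr he h1.1).2 ⟨s, rfl⟩
  obtain ⟨y, hy, hy'⟩ := h3
  obtain ⟨t, rfl⟩ := (mem_Xb Q hQ fr he hw.1).1 hy
  exact ⟨t, Amap_unique hQ fr p he hf hef hα (h1.smul s) hy'⟩

/-- independent singular vectors of `W` have independent images -/
theorem Amap_indep {w w' : ι → F} (hw : InW Q e f w) (hw' : InW Q e f w') (hQw : Q w = 0)
    (hQw' : Q w' = 0) (hind : Indep w w') : Indep (Amap Q α e f w) (Amap Q α e f w') := by
  intro x y hxy
  obtain ⟨t, ht⟩ := Amap_smul_exists' hQ fr p he hf hef hα hw hQw x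
  obtain ⟨t', ht'⟩ := Amap_smul_exists' hQ fr p he hf hef hα hw' hQw' y
  rw [← ht, ← ht', ← Amap_add hQ fr p he hf hef hα (hw.smul t).1 (hw'.smul t').1] at hxy
  have h0 := Amap_eq_zero hQ fr p he hf hef hα ((hw.smul t).add (hw'.smul t')) hxy
  obtain ⟨e1, e2⟩ := hind t t' h0
  rw [e1, zero_smul, Amap_zero hQ fr p he hf hef hα] at ht
  rw [e2, zero_smul, Amap_zero hQ fr p he hf hef hα] at ht'
  have hw0 : w ≠ 0 := hind.ne_zero_left
  have hw0' : w' ≠ 0 := hind.symm.ne_zero_left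
  have hA0 : Amap Q α e f w ≠ 0 := fun h => hw0 (Amap_eq_zero hQ fr p he hf hef hα hw h)
  have hA0' : Amap Q α e f w' ≠ 0 := fun h => hw0' (Amap_eq_zero hQ fr p he hf hef hα hw' h)
  exact ⟨(smul_eq_zero.1 ht.symm).resolve_right hA0, (smul_eq_zero.1 ht'.symm).resolve_right hA0'⟩

end nd

end Cfsg.Agent.Helper7.AutO
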