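import Mathlib
import Cfsg.Agent.Helper7.AutO19

/-!
# Automorphisms of `PΩ(Q)`, part 20 (helper7)

Semilinearity: for an automorphism `α` fixing `Qb e₀`, the map `A = Amap α e₀ f₀` satisfies
`A (t • w) = phi t • A w` for all `w ∈ W`, where `phi` is read off on the vector `e₁`.
-/

set_option autoImplicit false
set_option linter.unusedSectionVars false
set_option linter.unusedVariables false

namespace Cfsg.Agent.Helper7.AutO

open Matrix Module Cfsg.Agent.Helper28.Sg Cfsg.Agent.Helper28.Spin Cfsg.Agent.Helper28.PG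

variable {F : Type*} [Field F] {ι : Type} [Fintype ι] [DecidableEq ι]
  {Q : QuadraticForm F (ι → F)}

/-- the map `A` attached to `α` and the standard pair `(e₀, f₀)` -/
noncomputable abbrev A0 (fr : Frame3 Q) (α : MulAut (Cfsg.POmega F ⇑Q)) (w : ι → F) : ι → F :=
  Amap Q α (fr.e 0) (fr.f 0) w

/-- the field map attached to `α` -/
noncomputable def phi (fr : Frame3 Q) (α : MulAut (Cfsg.POmega F ⇑Q)) (t : F) : F := by
  classical
  exact if h : ∃ s : F, A0 fr α (t • fr.e 1) = s • A0 fr α (fr.e 1) then Classical.choose h else 0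

/-- membership in `W = ⟨e₀, f₀⟩^⊥` -/
abbrev W0 (fr : Frame3 Q) (w : ι → F) : Prop := InW Q (fr.e 0) (fr.f 0) w

theorem W0_e (fr : Frame3 Q) {i : Fin 3} (hi : i ≠ 0) : W0 fr (fr.e i) :=
  ⟨Bee' fr 0 i, by rw [Bfe', if_neg hi.symm]⟩

theorem W0_f (fr : Frame3 Q) {i : Fin 3} (hi : i ≠ 0) : W0 fr (fr.f i) :=
  ⟨by rw [Bef', if_neg hi.symm], Bff' fr 0 i⟩

section nd

variable (hQ : (QuadraticMap.polarBilin Q).Nondegenerate) (fr : Frame3 Q)
variable (p : ℕ) [Fact p.Prime] [CharP F p] [Fintype F]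
variable {α : MulAut (Cfsg.POmega F ⇑Q)}
  (hα : (Qb Q (fr.e 0)).map α.toMonoidHom = Qb Q (fr.e 0))

include hQ fr p hα

theorem hef0 : B Q (fr.e 0) (fr.f 0) = 1 := by rw [Bef']; simp

/-- perpendicular independent singular vectors have the same scalar map -/
theorem scal_eq {w w' : ι → F} (hw : W0 fr w) (hw' : W0 fr w') (hQw : Q w = 0) (hQw' : Q w' = 0)
    (hperp : B Q w w' = 0) (hind : Indep w w') {t s s' : F}
    (hs : A0 fr α (t • w) = s • A0 fr α w) (hs' : A0 fr α (t • w') = s' • A0 fr α w') :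
    s = s' := by
  have hef := hef0 hQ fr p hα
  have hQ2 : Q (w + w') = 0 := by rw [Q_add, hQw, hQw', hperp]; ring
  obtain ⟨s'', hs''⟩ := Amap_smul_exists hQ fr p (fr.Qe 0) (fr.Qf 0) hef hα (hw.add hw') hQ2 t
  rw [smul_add, Amap_add hQ fr p (fr.Qe 0) (fr.Qf 0) hef hα (hw.smul t).1 (hw'.smul t).1,
    Amap_add hQ fr p (fr.Qe 0) (fr.Qf 0) hef hα hw.1 hw'.1, smul_add] at hs''
  have hi := Amap_indep hQ fr p (fr.Qe 0) (fr.Qf 0) hef hα hw hw' hQw hQw' hind
  have h0 : (s - s'') • A0 fr α w + (s' - s'') • A0 fr α w' = 0 := by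
    have : (s - s'') • A0 fr α w + (s' - s'') • A0 fr α w' =
        (s • A0 fr α w + s' • A0 fr α w') - (s'' • A0 fr α w + s'' • A0 fr α w') := by module
    rw [this, ← hs, ← hs', hs'', sub_self]
  obtain ⟨e1, e2⟩ := hi _ _ h0
  rw [sub_eq_zero.1 e1, sub_eq_zero.1 e2]

theorem phi_spec (t : F) : A0 fr α (t • fr.e 1) = phi fr α t • A0 fr α (fr.e 1) := by
  have h := Amap_smul_exists hQ fr p (fr.Qe 0) (fr.Qf 0) (hef0 hQ fr p hα) hα
    (W0_e fr (by decide : (1 : Fin 3) ≠ 0)) (fr.Qe 1) t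
  unfold phi
  rw [dif_pos h]
  exact Classical.choose_spec h

/-- `w` transforms according to `phi` -/
def Good (fr : Frame3 Q) (α : MulAut (Cfsg.POmega F ⇑Q)) (w : ι → F) : Prop :=
  ∀ t : F, A0 fr α (t • w) = phi fr α t • A0 fr α w

theorem good_of_perp {w w₁ : ι → F} (hw : W0 fr w) (hw₁ : W0 fr w₁) (hQw : Q w = 0)
    (hQw₁ : Q w₁ = 0) (hperp : B Q w w₁ = 0) (hind : Indep w w₁) (hg : Good fr α w₁) :
    Good fr α w := by
  intro t
  obtain ⟨s, hs⟩ := Amap_smul_exists hQ fr p (fr.Qe 0) (fr.Qf 0) (hef0 hQ fr p hα) hα hw hQw t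
  have hs' : A0 fr α (t • w) = s • A0 fr α w := hs
  rw [hs', scal_eq hQ fr p hα hw hw₁ hQw hQw₁ hperp hind hs (hg t)]

theorem good_e1 : Good fr α (fr.e 1) := fun t => phi_spec hQ fr p hα t

theorem good_e2 : Good fr α (fr.e 2) := by
  apply good_of_perp hQ fr p hα (W0_e fr (by decide)) (W0_e fr (by decide)) (fr.Qe 2) (fr.Qe 1)
    (Bee' fr 2 1) (isLine_frame fr (by decide)).2.2.2 (good_e1 hQ fr p hα)

/-- every singular vector of `W` transforms according to `phi` -/
theorem good_sing {w : ι → F} (hw : W0 fr w) (hQw : Q w = 0) : Good fr α w := by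
  by_cases hw0 : w = 0
  · intro t
    have hz : A0 fr α 0 = 0 := Amap_zero hQ fr p (fr.Qe 0) (fr.Qf 0) (hef0 hQ fr p hα) hα
    rw [hw0, smul_zero, hz, smul_zero]
  by_cases h1 : B Q w (fr.e 1) = 0
  · by_cases hind : Indep w (fr.e 1)
    · exact good_of_perp hQ fr p hα hw (W0_e fr (by decide)) hQw (fr.Qe 1) h1 hind
        (good_e1 hQ fr p hα)
    · -- `w` is proportional to `e₁`
      have hprop : ∃ c : F, w = c • fr.e 1 := by
        by_contra hcon
        exact hind (indep_of_not_smul (fr.e_ne_zero 1) hcon).symm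
      obtain ⟨c, hc⟩ := hprop
      have hc0 : c ≠ 0 := by
        intro h; apply hw0; rw [hc, h, zero_smul]
      apply good_of_perp hQ fr p hα hw (W0_e fr (by decide)) hQw (fr.Qe 2) _ _
        (good_e2 hQ fr p hα)
      · rw [hc, B_smul_left, Bee', mul_zero]
      · rw [hc]
        intro x y hxy
        rw [smul_smul] at hxy
        have := (isLine_frame fr (by decide : (1 : Fin 3) ≠ 2)).2.2.2 _ _ hxy
        exact ⟨(mul_eq_zero.1 this.1).resolve_right hc0, this.2⟩
  · -- `u = e₂ - (B(e₂,w)/B(e₁,w)) e₁`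
    set c := B Q (fr.e 2) w * (B Q (fr.e 1) w)⁻¹ with hc
    have h1' : B Q (fr.e 1) w ≠ 0 := by rw [B_comm]; exact h1
    set u := fr.e 2 - c • fr.e 1 with hu
    have hWu : W0 fr u := (W0_e fr (by decide)).sub ((W0_e fr (by decide)).smul c)
    have hQu : Q u = 0 := by
      rw [hu, sub_eq_add_neg, ← neg_smul, Q_add, Q_smul, fr.Qe, fr.Qe, B_smul_right, Bee']
      ring
    have hue1 : B Q u (fr.e 1) = 0 := by
      rw [hu, B_sub_left, B_smul_left, Bee', Bee']; ring
    have hinde : Indep u (fr.e 1) := by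
      intro x y hxy
      have e1 := congrArg (fun v => B Q v (fr.f 2)) hxy
      have e2 := congrArg (fun v => B Q v (fr.f 1)) hxy
      rw [hu] at e1 e2
      simp only [B_add_left, B_smul_left, B_sub_left, B_zero_left, Bef'] at e1 e2
      simp at e1 e2
      rw [e1] at e2
      simp at e2
      exact ⟨e1, e2⟩
    have hgu : Good fr α u :=
      good_of_perp hQ fr p hα hWu (W0_e fr (by decide)) hQu (fr.Qe 1) hue1 hinde
        (good_e1 hQ fr p hα)
    have hwu : B Q w u = 0 := by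
      rw [hu, B_sub_right, B_smul_right, hc, B_comm Q w (fr.e 2), B_comm Q w (fr.e 1)]
      field_simp
      ring
    have hindw : Indep w u := by
      intro x y hxy
      have e1 := congrArg (fun v => B Q v (fr.e 1)) hxy
      simp only [B_add_left, B_smul_left, B_zero_left, hue1] at e1
      have hx : x = 0 := by
        rcases mul_eq_zero.1 (by linear_combination e1 : x * B Q w (fr.e 1) = 0) with h | h
        · exact h
        · exact absurd h h1
      rw [hx, zero_smul, zero_add] at hxy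
      have hu0 : u ≠ 0 := hinde.ne_zero_left
      exact ⟨hx, (smul_eq_zero.1 hxy).resolve_right hu0⟩
    exact good_of_perp hQ fr p hα hw hWu hQw hQu hwu hindw hgu

end nd

end Cfsg.Agent.Helper7.AutO
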