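import Mathlib
import Cfsg.Agent.Helper7.AutO20

/-!
# Automorphisms of `PΩ(Q)`, part 21 (helper7)

The map `A = Amap α e₀ f₀` is `phi`-semilinear on all of `W`, and `phi` is a field automorphism
`tau`.
-/

set_option autoImplicit false
set_option linter.unusedSectionVars false
set_option linter.unusedVariables false

namespace Cfsg.Agent.Helper7.AutO

open Matrix Module Cfsg.Agent.Helper28.Sg Cfsg.Agent.Helper28.Spin Cfsg.Agent.Helper28.PG

variable {F : Type*} [Field F] {ι : Type} [Fintype ι] [DecidableEq ι]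
  {Q : QuadraticForm F (ι → F)}

/-- splitting off a singular vector along a hyperbolic pair -/
theorem exists_sum3 {u u' : ι → F} (hu : Q u = 0) (hu' : Q u' = 0) (huu' : B Q u u' = 1)
    (v : ι → F) :
    ∃ (z : ι → F) (a b c d : F), Q z = 0 ∧ v = z + a • u + b • u' ∧ z = v + c • u + d • u' := by
  set s := B Q v u' with hs
  set t := B Q v u with ht
  set v' := v - s • u - t • u' with hv'
  have hu'u : B Q u' u = 1 := by rw [B_comm]; exact huu'
  have e2 : B Q v' u = 0 := by
    rw [hv']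
    simp only [B_sub_left, B_smul_left, B_self_of_singular Q hu, hu'u]
    rw [← ht]; ring
  have f2 : B Q v' u' = 0 := by
    rw [hv']
    simp only [B_sub_left, B_smul_left, B_self_of_singular Q hu', huu']
    rw [← hs]; ring
  refine ⟨v' + u - Q v' • u', s - 1, t + Q v', 1 - s, -t - Q v', ?_, ?_, ?_⟩
  · rw [sub_eq_add_neg, ← neg_smul, Q_add, Q_add, Q_smul, hu, hu']
    simp only [B_add_left, B_smul_right, e2, f2, huu']
    ring
  · rw [hv']; module
  · rw [hv']; module

section nd

variable (hQ : (QuadraticMap.polarBilin Q).Nondegenerate) (fr : Frame3 Q)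
variable (p : ℕ) [Fact p.Prime] [CharP F p] [Fintype F]
variable {α : MulAut (Cfsg.POmega F ⇑Q)}
  (hα : (Qb Q (fr.e 0)).map α.toMonoidHom = Qb Q (fr.e 0))

include hQ fr p hα

theorem A0_add {w w' : ι → F} (hw : W0 fr w) (hw' : W0 fr w') :
    A0 fr α (w + w') = A0 fr α w + A0 fr α w' :=
  Amap_add hQ fr p (fr.Qe 0) (fr.Qf 0) (hef0 hQ fr p hα) hα hw.1 hw'.1

theorem A0_mem (w : ι → F) : W0 fr (A0 fr α w) :=
  (Amap_spec hQ fr p (fr.Qe 0) (fr.Qf 0) (hef0 hQ fr p hα) hα w).1

theorem A0_zero : A0 fr α 0 = 0 :=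
  Amap_zero hQ fr p (fr.Qe 0) (fr.Qf 0) (hef0 hQ fr p hα) hα

theorem A0_eq_zero {w : ι → F} (hw : W0 fr w) (h : A0 fr α w = 0) : w = 0 :=
  Amap_eq_zero hQ fr p (fr.Qe 0) (fr.Qf 0) (hef0 hQ fr p hα) hα hw h

theorem A0_sing {w : ι → F} (hw : W0 fr w) : Q (A0 fr α w) = 0 ↔ Q w = 0 :=
  Amap_sing hQ fr p (fr.Qe 0) (fr.Qf 0) (hef0 hQ fr p hα) hα hw

/-- `A` is `phi`-semilinear on `W` -/
theorem good_all {w : ι → F} (hw : W0 fr w) : Good fr α w := by
  have he1 : W0 fr (fr.e 1) := W0_e fr (by decide)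
  have hf1 : W0 fr (fr.f 1) := W0_f fr (by decide)
  obtain ⟨z, a, b, c, d, hQz, hsum, hz⟩ := exists_sum3 (fr.Qe 1) (fr.Qf 1)
    (by rw [Bef']; simp) w
  have hWz : W0 fr z := by rw [hz]; exact (hw.add (he1.smul c)).add (hf1.smul d)
  have g1 := good_sing hQ fr p hα hWz hQz
  have g2 := good_sing hQ fr p hα (he1.smul a) (by rw [Q_smul, fr.Qe, mul_zero])
  have g3 := good_sing hQ fr p hα (hf1.smul b) (by rw [Q_smul, fr.Qf, mul_zero])
  intro t
  rw [hsum, smul_add, smul_add,
    A0_add hQ fr p hα ((hWz.smul t).add ((he1.smul a).smul t)) ((hf1.smul b).smul t),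
    A0_add hQ fr p hα (hWz.smul t) ((he1.smul a).smul t),
    A0_add hQ fr p hα (hWz.add (he1.smul a)) (hf1.smul b),
    A0_add hQ fr p hα hWz (he1.smul a), g1 t, g2 t, g3 t, smul_add, smul_add]

theorem A0_e1_ne : A0 fr α (fr.e 1) ≠ 0 := fun h =>
  fr.e_ne_zero 1 (A0_eq_zero hQ fr p hα (W0_e fr (by decide)) h)

theorem phi_add (t t' : F) : phi fr α (t + t') = phi fr α t + phi fr α t' := by
  have he1 : W0 fr (fr.e 1) := W0_e fr (by decide)
  have h1 := phi_spec hQ fr p hα (t + t')
  rw [add_smul, A0_add hQ fr p hα (he1.smul t) (he1.smul t'), phi_spec hQ fr p hα t,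
    phi_spec hQ fr p hα t', ← add_smul] at h1
  have h2 : (phi fr α t + phi fr α t' - phi fr α (t + t')) • A0 fr α (fr.e 1) = 0 := by
    rw [sub_smul, h1, sub_self]
  have := (smul_eq_zero.1 h2).resolve_right (A0_e1_ne hQ fr p hα)
  exact (sub_eq_zero.1 this).symm

theorem phi_mul (t t' : F) : phi fr α (t * t') = phi fr α t * phi fr α t' := by
  have he1 : W0 fr (fr.e 1) := W0_e fr (by decide)
  have h1 := phi_spec hQ fr p hα (t * t')
  rw [mul_smul, good_all hQ fr p hα (he1.smul t') t, phi_spec hQ fr p hα t', smul_smul] at h1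
  have h2 : (phi fr α t * phi fr α t' - phi fr α (t * t')) • A0 fr α (fr.e 1) = 0 := by
    rw [sub_smul, h1, sub_self]
  have := (smul_eq_zero.1 h2).resolve_right (A0_e1_ne hQ fr p hα)
  exact (sub_eq_zero.1 this).symm

theorem phi_one : phi fr α 1 = 1 := by
  have h1 := phi_spec hQ fr p hα 1
  rw [one_smul] at h1
  have h2 : (1 - phi fr α 1) • A0 fr α (fr.e 1) = 0 := by
    rw [sub_smul, one_smul, ← h1, sub_self]
  have := (smul_eq_zero.1 h2).resolve_right (A0_e1_ne hQ fr p hα)
  exact (sub_eq_zero.1 this).symm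

theorem phi_zero : phi fr α 0 = 0 := by
  have := phi_add hQ fr p hα 0 0
  rw [add_zero] at this
  exact left_eq_add.1 this

/-- the field automorphism attached to `α` -/
noncomputable def tau : F ≃+* F :=
  RingEquiv.ofBijective
    ({ toFun := phi fr α
       map_one' := phi_one hQ fr p hα
       map_mul' := phi_mul hQ fr p hα
       map_zero' := phi_zero hQ fr p hα
       map_add' := phi_add hQ fr p hα } : F →+* F)
    (by
      have hinj : Function.Injective
          ({ toFun := phi fr α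
             map_one' := phi_one hQ fr p hα
             map_mul' := phi_mul hQ fr p hα
             map_zero' := phi_zero hQ fr p hα
             map_add' := phi_add hQ fr p hα } : F →+* F) := RingHom.injective _
      exact ⟨hinj, Finite.injective_iff_surjective.1 hinj⟩)

theorem tau_apply (t : F) : tau hQ fr p hα t = phi fr α t := rfl

theorem A0_smul {w : ι → F} (hw : W0 fr w) (t : F) :
    A0 fr α (t • w) = tau hQ fr p hα t • A0 fr α w := good_all hQ fr p hα hw t

end nd

end Cfsg.Agent.Helper7.AutO
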