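import Mathlib
import Cfsg.Agent.Helper7.AutO21

/-!
# Automorphisms of `PΩ(Q)`, part 22 (helper7)

The multiplier: `Q (A w) = c * tau (Q w)` for `w ∈ W`, where `c = B (A e₁) (A f₁) ≠ 0`.
-/

set_option autoImplicit false
set_option linter.unusedSectionVars false
set_option linter.unusedVariables false

namespace Cfsg.Agent.Helper7.AutO

open Matrix Module Cfsg.Agent.Helper28.Sg Cfsg.Agent.Helper28.Spin Cfsg.Agent.Helper28.PG

variable {F : Type*} [Field F] {ι : Type} [Fintype ι] [DecidableEq ι]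
  {Q : QuadraticForm F (ι → F)}

/-- the multiplier attached to `α` -/
noncomputable def mult (fr : Frame3 Q) (α : MulAut (Cfsg.POmega F ⇑Q)) : F :=
  B Q (A0 fr α (fr.e 1)) (A0 fr α (fr.f 1))

section nd

variable (hQ : (QuadraticMap.polarBilin Q).Nondegenerate) (fr : Frame3 Q)
variable (p : ℕ) [Fact p.Prime] [CharP F p] [Fintype F]
variable {α : MulAut (Cfsg.POmega F ⇑Q)}
  (hα : (Qb Q (fr.e 0)).map α.toMonoidHom = Qb Q (fr.e 0))

include hQ fr p hα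

/-- perpendicular singular vectors have perpendicular images -/
theorem A_perp_sing {w w' : ι → F} (hw : W0 fr w) (hw' : W0 fr w') (hQw : Q w = 0)
    (hQw' : Q w' = 0) (hperp : B Q w w' = 0) : B Q (A0 fr α w) (A0 fr α w') = 0 := by
  have h1 : Q (w + w') = 0 := by rw [Q_add, hQw, hQw', hperp]; ring
  have h2 := (A0_sing hQ fr p hα (hw.add hw')).2 h1
  rw [A0_add hQ fr p hα hw hw', Q_add, (A0_sing hQ fr p hα hw).2 hQw,
    (A0_sing hQ fr p hα hw').2 hQw'] at h2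
  linear_combination h2

/-- the image of `⟨e₁, f₁⟩^⊥ ∩ W` is perpendicular to `A e₁` and `A f₁` -/
theorem A_perp_e1 {w₀ : ι → F} (hw : W0 fr w₀) (h1 : B Q (fr.e 1) w₀ = 0)
    (h1' : B Q (fr.f 1) w₀ = 0) :
    B Q (A0 fr α w₀) (A0 fr α (fr.e 1)) = 0 ∧ B Q (A0 fr α w₀) (A0 fr α (fr.f 1)) = 0 := by
  have he1 : W0 fr (fr.e 1) := W0_e fr (by decide)
  have hf1 : W0 fr (fr.f 1) := W0_f fr (by decide)
  obtain ⟨z₁, z₂, z₃, hsum, hz⟩ := sum_of_sing fr hw.1 hw.2 h1 h1'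
  have hz1 := hz z₁ (by simp)
  have hz2 := hz z₂ (by simp)
  have hz3 := hz z₃ (by simp)
  have W1 : W0 fr z₁ := ⟨hz1.2.1, hz1.2.2.1⟩
  have W2 : W0 fr z₂ := ⟨hz2.2.1, hz2.2.2.1⟩
  have W3 : W0 fr z₃ := ⟨hz3.2.1, hz3.2.2.1⟩
  have key : ∀ v, W0 fr v → Q v = 0 → (∀ z ∈ ({z₁, z₂, z₃} : Set (ι → F)), B Q z v = 0) →
      B Q (A0 fr α w₀) (A0 fr α v) = 0 := by
    intro v hv hQv hzv
    rw [hsum, A0_add hQ fr p hα (W1.add W2) W3, A0_add hQ fr p hα W1 W2, B_add_left, B_add_left,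
      A_perp_sing hQ fr p hα W1 hv hz1.1 hQv (hzv z₁ (by simp)),
      A_perp_sing hQ fr p hα W2 hv hz2.1 hQv (hzv z₂ (by simp)),
      A_perp_sing hQ fr p hα W3 hv hz3.1 hQv (hzv z₃ (by simp))]
    ring
  constructor
  · apply key _ he1 (fr.Qe 1)
    intro z hzm
    rw [B_comm]; exact (hz z hzm).2.2.2.1
  · apply key _ hf1 (fr.Qf 1)
    intro z hzm
    rw [B_comm]; exact (hz z hzm).2.2.2.2

theorem Q_A_W1 {w₀ : ι → F} (hw : W0 fr w₀) (h1 : B Q (fr.e 1) w₀ = 0)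
    (h1' : B Q (fr.f 1) w₀ = 0) :
    Q (A0 fr α w₀) = mult fr α * tau hQ fr p hα (Q w₀) := by
  have he1 : W0 fr (fr.e 1) := W0_e fr (by decide)
  have hf1 : W0 fr (fr.f 1) := W0_f fr (by decide)
  obtain ⟨p1, p2⟩ := A_perp_e1 hQ fr p hα hw h1 h1'
  have hz : Q (w₀ + fr.e 1 + (-Q w₀) • fr.f 1) = 0 := by
    rw [Q_add, Q_add, Q_smul, fr.Qe, fr.Qf]
    simp only [B_add_left, B_smul_right, B_comm Q w₀ (fr.e 1), h1, B_comm Q w₀ (fr.f 1), h1',
      Bef']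
    simp
  have h2 := (A0_sing hQ fr p hα ((hw.add he1).add (hf1.smul _))).2 hz
  rw [A0_add hQ fr p hα (hw.add he1) (hf1.smul _), A0_add hQ fr p hα hw he1,
    A0_smul hQ fr p hα hf1, Q_add, Q_add, Q_smul, (A0_sing hQ fr p hα he1).2 (fr.Qe 1),
    (A0_sing hQ fr p hα hf1).2 (fr.Qf 1)] at h2
  simp only [B_add_left, B_smul_right, p1, p2] at h2
  rw [map_neg] at h2
  unfold mult
  linear_combination h2

theorem Q_A {w : ι → F} (hw : W0 fr w) :
    Q (A0 fr α w) = mult fr α * tau hQ fr p hα (Q w) := by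
  have he1 : W0 fr (fr.e 1) := W0_e fr (by decide)
  have hf1 : W0 fr (fr.f 1) := W0_f fr (by decide)
  set s := B Q w (fr.f 1) with hs
  set t := B Q w (fr.e 1) with ht
  set w₀ := w - s • fr.e 1 - t • fr.f 1 with hw₀
  have hW₀ : W0 fr w₀ := (hw.sub (he1.smul s)).sub (hf1.smul t)
  have g1 : B Q (fr.e 1) w₀ = 0 := by
    rw [hw₀]; simp only [B_sub_right, B_smul_right, Bee', Bef', B_comm Q (fr.e 1) w]
    rw [← ht]; simp
  have g1' : B Q (fr.f 1) w₀ = 0 := by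
    rw [hw₀]; simp only [B_sub_right, B_smul_right, Bfe', Bff', B_comm Q (fr.f 1) w]
    rw [← hs]; simp
  have hwdec : w = w₀ + s • fr.e 1 + t • fr.f 1 := by rw [hw₀]; abel
  obtain ⟨p1, p2⟩ := A_perp_e1 hQ fr p hα hW₀ g1 g1'
  have hQw : Q w = Q w₀ + s * t := by
    have : Q (w₀ + s • fr.e 1 + t • fr.f 1) = Q w₀ + s * t := by
      rw [Q_add, Q_add, Q_smul, Q_smul, fr.Qe, fr.Qf]
      simp only [B_add_left, B_smul_left, B_smul_right, B_comm Q w₀ (fr.e 1), g1,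
        B_comm Q w₀ (fr.f 1), g1', Bef']
      simp
      ring
    rw [← hwdec] at this
    exact this
  have hA : A0 fr α w = A0 fr α w₀ + tau hQ fr p hα s • A0 fr α (fr.e 1)
      + tau hQ fr p hα t • A0 fr α (fr.f 1) := by
    have := congrArg (A0 fr α) hwdec
    rw [A0_add hQ fr p hα (hW₀.add (he1.smul s)) (hf1.smul t),
      A0_add hQ fr p hα hW₀ (he1.smul s), A0_smul hQ fr p hα he1, A0_smul hQ fr p hα hf1] at this
    exact this
  rw [hA, Q_add, Q_add, Q_smul, Q_smul, (A0_sing hQ fr p hα he1).2 (fr.Qe 1),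
    (A0_sing hQ fr p hα hf1).2 (fr.Qf 1), Q_A_W1 hQ fr p hα hW₀ g1 g1', hQw, map_add, map_mul]
  simp only [B_add_left, B_smul_left, B_smul_right, p1, p2]
  unfold mult
  ring

theorem mult_ne_zero : mult fr α ≠ 0 := by
  have he1 : W0 fr (fr.e 1) := W0_e fr (by decide)
  have hf1 : W0 fr (fr.f 1) := W0_f fr (by decide)
  intro h0
  have h1 := Q_A hQ fr p hα (he1.add hf1)
  rw [h0, zero_mul] at h1
  have h2 := (A0_sing hQ fr p hα (he1.add hf1)).1 h1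
  rw [Q_add, fr.Qe, fr.Qf, Bef'] at h2
  simp at h2

theorem B_A {w w' : ι → F} (hw : W0 fr w) (hw' : W0 fr w') :
    B Q (A0 fr α w) (A0 fr α w') = mult fr α * tau hQ fr p hα (B Q w w') := by
  have h1 := Q_A hQ fr p hα (hw.add hw')
  rw [A0_add hQ fr p hα hw hw', Q_add, Q_add, Q_A hQ fr p hα hw, Q_A hQ fr p hα hw', map_add,
    map_add] at h1
  linear_combination h1

end nd

end Cfsg.Agent.Helper7.AutO
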