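import Mathlib
import Cfsg.Agent.Helper7.AutO22
import Cfsg.Agent.Helper28.SemiSim5

/-!
# Automorphisms of `PΩ(Q)`, part 23 (helper7)

Semilinear similitudes given as maps of `ι → F`: the matrix, the semisimilarity pair, and the
action of the induced automorphism of `Ω(Q)` on Siegel elements.
-/

set_option autoImplicit false
set_option linter.unusedSectionVars false
set_option linter.unusedVariables false

namespace Cfsg.Agent.Helper7.AutO

open Matrix Module Cfsg.Agent.Helper28.Sg Cfsg.Agent.Helper28.Spin Cfsg.Agent.Helper28.PG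
  Cfsg.Agent.Helper28.SSim

variable {F : Type*} [Field F] {ι : Type} [Fintype ι] [DecidableEq ι]
  (Q : QuadraticForm F (ι → F))

/-- a semilinear similitude of `Q`, as a map of vectors -/
structure SemiData where
  gf : (ι → F) → (ι → F)
  τ : F ≃+* F
  c : F
  hc : c ≠ 0
  add : ∀ x y, gf (x + y) = gf x + gf y
  smul : ∀ (t : F) x, gf (t • x) = τ t • gf x
  hQ : ∀ x, Q (gf x) = c * τ (Q x)

variable {Q}

namespace SemiData

variable (D : SemiData Q)

theorem hB (x y : ι → F) : B Q (D.gf x) (D.gf y) = D.c * D.τ (B Q x y) := by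
  simp only [B, QuadraticMap.polar]
  rw [← D.add, D.hQ, D.hQ, D.hQ, map_sub, map_sub]
  ring

/-- the linear map `v ↦ gf (τ⁻¹ v)` -/
noncomputable def lin : (ι → F) →ₗ[F] (ι → F) where
  toFun v := D.gf (fun i => D.τ.symm (v i))
  map_add' v v' := by
    have : (fun i => D.τ.symm ((v + v') i))
        = (fun i => D.τ.symm (v i)) + (fun i => D.τ.symm (v' i)) := by
      ext i
      simp
    rw [this, D.add]
  map_smul' t v := by
    have : (fun i => D.τ.symm ((t • v) i)) = D.τ.symm t • (fun i => D.τ.symm (v i)) := by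
      ext i
      simp
    rw [this, D.smul]
    simp

/-- the matrix of the similitude -/
noncomputable def Xm : Matrix ι ι F := LinearMap.toMatrix' D.lin

theorem Xm_mulVec' (v : ι → F) : D.Xm *ᵥ v = D.gf (fun i => D.τ.symm (v i)) := by
  unfold Xm
  rw [LinearMap.toMatrix'_mulVec]
  rfl

theorem Xm_mulVec (v : ι → F) : D.Xm *ᵥ (fun i => D.τ (v i)) = D.gf v := by
  rw [D.Xm_mulVec']
  congr 1
  ext i
  simp

theorem Xm_det_ne (hQ : (QuadraticMap.polarBilin Q).Nondegenerate) : D.Xm.det ≠ 0 := by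
  intro h0
  obtain ⟨v, hv0, hv⟩ := Matrix.exists_mulVec_eq_zero_iff.mpr h0
  rw [D.Xm_mulVec'] at hv
  set v' : ι → F := fun i => D.τ.symm (v i) with hv'
  have hv'0 : v' ≠ 0 := by
    intro h
    apply hv0
    ext i
    have := congrFun h i
    simp only [hv', Pi.zero_apply] at this
    simpa using this
  obtain ⟨y, hy⟩ := exists_pair_one hQ hv'0
  have := D.hB v' y
  rw [hv, B_zero_left, hy, map_one, mul_one] at this
  exact D.hc this.symm

/-- the similitude as an invertible matrix -/
noncomputable def gl (hQ : (QuadraticMap.polarBilin Q).Nondegenerate) : GL ι F :=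
  Matrix.GeneralLinearGroup.mkOfDetNeZero D.Xm (D.Xm_det_ne hQ)

theorem gl_val (hQ : (QuadraticMap.polarBilin Q).Nondegenerate) :
    ((D.gl hQ : GL ι F) : Matrix ι ι F) = D.Xm := rfl

theorem semisim (hQ : (QuadraticMap.polarBilin Q).Nondegenerate) :
    Cfsg.IsSemisimilarityPair (⇑Q) (D.gl hQ) D.τ := by
  refine ⟨Units.mk0 D.c D.hc, fun v => ?_⟩
  rw [D.gl_val hQ, D.Xm_mulVec, D.hQ]
  rfl

/-- the action on Siegel matrices -/
theorem Xm_siegM {u v : ι → F} (hu : Q u = 0) (huv : B Q u v = 0) :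
    D.Xm * (siegM Q u v).map D.τ = siegM Q (D.gf u) (D.c⁻¹ • D.gf v) * D.Xm := by
  apply Cfsg.Agent.Helper28.Spin.matrix_ext_mulVec
  intro x
  have hx : x = (fun i => D.τ ((fun j => D.τ.symm (x j)) i)) := by
    ext i
    simp
  rw [← Matrix.mulVec_mulVec, ← Matrix.mulVec_mulVec]
  conv_lhs => rw [hx]
  rw [map_mulVec'' D.τ (siegM Q u v) (fun j => D.τ.symm (x j)), D.Xm_mulVec, D.Xm_mulVec' x,
    siegM_mulVec, siegM_mulVec]
  set y : ι → F := fun j => D.τ.symm (x j) with hy
  rw [sub_eq_add_neg, sub_eq_add_neg, ← neg_smul, ← neg_smul, D.add, D.add, D.add, D.smul,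
    D.smul, D.smul, B_smul_left, D.hB, D.hB, Q_smul, D.hQ]
  have hc := D.hc
  simp only [map_neg, map_mul]
  match_scalars <;> field_simp <;> ring

end SemiData

end Cfsg.Agent.Helper7.AutO
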