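import Mathlib
import Cfsg.Agent.Helper7.AutO23

/-!
# Automorphisms of `PΩ(Q)`, part 24 (helper7)

The semilinear similitude attached to an automorphism fixing `Qb e₀`, and the action of the
induced automorphism of `Ω(Q)` on the Siegel elements `ρ(e₀, w)` and `ρ(f₀, w)`.
-/

set_option autoImplicit false
set_option linter.unusedSectionVars false
set_option linter.unusedVariables false

namespace Cfsg.Agent.Helper7.AutO

open Matrix Module Cfsg.Agent.Helper28.Sg Cfsg.Agent.Helper28.Spin Cfsg.Agent.Helper28.PG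
  Cfsg.Agent.Helper28.SSim

variable {F : Type*} [Field F] {ι : Type} [Fintype ι] [DecidableEq ι]
  {Q : QuadraticForm F (ι → F)}

/-- the projection to `W = ⟨e₀, f₀⟩^⊥` -/
def pW (fr : Frame3 Q) (x : ι → F) : ι → F :=
  x - B Q x (fr.f 0) • fr.e 0 - B Q x (fr.e 0) • fr.f 0

theorem pW_mem (fr : Frame3 Q) (x : ι → F) : W0 fr (pW fr x) := by
  unfold pW
  constructor
  · simp only [B_sub_right, B_smul_right, Bee', Bef', B_comm Q (fr.e 0) x]; simp
  · simp only [B_sub_right, B_smul_right, Bfe', Bff', B_comm Q (fr.f 0) x]; simp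

theorem pW_add (fr : Frame3 Q) (x y : ι → F) : pW fr (x + y) = pW fr x + pW fr y := by
  unfold pW
  simp only [B_add_left]
  module

theorem pW_smul (fr : Frame3 Q) (t : F) (x : ι → F) : pW fr (t • x) = t • pW fr x := by
  unfold pW
  simp only [B_smul_left]
  module

theorem pW_of_mem (fr : Frame3 Q) {w : ι → F} (hw : W0 fr w) : pW fr w = w := by
  unfold pW
  rw [B_comm Q w (fr.f 0), hw.2, B_comm Q w (fr.e 0), hw.1]
  simp

theorem Q_decomp (fr : Frame3 Q) (x : ι → F) :
    Q x = B Q x (fr.f 0) * B Q x (fr.e 0) + Q (pW fr x) := by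
  have h1 : x = pW fr x + B Q x (fr.f 0) • fr.e 0 + B Q x (fr.e 0) • fr.f 0 := by
    unfold pW; abel
  have hw := pW_mem fr x
  have e1 : B Q (pW fr x) (fr.e 0) = 0 := by rw [B_comm]; exact hw.1
  have e2 : B Q (pW fr x) (fr.f 0) = 0 := by rw [B_comm]; exact hw.2
  have h2 : ∀ (w : ι → F) (s t : F), B Q w (fr.e 0) = 0 → B Q w (fr.f 0) = 0 →
      Q (w + s • fr.e 0 + t • fr.f 0) = s * t + Q w := by
    intro w s t h h'
    rw [Q_add, Q_add, Q_smul, Q_smul, fr.Qe, fr.Qf]
    simp only [B_add_left, B_smul_left, B_smul_right, h, h', Bef']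
    simp
    ring
  have := h2 (pW fr x) (B Q x (fr.f 0)) (B Q x (fr.e 0)) e1 e2
  rw [← h1] at this
  exact this

section nd

variable (hQ : (QuadraticMap.polarBilin Q).Nondegenerate) (fr : Frame3 Q)
variable (p : ℕ) [Fact p.Prime] [CharP F p] [Fintype F]
variable {α : MulAut (Cfsg.POmega F ⇑Q)}
  (hα : (Qb Q (fr.e 0)).map α.toMonoidHom = Qb Q (fr.e 0))

/-- the semilinear map extending `A` -/
noncomputable def gfun (α : MulAut (Cfsg.POmega F ⇑Q)) (t : F ≃+* F) (x : ι → F) : ι → F :=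
  (mult fr α * t (B Q x (fr.f 0))) • fr.e 0 + t (B Q x (fr.e 0)) • fr.f 0 + A0 fr α (pW fr x)

include hQ p hα

/-- the semilinear similitude attached to `α` -/
noncomputable def sdata : SemiData Q where
  gf := gfun fr α (tau hQ fr p hα)
  τ := tau hQ fr p hα
  c := mult fr α
  hc := mult_ne_zero hQ fr p hα
  add x y := by
    unfold gfun
    rw [pW_add, A0_add hQ fr p hα (pW_mem fr x) (pW_mem fr y)]
    simp only [B_add_left, map_add]
    module
  smul t x := by
    unfold gfun
    rw [pW_smul, A0_smul hQ fr p hα (pW_mem fr x)]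
    simp only [B_smul_left, map_mul]
    module
  hQ x := by
    unfold gfun
    have hA := A0_mem hQ fr p hα (pW fr x)
    have e1 : B Q (fr.e 0) (A0 fr α (pW fr x)) = 0 := hA.1
    have e2 : B Q (fr.f 0) (A0 fr α (pW fr x)) = 0 := hA.2
    rw [Q_add, Q_add, Q_smul, Q_smul, fr.Qe, fr.Qf, Q_A hQ fr p hα (pW_mem fr x)]
    simp only [B_add_left, B_smul_left, B_smul_right, e1, e2, Bef']
    rw [Q_decomp fr x, map_add, map_mul]
    simp
    ring

theorem sdata_gf (x : ι → F) :
    (sdata hQ fr p hα).gf x = gfun fr α (tau hQ fr p hα) x := rfl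

theorem sdata_c : (sdata hQ fr p hα).c = mult fr α := rfl

theorem gfun_e0 : gfun fr α (tau hQ fr p hα) (fr.e 0) = mult fr α • fr.e 0 := by
  unfold gfun
  have : pW fr (fr.e 0) = 0 := by
    unfold pW
    rw [Bef', Bee']; simp
  rw [this, A0_zero hQ fr p hα, Bef', Bee']
  simp

theorem gfun_f0 : gfun fr α (tau hQ fr p hα) (fr.f 0) = fr.f 0 := by
  unfold gfun
  have : pW fr (fr.f 0) = 0 := by
    unfold pW
    rw [Bfe', Bff']; simp
  rw [this, A0_zero hQ fr p hα, Bfe', Bff']
  simp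

theorem gfun_W {w : ι → F} (hw : W0 fr w) : gfun fr α (tau hQ fr p hα) w = A0 fr α w := by
  unfold gfun
  rw [pW_of_mem fr hw, B_comm Q w (fr.f 0), hw.2, B_comm Q w (fr.e 0), hw.1]
  simp

end nd

end Cfsg.Agent.Helper7.AutO
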