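import Mathlib
import Cfsg.Agent.Helper7.AutO24

/-!
# Automorphisms of `PΩ(Q)`, part 25 (helper7)

The automorphism of `Ω(Q)` induced by a semilinear similitude maps the Siegel element `ρ(u, v)`
to `ρ(g u, c⁻¹ g v)`.
-/

set_option autoImplicit false
set_option linter.unusedSectionVars false
set_option linter.unusedVariables false

namespace Cfsg.Agent.Helper7.AutO

open Matrix Module Cfsg.Agent.Helper28.Sg Cfsg.Agent.Helper28.Spin Cfsg.Agent.Helper28.PG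
  Cfsg.Agent.Helper28.SSim

variable {F : Type*} [Field F] {ι : Type} [Fintype ι] [DecidableEq ι]
  {Q : QuadraticForm F (ι → F)}

section nd

variable (hQ : (QuadraticMap.polarBilin Q).Nondegenerate) (fr : Frame3 Q)

include fr

theorem actΩ_ro (D : SemiData Q) {u v : ι → F} (hu : Q u = 0) (huv : B Q u v = 0) :
    actΩ (⇑Q) (D.semisim hQ) (ro Q u v) = ro Q (D.gf u) (D.c⁻¹ • D.gf v) := by
  have hu' : Q (D.gf u) = 0 := by rw [D.hQ, hu, map_zero, mul_zero]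
  have huv' : B Q (D.gf u) (D.c⁻¹ • D.gf v) = 0 := by
    rw [B_smul_right, D.hB, huv, map_zero, mul_zero, mul_zero]
  apply Subtype.ext
  apply Subtype.ext
  apply Units.ext
  rw [actΩ_val, ro_val Q hQ fr, ro_val Q hQ fr, rh_eq Q hu huv, rh_eq Q hu' huv']
  show ((D.gl hQ : GL ι F) : Matrix ι ι F) * (siegM Q u v).map D.τ *
    (((D.gl hQ)⁻¹ : GL ι F) : Matrix ι ι F) = siegM Q (D.gf u) (D.c⁻¹ • D.gf v)
  rw [D.gl_val hQ, D.Xm_siegM hu huv, Matrix.mul_assoc, ← D.gl_val hQ, ← Units.val_mul,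
    mul_inv_cancel, Units.val_one, Matrix.mul_one]

variable (p : ℕ) [Fact p.Prime] [CharP F p] [Fintype F]
variable {α : MulAut (Cfsg.POmega F ⇑Q)}
  (hα : (Qb Q (fr.e 0)).map α.toMonoidHom = Qb Q (fr.e 0))

include p hα

/-- on `TΩ e₀` the induced automorphism agrees with `α` -/
theorem actΩ_ro_e0 {w : ι → F} (hw : W0 fr w) :
    actΩ (⇑Q) ((sdata hQ fr p hα).semisim hQ) (ro Q (fr.e 0) w) = ro Q (fr.e 0) (A0 fr α w) := by
  rw [actΩ_ro hQ fr _ (fr.Qe 0) hw.1, sdata_gf, sdata_gf, sdata_c, gfun_e0 hQ fr p hα,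
    gfun_W hQ fr p hα hw]
  have hc := mult_ne_zero hQ fr p hα
  have hA := A0_mem hQ fr p hα w
  apply ro_congr Q hQ fr
  rw [rh_smul Q (mult fr α) (fr.Qe 0) (by rw [B_smul_right, hA.1, mul_zero]), smul_smul,
    mul_inv_cancel₀ hc, one_smul]

/-- on `TΩ f₀` the induced automorphism is `ρ(f₀, w) ↦ ρ(f₀, c⁻¹ A w)` -/
theorem actΩ_ro_f0 {w : ι → F} (hw : W0 fr w) :
    actΩ (⇑Q) ((sdata hQ fr p hα).semisim hQ) (ro Q (fr.f 0) w) =
      ro Q (fr.f 0) ((mult fr α)⁻¹ • A0 fr α w) := by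
  rw [actΩ_ro hQ fr _ (fr.Qf 0) hw.2, sdata_gf, sdata_gf, sdata_c, gfun_f0 hQ fr p hα,
    gfun_W hQ fr p hα hw]

end nd

end Cfsg.Agent.Helper7.AutO
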