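import Mathlib
import Cfsg.Agent.Helper7.AutO25

/-!
# Automorphisms of `PΩ(Q)`, part 26 (helper7)

`Ω(Q)` is generated by the two opposite Siegel groups `TΩ e₀` and `TΩ f₀`.
-/

set_option autoImplicit false
set_option linter.unusedSectionVars false
set_option linter.unusedVariables false

namespace Cfsg.Agent.Helper7.AutO

open Matrix Module Cfsg.Agent.Helper28.Sg Cfsg.Agent.Helper28.Spin Cfsg.Agent.Helper28.PG

variable {F : Type*} [Field F] {ι : Type} [Fintype ι] [DecidableEq ι]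
  {Q : QuadraticForm F (ι → F)}

/-- the generating set: the Siegel elements `ρ(e₀, w)` and `ρ(f₀, w)` with `w ∈ W` -/
def GenSet (fr : Frame3 Q) : Set ↥(Cfsg.Omega F ⇑Q) :=
  {x | ∃ w, W0 fr w ∧ (x = ro Q (fr.e 0) w ∨ x = ro Q (fr.f 0) w)}

section nd

variable (hQ : (QuadraticMap.polarBilin Q).Nondegenerate) (fr : Frame3 Q)

include hQ

theorem ro_e0_mem {v : ι → F} (hv : B Q (fr.e 0) v = 0) :
    ro Q (fr.e 0) v ∈ Subgroup.closure (GenSet fr) := by
  apply Subgroup.subset_closure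
  refine ⟨v + (-B Q (fr.f 0) v) • fr.e 0, ⟨?_, ?_⟩, Or.inl ?_⟩
  · rw [B_add_right, hv, B_smul_right, Bee']; ring
  · rw [B_add_right, B_smul_right, Bfe']; simp
  · exact (ro_congr Q hQ fr (rh_add_smul_self Q _ (fr.Qe 0) hv)).symm

theorem ro_f0_mem {v : ι → F} (hv : B Q (fr.f 0) v = 0) :
    ro Q (fr.f 0) v ∈ Subgroup.closure (GenSet fr) := by
  apply Subgroup.subset_closure
  refine ⟨v + (-B Q (fr.e 0) v) • fr.f 0, ⟨?_, ?_⟩, Or.inr ?_⟩
  · rw [B_add_right, B_smul_right, Bef']; simp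
  · rw [B_add_right, hv, B_smul_right, Bff']; ring
  · exact (ro_congr Q hQ fr (rh_add_smul_self Q _ (fr.Qf 0) hv)).symm

/-- moving a singular vector not perpendicular to `a` onto the partner `b` of `a` -/
theorem exists_move_aux {a b u : ι → F} (ha : Q a = 0) (hb : Q b = 0) (hab : B Q a b = 1)
    (hu : Q u = 0) (hau : B Q a u ≠ 0)
    (hmem : ∀ v, B Q a v = 0 → ro Q a v ∈ Subgroup.closure (GenSet fr)) :
    ∃ h ∈ Subgroup.closure (GenSet fr), mo Q h *ᵥ u = B Q a u • b := by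
  set k := B Q a u with hk
  set u' := k⁻¹ • u with hu'
  have hQu' : Q u' = 0 := by rw [hu', Q_smul, hu, mul_zero]
  have hau' : B Q a u' = 1 := by rw [hu', B_smul_right, ← hk, inv_mul_cancel₀ hau]
  have hperp : B Q a (u' - b) = 0 := by rw [B_sub_right, hau', hab, sub_self]
  refine ⟨(ro Q a (u' - b))⁻¹, Subgroup.inv_mem _ (hmem _ hperp), ?_⟩
  have hmove : mo Q (ro Q a (u' - b)) *ᵥ b = u' := by
    unfold mo
    rw [ro_val Q hQ fr, rh_eq Q ha hperp]
    exact siegO_move ha hb hQu' hab hau' hperp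
  have h1 := mo_inv_mulVec Q (ro Q a (u' - b)) b
  rw [hmove] at h1
  have h2 : u = k • u' := by rw [hu', smul_smul, mul_inv_cancel₀ hau, one_smul]
  rw [h2, Matrix.mulVec_smul, h1]

/-- every singular point can be moved to `⟨e₀⟩` or `⟨f₀⟩` -/
theorem exists_move {u : ι → F} (hu : Q u = 0) (hu0 : u ≠ 0) :
    ∃ h ∈ Subgroup.closure (GenSet fr), ∃ c : F,
      mo Q h *ᵥ u = c • fr.e 0 ∨ mo Q h *ᵥ u = c • fr.f 0 := by
  have hef : B Q (fr.e 0) (fr.f 0) = 1 := by rw [Bef']; simp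
  have hfe : B Q (fr.f 0) (fr.e 0) = 1 := by rw [Bfe']; simp
  by_cases h1 : B Q (fr.e 0) u = 0
  · by_cases h2 : B Q (fr.f 0) u = 0
    · -- `u ∈ W`
      have hex : ∃ x, B Q u x ≠ 0 := by
        by_contra hcon
        push Not at hcon
        exact hu0 (hQ.1 u hcon)
      obtain ⟨x, hx⟩ := hex
      have hw := pW_mem fr x
      have hwu : B Q (pW fr x) u = B Q u x := by
        unfold pW
        simp only [B_sub_left, B_smul_left, h1, h2]
        rw [B_comm Q x u]; ring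
      set h₁ := ro Q (fr.f 0) (pW fr x) with hh₁
      have hh₁m : h₁ ∈ Subgroup.closure (GenSet fr) := ro_f0_mem hQ fr hw.2
      have hu₁ : mo Q h₁ *ᵥ u = u - B Q u x • fr.f 0 := by
        rw [hh₁, ro_mulVec Q hQ fr (fr.Qf 0) hw.2, h2, hwu]
        simp
      have hQu₁ : Q (mo Q h₁ *ᵥ u) = 0 := by
        unfold mo; rw [Q_isom, hu]
      have hne : B Q (fr.e 0) (mo Q h₁ *ᵥ u) ≠ 0 := by
        rw [hu₁, B_sub_right, B_smul_right, h1, hef]
        simpa using hx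
      obtain ⟨h₂, hh₂m, hh₂⟩ := exists_move_aux hQ fr (fr.Qe 0) (fr.Qf 0) hef hQu₁ hne
        (fun v hv => ro_e0_mem hQ fr hv)
      refine ⟨h₂ * h₁, Subgroup.mul_mem _ hh₂m hh₁m, B Q (fr.e 0) (mo Q h₁ *ᵥ u), Or.inr ?_⟩
      rw [mo_mul]; exact hh₂
    · obtain ⟨h, hm, hh⟩ := exists_move_aux hQ fr (fr.Qf 0) (fr.Qe 0) hfe hu h2
        (fun v hv => ro_f0_mem hQ fr hv)
      exact ⟨h, hm, B Q (fr.f 0) u, Or.inl hh⟩
  · obtain ⟨h, hm, hh⟩ := exists_move_aux hQ fr (fr.Qe 0) (fr.Qf 0) hef hu h1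
      (fun v hv => ro_e0_mem hQ fr hv)
    exact ⟨h, hm, B Q (fr.e 0) u, Or.inr hh⟩

/-- every Siegel element lies in the subgroup generated by `TΩ e₀` and `TΩ f₀` -/
theorem ro_mem_closure (u v : ι → F) : ro Q u v ∈ Subgroup.closure (GenSet fr) := by
  by_cases hval : Q u = 0 ∧ B Q u v = 0
  swap
  · have : ro Q u v = 1 := by
      apply Subtype.ext
      rw [ro_val Q hQ fr, rh_of_not Q hval]; rfl
    rw [this]; exact Subgroup.one_mem _
  obtain ⟨hu, huv⟩ := hval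
  by_cases hu0 : u = 0
  · have : ro Q u v = 1 := by
      apply Subtype.ext
      rw [ro_val Q hQ fr, hu0, rh_zero_left]; rfl
    rw [this]; exact Subgroup.one_mem _
  obtain ⟨h, hm, c, hc⟩ := exists_move hQ fr hu hu0
  have hconj := ro_conj Q hQ fr h u v
  have hB : B Q (mo Q h *ᵥ u) (mo Q h *ᵥ v) = 0 := by
    unfold mo; rw [B_isom, huv]
  have key : ro Q (mo Q h *ᵥ u) (mo Q h *ᵥ v) ∈ Subgroup.closure (GenSet fr) := by
    rcases hc with hc | hc
    · rw [hc] at hB ⊢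
      by_cases hc0 : c = 0
      · have : ro Q (c • fr.e 0) (mo Q h *ᵥ v) = 1 := by
          apply Subtype.ext
          rw [ro_val Q hQ fr, hc0, zero_smul, rh_zero_left]; rfl
        rw [this]; exact Subgroup.one_mem _
      have hB' : B Q (fr.e 0) (mo Q h *ᵥ v) = 0 := by
        rw [B_smul_left] at hB
        exact (mul_eq_zero.1 hB).resolve_left hc0
      rw [ro_congr Q hQ fr (rh_smul Q c (fr.Qe 0) hB')]
      exact ro_e0_mem hQ fr (by rw [B_smul_right, hB', mul_zero])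
    · rw [hc] at hB ⊢
      by_cases hc0 : c = 0
      · have : ro Q (c • fr.f 0) (mo Q h *ᵥ v) = 1 := by
          apply Subtype.ext
          rw [ro_val Q hQ fr, hc0, zero_smul, rh_zero_left]; rfl
        rw [this]; exact Subgroup.one_mem _
      have hB' : B Q (fr.f 0) (mo Q h *ᵥ v) = 0 := by
        rw [B_smul_left] at hB
        exact (mul_eq_zero.1 hB).resolve_left hc0
      rw [ro_congr Q hQ fr (rh_smul Q c (fr.Qf 0) hB')]
      exact ro_f0_mem hQ fr (by rw [B_smul_right, hB', mul_zero])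
  rw [← hconj] at key
  have : ro Q u v = h⁻¹ * (h * ro Q u v * h⁻¹) * h := by group
  rw [this]
  exact Subgroup.mul_mem _ (Subgroup.mul_mem _ (Subgroup.inv_mem _ hm) key) hm

/-- **`Ω(Q)` is generated by the two opposite Siegel groups** -/
theorem closure_genSet
    (hgen : ∀ (H : Subgroup ↥(Cfsg.isometryGroup F ⇑Q)),
      (∀ (v : ι → F) (hv : Q v ≠ 0), reflO Q v hv ∈ H) → ∀ g, g ∈ H) :
    Subgroup.closure (GenSet fr) = ⊤ := by
  rw [eq_top_iff]
  rintro ⟨x, hx⟩ -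
  have hΩ := Omega_eq_S hQ fr hgen
  have hxS : x ∈ S Q := by rw [← hΩ]; exact hx
  have key : ∀ g ∈ S Q, ∃ hg : g ∈ Cfsg.Omega F ⇑Q,
      (⟨g, hg⟩ : ↥(Cfsg.Omega F ⇑Q)) ∈ Subgroup.closure (GenSet fr) := by
    intro g hg
    unfold S at hg
    induction hg using Subgroup.closure_induction with
    | mem g hg =>
      obtain ⟨u, v, hu, huv, rfl⟩ := hg
      refine ⟨S_le_Omega hQ fr (siegO_mem_S Q u v hu huv), ?_⟩
      have : (⟨siegO Q u v hu huv, S_le_Omega hQ fr (siegO_mem_S Q u v hu huv)⟩ :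
          ↥(Cfsg.Omega F ⇑Q)) = ro Q u v := by
        apply Subtype.ext
        rw [ro_val Q hQ fr, rh_eq Q hu huv]
      rw [this]
      exact ro_mem_closure hQ fr u v
    | one => exact ⟨Subgroup.one_mem _, Subgroup.one_mem _⟩
    | mul a b _ _ ha hb =>
      obtain ⟨ha1, ha2⟩ := ha
      obtain ⟨hb1, hb2⟩ := hb
      exact ⟨Subgroup.mul_mem _ ha1 hb1, Subgroup.mul_mem _ ha2 hb2⟩
    | inv a _ ha =>
      obtain ⟨ha1, ha2⟩ := ha
      exact ⟨Subgroup.inv_mem _ ha1, Subgroup.inv_mem _ ha2⟩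
  obtain ⟨_, h2⟩ := key x hxS
  exact h2

end nd

end Cfsg.Agent.Helper7.AutO
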