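import Mathlib
import Cfsg.Agent.Helper7.AutO26

/-!
# Automorphisms of `PΩ(Q)`, part 27 (helper7)

Rigidity: for a normalised automorphism, the map attached to the opposite Siegel group `Qb f₀`
is `mult⁻¹ • A`.
-/

set_option autoImplicit false
set_option linter.unusedSectionVars false
set_option linter.unusedVariables false

namespace Cfsg.Agent.Helper7.AutO

open Matrix Module Cfsg.Agent.Helper28.Sg Cfsg.Agent.Helper28.Spin Cfsg.Agent.Helper28.PG

variable {F : Type*} [Field F] {ι : Type} [Fintype ι] [DecidableEq ι]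
  {Q : QuadraticForm F (ι → F)}

section nd

variable (hQ : (QuadraticMap.polarBilin Q).Nondegenerate) (fr : Frame3 Q)
variable (p : ℕ) [Fact p.Prime] [CharP F p] [Fintype F]

include hQ fr p

/-- a singular point whose Siegel group lies in that of `f` is `⟨f⟩` -/
theorem Qb_le_imp {f u : ι → F} (hf : Q f = 0) (hf0 : f ≠ 0) (hu : Q u = 0) (hu0 : u ≠ 0)
    (h : Qb Q u ≤ Qb Q f) : ∃ c : F, u = c • f := by
  by_cases hB : B Q f u = 0
  · by_contra hcon
    have hind : Indep f u := by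
      intro s t hst
      by_cases ht : t = 0
      · subst ht
        rw [zero_smul, add_zero] at hst
        rcases smul_eq_zero.1 hst with h' | h'
        · exact ⟨h', rfl⟩
        · exact absurd h' hf0
      · exfalso
        apply hcon
        refine ⟨-(t⁻¹ * s), ?_⟩
        have h1 : t • u = -(s • f) := by
          rw [eq_neg_iff_add_eq_zero, add_comm]; exact hst
        calc u = t⁻¹ • (t • u) := by rw [smul_smul, inv_mul_cancel₀ ht, one_smul]
          _ = -(t⁻¹ * s) • f := by rw [h1]; module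
    obtain ⟨x, hx1, hx2⟩ := exists_dual hQ fr hind
    have hmem : rb Q u x ∈ Qb Q f := h ((mem_Qb Q hQ fr hu).2 ⟨x, hx2, rfl⟩)
    obtain ⟨v, hv, hv'⟩ := (mem_Qb Q hQ fr hf).1 hmem
    have h2 := rb_eq_rb Q hQ fr p hv'
    have h3 := congrArg (fun g => mt Q g *ᵥ f) h2
    beta_reduce at h3
    rw [rh_mulVec Q hu hx2, rh_mulVec Q hf hv, B_self_of_singular Q hf, B_comm Q u f, hB,
      B_comm Q x f, hx1, B_comm Q v f, hv] at h3
    apply hu0
    have h4 : f - u = f := by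
      calc f - u = f + (0 : F) • x - (1 : F) • u - (Q x * 0) • u := by module
        _ = f + (0 : F) • v - (0 : F) • f - (Q v * 0) • f := h3
        _ = f := by module
    have h5 : u = f - (f - u) := by abel
    rw [h5, h4, sub_self]
  · exfalso
    set c := (B Q f u)⁻¹ with hc
    have hc0 : c ≠ 0 := inv_ne_zero hB
    have hu' : Q (c • u) = 0 := by rw [Q_smul, hu, mul_zero]
    have hfu' : B Q f (c • u) = 1 := by rw [B_smul_right, hc, inv_mul_cancel₀ hB]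
    have hu'0 : c • u ≠ 0 := smul_ne_zero hc0 hu0
    obtain ⟨x, hx, hx1⟩ := Qb_ne_bot hQ fr p hu' hu'0
    have hx' : x ∈ Qb Q f := h (by rw [← Qb_smul hQ fr hu hc0]; exact hx)
    exact hx1 (Qb_inf hQ fr p hf hu' hfu' hx' hx)

/-- the image of `e` under `ρ(e, w) ρ(f, b) ρ(e, w)` for `w, b ∈ ⟨e, f⟩^⊥` -/
theorem triple_apply {e f w b : ι → F} (he : Q e = 0) (hf : Q f = 0) (hef : B Q e f = 1)
    (hw : InW Q e f w) (hb : InW Q e f b) :
    mo Q (ro Q e w * ro Q f b * ro Q e w) *ᵥ e =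
      (1 - B Q w b + Q b * Q w) • e + (b - Q b • w) - Q b • f := by
  have hfe : B Q f e = 1 := by rw [B_comm]; exact hef
  have s1 : mo Q (ro Q e w) *ᵥ e = e := by
    rw [ro_mulVec Q hQ fr he hw.1, B_self_of_singular Q he, B_comm Q w e, hw.1]
    module
  have s2 : mo Q (ro Q f b) *ᵥ e = e + b - Q b • f := by
    rw [ro_mulVec Q hQ fr hf hb.2, hfe, B_comm Q b e, hb.1]
    module
  have s3 : mo Q (ro Q e w) *ᵥ (e + b - Q b • f) =
      (1 - B Q w b + Q b * Q w) • e + (b - Q b • w) - Q b • f := by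
    rw [ro_mulVec Q hQ fr he hw.1]
    simp only [B_add_right, B_sub_right, B_smul_right, B_self_of_singular Q he, hb.1, hef,
      hw.2, B_comm Q w e, hw.1, B_comm Q w f]
    module
  rw [mo_mul, mo_mul, s1, s2, s3]

/-- conjugation by `pr g` maps `Qb e` into `Qb (g e)` -/
theorem conj_mem_Qb {e : ι → F} (he : Q e = 0) (g : ↥(Cfsg.Omega F ⇑Q))
    {x : Cfsg.POmega F ⇑Q} (hx : x ∈ Qb Q e) :
    pr Q g * x * (pr Q g)⁻¹ ∈ Qb Q (mo Q g *ᵥ e) := by
  obtain ⟨w, hw, rfl⟩ := (mem_Qb Q hQ fr he).1 hx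
  have he' : Q (mo Q g *ᵥ e) = 0 := by unfold mo; rw [Q_isom, he]
  rw [rb_conj Q hQ fr]
  refine (mem_Qb Q hQ fr he').2 ⟨mo Q g *ᵥ w, ?_, rfl⟩
  unfold mo; rw [B_isom, hw]

variable {α : MulAut (Cfsg.POmega F ⇑Q)} (hN : Nrm fr α)

include hN

theorem rigid_aux {w : ι → F} (hw : W0 fr w) (hQw : Q w ≠ 0) :
    Amap Q α (fr.f 0) (fr.e 0) ((Q w)⁻¹ • w) = (Q (A0 fr α w))⁻¹ • A0 fr α w := by
  obtain ⟨hα, hα'⟩ := hN
  have hef := hef0 hQ fr p hα
  have hfe : B Q (fr.f 0) (fr.e 0) = 1 := by rw [B_comm]; exact hef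
  obtain ⟨hw'W, hαw⟩ := Amap_spec hQ fr p (fr.Qe 0) (fr.Qf 0) hef hα w
  obtain ⟨hb'W, hαb⟩ := Amap_spec hQ fr p (fr.Qf 0) (fr.Qe 0) hfe hα' ((Q w)⁻¹ • w)
  generalize hbdef : (Q w)⁻¹ • w = b at *
  generalize hw'def : Amap Q α (fr.e 0) (fr.f 0) w = w' at *
  generalize hb'def : Amap Q α (fr.f 0) (fr.e 0) b = b' at *
  have hw'' : A0 fr α w = w' := hw'def
  rw [hw'']
  have hbW : W0 fr b := by rw [← hbdef]; exact hw.smul _
  have hQb : Q b = (Q w)⁻¹ := by
    rw [← hbdef, Q_smul]; field_simp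
  have hBwb : B Q w b = 2 := by
    rw [← hbdef, B_smul_right, B_self]; field_simp
  -- the two triple products
  have hy := triple_apply hQ fr p (fr.Qe 0) (fr.Qf 0) hef hw hbW
  have hy' := triple_apply hQ fr p (fr.Qe 0) (fr.Qf 0) hef hw'W hb'W.swap
  generalize hydef : ro Q (fr.e 0) w * ro Q (fr.f 0) b * ro Q (fr.e 0) w = y at *
  generalize hy'def : ro Q (fr.e 0) w' * ro Q (fr.f 0) b' * ro Q (fr.e 0) w' = y' at *
  have hαy : α (pr Q y) = pr Q y' := by
    rw [← hydef, ← hy'def, map_mul, map_mul, map_mul, map_mul, map_mul, map_mul]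
    show α (rb Q (fr.e 0) w) * α (rb Q (fr.f 0) b) * α (rb Q (fr.e 0) w) =
      rb Q (fr.e 0) w' * rb Q (fr.f 0) b' * rb Q (fr.e 0) w'
    rw [hαw, hαb]
  have hye : mo Q y *ᵥ fr.e 0 = (-(Q w)⁻¹) • fr.f 0 := by
    rw [hy, hQb, hBwb, ← hbdef]
    have h1 : (1 - 2 + (Q w)⁻¹ * Q w : F) = 0 := by field_simp; ring
    rw [h1]
    module
  generalize hudef : mo Q y' *ᵥ fr.e 0 = u at *
  have hQu : Q u = 0 := by rw [← hudef]; unfold mo; rw [Q_isom, fr.Qe]
  have hu0 : u ≠ 0 := by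
    intro h0
    have h1 := mo_inv_mulVec Q y' (fr.e 0)
    rw [hudef, h0, Matrix.mulVec_zero] at h1
    have h2 := hef
    rw [← h1, B_zero_left] at h2
    exact zero_ne_one h2
  have hf0 : fr.f 0 ≠ 0 := by
    intro h0
    have h2 := hef
    rw [h0, B_zero_right] at h2
    exact zero_ne_one h2
  have hle : Qb Q u ≤ Qb Q (fr.f 0) := by
    intro x hx
    -- pull back by `pr y'`
    have h1 := conj_mem_Qb hQ fr p hQu y'⁻¹ hx
    rw [← hudef, mo_inv_mulVec] at h1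
    rw [← hα] at h1
    obtain ⟨z, hz, hz'⟩ := h1
    have h2 := conj_mem_Qb hQ fr p (fr.Qe 0) y hz
    rw [hye, Qb_smul hQ fr (fr.Qf 0) (neg_ne_zero.2 (inv_ne_zero hQw))] at h2
    have h4 : α (pr Q y * z * (pr Q y)⁻¹) = x := by
      rw [map_mul, map_mul, map_inv, hαy]
      have : α z = pr Q y'⁻¹ * x * (pr Q y'⁻¹)⁻¹ := hz'
      rw [this, map_inv]
      group
    rw [← h4]
    have h5 : α (pr Q y * z * (pr Q y)⁻¹) ∈ (Qb Q (fr.f 0)).map α.toMonoidHom :=
      ⟨_, h2, rfl⟩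
    rw [hα'] at h5
    exact h5
  obtain ⟨c, hc⟩ := Qb_le_imp hQ fr p (fr.Qf 0) hf0 hQu hu0 hle
  -- read off the coefficients
  have k1 := congrArg (fun v => B Q (fr.f 0) v) hy'
  have k2 := congrArg (fun v => B Q (fr.e 0) v) hy'
  beta_reduce at k1 k2
  rw [hc] at k1 k2
  simp only [B_add_right, B_sub_right, B_smul_right, B_self_of_singular Q (fr.Qf 0),
    B_self_of_singular Q (fr.Qe 0), hfe, hef, hb'W.1, hb'W.2, hw'W.1, hw'W.2] at k1 k2
  have hc' : c = - Q b' := by linear_combination k2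
  have hcoef : 1 - B Q w' b' + Q b' * Q w' = 0 := by linear_combination -k1
  have hb'eq : b' = Q b' • w' := by
    have h1 : c • fr.f 0 = (1 - B Q w' b' + Q b' * Q w') • fr.e 0 + (b' - Q b' • w')
        - Q b' • fr.f 0 := by rw [← hc]; exact hy'
    rw [hcoef, hc'] at h1
    have h2 : b' - Q b' • w' = 0 := by
      calc b' - Q b' • w' = ((0 : F) • fr.e 0 + (b' - Q b' • w') - Q b' • fr.f 0)
            + Q b' • fr.f 0 := by module
        _ = (-Q b') • fr.f 0 + Q b' • fr.f 0 := by rw [← h1]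
        _ = 0 := by module
    exact sub_eq_zero.1 h2
  have hBw'b' : B Q w' b' = Q b' * (2 * Q w') := by
    conv_lhs => rw [hb'eq]
    rw [B_smul_right, B_self]
  rw [hBw'b'] at hcoef
  have hQb' : Q b' = (Q w')⁻¹ := by
    apply eq_inv_of_mul_eq_one_left
    linear_combination -hcoef
  conv_lhs => rw [hb'eq]
  rw [hQb']

theorem rigid_aniso {v : ι → F} (hv : W0 fr v) (hQv : Q v ≠ 0) :
    Amap Q α (fr.f 0) (fr.e 0) v = (mult fr α)⁻¹ • A0 fr α v := by
  have hα := hN.1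
  have hw : W0 fr ((Q v)⁻¹ • v) := hv.smul _
  have hQw : Q ((Q v)⁻¹ • v) = (Q v)⁻¹ := by rw [Q_smul]; field_simp
  have hQw0 : Q ((Q v)⁻¹ • v) ≠ 0 := by rw [hQw]; exact inv_ne_zero hQv
  have h1 := rigid_aux hQ fr p hN hw hQw0
  have h2 : (Q ((Q v)⁻¹ • v))⁻¹ • ((Q v)⁻¹ • v) = v := by
    rw [hQw, inv_inv, smul_smul, mul_inv_cancel₀ hQv, one_smul]
  rw [h2, Q_A hQ fr p hα hw, hQw, A0_smul hQ fr p hα hv, smul_smul] at h1
  rw [h1]
  have hm := mult_ne_zero hQ fr p hα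
  have ht : tau hQ fr p hα (Q v)⁻¹ ≠ 0 := by
    rw [Ne, map_eq_zero]; exact inv_ne_zero hQv
  congr 1
  rw [mul_inv, mul_assoc, inv_mul_cancel₀ ht, mul_one]

/-- **rigidity**: the map attached to the opposite Siegel group is `mult⁻¹ • A` -/
theorem rigid {v : ι → F} (hv : W0 fr v) :
    Amap Q α (fr.f 0) (fr.e 0) v = (mult fr α)⁻¹ • A0 fr α v := by
  have hα := hN.1
  have hα' := hN.2
  have hef := hef0 hQ fr p hα
  have hfe : B Q (fr.f 0) (fr.e 0) = 1 := by rw [B_comm]; exact hef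
  by_cases hQv : Q v = 0
  swap
  · exact rigid_aniso hQ fr p hN hv hQv
  have he1 : W0 fr (fr.e 1) := W0_e fr (by decide)
  have hf1 : W0 fr (fr.f 1) := W0_f fr (by decide)
  have he2 : W0 fr (fr.e 2) := W0_e fr (by decide)
  have hf2 : W0 fr (fr.f 2) := W0_f fr (by decide)
  -- it suffices to find an anisotropic `a ∈ W` with `v + a` anisotropic
  have key : ∀ a, W0 fr a → Q a ≠ 0 → Q (v + a) ≠ 0 →
      Amap Q α (fr.f 0) (fr.e 0) v = (mult fr α)⁻¹ • A0 fr α v := by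
    intro a ha hQa hQva
    have h1 := rigid_aniso hQ fr p hN (hv.add ha) hQva
    have h2 := rigid_aniso hQ fr p hN ha hQa
    rw [Amap_add hQ fr p (fr.Qf 0) (fr.Qe 0) hfe hα' hv.2 ha.2, h2,
      A0_add hQ fr p hα hv ha, smul_add] at h1
    exact add_right_cancel h1
  have Q1 : Q (fr.e 1 + fr.f 1) = 1 := by rw [Q_add, fr.Qe, fr.Qf, Bef']; simp
  have Q2 : Q (fr.e 2 + fr.f 2) = 1 := by rw [Q_add, fr.Qe, fr.Qf, Bef']; simp
  have Q3 : Q (fr.e 1 + fr.f 1 + fr.e 2) = 1 := by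
    rw [Q_add, Q1, fr.Qe, B_add_left, Bee', Bfe']; simp
  have Q4 : Q (fr.e 1 + fr.f 1 + fr.f 2) = 1 := by
    rw [Q_add, Q1, fr.Qf, B_add_left, Bef', Bff']; simp
  by_cases c1 : Q (v + (fr.e 1 + fr.f 1)) = 0
  swap
  · exact key _ (he1.add hf1) (by rw [Q1]; exact one_ne_zero) c1
  by_cases c2 : Q (v + (fr.e 2 + fr.f 2)) = 0
  swap
  · exact key _ (he2.add hf2) (by rw [Q2]; exact one_ne_zero) c2
  by_cases c3 : Q (v + (fr.e 1 + fr.f 1 + fr.e 2)) = 0
  swap
  · exact key _ ((he1.add hf1).add he2) (by rw [Q3]; exact one_ne_zero) c3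
  by_cases c4 : Q (v + (fr.e 1 + fr.f 1 + fr.f 2)) = 0
  swap
  · exact key _ ((he1.add hf1).add hf2) (by rw [Q4]; exact one_ne_zero) c4
  exfalso
  rw [Q_add, hQv, Q1] at c1
  rw [Q_add, hQv, Q2] at c2
  rw [Q_add, hQv, Q3] at c3
  rw [Q_add, hQv, Q4] at c4
  simp only [B_add_right] at c1 c2 c3 c4
  have : (1 : F) = 0 := by linear_combination 2 * c1 + c2 - c3 - c4
  exact one_ne_zero this

end nd

end Cfsg.Agent.Helper7.AutO
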