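import Mathlib
import Cfsg.Agent.Helper7.AutO27

/-!
# Automorphisms of `PΩ(Q)`, part 28 (helper7)

Assembly: every automorphism of `PΩ(Q)` is induced by a semisimilarity, under the hypotheses
`hQ` (nondegenerate), `fr` (a frame of three hyperbolic pairs), `hgen` (reflections generate the
isometry group) and `HS4 Q`.
-/

set_option autoImplicit false
set_option linter.unusedSectionVars false
set_option linter.unusedVariables false

namespace Cfsg.Agent.Helper7.AutO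

open Matrix Module Cfsg.Agent.Helper28.Sg Cfsg.Agent.Helper28.Spin Cfsg.Agent.Helper28.PG
  Cfsg.Agent.Helper28.SSim

variable {F : Type*} [Field F] {ι : Type} [Fintype ι] [DecidableEq ι]
  {Q : QuadraticForm F (ι → F)}

section nd

variable (hQ : (QuadraticMap.polarBilin Q).Nondegenerate) (fr : Frame3 Q)
variable (p : ℕ) [Fact p.Prime] [CharP F p] [Fintype F]
variable (hgen : ∀ (H : Subgroup ↥(Cfsg.isometryGroup F ⇑Q)),
      (∀ (v : ι → F) (hv : Q v ≠ 0), reflO Q v hv ∈ H) → ∀ g, g ∈ H)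

include hQ fr p hgen

/-- a normalised automorphism is induced by a semisimilarity -/
theorem induced_of_nrm {α : MulAut (Cfsg.POmega F ⇑Q)} (hN : Nrm fr α) :
    Cfsg.IsInducedBySemilinearPOmega (⇑Q) ((sdata hQ fr p hN.1).gl hQ) (sdata hQ fr p hN.1).τ α := by
  have hef := hef0 hQ fr p hN.1
  have hfe : B Q (fr.f 0) (fr.e 0) = 1 := by rw [B_comm]; exact hef
  apply induced_of_apply (⇑Q) ((sdata hQ fr p hN.1).semisim hQ)
  have hhom : α.toMonoidHom.comp (pr Q) =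
      (pr Q).comp (actΩ (⇑Q) ((sdata hQ fr p hN.1).semisim hQ)) := by
    apply MonoidHom.eq_of_eqOn_dense (closure_genSet hQ fr hgen)
    rintro x ⟨w, hw, rfl | rfl⟩
    · show α (pr Q (ro Q (fr.e 0) w)) = pr Q (actΩ (⇑Q) _ (ro Q (fr.e 0) w))
      rw [actΩ_ro_e0 hQ fr p hN.1 hw]
      exact (Amap_spec hQ fr p (fr.Qe 0) (fr.Qf 0) hef hN.1 w).2
    · show α (pr Q (ro Q (fr.f 0) w)) = pr Q (actΩ (⇑Q) _ (ro Q (fr.f 0) w))
      rw [actΩ_ro_f0 hQ fr p hN.1 hw, ← rigid hQ fr p hN hw]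
      exact (Amap_spec hQ fr p (fr.Qf 0) (fr.Qe 0) hfe hN.2 w).2
  intro s
  exact DFunLike.congr_fun hhom s

/-- conjugation by an isometry lies in `gammaPOmega` -/
theorem cO_mem_gamma (g : ↥(Cfsg.isometryGroup F ⇑Q)) : cO Q g ∈ Cfsg.gammaPOmega F ⇑Q := by
  apply Subgroup.subset_closure
  refine ⟨(g : GL ι F), RingEquiv.refl F, ⟨1, fun v => ?_⟩, ?_⟩
  · have := Q_isom Q g v
    simpa using this
  · exact (induced_iff Q (g : GL ι F) (O_le_GO Q g.2) _).2 rfl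

/-- **every automorphism of `PΩ(Q)` is induced by a semisimilarity** -/
theorem gamma_eq_top_aux (hS : HS4 Q) : Cfsg.gammaPOmega F ⇑Q = ⊤ := by
  rw [eq_top_iff]
  intro α _
  obtain ⟨g₁, g₂, hN⟩ := exists_normalize hQ fr p hS α
  have h1 : cO Q g₂ * (cO Q g₁ * α) ∈ Cfsg.gammaPOmega F ⇑Q :=
    Subgroup.subset_closure ⟨_, _, (sdata hQ fr p hN.1).semisim hQ, induced_of_nrm hQ fr p hgen hN⟩
  have h2 := cO_mem_gamma hQ fr p hgen g₁
  have h3 := cO_mem_gamma hQ fr p hgen g₂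
  have h4 : α = (cO Q g₁)⁻¹ * ((cO Q g₂)⁻¹ * (cO Q g₂ * (cO Q g₁ * α))) := by group
  rw [h4]
  exact Subgroup.mul_mem _ (Subgroup.inv_mem _ h2) (Subgroup.mul_mem _ (Subgroup.inv_mem _ h3) h1)

end nd

/-- **every automorphism of `PΩ(Q)` is induced by a semisimilarity** (characteristic-free form) -/
theorem gamma_eq_top [Fintype F] (hQ : (QuadraticMap.polarBilin Q).Nondegenerate) (fr : Frame3 Q)
    (hgen : ∀ (H : Subgroup ↥(Cfsg.isometryGroup F ⇑Q)),
      (∀ (v : ι → F) (hv : Q v ≠ 0), reflO Q v hv ∈ H) → ∀ g, g ∈ H)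
    (hS : HS4 Q) : Cfsg.gammaPOmega F ⇑Q = ⊤ := by
  obtain ⟨p, hp⟩ := CharP.exists F
  have hpp : Fact p.Prime := ⟨CharP.char_is_prime F p⟩
  exact gamma_eq_top_aux hQ fr p hgen hS

end Cfsg.Agent.Helper7.AutO
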