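import Mathlib
import Cfsg.Agent.Helper7.AutO28

/-!
# Automorphisms of `PΩ(Q)`, part 29 (helper7)

Two criteria for the hypothesis `HS4 Q`: large dimension, or Witt index three.
-/

set_option autoImplicit false
set_option linter.unusedSectionVars false
set_option linter.unusedVariables false

namespace Cfsg.Agent.Helper7.AutO

open Matrix Module Cfsg.Agent.Helper28.Sg Cfsg.Agent.Helper28.Spin Cfsg.Agent.Helper28.PG

variable {F : Type*} [Field F] {ι : Type} [Fintype ι] [DecidableEq ι]
  {Q : QuadraticForm F (ι → F)}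

/-- in dimension at least nine, the perpendicular of a `4`-space is not contained in it -/
theorem HS4_of_card (h : 9 ≤ Fintype.card ι) : HS4 Q := by
  classical
  intro a b c d hab hcd hperp hdis
  by_contra hcon
  push Not at hcon
  set S : Submodule F (ι → F) := Submodule.span F (({a, b, c, d} : Finset (ι → F)) : Set (ι → F))
    with hS
  have hSle : Module.finrank F S ≤ 4 := by
    refine le_trans (finrank_span_finset_le_card _) ?_
    exact Finset.card_le_four
  have hmemS : ∀ z, InS a b c d z → z ∈ S := by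
    rintro z ⟨α, β, γ, δ, rfl⟩
    have ha : a ∈ S := Submodule.subset_span (by simp)
    have hb : b ∈ S := Submodule.subset_span (by simp)
    have hc : c ∈ S := Submodule.subset_span (by simp)
    have hd : d ∈ S := Submodule.subset_span (by simp)
    exact S.add_mem (S.add_mem (S.add_mem (S.smul_mem _ ha) (S.smul_mem _ hb)) (S.smul_mem _ hc))
      (S.smul_mem _ hd)
  have horth : LinearMap.BilinForm.orthogonal (QuadraticMap.polarBilin Q) S ≤ S := by
    intro z hz
    rw [LinearMap.BilinForm.mem_orthogonal_iff] at hz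
    apply hmemS
    apply hcon
    · exact hz a (Submodule.subset_span (by simp))
    · exact hz b (Submodule.subset_span (by simp))
    · exact hz c (Submodule.subset_span (by simp))
    · exact hz d (Submodule.subset_span (by simp))
  have h1 := LinearMap.BilinForm.finrank_add_finrank_orthogonal' (B := QuadraticMap.polarBilin Q) S
  have h2 := Submodule.finrank_mono horth
  have h3 : Module.finrank F (ι → F) = Fintype.card ι := Module.finrank_fintype_fun_eq_card F
  omega

/-- if `⟨e₀, e₁, e₂⟩` is a maximal totally singular subspace, there are no totally singular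
`4`-spaces, and `HS4 Q` holds vacuously -/
theorem HS4_of_max (hQ : (QuadraticMap.polarBilin Q).Nondegenerate) (fr : Frame3 Q)
    (hA : ∀ x : ι → F, B Q (fr.e 0) x = 0 → B Q (fr.e 1) x = 0 → B Q (fr.e 2) x = 0 → Q x = 0 →
      ∃ s t u : F, x = s • fr.e 0 + t • fr.e 1 + u • fr.e 2) : HS4 Q := by
  intro a b c d hab hcd hperp hdis
  exfalso
  have h4 := indep4_of_disjoint hab.2.2.2 hcd.2.2.2 hdis
  have h3 : Indep3 a b c := by
    intro α β γ h0
    have := h4 α β γ 0 (by rw [zero_smul, add_zero]; exact h0)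
    exact ⟨this.1, this.2.1, this.2.2.1⟩
  have h3' : Indep3 (fr.e 0) (fr.e 1) (fr.e 2) := by
    intro α β γ h0
    have k0 := congrArg (fun v => B Q (fr.f 0) v) h0
    have k1 := congrArg (fun v => B Q (fr.f 1) v) h0
    have k2 := congrArg (fun v => B Q (fr.f 2) v) h0
    simp only [B_add_right, B_smul_right, Bfe', B_zero_right] at k0 k1 k2
    simp at k0 k1 k2
    exact ⟨k0, k1, k2⟩
  have hQeq : ∀ α β γ : F, Q (α • a + β • b + γ • c) =
      Q (α • fr.e 0 + β • fr.e 1 + γ • fr.e 2) := by
    intro α β γ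
    rw [Q_add, Q_add, Q_add, Q_add]
    simp only [Q_smul, hab.1, hab.2.1, hcd.1, fr.Qe, B_add_left, B_smul_left, B_smul_right,
      hab.2.2.1, B_comm Q a c, hperp.1, B_comm Q b c, hperp.2.2.1, Bee']
  obtain ⟨g, hga, hgb, hgc⟩ := witt_triple hQ h3 h3' hQeq
  have e0 : B Q (fr.e 0) (mt Q g *ᵥ d) = 0 := by
    rw [← hga, B_isom, B_comm]; exact hperp.2.1
  have e1 : B Q (fr.e 1) (mt Q g *ᵥ d) = 0 := by
    rw [← hgb, B_isom, B_comm]; exact hperp.2.2.2
  have e2 : B Q (fr.e 2) (mt Q g *ᵥ d) = 0 := by
    rw [← hgc, B_isom]; exact hcd.2.2.1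
  have eQ : Q (mt Q g *ᵥ d) = 0 := by rw [Q_isom]; exact hcd.2.1
  obtain ⟨s, t, u, hd⟩ := hA _ e0 e1 e2 eQ
  have hd' : mt Q g *ᵥ d = mt Q g *ᵥ (s • a + t • b + u • c) := by
    rw [hd, Matrix.mulVec_add, Matrix.mulVec_add, Matrix.mulVec_smul, Matrix.mulVec_smul,
      Matrix.mulVec_smul, hga, hgb, hgc]
  have hd'' : d = s • a + t • b + u • c := by
    have := congrArg (fun v => mt Q g⁻¹ *ᵥ v) hd'
    beta_reduce at this
    rwa [← mt_mul_mulVec, ← mt_mul_mulVec, inv_mul_cancel, mt_one_mulVec, mt_one_mulVec] at this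
  have := h4 s t u (-1) (by rw [hd'']; module)
  have h1 : (-1 : F) = 0 := this.2.2.2
  exact one_ne_zero (neg_eq_zero.1 h1)

end Cfsg.Agent.Helper7.AutO
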