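import Mathlib
import Cfsg.Agent.Helper7.AutO29
import Cfsg.Agent.Helper28.Siegel6
import Cfsg.Agent.S2613
import Cfsg.Agent.S2614
import Cfsg.Agent.S2615
import Cfsg.Agent.S0292
import Cfsg.Agent.S2171
import Cfsg.Agent.S2621

/-!
# Automorphisms of `PΩ(Q)`, part 30 (helper7)

The three families: `Aut(PΩ(Q)) = PΓO(Q)` for the odd-dimensional forms (`m ≥ 3`, `q` odd),
the plus-type forms (`m ≥ 5`) and the minus-type forms (`m ≥ 3`).
-/

set_option autoImplicit false
set_option linter.unusedSectionVars false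
set_option linter.unusedVariables false

namespace Cfsg.Agent.Helper7.AutO

open Matrix Module Cfsg.Agent.Helper28.Sg Cfsg.Agent.Helper28.Spin Cfsg.Agent.Helper28.PG
  Cfsg.Agent.S2614

/-- the odd-dimensional case -/
theorem gamma_odd {F : Type*} [Field F] [Fintype F] (hodd : Odd (Fintype.card F)) {m : ℕ}
    (hm : 3 ≤ m) : Cfsg.gammaPOmega F (Cfsg.quadFormOdd m F) = ⊤ := by
  classical
  have h2 : (2 : F) ≠ 0 := by
    apply Ring.two_ne_zero
    intro h
    rw [FiniteField.even_card_iff_char_two] at h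
    rcases hodd with ⟨k, hk⟩
    omega
  have hQ := Cfsg.Agent.S0292.QfOdd_nondeg h2 (F := F) m
  have hcardι : Fintype.card (Unit ⊕ (Fin m ⊕ Fin m)) = 2 * m + 1 := by
    rw [Fintype.card_sum, Fintype.card_sum, Fintype.card_fin, Fintype.card_unit]; omega
  rw [← QfOdd_coe]
  by_cases hm4 : 4 ≤ m
  · let a : Fin 3 → Unit ⊕ (Fin m ⊕ Fin m) := fun j => Sum.inr (Sum.inl (Fin.castLE (by omega) j))
    let b : Fin 3 → Unit ⊕ (Fin m ⊕ Fin m) := fun j => Sum.inr (Sum.inr (Fin.castLE (by omega) j))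
    have hinj : Function.Injective (Sum.elim a b) := by
      intro x y h
      rcases x with x | x <;> rcases y with y | y <;>
        simp only [Sum.elim_inl, Sum.elim_inr, a, b, Sum.inl.injEq, Sum.inr.injEq, reduceCtorEq,
          Fin.castLE_inj] at h
      · rw [h]
      · rw [h]
    let fr : Frame3 (QfOdd m F) := frameOf a b hinj (fun j => hypPair_odd m _)
    exact gamma_eq_top hQ fr (hgen_odd h2 hQ) (HS4_of_card (by rw [hcardι]; omega))
  · obtain rfl : m = 3 := by omega
    let a : Fin 3 → Unit ⊕ (Fin 3 ⊕ Fin 3) := fun j => Sum.inr (Sum.inl j)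
    let b : Fin 3 → Unit ⊕ (Fin 3 ⊕ Fin 3) := fun j => Sum.inr (Sum.inr j)
    have hinj : Function.Injective (Sum.elim a b) := by
      intro x y h
      rcases x with x | x <;> rcases y with y | y <;>
        simp only [Sum.elim_inl, Sum.elim_inr, a, b, Sum.inl.injEq, Sum.inr.injEq,
          reduceCtorEq] at h
      · rw [h]
      · rw [h]
    let fr : Frame3 (QfOdd 3 F) := frameOf a b hinj (fun j => hypPair_odd 3 j)
    refine gamma_eq_top hQ fr (hgen_odd h2 hQ) (HS4_of_max hQ fr ?_)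
    intro x h0 h1 h2' hQx
    have k0 : x (Sum.inr (Sum.inr 0)) = 0 := by
      rw [← polar_single_left (hypPair_odd (F := F) 3 0) x]; exact h0
    have k1 : x (Sum.inr (Sum.inr 1)) = 0 := by
      rw [← polar_single_left (hypPair_odd (F := F) 3 1) x]; exact h1
    have k2 : x (Sum.inr (Sum.inr 2)) = 0 := by
      rw [← polar_single_left (hypPair_odd (F := F) 3 2) x]; exact h2'
    have kQ : x (Sum.inl ()) = 0 := by
      have : Cfsg.quadFormOdd 3 F x = 0 := by rw [← QfOdd_coe]; exact hQx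
      unfold Cfsg.quadFormOdd at this
      rw [Fin.sum_univ_three, k0, k1, k2] at this
      simpa using this
    refine ⟨x (Sum.inr (Sum.inl 0)), x (Sum.inr (Sum.inl 1)), x (Sum.inr (Sum.inl 2)), ?_⟩
    funext i
    show x i = (x (Sum.inr (Sum.inl 0)) • (Pi.single (a 0) (1 : F) : _ → F) +
      x (Sum.inr (Sum.inl 1)) • (Pi.single (a 1) (1 : F) : _ → F) +
      x (Sum.inr (Sum.inl 2)) • (Pi.single (a 2) (1 : F) : _ → F)) i
    rcases i with ⟨⟩ | i | i
    · simp [a, kQ]
    · fin_cases i <;> simp [a]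
    · fin_cases i <;> simp [a, k0, k1, k2]

/-- the plus-type case -/
theorem gamma_plus {F : Type*} [Field F] [Fintype F] {m : ℕ} (hm : 5 ≤ m) :
    Cfsg.gammaPOmega F (Cfsg.quadFormPlus m F) = ⊤ := by
  classical
  rw [← QfPlus_coe]
  have hQ := QfPlus_nondeg (F := F) m
  have hcardι : Fintype.card (Fin m ⊕ Fin m) = 2 * m := by
    rw [Fintype.card_sum, Fintype.card_fin]; omega
  let a : Fin 3 → Fin m ⊕ Fin m := fun j => Sum.inl (Fin.castLE (by omega) j)
  let b : Fin 3 → Fin m ⊕ Fin m := fun j => Sum.inr (Fin.castLE (by omega) j)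
  have hinj : Function.Injective (Sum.elim a b) := by
    intro x y h
    rcases x with x | x <;> rcases y with y | y <;>
      simp only [Sum.elim_inl, Sum.elim_inr, a, b, Sum.inl.injEq, Sum.inr.injEq, reduceCtorEq,
        Fin.castLE_inj] at h
    · rw [h]
    · rw [h]
  let fr : Frame3 (QfPlus m F) := frameOf a b hinj
    (fun j => Cfsg.Agent.S2613.hypPair_plus m _)
  have hgen : ∀ (H : Subgroup ↥(Cfsg.isometryGroup F ⇑(QfPlus m F))),
      (∀ (v : Fin m ⊕ Fin m → F) (hv : QfPlus m F v ≠ 0), reflO (QfPlus m F) v hv ∈ H) →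
        ∀ g, g ∈ H := by
    by_cases h2 : (2 : F) = 0
    · exact hgen_even h2 hQ (Or.inr (by rw [hcardι]; omega))
    · exact hgen_odd h2 hQ
  exact gamma_eq_top hQ fr hgen (HS4_of_card (by rw [hcardι]; omega))

/-- the minus-type case -/
theorem gamma_minus {F : Type*} [Field F] [Fintype F] {m : ℕ} (hm : 3 ≤ m) (a b : F)
    (hab : ∀ z₁ z₂ : F, z₁ ^ 2 + a * z₁ * z₂ + b * z₂ ^ 2 = 0 → z₁ = 0 ∧ z₂ = 0) :
    Cfsg.gammaPOmega F (Cfsg.quadFormMinus m F a b) = ⊤ := by
  classical
  rw [← QfMinus_coe]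
  have hcardι : Fintype.card ((Fin m ⊕ Fin m) ⊕ Fin 2) = 2 * m + 2 := by
    rw [Fintype.card_sum, Fintype.card_sum, Fintype.card_fin, Fintype.card_fin]; omega
  have hQ : (QuadraticMap.polarBilin (QfMinus m F a b)).Nondegenerate := by
    by_cases h2 : (2 : F) = 0
    · have : CharP F 2 := CharTwo.of_one_ne_zero_of_two_eq_zero one_ne_zero h2
      have ha := Cfsg.Agent.S2171.ne_zero_of_aniso a b hab
      apply Cfsg.Agent.S2171.QfMinus_nondeg_of
      rw [show (4 : F) = 2 * 2 by norm_num, h2]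
      simpa using ha
    · have hδ := Cfsg.Agent.S2621.not_isSquare_disc h2 a b hab
      apply Cfsg.Agent.S2171.QfMinus_nondeg_of
      intro h
      apply hδ
      have : a ^ 2 - 4 * b = 0 := by linear_combination -h
      rw [this]
      exact ⟨0, by simp⟩
  have hgen : ∀ (H : Subgroup ↥(Cfsg.isometryGroup F ⇑(QfMinus m F a b))),
      (∀ (v : (Fin m ⊕ Fin m) ⊕ Fin 2 → F) (hv : QfMinus m F a b v ≠ 0),
        reflO (QfMinus m F a b) v hv ∈ H) → ∀ g, g ∈ H := by
    by_cases h2 : (2 : F) = 0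
    · exact hgen_even h2 hQ (Or.inr (by rw [hcardι]; omega))
    · exact hgen_odd h2 hQ
  by_cases hm4 : 4 ≤ m
  · let a' : Fin 3 → (Fin m ⊕ Fin m) ⊕ Fin 2 :=
      fun j => Sum.inl (Sum.inl (Fin.castLE (by omega) j))
    let b' : Fin 3 → (Fin m ⊕ Fin m) ⊕ Fin 2 :=
      fun j => Sum.inl (Sum.inr (Fin.castLE (by omega) j))
    have hinj : Function.Injective (Sum.elim a' b') := by
      intro x y h
      rcases x with x | x <;> rcases y with y | y <;>
        simp only [Sum.elim_inl, Sum.elim_inr, a', b', Sum.inl.injEq, Sum.inr.injEq, reduceCtorEq,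
          Fin.castLE_inj] at h
      · rw [h]
      · rw [h]
    let fr : Frame3 (QfMinus m F a b) := frameOf a' b' hinj
      (fun j => Cfsg.Agent.S2615.hypPair_minus m a b _)
    exact gamma_eq_top hQ fr hgen (HS4_of_card (by rw [hcardι]; omega))
  · obtain rfl : m = 3 := by omega
    let a' : Fin 3 → (Fin 3 ⊕ Fin 3) ⊕ Fin 2 := fun j => Sum.inl (Sum.inl j)
    let b' : Fin 3 → (Fin 3 ⊕ Fin 3) ⊕ Fin 2 := fun j => Sum.inl (Sum.inr j)
    have hinj : Function.Injective (Sum.elim a' b') := by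
      intro x y h
      rcases x with x | x <;> rcases y with y | y <;>
        simp only [Sum.elim_inl, Sum.elim_inr, a', b', Sum.inl.injEq, Sum.inr.injEq,
          reduceCtorEq] at h
      · rw [h]
      · rw [h]
    let fr : Frame3 (QfMinus 3 F a b) := frameOf a' b' hinj
      (fun j => Cfsg.Agent.S2615.hypPair_minus 3 a b j)
    refine gamma_eq_top hQ fr hgen (HS4_of_max hQ fr ?_)
    intro x h0 h1 h2' hQx
    have k0 : x (Sum.inl (Sum.inr 0)) = 0 := by
      rw [← polar_single_left (Cfsg.Agent.S2615.hypPair_minus (F := F) 3 a b 0) x]; exact h0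
    have k1 : x (Sum.inl (Sum.inr 1)) = 0 := by
      rw [← polar_single_left (Cfsg.Agent.S2615.hypPair_minus (F := F) 3 a b 1) x]; exact h1
    have k2 : x (Sum.inl (Sum.inr 2)) = 0 := by
      rw [← polar_single_left (Cfsg.Agent.S2615.hypPair_minus (F := F) 3 a b 2) x]; exact h2'
    have kQ : x (Sum.inr 0) = 0 ∧ x (Sum.inr 1) = 0 := by
      have : Cfsg.quadFormMinus 3 F a b x = 0 := by rw [← QfMinus_coe]; exact hQx
      unfold Cfsg.quadFormMinus at this
      rw [Fin.sum_univ_three, k0, k1, k2] at this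
      apply hab
      linear_combination this
    refine ⟨x (Sum.inl (Sum.inl 0)), x (Sum.inl (Sum.inl 1)), x (Sum.inl (Sum.inl 2)), ?_⟩
    funext i
    show x i = (x (Sum.inl (Sum.inl 0)) • (Pi.single (a' 0) (1 : F) : _ → F) +
      x (Sum.inl (Sum.inl 1)) • (Pi.single (a' 1) (1 : F) : _ → F) +
      x (Sum.inl (Sum.inl 2)) • (Pi.single (a' 2) (1 : F) : _ → F)) i
    rcases i with (i | i) | i
    · fin_cases i <;> simp [a']
    · fin_cases i <;> simp [a', k0, k1, k2]
    · fin_cases i <;> simp [a', kQ.1, kQ.2]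

end Cfsg.Agent.Helper7.AutO
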