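import Cfsg.Agent.Helper7.FieldPSL4

/-!
# Field automorphisms of `PSL_n(F)`, part 5 (helper7)

The fixed field of an automorphism of a finite field (Artin), giving descent data.
-/

set_option autoImplicit false
set_option linter.unusedSectionVars false
set_option linter.unusedVariables false

namespace Cfsg.Agent.Helper7.FieldPSL

open Matrix Module

variable {F : Type*} [Field F] {F₀ : Type*} [Field F₀]

theorem finite_ringAut [Finite F] : Finite (F ≃+* F) :=
  Finite.of_injective (fun e : F ≃+* F => (e : F → F)) DFunLike.coe_injective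

theorem orderOf_pos_ringAut [Finite F] (σ : F ≃+* F) : 0 < orderOf σ := by
  have := finite_ringAut (F := F)
  exact orderOf_pos σ

/-- the order of an automorphism of the field with `p ^ f` elements divides `f` -/
theorem orderOf_dvd [Fintype F] {p f : ℕ} [Fact p.Prime] (hf : 1 ≤ f)
    (hF : Fintype.card F = p ^ f) (σ : F ≃+* F) : orderOf σ ∣ f := by
  have h := orderOf_dvd_natCard σ
  rwa [Cfsg.Agent.Helper7.AutPSL.card_ringAut hf hF] at h

/-- **descent data from the fixed field** -/
theorem exists_FDesc [Fintype F] [Fintype F₀] {p f : ℕ} [Fact p.Prime]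
    (hF : Fintype.card F = p ^ f) (σ : F ≃+* F)
    (hF₀ : Fintype.card F₀ = p ^ (f / orderOf σ)) : ∃ E : FDesc F F₀, E.σ = σ := by
  classical
  have hfin : Finite (F ≃+* F) := finite_ringAut
  have : Fintype ↥(Subgroup.zpowers σ) := Fintype.ofFinite _
  have h1 := FixedPoints.finrank_eq_card (↥(Subgroup.zpowers σ)) F
  have h2 : Fintype.card ↥(Subgroup.zpowers σ) = orderOf σ := by
    rw [← Nat.card_eq_fintype_card, Nat.card_zpowers]
  set K := FixedPoints.subfield (↥(Subgroup.zpowers σ)) F with hK
  have : Fintype ↥K := Fintype.ofFinite _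
  have h3 := Module.card_eq_pow_finrank (K := ↥K) (V := F)
  rw [h1, h2, hF] at h3
  have hmem : ∀ x : F, x ∈ K ↔ σ x = x := by
    intro x
    constructor
    · intro hx
      exact hx ⟨σ, Subgroup.mem_zpowers σ⟩
    · intro hx
      rintro ⟨τ, hτ⟩
      have h5 : σ ∈ MulAction.stabilizer (F ≃+* F) x := by
        rw [MulAction.mem_stabilizer_iff]
        exact hx
      have h6 : τ ∈ MulAction.stabilizer (F ≃+* F) x :=
        (Subgroup.zpowers_le.2 h5) hτ
      exact MulAction.mem_stabilizer_iff.1 h6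
  have hr : 0 < orderOf σ := orderOf_pos σ
  -- the cardinality of `K`
  have hcard : Fintype.card ↥K = p ^ (f / orderOf σ) := by
    have hdvd : Fintype.card ↥K ∣ p ^ f := by
      rw [h3]
      exact dvd_pow_self _ hr.ne'
    obtain ⟨a, -, ha⟩ := (Nat.dvd_prime_pow (Fact.out : p.Prime)).1 hdvd
    rw [ha, ← pow_mul] at h3
    have h4 : f = a * orderOf σ := Nat.pow_right_injective (Fact.out : p.Prime).two_le h3
    rw [ha, h4, Nat.mul_div_cancel _ hr]
  have e : F₀ ≃+* ↥K := FiniteField.ringEquivOfCardEq (by rw [hF₀, hcard])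
  refine ⟨⟨σ, K.subtype.comp e.toRingHom, ?_, ?_⟩, rfl⟩
  · intro x
    exact (hmem _).1 (e x).2
  · intro y hy
    refine ⟨e.symm ⟨y, (hmem y).2 hy⟩, ?_⟩
    show ((e (e.symm ⟨y, (hmem y).2 hy⟩) : ↥K) : F) = y
    rw [RingEquiv.apply_symm_apply]

end Cfsg.Agent.Helper7.FieldPSL
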