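import Cfsg.Agent.Helper7.GraphPSL9

/-!
# Class splitting, part 1 (helper7)

The number of `K`-classes into which an `H`-class splits, for `H` the range of a homomorphism
`c : G →* X` and `K` the image of a normal subgroup `S` of `G`: it is the index of `S ⊔ C`,
`C` the preimage of the centralizer.  Specialisation to `PSL_n`.
-/

set_option autoImplicit false
set_option linter.unusedSectionVars false

namespace Cfsg.Agent.Helper7.GraphSplit

open scoped Pointwise Matrix

section generic

variable {G X : Type*} [Group G] [Group X]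

theorem isConjUnder_equivalence (K : Subgroup X) :
    Equivalence (fun y z : X => Cfsg.IsConjUnder K y z) := by
  refine ⟨fun y => ⟨1, K.one_mem, by group⟩, ?_, ?_⟩
  · rintro y z ⟨k, hk, rfl⟩
    exact ⟨k⁻¹, K.inv_mem hk, by group⟩
  · rintro y z w ⟨k, hk, rfl⟩ ⟨k', hk', rfl⟩
    exact ⟨k' * k, K.mul_mem hk' hk, by group⟩

/-- the generic class-splitting count -/
theorem splitClassCount_eq_index (c : G →* X) (S : Subgroup G) [hS : S.Normal] (x : X) :
    Cfsg.splitClassCount c.range (S.map c) x
      = (S ⊔ (Subgroup.centralizer {x}).comap c).index := by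
  classical
  set C : Subgroup G := (Subgroup.centralizer {x}).comap c with hC
  set N : Subgroup G := S ⊔ C with hN
  set r : {y : X // Cfsg.IsConjUnder c.range x y} → {y : X // Cfsg.IsConjUnder c.range x y} → Prop :=
    fun y z => Cfsg.IsConjUnder (S.map c) y.1 z.1 with hr
  have hreq : Equivalence r := by
    have h := isConjUnder_equivalence (S.map c)
    exact ⟨fun y => h.refl y.1, fun h' => h.symm h', fun h1 h2 => h.trans h1 h2⟩
  have hmemC : ∀ g : G, g ∈ C ↔ c g * x = x * c g := by
    intro g
    rw [hC, Subgroup.mem_comap, Subgroup.mem_centralizer_singleton_iff]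
  -- the map `G → Quot r`
  let Φ : G → {y : X // Cfsg.IsConjUnder c.range x y} :=
    fun g => ⟨c g * x * (c g)⁻¹, c g, ⟨g, rfl⟩, rfl⟩
  have hΦ : ∀ g g' : G, r (Φ g) (Φ g') ↔ g'⁻¹ * g ∈ N := by
    intro g g'
    constructor
    · rintro ⟨k, ⟨s, hs, rfl⟩, hk⟩
      -- `c g' x (c g')⁻¹ = c s (c g x (c g)⁻¹) (c s)⁻¹`
      have hk' : c g' * x * (c g')⁻¹ = c s * (c g * x * (c g)⁻¹) * (c s)⁻¹ := hk
      have h1 : g'⁻¹ * s * g ∈ C := by
        rw [hmemC, map_mul, map_mul, map_inv]
        have : x = (c g')⁻¹ * (c s * (c g * x * (c g)⁻¹) * (c s)⁻¹) * c g' := by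
          rw [← hk']; group
        calc (c g')⁻¹ * c s * c g * x
            = ((c g')⁻¹ * (c s * (c g * x * (c g)⁻¹) * (c s)⁻¹) * c g') * ((c g')⁻¹ * c s * c g) := by
              group
          _ = x * ((c g')⁻¹ * c s * c g) := by rw [← this]
      have h2 : g'⁻¹ * s⁻¹ * g' ∈ S := by
        have := hS.conj_mem s⁻¹ (S.inv_mem hs) g'⁻¹
        rwa [inv_inv] at this
      have h3 : g'⁻¹ * g = (g'⁻¹ * s⁻¹ * g') * (g'⁻¹ * s * g) := by group
      rw [h3]
      exact N.mul_mem (Subgroup.mem_sup_left h2) (Subgroup.mem_sup_right h1)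
    · intro h
      have hmul : (g'⁻¹ * g) ∈ (S : Set G) * (C : Set G) := by
        rw [← Subgroup.normal_mul]
        exact h
      obtain ⟨s₁, hs₁, t, ht, hst⟩ := Set.mem_mul.1 hmul
      have hs : g' * s₁⁻¹ * g'⁻¹ ∈ S := hS.conj_mem s₁⁻¹ (S.inv_mem hs₁) g'
      refine ⟨c (g' * s₁⁻¹ * g'⁻¹), ⟨_, hs, rfl⟩, ?_⟩
      show c g' * x * (c g')⁻¹ = c (g' * s₁⁻¹ * g'⁻¹) * (c g * x * (c g)⁻¹) * (c (g' * s₁⁻¹ * g'⁻¹))⁻¹
      have ht' : c t * x = x * c t := (hmemC t).1 ht
      have hg : g = g' * s₁ * t := by rw [mul_assoc, hst]; group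
      rw [hg]
      simp only [map_mul, map_inv]
      have : c t * x * (c t)⁻¹ = x := by rw [ht']; group
      calc c g' * x * (c g')⁻¹ = c g' * (c t * x * (c t)⁻¹) * (c g')⁻¹ := by rw [this]
        _ = _ := by group
  -- the induced bijection
  have hwd : ∀ g g' : G, (QuotientGroup.leftRel N) g g' → Quot.mk r (Φ g) = Quot.mk r (Φ g') := by
    intro g g' h
    rw [QuotientGroup.leftRel_apply] at h
    apply Quot.sound
    apply hreq.symm
    exact (hΦ g' g).2 h
  let Ψ : G ⧸ N → Quot r := Quotient.lift (fun g => Quot.mk r (Φ g)) hwd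
  have hΨinj : Function.Injective Ψ := by
    intro a b
    induction a using QuotientGroup.induction_on with
    | H g =>
      induction b using QuotientGroup.induction_on with
      | H g' =>
        intro h
        have h1 : Quot.mk r (Φ g) = Quot.mk r (Φ g') := h
        rw [Quot.eq, hreq.eqvGen_iff] at h1
        rw [QuotientGroup.eq]
        have h2 := (hΦ g' g).1 (hreq.symm h1)
        exact h2
  have hΨsurj : Function.Surjective Ψ := by
    intro y
    induction y using Quot.inductionOn with
    | h y =>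
      obtain ⟨y, a, ⟨g, rfl⟩, rfl⟩ := y
      exact ⟨QuotientGroup.mk g, rfl⟩
  unfold Cfsg.splitClassCount Subgroup.index
  exact (Nat.card_congr (Equiv.ofBijective Ψ ⟨hΨinj, hΨsurj⟩)).symm

/-- with a surjective hom `f` whose kernel is `S`, the index is that of the image -/
theorem index_sup_eq_index_map {A : Type*} [Group A] (f : G →* A) (hf : Function.Surjective f)
    (C : Subgroup G) : (f.ker ⊔ C).index = (C.map f).index := by
  rw [← Subgroup.index_comap_of_surjective (C.map f) hf, Subgroup.comap_map_eq, sup_comm]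

end generic

section psl

open Cfsg.Agent.Helper7.GraphPSL

variable {n : ℕ} {F : Type*} [Field F]

theorem detGL_surjective [NeZero n] :
    Function.Surjective (Matrix.GeneralLinearGroup.det : GL (Fin n) F →* Fˣ) := by
  intro x
  refine ⟨diagRep ⟨0, Nat.pos_of_ne_zero (NeZero.ne n)⟩ x, ?_⟩
  apply Units.ext
  exact diagRep_det _ x

theorem cGL_toGL (t : Matrix.SpecialLinearGroup (Fin n) F) :
    cGL (Matrix.SpecialLinearGroup.toGL t) = MulAut.conj (QuotientGroup.mk t :
      Matrix.ProjectiveSpecialLinearGroup (Fin n) F) := by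
  ext y
  induction y using QuotientGroup.induction_on with
  | H s =>
    rw [cGL_mk, MulAut.conj_apply]
    show _ = (QuotientGroup.mk (t * s * t⁻¹) : Matrix.ProjectiveSpecialLinearGroup (Fin n) F)
    congr 1

/-- the inner automorphisms of `PSL_n` are the image of the matrices of determinant one -/
theorem inn_eq_map :
    Cfsg.Inn (Matrix.ProjectiveSpecialLinearGroup (Fin n) F)
      = (Matrix.GeneralLinearGroup.det : GL (Fin n) F →* Fˣ).ker.map cGL := by
  ext φ
  constructor
  · rintro ⟨x, rfl⟩
    induction x using QuotientGroup.induction_on with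
    | H t =>
      refine ⟨Matrix.SpecialLinearGroup.toGL t, ?_, cGL_toGL t⟩
      rw [SetLike.mem_coe, MonoidHom.mem_ker]
      apply Units.ext
      exact t.2
  · rintro ⟨g, hg, rfl⟩
    rw [SetLike.mem_coe, MonoidHom.mem_ker] at hg
    have hdet : (g : Matrix (Fin n) (Fin n) F).det = 1 := congrArg Units.val hg
    set t : Matrix.SpecialLinearGroup (Fin n) F := ⟨(g : Matrix (Fin n) (Fin n) F), hdet⟩ with ht
    have : g = Matrix.SpecialLinearGroup.toGL t := by
      apply Units.ext
      rfl
    rw [this, cGL_toGL]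
    exact ⟨_, rfl⟩

/-- the preimage in `GL_n` of the centralizer of a graph automorphism -/
noncomputable def Csub (A : GL (Fin n) F) : Subgroup (GL (Fin n) F) :=
  (Subgroup.centralizer {graphAut A}).comap cGL

theorem mem_Csub_iff (A h : GL (Fin n) F) :
    h ∈ Csub A ↔ ∃ c : Fˣ, (h : Matrix (Fin n) (Fin n) F) * (A : Matrix (Fin n) (Fin n) F)
        * (h : Matrix (Fin n) (Fin n) F)ᵀ = (c : F) • (A : Matrix (Fin n) (Fin n) F) := by
  unfold Csub
  rw [Subgroup.mem_comap, Subgroup.mem_centralizer_singleton_iff, commute_graphAut_iff]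

/-- **class splitting for `PSL_n`**: the count is the index of the group of determinants of the
similitudes -/
theorem splitClassCount_PSL [NeZero n] (A : GL (Fin n) F) :
    Cfsg.splitClassCount (Cfsg.inndiagPSL n F)
        (Cfsg.Inn (Matrix.ProjectiveSpecialLinearGroup (Fin n) F)) (graphAut A)
      = ((Csub A).map (Matrix.GeneralLinearGroup.det : GL (Fin n) F →* Fˣ)).index := by
  rw [inndiagPSL_eq_range, inn_eq_map, splitClassCount_eq_index,
    ← index_sup_eq_index_map _ detGL_surjective]
  rfl

end psl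

end Cfsg.Agent.Helper7.GraphSplit
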