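import Mathlib
import Cfsg.Agent.S2623

/-!
# Unipotent isometries of prescribed Jordan type, part 3 (helper7)

Quadratic forms from symmetric Gram matrices on arbitrary index types, and the classification
by discriminant (transport of S2623 to arbitrary finite index types).
-/

set_option autoImplicit false
set_option linter.unusedSectionVars false

namespace Cfsg.Agent.Helper7.OrthUni

open Matrix

variable {F : Type*} [Field F]
variable {I : Type*} [Fintype I] [DecidableEq I] {ι : Type*} [Fintype ι] [DecidableEq ι]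

/-- the Gram matrix of the polar form in the standard basis -/
noncomputable def gram (Q : QuadraticForm F (I → F)) : Matrix I I F :=
  LinearMap.BilinForm.toMatrix' (QuadraticMap.polarBilin Q)

theorem gram_apply (Q : QuadraticForm F (I → F)) (i j : I) :
    gram Q i j = QuadraticMap.polar ⇑Q (Pi.single i 1) (Pi.single j 1) := by
  rw [gram, LinearMap.BilinForm.toMatrix'_apply, QuadraticMap.polarBilin_apply_apply]

theorem gram_eq_of (Q : QuadraticForm F (I → F)) :
    gram Q = Matrix.of (fun i j : I => QuadraticMap.polar ⇑Q (Pi.single i 1) (Pi.single j 1)) := by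
  ext i j
  rw [gram_apply, Matrix.of_apply]

theorem nondeg_iff_det (Q : QuadraticForm F (I → F)) :
    (QuadraticMap.polarBilin Q).Nondegenerate ↔ (gram Q).det ≠ 0 := by
  rw [gram, ← Matrix.nondegenerate_iff_det_ne_zero,
    LinearMap.BilinForm.nondegenerate_toMatrix'_iff]

/-- the quadratic form `v ↦ (1/2) vᵀ B v` -/
noncomputable def qf (B : Matrix I I F) : QuadraticForm F (I → F) :=
  LinearMap.BilinMap.toQuadraticMap (Matrix.toBilin' ((2 : F)⁻¹ • B))

theorem qf_apply (B : Matrix I I F) (v : I → F) : qf B v = (2 : F)⁻¹ * (v ⬝ᵥ B *ᵥ v) := by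
  rw [qf, LinearMap.BilinMap.toQuadraticMap_apply, Matrix.toBilin'_apply', Matrix.smul_mulVec,
    dotProduct_smul, smul_eq_mul]

theorem polar_qf (h2 : (2 : F) ≠ 0) {B : Matrix I I F} (hB : Bᵀ = B) (x y : I → F) :
    QuadraticMap.polar ⇑(qf B) x y = x ⬝ᵥ B *ᵥ y := by
  have hsym : y ⬝ᵥ B *ᵥ x = x ⬝ᵥ B *ᵥ y := by
    rw [Matrix.dotProduct_mulVec, ← Matrix.mulVec_transpose, hB, dotProduct_comm]
  rw [QuadraticMap.polar, qf_apply, qf_apply, qf_apply, Matrix.mulVec_add, dotProduct_add,
    add_dotProduct, add_dotProduct, hsym]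
  field_simp
  ring

theorem gram_qf (h2 : (2 : F) ≠ 0) {B : Matrix I I F} (hB : Bᵀ = B) : gram (qf B) = B := by
  ext i j
  rw [gram_apply, polar_qf h2 hB, Matrix.mulVec_single_one, single_dotProduct, one_mul]
  rfl

theorem qf_nondeg (h2 : (2 : F) ≠ 0) {B : Matrix I I F} (hB : Bᵀ = B) (hu : IsUnit B) :
    (QuadraticMap.polarBilin (qf B)).Nondegenerate := by
  rw [nondeg_iff_det, gram_qf h2 hB]
  exact ((Matrix.isUnit_iff_isUnit_det _).1 hu).ne_zero

theorem qf_mulVec {B U : Matrix I I F} (hinv : Uᵀ * B * U = B) (v : I → F) :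
    qf B (U *ᵥ v) = qf B v := by
  rw [qf_apply, qf_apply]
  congr 1
  conv_rhs => rw [← hinv]
  rw [← Matrix.mulVec_mulVec, ← Matrix.mulVec_mulVec,
    Matrix.dotProduct_mulVec v Uᵀ, Matrix.vecMul_transpose]

/-- the Gram matrix after reindexing the coordinates -/
theorem gram_comp_funCongrLeft (Q : QuadraticForm F (I → F)) (e : I ≃ ι) :
    gram (Q.comp (LinearEquiv.funCongrLeft F F e).toLinearMap)
      = (gram Q).submatrix e.symm e.symm := by
  ext a b
  rw [Matrix.submatrix_apply, gram_apply, gram_apply]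
  have h1 : ∀ c : ι, (LinearEquiv.funCongrLeft F F e) (Pi.single c (1 : F))
      = Pi.single (e.symm c) (1 : F) := by
    intro c
    funext i
    show (Pi.single c (1 : F) : ι → F) (e i) = _
    rw [Pi.single_apply, Pi.single_apply]
    have : e i = c ↔ i = e.symm c := by
      constructor
      · rintro rfl; simp
      · rintro rfl; simp
    simp only [this]
  have h2 : ∀ x y, QuadraticMap.polar ⇑(Q.comp (LinearEquiv.funCongrLeft F F e).toLinearMap) x y
      = QuadraticMap.polar ⇑Q ((LinearEquiv.funCongrLeft F F e) x)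
          ((LinearEquiv.funCongrLeft F F e) y) := by
    intro x y
    simp only [QuadraticMap.polar, QuadraticMap.comp_apply, LinearEquiv.coe_coe, map_add]
  rw [h2, h1, h1]

/-- **Classification by the discriminant** on arbitrary index types (from S2623). -/
theorem exists_isometry_of_disc [Fintype F] (h2 : (2 : F) ≠ 0)
    (Q₁ : QuadraticForm F (I → F)) (Q₀ : QuadraticForm F (ι → F))
    (h₁ : (QuadraticMap.polarBilin Q₁).Nondegenerate)
    (h₀ : (QuadraticMap.polarBilin Q₀).Nondegenerate)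
    (hcard : Fintype.card I = Fintype.card ι)
    (hsq : IsSquare ((gram Q₁).det * (gram Q₀).det)) :
    ∃ g : (I → F) ≃ₗ[F] (ι → F), ∀ v, Q₀ (g v) = Q₁ v := by
  classical
  set n := Fintype.card ι with hn
  let e₀ : ι ≃ Fin n := Fintype.equivFin ι
  let e₁ : I ≃ Fin n := (Fintype.equivFin I).trans (finCongr hcard)
  let L₁ : (Fin n → F) ≃ₗ[F] (I → F) := LinearEquiv.funCongrLeft F F e₁
  let L₀ : (Fin n → F) ≃ₗ[F] (ι → F) := LinearEquiv.funCongrLeft F F e₀
  set Q₁' : QuadraticForm F (Fin n → F) := Q₁.comp L₁.toLinearMap with hQ₁'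
  set Q₀' : QuadraticForm F (Fin n → F) := Q₀.comp L₀.toLinearMap with hQ₀'
  have hg₁ : gram Q₁' = (gram Q₁).submatrix e₁.symm e₁.symm := gram_comp_funCongrLeft Q₁ e₁
  have hg₀ : gram Q₀' = (gram Q₀).submatrix e₀.symm e₀.symm := gram_comp_funCongrLeft Q₀ e₀
  have hd₁ : (gram Q₁').det = (gram Q₁).det := by
    rw [hg₁, Matrix.det_submatrix_equiv_self]
  have hd₀ : (gram Q₀').det = (gram Q₀).det := by
    rw [hg₀, Matrix.det_submatrix_equiv_self]
  have hn₁ : (QuadraticMap.polarBilin Q₁').Nondegenerate := by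
    rw [nondeg_iff_det, hd₁, ← nondeg_iff_det]
    exact h₁
  have hn₀ : (QuadraticMap.polarBilin Q₀').Nondegenerate := by
    rw [nondeg_iff_det, hd₀, ← nondeg_iff_det]
    exact h₀
  have key := (Cfsg.Agent.S2623.result h2 Q₁' Q₀' hn₁ hn₀).2
    (by rw [← gram_eq_of, ← gram_eq_of, hd₁, hd₀]; exact hsq)
  obtain ⟨g', hg'⟩ := key
  refine ⟨(L₁.symm.trans g').trans L₀, ?_⟩
  intro v
  have h1 : Q₀ (((L₁.symm.trans g').trans L₀) v) = Q₀' (g' (L₁.symm v)) := by
    rw [hQ₀', QuadraticMap.comp_apply]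
    rfl
  rw [h1, hg', hQ₁', QuadraticMap.comp_apply]
  simp

end Cfsg.Agent.Helper7.OrthUni
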