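import Cfsg.Agent.Helper7.OrthUni2
import Cfsg.Agent.Helper7.OrthUni3
import Cfsg.Agent.Helper28.POmegaCard
import Cfsg.Prelude.Def_GeometricClasses

/-!
# Unipotent isometries of prescribed Jordan type, part 4 (helper7)

For ANY nondegenerate quadratic form `Q₀` over a finite field of odd characteristic `p` and any
multiset `μ` of sizes in `[1,p]` with even parts of even multiplicity, containing an odd part and
of sum the dimension: an element of `Ω(Q₀)` with `x ^ p = 1` and Jordan type `μ`.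
-/

set_option autoImplicit false
set_option linter.unusedSectionVars false

namespace Cfsg.Agent.Helper7.OrthUni

open Matrix Cfsg.Agent.Helper21.Jordan

variable {F : Type*} [Field F]

theorem two_ne_zero_of_char {p : ℕ} [hp : Fact p.Prime] [CharP F p] (hp2 : p ≠ 2) :
    (2 : F) ≠ 0 := by
  intro h
  have h1 : ((2 : ℕ) : F) = 0 := by exact_mod_cast h
  rw [CharP.cast_eq_zero_iff F p] at h1
  exact hp2 ((Nat.prime_dvd_prime_iff_eq hp.out Nat.prime_two).1 h1)

theorem isSquare_mul_of_not [Fintype F] (h2 : (2 : F) ≠ 0) {a b : F} (ha0 : a ≠ 0) (hb0 : b ≠ 0)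
    (ha : ¬ IsSquare a) (hb : ¬ IsSquare b) : IsSquare (a * b) := by
  have hchar : ringChar F ≠ 2 := by
    intro h
    apply h2
    have : ((2 : ℕ) : F) = 0 := by
      rw [← h]
      exact ringChar.Nat.cast_ringChar
    simpa using this
  rw [FiniteField.isSquare_iff hchar ha0] at ha
  rw [FiniteField.isSquare_iff hchar hb0] at hb
  rw [FiniteField.isSquare_iff hchar (mul_ne_zero ha0 hb0), mul_pow]
  rcases FiniteField.pow_dichotomy hchar ha0 with h | h
  · exact absurd h ha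
  · rcases FiniteField.pow_dichotomy hchar hb0 with h' | h'
    · exact absurd h' hb
    · rw [h, h']
      ring

/-- an element of odd prime-power-free order in a normal subgroup of index 4 -/
theorem mem_of_pow_eq_one_of_index_four {G : Type*} [Group G] (H : Subgroup G) [H.Normal]
    (hidx : H.index = 4) (g : G) (p : ℕ) (hodd : Odd p) (hg : g ^ p = 1) : g ∈ H := by
  obtain ⟨k, rfl⟩ := hodd
  have h4 : g ^ 4 ∈ H := by
    have := Subgroup.pow_index_mem H g
    rwa [hidx] at this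
  have h1 : g ^ ((2 * k + 1) * (2 * k + 1)) = 1 := by
    rw [pow_mul, hg, one_pow]
  have h2 : (2 * k + 1) * (2 * k + 1) = 4 * (k * k + k) + 1 := by ring
  rw [h2, pow_succ, pow_mul] at h1
  have h3 : g = ((g ^ 4) ^ (k * k + k))⁻¹ := eq_inv_of_mul_eq_one_right h1
  rw [h3]
  exact H.inv_mem (H.pow_mem h4 _)

theorem pow_char_eq_one_of_nilpotent {ι : Type*} [Fintype ι] [DecidableEq ι] {p : ℕ}
    [Fact p.Prime] [CharP F p] (X : Matrix ι ι F) (h : (X - 1) ^ p = 0) : X ^ p = 1 := by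
  rcases isEmpty_or_nonempty ι with he | hne
  · exact Subsingleton.elim _ _
  · have hX : X = (X - 1) + 1 := by abel
    rw [hX, add_pow_char_of_commute p (Commute.one_right _), h, one_pow, zero_add]

/-- **Existence**: an element of `Ω(Q₀)` of prescribed Jordan type. -/
theorem exists_omega_of_type [Fintype F] {p : ℕ} [Fact p.Prime] [CharP F p] (hp2 : p ≠ 2)
    {ι : Type} [Fintype ι] [DecidableEq ι] (Q₀ : QuadraticForm F (ι → F))
    (hQ₀ : (QuadraticMap.polarBilin Q₀).Nondegenerate) (hn : 2 ≤ Fintype.card ι)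
    (μ : Multiset ℕ) (hμ : ∀ b ∈ μ, 0 < b ∧ b ≤ p)
    (hpar : ∀ e : ℕ, Even e → Even (μ.count e))
    (hsum : μ.sum = Fintype.card ι) (j : ℕ) (hj : j ∈ μ) (hjodd : Odd j) :
    ∃ x : GL ι F, x ∈ Cfsg.Geo.omegaGL (⇑Q₀) ∧ x ^ p = 1 ∧
      IsJordan (toLin' (x : Matrix ι ι F) - 1) ⊤ μ := by
  classical
  have hp : p.Prime := Fact.out
  have h2 : (2 : F) ≠ 0 := two_ne_zero_of_char hp2
  obtain ⟨I, _, _, U, B, B', hcard, hBu, hBs, hBi, hB'u, hB's, hB'i, hnsq, hJ⟩ :=
    exists_matrix_of_type h2 μ (fun b hb => (hμ b hb).1) hpar j hj hjodd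
  have hδ₀ : (gram Q₀).det ≠ 0 := (nondeg_iff_det Q₀).1 hQ₀
  -- choose the form with the right discriminant
  obtain ⟨Bs, hBsu, hBss, hBsi, hsq⟩ : ∃ Bs : Matrix I I F, IsUnit Bs ∧ Bsᵀ = Bs ∧
      Uᵀ * Bs * U = Bs ∧ IsSquare (Bs.det * (gram Q₀).det) := by
    by_cases h1 : IsSquare (B.det * (gram Q₀).det)
    · exact ⟨B, hBu, hBs, hBi, h1⟩
    · by_cases h1' : IsSquare (B'.det * (gram Q₀).det)
      · exact ⟨B', hB'u, hB's, hB'i, h1'⟩
      · exfalso
        have hd : B.det ≠ 0 := ((Matrix.isUnit_iff_isUnit_det _).1 hBu).ne_zero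
        have hd' : B'.det ≠ 0 := ((Matrix.isUnit_iff_isUnit_det _).1 hB'u).ne_zero
        obtain ⟨r, hr⟩ := isSquare_mul_of_not h2 (mul_ne_zero hd hδ₀) (mul_ne_zero hd' hδ₀) h1 h1'
        apply hnsq
        refine ⟨r / (gram Q₀).det, ?_⟩
        field_simp
        have e : r ^ 2 = r * r := sq r
        rw [e, ← hr]
        ring
  -- the isometry to `Q₀`
  have hnd : (QuadraticMap.polarBilin (qf Bs)).Nondegenerate := qf_nondeg h2 hBss hBsu
  obtain ⟨g, hg⟩ := exists_isometry_of_disc h2 (qf Bs) Q₀ hnd hQ₀ (by rw [hcard, hsum])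
    (by rw [gram_qf h2 hBss]; exact hsq)
  -- transport
  set u₀ : Module.End F (ι → F) := g.conj (toLin' U) with hu₀
  have hu₀_apply : ∀ v, u₀ (g v) = g (U *ᵥ v) := by
    intro v
    rw [hu₀, LinearEquiv.conj_apply_apply, LinearEquiv.symm_apply_apply, Matrix.toLin'_apply]
  set X : Matrix ι ι F := LinearMap.toMatrix' u₀ with hX
  have hXlin : toLin' X = u₀ := Matrix.toLin'_toMatrix' u₀
  have hJX : IsJordan (toLin' X - 1) ⊤ μ := by
    refine hJ.conj _ g ?_
    intro v
    rw [hXlin, LinearMap.sub_apply, Module.End.one_apply, hu₀_apply, Matrix.toLin'_apply,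
      Matrix.sub_mulVec, Matrix.one_mulVec, map_sub]
  have hXp : X ^ p = 1 := by
    apply pow_char_eq_one_of_nilpotent
    have h1 : (toLin' X - 1) ^ p = 0 := (hJX.pow_eq_zero_iff p).2 (fun a ha => (hμ a ha).2)
    have h3 : toLin' (X - 1) = toLin' X - 1 := by
      rw [map_sub, Matrix.toLin'_one]
      rfl
    have h4 : toLin' ((X - 1) ^ p) = 0 := by
      rw [Matrix.toLin'_pow, h3, h1]
    exact (Matrix.toLin' (R := F)).injective (by rw [h4, map_zero])
  have hp0 : p ≠ 0 := hp.ne_zero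
  set x : GL ι F := Units.ofPowEqOne X p hXp hp0 with hx
  have hxval : (x : Matrix ι ι F) = X := rfl
  have hxp : x ^ p = 1 := by
    apply Units.ext
    rw [Units.val_pow_eq_pow_val, hxval, hXp, Units.val_one]
  have hiso : x ∈ Cfsg.isometryGroup F ⇑Q₀ := by
    rw [Cfsg.Agent.Helper28.IsoTransport.mem_isometryGroup_iff]
    intro w
    obtain ⟨v, rfl⟩ := g.surjective w
    rw [hxval, ← Matrix.toLin'_apply, hXlin, hu₀_apply, hg, hg, qf_mulVec hBsi]
  refine ⟨x, ?_, hxp, hJX⟩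
  unfold Cfsg.Geo.omegaGL
  rw [Subgroup.mem_map]
  refine ⟨⟨x, hiso⟩, ?_, rfl⟩
  apply mem_of_pow_eq_one_of_index_four _
    (Cfsg.Agent.Helper28.OC.index_Omega_odd Q₀ h2 hQ₀ hn) _ p (hp.odd_of_ne_two hp2)
  apply Subtype.ext
  rw [SubgroupClass.coe_pow]
  exact hxp

end Cfsg.Agent.Helper7.OrthUni
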