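import Cfsg.Agent.Helper7.GraphPSL5
import Cfsg.Agent.Helper7.OrthUni4
import Cfsg.Agent.S2620
import Cfsg.Agent.S2621
import Cfsg.Agent.S2617
import Cfsg.Agent.S2562

/-!
# Graph automorphisms of `PSL_n`, part 6 (helper7)

Plus and minus type: the centralizer of a symmetric graph automorphism of `PSL_{2m}(q)`, `q` odd,
according to the discriminant.
-/

set_option autoImplicit false
set_option linter.unusedSectionVars false

namespace Cfsg.Agent.Helper7.GraphPSL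

open scoped Matrix
open Cfsg.Agent.Helper7.OrthUni

variable {F : Type*} [Field F]

theorem two_ne_zero_of_odd_card [Fintype F] (hodd : Odd (Fintype.card F)) : (2 : F) ≠ 0 := by
  intro h
  have h1 : ((2 : ℕ) : F) = 0 := by exact_mod_cast h
  have h3 : ringChar F ∣ 2 := (ringChar.spec F 2).1 h1
  have h4 : ringChar F = 2 := by
    rcases (Nat.dvd_prime Nat.prime_two).1 h3 with h | h
    · exfalso
      have := ringChar.charP F
      exact CharP.ringChar_ne_one h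
    · exact h
  have := FiniteField.even_card_iff_char_two.1 h4
  rcases hodd with ⟨k, hk⟩
  omega

theorem gram_Qp_det_isSquare_iff [Fintype F] (hodd : Odd (Fintype.card F)) {m : ℕ} (hm : 1 ≤ m) :
    IsSquare (gram (Cfsg.Agent.S2617.Qp m F)).det ↔ Even (m * (Fintype.card F - 1) / 2) := by
  classical
  rw [gram_eq_of, Cfsg.Agent.S2617.Qp_coe]
  have := Cfsg.Agent.S2620.result (F := F) rfl hodd hm (Pi.basisFun F (Fin m ⊕ Fin m))
  simp only [Pi.basisFun_apply] at this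
  exact this

theorem gram_Qm_det_isSquare_iff [Fintype F] (hodd : Odd (Fintype.card F)) {m : ℕ} (hm : 1 ≤ m)
    (a c : F) (hac : ∀ z₁ z₂ : F, z₁ ^ 2 + a * z₁ * z₂ + c * z₂ ^ 2 = 0 → z₁ = 0 ∧ z₂ = 0) :
    IsSquare (gram (Cfsg.Agent.S2562.Qm (m - 1) F a c)).det
      ↔ ¬ Even (m * (Fintype.card F - 1) / 2) := by
  classical
  rw [gram_eq_of, Cfsg.Agent.S2562.Qm_coe]
  have := Cfsg.Agent.S2621.result (F := F) rfl hodd hm a c hac
    (Pi.basisFun F ((Fin (m - 1) ⊕ Fin (m - 1)) ⊕ Fin 2))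
  simp only [Pi.basisFun_apply] at this
  exact this

theorem exists_nonsquare_of_two_ne_zero [Fintype F] (h2 : (2 : F) ≠ 0) : ∃ ν : F, ¬ IsSquare ν := by
  apply FiniteField.exists_nonsquare
  intro h
  apply h2
  have : ((2 : ℕ) : F) = 0 := by
    rw [← h]
    exact ringChar.Nat.cast_ringChar
  exact_mod_cast this

theorem exists_anisotropic [Fintype F] (h2 : (2 : F) ≠ 0) :
    ∃ a b : F, (∀ z₁ z₂ : F, z₁ ^ 2 + a * z₁ * z₂ + b * z₂ ^ 2 = 0 → z₁ = 0 ∧ z₂ = 0)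
      ∧ 4 * b - a ^ 2 ≠ 0 := by
  obtain ⟨ν, hν⟩ := exists_nonsquare_of_two_ne_zero h2
  have hν0 : ν ≠ 0 := by
    rintro rfl
    exact hν ⟨0, by ring⟩
  refine ⟨0, -ν, ?_, ?_⟩
  · intro z₁ z₂ h
    have hz2 : z₂ = 0 := by
      by_contra hz
      apply hν
      refine ⟨z₁ / z₂, ?_⟩
      field_simp
      linear_combination -h
    subst hz2
    refine ⟨?_, rfl⟩
    have : z₁ ^ 2 = 0 := by linear_combination h
    exact pow_eq_zero_iff (two_ne_zero) |>.1 this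
  · have h4 : (4 : F) ≠ 0 := by
      have : (4 : F) = 2 * 2 := by norm_num
      rw [this]
      exact mul_ne_zero h2 h2
    intro h
    have : (4 : F) * ν = 0 := by linear_combination -h
    rcases mul_eq_zero.1 this with h | h
    · exact h4 h
    · exact hν0 h

/-- the generic form: symmetric `g₀` and a quadratic form on `2m` coordinates whose discriminant
is in the same square class -/
theorem centralizer_graphAut_quad' [Fintype F] (h2 : (2 : F) ≠ 0) {m : ℕ}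
    {ι' : Type} [Fintype ι'] [DecidableEq ι']
    (g₀ : GL (Fin (2 * m)) F)
    (hsym : (g₀ : Matrix (Fin (2 * m)) (Fin (2 * m)) F)ᵀ = (g₀ : Matrix (Fin (2 * m)) (Fin (2 * m)) F))
    (Q' : QuadraticForm F (ι' → F)) (hQ' : (QuadraticMap.polarBilin Q').Nondegenerate)
    (hcard : Fintype.card ι' = 2 * m)
    (hsq : IsSquare (g₀ : Matrix (Fin (2 * m)) (Fin (2 * m)) F).det ↔ IsSquare (gram Q').det) :
    Nonempty (↥(Cfsg.inndiagPSL (2 * m) F ⊓ Subgroup.centralizer {graphAut g₀})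
      ≃* Cfsg.PGO F ⇑Q') := by
  apply centralizer_graphAut_quad h2 g₀ hsym Q' hQ' hcard
  rw [Matrix.det_smul, Fintype.card_fin, pow_mul', mul_assoc]
  have hd0 : (g₀ : Matrix (Fin (2 * m)) (Fin (2 * m)) F).det ≠ 0 :=
    ((Matrix.isUnit_iff_isUnit_det _).1 g₀.isUnit).ne_zero
  have hq0 : (gram Q').det ≠ 0 := (nondeg_iff_det Q').1 hQ'
  apply IsSquare.mul (IsSquare.sq _)
  by_cases h : IsSquare (g₀ : Matrix (Fin (2 * m)) (Fin (2 * m)) F).det
  · exact h.mul (hsq.1 h)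
  · exact isSquare_mul_of_not h2 hd0 hq0 h (fun h' => h (hsq.2 h'))

theorem centralizer_plus [Fintype F] (hodd : Odd (Fintype.card F)) {m : ℕ} (hm : 1 ≤ m)
    (g₀ : GL (Fin (2 * m)) F)
    (hsym : (g₀ : Matrix (Fin (2 * m)) (Fin (2 * m)) F)ᵀ = (g₀ : Matrix (Fin (2 * m)) (Fin (2 * m)) F))
    (hsq : IsSquare (g₀ : Matrix (Fin (2 * m)) (Fin (2 * m)) F).det
      ↔ Even (m * (Fintype.card F - 1) / 2)) :
    Nonempty (↥(Cfsg.inndiagPSL (2 * m) F ⊓ Subgroup.centralizer {graphAut g₀})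
      ≃* Cfsg.PGO F (Cfsg.quadFormPlus m F)) := by
  have h2 := two_ne_zero_of_odd_card hodd
  have := centralizer_graphAut_quad' h2 g₀ hsym (Cfsg.Agent.S2617.Qp m F)
    (Cfsg.Agent.S2617.Qp_nondeg m F) (by simp; ring)
    (by rw [hsq, gram_Qp_det_isSquare_iff hodd hm])
  rw [Cfsg.Agent.S2617.Qp_coe] at this
  exact this

theorem centralizer_minus [Fintype F] (hodd : Odd (Fintype.card F)) {m : ℕ} (hm : 1 ≤ m)
    (g₀ : GL (Fin (2 * m)) F)
    (hsym : (g₀ : Matrix (Fin (2 * m)) (Fin (2 * m)) F)ᵀ = (g₀ : Matrix (Fin (2 * m)) (Fin (2 * m)) F))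
    (hsq : IsSquare (g₀ : Matrix (Fin (2 * m)) (Fin (2 * m)) F).det
      ↔ ¬ Even (m * (Fintype.card F - 1) / 2))
    (a c : F) (hac : ∀ z₁ z₂ : F, z₁ ^ 2 + a * z₁ * z₂ + c * z₂ ^ 2 = 0 → z₁ = 0 ∧ z₂ = 0)
    (hac' : 4 * c - a ^ 2 ≠ 0) :
    Nonempty (↥(Cfsg.inndiagPSL (2 * m) F ⊓ Subgroup.centralizer {graphAut g₀})
      ≃* Cfsg.PGO F (Cfsg.quadFormMinus (m - 1) F a c)) := by
  have h2 := two_ne_zero_of_odd_card hodd
  have := centralizer_graphAut_quad' h2 g₀ hsym (Cfsg.Agent.S2562.Qm (m - 1) F a c)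
    (Cfsg.Agent.S2562.Qm_nondeg (m - 1) F a c hac')
    (by simp only [Fintype.card_sum, Fintype.card_fin]; omega)
    (by rw [hsq, gram_Qm_det_isSquare_iff hodd hm a c hac])
  rw [Cfsg.Agent.S2562.Qm_coe] at this
  exact this

end Cfsg.Agent.Helper7.GraphPSL
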