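import Mathlib
import Cfsg.Agent.Helper10.S2092.DefsP
import Cfsg.Agent.Helper23.S2092PBASIC
import Cfsg.Agent.Helper16.S2092SOFTC

set_option autoImplicit false
set_option linter.unusedSectionVars false
set_option linter.unusedVariables false

/-! S2092 part P, piece GENP (driver helper10; helper7): the simple root subgroups and their opposites
generate a group generated by root elements with the relations of type `C_n` (all characteristics: the long
root elements are reached through the Weyl elements of the simple short roots). -/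

namespace Cfsg.Agent.S2092P

open scoped commutatorElement
open Matrix Cfsg.Agent.S3352P Cfsg.Agent.S2096P Cfsg.Agent.S2094P Cfsg.Agent.RGD

variable {n : ℕ} {F : Type*} [Field F] {M : Type*} [Group M] {Ys : J n → J n → F → M}
  {Yl : J n → F → M} {π : M →* Matrix (J n) (J n) F}

namespace GENP

/-- the subgroup generated by the simple root subgroups and their opposites -/
def KS (Ys : J n → J n → F → M) (Yl : J n → F → M) : Subgroup M :=
  Subgroup.closure {g | ∃ s, (datumC Ys Yl).Simple s ∧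
    (g ∈ (datumC Ys Yl).U s ∨ g ∈ (datumC Ys Yl).U ((datumC Ys Yl).neg s))}

theorem comm_mem {K : Subgroup M} {x y : M} (hx : x ∈ K) (hy : y ∈ K) : ⁅x, y⁆ ∈ K := by
  rw [commutatorElement_def]
  exact K.mul_mem (K.mul_mem (K.mul_mem hx hy) (K.inv_mem hx)) (K.inv_mem hy)

theorem isRoot_ll {i j : Fin n} (h : i ≠ j) : IsRoot (Sum.inl i : J n) (Sum.inl j) :=
  ⟨fun h' => h (Sum.inl_injective h'), by simp⟩

theorem isRoot_rr {i j : Fin n} (h : i ≠ j) : IsRoot (Sum.inr i : J n) (Sum.inr j) :=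
  ⟨fun h' => h (Sum.inr_injective h'), by simp⟩

theorem isRoot_lr {i j : Fin n} (h : i ≠ j) : IsRoot (Sum.inl i : J n) (Sum.inr j) :=
  ⟨by simp, fun h' => h (by rw [ng_inr] at h'; exact Sum.inl_injective h')⟩

theorem isRoot_rl {i j : Fin n} (h : i ≠ j) : IsRoot (Sum.inr i : J n) (Sum.inl j) :=
  ⟨by simp, fun h' => h (by rw [ng_inl] at h'; exact Sum.inr_injective h')⟩

/-- the adjacent short root elements -/
theorem adj_mem (hY : CRel Ys Yl) (i j : Fin n) (h : j.val = i.val + 1) (t : F) :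
    Ys (Sum.inl i) (Sum.inl j) t ∈ KS Ys Yl ∧ Ys (Sum.inl j) (Sum.inl i) t ∈ KS Ys Yl := by
  have hij : i ≠ j := fun e => by rw [e] at h; omega
  have hs : (datumC Ys Yl).Simple ⟨RB.lg (Sum.inl i) (Sum.inl j), isRoot_ll hij⟩ :=
    ⟨i, j, h, rfl, rfl⟩
  constructor
  · apply Subgroup.subset_closure
    refine ⟨_, hs, Or.inl ?_⟩
    exact (mem_U_iff hY _).2 ⟨t, rfl⟩
  · apply Subgroup.subset_closure
    refine ⟨_, hs, Or.inr ?_⟩
    exact (mem_U_iff hY _).2 ⟨t, rfl⟩

/-- the last long root elements -/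
theorem last_mem (hY : CRel Ys Yl) (j : Fin n) (h : j.val + 1 = n) (t : F) :
    Yl (Sum.inl j) t ∈ KS Ys Yl ∧ Yl (Sum.inr j) t ∈ KS Ys Yl := by
  have hs : (datumC Ys Yl).Simple ⟨RB.sh (Sum.inl j), trivial⟩ := ⟨j, h, rfl⟩
  constructor
  · apply Subgroup.subset_closure
    refine ⟨_, hs, Or.inl ?_⟩
    exact (mem_U_iff hY _).2 ⟨t, rfl⟩
  · apply Subgroup.subset_closure
    refine ⟨_, hs, Or.inr ?_⟩
    exact (mem_U_iff hY _).2 ⟨t, rfl⟩

/-- step 1: the short root elements `Ys (e_i) (e_j)` -/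
theorem ll_mem_aux (hY : CRel Ys Yl) (d : ℕ) : ∀ i j : Fin n,
    (i.val + (d + 1) = j.val ∨ j.val + (d + 1) = i.val) → ∀ t : F,
      Ys (Sum.inl i) (Sum.inl j) t ∈ KS Ys Yl := by
  induction d with
  | zero =>
    intro i j h t
    rcases h with h | h
    · exact (adj_mem hY i j (by omega) t).1
    · exact (adj_mem hY j i (by omega) t).2
  | succ d ih =>
    intro i j h t
    rcases h with h | h
    · let k : Fin n := ⟨i.val + (d + 1), by have := j.isLt; omega⟩
      have hk : k.val = i.val + (d + 1) := rfl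
      have hik : i ≠ k := fun e => by rw [← e] at hk; omega
      have hkj : k ≠ j := fun e => by rw [e] at hk; omega
      have hij : i ≠ j := fun e => by rw [e] at h; omega
      have h1 := ih i k (Or.inl hk.symm) t
      have h2 := (adj_mem hY k j (by omega) (1 : F)).1
      have := hY.mul _ _ _ (isRoot_ll hik) (isRoot_ll hkj) (isRoot_ll hij) t 1
      rw [mul_one] at this
      rw [← this]
      exact comm_mem h1 h2
    · let k : Fin n := ⟨j.val + 1, by have := i.isLt; omega⟩
      have hk : k.val = j.val + 1 := rfl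
      have hik : i ≠ k := fun e => by rw [← e] at hk; omega
      have hkj : k ≠ j := fun e => by rw [e] at hk; omega
      have hij : i ≠ j := fun e => by rw [e] at h; omega
      have h1 := ih i k (Or.inr (by omega)) t
      have h2 := (adj_mem hY j k hk (1 : F)).2
      have := hY.mul _ _ _ (isRoot_ll hik) (isRoot_ll hkj) (isRoot_ll hij) t 1
      rw [mul_one] at this
      rw [← this]
      exact comm_mem h1 h2

theorem ll_mem (hY : CRel Ys Yl) {i j : Fin n} (h : i ≠ j) (t : F) :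
    Ys (Sum.inl i) (Sum.inl j) t ∈ KS Ys Yl := by
  have hv : i.val ≠ j.val := fun e => h (Fin.ext e)
  rcases Nat.lt_or_gt_of_ne hv with h' | h'
  · exact ll_mem_aux hY (j.val - i.val - 1) i j (Or.inl (by omega)) t
  · exact ll_mem_aux hY (i.val - j.val - 1) i j (Or.inr (by omega)) t

theorem rr_mem (hY : CRel Ys Yl) {i j : Fin n} (h : i ≠ j) (t : F) :
    Ys (Sum.inr i) (Sum.inr j) t ∈ KS Ys Yl := by
  have := hY.flip _ _ (isRoot_ll (Ne.symm h)) t
  rw [ng_inl, ng_inl] at this
  rw [this]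
  exact ll_mem hY (Ne.symm h) _

/-- the Weyl element of an adjacent pair -/
theorem wX_mem (hY : CRel Ys Yl) (i j : Fin n) (h : j.val = i.val + 1) :
    wX Ys (Sum.inl i) (Sum.inl j) (1 : F) ∈ KS Ys Yl := by
  unfold wX
  exact (KS Ys Yl).mul_mem ((KS Ys Yl).mul_mem (adj_mem hY i j h _).1 (adj_mem hY i j h _).2)
    (adj_mem hY i j h _).1

/-- step 2: one step of the downward induction -/
theorem long_step [Finite F] (hn : 2 ≤ n) (h : PHyp Ys Yl π) (i j : Fin n) (hij : j.val = i.val + 1)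
    (a : J n) (ha : a = Sum.inl j ∨ a = Sum.inr j)
    (hj : ∀ t : F, Yl a t ∈ KS Ys Yl) (t : F) :
    Yl (sw (Sum.inl i) (Sum.inl j) a) t ∈ KS Ys Yl := by
  have hne : i ≠ j := fun e => by rw [e] at hij; omega
  set s : RootB n := ⟨RB.lg (Sum.inl i) (Sum.inl j), isRoot_ll hne⟩ with hs
  have hsim : s.1.Simple := ⟨i, j, hij, rfl, rfl⟩
  have hm : wX Ys (Sum.inl i) (Sum.inl j) (1 : F) ∈ (datumC Ys Yl).nS s := ⟨1, one_ne_zero, rfl⟩
  set r : RootB n := ⟨RB.sh a, trivial⟩ with hr
  have hne' : ∀ q : RootB n, (∃ c d, q.1 = RB.lg c d) → r ≠ q := by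
    rintro q ⟨c, d, hq⟩ e
    have : (RB.sh a : RB n) = RB.lg c d := by rw [← hq, ← e]
    cases this
  obtain ⟨η, hη, hc⟩ := nS_conj_ne hn h hsim hm (r := r) (hne' _ ⟨_, _, rfl⟩) (hne' _ ⟨_, _, rfl⟩)
    (hne' _ ⟨_, _, rfl⟩) (hne' _ ⟨_, _, rfl⟩)
  have := hc (η⁻¹ * t)
  rw [mul_inv_cancel_left₀ hη] at this
  have e : xr Ys Yl (r.1.map s.1.perm) t = Yl (sw (Sum.inl i) (Sum.inl j) a) t := rfl
  rw [← e, ← this]
  exact (KS Ys Yl).mul_mem ((KS Ys Yl).mul_mem (wX_mem h.rel i j hij) (hj _))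
    ((KS Ys Yl).inv_mem (wX_mem h.rel i j hij))

/-- step 2: the long root elements -/
theorem long_mem_aux [Finite F] (hn : 2 ≤ n) (h : PHyp Ys Yl π) (d : ℕ) : ∀ i : Fin n,
    i.val + d + 1 = n → ∀ t : F, Yl (Sum.inl i) t ∈ KS Ys Yl ∧ Yl (Sum.inr i) t ∈ KS Ys Yl := by
  induction d with
  | zero =>
    intro i hi t
    exact last_mem h.rel i (by omega) t
  | succ d ih =>
    intro i hi t
    let j : Fin n := ⟨i.val + 1, by omega⟩
    have hij : j.val = i.val + 1 := rfl
    have hne : i ≠ j := fun e => by rw [← e] at hij; omega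
    have hj := ih j (by rw [hij]; omega)
    constructor
    · have := long_step hn h i j hij (Sum.inl j) (Or.inl rfl) (fun t => (hj t).1) t
      rwa [WCONJ.sw_right _ _ (isRoot_ll hne)] at this
    · have := long_step hn h i j hij (Sum.inr j) (Or.inr rfl) (fun t => (hj t).2) t
      have e : sw (Sum.inl i) (Sum.inl j) (Sum.inr j : J n) = Sum.inr i := by
        have := sw_ng (Sum.inl i) (Sum.inl j) (Sum.inl j : J n)
        rw [ng_inl, WCONJ.sw_right _ _ (isRoot_ll hne), ng_inl] at this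
        exact this
      rwa [e] at this

theorem long_mem [Finite F] (hn : 2 ≤ n) (h : PHyp Ys Yl π) (a : J n) (t : F) :
    Yl a t ∈ KS Ys Yl := by
  rcases a with i | i
  · exact (long_mem_aux hn h (n - 1 - i.val) i (by have := i.isLt; omega) t).1
  · exact (long_mem_aux hn h (n - 1 - i.val) i (by have := i.isLt; omega) t).2

/-- step 3: all short root elements -/
theorem short_mem [Finite F] (hn : 2 ≤ n) (h : PHyp Ys Yl π) {a b : J n} (hab : IsRoot a b) (u : F) :
    Ys a b u ∈ KS Ys Yl := by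
  rcases a with i | i <;> rcases b with j | j
  · exact ll_mem h.rel (fun e => hab.1 (by rw [e])) u
  · have hij : i ≠ j := fun e => hab.2 (by rw [e]; rfl)
    have := h.rel.sl _ _ (isRoot_ll hij) u 1
    rw [ng_inl, mul_one] at this
    have e : Ys (Sum.inl i) (Sum.inr j) u = ⁅Ys (Sum.inl i) (Sum.inl j) u, Yl (Sum.inl j) 1⁆ *
        (Yl (Sum.inl i) (sgF F (Sum.inl i : J n) * sgF F (Sum.inl j : J n) * u ^ 2 * 1))⁻¹ := by
      rw [this, mul_inv_cancel_right]
    rw [e]
    exact (KS Ys Yl).mul_mem (comm_mem (ll_mem h.rel hij u) (long_mem hn h _ _))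
      ((KS Ys Yl).inv_mem (long_mem hn h _ _))
  · have hij : i ≠ j := fun e => hab.2 (by rw [e]; rfl)
    have := h.rel.sl _ _ (isRoot_rr hij) u 1
    rw [ng_inr, mul_one] at this
    have e : Ys (Sum.inr i) (Sum.inl j) u = ⁅Ys (Sum.inr i) (Sum.inr j) u, Yl (Sum.inr j) 1⁆ *
        (Yl (Sum.inr i) (sgF F (Sum.inr i : J n) * sgF F (Sum.inr j : J n) * u ^ 2 * 1))⁻¹ := by
      rw [this, mul_inv_cancel_right]
    rw [e]
    exact (KS Ys Yl).mul_mem (comm_mem (rr_mem h.rel hij u) (long_mem hn h _ _))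
      ((KS Ys Yl).inv_mem (long_mem hn h _ _))
  · exact rr_mem h.rel (fun e => hab.1 (by rw [e])) u

end GENP

/-! ### GENP: the simple root subgroups and their opposites generate -/

theorem closure_simple_eq_top_c [Finite F] (hn : 2 ≤ n) (h : PHyp Ys Yl π)
    (hgen : Subgroup.closure (rootSet Ys Yl) = ⊤) :
    Subgroup.closure {g | ∃ s, (datumC Ys Yl).Simple s ∧
      (g ∈ (datumC Ys Yl).U s ∨ g ∈ (datumC Ys Yl).U ((datumC Ys Yl).neg s))} = ⊤ := by
  rw [eq_top_iff, ← hgen]
  apply (Subgroup.closure_le _).2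
  rintro g (⟨a, b, t, hab, rfl⟩ | ⟨a, t, rfl⟩)
  · exact GENP.short_mem hn h hab t
  · exact GENP.long_mem hn h a t

end Cfsg.Agent.S2092P
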