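import Mathlib
import Cfsg.Agent.Helper10.S2092.DefsP
import Cfsg.Agent.Helper23.S2092PBASIC

set_option autoImplicit false
set_option linter.unusedSectionVars false
set_option linter.unusedVariables false

/-! S2092 part P, piece CONJW (driver helper10; helper7): an element conjugating the two root subgroups
of a rank one group into those of another one conjugates the Weyl elements into Weyl elements. -/

namespace Cfsg.Agent.S2092P

open scoped commutatorElement
open Matrix Cfsg.Agent.S3352P Cfsg.Agent.S2096P Cfsg.Agent.S2094P Cfsg.Agent.RGD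

variable {n : ℕ} {F : Type*} [Field F] {M : Type*} [Group M] {Ys : J n → J n → F → M}
  {Yl : J n → F → M} {π : M →* Matrix (J n) (J n) F}

namespace CONJW

/-- the nilpotent part of the model root elements of a name -/
def Em (r : RB n) : Matrix (J n) (J n) F := xrm r 1 - 1

theorem xrm_eq (r : RB n) (u : F) : xrm r u = 1 + u • (Em r : Matrix (J n) (J n) F) := by
  cases r with
  | lg a b =>
    unfold Em xrm xs
    simp only [one_smul, add_sub_cancel_left]
  | sh a =>
    unfold Em xrm xl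
    simp only [one_smul, add_sub_cancel_left]

theorem Em_lg (a b : J n) : (Em (RB.lg a b) : Matrix (J n) (J n) F) =
    Matrix.single a b (1 : F) - (sgF F a * sgF F b) • Matrix.single (ng b) (ng a) (1 : F) := by
  unfold Em xrm xs
  simp only [one_smul, add_sub_cancel_left]

theorem Em_sh (a : J n) : (Em (RB.sh a) : Matrix (J n) (J n) F) = Matrix.single a (ng a) (1 : F) := by
  unfold Em xrm xl
  simp only [one_smul, add_sub_cancel_left]

theorem Em_ne_zero {r : RB n} (hr : r.Valid) : (Em r : Matrix (J n) (J n) F) ≠ 0 := by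
  cases r with
  | lg a b =>
    intro h
    have h1 := congrFun (congrFun h a) b
    rw [Em_lg] at h1
    have hne : ¬ (ng b = a ∧ ng a = b) := fun hh => hr.2 hh.1.symm
    simp [Matrix.single_apply, hne] at h1
  | sh a =>
    intro h
    have h1 := congrFun (congrFun h a) (ng a)
    rw [Em_sh] at h1
    simp [Matrix.single_apply] at h1

theorem Em_triple {r : RB n} (hr : r.Valid) :
    (Em r : Matrix (J n) (J n) F) * Em r.neg * Em r = Em r := by
  cases r with
  | lg a b =>
    have h1 : a ≠ b := hr.1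
    have h2 : a ≠ ng b := hr.2
    have h3 : ng a ≠ b := fun h => h2 (by rw [← h, ng_ng])
    have h4 : ng a ≠ ng b := fun h => h1 (ng_injective h)
    show (Em (RB.lg a b) : Matrix (J n) (J n) F) * Em (RB.lg b a) * Em (RB.lg a b) = _
    rw [Em_lg, Em_lg]
    have e : sgF F b * sgF F a = sgF F a * sgF F b := mul_comm _ _
    rw [e]
    have hε : (sgF F a * sgF F b) * (sgF F a * sgF F b) = (1 : F) := by
      have := sgF_mul_self F a
      have := sgF_mul_self F b
      calc (sgF F a * sgF F b) * (sgF F a * sgF F b)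
          = (sgF F a * sgF F a) * (sgF F b * sgF F b) := by ring
        _ = 1 := by rw [sgF_mul_self, sgF_mul_self, one_mul]
    simp only [Matrix.sub_mul, Matrix.mul_sub, Matrix.smul_mul, Matrix.mul_smul,
      Matrix.single_mul_single_same, Matrix.single_mul_single_of_ne _ _ _ _ h2.symm,
      Matrix.single_mul_single_of_ne _ _ _ _ h3.symm, Matrix.single_mul_single_of_ne _ _ _ _ h2,
      Matrix.single_mul_single_of_ne _ _ _ _ h3, Matrix.single_mul_single_of_ne _ _ _ _ h1,
      Matrix.single_mul_single_of_ne _ _ _ _ h1.symm, Matrix.single_mul_single_of_ne _ _ _ _ h4,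
      Matrix.single_mul_single_of_ne _ _ _ _ h4.symm, mul_one, smul_zero, sub_zero, zero_sub,
      Matrix.zero_mul, Matrix.mul_zero, smul_smul, hε, one_smul, neg_zero, smul_neg, neg_neg,
      Matrix.neg_mul, Matrix.mul_neg]
  | sh a =>
    show (Em (RB.sh a) : Matrix (J n) (J n) F) * Em (RB.sh (ng a)) * Em (RB.sh a) = _
    rw [Em_sh, Em_sh, ng_ng]
    simp only [Matrix.single_mul_single_same, mul_one]

end CONJW

open CONJW

theorem conj_nS_mem (h : PHyp Ys Yl π) {v : M} {s s' : RootB n}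
    (hU : ∀ x ∈ (datumC Ys Yl).U s, v * x * v⁻¹ ∈ (datumC Ys Yl).U s')
    (hU' : ∀ x ∈ (datumC Ys Yl).U ((datumC Ys Yl).neg s),
      v * x * v⁻¹ ∈ (datumC Ys Yl).U ((datumC Ys Yl).neg s'))
    {m : M} (hm : m ∈ (datumC Ys Yl).nS s) : v * m * v⁻¹ ∈ (datumC Ys Yl).nS s' := by
  obtain ⟨t, ht, rfl⟩ := (mem_nS_iff h.rel s).1 hm
  rw [mem_nS_iff h.rel s']
  obtain ⟨t₁, h1⟩ := (mem_U_iff h.rel s').1
    (hU _ ((mem_U_iff h.rel s).2 ⟨t, rfl⟩))
  obtain ⟨t₂, h2⟩ := (mem_U_iff h.rel ((datumC Ys Yl).neg s')).1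
    (hU' _ ((mem_U_iff h.rel ((datumC Ys Yl).neg s)).2 ⟨-t⁻¹, rfl⟩))
  have h2' : v * xr Ys Yl s.1.neg (-t⁻¹) * v⁻¹ = xr Ys Yl s'.1.neg t₂ := h2
  -- the images under `π`
  have hπ : ∀ r : RB n, r.Valid → ∀ u : F, π (xr Ys Yl r u) = xrm r u := by
    intro r hr u
    cases r with
    | lg a b => exact h.pis a b hr u
    | sh a => exact h.pil a u
  set A := π v with hA
  set A' := π v⁻¹ with hA'
  have hAA' : A * A' = 1 := by rw [hA, hA', ← map_mul, mul_inv_cancel, map_one]
  have hA'A : A' * A = 1 := by rw [hA, hA', ← map_mul, inv_mul_cancel, map_one]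
  have k1 : A * (t • (Em s.1 : Matrix (J n) (J n) F)) * A' = t₁ • Em s'.1 := by
    have := congrArg π h1
    rw [map_mul, map_mul, hπ _ s.2, hπ _ s'.2, xrm_eq, xrm_eq, Matrix.mul_add, Matrix.add_mul,
      mul_one, hAA'] at this
    exact add_left_cancel this
  have k2 : A * ((-t⁻¹) • (Em s.1.neg : Matrix (J n) (J n) F)) * A' = t₂ • Em s'.1.neg := by
    have := congrArg π h2'
    rw [map_mul, map_mul, hπ _ (RB.valid_neg s.2), hπ _ (RB.valid_neg s'.2), xrm_eq, xrm_eq,
      Matrix.mul_add, Matrix.add_mul, mul_one, hAA'] at this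
    exact add_left_cancel this
  -- `t₁ ≠ 0`
  have ht1 : t₁ ≠ 0 := by
    rintro rfl
    rw [zero_smul] at k1
    have : t • (Em s.1 : Matrix (J n) (J n) F) = 0 := by
      calc t • (Em s.1 : Matrix (J n) (J n) F) = (A' * A) * (t • Em s.1) * (A' * A) := by
            rw [hA'A, one_mul, mul_one]
        _ = A' * (A * (t • Em s.1) * A') * A := by simp only [mul_assoc]
        _ = 0 := by rw [k1, mul_zero, zero_mul]
    rcases smul_eq_zero.1 this with h0 | h0
    · exact ht h0
    · exact Em_ne_zero s.2 h0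
  -- the triple product
  have hX : (t • (Em s.1 : Matrix (J n) (J n) F)) * (-t⁻¹ • Em s.1.neg) * (t • Em s.1) =
      -(t • (Em s.1 * Em s.1.neg * Em s.1)) := by
    have e1 : (t • (Em s.1 : Matrix (J n) (J n) F)) * (-t⁻¹ • Em s.1.neg) * (t • Em s.1) =
        (t * -t⁻¹ * t) • (Em s.1 * Em s.1.neg * Em s.1) := by
      simp only [Matrix.smul_mul, Matrix.mul_smul, smul_smul]
      congr 1
      ring
    have e2 : t * -t⁻¹ * t = -t := by
      field_simp
    rw [e1, e2, neg_smul]
  have k3 : (t₁ • (Em s'.1 : Matrix (J n) (J n) F)) * (t₂ • Em s'.1.neg) * (t₁ • Em s'.1) =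
      -(t₁ • Em s'.1) := by
    rw [← k1, ← k2]
    calc A * (t • Em s.1) * A' * (A * (-t⁻¹ • Em s.1.neg) * A') * (A * (t • Em s.1) * A')
        = A * ((t • Em s.1) * (A' * A) * (-t⁻¹ • Em s.1.neg) * (A' * A) * (t • Em s.1)) * A' := by
          simp only [mul_assoc]
      _ = A * (-(t • (Em s.1 * Em s.1.neg * Em s.1))) * A' := by
          rw [hA'A, mul_one, mul_one, hX]
      _ = -(A * (t • Em s.1) * A') := by
          rw [Em_triple s.2, Matrix.mul_neg, Matrix.neg_mul]
  have k4 : (t₁ * t₂ * t₁ + t₁) • (Em s'.1 : Matrix (J n) (J n) F) = 0 := by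
    have e : (t₁ • (Em s'.1 : Matrix (J n) (J n) F)) * (t₂ • Em s'.1.neg) * (t₁ • Em s'.1) =
        (t₁ * t₂ * t₁) • Em s'.1 := by
      simp only [Matrix.smul_mul, Matrix.mul_smul, smul_smul]
      rw [Em_triple s'.2]
      congr 1
      ring
    rw [e] at k3
    rw [add_smul, k3, neg_add_cancel]
  have k5 : t₁ * t₂ * t₁ + t₁ = 0 := by
    rcases smul_eq_zero.1 k4 with h0 | h0
    · exact h0
    · exact absurd h0 (Em_ne_zero s'.2)
  have k6 : t₂ = -t₁⁻¹ := by
    have : t₁ * (t₂ * t₁ + 1) = 0 := by linear_combination k5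
    rcases mul_eq_zero.1 this with h0 | h0
    · exact absurd h0 ht1
    · field_simp
      linear_combination h0
  refine ⟨t₁, ht1, ?_⟩
  have e : v * (xr Ys Yl s.1 t * xr Ys Yl s.1.neg (-t⁻¹) * xr Ys Yl s.1 t) * v⁻¹ =
      (v * xr Ys Yl s.1 t * v⁻¹) * (v * xr Ys Yl s.1.neg (-t⁻¹) * v⁻¹) *
        (v * xr Ys Yl s.1 t * v⁻¹) := by group
  rw [e, h1, h2', k6]

end Cfsg.Agent.S2092P
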