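import Mathlib
import Cfsg.Agent.Helper10.S2092.DefsQ

set_option autoImplicit false
set_option linter.unusedSectionVars false
set_option linter.unusedVariables false

/-! S2092, part T for `|F| = 2`, `n ≥ 4`, piece QCL45 (driver helper10; hedge by helper7): lifts of a short and a
long root element which commute, commute (`n ≥ 4`, any field): the commutator trick with a fourth index. -/

namespace Cfsg.Agent.S2092P

open scoped commutatorElement
open Cfsg.Agent.S3352P Cfsg.Agent.S2096P
open Cfsg.Agent.S2086P (CL cl)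

variable {n : ℕ} {F : Type*} [Field F] {G : Type*} [Group G] {E : Type*} [Group E]
  {Xs : J n → J n → F → G} {Xl : J n → F → G}

theorem cl_short_long (hn : 4 ≤ n) (h : CRel Xs Xl) (ψ : E →* G) (hψ : Function.Surjective ψ)
    (hc : ψ.ker ≤ Subgroup.center E) {a b c : J n} (hab : IsRoot a b) (h1 : c ≠ b) (h2 : c ≠ ng a)
    (s t : F) : CL ψ (Xs a b s) (Xl c t) := by
  obtain ⟨m, hm1, hm2, hm3⟩ := Cfsg.Agent.S2086P.exists_fourth hn (ab a) (ab b) (ab c)
  have hk : ab (Sum.inl m : J n) = m := rfl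
  have hak : IsRoot a (Sum.inl m) := isRoot_iff_ab.2 (by rw [hk]; exact hm1.symm)
  have hkb : IsRoot (Sum.inl m : J n) b := isRoot_iff_ab.2 (by rw [hk]; exact hm2)
  have hck : c ≠ Sum.inl m := fun e => hm3 (by rw [e, hk])
  have hck' : c ≠ ng (Sum.inl m) := fun e => hm3 (by rw [e, ab_ng, hk])
  have c1 : Commute (Xl c t) (Xs a (Sum.inl m) s) := (h.slcomm _ _ _ hak hck h2 s t).symm
  have c2 : Commute (Xl c t) (Xs (Sum.inl m) b 1) := (h.slcomm _ _ _ hkb h1 hck' 1 t).symm
  have := Cfsg.Agent.S2086P.CL_of_comm ψ hψ hc c1 c2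
  rw [h.mul _ _ _ hak hkb hab, mul_one] at this
  exact this.symm

end Cfsg.Agent.S2092P
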