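import Mathlib
import Cfsg.Agent.Helper2.S2096.Defs
import Cfsg.Agent.Helper13.PSLMI4
import Cfsg.Agent.Helper3.S2096HALFSTD
import Cfsg.Agent.Helper19.S2096C2H

set_option autoImplicit false
set_option linter.unusedSectionVars false
set_option linter.unusedVariables false

/-! S2096/S2097 part A, pieces YIND, YADD, YFLIP: the canonical lifts `Y` do not depend on the middle
index, are additive, and satisfy the flip relation. Everything is pulled back from type `A` through
the halves (`four_index`, `X_add` of S2086). -/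

namespace Cfsg.Agent.S2096P

open Cfsg.Agent.S3352P Cfsg.Agent.S3351P Cfsg.Agent.S2086P
open scoped commutatorElement

variable {n : ℕ} {F : Type*} [Field F] [Fintype F] {G : Type*} [Group G] {E : Type*} [Group E]
  {X : J n → J n → F → G}

namespace YIND

theorem three_le_of_big (hbig : Big n F) : 3 ≤ n := by
  rcases hbig with h | ⟨h, -⟩ <;> omega

theorem four_le_of_big (hbig : Big n F) : 4 ≤ n := by
  rcases hbig with h | ⟨h, -⟩ <;> omega

/-- the half containing the signed indices of a list -/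
noncomputable def hB (l : List (J n)) : Finset (Fin n) :=
  haveI : DecidablePred (fun i : Fin n => (Sum.inr i : J n) ∈ l) := Classical.decPred _
  Finset.univ.filter (fun i => (Sum.inr i : J n) ∈ l)

theorem mem_hB (l : List (J n)) (i : Fin n) : i ∈ hB l ↔ (Sum.inr i : J n) ∈ l := by
  unfold hB
  simp

theorem ab_half (B : Finset (Fin n)) (i : Fin n) : ab (half B i) = i := by
  unfold half
  split_ifs <;> rfl

theorem half_hB (l : List (J n)) (hl : ∀ x ∈ l, ∀ y ∈ l, ab x = ab y → x = y) (a : J n)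
    (ha : a ∈ l) : half (hB l) (ab a) = a := by
  unfold half
  rcases a with i | i
  · have : ¬ ((Sum.inr i : J n) ∈ l) := by
      intro h
      have := hl _ h _ ha rfl
      exact Sum.inr_ne_inl this
    rw [ab_inl, if_neg (by rw [mem_hB]; exact this)]
  · rw [ab_inr, if_pos (by rw [mem_hB]; exact ha)]

theorem isRoot_half (B : Finset (Fin n)) {i j : Fin n} (hij : i ≠ j) :
    IsRoot (half B i) (half B j) := by
  rw [isRoot_iff_ab, ab_half, ab_half]
  exact hij

theorem half_ne (B : Finset (Fin n)) {i j : Fin n} (hij : i ≠ j) : half B i ≠ half B j := by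
  intro h
  apply hij
  rw [← ab_half B i, ← ab_half B j, h]

theorem half_ne_ng (B : Finset (Fin n)) (i j : Fin n) : half B i ≠ ng (half B j) := by
  by_cases hij : i = j
  · rw [hij]
    exact (ng_ne _).symm
  · intro h
    apply hij
    rw [← ab_half B i, ← ab_half B j, h, ab_ng]

/-- (C2) for the Steinberg datum of a half -/
theorem hC2_half (hbig : Big n F) (hX : DRel X) (ψ : E →* G) (hψ : Function.Surjective ψ)
    (hc : ψ.ker ≤ Subgroup.center E) (B : Finset (Fin n)) (S : StD n F G)
    (hS : ∀ (a : Root n) (t : F), S.T a t = X (half B a.1.1) (half B a.1.2) t)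
    (a b : Root n) (t u : F) (h1 : a.1.1 ≠ b.1.2) (h2 : a.1.2 ≠ b.1.1) :
    CL ψ (S.T a t) (S.T b u) := by
  rw [hS, hS]
  exact cl_comm hbig hX ψ hψ hc (isRoot_half B a.2) (isRoot_half B b.2) (half_ne B h2)
    (half_ne B h1) (half_ne_ng B _ _) (half_ne_ng B _ _) (half_ne_ng B _ _) (half_ne_ng B _ _) t u

/-- the four index identity in type `D` -/
theorem four_index_D (hbig : Big n F) (hX : DRel X) (ψ : E →* G) (hψ : Function.Surjective ψ)
    (hc : ψ.ker ≤ Subgroup.center E) {a b c m : J n} (hab : ab a ≠ ab b) (hbc : ab b ≠ ab c)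
    (ham : ab a ≠ ab m) (hmc : ab m ≠ ab c) (hac : ab a ≠ ab c) (hbm : ab b ≠ ab m) (s t : F) :
    cl ψ hψ (X a b s) (X b c t) = cl ψ hψ (X a m (s * t)) (X m c 1) := by
  have hn : 3 ≤ n := three_le_of_big hbig
  set l : List (J n) := [a, b, c, m] with hl
  have hinj : ∀ x ∈ l, ∀ y ∈ l, ab x = ab y → x = y := by
    intro x hx y hy hxy
    simp only [hl, List.mem_cons, List.not_mem_nil, or_false] at hx hy
    rcases hx with rfl | rfl | rfl | rfl <;> rcases hy with rfl | rfl | rfl | rfl <;>
      first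
        | rfl
        | exact absurd hxy hab | exact absurd hxy.symm hab
        | exact absurd hxy hbc | exact absurd hxy.symm hbc
        | exact absurd hxy ham | exact absurd hxy.symm ham
        | exact absurd hxy hmc | exact absurd hxy.symm hmc
        | exact absurd hxy hac | exact absurd hxy.symm hac
        | exact absurd hxy hbm | exact absurd hxy.symm hbm
  obtain ⟨S, hS⟩ := exists_half_stD (F := F) hn hX (hB l)
  have ha : half (hB l) (ab a) = a := half_hB l hinj a (by simp [hl])
  have hb : half (hB l) (ab b) = b := half_hB l hinj b (by simp [hl])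
  have hc' : half (hB l) (ab c) = c := half_hB l hinj c (by simp [hl])
  have hm : half (hB l) (ab m) = m := half_hB l hinj m (by simp [hl])
  have key := four_index S ψ hψ hc (hC2_half hbig hX ψ hψ hc (hB l) S hS) (ab a) (ab b) (ab c)
    (ab m) hab hbc ham hmc hac hbm s t
  rw [hS, hS, hS, hS] at key
  simp only [rt_fst, rt_snd] at key
  rw [ha, hb, hc', hm] at key
  exact key

end YIND

/-- YIND -/
theorem cl_eq_Y (hbig : Big n F) (hX : DRel X) (ψ : E →* G) (hψ : Function.Surjective ψ)
    (hc : ψ.ker ≤ Subgroup.center E) (hn : 3 ≤ n) {a b c : J n} (hab : IsRoot a b)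
    (hbc : IsRoot b c) (hac : IsRoot a c) (s t : F) :
    cl ψ hψ (X a b s) (X b c t) = Y X ψ hψ hn a c (s * t) := by
  have hn4 : 4 ≤ n := YIND.four_le_of_big hbig
  have hab' := isRoot_iff_ab.1 hab
  have hbc' := isRoot_iff_ab.1 hbc
  have hac' := isRoot_iff_ab.1 hac
  have hka : ab (th hn a c) ≠ ab a := ab_th_ne_left hn a c
  have hkc : ab (th hn a c) ≠ ab c := ab_th_ne_right hn a c
  unfold Y
  by_cases hkb : ab (th hn a c) = ab b
  · obtain ⟨e0, he1, he2, he3⟩ := exists_fourth hn4 (ab a) (ab b) (ab c)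
    have hea : ab (Sum.inl e0 : J n) ≠ ab a := he1
    have heb : ab (Sum.inl e0 : J n) ≠ ab b := he2
    have hec : ab (Sum.inl e0 : J n) ≠ ab c := he3
    rw [YIND.four_index_D hbig hX ψ hψ hc (m := Sum.inl e0) hab' hbc' hea.symm hec hac' heb.symm
      s t]
    rw [YIND.four_index_D hbig hX ψ hψ hc (m := th hn a c) hea.symm hec hka.symm hkc hac'
      (by rw [hkb]; exact heb) (s * t) 1, mul_one]
  · exact YIND.four_index_D hbig hX ψ hψ hc hab' hbc' hka.symm hkc hac' (Ne.symm hkb) s t

/-- YADD -/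
theorem Y_add (hbig : Big n F) (hX : DRel X) (ψ : E →* G) (hψ : Function.Surjective ψ)
    (hc : ψ.ker ≤ Subgroup.center E) (hn : 3 ≤ n) {a b : J n} (hab : IsRoot a b) (s t : F) :
    Y X ψ hψ hn a b (s + t) = Y X ψ hψ hn a b s * Y X ψ hψ hn a b t := by
  have hab' := isRoot_iff_ab.1 hab
  set l : List (J n) := [a, b] with hl
  have hinj : ∀ x ∈ l, ∀ y ∈ l, ab x = ab y → x = y := by
    intro x hx y hy hxy
    simp only [hl, List.mem_cons, List.not_mem_nil, or_false] at hx hy
    rcases hx with rfl | rfl <;> rcases hy with rfl | rfl <;>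
      first
        | rfl
        | exact absurd hxy hab' | exact absurd hxy.symm hab'
  obtain ⟨S, hS⟩ := exists_half_stD (F := F) hn hX (YIND.hB l)
  have ha : half (YIND.hB l) (ab a) = a := YIND.half_hB l hinj a (by simp [hl])
  have hb : half (YIND.hB l) (ab b) = b := YIND.half_hB l hinj b (by simp [hl])
  set r : Root n := rt (ab a) (ab b) hab' with hr
  have key : ∀ u : F, Cfsg.Agent.S2086P.X S ψ hψ hn r u = Y X ψ hψ hn a b u := by
    intro u
    unfold Cfsg.Agent.S2086P.X
    rw [hS, hS]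
    simp only [rt_fst, rt_snd, hr]
    rw [ha, hb]
    have h1 : IsRoot a (half (YIND.hB l) (third hn (rt (ab a) (ab b) hab'))) := by
      rw [isRoot_iff_ab, YIND.ab_half]
      exact third_ne_fst hn (rt (ab a) (ab b) hab')
    have h2 : IsRoot (half (YIND.hB l) (third hn (rt (ab a) (ab b) hab'))) b := by
      rw [isRoot_iff_ab, YIND.ab_half]
      exact third_ne_snd hn (rt (ab a) (ab b) hab')
    rw [cl_eq_Y hbig hX ψ hψ hc hn h1 h2 hab u 1, mul_one]
  rw [← key, ← key, ← key]
  exact (X_add S ψ hψ hc hn (YIND.hC2_half hbig hX ψ hψ hc (YIND.hB l) S hS) r s t).symm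

namespace YIND

theorem Y_zero (hbig : Big n F) (hX : DRel X) (ψ : E →* G) (hψ : Function.Surjective ψ)
    (hc : ψ.ker ≤ Subgroup.center E) (hn : 3 ≤ n) {a b : J n} (hab : IsRoot a b) :
    Y X ψ hψ hn a b 0 = 1 := by
  have h := Y_add hbig hX ψ hψ hc hn hab 0 0
  rw [add_zero] at h
  exact (mul_eq_left.mp h.symm)

theorem Y_neg (hbig : Big n F) (hX : DRel X) (ψ : E →* G) (hψ : Function.Surjective ψ)
    (hc : ψ.ker ≤ Subgroup.center E) (hn : 3 ≤ n) {a b : J n} (hab : IsRoot a b) (t : F) :
    Y X ψ hψ hn a b (-t) = (Y X ψ hψ hn a b t)⁻¹ := by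
  apply eq_inv_of_mul_eq_one_left
  rw [← Y_add hbig hX ψ hψ hc hn hab, neg_add_cancel, Y_zero hbig hX ψ hψ hc hn hab]

theorem cl_inv (ψ : E →* G) (hψ : Function.Surjective ψ) (g g' : G) :
    (cl ψ hψ g g')⁻¹ = cl ψ hψ g' g := by
  unfold cl
  exact commutatorElement_inv _ _

end YIND

/-- YFLIP -/
theorem Y_flip (hbig : Big n F) (hX : DRel X) (ψ : E →* G) (hψ : Function.Surjective ψ)
    (hc : ψ.ker ≤ Subgroup.center E) (hn : 3 ≤ n) {a b : J n} (hab : IsRoot a b) (t : F) :
    Y X ψ hψ hn (ng b) (ng a) t = Y X ψ hψ hn a b (-t) := by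
  have hka : IsRoot a (th hn a b) := isRoot_left_th hn a b
  have hkb : IsRoot (th hn a b) b := isRoot_th_right hn a b
  have e1 := cl_eq_Y hbig hX ψ hψ hc hn hkb.flip hka.flip hab.flip t 1
  rw [mul_one] at e1
  rw [← e1, hX.flip _ _ hkb t, hX.flip _ _ hka 1, ← YIND.cl_inv,
    cl_eq_Y hbig hX ψ hψ hc hn hka hkb hab (-1) (-t), neg_mul_neg, one_mul,
    YIND.Y_neg hbig hX ψ hψ hc hn hab]

end Cfsg.Agent.S2096P
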