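import Mathlib
import Cfsg.Agent.Helper10.S2092.DefsQ
import Cfsg.Agent.Helper2.S3352.WConj
import Cfsg.Agent.Helper7.S2092QCL45

set_option autoImplicit false
set_option linter.unusedSectionVars false
set_option linter.unusedVariables false

/-! S2092, part T for `|F| = 2`, `n ≥ 4`, piece QLINV (driver helper10; helper7): the long lifts `bYl` are lifts
and additive (involutions). -/

namespace Cfsg.Agent.S2092P

open scoped commutatorElement
open Cfsg.Agent.S3352P Cfsg.Agent.S2096P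
open Cfsg.Agent.S2086P (CL cl)

variable {n : ℕ} {F : Type*} [Field F] {G : Type*} [Group G] {E : Type*} [Group E]
  {Xs : J n → J n → F → G} {Xl : J n → F → G}

namespace QLINV

/-- a sign is trivial in characteristic `2` -/
theorem sgF_eq_one (h2 : (2 : F) = 0) (a : J n) : sgF F a = 1 := by
  have hneg : (-1 : F) = 1 := by
    have : (1 : F) + 1 = 0 := by rw [one_add_one_eq_two, h2]
    exact (eq_neg_of_add_eq_zero_left this).symm
  cases a with
  | inl i => rfl
  | inr i => exact hneg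

theorem Xl_zero (h : CRel Xs Xl) (a : J n) : Xl a (0 : F) = 1 := by
  have h1 := h.addl a 0 0
  rw [add_zero] at h1
  exact (mul_eq_left (a := Xl a (0 : F))).1 h1.symm

/-- the canonical commutator with `1` -/
theorem cl_one_right (ψ : E →* G) (hψ : Function.Surjective ψ) (hc : ψ.ker ≤ Subgroup.center E)
    (x : G) : cl ψ hψ x 1 = 1 := by
  obtain ⟨e, he⟩ := hψ x
  rw [← Cfsg.Agent.S2086P.cl_eq ψ hψ hc he (map_one ψ), commutatorElement_one_right]

/-- the elements of a field with two elements -/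
theorem zero_or_one [Fintype F] (hF : Fintype.card F = 2) (t : F) : t = 0 ∨ t = 1 := by
  classical
  by_contra hcon
  rw [not_or] at hcon
  have h3 : ({0, 1, t} : Finset F).card = 3 := by
    rw [Finset.card_insert_of_notMem, Finset.card_insert_of_notMem, Finset.card_singleton]
    · rw [Finset.mem_singleton]; exact fun h => hcon.2 h.symm
    · rw [Finset.mem_insert, Finset.mem_singleton, not_or]
      exact ⟨zero_ne_one, fun h => hcon.1 h.symm⟩
  have := Finset.card_le_univ ({0, 1, t} : Finset F)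
  rw [h3, hF] at this
  omega

theorem two_eq_zero [Fintype F] (hF : Fintype.card F = 2) : (2 : F) = 0 := by
  have := Nat.cast_card_eq_zero F
  rw [hF] at this
  exact_mod_cast this

/-- the long lift of the parameter `0` -/
theorem bYl_zero (hn : 2 ≤ n) (h : CRel Xs Xl) (ψ : E →* G) (hψ : Function.Surjective ψ)
    (hc : ψ.ker ≤ Subgroup.center E) {Ys : J n → J n → F → E} (hY : DRel Ys) (a : J n) :
    bYl hn Xs Xl ψ hψ Ys a 0 = 1 := by
  have hap : IsRoot a (pt hn a) := isRoot_iff_ab.2 (ab_pt_ne hn a).symm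
  have hap' : IsRoot a (ng (pt hn a)) := WCONJ.isRoot_ng_right hap
  unfold bYl
  rw [WCONJ.X_zero hY hap', Xl_zero h, cl_one_right ψ hψ hc, inv_one, one_mul]

end QLINV

open QLINV

theorem map_bYl (h2 : (2 : F) = 0) (hn : 2 ≤ n) (h : CRel Xs Xl) (ψ : E →* G)
    (hψ : Function.Surjective ψ) {Ys : J n → J n → F → E}
    (hmap : ∀ a b, IsRoot a b → ∀ t : F, ψ (Ys a b t) = Xs a b t) (a : J n) (t : F) :
    ψ (bYl hn Xs Xl ψ hψ Ys a t) = Xl a t := by
  have hap : IsRoot a (pt hn a) := isRoot_iff_ab.2 (ab_pt_ne hn a).symm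
  unfold bYl
  rw [map_mul, map_inv, Cfsg.Agent.S2086P.map_cl, hmap _ _ (WCONJ.isRoot_ng_right hap), h.sl _ _ hap,
    one_mul, sgF_eq_one h2, sgF_eq_one h2, one_pow, one_mul, one_mul, inv_mul_cancel_left, one_mul]

theorem bYl_add [Fintype F] (hF : Fintype.card F = 2) (hn4 : 4 ≤ n) (hn : 2 ≤ n) (h : CRel Xs Xl)
    (ψ : E →* G) (hψ : Function.Surjective ψ) (hc : ψ.ker ≤ Subgroup.center E)
    {Ys : J n → J n → F → E} (hY : DRel Ys)
    (hmap : ∀ a b, IsRoot a b → ∀ t : F, ψ (Ys a b t) = Xs a b t) (a : J n) (s t : F) :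
    bYl hn Xs Xl ψ hψ Ys a (s + t) = bYl hn Xs Xl ψ hψ Ys a s * bYl hn Xs Xl ψ hψ Ys a t := by
  have h2 : (2 : F) = 0 := two_eq_zero hF
  have hap : IsRoot a (pt hn a) := isRoot_iff_ab.2 (ab_pt_ne hn a).symm
  have hap' : IsRoot a (ng (pt hn a)) := WCONJ.isRoot_ng_right hap
  have h0 : bYl hn Xs Xl ψ hψ Ys a 0 = 1 := bYl_zero hn h ψ hψ hc hY a
  -- the involution
  have hsq : bYl hn Xs Xl ψ hψ Ys a 1 * bYl hn Xs Xl ψ hψ Ys a 1 = 1 := by
    set Λ := bYl hn Xs Xl ψ hψ Ys a 1 with hΛ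
    set X := Ys a (pt hn a) 1 with hX
    set S := Ys a (ng (pt hn a)) 1 with hS
    obtain ⟨L, hL⟩ := hψ (Xl (pt hn a) 1)
    have hC : ⁅X, L⁆ = S * Λ := by
      rw [Cfsg.Agent.S2086P.cl_eq ψ hψ hc (hmap _ _ hap 1) hL, hΛ]
      unfold bYl
      rw [mul_inv_cancel_left]
    have h11 : (1 : F) + 1 = 0 := by rw [one_add_one_eq_two, h2]
    have hXX : X * X = 1 := by rw [hX, ← hY.add _ _ hap, h11, WCONJ.X_zero hY hap]
    have hSS : S * S = 1 := by rw [hS, ← hY.add _ _ hap', h11, WCONJ.X_zero hY hap']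
    have hXS : X * S = S * X := hY.orth _ _ hap 1 1
    have hψΛ : ψ Λ = Xl a 1 := map_bYl h2 hn h ψ hψ hmap a 1
    have hXΛ : Commute X Λ :=
      cl_short_long hn4 h ψ hψ hc hap hap.1 (ng_ne a).symm 1 1 X Λ (hmap _ _ hap 1) hψΛ
    have hSΛ : Commute S Λ :=
      cl_short_long hn4 h ψ hψ hc hap' hap'.1 (ng_ne a).symm 1 1 S Λ (hmap _ _ hap' 1) hψΛ
    have hXinv : X⁻¹ = X := inv_eq_of_mul_eq_one_right hXX
    -- `X C X⁻¹ = C⁻¹` and `X C X⁻¹ = C`
    have e1 : X * ⁅X, L⁆ * X⁻¹ = ⁅X, L⁆⁻¹ := by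
      rw [commutatorElement_def, hXinv]
      have : X * (X * L * X * L⁻¹) * X = (X * X) * L * X * L⁻¹ * X := by group
      rw [this, hXX, one_mul]
      have : (X * L * X * L⁻¹)⁻¹ = L * X⁻¹ * L⁻¹ * X⁻¹ := by group
      rw [this, hXinv]
    have e2 : X * ⁅X, L⁆ * X⁻¹ = ⁅X, L⁆ := by
      rw [hC]
      have : X * (S * Λ) * X⁻¹ = (X * S) * (Λ * X⁻¹) := by group
      rw [this, hXS, hXinv, ← hXΛ.eq]
      have : S * X * (X * Λ) = S * (X * X) * Λ := by group
      rw [this, hXX, mul_one]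
    have hCC : ⁅X, L⁆ * ⁅X, L⁆ = 1 := by
      have : ⁅X, L⁆ = ⁅X, L⁆⁻¹ := e2.symm.trans e1
      calc ⁅X, L⁆ * ⁅X, L⁆ = ⁅X, L⁆ * ⁅X, L⁆⁻¹ := by rw [← this]
        _ = 1 := mul_inv_cancel _
    rw [hC] at hCC
    have : S * Λ * (S * Λ) = (S * S) * (Λ * Λ) := by
      have : S * Λ * (S * Λ) = S * (Λ * S) * Λ := by group
      rw [this, ← hSΛ.eq]
      group
    rw [this, hSS, one_mul] at hCC
    exact hCC
  rcases zero_or_one hF s with rfl | rfl
  · rw [zero_add, h0, one_mul]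
  · rcases zero_or_one hF t with rfl | rfl
    · rw [add_zero, h0, mul_one]
    · have h11 : (1 : F) + 1 = 0 := by rw [one_add_one_eq_two, h2]
      rw [h11, h0, hsq]

end Cfsg.Agent.S2092P
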