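import Mathlib
import Cfsg.Agent.Helper10.S2092.DefsQ
import Cfsg.Agent.Helper2.S3352.WConj
import Cfsg.Agent.Helper7.S2092QCL45
import Cfsg.Agent.Helper18.S2092QDREL
import Cfsg.Agent.Helper22.S2092QWGL
import Cfsg.Agent.Helper7.S2092QLINV

set_option autoImplicit false
set_option linter.unusedSectionVars false
set_option linter.unusedVariables false

/-! S2092, part T for `|F| = 2`, `n ≥ 4`, piece QIND (driver helper10; helper7): the relation `sl` moves from the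
partner `b` to the partner `b'` (conjugation by the Weyl element `wX Ys b b' 1`). -/

namespace Cfsg.Agent.S2092P

open scoped commutatorElement
open Cfsg.Agent.S3352P Cfsg.Agent.S2096P
open Cfsg.Agent.S2086P (CL cl)

variable {n : ℕ} {F : Type*} [Field F] {G : Type*} [Group G] {E : Type*} [Group E]
  {Xs : J n → J n → F → G} {Xl : J n → F → G}

namespace QIND

theorem ne_of_ab {x y : J n} (h : ab x ≠ ab y) : x ≠ y := fun e => h (by rw [e])

theorem ne_ng_of_ab {x y : J n} (h : ab x ≠ ab y) : x ≠ ng y := fun e => h (by rw [e, ab_ng])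

theorem sw_fix {a b c : J n} (h1 : c ≠ a) (h2 : c ≠ b) (h3 : c ≠ ng a) (h4 : c ≠ ng b) :
    sw a b c = c := by
  unfold sw
  rw [Equiv.Perm.mul_apply, Equiv.swap_apply_of_ne_of_ne h3 h4, Equiv.swap_apply_of_ne_of_ne h1 h2]

end QIND

open QIND QLINV

theorem sl_partner [Fintype F] (hF : Fintype.card F = 2) (hn4 : 4 ≤ n) (h : CRel Xs Xl)
    (ψ : E →* G) (hψ : Function.Surjective ψ) (hc : ψ.ker ≤ Subgroup.center E)
    {Ys : J n → J n → F → E} (hY : DRel Ys)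
    (hmap : ∀ a b, IsRoot a b → ∀ t : F, ψ (Ys a b t) = Xs a b t) {a b b' : J n}
    (hab : ab b ≠ ab a) (hab' : ab b' ≠ ab a) (hbb' : ab b ≠ ab b') {Λ : E} (hΛ : ψ Λ = Xl a 1)
    (hrel : cl ψ hψ (Xs a b 1) (Xl b 1) = Ys a (ng b) 1 * Λ) :
    cl ψ hψ (Xs a b' 1) (Xl b' 1) = Ys a (ng b') 1 * Λ := by
  have h2 : (2 : F) = 0 := two_eq_zero hF
  have hn3 : 3 ≤ n := by omega
  have hXd : DRel Xs := dRel_of_cRel h2 h
  have hbb : IsRoot b b' := isRoot_iff_ab.2 hbb'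
  have hab_ : IsRoot a b := isRoot_iff_ab.2 hab.symm
  have hab'_ : IsRoot a b' := isRoot_iff_ab.2 hab'.symm
  have hfix : sw b b' a = a :=
    sw_fix (ne_of_ab hab.symm) (ne_of_ab hab'.symm) (ne_ng_of_ab hab.symm) (ne_ng_of_ab hab'.symm)
  have hsl : sw b b' b = b' := WCONJ.sw_left b b' hbb
  have hη : ∀ η : F, η ≠ 0 → η = 1 := fun η hη => (zero_or_one hF η).resolve_left hη
  set W := wX Ys b b' 1 with hWdef
  have hW : ψ W = wX Xs b b' 1 := by
    rw [hWdef]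
    unfold wX
    rw [map_mul, map_mul, hmap _ _ hbb, hmap _ _ hbb.symm]
  -- conjugate the relation
  have key : W * cl ψ hψ (Xs a b 1) (Xl b 1) * W⁻¹ = W * (Ys a (ng b) 1 * Λ) * W⁻¹ := by rw [hrel]
  rw [Cfsg.Agent.S2094P.conj_cl ψ hψ hc, hW] at key
  obtain ⟨η₁, hη₁, h1⟩ := wX_conj hn3 hXd hbb (one_ne_zero (α := F)) hab_
  have e1 : wX Xs b b' 1 * Xs a b 1 * (wX Xs b b' 1)⁻¹ = Xs a b' 1 := by
    rw [h1, hη _ hη₁, mul_one, hfix, hsl]
  rw [e1, wX_conj_long hF h hbb] at key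
  rw [key]
  -- the right hand side
  obtain ⟨η₂, hη₂, h1'⟩ := wX_conj hn3 hY hbb (one_ne_zero (α := F)) (WCONJ.isRoot_ng_right hab_)
  have e2 : W * Ys a (ng b) 1 * W⁻¹ = Ys a (ng b') 1 := by
    rw [hWdef, h1', hη _ hη₂, mul_one, hfix, Cfsg.Agent.S3352P.sw_ng, hsl]
  have c1 : ∀ t : F, Commute (Ys b b' t) Λ := fun t =>
    cl_short_long hn4 h ψ hψ hc hbb (ne_of_ab hab'.symm) (ne_ng_of_ab hab.symm) t 1 _ _
      (hmap _ _ hbb t) hΛ
  have c2 : ∀ t : F, Commute (Ys b' b t) Λ := fun t =>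
    cl_short_long hn4 h ψ hψ hc hbb.symm (ne_of_ab hab.symm) (ne_ng_of_ab hab'.symm) t 1 _ _
      (hmap _ _ hbb.symm t) hΛ
  have cW : Commute W Λ := by
    rw [hWdef]
    unfold wX
    exact ((c1 _).mul_left (c2 _)).mul_left (c1 _)
  have e3 : W * Λ * W⁻¹ = Λ := by rw [cW.eq, mul_inv_cancel_right]
  calc W * (Ys a (ng b) 1 * Λ) * W⁻¹ = (W * Ys a (ng b) 1 * W⁻¹) * (W * Λ * W⁻¹) := by group
    _ = Ys a (ng b') 1 * Λ := by rw [e2, e3]

end Cfsg.Agent.S2092P
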