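import Mathlib
import Cfsg.Agent.Helper10.S2092.DefsQ
import Cfsg.Agent.Helper2.S3352.WConj
import Cfsg.Agent.Helper7.S2092QLINV
import Cfsg.Agent.Helper7.S2092QIND

set_option autoImplicit false
set_option linter.unusedSectionVars false
set_option linter.unusedVariables false

/-! S2092, part T for `|F| = 2`, `n ≥ 4`, piece QSL (driver helper10; helper7): the relation `sl` for the lifts. -/

namespace Cfsg.Agent.S2092P

open scoped commutatorElement
open Cfsg.Agent.S3352P Cfsg.Agent.S2096P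
open Cfsg.Agent.S2086P (CL cl)

variable {n : ℕ} {F : Type*} [Field F] {G : Type*} [Group G] {E : Type*} [Group E]
  {Xs : J n → J n → F → G} {Xl : J n → F → G}

open QIND QLINV

theorem sl_bYl [Fintype F] (hF : Fintype.card F = 2) (hn4 : 4 ≤ n) (hn : 2 ≤ n) (h : CRel Xs Xl)
    (ψ : E →* G) (hψ : Function.Surjective ψ) (hc : ψ.ker ≤ Subgroup.center E)
    {Ys : J n → J n → F → E} (hY : DRel Ys)
    (hmap : ∀ a b, IsRoot a b → ∀ t : F, ψ (Ys a b t) = Xs a b t) {a b : J n} (hab : IsRoot a b)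
    (s t : F) :
    ⁅Ys a b s, bYl hn Xs Xl ψ hψ Ys b t⁆ =
      Ys a (ng b) (s * t) * bYl hn Xs Xl ψ hψ Ys a (sgF F a * sgF F b * s ^ 2 * t) := by
  have h2 : (2 : F) = 0 := two_eq_zero hF
  have hab' : IsRoot a (ng b) := WCONJ.isRoot_ng_right hab
  rcases zero_or_one hF s with rfl | rfl
  · rw [WCONJ.X_zero hY hab, commutatorElement_one_left, zero_mul, WCONJ.X_zero hY hab']
    have : sgF F a * sgF F b * (0 : F) ^ 2 * t = 0 := by ring
    rw [this, bYl_zero hn h ψ hψ hc hY, mul_one]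
  rcases zero_or_one hF t with rfl | rfl
  · rw [bYl_zero hn h ψ hψ hc hY, commutatorElement_one_right, mul_zero, mul_zero,
      WCONJ.X_zero hY hab', bYl_zero hn h ψ hψ hc hY, mul_one]
  rw [sgF_eq_one h2, sgF_eq_one h2, one_pow, one_mul, one_mul, one_mul]
  rw [Cfsg.Agent.S2086P.cl_eq ψ hψ hc (hmap _ _ hab 1) (map_bYl h2 hn h ψ hψ hmap b 1)]
  -- the relation for the partner `pt hn a`
  set Λ := bYl hn Xs Xl ψ hψ Ys a 1 with hΛdef
  have hΛ : ψ Λ = Xl a 1 := map_bYl h2 hn h ψ hψ hmap a 1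
  have hbase : cl ψ hψ (Xs a (pt hn a) 1) (Xl (pt hn a) 1) = Ys a (ng (pt hn a)) 1 * Λ := by
    rw [hΛdef]
    unfold bYl
    rw [mul_inv_cancel_left]
  obtain ⟨m, hm1, hm2, hm3⟩ := Cfsg.Agent.S2086P.exists_fourth hn4 (ab a) (ab b) (ab (pt hn a))
  have hk : ab (Sum.inl m : J n) = m := rfl
  have hba : ab b ≠ ab a := (isRoot_iff_ab.1 hab).symm
  have step1 := sl_partner hF hn4 h ψ hψ hc hY hmap (a := a) (b := pt hn a) (b' := Sum.inl m)
    (ab_pt_ne hn a) (by rw [hk]; exact hm1) (by rw [hk]; exact hm3.symm) hΛ hbase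
  exact sl_partner hF hn4 h ψ hψ hc hY hmap (a := a) (b := Sum.inl m) (b' := b)
    (by rw [hk]; exact hm1) hba (by rw [hk]; exact hm2) hΛ step1

end Cfsg.Agent.S2092P
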