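import Mathlib
import Cfsg.Prelude.Def_ClassicalGeometry
import Cfsg.Agent.Helper1.S5956Defs

/-! S2676 (driver helper7): shared definitions.

Conjugacy classes of elements of order `p` in `Sp_2m(F)`, `F` finite of odd characteristic `p`.
An element `y` with `y ^ p = 1` is replaced by its Cayley transform `X`, `y (1 - X) = 1 + X`, a
nilpotent endomorphism which is skew-adjoint for the alternating form `B`.  The pair `(B, X)` is
brought to a normal form described by a *frame*: generators `g j` (`j : ι`) of sizes `a j` and a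
matrix `K` with `B (X^i g_j) (X^l g_j') = (-1)^i K j j'` if `i + l + 1 = a j` and `0` otherwise,
where `K j j' = 0` unless `a j = a j'`, and every diagonal block `K.toSquareBlock a s` is
invertible; the vectors `X^i g_j` (`i < a j`) span the space.

* `Skew B X` : `B (X u) v = - B u (X v)`.
* `fvec X a g ⟨j, i⟩ = X^i (g j)`.
* `IsFrame B X W a K g` : a frame of the `X`-invariant subspace `W`.
-/

set_option autoImplicit false

namespace Cfsg.Agent.S2676P

variable {F V : Type*} [Field F] [AddCommGroup V] [Module F V]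

/-- `X` is skew-adjoint for `B` -/
def Skew (B : LinearMap.BilinForm F V) (X : Module.End F V) : Prop :=
  ∀ u v, B (X u) v = - B u (X v)

/-- the vectors `X^i (g j)`, `i < a j` -/
def fvec {ι : Type} (X : Module.End F V) (a : ι → ℕ) (g : ι → V)
    (x : (j : ι) × Fin (a j)) : V := (X ^ (x.2 : ℕ)) (g x.1)

theorem fvec_mk {ι : Type} (X : Module.End F V) (a : ι → ℕ) (g : ι → V) (j : ι)
    (i : Fin (a j)) : fvec X a g ⟨j, i⟩ = (X ^ (i : ℕ)) (g j) := rfl

/-- a frame of the subspace `W` for the pair `(B, X)` -/
structure IsFrame {ι : Type} [Fintype ι] [DecidableEq ι] (B : LinearMap.BilinForm F V)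
    (X : Module.End F V) (W : Submodule F V) (a : ι → ℕ) (K : Matrix ι ι F) (g : ι → V) :
    Prop where
  pos : ∀ j, 0 < a j
  kill : ∀ j, (X ^ a j) (g j) = 0
  gram : ∀ j j' i l, B ((X ^ i) (g j)) ((X ^ l) (g j')) =
    if i + l + 1 = a j then (-1) ^ i * K j j' else 0
  span : Submodule.span F (Set.range (fvec X a g)) = W
  offdiag : ∀ j j', a j ≠ a j' → K j j' = 0
  unit : ∀ s : ℕ, IsUnit (K.toSquareBlock a s).det

end Cfsg.Agent.S2676P
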