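import Mathlib
import Cfsg.Agent.Helper10.S2548Defs
import Cfsg.Agent.Helper10.MatBNC
import Cfsg.Agent.Helper10.S2548PRES
import Cfsg.Agent.Helper10.S2548ROOTMEM

set_option autoImplicit false
open scoped Matrix

/-!
# S2548, piece NSRED

A non-singular vector is moved into the middle hyperbolic plane by a product of root elements.
-/

namespace Cfsg.Agent.S2548P

open Cfsg.Agent.MatBN
open Cfsg.Agent.S2546P (E)

variable {K : Type*} [Field K] {n : ℕ}

namespace NSRED

/-- the action of a matrix unit on a vector -/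
theorem E_mulVec (I J : Fin n) (v : Fin n → K) (a : Fin n) :
    ((E n I.val J.val : Matrix (Fin n) (Fin n) K) *ᵥ v) a = if a = I then v J else 0 := by
  rw [Matrix.mulVec, dotProduct]
  by_cases h : a = I
  · rw [if_pos h]
    rw [Finset.sum_eq_single J]
    · simp [E, h]
    · intro c _ hc
      have : ¬ c.val = J.val := fun h' => hc (Fin.ext h')
      simp [E, this]
    · intro h'; exact absurd (Finset.mem_univ _) h'
  · rw [if_neg h]
    apply Finset.sum_eq_zero
    intro c _
    have : ¬ a.val = I.val := fun h' => h (Fin.ext h')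
    simp [E, this]

/-- the action of a root element on a vector -/
theorem xR_mulVec (I J : Fin n) (t : K) (v : Fin n → K) (a : Fin n) :
    ((xR n I.val J.val t : Matrix (Fin n) (Fin n) K) *ᵥ v) a =
      v a + (if a = I then t * v J else 0) - (if a = J.rev then t * v I.rev else 0) := by
  have h1 : n - 1 - J.val = (J.rev).val := by rw [Fin.val_rev]; omega
  have h2 : n - 1 - I.val = (I.rev).val := by rw [Fin.val_rev]; omega
  unfold xR
  rw [h1, h2, Matrix.sub_mulVec, Matrix.add_mulVec, Matrix.one_mulVec, Matrix.smul_mulVec,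
    Matrix.smul_mulVec]
  simp only [Pi.add_apply, Pi.sub_apply, Pi.smul_apply, smul_eq_mul, E_mulVec]
  split_ifs <;> ring

/-- root elements as elements of `Rt` -/
theorem exists_root (hn : n % 2 = 0) (I J : Fin n) (h : IsRt n I.val J.val) (t : K) :
    ∃ g ∈ Rt (K := K) n, mat n g = xR n I.val J.val t := by
  obtain ⟨g, hg⟩ := PRES.exists_of_presQ hn _ (ROOTMEM.presQ_xR hn h t)
  exact ⟨g, Subgroup.subset_closure ⟨I.val, J.val, h, t, hg⟩, hg⟩

/-- the value of `QJ` when only the coordinate `n / 2` may be non-zero -/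
theorem QJ_eq_zero_of (hn : n % 2 = 0) (v : Fin n → K)
    (h : ∀ a : Fin n, a.val ≠ n / 2 → v a = 0) : QJ n v = 0 := by
  rw [QJ_apply]
  apply Finset.sum_eq_zero
  intro i _
  split_ifs with hi
  · rw [h i (by omega), zero_mul]
  · rfl

theorem clear_aux (hn : n % 2 = 0) (hn4 : 4 ≤ n) (M : Fin n) (hM : M.val + 1 = n / 2)
    (s : Finset (Fin n)) (hs : ∀ a ∈ s, a.val + 1 ≠ n / 2 ∧ a.val ≠ n / 2) (v : Fin n → K)
    (hv : v M ≠ 0) :
    ∃ g ∈ Rt (K := K) n, (∀ a ∈ s, (mat n g *ᵥ v) a = 0) ∧ (mat n g *ᵥ v) M ≠ 0 := by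
  classical
  induction s using Finset.induction_on with
  | empty =>
    refine ⟨1, Subgroup.one_mem _, by simp, ?_⟩
    rw [map_one, Matrix.one_mulVec]
    exact hv
  | insert a s ha ih =>
    obtain ⟨g, hg, hg0, hgM⟩ := ih (fun b hb => hs b (Finset.mem_insert_of_mem hb))
    have haa := hs a (Finset.mem_insert_self a s)
    have hrt : IsRt n a.val M.val := by
      refine ⟨a.2, M.2, ?_, ?_⟩
      · omega
      · omega
    set w := mat n g *ᵥ v with hw
    obtain ⟨x, hx, hxm⟩ := exists_root hn a M hrt (-(w a / w M))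
    refine ⟨x * g, Subgroup.mul_mem _ hx hg, ?_, ?_⟩
    · intro b hb
      rw [map_mul, ← Matrix.mulVec_mulVec, ← hw, hxm, xR_mulVec]
      have hMrev : M.rev.val = n / 2 := by rw [Fin.val_rev]; omega
      rcases Finset.mem_insert.1 hb with rfl | hb'
      · have h2 : ¬ b = M.rev := fun h => haa.2 (by rw [h, hMrev])
        rw [if_pos rfl, if_neg h2]
        field_simp
        ring
      · have h1 : ¬ b = a := fun h => ha (h ▸ hb')
        have h2 : ¬ b = M.rev := fun h => (hs b hb).2 (by rw [h, hMrev])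
        rw [if_neg h1, if_neg h2, hg0 b hb']
        ring
    · rw [map_mul, ← Matrix.mulVec_mulVec, ← hw, hxm, xR_mulVec]
      have hMrev : M.rev.val = n / 2 := by rw [Fin.val_rev]; omega
      have h1 : ¬ M = a := fun h => haa.1 (by rw [← h]; exact hM)
      have h2 : ¬ M = M.rev := fun h => by
        have := congrArg Fin.val h
        rw [hMrev] at this
        omega
      rw [if_neg h1, if_neg h2]
      simpa using hgM

/-- a non-singular vector is moved into the middle hyperbolic plane by a product of root elements -/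
theorem exists_Rt_to_mid (hn : n % 2 = 0) (hn4 : 4 ≤ n) (v : Fin n → K) (hv : QJ n v ≠ 0) :
    ∃ g ∈ Rt (K := K) n, ∀ a : Fin n, a.val + 1 ≠ n / 2 → a.val ≠ n / 2 → (mat n g *ᵥ v) a = 0 := by
  classical
  let M : Fin n := ⟨n / 2 - 1, by omega⟩
  have hM : M.val + 1 = n / 2 := by show n / 2 - 1 + 1 = n / 2; omega
  -- first make the coordinate `M` non-zero
  obtain ⟨g₀, hg₀, hg₀M⟩ : ∃ g₀ ∈ Rt (K := K) n, (mat n g₀ *ᵥ v) M ≠ 0 := by
    by_cases hvM : v M = 0
    · obtain ⟨a₀, ha₀, hva₀⟩ : ∃ a₀ : Fin n, a₀.val ≠ n / 2 ∧ v a₀ ≠ 0 := by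
        by_contra hcon
        apply hv
        apply QJ_eq_zero_of hn
        intro a ha
        by_contra hva
        exact hcon ⟨a, ha, hva⟩
      have ha₀M : a₀ ≠ M := fun h => hva₀ (h ▸ hvM)
      have hrt : IsRt n M.val a₀.val := by
        refine ⟨M.2, a₀.2, ?_, ?_⟩
        · exact fun h => ha₀M (Fin.ext h.symm)
        · omega
      obtain ⟨x, hx, hxm⟩ := exists_root hn M a₀ hrt (1 : K)
      refine ⟨x, hx, ?_⟩
      rw [hxm, xR_mulVec]
      have h2 : ¬ M = a₀.rev := by
        intro h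
        have := congrArg Fin.val h
        rw [Fin.val_rev] at this
        omega
      rw [if_pos rfl, if_neg h2, hvM]
      simpa using hva₀
    · exact ⟨1, Subgroup.one_mem _, by rw [map_one, Matrix.one_mulVec]; exact hvM⟩
  obtain ⟨g, hg, hg0, -⟩ := clear_aux hn hn4 M hM
    (Finset.univ.filter (fun a : Fin n => a.val + 1 ≠ n / 2 ∧ a.val ≠ n / 2))
    (fun a ha => (Finset.mem_filter.1 ha).2) (mat n g₀ *ᵥ v) hg₀M
  refine ⟨g * g₀, Subgroup.mul_mem _ hg hg₀, ?_⟩
  intro a h1 h2
  rw [map_mul, ← Matrix.mulVec_mulVec]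
  exact hg0 a (Finset.mem_filter.2 ⟨Finset.mem_univ _, h1, h2⟩)

end NSRED

end Cfsg.Agent.S2548P
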