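import Mathlib
import Cfsg.Agent.Helper10.S2548Defs
import Cfsg.Agent.Helper10.MatBNC
import Cfsg.Agent.Helper28.Spin1
import Cfsg.Agent.Helper10.S2548PRES
import Cfsg.Agent.Helper10.S2548ROOTMEM
import Cfsg.Agent.Helper18.S2548RMAT
import Cfsg.Agent.Helper7.S2548NSRED

set_option autoImplicit false
open scoped Matrix

/-!
# S2548, piece REFLMID

The reflection in a non-singular vector of the middle hyperbolic plane is a diagonal isometry
times the swap `r` of the two middle basis vectors.
-/

namespace Cfsg.Agent.S2548P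

open Cfsg.Agent.MatBN
open Cfsg.Agent.S2546P (E)

variable {K : Type*} [Field K] {n : ℕ}

namespace REFLMID

/-- the action of `rMat` on a vector -/
theorem rMat_mulVec (hn2 : 2 ≤ n) (M M' : Fin n) (hM : M.val = n / 2 - 1) (hM' : M'.val = n / 2)
    (x : Fin n → K) (a : Fin n) :
    ((rMat n : Matrix (Fin n) (Fin n) K) *ᵥ x) a =
      if a = M then x M' else if a = M' then x M else x a := by
  unfold rMat
  rw [← hM, ← hM']
  simp only [Matrix.add_mulVec, Matrix.sub_mulVec, Matrix.one_mulVec, Pi.add_apply, Pi.sub_apply,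
    NSRED.E_mulVec]
  have hne : M ≠ M' := by
    intro h
    have := congrArg Fin.val h
    omega
  by_cases h1 : a = M
  · subst h1
    simp [hne]
  · by_cases h2 : a = M'
    · subst h2
      simp [h1]
    · simp [h1, h2]

/-- the reflection in a non-singular vector of the middle hyperbolic plane is `r` times a diagonal isometry -/
theorem refl_mem_Mid (hn : n % 2 = 0) (hn2 : 2 ≤ n) (v : Fin n → K) (hv : QJ n v ≠ 0)
    (hsupp : ∀ a : Fin n, a.val + 1 ≠ n / 2 → a.val ≠ n / 2 → v a = 0) (g : OJ K n)
    (hg : mat n g = Cfsg.reflectionMatrix (QJ (K := K) n) v) : g ∈ Mid (K := K) n := by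
  classical
  let M : Fin n := ⟨n / 2 - 1, by omega⟩
  let M' : Fin n := ⟨n / 2, by omega⟩
  have hM : M.val = n / 2 - 1 := rfl
  have hM' : M'.val = n / 2 := rfl
  have hne : M ≠ M' := by
    intro h
    have := congrArg Fin.val h
    rw [hM, hM'] at this
    omega
  have hMrev : M.rev = M' := by
    apply Fin.ext
    rw [Fin.val_rev, hM, hM']
    omega
  have hM'rev : M'.rev = M := by
    apply Fin.ext
    rw [Fin.val_rev, hM, hM']
    omega
  have hsupp' : ∀ a : Fin n, a ≠ M → a ≠ M' → v a = 0 := by
    intro a h1 h2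
    apply hsupp a
    · intro h; exact h1 (Fin.ext (by rw [hM]; omega))
    · intro h; exact h2 (Fin.ext (by rw [hM']; exact h))
  -- the value of the form
  have hQ : QJ n v = v M * v M' := by
    rw [QJ_apply, Finset.sum_eq_single M]
    · rw [if_pos (by rw [hM]; omega), hMrev]
    · intro i _ hi
      split_ifs with h
      · have : i ≠ M' := fun h' => by rw [h', hM'] at h; omega
        rw [hsupp' i hi this, zero_mul]
      · rfl
    · intro h; exact absurd (Finset.mem_univ _) h
  have hvM : v M ≠ 0 := fun h => hv (by rw [hQ, h, zero_mul])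
  have hvM' : v M' ≠ 0 := fun h => hv (by rw [hQ, h, mul_zero])
  -- the polar form
  have hB : ∀ x : Fin n → K, BJ n v x = v M * x M' + v M' * x M := by
    intro x
    unfold BJ
    rw [← Finset.add_sum_erase _ _ (Finset.mem_univ M),
      ← Finset.add_sum_erase _ _ (Finset.mem_erase.2 ⟨hne.symm, Finset.mem_univ M'⟩), hMrev, hM'rev,
      Finset.sum_eq_zero, add_zero]
    intro i hi
    rw [hsupp' i (Finset.mem_erase.1 (Finset.mem_erase.1 hi).2).1 (Finset.mem_erase.1 hi).1, zero_mul]
  -- the diagonal part
  let d : Fin n → K := fun a => if a = M then -(v M / v M') else if a = M' then -(v M' / v M) else 1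
  have hd : ∀ i, d i * d i.rev = 1 := by
    intro i
    by_cases h1 : i = M
    · subst h1
      simp only [d, hMrev, if_neg hne.symm, if_true]
      field_simp
    · by_cases h2 : i = M'
      · subst h2
        simp only [d, hM'rev, if_neg hne.symm, if_true]
        field_simp
      · have h3 : i.rev ≠ M := fun h => h2 (by rw [← hMrev, ← h, Fin.rev_rev])
        have h4 : i.rev ≠ M' := fun h => h1 (by rw [← hM'rev, ← h, Fin.rev_rev])
        simp only [d, if_neg h1, if_neg h2, if_neg h3, if_neg h4, mul_one]
  obtain ⟨gd, hgd⟩ := PRES.exists_of_presQ hn _ (ROOTMEM.presQ_diagonal hn d hd)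
  obtain ⟨gr, hgr⟩ := PRES.exists_of_presQ hn _ (RMAT.presQ_rMat (K := K) hn hn2)
  have hgdm : gd ∈ Mid (K := K) n := by
    apply Subgroup.subset_closure
    left
    show IsDg (mat n gd)
    rw [hgd]
    intro a c hac
    exact Matrix.diagonal_apply_ne _ hac
  have hgrm : gr ∈ Mid (K := K) n := by
    apply Subgroup.subset_closure
    right
    exact hgr
  have hgeq : g = gd * gr := by
    apply PRES.mat_injective
    rw [map_mul, hg, hgd, hgr]
    ext a c
    have h1 : (Cfsg.reflectionMatrix (QJ (K := K) n) v *ᵥ (Pi.single c 1)) a =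
        ((Matrix.diagonal d * rMat n) *ᵥ (Pi.single c 1)) a := by
      rw [show (QJ (K := K) n) = ⇑(QJf K n) from rfl, Cfsg.Agent.Helper28.Spin.refl_mulVec,
        ← Matrix.mulVec_mulVec, Matrix.mulVec_diagonal, rMat_mulVec hn2 M M' hM hM',
        show ⇑(QJf K n) = QJ (K := K) n from rfl, PRES.polar_eq_BJ hn, hB, hQ]
      simp only [Pi.sub_apply, Pi.smul_apply, smul_eq_mul]
      by_cases h1 : a = M
      · subst h1
        simp only [d, if_true]
        field_simp
        ring
      · by_cases h2 : a = M'
        · subst h2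
          simp only [d, if_neg hne.symm, if_true]
          field_simp
          ring
        · simp only [d, if_neg h1, if_neg h2, hsupp' a h1 h2]
          ring
    simpa [Matrix.mulVec_single_one] using h1
  rw [hgeq]
  exact Subgroup.mul_mem _ hgdm hgrm

end REFLMID

end Cfsg.Agent.S2548P
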