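import Mathlib
import Cfsg.Agent.Helper10.S2548Defs
import Cfsg.Agent.Helper10.MatBNC
import Cfsg.Agent.Helper10.S2548PRES
import Cfsg.Agent.Helper24.S2548OGEN
import Cfsg.Agent.Helper24.S2548REFLCONJ
import Cfsg.Agent.Helper7.S2548NSRED
import Cfsg.Agent.Helper7.S2548REFLMID

set_option autoImplicit false
open scoped Matrix

/-!
# S2548, piece OTOP

The root elements together with the diagonal isometries and the graph automorphism `r`
generate the full isometry group.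
-/

namespace Cfsg.Agent.S2548P

open Cfsg.Agent.MatBN
open Cfsg.Agent.S2546P (E)

variable {K : Type*} [Field K] {n : ℕ}

namespace OTOP

theorem Rt_sup_Mid [Fintype K] (hn : n % 2 = 0) (hn4 : 4 ≤ n)
    (hne : ¬ (n = 4 ∧ Fintype.card K = 2)) : Rt (K := K) n ⊔ Mid (K := K) n = ⊤ := by
  rw [eq_top_iff, ← OGEN.refl_closure hn (by omega) hne, Subgroup.closure_le]
  rintro g ⟨v, hv, hg⟩
  obtain ⟨h, hh, hsupp⟩ := NSRED.exists_Rt_to_mid hn hn4 v hv
  have hQ : QJ n (mat n h *ᵥ v) ≠ 0 := by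
    rw [PRES.QJ_mulVec hn _ (PRES.presQ_of_mem hn h)]
    exact hv
  have hconj : mat n (h * g * h⁻¹) = Cfsg.reflectionMatrix (QJ (K := K) n) (mat n h *ᵥ v) := by
    rw [map_mul, map_mul, hg]
    exact REFLCONJ.refl_conj hn h v hv
  have hmid : h * g * h⁻¹ ∈ Mid (K := K) n :=
    REFLMID.refl_mem_Mid hn (by omega) _ hQ hsupp _ hconj
  have hgeq : g = h⁻¹ * (h * g * h⁻¹) * h := by group
  rw [SetLike.mem_coe, hgeq]
  have hR : Rt (K := K) n ≤ Rt (K := K) n ⊔ Mid (K := K) n := le_sup_left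
  have hMd : Mid (K := K) n ≤ Rt (K := K) n ⊔ Mid (K := K) n := le_sup_right
  exact Subgroup.mul_mem _ (Subgroup.mul_mem _ (Subgroup.inv_mem _ (hR hh)) (hMd hmid)) (hR hh)

end OTOP

end Cfsg.Agent.S2548P
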