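import Mathlib
import Cfsg.Agent.Helper10.S2548Defs
import Cfsg.Agent.Helper10.MatBNC
import Cfsg.Agent.Helper10.S2548PRES
import Cfsg.Agent.Helper10.S2548ROOTMEM
import Cfsg.Agent.Helper18.S2548TRIMID
import Cfsg.Agent.Helper9.S2548HTOR
import Cfsg.Agent.Helper16.S2548MONNORM
import Cfsg.Agent.Helper7.S2548OTOP

set_option autoImplicit false
open scoped Matrix commutatorElement

/-!
# S2548, piece COMMQ

`Ω = [O, O] ≤ Rt`: the group generated by the root elements is normal in the isometry group
with abelian quotient.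
-/

namespace Cfsg.Agent.S2548P

open Cfsg.Agent.MatBN
open Cfsg.Agent.S2546P (E)

variable {K : Type*} [Field K] {n : ℕ}

namespace COMMQ

/-- the entries of `rMat` -/
theorem rMat_apply (hn2 : 2 ≤ n) (M M' : Fin n) (hM : M.val = n / 2 - 1) (hM' : M'.val = n / 2)
    (a c : Fin n) :
    (rMat n : Matrix (Fin n) (Fin n) K) a c =
      if a = M then (if c = M' then 1 else 0) else if a = M' then (if c = M then 1 else 0)
        else (if a = c then 1 else 0) := by
  have hne : M ≠ M' := by
    intro h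
    have := congrArg Fin.val h
    omega
  unfold rMat
  rw [← hM, ← hM']
  simp only [Matrix.add_apply, Matrix.sub_apply, Matrix.one_apply, E, Matrix.of_apply,
    Fin.val_inj]
  by_cases h1 : a = M
  · subst h1
    by_cases h3 : c = a
    · subst h3; simp [hne]
    · by_cases h4 : c = M'
      · subst h4; simp [h3]
      · simp [h3, h4, Ne.symm h3]
  · by_cases h2 : a = M'
    · subst h2
      by_cases h3 : c = a
      · subst h3; simp [h1]
      · by_cases h4 : c = M
        · subst h4; simp [hne, Ne.symm hne]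
        · simp [h1, h3, h4, Ne.symm h3]
    · simp [h1, h2]

/-- a diagonal matrix is the diagonal matrix of its diagonal -/
theorem eq_diagonal_of_isDg (A : Matrix (Fin n) (Fin n) K) (hA : IsDg A) :
    A = Matrix.diagonal (fun i => A i i) := by
  ext a c
  by_cases h : a = c
  · subst h; simp
  · rw [Matrix.diagonal_apply_ne _ h, hA a c h]

/-- the swap `r` and a diagonal isometry commute modulo `Rt` -/
theorem swap_diag (hn : n % 2 = 0) (hn4 : 4 ≤ n) (a b : OJ K n) (ha : mat n a = rMat n)
    (hb : IsDg (mat n b)) : ∃ h ∈ Rt (K := K) n, a * b = h * (b * a) := by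
  classical
  have hn2 : 2 ≤ n := by omega
  let M : Fin n := ⟨n / 2 - 1, by omega⟩
  let M' : Fin n := ⟨n / 2, by omega⟩
  have hM : M.val = n / 2 - 1 := rfl
  have hM' : M'.val = n / 2 := rfl
  have hne : M ≠ M' := by
    intro h
    have := congrArg Fin.val h
    rw [hM, hM'] at this
    omega
  have hMrev : M.rev = M' := by
    apply Fin.ext
    rw [Fin.val_rev, hM, hM']
    omega
  have htri : IsTri (mat n b) := fun x y hxy => hb x y (ne_of_gt hxy)
  have hdd : mat n b M M * mat n b M' M' = 1 := by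
    have := TRIMID.tri_diag hn b htri M
    rwa [hMrev] at this
  have hdM : mat n b M M ≠ 0 := fun h => by rw [h, zero_mul] at hdd; exact zero_ne_one hdd
  have hdM' : mat n b M' M' ≠ 0 := fun h => by rw [h, mul_zero] at hdd; exact zero_ne_one hdd
  set μ : K := (mat n b M M)⁻¹ with hμ
  have hμ0 : μ ≠ 0 := inv_ne_zero hdM
  let e : Fin n → K := fun x =>
    if x.val + 1 = n / 2 then μ ^ 2 else if x.val = n / 2 then (μ ^ 2)⁻¹ else 1
  have he : ∀ i, e i * e i.rev = 1 := by
    intro i
    have hr : i.rev.val = n - 1 - i.val := by rw [Fin.val_rev]; omega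
    simp only [e, hr]
    by_cases h1 : i.val + 1 = n / 2
    · have h2 : ¬ (n - 1 - i.val + 1 = n / 2) := by omega
      have h3 : n - 1 - i.val = n / 2 := by omega
      rw [if_pos h1, if_neg h2, if_pos h3]
      exact mul_inv_cancel₀ (pow_ne_zero 2 hμ0)
    · by_cases h2 : i.val = n / 2
      · have h3 : n - 1 - i.val + 1 = n / 2 := by omega
        rw [if_neg h1, if_pos h2, if_pos h3]
        exact inv_mul_cancel₀ (pow_ne_zero 2 hμ0)
      · have h3 : ¬ (n - 1 - i.val + 1 = n / 2) := by omega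
        have h4 : ¬ (n - 1 - i.val = n / 2) := by omega
        rw [if_neg h1, if_neg h2, if_neg h3, if_neg h4, mul_one]
  obtain ⟨h, hh⟩ := PRES.exists_of_presQ hn _ (ROOTMEM.presQ_diagonal hn e he)
  refine ⟨h, HTOR.htor_mem hn hn4 μ hμ0 h hh, ?_⟩
  apply PRES.mat_injective
  rw [map_mul, map_mul, map_mul, ha, hh, eq_diagonal_of_isDg _ hb]
  ext x y
  rw [Matrix.mul_diagonal, Matrix.diagonal_mul, Matrix.diagonal_mul,
    rMat_apply hn2 M M' hM hM']
  have heM : e M = μ ^ 2 := by
    simp only [e]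
    rw [if_pos (by rw [hM]; omega)]
  have heM' : e M' = (μ ^ 2)⁻¹ := by
    simp only [e]
    rw [if_neg (by rw [hM']; omega), if_pos hM']
  by_cases h1 : x = M
  · subst h1
    rw [if_pos rfl, heM]
    by_cases h2 : y = M'
    · subst h2
      rw [if_pos rfl, hμ]
      field_simp
      linear_combination hdd
    · rw [if_neg h2]; ring
  · by_cases h2 : x = M'
    · subst h2
      rw [if_neg h1, if_pos rfl, heM']
      by_cases h3 : y = M
      · subst h3
        rw [if_pos rfl, hμ]
        field_simp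
        linear_combination -hdd
      · rw [if_neg h3]; ring
    · rw [if_neg h1, if_neg h2]
      have hex : e x = 1 := by
        simp only [e]
        rw [if_neg (fun h => h1 (Fin.ext (by rw [hM]; omega))),
          if_neg (fun h => h2 (Fin.ext (by rw [hM']; exact h)))]
      rw [hex]
      by_cases h3 : x = y
      · subst h3; simp
      · simp [h3]

/-- `Rt` is normal in the isometry group -/
theorem Rt_normal [Fintype K] (hn : n % 2 = 0) (hn4 : 4 ≤ n)
    (hne : ¬ (n = 4 ∧ Fintype.card K = 2)) : (Rt (K := K) n).Normal := by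
  have hn2 : 2 ≤ n := by omega
  rw [← Subgroup.normalizer_eq_top_iff, eq_top_iff, ← OTOP.Rt_sup_Mid hn hn4 hne, sup_le_iff]
  refine ⟨Subgroup.le_normalizer, ?_⟩
  intro h hh
  rw [Subgroup.mem_normalizer_iff]
  intro x
  constructor
  · exact MONNORM.Mid_normalizes hn hn2 h hh x
  · intro hx
    have := MONNORM.Mid_normalizes hn hn2 h⁻¹ (Subgroup.inv_mem _ hh) _ hx
    have h2 : h⁻¹ * (h * x * h⁻¹) * h⁻¹⁻¹ = x := by group
    rwa [h2] at this

/-- the generators of `Mid` -/
def MidGen (K : Type*) [Field K] (n : ℕ) : Set (OJ K n) :=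
  {x | IsDg (mat n x)} ∪ {x | mat n x = rMat n}

theorem closure_MidGen : Subgroup.closure (MidGen K n) = Mid (K := K) n := rfl

/-- the images of the generators of `Mid` commute in the quotient by `Rt` -/
theorem gen_comm (hn : n % 2 = 0) (hn4 : 4 ≤ n) [hN : (Rt (K := K) n).Normal]
    (a b : OJ K n) (ha : a ∈ MidGen K n) (hb : b ∈ MidGen K n) :
    (QuotientGroup.mk' (Rt (K := K) n)) a * (QuotientGroup.mk' (Rt (K := K) n)) b =
      (QuotientGroup.mk' (Rt (K := K) n)) b * (QuotientGroup.mk' (Rt (K := K) n)) a := by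
  have hker : ∀ x : OJ K n, x ∈ Rt (K := K) n → (QuotientGroup.mk' (Rt (K := K) n)) x = 1 :=
    fun x hx => (QuotientGroup.eq_one_iff x).2 hx
  have hRD : ∀ a b : OJ K n, mat n a = rMat n → IsDg (mat n b) →
      (QuotientGroup.mk' (Rt (K := K) n)) a * (QuotientGroup.mk' (Rt (K := K) n)) b =
      (QuotientGroup.mk' (Rt (K := K) n)) b * (QuotientGroup.mk' (Rt (K := K) n)) a := by
    intro a b ha hb
    obtain ⟨h, hh, heq⟩ := swap_diag hn hn4 a b ha hb
    rw [← map_mul, heq, map_mul, hker h hh, one_mul, map_mul]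
  rcases ha with ha | ha <;> rcases hb with hb | hb
  · have : a * b = b * a := by
      apply PRES.mat_injective
      rw [map_mul, map_mul, eq_diagonal_of_isDg _ ha, eq_diagonal_of_isDg _ hb,
        Matrix.diagonal_mul_diagonal, Matrix.diagonal_mul_diagonal]
      congr 1
      funext i
      exact mul_comm _ _
    rw [← map_mul, this, map_mul]
  · exact (hRD b a hb ha).symm
  · exact hRD a b ha hb
  · have : a = b := PRES.mat_injective (ha.trans hb.symm)
    rw [this]

theorem quotient_comm [Fintype K] (hn : n % 2 = 0) (hn4 : 4 ≤ n)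
    (hne : ¬ (n = 4 ∧ Fintype.card K = 2)) [hN : (Rt (K := K) n).Normal]
    (x y : OJ K n ⧸ Rt (K := K) n) : x * y = y * x := by
  have hker : ∀ x : OJ K n, x ∈ Rt (K := K) n → (QuotientGroup.mk' (Rt (K := K) n)) x = 1 :=
    fun x hx => (QuotientGroup.eq_one_iff x).2 hx
  have hcomm : ∀ x ∈ (QuotientGroup.mk' (Rt (K := K) n)) '' (MidGen K n),
      ∀ y ∈ (QuotientGroup.mk' (Rt (K := K) n)) '' (MidGen K n), x * y = y * x := by
    rintro _ ⟨a, ha, rfl⟩ _ ⟨b, hb, rfl⟩
    exact gen_comm hn hn4 a b ha hb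
  have hcl : Subgroup.closure ((QuotientGroup.mk' (Rt (K := K) n)) '' (MidGen K n)) = ⊤ := by
    rw [← MonoidHom.map_closure, closure_MidGen, eq_top_iff]
    intro q _
    obtain ⟨x, rfl⟩ := QuotientGroup.mk'_surjective (Rt (K := K) n) q
    have hx : x ∈ ((Rt (K := K) n ⊔ Mid (K := K) n : Subgroup (OJ K n)) : Set (OJ K n)) := by
      rw [OTOP.Rt_sup_Mid hn hn4 hne]; exact Subgroup.mem_top x
    rw [Subgroup.normal_mul] at hx
    obtain ⟨y, hy, z, hz, hyz⟩ := Set.mem_mul.1 hx
    refine ⟨z, hz, ?_⟩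
    rw [← hyz, map_mul, hker y hy, one_mul]
  have hc := Subgroup.isMulCommutative_closure hcomm
  have hx : x ∈ Subgroup.closure ((QuotientGroup.mk' (Rt (K := K) n)) '' (MidGen K n)) := by
    rw [hcl]; exact Subgroup.mem_top _
  have hy : y ∈ Subgroup.closure ((QuotientGroup.mk' (Rt (K := K) n)) '' (MidGen K n)) := by
    rw [hcl]; exact Subgroup.mem_top _
  exact setLike_mul_comm hx hy

theorem Om_le_Rt [Fintype K] (hn : n % 2 = 0) (hn4 : 4 ≤ n)
    (hne : ¬ (n = 4 ∧ Fintype.card K = 2)) (g : OmJ K n) : (g : OJ K n) ∈ Rt (K := K) n := by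
  have hnorm : (Rt (K := K) n).Normal := Rt_normal hn hn4 hne
  have hab : ∀ a b : OJ K n, ⁅a, b⁆ ∈ Rt (K := K) n := by
    intro a b
    have h1 := quotient_comm hn hn4 hne ((QuotientGroup.mk' (Rt (K := K) n)) a)
      ((QuotientGroup.mk' (Rt (K := K) n)) b)
    rw [← QuotientGroup.eq_one_iff]
    show (QuotientGroup.mk' (Rt (K := K) n)) ⁅a, b⁆ = 1
    rw [commutatorElement_def, map_mul, map_mul, map_mul, map_inv, map_inv, h1]
    group
  have hle : commutator (OJ K n) ≤ Rt (K := K) n := by
    rw [commutator_def, Subgroup.commutator_le]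
    intro a _ b _
    exact hab a b
  exact hle g.2

end COMMQ

end Cfsg.Agent.S2548P
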