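import Mathlib

set_option autoImplicit false
set_option linter.style.haveILetI false
set_option linter.unusedSectionVars false
set_option linter.unusedVariables false

/-! # Fixed points of permutations of `2`-power order on invariant finite sets, and an inverted
`3`-element from a surjection onto `S₃` -/

namespace Cfsg.Agent.Helper7.S4Inv

open Subgroup

/-- A permutation of `2`-power order preserving a finite set of odd size has a fixed point there. -/
theorem exists_fixed_of_odd {α : Type*} (θ : Equiv.Perm α) (n : ℕ) (hθ : θ ^ 2 ^ n = 1)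
    (s : Set α) [Finite s] (hs : ∀ x, θ x ∈ s ↔ x ∈ s) (hodd : Odd (Nat.card s)) :
    ∃ a ∈ s, θ a = a := by
  classical
  haveI : Fact (Nat.Prime 2) := ⟨Nat.prime_two⟩
  haveI : Fintype s := Fintype.ofFinite s
  have h1 : (θ.subtypePerm hs) ^ 2 ^ n = 1 := by
    rw [Equiv.Perm.subtypePerm_pow]
    ext x
    simp [hθ]
  have h2 : ¬ 2 ∣ Fintype.card s := by
    rw [← Nat.card_eq_fintype_card]
    exact hodd.not_two_dvd_nat
  obtain ⟨a, ha⟩ := Equiv.Perm.exists_fixed_point_of_prime (p := 2) (n := n) h2 h1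
  refine ⟨a.1, a.2, ?_⟩
  have := congrArg Subtype.val ha
  simpa using this

/-- A permutation of `2`-power order preserving a finite set of even size and fixing one of its
points fixes another one. -/
theorem exists_fixed_of_even {α : Type*} (θ : Equiv.Perm α) (n : ℕ) (hθ : θ ^ 2 ^ n = 1)
    (s : Set α) [Finite s] (hs : ∀ x, θ x ∈ s ↔ x ∈ s) (heven : Even (Nat.card s))
    (a0 : α) (ha0 : a0 ∈ s) (hfix : θ a0 = a0) :
    ∃ a ∈ s, a ≠ a0 ∧ θ a = a := by
  classical
  haveI : Fact (Nat.Prime 2) := ⟨Nat.prime_two⟩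
  haveI : Fintype s := Fintype.ofFinite s
  have h1 : (θ.subtypePerm hs) ^ 2 ^ n = 1 := by
    rw [Equiv.Perm.subtypePerm_pow]
    ext x
    simp [hθ]
  have h2 : 2 ∣ Fintype.card s := by
    rw [← Nat.card_eq_fintype_card]
    exact heven.two_dvd
  have h3 : (θ.subtypePerm hs) ⟨a0, ha0⟩ = ⟨a0, ha0⟩ := by
    apply Subtype.ext
    simp [hfix]
  obtain ⟨a, ha, hne⟩ := Equiv.Perm.exists_fixed_point_of_prime' (p := 2) (n := n) h2 h1 h3
  refine ⟨a.1, a.2, ?_, ?_⟩
  · intro h
    apply hne
    apply Subtype.ext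
    exact h
  · have := congrArg Subtype.val ha
    simpa using this

/-- In `S₃`, odd permutations invert even ones. -/
theorem perm_three_inverts : ∀ τ σ : Equiv.Perm (Fin 3), Equiv.Perm.sign τ = -1 →
    Equiv.Perm.sign σ = 1 → τ * σ * τ⁻¹ = σ⁻¹ := by
  decide

theorem perm_three_cube : ∀ σ : Equiv.Perm (Fin 3), Equiv.Perm.sign σ = 1 → σ ^ 3 = 1 := by
  decide

theorem perm_three_exists : ∃ σ : Equiv.Perm (Fin 3), Equiv.Perm.sign σ = 1 ∧ σ ≠ 1 := by
  decide

end Cfsg.Agent.Helper7.S4Inv
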