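import Mathlib
import Cfsg.Agent.Helper7.S4Inv1

set_option autoImplicit false
set_option linter.style.haveILetI false
set_option linter.unusedSectionVars false
set_option linter.unusedVariables false

/-! # An inverted `3`-element from a surjection onto `S₃` -/

namespace Cfsg.Agent.Helper7.S4Inv

open Subgroup

/-- The "invert after conjugating" permutation of a group. -/
noncomputable def invConj {K : Type*} [Group K] (b : K) : Equiv.Perm K :=
  (MulAut.conj b).toEquiv.trans (Equiv.inv K)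

theorem invConj_apply {K : Type*} [Group K] (b u : K) : invConj b u = (b * u * b⁻¹)⁻¹ := by
  simp [invConj]

theorem invConj_pow {K : Type*} [Group K] (b : K) (k : ℕ) (hb : b ^ 2 ^ k = 1) :
    invConj b ^ 2 ^ (k + 1) = 1 := by
  have h2 : invConj b * invConj b = MulAut.toPerm K (MulAut.conj (b * b)) := by
    ext u
    simp only [Equiv.Perm.coe_mul, Function.comp_apply, invConj_apply]
    show _ = (MulAut.conj (b * b)) u
    rw [MulAut.conj_apply]
    simp only [mul_inv_rev, inv_inv, mul_assoc]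
  rw [pow_succ', pow_mul, pow_two, h2, ← map_pow, ← map_pow]
  have : (b * b) ^ 2 ^ k = 1 := by
    rw [← pow_two, ← pow_mul, mul_comm, pow_mul, hb, one_pow]
  rw [this, map_one, map_one]

theorem exists_inverting_pair {K : Type*} [Group K] [Finite K] (f : K →* Equiv.Perm (Fin 3))
    (hf : Function.Surjective f) :
    ∃ b i : K, (∃ k : ℕ, b ^ 2 ^ k = 1) ∧ (∃ m : ℕ, i ^ 3 ^ m = 1) ∧ b * i * b⁻¹ = i⁻¹ ∧
      f i ≠ 1 := by
  classical
  haveI : Fact (Nat.Prime 2) := ⟨Nat.prime_two⟩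
  haveI : Fact (Nat.Prime 3) := ⟨Nat.prime_three⟩
  let sg : K →* ℤˣ := (Equiv.Perm.sign).comp f
  have hsg : ∀ x, sg x = Equiv.Perm.sign (f x) := fun x => rfl
  obtain ⟨K0, hK0⟩ : ∃ K0 : Subgroup K, K0 = sg.ker := ⟨_, rfl⟩
  haveI hK0n : K0.Normal := by rw [hK0]; infer_instance
  have hmemK0 : ∀ x, x ∈ K0 ↔ Equiv.Perm.sign (f x) = 1 := by
    intro x; rw [hK0, MonoidHom.mem_ker, hsg]
  -- a `3`-element of `K0` outside `ker f`
  obtain ⟨σ0, hσ0s, hσ01⟩ := perm_three_exists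
  obtain ⟨g, hg⟩ := hf σ0
  have hgpos : orderOf g ≠ 0 := (orderOf_pos g).ne'
  obtain ⟨a, m', hm', hord⟩ := Nat.exists_eq_pow_mul_and_not_dvd hgpos 3 (by norm_num)
  obtain ⟨g', hg'⟩ : ∃ g' : K, g' = g ^ m' := ⟨_, rfl⟩
  have hg'3 : g' ^ 3 ^ a = 1 := by
    rw [hg', ← pow_mul, mul_comm, ← hord, pow_orderOf_eq_one]
  have hfg' : f g' ≠ 1 := by
    rw [hg', map_pow, hg]
    intro h
    have h3 := perm_three_cube σ0 hσ0s
    have hcop : Nat.Coprime m' 3 :=
      (Nat.Coprime.symm ((Nat.Prime.coprime_iff_not_dvd Nat.prime_three).mpr hm'))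
    have h4 : σ0 ^ (Nat.gcd m' 3) = 1 := pow_gcd_eq_one.mpr ⟨h, h3⟩
    rw [hcop.gcd_eq_one, pow_one] at h4
    exact hσ01 h4
  have hg'K0 : g' ∈ K0 := by
    rw [hmemK0, hg', map_pow, hg, map_pow, hσ0s, one_pow]
  have hpg : IsPGroup 3 (zpowers (⟨g', hg'K0⟩ : K0)) := by
    rintro ⟨x, hx⟩
    obtain ⟨n, rfl⟩ := mem_zpowers_iff.mp hx
    refine ⟨a, ?_⟩
    apply Subtype.ext
    have h5 : ((⟨g', hg'K0⟩ : K0) ^ n) ^ 3 ^ a = ((⟨g', hg'K0⟩ : K0) ^ 3 ^ a) ^ n := by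
      rw [← zpow_natCast, ← zpow_mul, mul_comm, zpow_mul, zpow_natCast]
    have h6 : (⟨g', hg'K0⟩ : K0) ^ 3 ^ a = 1 := by
      apply Subtype.ext
      simpa using hg'3
    rw [SubgroupClass.coe_pow, OneMemClass.coe_one]
    show ((⟨g', hg'K0⟩ : K0) ^ n) ^ 3 ^ a = 1
    rw [h5, h6, one_zpow]
  obtain ⟨P, hP⟩ := hpg.exists_le_sylow
  have hfr := Sylow.normalizer_sup_eq_top P
  obtain ⟨P3, hP3⟩ : ∃ P3 : Subgroup K, P3 = (P : Subgroup K0).map K0.subtype := ⟨_, rfl⟩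
  rw [← hP3] at hfr
  have hP3K0 : P3 ≤ K0 := by rw [hP3]; exact map_subtype_le _
  have hP3p : IsPGroup 3 P3 := by rw [hP3]; exact P.2.map _
  have hg'P3 : g' ∈ P3 := by
    rw [hP3]
    refine ⟨⟨g', hg'K0⟩, hP (mem_zpowers _), rfl⟩
  -- an element of the normalizer outside `K0`
  obtain ⟨y, hyN, hyK0⟩ : ∃ y ∈ normalizer (P3 : Set K), y ∉ K0 := by
    by_contra hcon
    push Not at hcon
    have hle : normalizer (P3 : Set K) ≤ K0 := fun y hy => hcon y hy
    have htop : K0 = ⊤ := by rw [← hfr]; exact (sup_eq_right.mpr hle).symm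
    obtain ⟨k0, hk0⟩ := hf (Equiv.swap 0 1)
    have h7 : k0 ∈ K0 := by rw [htop]; exact mem_top _
    rw [hmemK0, hk0] at h7
    revert h7
    decide
  have hypos : orderOf y ≠ 0 := (orderOf_pos y).ne'
  obtain ⟨k, m, hm, hordy⟩ := Nat.exists_eq_two_pow_mul_odd hypos
  obtain ⟨b, hb⟩ : ∃ b : K, b = y ^ m := ⟨_, rfl⟩
  have hb2 : b ^ 2 ^ k = 1 := by
    rw [hb, ← pow_mul, mul_comm, ← hordy, pow_orderOf_eq_one]
  have hbN : b ∈ normalizer (P3 : Set K) := by rw [hb]; exact pow_mem hyN _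
  have hsy : Equiv.Perm.sign (f y) = -1 := by
    rcases Int.units_eq_one_or (Equiv.Perm.sign (f y)) with h | h
    · exact absurd ((hmemK0 y).mpr h) hyK0
    · exact h
  have hsb : Equiv.Perm.sign (f b) = -1 := by
    rw [hb, map_pow, map_pow, hsy, hm.neg_one_pow]
  -- the coset
  obtain ⟨S, hS⟩ : ∃ S : Set K, S = {u | u ∈ P3 ∧ f u = f g'} := ⟨_, rfl⟩
  have hfθ : ∀ u ∈ P3, f (invConj b u) = f u := by
    intro u hu
    rw [invConj_apply, map_inv, map_mul, map_mul, map_inv,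
      perm_three_inverts (f b) (f u) hsb ((hmemK0 u).mp (hP3K0 hu)), inv_inv]
  have hmemθ : ∀ u, invConj b u ∈ P3 ↔ u ∈ P3 := by
    intro u
    rw [invConj_apply, inv_mem_iff]
    exact ((mem_normalizer_iff.mp hbN) u).symm
  have hs : ∀ u, invConj b u ∈ S ↔ u ∈ S := by
    intro u
    rw [hS]
    constructor
    · rintro ⟨h1, h2⟩
      have hu := (hmemθ u).mp h1
      exact ⟨hu, by rw [← hfθ u hu]; exact h2⟩
    · rintro ⟨h1, h2⟩
      exact ⟨(hmemθ u).mpr h1, by rw [hfθ u h1]; exact h2⟩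
  have hcardS : Nat.card S = Nat.card (P3 ⊓ f.ker : Subgroup K) := by
    apply Nat.card_congr
    refine Equiv.subtypeEquiv (Equiv.mulLeft g'⁻¹) ?_
    intro u
    rw [hS]
    simp only [Set.mem_ofPred_eq, Equiv.coe_mulLeft, mem_inf, MonoidHom.mem_ker,
      map_mul, map_inv]
    constructor
    · rintro ⟨h1, h2⟩
      exact ⟨P3.mul_mem (P3.inv_mem hg'P3) h1, by rw [h2, inv_mul_cancel]⟩
    · rintro ⟨h1, h2⟩
      refine ⟨?_, ?_⟩
      · have := P3.mul_mem hg'P3 h1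
        rwa [mul_inv_cancel_left] at this
      · exact (inv_mul_eq_one.mp h2).symm
  have hodd : Odd (Nat.card S) := by
    rw [hcardS]
    have hp : IsPGroup 3 (P3 ⊓ f.ker : Subgroup K) := hP3p.to_le inf_le_left
    obtain ⟨n, hn⟩ := hp.exists_card_eq
    rw [hn]
    exact Odd.pow (by decide)
  haveI : Finite S := Finite.of_injective (fun u : S => (u : K)) Subtype.val_injective
  obtain ⟨i, hiS, hi⟩ := exists_fixed_of_odd (invConj b) (k + 1) (invConj_pow b k hb2) S hs hodd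
  rw [hS] at hiS
  obtain ⟨hiP3, hfi⟩ := hiS
  refine ⟨b, i, ⟨k, hb2⟩, ?_, ?_, ?_⟩
  · obtain ⟨n, hn⟩ := hP3p ⟨i, hiP3⟩
    refine ⟨n, ?_⟩
    have := congrArg Subtype.val hn
    simpa using this
  · rw [invConj_apply] at hi
    rw [← hi, inv_inv]
    rw [hi]
  · rw [hfi]; exact hfg'

end Cfsg.Agent.Helper7.S4Inv
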