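import Mathlib
import Cfsg.Agent.Helper7.S4Inv1
import Cfsg.Agent.Helper9.S4Section2
import Cfsg.Agent.Helper1.PGroup
import Cfsg.Agent.Lead.CoprimeFrattini
import Cfsg.Agent.Helper14.Conj

set_option autoImplicit false
set_option linter.style.haveILetI false
set_option linter.unusedSectionVars false
set_option linter.unusedVariables false

/-! # `S₄` is involved when a `2`-element inverts a `3`-element acting nontrivially on a normal
`2`-subgroup -/

namespace Cfsg.Agent.Helper7.S4Inv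

open Subgroup

/-- The abstract endgame in a group `Q` with a normal subgroup `V` of exponent two. -/
theorem involves_S4_of_exp_two {Q : Type*} [Group Q] [Finite Q] (V : Subgroup Q) [hVn : V.Normal]
    (hV2 : ∀ v ∈ V, v * v = 1) (c d : Q) (k m : ℕ) (hd : d ^ 2 ^ k = 1) (hc : c ^ 3 ^ m = 1)
    (hdc : d * c * d⁻¹ = c⁻¹) (hc3V : ∀ v ∈ V, c * c * c * v = v * (c * c * c))
    (hcV : ∃ v ∈ V, c * v * c⁻¹ ≠ v) :
    Cfsg.Involves (Equiv.Perm (Fin 4)) Q := by
  classical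
  haveI : Fact (Nat.Prime 2) := ⟨Nat.prime_two⟩
  have hVinv : ∀ v ∈ V, v⁻¹ = v := fun v hv => inv_eq_of_mul_eq_one_left (hV2 v hv)
  have hVc : ∀ a ∈ V, ∀ b ∈ V, a * b = b * a := by
    intro a ha b hb
    have h1 := hV2 (a * b) (V.mul_mem ha hb)
    have h2 : a * b = (a * b)⁻¹ := (hVinv _ (V.mul_mem ha hb)).symm
    rw [h2, mul_inv_rev, hVinv a ha, hVinv b hb]
  have hVp : IsPGroup 2 V := by
    rintro ⟨v, hv⟩
    refine ⟨1, ?_⟩
    apply Subtype.ext
    simp only [pow_one, SubgroupClass.coe_pow, OneMemClass.coe_one]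
    rw [pow_two]; exact hV2 v hv
  have hconjV : ∀ e : Q, ∀ v ∈ V, e * v * e⁻¹ ∈ V := fun e v hv => hVn.conj_mem v hv e
  have hcm : ∀ e x y : Q, e * (x * y) * e⁻¹ = e * x * e⁻¹ * (e * y * e⁻¹) := by
    intro e x y; group
  have h_neg1 : ∀ v ∈ V, c⁻¹ * v * c = c * c * v * (c * c)⁻¹ := by
    intro v hv
    have := hc3V v hv
    calc c⁻¹ * v * c = c⁻¹ * (v * (c * c * c)) * (c * c)⁻¹ := by group
      _ = c⁻¹ * (c * c * c * v) * (c * c)⁻¹ := by rw [this]
      _ = c * c * v * (c * c)⁻¹ := by group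
  have h_neg2 : ∀ v ∈ V, (c * c)⁻¹ * v * (c * c) = c * v * c⁻¹ := by
    intro v hv
    have := hc3V v hv
    calc (c * c)⁻¹ * v * (c * c) = (c * c)⁻¹ * (v * (c * c * c)) * c⁻¹ := by group
      _ = (c * c)⁻¹ * (c * c * c * v) * c⁻¹ := by rw [this]
      _ = c * v * c⁻¹ := by group
  have h_three : ∀ v ∈ V, c * (c * c * v * (c * c)⁻¹) * c⁻¹ = v := by
    intro v hv
    have := hc3V v hv
    calc c * (c * c * v * (c * c)⁻¹) * c⁻¹ = (c * c * c * v) * (c * c * c)⁻¹ := by group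
      _ = v * (c * c * c) * (c * c * c)⁻¹ := by rw [this]
      _ = v := by group
  -- the kernel of `1 + c + c²`
  let V' : Subgroup Q :=
    { carrier := {v | v ∈ V ∧ v * (c * v * c⁻¹) * (c * c * v * (c * c)⁻¹) = 1}
      one_mem' := ⟨V.one_mem, by simp⟩
      mul_mem' := by
        rintro a a' ⟨ha, h⟩ ⟨ha', h'⟩
        refine ⟨V.mul_mem ha ha', ?_⟩
        rw [hcm c a a', hcm (c * c) a a']
        have c1 : Commute a' (c * a * c⁻¹) := hVc a' ha' _ (hconjV c a ha)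
        have c2 : Commute (a' * (c * a' * c⁻¹)) (c * c * a * (c * c)⁻¹) :=
          hVc _ (V.mul_mem ha' (hconjV c a' ha')) _ (hconjV (c * c) a ha)
        rw [c1.mul_mul_mul_comm a (c * a' * c⁻¹), c2.mul_mul_mul_comm, h, h', one_mul]
      inv_mem' := by
        rintro a ⟨ha, h⟩
        rw [hVinv a ha]
        exact ⟨ha, h⟩ }
  have hmemV' : ∀ v, v ∈ V' ↔ v ∈ V ∧ v * (c * v * c⁻¹) * (c * c * v * (c * c)⁻¹) = 1 :=
    fun v => Iff.rfl
  have hV'V : V' ≤ V := fun v hv => hv.1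
  -- conjugation by an inverting element preserves `V'`
  have hpres : ∀ e : Q, e * c * e⁻¹ = c⁻¹ → ∀ x ∈ V', e * x * e⁻¹ ∈ V' := by
    intro e he x hx
    obtain ⟨hxV, hx1⟩ := hx
    have he' : e⁻¹ * c * e = c⁻¹ := by
      have h1 : c = e⁻¹ * c⁻¹ * e := by rw [← he]; group
      calc e⁻¹ * c * e = (e⁻¹ * c⁻¹ * e)⁻¹ := by group
        _ = c⁻¹ := by rw [← h1]
    refine ⟨hconjV e x hxV, ?_⟩
    have e1 : c * (e * x * e⁻¹) * c⁻¹ = e * (c * c * x * (c * c)⁻¹) * e⁻¹ := by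
      rw [← h_neg1 x hxV]
      calc c * (e * x * e⁻¹) * c⁻¹ = e * ((e⁻¹ * c * e) * x * (e⁻¹ * c * e)⁻¹) * e⁻¹ := by group
        _ = e * (c⁻¹ * x * c) * e⁻¹ := by rw [he', inv_inv]
    have e2 : c * c * (e * x * e⁻¹) * (c * c)⁻¹ = e * (c * x * c⁻¹) * e⁻¹ := by
      rw [← h_neg2 x hxV]
      calc c * c * (e * x * e⁻¹) * (c * c)⁻¹
          = e * ((e⁻¹ * c * e) * (e⁻¹ * c * e) * x * ((e⁻¹ * c * e) * (e⁻¹ * c * e))⁻¹) * e⁻¹ := by
            group
        _ = e * ((c * c)⁻¹ * x * (c * c)) * e⁻¹ := by rw [he', ← mul_inv_rev, inv_inv]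
    rw [e1, e2]
    have c3 : Commute (c * c * x * (c * c)⁻¹) (c * x * c⁻¹) :=
      hVc _ (hconjV (c * c) x hxV) _ (hconjV c x hxV)
    calc e * x * e⁻¹ * (e * (c * c * x * (c * c)⁻¹) * e⁻¹) * (e * (c * x * c⁻¹) * e⁻¹)
        = e * (x * ((c * c * x * (c * c)⁻¹) * (c * x * c⁻¹))) * e⁻¹ := by group
      _ = e * (x * ((c * x * c⁻¹) * (c * c * x * (c * c)⁻¹))) * e⁻¹ := by rw [c3.eq]
      _ = e * (x * (c * x * c⁻¹) * (c * c * x * (c * c)⁻¹)) * e⁻¹ := by group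
      _ = 1 := by rw [hx1]; group
  have hdc' : d⁻¹ * c * d⁻¹⁻¹ = c⁻¹ := by
    rw [inv_inv]
    have h1 : c = d⁻¹ * c⁻¹ * d := by rw [← hdc]; group
    calc d⁻¹ * c * d = (d⁻¹ * c⁻¹ * d)⁻¹ := by group
      _ = c⁻¹ := by rw [← h1]
  -- a nontrivial element of `V'`
  obtain ⟨v0, hv0, hv0c⟩ := hcV
  have hu : v0 * (c * v0 * c⁻¹) ∈ V' := by
    refine ⟨V.mul_mem hv0 (hconjV c v0 hv0), ?_⟩
    rw [hcm c v0 (c * v0 * c⁻¹), hcm (c * c) v0 (c * v0 * c⁻¹)]
    have hA : c * (c * v0 * c⁻¹) * c⁻¹ = c * c * v0 * (c * c)⁻¹ := by group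
    have hB : c * c * (c * v0 * c⁻¹) * (c * c)⁻¹ = v0 := by
      have := h_three v0 hv0
      calc c * c * (c * v0 * c⁻¹) * (c * c)⁻¹ = c * (c * c * v0 * (c * c)⁻¹) * c⁻¹ := by
            simp only [mul_assoc, mul_inv_rev]
        _ = v0 := this
    rw [hA, hB]
    set a1 := c * v0 * c⁻¹ with ha1
    set a2 := c * c * v0 * (c * c)⁻¹ with ha2
    have h1V : a1 ∈ V := hconjV c v0 hv0
    have h2V : a2 ∈ V := hconjV (c * c) v0 hv0
    calc v0 * a1 * (a1 * a2) * (a2 * v0) = v0 * (a1 * a1) * (a2 * a2) * v0 := by group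
      _ = 1 := by rw [hV2 a1 h1V, hV2 a2 h2V, mul_one, mul_one, hV2 v0 hv0]
  have hu1 : v0 * (c * v0 * c⁻¹) ≠ 1 := by
    intro h
    apply hv0c
    have : c * v0 * c⁻¹ = v0⁻¹ := (inv_eq_of_mul_eq_one_right h).symm
    rw [this, hVinv v0 hv0]
  -- `V'` has even order
  have hV'p : IsPGroup 2 V' := hVp.to_le hV'V
  have heven : Even (Nat.card V') := by
    obtain ⟨n, hn⟩ := hV'p.exists_card_eq
    rw [hn]
    have hn0 : n ≠ 0 := by
      intro h0
      rw [h0, pow_zero] at hn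
      have hbot : V' = ⊥ := Subgroup.card_eq_one.mp hn
      rw [hbot, mem_bot] at hu
      exact hu1 hu
    exact (Nat.even_pow' hn0).mpr even_two
  -- a nontrivial fixed point of `d`
  have hθ : (MulAut.toPerm Q (MulAut.conj d)) ^ 2 ^ k = 1 := by
    rw [← map_pow, ← map_pow, hd, map_one, map_one]
  have hs : ∀ x, (MulAut.toPerm Q (MulAut.conj d)) x ∈ (V' : Set Q) ↔ x ∈ (V' : Set Q) := by
    intro x
    show d * x * d⁻¹ ∈ V' ↔ x ∈ V'
    constructor
    · intro h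
      have := hpres d⁻¹ hdc' _ h
      have e : d⁻¹ * (d * x * d⁻¹) * d⁻¹⁻¹ = x := by group
      rwa [e] at this
    · exact hpres d hdc x
  obtain ⟨w, hwV', hw1, hdw⟩ := exists_fixed_of_even (MulAut.toPerm Q (MulAut.conj d)) k hθ
    (V' : Set Q) hs heven 1 V'.one_mem (by show d * 1 * d⁻¹ = 1; group)
  have hdw : d * w * d⁻¹ = w := hdw
  obtain ⟨hwV, hwrel⟩ := (hmemV' w).mp hwV'
  obtain ⟨w1, hw1def⟩ : ∃ w1 : Q, w1 = c * w * c⁻¹ := ⟨_, rfl⟩
  obtain ⟨w2, hw2def⟩ : ∃ w2 : Q, w2 = c * c * w * (c * c)⁻¹ := ⟨_, rfl⟩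
  rw [← hw1def, ← hw2def] at hwrel
  have hw1V : w1 ∈ V := by rw [hw1def]; exact hconjV c w hwV
  have hw2V : w2 ∈ V := by rw [hw2def]; exact hconjV (c * c) w hwV
  have t00 : w * w = 1 := hV2 w hwV
  have t11 : w1 * w1 = 1 := hV2 w1 hw1V
  have t22 : w2 * w2 = 1 := hV2 w2 hw2V
  have t01 : w * w1 = w2 := by
    have h1 : w2 = (w * w1)⁻¹ := (inv_eq_of_mul_eq_one_right hwrel).symm
    rw [h1, hVinv _ (V.mul_mem hwV hw1V)]
  have t10 : w1 * w = w2 := by rw [hVc w1 hw1V w hwV, t01]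
  have t02 : w * w2 = w1 := by rw [← t01, ← mul_assoc, t00, one_mul]
  have t20 : w2 * w = w1 := by rw [hVc w2 hw2V w hwV, t02]
  have t12 : w1 * w2 = w := by rw [← t10, ← mul_assoc, t11, one_mul]
  have t21 : w2 * w1 = w := by rw [hVc w2 hw2V w1 hw1V, t12]
  -- action of `c` and `d`
  have cw : c * w * c⁻¹ = w1 := hw1def.symm
  have cw1 : c * w1 * c⁻¹ = w2 := by rw [hw1def, hw2def]; group
  have cw2 : c * w2 * c⁻¹ = w := by rw [hw2def]; exact h_three w hwV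
  have dw1 : d * w1 * d⁻¹ = w2 := by
    rw [hw1def, hw2def, ← h_neg1 w hwV]
    calc d * (c * w * c⁻¹) * d⁻¹ = (d * c * d⁻¹) * (d * w * d⁻¹) * (d * c * d⁻¹)⁻¹ := by group
      _ = c⁻¹ * w * c := by rw [hdc, hdw, inv_inv]
  have dw2 : d * w2 * d⁻¹ = w1 := by
    rw [hw1def, hw2def, ← h_neg2 w hwV]
    calc d * (c * c * w * (c * c)⁻¹) * d⁻¹
        = ((d * c * d⁻¹) * (d * c * d⁻¹)) * (d * w * d⁻¹) * ((d * c * d⁻¹) * (d * c * d⁻¹))⁻¹ := by
          group
      _ = (c * c)⁻¹ * w * (c * c) := by rw [hdc, hdw, ← mul_inv_rev, inv_inv]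
  -- distinctness
  have n1 : w1 ≠ 1 := by
    intro h
    apply hw1
    have h2 := cw
    rw [h] at h2
    exact conj_eq_one_iff.mp h2
  have n2 : w2 ≠ 1 := by
    intro h
    apply hw1
    have h2 := hw2def
    rw [h] at h2
    exact conj_eq_one_iff.mp h2.symm
  have n01 : w ≠ w1 := by
    intro h
    apply n2
    rw [← t01, ← h, t00]
  have n02 : w ≠ w2 := by
    intro h
    apply n1
    rw [← t02, ← h, t00]
  have n12 : w1 ≠ w2 := by
    intro h
    apply hw1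
    rw [← t12, ← h, t11]
  -- the four-group
  let U : Subgroup Q :=
    { carrier := {x | x = 1 ∨ x = w ∨ x = w1 ∨ x = w2}
      one_mem' := Or.inl rfl
      mul_mem' := by
        rintro x y (rfl | rfl | rfl | rfl) (rfl | rfl | rfl | rfl) <;>
          simp only [Set.mem_ofPred_eq, one_mul, mul_one, t00, t11, t22, t01, t10, t02, t20, t12,
            t21, true_or, or_true]
      inv_mem' := by
        rintro x (rfl | rfl | rfl | rfl)
        · simp
        · rw [hVinv _ hwV]; exact Or.inr (Or.inl rfl)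
        · rw [hVinv _ hw1V]; exact Or.inr (Or.inr (Or.inl rfl))
        · rw [hVinv _ hw2V]; exact Or.inr (Or.inr (Or.inr rfl)) }
  have hmemU : ∀ x, x ∈ U ↔ x = 1 ∨ x = w ∨ x = w1 ∨ x = w2 := fun x => Iff.rfl
  have hUV : U ≤ V := by
    rintro x (rfl | rfl | rfl | rfl)
    · exact V.one_mem
    · exact hwV
    · exact hw1V
    · exact hw2V
  have hcardU : Nat.card U = 4 := by
    have h1 : Nat.card U = Set.ncard ({1, w, w1, w2} : Set Q) := by
      rw [← Nat.card_coe_set_eq]; rfl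
    rw [h1]
    have h3 : Set.ncard ({w, w1, w2} : Set Q) = 3 :=
      Set.ncard_eq_three.mpr ⟨w, w1, w2, n01, n02, n12, rfl⟩
    rw [Set.ncard_insert_of_notMem, h3]
    simp only [Set.mem_insert_iff, Set.mem_singleton_iff, not_or]
    exact ⟨fun h => hw1 h.symm, fun h => n1 h.symm, fun h => n2 h.symm⟩
  -- `c` and `d` normalize `U`
  have hcU : ∀ x ∈ U, c * x * c⁻¹ ∈ U := by
    rintro x (rfl | rfl | rfl | rfl)
    · rw [mul_one, mul_inv_cancel]; exact U.one_mem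
    · rw [cw]; exact Or.inr (Or.inr (Or.inl rfl))
    · rw [cw1]; exact Or.inr (Or.inr (Or.inr rfl))
    · rw [cw2]; exact Or.inr (Or.inl rfl)
  have hdU : ∀ x ∈ U, d * x * d⁻¹ ∈ U := by
    rintro x (rfl | rfl | rfl | rfl)
    · rw [mul_one, mul_inv_cancel]; exact U.one_mem
    · rw [hdw]; exact Or.inr (Or.inl rfl)
    · rw [dw1]; exact Or.inr (Or.inr (Or.inr rfl))
    · rw [dw2]; exact Or.inr (Or.inr (Or.inl rfl))
  have hnorm : ∀ e : Q, (∀ x ∈ U, e * x * e⁻¹ ∈ U) → e ∈ normalizer (U : Set Q) := by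
    intro e he
    have hle : U.map (MulAut.conj e).toMonoidHom ≤ U := by
      rintro _ ⟨x, hx, rfl⟩
      exact he x hx
    have hcard : Nat.card (U.map (MulAut.conj e).toMonoidHom) = Nat.card U :=
      Nat.card_congr (U.equivMapOfInjective _ (MulAut.conj e).injective).symm.toEquiv
    have heq : U.map (MulAut.conj e).toMonoidHom = U :=
      Subgroup.eq_of_le_of_card_ge hle (le_of_eq hcard.symm)
    rw [mem_normalizer_iff]
    intro x
    constructor
    · exact he x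
    · intro hx
      rw [← heq] at hx
      obtain ⟨y, hy, hyx⟩ := hx
      have : y = x := by
        have h1 : e * y * e⁻¹ = e * x * e⁻¹ := hyx
        have h2 := congrArg (fun z => e⁻¹ * z * e) h1
        simpa [mul_assoc] using h2
      rw [← this]; exact hy
  have hcN : c ∈ normalizer (U : Set Q) := hnorm c hcU
  have hdN : d ∈ normalizer (U : Set Q) := hnorm d hdU
  -- apply the recognition lemma inside `N(U)`
  apply Cfsg.Agent.Helper9.S4Sec.involves_of_subgroup (normalizer (U : Set Q))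
  obtain ⟨NU, hNU⟩ : ∃ NU : Subgroup Q, NU = normalizer (U : Set Q) := ⟨_, rfl⟩
  rw [← hNU] at hcN hdN ⊢
  have hUNU : U ≤ NU := by rw [hNU]; exact le_normalizer
  haveI hV1n : (U.subgroupOf NU).Normal := by
    rw [hNU]; exact Subgroup.normal_in_normalizer
  have hcY : (⟨c, hcN⟩ : NU) ^ 3 ^ m = 1 := by
    apply Subtype.ext
    simpa using hc
  have hdY : (⟨d, hdN⟩ : NU) ^ 2 ^ k = 1 := by
    apply Subtype.ext
    simpa using hd
  refine Cfsg.Agent.Helper9.S4Sec.involves_S4' (U.subgroupOf NU) ?_ (zpowers (⟨c, hcN⟩ : NU)) ?_ ⊥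
    bot_le ?_ ?_ ?_ (⟨d, hdN⟩ : NU) ?_ k hdY ?_
  · rintro ⟨v, hvN⟩ hv
    apply Subtype.ext
    exact hV2 v (hUV (mem_subgroupOf.mp hv))
  · intro y hy
    have h1 : orderOf y ∣ orderOf (⟨c, hcN⟩ : NU) := orderOf_dvd_of_mem_zpowers hy
    have h2 : orderOf (⟨c, hcN⟩ : NU) ∣ 3 ^ m := orderOf_dvd_of_pow_eq_one hcY
    have h3 : Odd (3 ^ m) := Odd.pow (by decide)
    exact Odd.of_dvd_nat h3 (h1.trans h2)
  · intro f hf y hy
    rw [mem_bot] at hf
    rw [hf, one_mul, mul_one]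
  · rintro ⟨v, hvN⟩ hv hcomm
    rw [mem_bot]
    apply Subtype.ext
    show v = 1
    have hvU : v ∈ U := mem_subgroupOf.mp hv
    have h1 := hcomm (⟨c, hcN⟩ : NU) (mem_zpowers _)
    have h2 : v * c = c * v := congrArg Subtype.val h1
    have h3 : c * v * c⁻¹ = v := by rw [← h2]; group
    rcases hvU with rfl | rfl | rfl | rfl
    · rfl
    · rw [cw] at h3; exact absurd h3.symm n01
    · rw [cw1] at h3; exact absurd h3.symm n12
    · rw [cw2] at h3; exact absurd h3 n02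
  · rw [Subgroup.card_bot, mul_one]
    rw [← hcardU]
    exact Nat.card_congr (Subgroup.subgroupOfEquivOfLe hUNU).toEquiv
  · rw [Cfsg.Agent.Helper14.mem_normalizer_iff_map_cj, MonoidHom.map_zpowers,
      Cfsg.Agent.Helper14.cj_apply]
    have : (⟨d, hdN⟩ : NU) * ⟨c, hcN⟩ * (⟨d, hdN⟩ : NU)⁻¹ = (⟨c, hcN⟩ : NU)⁻¹ := by
      apply Subtype.ext
      exact hdc
    rw [this, Subgroup.zpowers_inv]
  · refine ⟨⟨w1, hUNU (Or.inr (Or.inr (Or.inl rfl)))⟩, ?_, ?_⟩
    · rw [mem_subgroupOf]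
      exact Or.inr (Or.inr (Or.inl rfl))
    · rw [mem_bot]
      intro h
      have h1 : d * w1 * d⁻¹ * w1⁻¹ = 1 := congrArg Subtype.val h
      rw [dw1, hVinv w1 hw1V, t21] at h1
      exact hw1 h1

end Cfsg.Agent.Helper7.S4Inv
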