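import Mathlib
import Cfsg.Agent.Helper7.S4Inv3

set_option autoImplicit false
set_option linter.style.haveILetI false
set_option linter.unusedSectionVars false
set_option linter.unusedVariables false

/-! # `S₄` from an inverted `3`-element acting nontrivially on a normal `2`-subgroup -/

namespace Cfsg.Agent.Helper7.S4Inv

open Subgroup

theorem involves_S4_of_inverted {X : Type*} [Group X] [Finite X] (T : Subgroup X)
    [hTn : T.Normal] (hT : IsPGroup 2 T) (b i : X) (k m : ℕ) (hb : b ^ 2 ^ k = 1)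
    (hi : i ^ 3 ^ m = 1) (hbi : b * i * b⁻¹ = i⁻¹) (hiT : i ∉ centralizer (T : Set X)) :
    Cfsg.Involves (Equiv.Perm (Fin 4)) X := by
  classical
  haveI : Fact (Nat.Prime 2) := ⟨Nat.prime_two⟩
  -- replace `i` by a power acting with order three
  have hex : ∃ j : ℕ, i ^ 3 ^ j ∈ centralizer (T : Set X) :=
    ⟨m, by rw [hi]; exact one_mem _⟩
  have hj := Nat.find_spec hex
  have hjmin := fun n => Nat.find_min hex (m := n)
  obtain ⟨j, hjdef⟩ : ∃ j, j = Nat.find hex := ⟨_, rfl⟩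
  rw [← hjdef] at hj hjmin
  have hj0 : j ≠ 0 := by
    intro h0
    rw [h0, pow_zero, pow_one] at hj
    exact hiT hj
  obtain ⟨j', hj'⟩ : ∃ j', j = j' + 1 := ⟨j - 1, by omega⟩
  obtain ⟨i', hi'⟩ : ∃ i' : X, i' = i ^ 3 ^ j' := ⟨_, rfl⟩
  have hi'C : i' ∉ centralizer (T : Set X) := by
    rw [hi']; exact hjmin j' (by omega)
  have hi'3 : i' * i' * i' ∈ centralizer (T : Set X) := by
    have h1 : i' * i' * i' = i' ^ 3 := by rw [pow_succ, pow_two]
    have h2 : i' ^ 3 = i ^ 3 ^ j := by rw [hi', ← pow_mul, hj', pow_succ]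
    rw [h1, h2]; exact hj
  have hi'm : i' ^ 3 ^ m = 1 := by
    rw [hi', ← pow_mul, mul_comm, pow_mul, hi, one_pow]
  have hbi' : b * i' * b⁻¹ = i'⁻¹ := by
    rw [hi', ← conj_pow, hbi, inv_pow]
  -- the Frattini quotient
  obtain ⟨Φ, hΦ⟩ : ∃ Φ : Subgroup X, Φ = (frattini T).map T.subtype := ⟨_, rfl⟩
  have hNT : normalizer (T : Set X) = ⊤ := normalizer_eq_top_iff.mpr hTn
  haveI hΦn : Φ.Normal := by
    rw [← normalizer_eq_top_iff]
    have h1 := Cfsg.Agent.Lead.normalizer_le_normalizer_map_of_characteristic T (frattini T)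
    rw [hNT, ← hΦ] at h1
    exact top_le_iff.mp h1
  obtain ⟨π, hπ⟩ : ∃ π : X →* X ⧸ Φ, π = QuotientGroup.mk' Φ := ⟨_, rfl⟩
  have hπs : Function.Surjective π := by rw [hπ]; exact QuotientGroup.mk'_surjective Φ
  have hπ1 : ∀ x : X, π x = 1 ↔ x ∈ Φ := by
    intro x; rw [hπ]; exact QuotientGroup.eq_one_iff x
  obtain ⟨V, hV⟩ : ∃ V : Subgroup (X ⧸ Φ), V = T.map π := ⟨_, rfl⟩
  haveI hVn : V.Normal := by rw [hV]; exact hTn.map π hπs
  have hV2 : ∀ v ∈ V, v * v = 1 := by
    intro v hv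
    rw [hV] at hv
    obtain ⟨t, ht, rfl⟩ := hv
    have h1 : (⟨t, ht⟩ : T) ^ 2 ∈ frattini T :=
      Cfsg.Agent.Helper1.IsPGroup.pow_mem_frattini hT ⟨t, ht⟩
    have h2 : t * t ∈ Φ := by
      rw [hΦ]
      refine ⟨_, h1, ?_⟩
      simp [pow_two]
    rw [← map_mul]
    exact (hπ1 _).mpr h2
  apply Cfsg.Agent.Helper9.S4Sec.involves_of_quotient Φ
  refine involves_S4_of_exp_two V hV2 (π i') (π b) k m ?_ ?_ ?_ ?_ ?_
  · rw [← map_pow, hb, map_one]
  · rw [← map_pow, hi'm, map_one]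
  · rw [← map_inv, ← map_mul, ← map_mul, hbi', map_inv]
  · intro v hv
    rw [hV] at hv
    obtain ⟨t, ht, rfl⟩ := hv
    have h1 := (mem_centralizer_iff.mp hi'3) t ht
    rw [← map_mul, ← map_mul, ← map_mul, ← map_mul, h1]
  · by_contra hcon
    push Not at hcon
    apply hi'C
    have hA : zpowers i' ≤ normalizer (T : Set X) := by rw [hNT]; exact le_top
    have hcop : (Nat.card (zpowers i')).Coprime (Nat.card (frattini T)) := by
      have h1 : Nat.card (zpowers i') ∣ 3 ^ m := by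
        rw [Nat.card_zpowers]; exact orderOf_dvd_of_pow_eq_one hi'm
      obtain ⟨e, he⟩ := hT.exists_card_eq
      have h2 : Nat.card (frattini T) ∣ 2 ^ e := by
        rw [← he]; exact Subgroup.card_subgroup_dvd_card _
      exact Nat.Coprime.coprime_dvd_left h1
        (Nat.Coprime.coprime_dvd_right h2 (Nat.Coprime.pow _ _ (by decide)))
    have htriv : ∀ a ∈ zpowers i', ∀ t ∈ T,
        a * t * a⁻¹ * t⁻¹ ∈ (frattini T).map T.subtype := by
      intro a ha t ht
      obtain ⟨n, rfl⟩ := mem_zpowers_iff.mp ha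
      have hv : π t ∈ V := by rw [hV]; exact mem_map_of_mem _ ht
      have hcomm : Commute (π i') (π t) := by
        have := hcon _ hv
        exact mul_inv_eq_iff_eq_mul.mp this
      have h3 : (π i') ^ n * π t * ((π i') ^ n)⁻¹ * (π t)⁻¹ = 1 := by
        rw [(hcomm.zpow_left n).eq, mul_inv_cancel_right, mul_inv_cancel]
      have h4 : π (i' ^ n * t * (i' ^ n)⁻¹ * t⁻¹) = 1 := by
        simpa [map_mul, map_zpow, map_inv] using h3
      rw [← hΦ]
      exact (hπ1 _).mp h4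
    have := Cfsg.Agent.Lead.centralizes_of_trivial_on_frattini_quotient (zpowers i') T hA hcop htriv
    exact this (mem_zpowers i')

end Cfsg.Agent.Helper7.S4Inv
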