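import Mathlib
import Cfsg.Agent.Helper7.S4Inv2
import Cfsg.Agent.Helper7.S4Inv4

set_option autoImplicit false
set_option linter.style.haveILetI false
set_option linter.unusedSectionVars false
set_option linter.unusedVariables false

/-! # `S₃` involved in `N(T)/C(T)` for a `2`-subgroup `T` forces `S₄` to be involved -/

namespace Cfsg.Agent.Helper7.S4Inv

open Subgroup

theorem involves_S4_of_section {G : Type*} [Group G] [Finite G] (T : Subgroup G)
    (hT : IsPGroup 2 T)
    (h : Cfsg.Involves (Equiv.Perm (Fin 3))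
      (↥(normalizer (T : Set G)) ⧸
        (centralizer (T : Set G)).subgroupOf (normalizer (T : Set G)))) :
    Cfsg.Involves (Equiv.Perm (Fin 4)) G := by
  classical
  obtain ⟨N, hN⟩ : ∃ N : Subgroup G, N = normalizer (T : Set G) := ⟨_, rfl⟩
  obtain ⟨C, hC⟩ : ∃ C : Subgroup G, C = centralizer (T : Set G) := ⟨_, rfl⟩
  haveI hCn : (C.subgroupOf N).Normal := by
    rw [hC, hN]; infer_instance
  have h' : Cfsg.Involves (Equiv.Perm (Fin 3)) (↥N ⧸ C.subgroupOf N) := by
    subst hN hC; exact h
  clear h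
  have hTN : T ≤ N := by rw [hN]; exact le_normalizer
  haveI hTn : (T.subgroupOf N).Normal := by
    rw [hN]; exact Subgroup.normal_in_normalizer
  have hT' : IsPGroup 2 (T.subgroupOf N) := hT.comap_subtype
  obtain ⟨Kb, f, hf⟩ := Cfsg.Agent.Helper9.S4Sec.exists_surjective_of_involves h'
  obtain ⟨K, hK⟩ : ∃ K : Subgroup N, K = Kb.comap (QuotientGroup.mk' (C.subgroupOf N)) :=
    ⟨_, rfl⟩
  subst hK
  let ft : ↥(Kb.comap (QuotientGroup.mk' (C.subgroupOf N))) →* Equiv.Perm (Fin 3) :=
    f.comp ((QuotientGroup.mk' (C.subgroupOf N)).subgroupComap Kb)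
  have hft : Function.Surjective ft := by
    intro σ
    obtain ⟨y, hy⟩ := hf σ
    obtain ⟨z, hz⟩ := MonoidHom.subgroupComap_surjective_of_surjective
      (QuotientGroup.mk' (C.subgroupOf N)) Kb (QuotientGroup.mk'_surjective _) y
    exact ⟨z, by simp [ft, hz, hy]⟩
  obtain ⟨b, i, ⟨k, hb⟩, ⟨m, hi⟩, hbi, hfi⟩ := exists_inverting_pair ft hft
  apply Cfsg.Agent.Helper9.S4Sec.involves_of_subgroup N
  refine involves_S4_of_inverted (T.subgroupOf N) hT' (b : N) (i : N) k m ?_ ?_ ?_ ?_
  · have := congrArg Subtype.val hb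
    simpa using this
  · have := congrArg Subtype.val hi
    simpa using this
  · have := congrArg Subtype.val hbi
    simpa using this
  · intro hcen
    apply hfi
    have h1 : ((i : N) : G) ∈ C := by
      apply hC.ge
      rw [mem_centralizer_iff]
      intro t ht
      have h2 := (mem_centralizer_iff.mp hcen) ⟨t, hTN ht⟩ (mem_subgroupOf.mpr ht)
      exact congrArg Subtype.val h2
    have h3 : (QuotientGroup.mk' (C.subgroupOf N)) (i : N) = 1 :=
      (QuotientGroup.eq_one_iff _).mpr (mem_subgroupOf.mpr h1)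
    have h4 : ((QuotientGroup.mk' (C.subgroupOf N)).subgroupComap Kb) i = 1 := by
      apply Subtype.ext
      exact h3
    show f (((QuotientGroup.mk' (C.subgroupOf N)).subgroupComap Kb) i) = 1
    rw [h4, map_one]

end Cfsg.Agent.Helper7.S4Inv
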