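import Mathlib
import Cfsg.Prelude.Def_LocalStructure
import Cfsg.Agent.Helper14.Conj

/-!
# S2862 (MSS asymmetric L-Lemma): definitions for the abstract KEY theorem (board `s2862pieces`)

Blueprint: `departures/helper7_S2862_KEY_blueprint.md`.
Everything is internal to an ambient finite group `G`; `H, Y, D, L, L0` are subgroups.

* `cjs g A = A.map (cj g)` : the conjugate `g A g⁻¹`.
* `ChiefPair p H Vt Vb` : `Vb < Vt ≤ O_p(H)`, both `H`-invariant, nothing `H`-invariant strictly between.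
* `Noncentral H Vt Vb` : `[Vt,H] ≰ Vb`.
* `fixP Vt Vb A` : the preimage in `Vt` of `C_{Vt/Vb}(A)` (generated by the `v ∈ Vt` with `⁅v,a⁆ ∈ Vb` for all `a ∈ A`).
* `commP Vt Vb A = ⁅Vt,A⁆ ⊔ Vb` : the preimage of `[Vt/Vb, A]`.
* `KHyp p H Y D L L0` : the hypotheses of the abstract KEY theorem.
-/

set_option autoImplicit false

namespace Cfsg.Agent.S2862P

open Cfsg
open Cfsg.Agent.Helper14 (cj)
open scoped commutatorElement

variable {G : Type*} [Group G]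

/-- the conjugate `g A g⁻¹`. -/
abbrev cjs (g : G) (A : Subgroup G) : Subgroup G := A.map (cj g)

/-- a chief factor `Vt/Vb` of `H` inside `O_p(H)`. -/
structure ChiefPair (p : ℕ) (H Vt Vb : Subgroup G) : Prop where
  lt : Vb < Vt
  le : Vt ≤ pCoreOf p H
  nt : H ≤ Subgroup.normalizer (Vt : Set G)
  nb : H ≤ Subgroup.normalizer (Vb : Set G)
  chief : ∀ Z : Subgroup G, H ≤ Subgroup.normalizer (Z : Set G) → Vb ≤ Z → Z ≤ Vt → Z = Vb ∨ Z = Vt

/-- the chief factor is not central. -/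
def Noncentral (H Vt Vb : Subgroup G) : Prop := ¬ ⁅Vt, H⁆ ≤ Vb

/-- preimage in `Vt` of the fixed points of `A` on `Vt/Vb`. -/
def fixP (Vt Vb A : Subgroup G) : Subgroup G :=
  Subgroup.closure {v : G | v ∈ Vt ∧ ∀ a ∈ A, ⁅v, a⁆ ∈ Vb}

/-- preimage in `Vt` of `[Vt/Vb, A]`. -/
def commP (Vt Vb A : Subgroup G) : Subgroup G := ⁅Vt, A⁆ ⊔ Vb

/-- `g` acts trivially on the section `Zt/Zb`. -/
def TrivOn (g : G) (Zt Zb : Subgroup G) : Prop := ∀ v ∈ Zt, ⁅v, g⁆ ∈ Zb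

/-- Hypotheses of the abstract KEY theorem (`Y = Y_M`, `D = O_p(M)`, `H ∈ ℌ_G(D)`, `L` minimal, `L0` its unique maximal
subgroup over `Y`). -/
structure KHyp (p : ℕ) (H Y D L L0 : Subgroup G) : Prop where
  hYD : Y ≤ D
  hDH : D ≤ H
  hDp : IsPGroup p ↥D
  hDY : D ≤ Subgroup.centralizer (Y : Set G)
  hLH : L ≤ H
  hYL0 : Y ≤ L0
  hL0L : L0 ≤ L
  /-- `H` has characteristic `p` -/
  hchar : H ⊓ Subgroup.centralizer ((pCoreOf p H : Subgroup G) : Set G) ≤ pCoreOf p H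
  hVD : pCoreOf p H ≤ Subgroup.normalizer (D : Set G)
  hVY : pCoreOf p H ≤ Subgroup.normalizer (Y : Set G)
  /-- minimality of `H ∈ ℌ_G(D)` -/
  hmin : ∀ P : Subgroup G, D ≤ P → P ≤ H → P ≠ H → Y ≤ pCoreOf p P
  /-- `p`-groups containing `D` normalise `D` and `Y` -/
  hpn : ∀ T : Subgroup G, IsPGroup p ↥T → D ≤ T → T ≤ Subgroup.normalizer (D : Set G) ⊓ Subgroup.normalizer (Y : Set G)
  /-- weak closure of `D` -/
  hwc : ∀ (g : G) (T : Subgroup G), IsPGroup p ↥T → D ≤ T → cjs g D ≤ T → cjs g D = D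
  /-- `N_G(D) ≤ N_G(Y)` -/
  hND : Subgroup.normalizer (D : Set G) ≤ Subgroup.normalizer (Y : Set G)
  /-- `D` is a Sylow `p`-subgroup of `C_G(Y)` (in the form of `pGroup_inf_C_le`) -/
  hsyl : ∀ T : Subgroup G, IsPGroup p ↥T → D ≤ T → T ⊓ Subgroup.centralizer (Y : Set G) ≤ D
  /-- asymmetry -/
  hasym : ∀ g : G, Y ≤ Subgroup.normalizer ((cjs g Y : Subgroup G) : Set G) →
    cjs g Y ≤ Subgroup.normalizer (Y : Set G) → cjs g Y ≤ Subgroup.centralizer (Y : Set G)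
  /-- `L`-minimality: conjugates of `Y` under `L0` lie in `O_p(L0)` -/
  hU0 : ∀ n ∈ L0, cjs n Y ≤ pCoreOf p L0
  hfar : ∃ h ∈ L, h ∉ L0
  hgenL : ∀ h ∈ L, h ∉ L0 → Y ⊔ cjs h Y = L
  hgenH : ∀ h ∈ L, h ∉ L0 → cjs h Y ⊔ D = H
  hOpL : pCoreOf p L ≤ L0
  hYV : ¬ Y ≤ pCoreOf p H

end Cfsg.Agent.S2862P
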