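import Mathlib
import Cfsg.Agent.Helper7.S2862Defs
import Cfsg.Agent.Helper22.S2862CP7

/-! Board `s2862pieces`, row B1: `B1`, `B1q`, `B1h` (blueprint section 1, (B1)). -/

set_option autoImplicit false
set_option linter.unusedVariables false
set_option linter.unusedSectionVars false

namespace Cfsg.Agent.S2862P

open Cfsg
open Cfsg.Agent.Helper14 (cj)
open Subgroup
open scoped commutatorElement

variable {G : Type*} [Group G] [Finite G] {p : ℕ} [Fact p.Prime]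
variable {H Y D L L0 Vt Vb : Subgroup G}

/-- `⁅v,a⁆ ∈ A` when `v` normalises `A`. -/
theorem B1_aux_comm_mem {A : Subgroup G} {v a : G} (hv : v ∈ normalizer (A : Set G)) (ha : a ∈ A) :
    ⁅v, a⁆ ∈ A := by
  rw [commutatorElement_def]
  have h1 : v * a * v⁻¹ ∈ A := (Subgroup.mem_normalizer_iff.mp hv a).mp ha
  exact A.mul_mem h1 (A.inv_mem ha)

/-- `⁅v,a⁆ ∈ Z` when `a` normalises `Z ∋ v`. -/
theorem B1_aux_comm_mem' {Z : Subgroup G} {v a : G} (ha : a ∈ normalizer (Z : Set G)) (hv : v ∈ Z) :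
    ⁅v, a⁆ ∈ Z := by
  rw [commutatorElement_def]
  have h1 : a * v⁻¹ * a⁻¹ ∈ Z := (Subgroup.mem_normalizer_iff.mp ha v⁻¹).mp (Z.inv_mem hv)
  have : v * a * v⁻¹ * a⁻¹ = v * (a * v⁻¹ * a⁻¹) := by group
  rw [this]
  exact Z.mul_mem hv h1

/-- membership in `fixP` (easy direction). -/
theorem B1_aux_mem_fixP {A : Subgroup G} {v : G} (hv : v ∈ Vt) (h : ∀ a ∈ A, ⁅v, a⁆ ∈ Vb) :
    v ∈ fixP Vt Vb A := Subgroup.subset_closure ⟨hv, h⟩

/-- `Vb ≤ fixP`. -/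
theorem B1_aux_le_fixP (C : ChiefPair p H Vt Vb) {A : Subgroup G} (hA : A ≤ H) : Vb ≤ fixP Vt Vb A := by
  intro v hv
  exact B1_aux_mem_fixP (C.lt.le hv) (fun a ha => B1_aux_comm_mem' (C.nb (hA ha)) hv)

/-- general form: if `Vt` normalises `A` and `B` centralises `A`, then `[X,A] ≤ C_X(B)`. -/
theorem B1_aux_gen (C : ChiefPair p H Vt Vb) {A B : Subgroup G} (hA : A ≤ H) (hB : B ≤ H)
    (hn : Vt ≤ normalizer (A : Set G)) (hc : ∀ a ∈ A, ∀ b ∈ B, a * b = b * a) :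
    commP Vt Vb A ≤ fixP Vt Vb B := by
  unfold commP
  refine sup_le ?_ (B1_aux_le_fixP C hB)
  rw [Subgroup.commutator_le]
  intro v hv a ha
  refine B1_aux_mem_fixP (B1_aux_comm_mem' (C.nt (hA ha)) hv) ?_
  intro b hb
  have h1 : ⁅v, a⁆ ∈ A := B1_aux_comm_mem (hn hv) ha
  have h2 : ⁅⁅v, a⁆, b⁆ = 1 := by
    rw [commutatorElement_eq_one_iff_mul_comm]
    exact hc _ h1 b hb
  rw [h2]
  exact Vb.one_mem

theorem B1_aux_YD (K : KHyp p H Y D L L0) : ∀ a ∈ Y, ∀ b ∈ D, a * b = b * a := by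
  intro a ha b hb
  have := Subgroup.mem_centralizer_iff.mp (K.hDY hb) a ha
  exact this

/-- B1 : `[X,Y] ≤ C_X(D)` and `[X,D] ≤ C_X(Y)`. -/
theorem B1 (K : KHyp p H Y D L L0) (C : ChiefPair p H Vt Vb) :
    commP Vt Vb Y ≤ fixP Vt Vb D ∧ commP Vt Vb D ≤ fixP Vt Vb Y := by
  have hYH : Y ≤ H := K.hYD.trans K.hDH
  refine ⟨B1_aux_gen C hYH K.hDH (C.le.trans K.hVY) (B1_aux_YD K), ?_⟩
  refine B1_aux_gen C K.hDH hYH (C.le.trans K.hVD) ?_
  intro a ha b hb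
  exact (B1_aux_YD K b hb a ha).symm

/-- B1q : quadratic action, `[X,Y] ≤ C_X(Y)`. -/
theorem B1q (K : KHyp p H Y D L L0) (C : ChiefPair p H Vt Vb) : commP Vt Vb Y ≤ fixP Vt Vb Y := by
  have hYH : Y ≤ H := K.hYD.trans K.hDH
  refine B1_aux_gen C hYH hYH (C.le.trans K.hVY) ?_
  intro a ha b hb
  exact B1_aux_YD K a ha b (K.hYD hb)

/-- B1h : the conjugate statement. -/
theorem B1h (K : KHyp p H Y D L L0) (C : ChiefPair p H Vt Vb) {g : G} (hg : g ∈ H) :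
    commP Vt Vb (cjs g Y) ≤ fixP Vt Vb (cjs g D) ∧ commP Vt Vb (cjs g D) ≤ fixP Vt Vb (cjs g Y) := by
  have hYH : Y ≤ H := K.hYD.trans K.hDH
  obtain ⟨h1, h2⟩ := B1 K C
  rw [commP_cjs C hYH hg, fixP_cjs C K.hDH hg, commP_cjs C K.hDH hg, fixP_cjs C hYH hg]
  exact ⟨Subgroup.map_mono h1, Subgroup.map_mono h2⟩

end Cfsg.Agent.S2862P
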