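import Mathlib
import Cfsg.Agent.Helper7.S2862Defs

/-! Board `s2862pieces`, row FAR: `far_inv`. -/

set_option autoImplicit false
set_option linter.unusedVariables false
set_option linter.unusedSectionVars false

namespace Cfsg.Agent.S2862P

open Cfsg
open Cfsg.Agent.Helper14 (cj)
open Subgroup
open scoped commutatorElement

variable {G : Type*} [Group G] [Finite G] {p : ℕ} [Fact p.Prime]
variable {H Y D L L0 Vt Vb : Subgroup G}

/-- FAR : `h⁻¹ ∈ L ∖ L0` and `H = ⟨Y, D^h⟩`. -/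
theorem far_inv (K : KHyp p H Y D L L0) {h : G} (hh : h ∈ L) (hh0 : h ∉ L0) :
    h⁻¹ ∈ L ∧ h⁻¹ ∉ L0 ∧ Y ⊔ cjs h D = H := by
  have h1 : h⁻¹ ∈ L := L.inv_mem hh
  have h2 : h⁻¹ ∉ L0 := fun hc => hh0 (by simpa using L0.inv_mem hc)
  refine ⟨h1, h2, ?_⟩
  have h3 := K.hgenH h⁻¹ h1 h2
  have h4 : cjs h (cjs h⁻¹ Y ⊔ D) = cjs h H := by rw [h3]
  have h5 : cjs h H = H := Cfsg.Agent.Helper14.map_cj_eq_self_of_mem (K.hLH hh)
  rw [h5] at h4
  unfold cjs at h4 ⊢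
  rw [Subgroup.map_sup, Cfsg.Agent.Helper14.map_cj_inv_map_cj] at h4
  exact h4

end Cfsg.Agent.S2862P
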