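import Mathlib
import Cfsg.Agent.Helper7.S2862Defs
import Cfsg.Agent.Helper7.S2862B1
import Cfsg.Agent.Helper7.S2862FAR
import Cfsg.Agent.Helper22.S2862CP4
import Cfsg.Agent.Helper22.S2862CP5
import Cfsg.Agent.Helper6.S2862CP6
import Cfsg.Agent.Helper17.S2862CP8

/-! Board `s2862pieces`, rows B2, B3 (blueprint section 1). -/

set_option autoImplicit false
set_option linter.unusedVariables false
set_option linter.unusedSectionVars false

namespace Cfsg.Agent.S2862P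

open Cfsg
open Cfsg.Agent.Helper14 (cj)
open Subgroup
open scoped commutatorElement

variable {G : Type*} [Group G] [Finite G] {p : ℕ} [Fact p.Prime]
variable {H Y D L L0 Vt Vb : Subgroup G}

theorem B2_aux_cjs_le {A : Subgroup G} (hA : A ≤ H) {g : G} (hg : g ∈ H) : cjs g A ≤ H := by
  rintro _ ⟨a, ha, rfl⟩
  rw [Cfsg.Agent.Helper14.cj_apply]
  exact H.mul_mem (H.mul_mem hg (hA ha)) (H.inv_mem hg)

/-- B2 -/
theorem B2 (K : KHyp p H Y D L L0) (C : ChiefPair p H Vt Vb) (hnc : Noncentral H Vt Vb) {h : G} (hh : h ∈ L)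
    (hh0 : h ∉ L0) :
    fixP Vt Vb (cjs h Y) ⊓ fixP Vt Vb D = Vb ∧ commP Vt Vb (cjs h Y) ⊔ commP Vt Vb D = Vt := by
  have hYH : Y ≤ H := K.hYD.trans K.hDH
  have hhH : h ∈ H := K.hLH hh
  have hcY : cjs h Y ≤ H := B2_aux_cjs_le hYH hhH
  have hgen := K.hgenH h hh hh0
  constructor
  · rw [← fixP_sup C hcY K.hDH, hgen]
    exact fixP_H C hnc
  · rw [← commP_sup C hcY K.hDH, hgen]
    exact commP_H C hnc

/-- B3 -/
theorem B3 (K : KHyp p H Y D L L0) (C : ChiefPair p H Vt Vb) (hnc : Noncentral H Vt Vb) {h : G} (hh : h ∈ L)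
    (hh0 : h ∉ L0) : fixP Vt Vb Y ⊓ commP Vt Vb (cjs h Y) = Vb := by
  have hYH : Y ≤ H := K.hYD.trans K.hDH
  have hhH : h ∈ H := K.hLH hh
  have hcY : cjs h Y ≤ H := B2_aux_cjs_le hYH hhH
  have hcD : cjs h D ≤ H := B2_aux_cjs_le K.hDH hhH
  obtain ⟨-, -, hgen⟩ := far_inv K hh hh0
  apply le_antisymm
  · calc fixP Vt Vb Y ⊓ commP Vt Vb (cjs h Y) ≤ fixP Vt Vb Y ⊓ fixP Vt Vb (cjs h D) :=
          inf_le_inf_left _ (B1h K C hhH).1
      _ = fixP Vt Vb (Y ⊔ cjs h D) := (fixP_sup C hYH hcD).symm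
      _ = fixP Vt Vb H := by rw [hgen]
      _ = Vb := fixP_H C hnc
  · exact le_inf (le_fixP C hYH) (le_commP _)

end Cfsg.Agent.S2862P
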