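import Mathlib
import Cfsg.Agent.Helper7.S2862Defs
import Cfsg.Agent.Helper14.PCore

/-! Board `s2862top`, rows T4b (core: T4a is a hypothesis) and T4e. -/

set_option autoImplicit false
set_option linter.unusedVariables false
set_option linter.unusedSectionVars false

namespace Cfsg.Agent.S2862P

open Cfsg
open Cfsg.Agent.Helper14 (cj)
open Subgroup
open scoped commutatorElement

variable {G : Type*} [Group G] [Finite G] {p : ℕ} [Fact p.Prime]
variable {H Y D L L0 Vt Vb : Subgroup G}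

/-- `⁅A,B⁆ ≤ A` when `B` normalises `A`. -/
theorem T4b_aux_comm_le_left {A B : Subgroup G} (h : B ≤ normalizer (A : Set G)) : ⁅A, B⁆ ≤ A := by
  rw [Subgroup.commutator_le]
  intro a ha b hb
  rw [commutatorElement_def]
  have h1 : b * a⁻¹ * b⁻¹ ∈ A := (Subgroup.mem_normalizer_iff.mp (h hb) a⁻¹).mp (A.inv_mem ha)
  have e : a * b * a⁻¹ * b⁻¹ = a * (b * a⁻¹ * b⁻¹) := by group
  rw [e]
  exact A.mul_mem ha h1

/-- `⁅A,B⁆ ≤ B` when `A` normalises `B`. -/
theorem T4b_aux_comm_le_right {A B : Subgroup G} (h : A ≤ normalizer (B : Set G)) : ⁅A, B⁆ ≤ B := by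
  rw [Subgroup.commutator_le]
  intro a ha b hb
  rw [commutatorElement_def]
  have h1 : a * b * a⁻¹ ∈ B := (Subgroup.mem_normalizer_iff.mp (h ha) b).mp hb
  exact B.mul_mem h1 (B.inv_mem hb)

/-- T4b with T4a as a hypothesis. -/
theorem T4b_aux_core (hLH : L ≤ H) (hT4a : pCoreOf p H ≤ normalizer (L : Set G)) :
    ⁅pCoreOf p H, L⁆ ≤ pCoreOf p L := by
  have hHV : H ≤ normalizer ((pCoreOf p H : Subgroup G) : Set G) := Cfsg.Agent.Helper14.le_normalizer_pCoreOf p H
  have h1 : ⁅pCoreOf p H, L⁆ ≤ pCoreOf p H ⊓ L :=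
    le_inf (T4b_aux_comm_le_left (hLH.trans hHV)) (T4b_aux_comm_le_right hT4a)
  refine h1.trans ?_
  apply Cfsg.Agent.Helper14.le_pCoreOf p inf_le_right
  · -- `L` normalises `O_p(H) ⊓ L`
    intro l hl
    have hl1 := hHV (hLH hl)
    rw [Subgroup.mem_normalizer_iff] at hl1 ⊢
    intro x
    constructor
    · rintro ⟨hx1, hx2⟩
      exact ⟨(hl1 x).mp hx1, L.mul_mem (L.mul_mem hl hx2) (L.inv_mem hl)⟩
    · rintro ⟨hx1, hx2⟩
      refine ⟨(hl1 x).mpr hx1, ?_⟩
      have := L.mul_mem (L.mul_mem (L.inv_mem hl) hx2) hl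
      have e : l⁻¹ * (l * x * l⁻¹) * l = x := by group
      rwa [e] at this
  · exact (Cfsg.Agent.Helper14.pCoreOf_isPGroup p H).to_le inf_le_left

/-- T4e : the subtype form of the frozen statement (pure translation, no `KHyp`). -/
theorem T4e (h : L ⊓ centralizer ((pCoreOf p L : Subgroup G) : Set G) ≤ pCoreOf p L) :
    Subgroup.centralizer (Cfsg.pCore p ↥L : Set ↥L) ≤ Cfsg.pCore p ↥L := by
  intro x hx
  have h1 : (x : G) ∈ L ⊓ centralizer ((pCoreOf p L : Subgroup G) : Set G) := by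
    refine Subgroup.mem_inf.mpr ⟨x.2, ?_⟩
    rw [Subgroup.mem_centralizer_iff]
    rintro _ ⟨y, hy, rfl⟩
    have := Subgroup.mem_centralizer_iff.mp hx y hy
    exact congrArg Subtype.val this
  obtain ⟨y, hy, hyx⟩ := h h1
  have : y = x := Subtype.ext hyx
  rw [← this]
  exact hy

end Cfsg.Agent.S2862P
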