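import Cfsg.Agent.Helper7.S2951FINb

set_option autoImplicit false

/-! # S2951 board, piece FIN (part d): the facts in `Perm (Fin 4) × C₂` -/

namespace Cfsg.Agent.S2951P

/-- the double transposition `(0 2)(1 3)` -/
def FIN_aux_c2 : Equiv.Perm (Fin 4) × Multiplicative (ZMod 2) := (Equiv.swap 0 2 * Equiv.swap 1 3, 1)

/-- the 3-cycle `(0 1)(1 2)` -/
def FIN_aux_g2 : Equiv.Perm (Fin 4) × Multiplicative (ZMod 2) := (Equiv.swap 0 1 * Equiv.swap 1 2, 1)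

/-- the four-group times the centre -/
def FIN_aux_PU2 (y : Equiv.Perm (Fin 4) × Multiplicative (ZMod 2)) : Prop :=
  y.1 * y.1 = 1 ∧ Equiv.Perm.sign y.1 = 1

instance FIN_aux_PU2_dec : DecidablePred FIN_aux_PU2 :=
  fun y => inferInstanceAs (Decidable (y.1 * y.1 = 1 ∧ Equiv.Perm.sign y.1 = 1))

/-- the alternating group -/
def FIN_aux_PO2 (y : Equiv.Perm (Fin 4) × Multiplicative (ZMod 2)) : Prop :=
  Equiv.Perm.sign y.1 = 1 ∧ y.2 = 1

instance FIN_aux_PO2_dec : DecidablePred FIN_aux_PO2 :=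
  fun y => inferInstanceAs (Decidable (Equiv.Perm.sign y.1 = 1 ∧ y.2 = 1))

set_option maxRecDepth 100000
set_option maxHeartbeats 4000000
set_option synthInstance.maxSize 4000
set_option synthInstance.maxHeartbeats 400000

theorem FIN_aux_DF2_card : Fintype.card (Equiv.Perm (Fin 4) × Multiplicative (ZMod 2)) = 24 ∨ Fintype.card (Equiv.Perm (Fin 4) × Multiplicative (ZMod 2)) = 48 := by decide

theorem FIN_aux_DF2_card_T : Fintype.card {y : (Equiv.Perm (Fin 4) × Multiplicative (ZMod 2)) // FIN_aux_PT FIN_aux_c2 y} * 3 = Fintype.card (Equiv.Perm (Fin 4) × Multiplicative (ZMod 2)) := by decide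

theorem FIN_aux_DF2_card_U : Fintype.card {y : (Equiv.Perm (Fin 4) × Multiplicative (ZMod 2)) // FIN_aux_PU2 y} * 6 = Fintype.card (Equiv.Perm (Fin 4) × Multiplicative (ZMod 2)) := by decide

theorem FIN_aux_DF2_card_Z : Fintype.card {y : (Equiv.Perm (Fin 4) × Multiplicative (ZMod 2)) // FIN_aux_PT FIN_aux_c2 y ∧ FIN_aux_PZ FIN_aux_c2 y} * 12 = Fintype.card (Equiv.Perm (Fin 4) × Multiplicative (ZMod 2)) := by decide

theorem FIN_aux_DF2_u_one : FIN_aux_PU2 1 := by decide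

theorem FIN_aux_DF2_u_mul : ∀ y : (Equiv.Perm (Fin 4) × Multiplicative (ZMod 2)), FIN_aux_PU2 y → ∀ z : (Equiv.Perm (Fin 4) × Multiplicative (ZMod 2)), FIN_aux_PU2 z → FIN_aux_PU2 (y * z) := by decide

theorem FIN_aux_DF2_u_conj : ∀ y : (Equiv.Perm (Fin 4) × Multiplicative (ZMod 2)), FIN_aux_PU2 y → ∀ h : (Equiv.Perm (Fin 4) × Multiplicative (ZMod 2)), FIN_aux_PU2 (h * y * h⁻¹) := by decide

theorem FIN_aux_DF2_u_sq : ∀ y : (Equiv.Perm (Fin 4) × Multiplicative (ZMod 2)), FIN_aux_PU2 y → y * y = 1 := by decide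

theorem FIN_aux_DF2_u_le : ∀ y : (Equiv.Perm (Fin 4) × Multiplicative (ZMod 2)), FIN_aux_PU2 y → FIN_aux_PT FIN_aux_c2 y := by decide

theorem FIN_aux_DF2_u_ge : ∀ y : (Equiv.Perm (Fin 4) × Multiplicative (ZMod 2)), FIN_aux_P3 FIN_aux_c2 FIN_aux_g2 y → FIN_aux_PU2 y := by decide

theorem FIN_aux_DF2_cent_U : ∀ y : (Equiv.Perm (Fin 4) × Multiplicative (ZMod 2)), FIN_aux_PCU FIN_aux_PU2 y → FIN_aux_PU2 y := by decide

theorem FIN_aux_DF2_center_le : ∀ z : (Equiv.Perm (Fin 4) × Multiplicative (ZMod 2)), FIN_aux_PT FIN_aux_c2 z → FIN_aux_PZ FIN_aux_c2 z → FIN_aux_PU2 z := by decide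

theorem FIN_aux_DF2_F2 : ∀ f : (Equiv.Perm (Fin 4) × Multiplicative (ZMod 2)), FIN_aux_PF FIN_aux_c2 FIN_aux_PU2 f → ∀ y : (Equiv.Perm (Fin 4) × Multiplicative (ZMod 2)), FIN_aux_PT FIN_aux_c2 y → y * f = f * y → FIN_aux_PU2 y := by decide

theorem FIN_aux_DF2_F3 : ∀ x : (Equiv.Perm (Fin 4) × Multiplicative (ZMod 2)), FIN_aux_PI FIN_aux_c2 FIN_aux_PU2 x → ∀ y : (Equiv.Perm (Fin 4) × Multiplicative (ZMod 2)), FIN_aux_PI FIN_aux_c2 FIN_aux_PU2 y → FIN_aux_PZ FIN_aux_c2 (x⁻¹ * y) := by decide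

theorem FIN_aux_DF2_center_X : Fintype.card (Equiv.Perm (Fin 4) × Multiplicative (ZMod 2)) = 48 → ∃ z : (Equiv.Perm (Fin 4) × Multiplicative (ZMod 2)), FIN_aux_PZX z ∧ z ≠ 1 ∧ FIN_aux_PU2 z := by decide

theorem FIN_aux_DF2_o_mul : ∀ y : (Equiv.Perm (Fin 4) × Multiplicative (ZMod 2)), FIN_aux_PO2 y → ∀ z : (Equiv.Perm (Fin 4) × Multiplicative (ZMod 2)), FIN_aux_PO2 z → FIN_aux_PO2 (y * z) := by decide

theorem FIN_aux_DF2_o_inv : ∀ y : (Equiv.Perm (Fin 4) × Multiplicative (ZMod 2)), FIN_aux_PO2 y → FIN_aux_PO2 y⁻¹ := by decide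

theorem FIN_aux_DF2_o_of : ∀ y : (Equiv.Perm (Fin 4) × Multiplicative (ZMod 2)), FIN_aux_PC y → FIN_aux_PO2 y := by decide

theorem FIN_aux_DF2_o_gen : ∀ y : (Equiv.Perm (Fin 4) × Multiplicative (ZMod 2)), FIN_aux_PO2 y → FIN_aux_PG y := by decide

theorem FIN_aux_DF2_card_O : Fintype.card {y : (Equiv.Perm (Fin 4) × Multiplicative (ZMod 2)) // FIN_aux_PO2 y} = 12 := by decide

theorem FIN_aux_DF2_card_W : Fintype.card {y : (Equiv.Perm (Fin 4) × Multiplicative (ZMod 2)) // FIN_aux_PO2 y ∧ FIN_aux_PU2 y} = 4 := by decide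

theorem FIN_aux_DF2_cent_W : ∀ y : (Equiv.Perm (Fin 4) × Multiplicative (ZMod 2)), FIN_aux_PCW FIN_aux_PU2 FIN_aux_PO2 y ↔ FIN_aux_PU2 y := by decide

theorem FIN_aux_DF2 : FIN_aux_DF (Equiv.Perm (Fin 4) × Multiplicative (ZMod 2))
    FIN_aux_c2 FIN_aux_g2 FIN_aux_PU2 FIN_aux_PO2 where
  card := FIN_aux_DF2_card
  card_T := FIN_aux_DF2_card_T
  card_U := FIN_aux_DF2_card_U
  card_Z := FIN_aux_DF2_card_Z
  u_one := FIN_aux_DF2_u_one
  u_mul := FIN_aux_DF2_u_mul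
  u_conj := FIN_aux_DF2_u_conj
  u_sq := FIN_aux_DF2_u_sq
  u_le := FIN_aux_DF2_u_le
  u_ge := FIN_aux_DF2_u_ge
  cent_U := FIN_aux_DF2_cent_U
  center_le := FIN_aux_DF2_center_le
  F2 := FIN_aux_DF2_F2
  F3 := FIN_aux_DF2_F3
  center_X := FIN_aux_DF2_center_X
  o_mul := FIN_aux_DF2_o_mul
  o_inv := FIN_aux_DF2_o_inv
  o_of := FIN_aux_DF2_o_of
  o_gen := FIN_aux_DF2_o_gen
  card_O := FIN_aux_DF2_card_O
  card_W := FIN_aux_DF2_card_W
  cent_W := FIN_aux_DF2_cent_W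

end Cfsg.Agent.S2951P
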