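import Cfsg.Agent.Helper7.S2951FINc
import Cfsg.Agent.Helper7.S2951FINd

set_option autoImplicit false

/-! # S2951 board, piece FIN: the finite facts on `S₄` and `S₄ × C₂`

Transport (`FIN_aux_CF.transport`) of the first-order facts `FIN_aux_CF`, checked by `decide` in `Perm (Fin 4)`
(`FIN_aux_DF1`) and in `Perm (Fin 4) × C₂` (`FIN_aux_DF2`), along the given isomorphism, then along an inner
automorphism carrying the centraliser of the double transposition onto the given Sylow 2-subgroup
(`FIN_aux_any`). -/

namespace Cfsg.Agent.S2951P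

open Cfsg Subgroup

theorem FIN {X : Type*} [Group X] [Finite X] (h : IsS4Type X) (T : Sylow 2 X) :
    S4Facts X (T : Subgroup X) := by
  rcases h with ⟨⟨e⟩⟩ | ⟨⟨e⟩⟩
  · exact FIN_aux_any (FIN_aux_DF1.toCF.transport e) T
  · exact FIN_aux_any (FIN_aux_DF2.toCF.transport e) T

end Cfsg.Agent.S2951P
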