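import Mathlib
import Cfsg.Agent.Helper10.S3805Defs
import Cfsg.Agent.Helper24.Linear
import Cfsg.Prelude.Def_Transfer

/-!
# S3805, piece COUNT2: the factorization counts in the fused case
-/

set_option autoImplicit false

namespace Cfsg.Agent.S3805P

open Cfsg Cfsg.Agent.Helper24

universe u

/-- the preimage in `Q` of the class of `u` when `u ~ w`, `u ≁ v` -/
def COUNT2_isU (q : Q) : Prop := q.1 * q.1 = 1 ∧ q.1 ≠ 1 ∧ q.2 * q.2 = 1

instance COUNT2_dec : DecidablePred COUNT2_isU := fun q => by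
  unfold COUNT2_isU; infer_instance

theorem COUNT2_key1 : ∀ q : Q, q * q = 1 → q ≠ 1 →
    COUNT2_isU q ∨ (∃ x : Q, x * (1, DihedralGroup.sr 0) * x⁻¹ = q) := by
  decide

theorem COUNT2_key2 : ∀ q : Q, COUNT2_isU q →
    (∃ x : Q, x * (DihedralGroup.sr 0, 1) * x⁻¹ = q) ∨
      (∃ x : Q, x * (DihedralGroup.sr 0, DihedralGroup.sr 0) * x⁻¹ = q) := by
  decide

theorem COUNT2_card1 : Fintype.card {q : Q // COUNT2_isU q ∧
    COUNT2_isU (q⁻¹ * (DihedralGroup.r 1, 1))} = 12 := by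
  decide

theorem COUNT2_card2 : Fintype.card {q : Q // COUNT2_isU q ∧
    COUNT2_isU (q⁻¹ * (DihedralGroup.r 1, DihedralGroup.r 1))} = 9 := by
  decide

theorem COUNT2_card3 : Fintype.card {q : Q // COUNT2_isU q ∧
    COUNT2_isU (q⁻¹ * (DihedralGroup.r 1, DihedralGroup.sr 0))} = 6 := by
  decide

theorem COUNT2_card4 : Fintype.card {q : Q // COUNT2_isU q ∧
    COUNT2_isU (q⁻¹ * (1, DihedralGroup.r 1))} = 9 := by
  decide

theorem COUNT2_card5 : Fintype.card {q : Q // COUNT2_isU q ∧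
    COUNT2_isU (q⁻¹ * (DihedralGroup.sr 0, DihedralGroup.r 1))} = 0 := by
  decide

variable {G : Type*} [Group G]

theorem COUNT2_u_sq (c : Cfg G) : c.u * c.u = 1 := by
  unfold Cfg.u
  rw [← map_mul]
  have : ((DihedralGroup.sr 0, 1) : Q) * (DihedralGroup.sr 0, 1) = 1 := by decide
  rw [this, map_one]

theorem COUNT2_u_ne (c : Cfg G) : c.u ≠ 1 := by
  unfold Cfg.u
  intro h
  have h' : c.ι (DihedralGroup.sr 0, 1) = c.ι 1 := by rw [h, map_one]
  have := c.inj h'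
  revert this
  decide

theorem COUNT2_sq_of_conj (c : Cfg G) (z : G) (hz : IsConj c.u z) : z * z = 1 := by
  obtain ⟨g, hg⟩ := isConj_iff.mp hz
  rw [← hg]
  calc g * c.u * g⁻¹ * (g * c.u * g⁻¹) = g * (c.u * c.u) * g⁻¹ := by group
    _ = 1 := by rw [COUNT2_u_sq]; group

theorem COUNT2_ne_of_conj (c : Cfg G) (z : G) (hz : IsConj c.u z) : z ≠ 1 := by
  obtain ⟨g, hg⟩ := isConj_iff.mp hz
  intro h
  apply COUNT2_u_ne c
  rw [h] at hg
  have : c.u = g⁻¹ * (g * c.u * g⁻¹) * g := by group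
  rw [this, hg]
  group

theorem COUNT2_conj_map (c : Cfg G) (q₀ q x : Q) (hx : x * q₀ * x⁻¹ = q) :
    IsConj (c.ι q₀) (c.ι q) := by
  rw [isConj_iff]
  exact ⟨c.ι x, by rw [← hx, map_mul, map_mul, map_inv]⟩

/-- the class of `u` meets `ι(Q)` in `ι` of the involutions with nontrivial first component -/
theorem COUNT2_iff (c : Cfg G) (huw : IsConj c.u c.w) (huv : ¬ IsConj c.u c.v) (q : Q) :
    IsConj c.u (c.ι q) ↔ COUNT2_isU q := by
  constructor
  · intro hq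
    have hq2 : q * q = 1 := by
      apply c.inj
      rw [map_mul, map_one]
      exact COUNT2_sq_of_conj c _ hq
    have hq1 : q ≠ 1 := by
      intro h
      apply COUNT2_ne_of_conj c _ hq
      rw [h, map_one]
    rcases COUNT2_key1 q hq2 hq1 with h | ⟨x, hx⟩
    · exact h
    · exfalso
      apply huv
      have h1 : IsConj c.v (c.ι q) := COUNT2_conj_map c _ _ x hx
      exact hq.trans h1.symm
  · intro hq
    rcases COUNT2_key2 q hq with ⟨x, hx⟩ | ⟨x, hx⟩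
    · exact COUNT2_conj_map c _ _ x hx
    · exact huw.trans (COUNT2_conj_map c _ _ x hx)

/-- all factorizations of a `3`-singular element of `ι(Q)` into two conjugates of `u` live in
`ι(Q)` -/
theorem COUNT2_card (c : Cfg G) (huw : IsConj c.u c.w) (huv : ¬ IsConj c.u c.v) (d₀ : Q)
    (hd₀ : d₀ * d₀ ≠ 1) :
    Nat.card {x : G // IsConj c.u x ∧ IsConj c.u (x⁻¹ * c.ι d₀)} =
      Fintype.card {q : Q // COUNT2_isU q ∧ COUNT2_isU (q⁻¹ * d₀)} := by
  rw [← Nat.card_eq_fintype_card]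
  symm
  refine Nat.card_eq_of_bijective
    (fun q : {q : Q // COUNT2_isU q ∧ COUNT2_isU (q⁻¹ * d₀)} =>
      (⟨c.ι q.1, (COUNT2_iff c huw huv q.1).2 q.2.1, by
        rw [← map_inv, ← map_mul]
        exact (COUNT2_iff c huw huv _).2 q.2.2⟩ :
        {x : G // IsConj c.u x ∧ IsConj c.u (x⁻¹ * c.ι d₀)})) ⟨?_, ?_⟩
  · intro q q' h
    apply Subtype.ext
    apply c.inj
    exact congrArg Subtype.val h
  · rintro ⟨x, hx, hy⟩
    have hx2 : x * x = 1 := COUNT2_sq_of_conj c x hx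
    have hxinv : x⁻¹ = x := inv_eq_of_mul_eq_one_left hx2
    have hy2 : x⁻¹ * c.ι d₀ * (x⁻¹ * c.ι d₀) = 1 := COUNT2_sq_of_conj c _ hy
    have hconj : x * c.ι d₀ * x⁻¹ = c.ι d₀⁻¹ := by
      rw [map_inv]
      rw [hxinv] at hy2 ⊢
      apply eq_inv_of_mul_eq_one_left
      rw [← hy2]; group
    obtain ⟨qx, hqx⟩ := c.ti x _ _ hd₀ hconj
    have h1 : COUNT2_isU qx := (COUNT2_iff c huw huv qx).1 (by rw [hqx]; exact hx)
    have h2 : COUNT2_isU (qx⁻¹ * d₀) := by
      apply (COUNT2_iff c huw huv _).1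
      rw [map_mul, map_inv, hqx]
      exact hy
    refine ⟨⟨qx, h1, h2⟩, ?_⟩
    apply Subtype.ext
    exact hqx

/-- **COUNT2.** In the fused case `u ~ w`, `u ≁ v`, the factorization counts. -/
theorem count_fused {G : Type*} [Group G] [Finite G] (c : Cfg G) (huw : IsConj c.u c.w)
    (huv : ¬ IsConj c.u c.v) :
    Nat.card {x : G // IsConj c.u x ∧ IsConj c.u (x⁻¹ * c.ι (DihedralGroup.r 1, 1))} = 12 ∧
    Nat.card {x : G // IsConj c.u x ∧
      IsConj c.u (x⁻¹ * c.ι (DihedralGroup.r 1, DihedralGroup.r 1))} = 9 ∧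
    Nat.card {x : G // IsConj c.u x ∧
      IsConj c.u (x⁻¹ * c.ι (DihedralGroup.r 1, DihedralGroup.sr 0))} = 6 ∧
    Nat.card {x : G // IsConj c.u x ∧ IsConj c.u (x⁻¹ * c.ι (1, DihedralGroup.r 1))} = 9 ∧
    Nat.card {x : G // IsConj c.u x ∧
      IsConj c.u (x⁻¹ * c.ι (DihedralGroup.sr 0, DihedralGroup.r 1))} = 0 := by
  refine ⟨?_, ?_, ?_, ?_, ?_⟩
  · rw [COUNT2_card c huw huv _ (by decide), COUNT2_card1]
  · rw [COUNT2_card c huw huv _ (by decide), COUNT2_card2]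
  · rw [COUNT2_card c huw huv _ (by decide), COUNT2_card3]
  · rw [COUNT2_card c huw huv _ (by decide), COUNT2_card4]
  · rw [COUNT2_card c huw huv _ (by decide), COUNT2_card5]

end Cfsg.Agent.S3805P
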