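import Mathlib
import Cfsg.Prelude.Def_Local
import Cfsg.Agent.Helper7.Hyperplane
import Cfsg.Agent.Helper7.Signalizer
import Cfsg.Agent.Lead.GenCent
import Cfsg.Agent.Lead.Coprime3
import Cfsg.Agent.Lead.CoprimeFrattini
import Cfsg.Agent.Lead.CoprimeSylow
import Cfsg.Agent.Lead.CoprimeSylow2
import Cfsg.Agent.Lead.Compl
import Cfsg.Agent.Helper3.ProdCard
import Cfsg.Agent.Helper17.Basic

set_option autoImplicit false
set_option linter.style.haveILetI false
set_option linter.unusedSectionVars false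

/-! # The Brauer–Wielandt formula for `Z_p × Z_p` acting coprimely, and the factorisation
lemma `K = XY` (S1287) -/

namespace Cfsg.Agent.Helper7

open Subgroup Cfsg
open scoped Pointwise commutatorElement
open Cfsg.Agent.Lead (commutator_le_of_le_normalizer)

variable {G : Type*} [Group G] [Finite G] {p : ℕ} [hp : Fact p.Prime]

/-- The elements of a subgroup as a finset. -/
noncomputable def subFinset (A : Subgroup G) : Finset G := (Set.toFinite (A : Set G)).toFinset

theorem mem_subFinset {A : Subgroup G} {a : G} : a ∈ subFinset A ↔ a ∈ A := by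
  unfold subFinset
  rw [Set.Finite.mem_toFinset]
  rfl

theorem card_subFinset (A : Subgroup G) : (subFinset A).card = Nat.card A := by
  unfold subFinset
  rw [← Set.ncard_eq_toFinset_card (A : Set G), ← Nat.card_coe_set_eq]
  rfl

/-- The Brauer–Wielandt formula for `A ≅ Z_p × Z_p` acting on `K`. -/
def WForm (p : ℕ) (A K : Subgroup G) : Prop :=
  (Nat.card K) ^ p * (Nat.card (K ⊓ centralizer (A : Set G) : Subgroup G)) ^ (p * (p - 1)) =
    ∏ a ∈ subFinset A, Nat.card (K ⊓ centralizer ({a} : Set G) : Subgroup G)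

theorem wform_bot (A : Subgroup G) : WForm p A ⊥ := by
  unfold WForm
  simp only [bot_inf_eq, Subgroup.card_bot, one_pow, mul_one, Finset.prod_const_one]

/-- The commutator subgroup of a nontrivial solvable subgroup is proper. -/
theorem commutator_lt_of_isSolvable {R : Subgroup G} (hs : Group.IsSolvable R) (hR : R ≠ ⊥) :
    ⁅R, R⁆ < R := by
  have hle : ⁅R, R⁆ ≤ R := commutator_le_of_le_normalizer le_normalizer
  refine lt_of_le_of_ne hle ?_
  intro heq
  haveI : Nontrivial R := by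
    rw [← Subgroup.nontrivial_iff_ne_bot] at hR
    exact hR
  have h1 := Group.IsSolvable.commutator_lt_top_of_nontrivial R
  apply h1.ne
  have h2 : (_root_.commutator R).map R.subtype = ⁅R, R⁆ := map_subtype_commutator R
  rw [heq] at h2
  rw [eq_top_iff]
  intro x _
  have hx : (x : G) ∈ (_root_.commutator R).map R.subtype := by rw [h2]; exact x.2
  obtain ⟨y, hy, hyx⟩ := hx
  have : y = x := Subtype.ext hyx
  rwa [← this]

theorem le_normalizer_commutator_self_w {A R : Subgroup G} (hAR : A ≤ normalizer (R : Set G)) :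
    A ≤ normalizer ((⁅R, R⁆ : Subgroup G) : Set G) := by
  have h := Cfsg.Agent.Lead.normalizer_le_normalizer_map_of_characteristic R (_root_.commutator R)
  rw [map_subtype_commutator] at h
  exact hAR.trans h

/-- A subgroup between `⁅R, R⁆` and `R` is normalised by `R`. -/
theorem le_normalizer_of_commutator_le_w {R N : Subgroup G} (h1 : ⁅R, R⁆ ≤ N) (h2 : N ≤ R) :
    R ≤ normalizer (N : Set G) := by
  apply le_normalizer_of_forall_conj_mem
  intro g hg n hn
  have : g * n * g⁻¹ = ⁅g, n⁆ * n := by rw [commutatorElement_def]; group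
  rw [this]
  exact N.mul_mem (h1 (commutator_mem_commutator hg (h2 hn))) hn

/-- A maximal proper `A`-invariant subgroup of `R` containing `⁅R, R⁆`. -/
theorem exists_maximal_invariant {A R : Subgroup G} (hs : Group.IsSolvable R) (hR : R ≠ ⊥)
    (hAR : A ≤ normalizer (R : Set G)) :
    ∃ N : Subgroup G, N < R ∧ ⁅R, R⁆ ≤ N ∧ A ≤ normalizer (N : Set G) ∧
      ∀ M : Subgroup G, N ≤ M → M ≤ R → A ≤ normalizer (M : Set G) → M = N ∨ M = R := by
  let S : Set (Subgroup G) := {N | N < R ∧ ⁅R, R⁆ ≤ N ∧ A ≤ normalizer (N : Set G)}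
  obtain ⟨N, -, ⟨hNR, hcN, hAN⟩, hmax⟩ := (Set.toFinite S).exists_le_maximal (a := ⁅R, R⁆)
    ⟨commutator_lt_of_isSolvable hs hR, le_rfl, le_normalizer_commutator_self_w hAR⟩
  refine ⟨N, hNR, hcN, hAN, ?_⟩
  intro M hNM hMR hAM
  by_cases hM : M = R
  · exact Or.inr hM
  · left
    have hMS : M ∈ S := ⟨lt_of_le_of_ne hMR hM, hcN.trans hNM, hAM⟩
    exact le_antisymm (hmax hMS hNM) hNM

/-- The elements of `A` acting trivially on `R / N`. -/
def actKer (A R N : Subgroup G) : Subgroup G where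
  carrier := {a | a ∈ A ∧ a ∈ normalizer (N : Set G) ∧ ∀ g ∈ R, ⁅g, a⁆ ∈ N}
  one_mem' := ⟨A.one_mem, Subgroup.one_mem _, fun g _ => by
    rw [commutatorElement_one_right]; exact N.one_mem⟩
  mul_mem' := by
    rintro a b ⟨haA, haN, ha⟩ ⟨hbA, hbN, hb⟩
    refine ⟨A.mul_mem haA hbA, Subgroup.mul_mem _ haN hbN, fun g hg => ?_⟩
    have e : ⁅g, a * b⁆ = ⁅g, a⁆ * (a * ⁅g, b⁆ * a⁻¹) := by
      simp only [commutatorElement_def]; group
    rw [e]
    exact N.mul_mem (ha g hg) ((mem_normalizer_iff.1 haN _).1 (hb g hg))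
  inv_mem' := by
    rintro a ⟨haA, haN, ha⟩
    refine ⟨A.inv_mem haA, Subgroup.inv_mem _ haN, fun g hg => ?_⟩
    have e : ⁅g, a⁻¹⁆ = a⁻¹ * ⁅g, a⁆⁻¹ * a⁻¹⁻¹ := by
      simp only [commutatorElement_def]; group
    rw [e]
    exact (mem_normalizer_iff.1 (Subgroup.inv_mem _ haN) _).1 (N.inv_mem (ha g hg))

theorem actKer_le (A R N : Subgroup G) : actKer A R N ≤ A := fun _ h => h.1

theorem mem_actKer {A R N : Subgroup G} (hAN : A ≤ normalizer (N : Set G)) {a : G} :
    a ∈ actKer A R N ↔ a ∈ A ∧ ∀ g ∈ R, ⁅g, a⁆ ∈ N :=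
  ⟨fun h => ⟨h.1, h.2.2⟩, fun h => ⟨h.1, hAN h.1, h.2⟩⟩

theorem commutator_le_of_le_actKer {A R N B : Subgroup G} (hB : B ≤ actKer A R N) :
    ⁅R, B⁆ ≤ N := by
  rw [commutator_le]
  intro g hg b hb
  exact (hB hb).2.2 g hg

/-- The elements of `N_G(N)` on which `a` acts trivially modulo `N`. -/
def trivSub (a : G) (N : Subgroup G) : Subgroup G where
  carrier := {g | g ∈ normalizer (N : Set G) ∧ ⁅g, a⁆ ∈ N}
  one_mem' := ⟨Subgroup.one_mem _, by rw [commutatorElement_one_left]; exact N.one_mem⟩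
  mul_mem' := by
    rintro g h ⟨hgN, hg⟩ ⟨hhN, hh⟩
    refine ⟨Subgroup.mul_mem _ hgN hhN, ?_⟩
    have e : ⁅g * h, a⁆ = g * ⁅h, a⁆ * g⁻¹ * ⁅g, a⁆ := by
      simp only [commutatorElement_def]; group
    rw [e]
    exact N.mul_mem ((mem_normalizer_iff.1 hgN _).1 hh) hg
  inv_mem' := by
    rintro g ⟨hgN, hg⟩
    refine ⟨Subgroup.inv_mem _ hgN, ?_⟩
    have e : ⁅g⁻¹, a⁆ = g⁻¹ * ⁅g, a⁆⁻¹ * g⁻¹⁻¹ := by
      simp only [commutatorElement_def]; group
    rw [e]
    exact (mem_normalizer_iff.1 (Subgroup.inv_mem _ hgN) _).1 (N.inv_mem hg)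

/-- If `R = C_R(a) N` then `a` acts trivially on `R / N`. -/
theorem mem_actKer_of_sup_eq {A R N : Subgroup G} (hAN : A ≤ normalizer (N : Set G))
    (hRN : R ≤ normalizer (N : Set G)) {a : G} (ha : a ∈ A)
    (h : (R ⊓ centralizer ({a} : Set G)) ⊔ N = R) : a ∈ actKer A R N := by
  rw [mem_actKer hAN]
  refine ⟨ha, ?_⟩
  have hle : R ≤ trivSub a N := by
    rw [← h]
    apply sup_le
    · intro g hg
      refine ⟨hRN hg.1, ?_⟩
      have hc : g * a = a * g := mem_centralizer_singleton_iff.1 hg.2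
      have : ⁅g, a⁆ = 1 := by
        rw [commutatorElement_def, hc]; group
      rw [this]; exact N.one_mem
    · intro n hn
      refine ⟨le_normalizer hn, ?_⟩
      have e : ⁅n, a⁆ = n * (a * n⁻¹ * a⁻¹) := by
        rw [commutatorElement_def]; group
      rw [e]
      exact N.mul_mem hn ((mem_normalizer_iff.1 (hAN ha) _).1 (N.inv_mem hn))
  intro g hg
  exact (hle hg).2

/-- `A ≤ N_G(C_G(S))` for `S ⊆ A`, `A` abelian. -/
theorem le_normalizer_centralizer_of_subset {A : Subgroup G} (hA : IsElementaryAbelian p A)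
    {S : Set G} (hS : S ⊆ A) : A ≤ normalizer ((centralizer S : Subgroup G) : Set G) := by
  refine le_trans ?_ le_normalizer
  intro x hx
  rw [mem_centralizer_iff]
  intro s hs
  exact IsElementaryAbelian.commute hA (hS hs) hx

theorem le_normalizer_inf_centralizer {A R : Subgroup G} (hA : IsElementaryAbelian p A)
    (hAR : A ≤ normalizer (R : Set G)) {S : Set G} (hS : S ⊆ A) :
    A ≤ normalizer ((R ⊓ centralizer S : Subgroup G) : Set G) :=
  (le_inf hAR (le_normalizer_centralizer_of_subset hA hS)).trans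
    (normalizer_inf_normalizer_le_normalizer_inf _ _)

theorem coprime_of_le_of_not_dvd {A B R : Subgroup G} (hA : IsElementaryAbelian p A)
    (hBA : B ≤ A) (hR : ¬ p ∣ Nat.card R) : (Nat.card B).Coprime (Nat.card R) := by
  obtain ⟨j, hj⟩ := (IsElementaryAbelian.isPGroup (IsElementaryAbelian.mono hA hBA)).exists_card_eq
  rw [hj]
  exact Nat.Coprime.pow_left _ ((Nat.Prime.coprime_iff_not_dvd hp.out).2 hR)

theorem isSolvable_of_le_elementaryAbelian {A B : Subgroup G} (hA : IsElementaryAbelian p A)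
    (hBA : B ≤ A) : Group.IsSolvable B := by
  haveI : IsMulCommutative B := (IsElementaryAbelian.mono hA hBA).1
  exact Group.isSolvable_of_comm fun a b => mul_comm' a b

/-- If `B ≤ A` acts trivially on `R / N` then `R = C_R(B) N`. -/
theorem sup_eq_of_le_actKer {A R N B : Subgroup G} (hA : IsElementaryAbelian p A)
    (hAR : A ≤ normalizer (R : Set G)) (hR : ¬ p ∣ Nat.card R) (hNR : N ≤ R)
    (hB : B ≤ actKer A R N) : (R ⊓ centralizer (B : Set G)) ⊔ N = R := by
  have hBA : B ≤ A := hB.trans (actKer_le A R N)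
  have h := Cfsg.Agent.Lead.coprime_commutator_sup_centralizer B R (hBA.trans hAR)
    (coprime_of_le_of_not_dvd hA hBA hR) (Or.inl (isSolvable_of_le_elementaryAbelian hA hBA))
  apply le_antisymm (sup_le inf_le_left hNR)
  calc R = ⁅R, B⁆ ⊔ (R ⊓ centralizer (B : Set G)) := h.symm
    _ ≤ (R ⊓ centralizer (B : Set G)) ⊔ N :=
      sup_le ((commutator_le_of_le_actKer hB).trans le_sup_right) le_sup_left

theorem card_inf_mul_card_of_sup_eq {R N C : Subgroup G} (hCR : C ≤ R)
    (hRN : R ≤ normalizer (N : Set G)) (h : C ⊔ N = R) :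
    Nat.card C * Nat.card N = Nat.card R * Nat.card (N ⊓ C : Subgroup G) := by
  have h1 := Cfsg.Agent.Helper17.card_sup_mul_card_inf N C (hCR.trans hRN)
  rw [sup_comm, h] at h1
  rw [h1, mul_comm]

/-- The inductive step of the Brauer–Wielandt formula. -/
theorem wform_step {A R N : Subgroup G} (hA : IsElementaryAbelian p A)
    (hA2 : Nat.card A = p ^ 2) (hAR : A ≤ normalizer (R : Set G)) (hR : ¬ p ∣ Nat.card R)
    (hNR : N < R) (hcN : ⁅R, R⁆ ≤ N) (hAN : A ≤ normalizer (N : Set G))
    (hmax : ∀ M : Subgroup G, N ≤ M → M ≤ R → A ≤ normalizer (M : Set G) → M = N ∨ M = R)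
    (ih : WForm p A N) : WForm p A R := by
  classical
  have hp2 : 2 ≤ p := hp.out.two_le
  have hRN : R ≤ normalizer (N : Set G) := le_normalizer_of_commutator_le_w hcN hNR.le
  set B₀ := actKer A R N with hB₀
  have hB₀A : B₀ ≤ A := actKer_le A R N
  -- the dichotomy
  have dich : ∀ S : Set G, S ⊆ A →
      (R ⊓ centralizer S) ⊔ N = N ∨ (R ⊓ centralizer S) ⊔ N = R := by
    intro S hS
    apply hmax _ le_sup_right (sup_le inf_le_left hNR.le)
    exact (le_inf (le_normalizer_inf_centralizer hA hAR hS) hAN).trans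
      (normalizer_inf_le_normalizer_sup _ _)
  have hsing : ∀ a ∈ A, ({a} : Set G) ⊆ A := fun a ha => Set.singleton_subset_iff.2 ha
  -- elements of `B₀`
  have key1 : ∀ a ∈ B₀, Nat.card (R ⊓ centralizer ({a} : Set G) : Subgroup G) * Nat.card N =
      Nat.card R * Nat.card (N ⊓ centralizer ({a} : Set G) : Subgroup G) := by
    intro a ha
    have hz : zpowers a ≤ B₀ := zpowers_le.2 ha
    have h1 := sup_eq_of_le_actKer hA hAR hR hNR.le hz
    rw [centralizer_zpowers_eq] at h1
    have h2 := card_inf_mul_card_of_sup_eq inf_le_left hRN h1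
    rw [h2]
    congr 2
    rw [← inf_assoc, inf_eq_left.2 hNR.le]
  -- elements outside `B₀`
  have key2 : ∀ a ∈ A, a ∉ B₀ → R ⊓ centralizer ({a} : Set G) = N ⊓ centralizer ({a} : Set G) := by
    intro a ha haB
    rcases dich {a} (hsing a ha) with h | h
    · have hle : R ⊓ centralizer ({a} : Set G) ≤ N := by rw [← h]; exact le_sup_left
      exact le_antisymm (le_inf hle inf_le_right) (inf_le_inf_right _ hNR.le)
    · exact absurd (mem_actKer_of_sup_eq hAN hRN ha h) haB
  -- the whole of `A`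
  have key3 : B₀ = A → Nat.card (R ⊓ centralizer (A : Set G) : Subgroup G) * Nat.card N =
      Nat.card R * Nat.card (N ⊓ centralizer (A : Set G) : Subgroup G) := by
    intro hBA
    have h1 := sup_eq_of_le_actKer hA hAR hR hNR.le hBA.ge
    have h2 := card_inf_mul_card_of_sup_eq inf_le_left hRN h1
    rw [h2]
    congr 2
    rw [← inf_assoc, inf_eq_left.2 hNR.le]
  have key4 : B₀ ≠ A → R ⊓ centralizer (A : Set G) = N ⊓ centralizer (A : Set G) := by
    intro hBA
    obtain ⟨a, haA, haB⟩ : ∃ a ∈ A, a ∉ B₀ := by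
      by_contra hcon
      exact hBA (le_antisymm hB₀A (fun a ha => by_contra fun h => hcon ⟨a, ha, h⟩))
    have h1 := key2 a haA haB
    have hle : R ⊓ centralizer (A : Set G) ≤ N := by
      have : R ⊓ centralizer (A : Set G) ≤ R ⊓ centralizer ({a} : Set G) :=
        inf_le_inf_left _ (centralizer_le (hsing a haA))
      exact (this.trans h1.le).trans inf_le_left
    exact le_antisymm (le_inf hle inf_le_right) (inf_le_inf_right _ hNR.le)
  -- `B₀` is nontrivial
  have key5 : B₀ ≠ ⊥ := by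
    intro hbot
    haveI : IsMulCommutative A := hA.1
    have hnc : ¬ IsCyclic A := IsElementaryAbelian.not_isCyclic hA (by
      rw [hA2]; nlinarith)
    have hgen := Cfsg.Agent.Lead.generated_by_centralizers A R hnc hAR
      (coprime_of_le_of_not_dvd hA le_rfl hR)
    apply hNR.not_ge
    rw [← hgen]
    apply iSup₂_le
    rintro a ⟨haA, ha1⟩
    have haB : a ∉ B₀ := by
      intro h
      rw [hbot, mem_bot] at h
      exact ha1 h
    rw [key2 a haA haB]
    exact inf_le_left
  -- the order of `B₀`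
  have hcardB : Nat.card B₀ = p ∨ Nat.card B₀ = p ^ 2 := by
    have hdvd : Nat.card B₀ ∣ p ^ 2 := hA2 ▸ card_dvd_of_le hB₀A
    obtain ⟨j, hj, hjc⟩ := (Nat.dvd_prime_pow hp.out).1 hdvd
    have hj0 : j ≠ 0 := by
      rintro rfl
      rw [pow_zero] at hjc
      exact key5 (card_eq_one.1 hjc)
    have : j = 1 ∨ j = 2 := by omega
    rcases this with rfl | rfl
    · left; rw [hjc, pow_one]
    · right; exact hjc
  -- the product over `A`
  set F := subFinset A with hF
  set n := Nat.card N with hn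
  set q := Nat.card R with hq
  have hnpos : 0 < n := Nat.card_pos
  have hfilter : (F.filter (· ∈ B₀)).card = Nat.card B₀ := by
    rw [← card_subFinset B₀]
    congr 1
    ext a
    rw [Finset.mem_filter, mem_subFinset, mem_subFinset]
    exact ⟨fun h => h.2, fun h => ⟨hB₀A h, h⟩⟩
  have hprod : (∏ a ∈ F, Nat.card (R ⊓ centralizer ({a} : Set G) : Subgroup G)) * n ^ Nat.card B₀ =
      q ^ Nat.card B₀ * ∏ a ∈ F, Nat.card (N ⊓ centralizer ({a} : Set G) : Subgroup G) := by
    rw [← Finset.prod_filter_mul_prod_filter_not F (· ∈ B₀)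
      (fun a => Nat.card (R ⊓ centralizer ({a} : Set G) : Subgroup G)),
      ← Finset.prod_filter_mul_prod_filter_not F (· ∈ B₀)
      (fun a => Nat.card (N ⊓ centralizer ({a} : Set G) : Subgroup G))]
    have h2 : ∏ a ∈ F.filter (fun a => ¬ a ∈ B₀),
        Nat.card (R ⊓ centralizer ({a} : Set G) : Subgroup G) =
        ∏ a ∈ F.filter (fun a => ¬ a ∈ B₀),
          Nat.card (N ⊓ centralizer ({a} : Set G) : Subgroup G) := by
      apply Finset.prod_congr rfl
      intro a ha
      rw [Finset.mem_filter, mem_subFinset] at ha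
      rw [key2 a ha.1 ha.2]
    have h1 : (∏ a ∈ F.filter (· ∈ B₀),
        Nat.card (R ⊓ centralizer ({a} : Set G) : Subgroup G)) * n ^ Nat.card B₀ =
        q ^ Nat.card B₀ * ∏ a ∈ F.filter (· ∈ B₀),
          Nat.card (N ⊓ centralizer ({a} : Set G) : Subgroup G) := by
      rw [← hfilter, ← Finset.prod_const, ← Finset.prod_const, ← Finset.prod_mul_distrib,
        ← Finset.prod_mul_distrib]
      apply Finset.prod_congr rfl
      intro a ha
      rw [Finset.mem_filter] at ha
      exact key1 a ha.2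
    rw [h2]
    calc _ = ((∏ a ∈ F.filter (· ∈ B₀),
        Nat.card (R ⊓ centralizer ({a} : Set G) : Subgroup G)) * n ^ Nat.card B₀) *
        ∏ a ∈ F.filter (fun a => ¬ a ∈ B₀),
          Nat.card (N ⊓ centralizer ({a} : Set G) : Subgroup G) := by ring
      _ = _ := by rw [h1]; ring
  unfold WForm at ih ⊢
  have hP : p * p = p * (p - 1) + p := by
    obtain ⟨m, rfl⟩ : ∃ m, p = m + 1 := ⟨p - 1, by omega⟩
    simp only [Nat.add_sub_cancel]; ring
  rcases hcardB with hb | hb
  · -- `|B₀| = p`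
    have hBA : B₀ ≠ A := by
      intro h
      rw [h, hA2] at hb
      nlinarith
    rw [key4 hBA]
    rw [hb] at hprod
    apply Nat.eq_of_mul_eq_mul_right (pow_pos hnpos p)
    rw [hprod, ← ih]
    ring
  · -- `B₀ = A`
    have hBA : B₀ = A := by
      apply Subgroup.eq_of_le_of_card_ge hB₀A
      rw [hb, hA2]
    have h3 := key3 hBA
    rw [hb] at hprod
    apply Nat.eq_of_mul_eq_mul_right (pow_pos hnpos (p ^ 2))
    rw [hprod, ← ih]
    have e2 : p ^ 2 = p * (p - 1) + p := by rw [pow_two]; exact hP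
    rw [e2]
    calc q ^ p * Nat.card (R ⊓ centralizer (A : Set G) : Subgroup G) ^ (p * (p - 1)) *
          n ^ (p * (p - 1) + p)
        = q ^ p * (Nat.card (R ⊓ centralizer (A : Set G) : Subgroup G) * n) ^ (p * (p - 1)) *
          n ^ p := by rw [pow_add, mul_pow]; ring
      _ = q ^ p * (q * Nat.card (N ⊓ centralizer (A : Set G) : Subgroup G)) ^ (p * (p - 1)) *
          n ^ p := by rw [h3]
      _ = _ := by rw [pow_add, mul_pow]; ring

/-- The Brauer–Wielandt formula for solvable `R`. -/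
theorem wform_of_isSolvable {A : Subgroup G} (hA : IsElementaryAbelian p A)
    (hA2 : Nat.card A = p ^ 2) : ∀ n : ℕ, ∀ R : Subgroup G, Nat.card R = n →
    Group.IsSolvable R → A ≤ normalizer (R : Set G) → ¬ p ∣ Nat.card R → WForm p A R := by
  intro n
  induction n using Nat.strong_induction_on with
  | _ n ih =>
  intro R hn hs hAR hR
  by_cases hbot : R = ⊥
  · rw [hbot]; exact wform_bot A
  obtain ⟨N, hNR, hcN, hAN, hmax⟩ := exists_maximal_invariant hs hbot hAR
  have hlt : Nat.card N < n := by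
    rw [← hn]
    apply lt_of_le_of_ne (Subgroup.card_le_of_le hNR.le)
    intro heq
    exact hNR.ne (Subgroup.eq_of_le_of_card_ge hNR.le heq.ge)
  have hN : WForm p A N := ih _ hlt N rfl (isSolvable_of_le hNR.le hs) hAN
    (fun h => hR (h.trans (card_dvd_of_le hNR.le)))
  exact wform_step hA hA2 hAR hR hNR hcN hAN hmax hN

/-- An `A`-invariant Sylow `r`-subgroup `R` of `K` such that `C_R(S)` is a Sylow `r`-subgroup
of `C_K(S)` for every `S ⊆ A`. -/
theorem exists_invariant_sylow_card {A K : Subgroup G} (hA : IsElementaryAbelian p A)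
    (hAK : A ≤ normalizer (K : Set G)) (hK : ¬ p ∣ Nat.card K) (r : ℕ) [hr : Fact r.Prime] :
    ∃ R : Subgroup G, R ≤ K ∧ IsPGroup r R ∧ A ≤ normalizer (R : Set G) ∧
      ∀ S : Set G, S ⊆ A → Nat.card (R ⊓ centralizer S : Subgroup G) =
        r ^ (Nat.card (K ⊓ centralizer S : Subgroup G)).factorization r := by
  have hAs : Group.IsSolvable A := isSolvable_of_le_elementaryAbelian hA le_rfl
  have hbotN : A ≤ normalizer (((⊥ : Subgroup G) : Subgroup G) : Set G) := by
    intro x _; rw [Subgroup.mem_normalizer_iff]; intro y; simp [Subgroup.mem_bot]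
  obtain ⟨P, -, hAP⟩ := Cfsg.Agent.Lead.coprime_invariant_pgroup_le_sylow A K hAK
    (coprime_of_le_of_not_dvd hA le_rfl hK) (Or.inl hAs) r ⊥ bot_le IsPGroup.of_bot hbotN
  set R := (P : Subgroup K).map K.subtype with hR
  have hRK : R ≤ K := map_subtype_le _
  have hRr : IsPGroup r R := P.isPGroup'.map _
  refine ⟨R, hRK, hRr, hAP, ?_⟩
  intro S hS
  set KS := K ⊓ centralizer S with hKS
  have hAKS : A ≤ normalizer (KS : Set G) := le_normalizer_inf_centralizer hA hAK hS
  have hKSp : ¬ p ∣ Nat.card KS := fun h => hK (h.trans (card_dvd_of_le inf_le_left))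
  obtain ⟨PS, -, hAPS⟩ := Cfsg.Agent.Lead.coprime_invariant_pgroup_le_sylow A KS hAKS
    (coprime_of_le_of_not_dvd hA le_rfl hKSp) (Or.inl hAs) r ⊥ bot_le IsPGroup.of_bot hbotN
  set U := (PS : Subgroup KS).map KS.subtype with hU
  have hUKS : U ≤ KS := map_subtype_le _
  have hUr : IsPGroup r U := PS.isPGroup'.map _
  have hUcard : Nat.card U = r ^ (Nat.card KS).factorization r := by
    rw [hU, card_map_of_injective KS.subtype_injective]
    exact PS.card_eq_multiplicity
  obtain ⟨P', hUP', hAP'⟩ := Cfsg.Agent.Lead.coprime_invariant_pgroup_le_sylow A K hAK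
    (coprime_of_le_of_not_dvd hA le_rfl hK) (Or.inl hAs) r U (hUKS.trans inf_le_left) hUr hAPS
  obtain ⟨c, hcA, hcP⟩ := Cfsg.Agent.Lead.coprime_invariant_sylow_conj A K hAK
    (coprime_of_le_of_not_dvd hA le_rfl hK) (Or.inl hAs) r P P' hAP hAP'
  have hR' : R.map (MulAut.conj (c : G)).toMonoidHom = (P' : Subgroup K).map K.subtype := by
    have h1 : ((MulAut.conj c • P : Sylow r K) : Subgroup K) = (P' : Subgroup K) := by rw [hcP]
    rw [Sylow.pointwise_smul_def] at h1
    have h2 := Cfsg.Agent.Lead.map_conj_smul K.subtype c (P : Subgroup K)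
    rw [h1] at h2
    rw [h2]
    rfl
  -- the lower bound
  have hcS : (c : G) ∈ centralizer S := centralizer_le hS hcA
  have hlow : Nat.card U ≤ Nat.card (R ⊓ centralizer S : Subgroup G) := by
    have hle : U.map (MulAut.conj (c : G)⁻¹).toMonoidHom ≤ R ⊓ centralizer S := by
      rintro _ ⟨u, hu, rfl⟩
      refine ⟨?_, ?_⟩
      · have : u ∈ R.map (MulAut.conj (c : G)).toMonoidHom := by rw [hR']; exact hUP' hu
        obtain ⟨x, hx, rfl⟩ := this
        have e : (MulAut.conj (c : G)⁻¹).toMonoidHom ((MulAut.conj (c : G)).toMonoidHom x) = x := by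
          simp; group
        rw [e]; exact hx
      · have hu2 : u ∈ centralizer S := (hUKS hu).2
        exact Subgroup.mul_mem _ (Subgroup.mul_mem _ (Subgroup.inv_mem _ hcS) hu2)
          (by simpa using hcS)
    calc Nat.card U = Nat.card (U.map (MulAut.conj (c : G)⁻¹).toMonoidHom) :=
        (card_map_of_injective (MulAut.conj (c : G)⁻¹).injective).symm
      _ ≤ _ := Subgroup.card_le_of_le hle
  -- the upper bound
  have hRSr : IsPGroup r (R ⊓ centralizer S : Subgroup G) := hRr.to_le inf_le_left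
  obtain ⟨j, hj⟩ := hRSr.exists_card_eq
  have hdvd : r ^ j ∣ Nat.card KS := by
    rw [← hj]
    exact card_dvd_of_le (inf_le_inf_right _ hRK)
  have hjle : j ≤ (Nat.card KS).factorization r :=
    (hr.out.pow_dvd_iff_le_factorization Nat.card_pos.ne').1 hdvd
  rw [hUcard, hj] at hlow
  have hle2 : (Nat.card KS).factorization r ≤ j :=
    (Nat.pow_le_pow_iff_right hr.out.one_lt).1 hlow
  rw [hj, le_antisymm hjle hle2]

/-- The Brauer–Wielandt formula: `A ≅ Z_p × Z_p` acting on the `p'`-group `K`. -/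
theorem wform {A K : Subgroup G} (hA : IsElementaryAbelian p A) (hA2 : Nat.card A = p ^ 2)
    (hAK : A ≤ normalizer (K : Set G)) (hK : ¬ p ∣ Nat.card K) : WForm p A K := by
  unfold WForm
  have hne1 : (Nat.card K) ^ p *
      (Nat.card (K ⊓ centralizer (A : Set G) : Subgroup G)) ^ (p * (p - 1)) ≠ 0 :=
    mul_ne_zero (pow_ne_zero _ Nat.card_pos.ne') (pow_ne_zero _ Nat.card_pos.ne')
  have hne2 : ∀ a ∈ subFinset A, Nat.card (K ⊓ centralizer ({a} : Set G) : Subgroup G) ≠ 0 :=
    fun a _ => Nat.card_pos.ne'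
  apply Nat.eq_of_factorization_eq hne1 (Finset.prod_ne_zero_iff.2 hne2)
  intro r
  by_cases hr : r.Prime
  · haveI : Fact r.Prime := ⟨hr⟩
    obtain ⟨R, hRK, hRr, hAR, hcard⟩ := exists_invariant_sylow_card hA hAK hK r
    have hRs : Group.IsSolvable R := by
      haveI := hRr.isNilpotent
      infer_instance
    have hRp : ¬ p ∣ Nat.card R := fun h => hK (h.trans (card_dvd_of_le hRK))
    have hW := wform_of_isSolvable hA hA2 _ R rfl hRs hAR hRp
    unfold WForm at hW
    have h0 : Nat.card R = r ^ (Nat.card K).factorization r := by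
      have := hcard ∅ (Set.empty_subset _)
      have he : centralizer (∅ : Set G) = ⊤ :=
        centralizer_eq_top_iff_subset.2 (Set.empty_subset _)
      rwa [he, inf_top_eq, inf_top_eq] at this
    have hAc := hcard (A : Set G) le_rfl
    have ha : ∀ a ∈ subFinset A, Nat.card (R ⊓ centralizer ({a} : Set G) : Subgroup G) =
        r ^ (Nat.card (K ⊓ centralizer ({a} : Set G) : Subgroup G)).factorization r :=
      fun a ha => hcard {a} (Set.singleton_subset_iff.2 (mem_subFinset.1 ha))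
    rw [h0, hAc, Finset.prod_congr rfl ha, Finset.prod_pow_eq_pow_sum, ← pow_mul, ← pow_mul,
      ← pow_add] at hW
    have hexp := Nat.pow_right_injective hr.two_le hW
    rw [Nat.factorization_mul (pow_ne_zero _ Nat.card_pos.ne') (pow_ne_zero _ Nat.card_pos.ne'),
      Nat.factorization_pow, Nat.factorization_pow, Nat.factorization_prod hne2]
    simp only [Finsupp.coe_add, Finsupp.coe_smul, Pi.add_apply, Pi.smul_apply, smul_eq_mul,
      Finsupp.coe_finsetSum, Finset.sum_apply]
    rw [← hexp]; ring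
  · rw [Nat.factorization_eq_zero_of_not_prime _ hr, Nat.factorization_eq_zero_of_not_prime _ hr]

theorem centralizer_singleton_one : centralizer ({1} : Set G) = ⊤ := by
  rw [centralizer_eq_top_iff_subset, Set.singleton_subset_iff]
  exact Subgroup.one_mem _

open Classical in
/-- Splitting off the factor `a = 1` in the Brauer–Wielandt formula. -/
theorem wform_erase {A K : Subgroup G} (h : WForm p A K) :
    (Nat.card K) ^ p * (Nat.card (K ⊓ centralizer (A : Set G) : Subgroup G)) ^ (p * (p - 1)) =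
      Nat.card K * ∏ a ∈ (subFinset A).erase 1,
        Nat.card (K ⊓ centralizer ({a} : Set G) : Subgroup G) := by
  unfold WForm at h
  rw [h, ← Finset.mul_prod_erase (subFinset A) _ (mem_subFinset.2 A.one_mem),
    centralizer_singleton_one, inf_top_eq]

/-- The counting argument behind the factorisation lemma. -/
theorem factorization_arith {p k x y d s kA xA yA dA sA qK qX qY qD : ℕ} (hp2 : 2 ≤ p)
    (hk : 0 < k) (hd : 0 < d) (hs : 0 < s) (hdA : 0 < dA) (hsA : 0 < sA)
    (E1 : k ^ p * kA ^ (p * (p - 1)) = k * qK) (E2 : x ^ p * xA ^ (p * (p - 1)) = x * qX)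
    (E3 : y ^ p * yA ^ (p * (p - 1)) = y * qY) (E4 : d ^ p * dA ^ (p * (p - 1)) = d * qD)
    (E5 : qK * qD = qX * qY) (E6 : s * d = x * y) (E7 : sA * dA = xA * yA) (I1 : sA ≤ kA) :
    k ≤ s := by
  set P := p * (p - 1) with hP
  have T : k * s ^ p * sA ^ P * (d ^ p * dA ^ P) = s * k ^ p * kA ^ P * (d ^ p * dA ^ P) := by
    calc k * s ^ p * sA ^ P * (d ^ p * dA ^ P) = k * ((s * d) ^ p * (sA * dA) ^ P) := by ring
      _ = k * ((x * y) ^ p * (xA * yA) ^ P) := by rw [E6, E7]
      _ = k * ((x ^ p * xA ^ P) * (y ^ p * yA ^ P)) := by ring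
      _ = k * ((x * qX) * (y * qY)) := by rw [E2, E3]
      _ = k * (x * y) * (qX * qY) := by ring
      _ = k * (s * d) * (qK * qD) := by rw [← E6, ← E5]
      _ = s * (k * qK) * (d * qD) := by ring
      _ = s * (k ^ p * kA ^ P) * (d ^ p * dA ^ P) := by rw [← E1, ← E4]
      _ = _ := by ring
  have hpos : 0 < d ^ p * dA ^ P := Nat.mul_pos (pow_pos hd _) (pow_pos hdA _)
  have T2 : k * s ^ p * sA ^ P = s * k ^ p * kA ^ P := Nat.eq_of_mul_eq_mul_right hpos T
  have T3 : s * k ^ p * sA ^ P ≤ k * s ^ p * sA ^ P := by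
    rw [T2]
    exact Nat.mul_le_mul_left _ (Nat.pow_le_pow_left I1 _)
  have T4 : s * k ^ p ≤ k * s ^ p := Nat.le_of_mul_le_mul_right T3 (pow_pos hsA _)
  obtain ⟨m, rfl⟩ : ∃ m, p = m + 1 := ⟨p - 1, by omega⟩
  have T5 : (s * k) * k ^ m ≤ (s * k) * s ^ m := by
    calc (s * k) * k ^ m = s * k ^ (m + 1) := by ring
      _ ≤ k * s ^ (m + 1) := T4
      _ = (s * k) * s ^ m := by ring
  have T6 : k ^ m ≤ s ^ m := Nat.le_of_mul_le_mul_left T5 (Nat.mul_pos hs hk)
  by_contra hlt
  have hlt' : s < k := not_le.1 hlt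
  have : s ^ m < k ^ m := Nat.pow_lt_pow_left hlt' (by omega)
  omega

open Classical in
/-- The factorisation lemma for `A ≅ Z_p × Z_p`. -/
theorem factorization_rank_two {A K X Y : Subgroup G} (hA : IsElementaryAbelian p A)
    (hA2 : Nat.card A = p ^ 2) (hK : ¬ p ∣ Nat.card K) (hAK : A ≤ normalizer (K : Set G))
    (hX : X ≤ K) (hY : Y ≤ K) (hAX : A ≤ normalizer (X : Set G))
    (hAY : A ≤ normalizer (Y : Set G))
    (hfac : ∀ a ∈ A, a ≠ 1 → ((K ⊓ centralizer {a} : Subgroup G) : Set G) =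
      ((X ⊓ centralizer {a} : Subgroup G) : Set G) * ((Y ⊓ centralizer {a} : Subgroup G) : Set G)) :
    (K : Set G) = (X : Set G) * (Y : Set G) := by
  have hXp : ¬ p ∣ Nat.card X := fun h => hK (h.trans (card_dvd_of_le hX))
  have hYp : ¬ p ∣ Nat.card Y := fun h => hK (h.trans (card_dvd_of_le hY))
  set D := X ⊓ Y with hD
  have hDp : ¬ p ∣ Nat.card D := fun h => hXp (h.trans (card_dvd_of_le inf_le_left))
  have hAD : A ≤ normalizer (D : Set G) :=
    (le_inf hAX hAY).trans (normalizer_inf_normalizer_le_normalizer_inf _ _)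
  have E1 := wform_erase (wform hA hA2 hAK hK)
  have E2 := wform_erase (wform hA hA2 hAX hXp)
  have E3 := wform_erase (wform hA hA2 hAY hYp)
  have E4 := wform_erase (wform hA hA2 hAD hDp)
  have E5 : (∏ a ∈ (subFinset A).erase 1, Nat.card (K ⊓ centralizer ({a} : Set G) : Subgroup G)) *
      (∏ a ∈ (subFinset A).erase 1, Nat.card (D ⊓ centralizer ({a} : Set G) : Subgroup G)) =
      (∏ a ∈ (subFinset A).erase 1, Nat.card (X ⊓ centralizer ({a} : Set G) : Subgroup G)) *
      (∏ a ∈ (subFinset A).erase 1, Nat.card (Y ⊓ centralizer ({a} : Set G) : Subgroup G)) := by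
    rw [← Finset.prod_mul_distrib, ← Finset.prod_mul_distrib]
    apply Finset.prod_congr rfl
    intro a ha
    rw [Finset.mem_erase, mem_subFinset] at ha
    have h1 := hfac a ha.2 ha.1
    have h2 := Cfsg.Agent.Helper3.card_mul_set_mul_card_inf (X ⊓ centralizer ({a} : Set G))
      (Y ⊓ centralizer ({a} : Set G))
    rw [← h1] at h2
    have h3 : (X ⊓ centralizer ({a} : Set G)) ⊓ (Y ⊓ centralizer ({a} : Set G)) =
        D ⊓ centralizer ({a} : Set G) := (inf_inf_distrib_right _ _ _).symm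
    rw [h3] at h2
    exact h2
  have E6 := Cfsg.Agent.Helper3.card_mul_set_mul_card_inf X Y
  have E7 := Cfsg.Agent.Helper3.card_mul_set_mul_card_inf (X ⊓ centralizer (A : Set G))
    (Y ⊓ centralizer (A : Set G))
  have h3 : (X ⊓ centralizer (A : Set G)) ⊓ (Y ⊓ centralizer (A : Set G)) =
      D ⊓ centralizer (A : Set G) := (inf_inf_distrib_right _ _ _).symm
  rw [h3] at E7
  have hsubA : ((X ⊓ centralizer (A : Set G) : Subgroup G) : Set G) *
      ((Y ⊓ centralizer (A : Set G) : Subgroup G) : Set G) ⊆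
      ((K ⊓ centralizer (A : Set G) : Subgroup G) : Set G) := by
    rintro _ ⟨x, hx, y, hy, rfl⟩
    exact Subgroup.mul_mem _ ⟨hX hx.1, hx.2⟩ ⟨hY hy.1, hy.2⟩
  have I1 : Nat.card ↥(((X ⊓ centralizer (A : Set G) : Subgroup G) : Set G) *
      ((Y ⊓ centralizer (A : Set G) : Subgroup G) : Set G)) ≤
      Nat.card (K ⊓ centralizer (A : Set G) : Subgroup G) :=
    Nat.card_mono (Set.toFinite _) hsubA
  have hsub : (X : Set G) * (Y : Set G) ⊆ (K : Set G) := by
    rintro _ ⟨x, hx, y, hy, rfl⟩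
    exact K.mul_mem (hX hx) (hY hy)
  have hsk : Nat.card ↥((X : Set G) * (Y : Set G)) ≤ Nat.card K :=
    Nat.card_mono (Set.toFinite _) hsub
  have hxpos : 0 < Nat.card X := Nat.card_pos
  have hypos : 0 < Nat.card Y := Nat.card_pos
  have hspos : 0 < Nat.card ↥((X : Set G) * (Y : Set G)) := by
    apply Nat.pos_of_ne_zero
    intro h
    rw [h, zero_mul] at E6
    exact (Nat.mul_pos hxpos hypos).ne E6
  have hsApos : 0 < Nat.card ↥(((X ⊓ centralizer (A : Set G) : Subgroup G) : Set G) *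
      ((Y ⊓ centralizer (A : Set G) : Subgroup G) : Set G)) := by
    apply Nat.pos_of_ne_zero
    intro h
    rw [h, zero_mul] at E7
    exact (Nat.mul_pos (Nat.card_pos (α := (X ⊓ centralizer (A : Set G) : Subgroup G)))
      (Nat.card_pos (α := (Y ⊓ centralizer (A : Set G) : Subgroup G)))).ne E7
  have hks : Nat.card K ≤ Nat.card ↥((X : Set G) * (Y : Set G)) :=
    factorization_arith hp.out.two_le Nat.card_pos Nat.card_pos hspos Nat.card_pos hsApos
      E1 E2 E3 E4 E5 E6 E7 I1
  symm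
  apply Set.eq_of_subset_of_ncard_le hsub _ (Set.toFinite _)
  rw [← Nat.card_coe_set_eq, ← Nat.card_coe_set_eq]
  exact hks

/-- The factorisation lemma (S1287). -/
theorem factorization_lemma {A K X Y : Subgroup G} (hA : IsElementaryAbelian p A)
    (hA2 : p ^ 2 ≤ Nat.card A) (hK : ¬ p ∣ Nat.card K) (hAK : A ≤ normalizer (K : Set G))
    (hX : X ≤ K) (hY : Y ≤ K) (hAX : A ≤ normalizer (X : Set G))
    (hAY : A ≤ normalizer (Y : Set G))
    (hfac : ∀ a ∈ A, a ≠ 1 → ((K ⊓ centralizer {a} : Subgroup G) : Set G) =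
      ((X ⊓ centralizer {a} : Subgroup G) : Set G) * ((Y ⊓ centralizer {a} : Subgroup G) : Set G)) :
    (K : Set G) = (X : Set G) * (Y : Set G) := by
  obtain ⟨j, hj⟩ := (IsElementaryAbelian.isPGroup hA).exists_card_eq
  have hj2 : 2 ≤ j := by
    rw [hj] at hA2
    exact (Nat.pow_le_pow_iff_right hp.out.one_lt).1 hA2
  have hdvd : p ^ 2 ∣ Nat.card A := by rw [hj]; exact pow_dvd_pow p hj2
  obtain ⟨A', hA'⟩ := Sylow.exists_subgroup_card_pow_prime p hdvd
  set A₀ := A'.map A.subtype with hA₀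
  have hA₀A : A₀ ≤ A := map_subtype_le _
  have hA₀card : Nat.card A₀ = p ^ 2 := by
    rw [hA₀, card_map_of_injective A.subtype_injective, hA']
  exact factorization_rank_two (IsElementaryAbelian.mono hA hA₀A) hA₀card hK (hA₀A.trans hAK)
    hX hY (hA₀A.trans hAX) (hA₀A.trans hAY) (fun a ha ha1 => hfac a (hA₀A ha) ha1)

end Cfsg.Agent.Helper7
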