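import Mathlib
import Cfsg.Prelude.Def_Classical
import Cfsg.Agent.Helper23.S5953Defs

set_option autoImplicit false
open scoped MatrixGroups Matrix

/-! S5953 piece GUYU: a unitary matrix of order dividing `r` gives an `IsYU`; scalar multiples
by norm-one scalars; unitary scalars have norm one. -/

universe u

namespace Cfsg.Agent.S5953P

open Polynomial Cfsg.Agent.S5955P Cfsg.Agent.Helper28.HW Cfsg.Agent.Helper28.HermFrame

/-- GUYU: a unitary matrix of order dividing `r` gives an `IsYU`; scalars of norm one -/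
theorem un_isYU {F : Type*} [Field F] [Fintype F] {q : ℕ} (hF : Fintype.card F = q ^ 2)
    (σ : F →+* F) (hσ : ∀ a, σ a = a ^ q) (n : ℕ) (x : Matrix (Fin n) (Fin n) F)
    (hx : IsUn q x) (r : ℕ) (hxr : x ^ r = 1) :
    IsYU q (hB σ n) (Matrix.toLin' x) r := by
  have hσ2 : ∀ a, σ (σ a) = a := fun a => by
    rw [hσ, hσ, ← pow_mul, ← pow_two, ← hF, FiniteField.pow_card]
  refine ⟨hB_isHerm σ hF hσ n, hB_nondegU σ hσ2 n, fun u v => hx.toLin hσ u v, ?_⟩
  rw [← Matrix.toLin'_pow, hxr, Matrix.toLin'_one]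
  rfl

/-- GUYU (second part) -/
theorem isUn_smul {F : Type*} [Field F] {q n : ℕ} (x : Matrix (Fin n) (Fin n) F)
    (hx : IsUn q x) (μ : F) (hμ : μ ^ (q + 1) = 1) : IsUn q (μ • x) := by
  intro u v
  rw [Matrix.smul_mulVec, Matrix.smul_mulVec, ← hx u v]
  unfold Cfsg.hermForm
  have h1 : ∀ i, (μ • x *ᵥ u) i * (μ • x *ᵥ v) i ^ q =
      (x *ᵥ u) i * (x *ᵥ v) i ^ q := by
    intro i
    rw [Pi.smul_apply, Pi.smul_apply, smul_eq_mul, smul_eq_mul, mul_pow]
    have : μ * μ ^ q = 1 := by rw [← pow_succ', hμ]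
    calc μ * (x *ᵥ u) i * (μ ^ q * (x *ᵥ v) i ^ q)
        = (μ * μ ^ q) * ((x *ᵥ u) i * (x *ᵥ v) i ^ q) := by ring
      _ = (x *ᵥ u) i * (x *ᵥ v) i ^ q := by rw [this, one_mul]
  exact Finset.sum_congr rfl (fun i _ => h1 i)

/-- GUYU (third part) -/
theorem norm_one_of_isUn_scalar {F : Type*} [Field F] {q n : ℕ} (hn : 0 < n) (z : F)
    (hz : IsUn q (z • (1 : Matrix (Fin n) (Fin n) F))) : z ^ (q + 1) = 1 := by
  classical
  have h := hz (Pi.single ⟨0, hn⟩ 1) (Pi.single ⟨0, hn⟩ 1)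
  rw [Matrix.smul_mulVec, Matrix.one_mulVec] at h
  unfold Cfsg.hermForm at h
  rw [Finset.sum_eq_single (⟨0, hn⟩ : Fin n), Finset.sum_eq_single (⟨0, hn⟩ : Fin n)] at h
  · simp only [Pi.smul_apply, Pi.single_eq_same, smul_eq_mul, mul_one, one_pow] at h
    rw [pow_succ']
    exact h
  · intro i _ hi
    rw [Pi.single_eq_of_ne hi, zero_mul]
  · intro h0; exact absurd (Finset.mem_univ _) h0
  · intro i _ hi
    rw [Pi.smul_apply, Pi.single_eq_of_ne hi, smul_zero, zero_mul]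
  · intro h0; exact absurd (Finset.mem_univ _) h0

end Cfsg.Agent.S5953P
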