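import Mathlib
import Cfsg.Prelude.Def_Characters
import Cfsg.Agent.Helper25.SpUA

/-!
# S2333 (smallest degree of `Sp_{2n}(q)`, `q` even): shared definitions

`G = Sp_{2n}(F)` contains the abelian radical `Q = {[[1, Y], [0, 1]] : Y symmetric}` of the Siegel
parabolic, normalised by `diag(A, A⁻ᵀ)` acting as `Y ↦ A Y Aᵀ`.  In characteristic `2` the linear
characters of `Q` are `Y ↦ ψ (Σ_{i ≤ j} H i j * Y i j)` (`H` symmetric), and the character attached to
`H` corresponds to the quadratic form `QH H x = Σ_{i ≤ j} H i j x i x j`; `GL_n` permutes the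
characters as it permutes the quadratic forms (`Q ↦ Q ∘ A`).  Every `GL_n`-stable set of quadratic
forms containing a form with nonzero polar form has at least `(q^n - 1)(q^n - q)/(2(q+1))` elements.
-/

set_option autoImplicit false

namespace Cfsg.Agent.S2333P

open Matrix Cfsg Cfsg.Agent.Helper25

variable {F : Type*} [Field F] {n : ℕ}

/-- the symmetric matrices, as an additive subgroup -/
def SymM (n : ℕ) (F : Type*) [Field F] : AddSubgroup (Matrix (Fin n) (Fin n) F) where
  carrier := {Y | Yᵀ = Y}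
  zero_mem' := transpose_zero
  add_mem' := by
    intro a b ha hb
    show (a + b)ᵀ = a + b
    rw [transpose_add, ha, hb]
  neg_mem' := by
    intro a ha
    show (-a)ᵀ = -a
    rw [transpose_neg, ha]

theorem mem_SymM (Y : Matrix (Fin n) (Fin n) F) : Y ∈ SymM n F ↔ Yᵀ = Y := Iff.rfl

theorem cong_mem (A : Matrix (Fin n) (Fin n) F) {Y : Matrix (Fin n) (Fin n) F}
    (hY : Y ∈ SymM n F) : A * Y * Aᵀ ∈ SymM n F := by
  rw [mem_SymM] at hY ⊢
  rw [transpose_mul, transpose_mul, transpose_transpose, hY, Matrix.mul_assoc]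

/-- the congruence action `Y ↦ A Y Aᵀ` on symmetric matrices -/
def congS (A : Matrix (Fin n) (Fin n) F) (Y : ↥(SymM n F)) : ↥(SymM n F) :=
  ⟨A * Y.1 * Aᵀ, cong_mem A Y.2⟩

theorem congS_val (A : Matrix (Fin n) (Fin n) F) (Y : ↥(SymM n F)) :
    (congS A Y).1 = A * Y.1 * Aᵀ := rfl

/-- the Siegel radical `Y ↦ [[1, Y], [0, 1]]` -/
noncomputable def US (n : ℕ) (F : Type*) [Field F] :
    Multiplicative ↥(SymM n F) →* symplecticGroup (Fin n) F where
  toFun Y := SpU.uSg (Multiplicative.toAdd Y).1
  map_one' := SpU.uSg_zero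
  map_mul' Y Y' := (SpU.uSg_mul (Multiplicative.toAdd Y).2 (Multiplicative.toAdd Y').2).symm

theorem US_apply (Y : ↥(SymM n F)) : US n F (Multiplicative.ofAdd Y) = SpU.uSg Y.1 := rfl

theorem US_val (Y : ↥(SymM n F)) :
    ((US n F (Multiplicative.ofAdd Y) : symplecticGroup (Fin n) F) :
      Matrix (Fin n ⊕ Fin n) (Fin n ⊕ Fin n) F) = SpU.uS Y.1 :=
  SpU.uSg_val Y.2

/-- the quadratic form `x ↦ xᵀ M x` of a square matrix -/
def qf (M : Matrix (Fin n) (Fin n) F) (x : Fin n → F) : F := x ⬝ᵥ (M *ᵥ x)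

/-- the polar form of a function -/
def polar (Q : (Fin n → F) → F) (x y : Fin n → F) : F := Q (x + y) - Q x - Q y

/-- the upper triangular part of a matrix -/
def upp (H : Matrix (Fin n) (Fin n) F) : Matrix (Fin n) (Fin n) F :=
  Matrix.of fun i j => if i ≤ j then H i j else 0

theorem upp_apply (H : Matrix (Fin n) (Fin n) F) (i j : Fin n) :
    upp H i j = if i ≤ j then H i j else 0 := rfl

/-- the symmetric matrix with the same quadratic form as `M` (after `upp`) -/
def symz (M : Matrix (Fin n) (Fin n) F) : Matrix (Fin n) (Fin n) F :=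
  Matrix.of fun i j => if i = j then M i i else M i j + M j i

theorem symz_apply (M : Matrix (Fin n) (Fin n) F) (i j : Fin n) :
    symz M i j = if i = j then M i i else M i j + M j i := rfl

theorem symz_mem (M : Matrix (Fin n) (Fin n) F) : symz M ∈ SymM n F := by
  rw [mem_SymM]
  ext i j
  rw [transpose_apply, symz_apply, symz_apply]
  by_cases h : i = j
  · subst h; simp
  · rw [if_neg h, if_neg (Ne.symm h), add_comm]

/-- the quadratic form attached to a symmetric matrix: `Σ_{i ≤ j} H i j x i x j` -/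
def QH (H : Matrix (Fin n) (Fin n) F) : (Fin n → F) → F := qf (upp H)

/-- the pairing `Σ_{i,j} M i j * Y i j` -/
def pairM (M Y : Matrix (Fin n) (Fin n) F) : F := Matrix.trace (Mᵀ * Y)

theorem pairM_add_right (M Y Y' : Matrix (Fin n) (Fin n) F) :
    pairM M (Y + Y') = pairM M Y + pairM M Y' := by
  unfold pairM
  rw [Matrix.mul_add, Matrix.trace_add]

theorem pairM_zero_right (M : Matrix (Fin n) (Fin n) F) : pairM M 0 = 0 := by
  unfold pairM
  rw [Matrix.mul_zero, Matrix.trace_zero]

/-- the linear character of the radical attached to the symmetric matrix `H` -/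
noncomputable def lamS (ψ : AddChar F ℂ) (H : ↥(SymM n F)) : Multiplicative ↥(SymM n F) →* ℂ where
  toFun Y := ψ (pairM (upp H.1) (Multiplicative.toAdd Y).1)
  map_one' := by
    show ψ (pairM (upp H.1) ((0 : ↥(SymM n F)) : Matrix (Fin n) (Fin n) F)) = 1
    rw [AddSubgroup.coe_zero, pairM_zero_right, AddChar.map_zero_eq_one]
  map_mul' Y Y' := by
    show ψ (pairM (upp H.1) ((Multiplicative.toAdd Y + Multiplicative.toAdd Y' : ↥(SymM n F)) :
      Matrix (Fin n) (Fin n) F)) = _
    rw [AddSubgroup.coe_add, pairM_add_right, AddChar.map_add_eq_mul]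

theorem lamS_apply (ψ : AddChar F ℂ) (H Y : ↥(SymM n F)) :
    lamS ψ H (Multiplicative.ofAdd Y) = ψ (pairM (upp H.1) Y.1) := rfl

end Cfsg.Agent.S2333P
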