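import Mathlib
import Cfsg.Prelude.Def_Characters
import Cfsg.Agent.Helper12.LSUDefs
import Cfsg.Agent.Helper12.LSpWDefs
import Cfsg.Agent.Helper12.LSpWPDefs
import Cfsg.Agent.Helper24.Linear
import Cfsg.Agent.Helper24.Induced

/-!
# S2347 piece WPc: the character of `PP = Heis ⋊ U` induced from the linear character `muAP ψ` of
`AP = A_W ⋊ U` restricts to `theta ψ` on the Heisenberg group.
-/

set_option autoImplicit false

namespace Cfsg.Agent.Helper12.LSp

open Matrix Cfsg Cfsg.Agent.Helper2.Sp Cfsg.Agent.Helper12.LSU Cfsg.Agent.Helper25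

variable {n : ℕ} {F : Type*} [Field F]

/-- conjugating an element of the Heisenberg group inside the Heisenberg group -/
theorem wpc_conj_heis (h a : Heis n F) :
    h⁻¹ * a * h = ⟨a.v, a.s + 2 * om a.v h.v⟩ := by
  apply Heis.ext
  · simp only [Heis.mul_v, Heis.inv_v]
    abel
  · simp only [Heis.mul_s, Heis.mul_v, Heis.inv_s, Heis.inv_v, om_add_left, om_neg_left, om_self,
      om_swap a.v h.v]
    ring

/-- conjugating `inl a` by an element of `Gam` -/
theorem wpc_conj_left (x : Gam n F) (a : Heis n F) :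
    (x⁻¹ * SemidirectProduct.inl a * x).left = heisAct x.right⁻¹ (x.left⁻¹ * a * x.left) := by
  rw [SemidirectProduct.mul_left, SemidirectProduct.mul_left, SemidirectProduct.mul_right,
    SemidirectProduct.inv_left, SemidirectProduct.inv_right, SemidirectProduct.left_inl,
    SemidirectProduct.right_inl, mul_one, heisPhi_apply, heisPhi_apply, map_mul, map_mul]
  rfl

theorem wpc_conj_right (x : Gam n F) (a : Heis n F) :
    (x⁻¹ * SemidirectProduct.inl a * x).right = 1 := by
  rw [SemidirectProduct.mul_right, SemidirectProduct.mul_right, SemidirectProduct.inv_right,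
    SemidirectProduct.right_inl, mul_one, inv_mul_cancel]

/-- elements of `U` preserve the Lagrangian `W` in both directions -/
theorem wpc_inW_iff [Fintype F] {g : symplecticGroup (Fin n) F} (hg : g ∈ SpU.uni n F)
    (v : Fin n ⊕ Fin n → F) :
    InW (((g⁻¹ : symplecticGroup (Fin n) F) : Matrix (Fin n ⊕ Fin n) (Fin n ⊕ Fin n) F) *ᵥ v) ↔
      InW v := by
  constructor
  · intro h
    have h1 := InW.mulVec (isPar_of_mem_uni hg) h
    rwa [mulVec_mulVec, ← Submonoid.coe_mul, mul_inv_cancel, Submonoid.coe_one, one_mulVec] at h1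
  · intro h
    exact InW.mulVec (isPar_of_mem_uni (Subgroup.inv_mem _ hg)) h

/-- the additive character sum over `F^{2n}`, trivial case -/
theorem wpc_sum_om_zero [Fintype F] (ψ : AddChar F ℂ) :
    ∑ u : Fin n ⊕ Fin n → F, ψ (2 * om (0 : Fin n ⊕ Fin n → F) u) =
      ((Fintype.card F : ℂ) ^ n) ^ 2 := by
  classical
  simp only [om_zero_left', mul_zero, AddChar.map_zero_eq_one, Finset.sum_const,
    Finset.card_univ, Fintype.card_fun, Fintype.card_sum, Fintype.card_fin, nsmul_eq_mul, mul_one]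
  push_cast
  ring

/-- the additive character sum over `F^{2n}`, nontrivial case -/
theorem wpc_sum_om_ne [Fintype F] (h2 : (2 : F) ≠ 0) (ψ : AddChar F ℂ) (hψ : ψ 1 ≠ 1)
    {v : Fin n ⊕ Fin n → F} (hv : v ≠ 0) :
    ∑ u : Fin n ⊕ Fin n → F, ψ (2 * om v u) = 0 := by
  classical
  obtain ⟨u₀, hu₀⟩ := exists_om_ne_zero hv
  set u₁ : Fin n ⊕ Fin n → F := (2 * om v u₀)⁻¹ • u₀ with hu₁
  have h1 : 2 * om v u₁ = 1 := by
    rw [hu₁, om_smul_right]
    field_simp
  have hS : ∑ u : Fin n ⊕ Fin n → F, ψ (2 * om v u) =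
      ψ 1 * ∑ u : Fin n ⊕ Fin n → F, ψ (2 * om v u) := by
    rw [Finset.mul_sum, ← Equiv.sum_comp (Equiv.addLeft u₁)]
    refine Finset.sum_congr rfl fun u _ => ?_
    rw [Equiv.coe_addLeft, om_add_right, mul_add, h1, AddChar.map_add_eq_mul]
  have h3 : (1 - ψ 1) * ∑ u : Fin n ⊕ Fin n → F, ψ (2 * om v u) = 0 := by
    linear_combination hS
  rcases mul_eq_zero.1 h3 with h | h
  · exact absurd (sub_eq_zero.1 h).symm hψ
  · exact h

/-- the sum over the Heisenberg group in terms of the sum over `F^{2n}` -/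
theorem wpc_sum_heis [Fintype F] (ψ : AddChar F ℂ) (a : Heis n F) :
    ∑ h : Heis n F, ψ (a.s + 2 * om a.v h.v) =
      (Fintype.card F : ℂ) * ψ a.s * ∑ u : Fin n ⊕ Fin n → F, ψ (2 * om a.v u) := by
  classical
  rw [← Equiv.sum_comp (Heis.equivProd (n := n) (F := F)).symm]
  rw [Fintype.sum_prod_type]
  have : ∀ (u : Fin n ⊕ Fin n → F) (s : F),
      ψ (a.s + 2 * om a.v ((Heis.equivProd (n := n) (F := F)).symm (u, s)).v) =
        ψ a.s * ψ (2 * om a.v u) := by
    intro u s
    rw [AddChar.map_add_eq_mul]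
    rfl
  simp only [this, Finset.sum_const, Finset.card_univ, nsmul_eq_mul]
  rw [← Finset.mul_sum, ← Finset.mul_sum]
  ring

/-- the Lagrangian part of the Heisenberg group, as a set -/
def wpcEquivW (n : ℕ) (F : Type*) [Field F] : {a : Heis n F // InW a.v} ≃ (Fin n → F) × F where
  toFun a := (fun i => a.1.v (Sum.inl i), a.1.s)
  invFun p := ⟨⟨Sum.elim p.1 0, p.2⟩, fun _ => rfl⟩
  left_inv a := by
    apply Subtype.ext
    apply Heis.ext
    · funext k
      rcases k with i | i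
      · rfl
      · exact (a.2 i).symm
    · rfl
  right_inv p := rfl

/-- `AP ≃ A_W × U` as sets -/
def wpcEquivAP (n : ℕ) (F : Type*) [Field F] [Fintype F] :
    ↥(AP n F) ≃ {a : Heis n F // InW a.v} × ↥(SpU.uni n F) where
  toFun x := (⟨x.1.left, x.2.1⟩, ⟨x.1.right, x.2.2⟩)
  invFun p := ⟨⟨p.1.1, p.2.1⟩, ⟨p.1.2, p.2.2⟩⟩
  left_inv _ := rfl
  right_inv _ := rfl

/-- `PP ≃ Heis × U` as sets -/
def wpcEquivPP (n : ℕ) (F : Type*) [Field F] [Fintype F] :
    ↥(PP n F) ≃ Heis n F × ↥(SpU.uni n F) where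
  toFun x := (x.1.left, ⟨x.1.right, x.2⟩)
  invFun p := ⟨⟨p.1, p.2.1⟩, p.2.2⟩
  left_inv _ := rfl
  right_inv _ := rfl

theorem wpc_card_AP [Fintype F] :
    Nat.card ↥(AP n F) = Fintype.card F ^ n * Fintype.card F * Nat.card ↥(SpU.uni n F) := by
  rw [Nat.card_congr (wpcEquivAP n F), Nat.card_prod, Nat.card_congr (wpcEquivW n F), Nat.card_prod,
    Nat.card_eq_fintype_card, Nat.card_eq_fintype_card, Fintype.card_fun, Fintype.card_fin]

theorem wpc_card_H [Fintype F] :
    Nat.card ↥((AP n F).subgroupOf (PP n F)) =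
      Fintype.card F ^ n * Fintype.card F * Nat.card ↥(SpU.uni n F) := by
  rw [Nat.card_congr (Subgroup.subgroupOfEquivOfLe (AP_le_PP (n := n) (F := F))).toEquiv,
    wpc_card_AP]

/-- summing a function of the Heisenberg component over `PP` -/
theorem wpc_sum_PP [Fintype F] [Fintype ↥(PP n F)] (f : Heis n F → ℂ) :
    ∑ x : ↥(PP n F), f (x : Gam n F).left =
      (Nat.card ↥(SpU.uni n F) : ℂ) * ∑ h : Heis n F, f h := by
  classical
  have : Fintype ↥(SpU.uni n F) := Fintype.ofFinite _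
  rw [← Equiv.sum_comp (wpcEquivPP n F).symm, Fintype.sum_prod_type, Finset.sum_comm]
  have : ∀ (g : ↥(SpU.uni n F)) (h : Heis n F),
      f (((wpcEquivPP n F).symm (h, g) : ↥(PP n F)) : Gam n F).left = f h := fun _ _ => rfl
  simp only [this, Finset.sum_const, Finset.card_univ, nsmul_eq_mul]
  rw [Nat.card_eq_fintype_card]

/-- the linear character of `AP.subgroupOf PP` -/
noncomputable def wpcLam [Fintype F] (ψ : AddChar F ℂ) : ↥((AP n F).subgroupOf (PP n F)) →* ℂ :=
  (muAP ψ).comp (Subgroup.subgroupOfEquivOfLe (AP_le_PP (n := n) (F := F))).toMonoidHom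

theorem wpcLam_apply [Fintype F] (ψ : AddChar F ℂ) (x : ↥((AP n F).subgroupOf (PP n F))) :
    wpcLam ψ x = ψ ((x : ↥(PP n F)) : Gam n F).left.s := rfl

/-- the terms of the induced character at an element of the Heisenberg group -/
theorem wpc_term [Fintype F] (ψ : AddChar F ℂ) (y x : ↥(PP n F)) (a : Heis n F)
    (hy : (y : Gam n F) = SemidirectProduct.inl a) :
    extendByZero ((AP n F).subgroupOf (PP n F)) (fun z => wpcLam ψ z) (x⁻¹ * y * x) =
      open Classical in
      if InW a.v then ψ (a.s + 2 * om a.v (x : Gam n F).left.v) else 0 := by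
  classical
  have hval : ((x⁻¹ * y * x : ↥(PP n F)) : Gam n F) =
      (x : Gam n F)⁻¹ * SemidirectProduct.inl a * (x : Gam n F) := by
    rw [Subgroup.coe_mul, Subgroup.coe_mul, Subgroup.coe_inv, hy]
  have hleft : ((x⁻¹ * y * x : ↥(PP n F)) : Gam n F).left =
      heisAct (x : Gam n F).right⁻¹ ⟨a.v, a.s + 2 * om a.v (x : Gam n F).left.v⟩ := by
    rw [hval, wpc_conj_left, wpc_conj_heis]
  have hright : ((x⁻¹ * y * x : ↥(PP n F)) : Gam n F).right = 1 := by
    rw [hval, wpc_conj_right]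
  have hxU : (x : Gam n F).right ∈ SpU.uni n F := x.2
  have hmem : (x⁻¹ * y * x) ∈ (AP n F).subgroupOf (PP n F) ↔ InW a.v := by
    rw [Subgroup.mem_subgroupOf, mem_AP_iff, hleft, hright, heisAct_v]
    constructor
    · intro h
      exact (wpc_inW_iff hxU a.v).mp h.1
    · intro h
      exact ⟨(wpc_inW_iff hxU a.v).mpr h, Subgroup.one_mem _⟩
  by_cases hW : InW a.v
  · rw [if_pos hW]
    have hm := hmem.mpr hW
    have : extendByZero ((AP n F).subgroupOf (PP n F)) (fun z => wpcLam ψ z) (x⁻¹ * y * x) =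
        wpcLam ψ ⟨x⁻¹ * y * x, hm⟩ := by
      unfold extendByZero
      exact Subtype.val_injective.extend_apply (fun z => wpcLam ψ z) 0 ⟨x⁻¹ * y * x, hm⟩
    rw [this, wpcLam_apply]
    show ψ ((x⁻¹ * y * x : ↥(PP n F)) : Gam n F).left.s = _
    rw [hleft, heisAct_s]
  · rw [if_neg hW]
    have hm : ¬ (x⁻¹ * y * x) ∈ (AP n F).subgroupOf (PP n F) := fun h => hW (hmem.mp h)
    unfold extendByZero
    rw [Function.extend_apply']
    · rfl
    · rintro ⟨b, hb⟩
      exact hm (hb ▸ b.2)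

/-- the induced character restricted to the Heisenberg group -/
theorem wpc_ind_value [Fintype F] [Fintype ↥(PP n F)] (h2 : (2 : F) ≠ 0) (ψ : AddChar F ℂ)
    (hψ : ψ 1 ≠ 1) (y : ↥(PP n F)) (a : Heis n F)
    (hy : (y : Gam n F) = SemidirectProduct.inl a) :
    indFun ((AP n F).subgroupOf (PP n F)) (fun z => wpcLam ψ z) y = theta ψ a := by
  classical
  unfold indFun
  simp only [wpc_term ψ y _ a hy]
  have hU : (Nat.card ↥(SpU.uni n F) : ℂ) ≠ 0 := by
    have : Nat.card ↥(SpU.uni n F) ≠ 0 := Nat.card_pos.ne'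
    exact_mod_cast this
  have hq : (Fintype.card F : ℂ) ≠ 0 := by
    have : Fintype.card F ≠ 0 := Fintype.card_ne_zero
    exact_mod_cast this
  by_cases hW : InW a.v
  · simp only [if_pos hW]
    rw [wpc_sum_PP (fun h => ψ (a.s + 2 * om a.v h.v)), wpc_sum_heis, wpc_card_H]
    push_cast
    by_cases hv : a.v = 0
    · rw [hv, wpc_sum_om_zero, theta_of_v_eq_zero ψ hv]
      field_simp
    · rw [wpc_sum_om_ne h2 ψ hψ hv, theta_of_v_ne_zero ψ hv]
      ring
  · simp only [if_neg hW, Finset.sum_const_zero, mul_zero]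
    have hv : a.v ≠ 0 := by
      intro h0
      apply hW
      rw [h0]
      exact inW_zero
    rw [theta_of_v_ne_zero ψ hv]

theorem exists_char_PP [Fintype F] (h2 : (2 : F) ≠ 0) (ψ : AddChar F ℂ) (hψ : ψ 1 ≠ 1) :
    ∃ η : PP n F → ℂ, IsCharacter (PP n F) η ∧
      ∀ x : NH n F, η ⟨(x : Gam n F), NH_le_PP x.2⟩ = thetaN ψ x := by
  classical
  have : Fintype ↥(PP n F) := Fintype.ofFinite _
  refine ⟨indFun ((AP n F).subgroupOf (PP n F)) (fun z => wpcLam ψ z),
    Cfsg.Agent.Helper24.isCharacter_indFun _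
      (Cfsg.Agent.Helper24.isCharacter_of_monoidHom (wpcLam ψ)), ?_⟩
  intro x
  have hx : (x : Gam n F).right = 1 := (mem_NH_iff _).mp x.2
  have hy : ((⟨(x : Gam n F), NH_le_PP x.2⟩ : ↥(PP n F)) : Gam n F) =
      SemidirectProduct.inl (x : Gam n F).left := by
    apply SemidirectProduct.ext
    · rw [SemidirectProduct.left_inl]
    · rw [SemidirectProduct.right_inl]
      exact hx
  rw [wpc_ind_value h2 ψ hψ _ _ hy]
  rfl

end Cfsg.Agent.Helper12.LSp
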