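import Mathlib
import Cfsg.Agent.Helper7.S2333Defs

/-!
# S2333: basic algebra of the quadratic forms `qf M` and their polar forms
-/

set_option autoImplicit false

namespace Cfsg.Agent.S2333P

open Matrix

variable {F : Type*} [Field F] {n : ℕ}

theorem qf_zero (M : Matrix (Fin n) (Fin n) F) : qf M 0 = 0 := by
  unfold qf
  rw [zero_dotProduct]

theorem qf_smul (M : Matrix (Fin n) (Fin n) F) (t : F) (x : Fin n → F) :
    qf M (t • x) = t ^ 2 * qf M x := by
  unfold qf
  rw [mulVec_smul, smul_dotProduct, dotProduct_smul, smul_eq_mul, smul_eq_mul]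
  ring

/-- the polar form of `qf M` is the bilinear form of `M + Mᵀ` -/
theorem polar_qf (M : Matrix (Fin n) (Fin n) F) (x y : Fin n → F) :
    polar (qf M) x y = x ⬝ᵥ ((M + Mᵀ) *ᵥ y) := by
  unfold polar qf
  rw [mulVec_add, add_dotProduct, dotProduct_add, dotProduct_add, add_mulVec, dotProduct_add,
    mulVec_transpose, dotProduct_comm x (vecMul y M), ← dotProduct_mulVec]
  ring

theorem polar_add_left (M : Matrix (Fin n) (Fin n) F) (x x' y : Fin n → F) :
    polar (qf M) (x + x') y = polar (qf M) x y + polar (qf M) x' y := by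
  rw [polar_qf, polar_qf, polar_qf, add_dotProduct]

theorem polar_add_right (M : Matrix (Fin n) (Fin n) F) (x y y' : Fin n → F) :
    polar (qf M) x (y + y') = polar (qf M) x y + polar (qf M) x y' := by
  rw [polar_qf, polar_qf, polar_qf, mulVec_add, dotProduct_add]

theorem polar_smul_left (M : Matrix (Fin n) (Fin n) F) (t : F) (x y : Fin n → F) :
    polar (qf M) (t • x) y = t * polar (qf M) x y := by
  rw [polar_qf, polar_qf, smul_dotProduct, smul_eq_mul]

theorem polar_smul_right (M : Matrix (Fin n) (Fin n) F) (t : F) (x y : Fin n → F) :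
    polar (qf M) x (t • y) = t * polar (qf M) x y := by
  rw [polar_qf, polar_qf, mulVec_smul, dotProduct_smul, smul_eq_mul]

theorem polar_comm (Q : (Fin n → F) → F) (x y : Fin n → F) : polar Q x y = polar Q y x := by
  unfold polar
  rw [add_comm x y]
  ring

theorem polar_zero_left (M : Matrix (Fin n) (Fin n) F) (y : Fin n → F) :
    polar (qf M) 0 y = 0 := by
  rw [polar_qf, zero_dotProduct]

theorem polar_zero_right (M : Matrix (Fin n) (Fin n) F) (x : Fin n → F) :
    polar (qf M) x 0 = 0 := by
  rw [polar_qf, mulVec_zero, dotProduct_zero]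

theorem polar_neg_right (M : Matrix (Fin n) (Fin n) F) (x y : Fin n → F) :
    polar (qf M) x (-y) = -polar (qf M) x y := by
  rw [polar_qf, polar_qf, mulVec_neg, dotProduct_neg]

theorem polar_sub_right (M : Matrix (Fin n) (Fin n) F) (x y y' : Fin n → F) :
    polar (qf M) x (y - y') = polar (qf M) x y - polar (qf M) x y' := by
  rw [sub_eq_add_neg, polar_add_right, polar_neg_right, sub_eq_add_neg]

/-- in characteristic `2` the polar form is alternating -/
theorem polar_self (h2 : (2 : F) = 0) (M : Matrix (Fin n) (Fin n) F) (x : Fin n → F) :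
    polar (qf M) x x = 0 := by
  unfold polar
  have h : x + x = (2 : F) • x := (two_smul F x).symm
  rw [h, h2, zero_smul, qf_zero]
  have : qf M x + qf M x = 0 := by
    rw [← two_mul, h2, zero_mul]
  linear_combination -this

theorem qf_add (M : Matrix (Fin n) (Fin n) F) (x y : Fin n → F) :
    qf M (x + y) = qf M x + qf M y + polar (qf M) x y := by
  unfold polar
  ring

theorem qf_add_smul (M : Matrix (Fin n) (Fin n) F) (v u : Fin n → F) (t : F) :
    qf M (v + t • u) = qf M v + t ^ 2 * qf M u + t * polar (qf M) v u := by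
  rw [qf_add, qf_smul, polar_smul_right]

/-- substitution -/
theorem qf_comp (M A : Matrix (Fin n) (Fin n) F) (x : Fin n → F) :
    qf (Aᵀ * M * A) x = qf M (A *ᵥ x) := by
  unfold qf
  rw [← mulVec_mulVec, ← mulVec_mulVec, dotProduct_mulVec, vecMul_transpose]

theorem polar_comp (Q : (Fin n → F) → F) (A : Matrix (Fin n) (Fin n) F) (x y : Fin n → F) :
    polar (fun z => Q (A *ᵥ z)) x y = polar Q (A *ᵥ x) (A *ᵥ y) := by
  unfold polar
  simp only [mulVec_add]

/-- in characteristic `2`, `-x = x` -/
theorem neg_eq_self (h2 : (2 : F) = 0) (x : F) : -x = x := by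
  have : x + x = 0 := by rw [← two_mul, h2, zero_mul]
  linear_combination -this

theorem sub_eq_add' (h2 : (2 : F) = 0) (x y : F) : x - y = x + y := by
  rw [sub_eq_add_neg, neg_eq_self h2]

end Cfsg.Agent.S2333P
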