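import Cfsg.Agent.Helper7.GraphPSL2

/-!
# Graph automorphisms of `PSL_n`, part 3 (helper7)

Kernel of `cGL`, the commutation condition with `cGL g₀ * iotaT`, conjugation of graph
automorphisms, and an abstract lemma computing a centralizer in the range of a hom.
-/

set_option autoImplicit false
set_option linter.unusedSectionVars false

namespace Cfsg.Agent.Helper7.GraphPSL

open Matrix

variable {n : ℕ} {F : Type*} [Field F]

theorem ker_cGL : (cGL : GL (Fin n) F →* _).ker = Cfsg.Geo.scalars (Fin n) F := by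
  ext g
  rw [MonoidHom.mem_ker]
  exact ⟨mem_scalars_of_cGL_eq_one g, cGL_of_mem_scalars g⟩

theorem cGL_eq_iff (a b : GL (Fin n) F) :
    cGL a = cGL b ↔ a⁻¹ * b ∈ Cfsg.Geo.scalars (Fin n) F := by
  rw [← ker_cGL, MonoidHom.mem_ker, map_mul, map_inv, inv_mul_eq_one]

/-- `cGL a = cGL b` iff `b = c • a` as matrices for a nonzero scalar `c` -/
theorem cGL_eq_iff_smul (a b : GL (Fin n) F) :
    cGL a = cGL b ↔ ∃ c : Fˣ, (b : Matrix (Fin n) (Fin n) F)
      = (c : F) • (a : Matrix (Fin n) (Fin n) F) := by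
  rw [cGL_eq_iff, Cfsg.Geo.mem_scalars_iff]
  constructor
  · rintro ⟨c, hc⟩
    refine ⟨c, ?_⟩
    have h1 : (b : Matrix (Fin n) (Fin n) F)
        = (a : Matrix (Fin n) (Fin n) F) * ((a⁻¹ * b : GL (Fin n) F) : Matrix (Fin n) (Fin n) F) := by
      rw [← Units.val_mul, mul_inv_cancel_left]
    rw [h1, hc, Matrix.mul_smul, Matrix.mul_one]
  · rintro ⟨c, hc⟩
    refine ⟨c, ?_⟩
    rw [Units.val_mul, hc, Matrix.mul_smul, ← Units.val_mul, inv_mul_cancel, Units.val_one]

/-- the graph automorphism attached to an invertible matrix -/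
noncomputable def graphAut (g₀ : GL (Fin n) F) :
    MulAut (Matrix.ProjectiveSpecialLinearGroup (Fin n) F) :=
  cGL g₀ * iotaT

theorem invTGL_mul_gT (h : GL (Fin n) F) : invTGL h * gT h = 1 := by
  apply Units.ext
  rw [Units.val_mul, invTGL_coe, gT_coe, ← Matrix.transpose_mul, ← Units.val_mul,
    mul_inv_cancel, Units.val_one, Matrix.transpose_one]

theorem invTGL_eq_inv_gT (h : GL (Fin n) F) : invTGL h = (gT h)⁻¹ :=
  eq_inv_of_mul_eq_one_left (invTGL_mul_gT h)

/-- conjugating a graph automorphism by an inner-diagonal one -/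
theorem cGL_conj_graphAut (h g₀ : GL (Fin n) F) :
    cGL h * graphAut g₀ * (cGL h)⁻¹ = graphAut (h * g₀ * gT h) := by
  unfold graphAut
  rw [← map_inv, mul_assoc, mul_assoc, iotaT_mul_cGL, ← mul_assoc, ← mul_assoc, ← map_mul,
    ← map_mul]
  congr 3

theorem graphAut_mul_self (g₀ : GL (Fin n) F) :
    graphAut g₀ * graphAut g₀ = cGL (g₀ * invTGL g₀) := by
  unfold graphAut
  rw [mul_assoc, ← mul_assoc iotaT, iotaT_mul_cGL, mul_assoc, iotaT_mul_self, mul_one, map_mul]

/-- `cGL h` commutes with `graphAut g₀` iff `h g₀ hᵀ` is a scalar multiple of `g₀` -/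
theorem commute_graphAut_iff (g₀ h : GL (Fin n) F) :
    cGL h * graphAut g₀ = graphAut g₀ * cGL h ↔
      ∃ c : Fˣ, (h : Matrix (Fin n) (Fin n) F) * (g₀ : Matrix (Fin n) (Fin n) F)
        * (h : Matrix (Fin n) (Fin n) F)ᵀ = (c : F) • (g₀ : Matrix (Fin n) (Fin n) F) := by
  have h1 : cGL h * graphAut g₀ = graphAut g₀ * cGL h ↔
      cGL h * graphAut g₀ * (cGL h)⁻¹ = graphAut g₀ := by
    rw [mul_inv_eq_iff_eq_mul]
  rw [h1, cGL_conj_graphAut]
  unfold graphAut
  rw [mul_left_inj, eq_comm, cGL_eq_iff_smul]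
  rfl

/-- **Abstract centralizer lemma**: the centralizer of `γ` in the range of `Φ`. -/
theorem centralizer_equiv {H A : Type*} [Group H] [Group A] (Φ : H →* A) (γ : A)
    (S' : Subgroup H) (hS : ∀ k, k ∈ S' ↔ Φ k * γ = γ * Φ k) :
    Nonempty (↥(Φ.range ⊓ Subgroup.centralizer {γ}) ≃* ↥S' ⧸ (Φ.ker).subgroupOf S') := by
  have hrange : (Φ.comp S'.subtype).range = Φ.range ⊓ Subgroup.centralizer {γ} := by
    ext a
    constructor
    · rintro ⟨k, rfl⟩
      refine ⟨⟨k, rfl⟩, ?_⟩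
      show Φ k ∈ Subgroup.centralizer {γ}
      rw [Subgroup.mem_centralizer_singleton_iff]
      exact (hS k).1 k.2
    · rintro ⟨⟨k, rfl⟩, hk⟩
      have hk' : Φ k ∈ Subgroup.centralizer {γ} := hk
      rw [Subgroup.mem_centralizer_singleton_iff] at hk'
      exact ⟨⟨k, (hS k).2 hk'⟩, rfl⟩
  have hker : (Φ.comp S'.subtype).ker = Φ.ker.subgroupOf S' := by
    ext k
    rfl
  exact ⟨(((QuotientGroup.quotientMulEquivOfEq hker).symm.trans
    (QuotientGroup.quotientKerEquivRange _)).trans (MulEquiv.subgroupCongr hrange)).symm⟩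

end Cfsg.Agent.Helper7.GraphPSL
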