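import Mathlib

set_option autoImplicit false

/-! # S3222, piece DCOUNT: double counting pairs (conjugate of `u`, Sylow subgroup it normalises) -/

namespace Cfsg.Agent.S3222P

/-- Counting pairs when all fibres have the same size. -/
theorem DCOUNT_aux_const {α β : Type*} [Finite α] [Finite β] (R : α → β → Prop) (n : ℕ)
    (h : ∀ a, Nat.card {b // R a b} = n) :
    Nat.card {w : α × β // R w.1 w.2} = Nat.card α * n := by
  classical
  have := Fintype.ofFinite α
  rw [Nat.card_congr (Equiv.subtypeProdEquivSigmaSubtype R), Nat.card_sigma]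
  simp only [h, Finset.sum_const, Finset.card_univ, smul_eq_mul, Nat.card_eq_fintype_card]

/-- DCOUNT (M): double counting pairs (conjugate of `u`, Sylow subgroup it normalises). -/
theorem DCOUNT {G : Type*} [Group G] [Finite G] {p : ℕ} [Fact p.Prime] (u : G) (P : Sylow p G) :
    Nat.card {v : G // IsConj u v} *
        Nat.card {Q : Sylow p G // u ∈ Subgroup.normalizer ((Q : Subgroup G) : Set G)} =
      Nat.card (Sylow p G) *
        Nat.card {v : G // IsConj u v ∧ v ∈ Subgroup.normalizer ((P : Subgroup G) : Set G)} := by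
  classical
  -- fibres over a conjugate `v`
  have h1 : ∀ v : {v : G // IsConj u v},
      Nat.card {Q : Sylow p G // (v : G) • Q = Q} =
        Nat.card {Q : Sylow p G // u ∈ Subgroup.normalizer ((Q : Subgroup G) : Set G)} := by
    rintro ⟨v, hv⟩
    obtain ⟨g, hg⟩ := isConj_iff.1 hv
    have e : {Q : Sylow p G // v • Q = Q} ≃
        {Q : Sylow p G // u ∈ Subgroup.normalizer ((Q : Subgroup G) : Set G)} := by
      refine Equiv.subtypeEquiv (MulAction.toPerm g⁻¹ : Equiv.Perm (Sylow p G)) ?_
      intro Q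
      have key : v • Q = Q ↔ u • (g⁻¹ • Q) = g⁻¹ • Q := by
        have e1 : u • (g⁻¹ • Q) = g⁻¹ • (v • Q) := by
          rw [smul_smul, smul_smul, ← hg]
          congr 1
          group
        rw [e1, smul_left_cancel_iff]
      exact key.trans Sylow.smul_eq_iff_mem_normalizer
    exact Nat.card_congr e
  -- fibres over a Sylow subgroup `Q`
  have h2 : ∀ Q : Sylow p G,
      Nat.card {v : {v : G // IsConj u v} // (v : G) • Q = Q} =
        Nat.card {v : G // IsConj u v ∧ v ∈ Subgroup.normalizer ((P : Subgroup G) : Set G)} := by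
    intro Q
    obtain ⟨h, hh⟩ := MulAction.exists_smul_eq G P Q
    have hC : ∀ v : G, IsConj u v ↔ IsConj u ((MulAut.conj h⁻¹).toEquiv v) := by
      intro v
      show IsConj u v ↔ IsConj u (h⁻¹ * v * h⁻¹⁻¹)
      have hc : IsConj v (h⁻¹ * v * h⁻¹⁻¹) := isConj_iff.2 ⟨h⁻¹, rfl⟩
      exact ⟨fun hv => hv.trans hc, fun hv => hv.trans hc.symm⟩
    have e : {v : {v : G // IsConj u v} // (v : G) • Q = Q} ≃
        {v : {v : G // IsConj u v} // (v : G) • P = P} := by
      refine Equiv.subtypeEquiv (Equiv.subtypeEquiv (MulAut.conj h⁻¹).toEquiv hC) ?_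
      intro v
      show (v : G) • Q = Q ↔ (h⁻¹ * (v : G) * h⁻¹⁻¹) • P = P
      have e1 : (h⁻¹ * (v : G) * h⁻¹⁻¹) • P = h⁻¹ • ((v : G) • Q) := by
        rw [← hh, smul_smul, smul_smul, inv_inv]
      have e2 : P = h⁻¹ • Q := by rw [← hh, smul_smul, inv_mul_cancel, one_smul]
      rw [e1]
      constructor
      · intro hq
        rw [hq, ← e2]
      · intro hq
        have : h⁻¹ • ((v : G) • Q) = h⁻¹ • Q := by rw [hq, ← e2]
        exact smul_left_cancel _ this
    have e' : {v : {v : G // IsConj u v} // (v : G) • P = P} ≃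
        {v : G // IsConj u v ∧ v ∈ Subgroup.normalizer ((P : Subgroup G) : Set G)} :=
      (Equiv.subtypeSubtypeEquivSubtypeInter (fun v : G => IsConj u v)
        (fun v : G => v • P = P)).trans
        (Equiv.subtypeEquivRight (fun v => and_congr Iff.rfl Sylow.smul_eq_iff_mem_normalizer))
    exact Nat.card_congr (e.trans e')
  have c1 := DCOUNT_aux_const (fun (v : {v : G // IsConj u v}) (Q : Sylow p G) => (v : G) • Q = Q)
    _ h1
  have c2 := DCOUNT_aux_const (fun (Q : Sylow p G) (v : {v : G // IsConj u v}) => (v : G) • Q = Q)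
    _ h2
  have e12 : {w : {v : G // IsConj u v} × Sylow p G // (w.1 : G) • w.2 = w.2} ≃
      {w : Sylow p G × {v : G // IsConj u v} // (w.2 : G) • w.1 = w.1} :=
    Equiv.subtypeEquiv (Equiv.prodComm _ _) (fun w => Iff.rfl)
  rw [← c1, ← c2]
  exact Nat.card_congr e12

end Cfsg.Agent.S3222P
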