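import Cfsg.Agent.Helper11.S3786Defs

/-! # S3786 board, row `POWFORM`: the power formula `(x r)^N = x^N · r^{x^{-(N-1)}} ⋯ r^{x^{-1}} r`, read in `V`. -/

set_option autoImplicit false

namespace Cfsg.Agent.S3786P

universe u

variable {X : Type u} [Group X] [Finite X] {p : ℕ} [Fact p.Prime] {V : Type u} [AddCommGroup V] [Module (ZMod p) V]
  {π : ↥(Cfsg.pCore p X) →* Multiplicative V} {ρb : Representation (ZMod p) (X ⧸ Cfsg.pCore p X) V}

theorem POWFORM (D : FratData p V π ρb) (x : X) (r : ↥(Cfsg.pCore p X)) (N : ℕ) :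
    ∃ u : ↥(Cfsg.pCore p X), (x * (r : X)) ^ N = x ^ N * (u : X) ∧
      Multiplicative.toAdd (π u) =
        ∑ i ∈ Finset.range N, (ρb (QuotientGroup.mk' (Cfsg.pCore p X) x⁻¹) ^ i) (Multiplicative.toAdd (π r)) := by
  induction N with
  | zero =>
    refine ⟨1, by simp, ?_⟩
    rw [map_one, Finset.range_zero, Finset.sum_empty]
    rfl
  | succ N ih =>
    obtain ⟨u, hu1, hu2⟩ := ih
    have hmem : x⁻¹ * (u : X) * x ∈ Cfsg.pCore p X := by
      have := (Cfsg.pCore_normal p X).conj_mem (u : X) u.2 x⁻¹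
      rwa [inv_inv] at this
    refine ⟨⟨x⁻¹ * (u : X) * x, hmem⟩ * r, ?_, ?_⟩
    · rw [pow_succ, hu1, pow_succ]
      simp only [Subgroup.coe_mul]
      group
    · rw [map_mul, toAdd_mul]
      have he := D.equiv x⁻¹ u ⟨x⁻¹ * (u : X) * x, hmem⟩ (by simp)
      rw [he, hu2, Finset.sum_range_succ', map_sum]
      congr 1
      · apply Finset.sum_congr rfl
        intro i _
        rw [pow_succ']
        rfl

end Cfsg.Agent.S3786P
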