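import Mathlib
import Cfsg.Agent.Helper2.S4130Defs
import Cfsg.Agent.Helper23.S4130INHN

/-!
# S4130 board, rows DIVD / DIVR / PSQP: divisibility tools

(`DIVD` was first landed as `DIV`; renamed at once because `Cfsg.Agent.Helper2.S4130SS` declares a
different `Cfsg.Agent.S4130P.DIV`.)
-/

set_option autoImplicit false

namespace Cfsg.Agent.S4130P

open Subgroup

/-- (DIVD) `|N : C_N(x)|` divides `|G : C_G(x)|` for `N` normal. -/
theorem DIVD {G : Type*} [Group G] [Finite G] (N : Subgroup G) [N.Normal] (x : G) :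
    (centralizer ({x} : Set G)).relIndex N ∣ (centralizer ({x} : Set G)).index := by
  rw [Chk.INHN_aux_relIndex_sup]
  exact relIndex_dvd_index_of_le le_sup_left

/-- A square-free divisor of a power of a prime `r` is `1` or `r`. -/
theorem DIVR_aux_sqf {r k n : ℕ} (hr : r.Prime) (hn : n ∣ r ^ k) (hs : Squarefree n) :
    n = 1 ∨ n = r := by
  obtain ⟨j, -, rfl⟩ := (Nat.dvd_prime_pow hr).mp hn
  rcases j with _ | _ | j
  · left; simp
  · right; simp
  · exfalso
    have h2 : r * r ∣ r ^ (j + 1 + 1) := ⟨r ^ j, by ring⟩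
    exact hr.one_lt.ne' (Nat.isUnit_iff.mp (hs r h2))

/-- (DIVR) for a normal `r`-subgroup `N` of an (SQ)-group: `|N : C_N(x)|` is `1` or `r`. -/
theorem DIVR {G : Type*} [Group G] [Finite G] (h : SqfCls G) (N : Subgroup G) [N.Normal]
    (r : ℕ) [Fact r.Prime] (hN : IsPGroup r N) (x : G) :
    (centralizer ({x} : Set G)).relIndex N = 1 ∨ (centralizer ({x} : Set G)).relIndex N = r := by
  obtain ⟨k, hk⟩ := IsPGroup.iff_card.mp hN
  have h1 : (centralizer ({x} : Set G)).relIndex N ∣ r ^ k := by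
    rw [← hk]
    exact (centralizer ({x} : Set G)).relIndex_dvd_card N
  exact DIVR_aux_sqf Fact.out h1 (Squarefree.squarefree_of_dvd (DIVD N x) (h x))

/-- (PSQP) an (SQ) `p`-group has all class sizes dividing `p`. -/
theorem PSQP {P : Type*} [Group P] [Finite P] (p : ℕ) [Fact p.Prime] (hP : IsPGroup p P)
    (h : SqfCls P) (x : P) : (centralizer ({x} : Set P)).index ∣ p := by
  obtain ⟨k, hk⟩ := IsPGroup.iff_card.mp hP
  have h1 : (centralizer ({x} : Set P)).index ∣ p ^ k := by
    rw [← hk]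
    exact (centralizer ({x} : Set P)).index_dvd_card
  rcases DIVR_aux_sqf Fact.out h1 (h x) with h2 | h2
  · rw [h2]; exact one_dvd p
  · rw [h2]

end Cfsg.Agent.S4130P
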