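import Mathlib
import Cfsg.Agent.Helper11.S4409Defs

/-! Board `s4409pieces`, row E1N (`es_ne16`): there is no extraspecial group of order `16`. -/

set_option autoImplicit false
set_option linter.unusedVariables false

namespace Cfsg.Agent.S4409P

open Subgroup
open scoped commutatorElement

/-- the commutator hom `g ↦ g b g⁻¹ b⁻¹` into the centre, when all commutators are central. -/
def E1N_aux_phi {G : Type*} [Group G] (hder : ∀ a b : G, a * b * a⁻¹ * b⁻¹ ∈ center G) (b : G) :
    G →* ↥(center G) where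
  toFun g := ⟨g * b * g⁻¹ * b⁻¹, hder g b⟩
  map_one' := by
    apply Subtype.ext
    simp
  map_mul' g h := by
    apply Subtype.ext
    show g * h * b * (g * h)⁻¹ * b⁻¹ = (g * b * g⁻¹ * b⁻¹) * (h * b * h⁻¹ * b⁻¹)
    have hc : ∀ y : G, y * (h * b * h⁻¹ * b⁻¹) = (h * b * h⁻¹ * b⁻¹) * y := fun y =>
      (Subgroup.mem_center_iff.1 (hder h b) y)
    have e1 : g * h * b * (g * h)⁻¹ * b⁻¹ = g * (h * b * h⁻¹ * b⁻¹) * (b * g⁻¹ * b⁻¹) := by group
    have e2 : g * b * g⁻¹ * b⁻¹ * (h * b * h⁻¹ * b⁻¹) = (h * b * h⁻¹ * b⁻¹) * (g * b * g⁻¹ * b⁻¹) :=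
      hc _
    rw [e1, hc g, e2]
    group

theorem E1N_aux_phi_ker {G : Type*} [Group G] (hder : ∀ a b : G, a * b * a⁻¹ * b⁻¹ ∈ center G)
    (b g : G) : E1N_aux_phi hder b g = 1 ↔ g * b = b * g := by
  constructor
  · intro h
    have h1 : g * b * g⁻¹ * b⁻¹ = 1 := congrArg Subtype.val h
    have h2 : g * b = (g * b * g⁻¹ * b⁻¹) * (b * g) := by group
    rw [h2, h1, one_mul]
  · intro h
    apply Subtype.ext
    show g * b * g⁻¹ * b⁻¹ = 1
    rw [h]; group

theorem E1N_aux_double {G : Type*} [Group G] [Finite G] {A B : Subgroup G} (hAB : A ≤ B) {y : G}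
    (hyB : y ∈ B) (hyA : y ∉ A) : 2 * Nat.card ↥A ≤ Nat.card ↥B := by
  obtain ⟨k, hk⟩ := Subgroup.card_dvd_of_le hAB
  have hpos : 0 < Nat.card ↥A := Nat.card_pos
  have hk1 : k ≠ 1 := by
    intro h1
    rw [h1, mul_one] at hk
    have : A = B := by
      apply Subgroup.eq_of_le_of_card_ge hAB (le_of_eq hk)
    exact hyA (this ▸ hyB)
  have hk0 : k ≠ 0 := by
    intro h0
    rw [h0, mul_zero] at hk
    have : 0 < Nat.card ↥B := Nat.card_pos
    omega
  have : 2 ≤ k := by omega
  calc 2 * Nat.card ↥A = Nat.card ↥A * 2 := by ring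
    _ ≤ Nat.card ↥A * k := Nat.mul_le_mul_left _ this
    _ = Nat.card ↥B := hk.symm

/-- abstract form: a group of order `16` with centre of order `2` has a non-central commutator. -/
theorem E1N_aux_abs {G : Type*} [Group G] [Finite G] (hz : Nat.card ↥(center G) = 2)
    (hder : ∀ a b : G, a * b * a⁻¹ * b⁻¹ ∈ center G) : Nat.card G ≠ 16 := by
  intro h16
  -- a non-central element
  have hx : ∃ x : G, x ∉ center G := by
    by_contra hcon
    have : center G = ⊤ := by
      rw [eq_top_iff]; intro x _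
      by_contra hx
      exact hcon ⟨x, hx⟩
    rw [this, Subgroup.card_top] at hz
    omega
  obtain ⟨x, hx⟩ := hx
  have hw : ∃ w : G, w * x ≠ x * w := by
    by_contra hcon
    apply hx
    rw [Subgroup.mem_center_iff]
    intro g
    by_contra hg
    exact hcon ⟨g, hg⟩
  obtain ⟨w, hw⟩ := hw
  -- the product hom
  set ψ : G →* ↥(center G) × ↥(center G) := (E1N_aux_phi hder x).prod (E1N_aux_phi hder w) with hψ
  have hker : ∀ g, g ∈ ψ.ker ↔ g * x = x * g ∧ g * w = w * g := by
    intro g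
    rw [MonoidHom.mem_ker, hψ, MonoidHom.prod_apply, Prod.mk_eq_one, E1N_aux_phi_ker, E1N_aux_phi_ker]
  have hcardker : 4 ≤ Nat.card ↥ψ.ker := by
    have h1 : Nat.card ↥ψ.ker * ψ.ker.index = Nat.card G := Subgroup.card_mul_index _
    rw [Subgroup.index_ker] at h1
    have h2 : Nat.card ↥ψ.range ∣ Nat.card (↥(center G) × ↥(center G)) :=
      Subgroup.card_subgroup_dvd_card _
    rw [Nat.card_prod, hz] at h2
    have h3 : Nat.card ↥ψ.range ≤ 4 := Nat.le_of_dvd (by norm_num) h2
    rw [h16] at h1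
    by_contra hlt
    have : Nat.card ↥ψ.ker ≤ 3 := by omega
    have : Nat.card ↥ψ.ker * Nat.card ↥ψ.range ≤ 3 * 4 := Nat.mul_le_mul this h3
    omega
  have hZker : center G ≤ ψ.ker := by
    intro c hc
    rw [hker]
    exact ⟨(Subgroup.mem_center_iff.1 hc x).symm, (Subgroup.mem_center_iff.1 hc w).symm⟩
  have hb : ∃ b ∈ ψ.ker, b ∉ center G := by
    by_contra hcon
    have hle : ψ.ker ≤ center G := by
      intro b hb
      by_contra hbz
      exact hcon ⟨b, hb, hbz⟩
    have := Nat.le_of_dvd (by rw [hz]; norm_num) (Subgroup.card_dvd_of_le hle)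
    rw [hz] at this
    omega
  obtain ⟨b, hbker, hbz⟩ := hb
  obtain ⟨hbx, hbw⟩ := (hker b).1 hbker
  -- the chain inside `C(b)`
  set Cb : Subgroup G := centralizer ({b} : Set G) with hCb
  set Cx : Subgroup G := centralizer ({x} : Set G) with hCx
  set Cw : Subgroup G := centralizer ({w} : Set G) with hCw
  have hZ1 : 2 * Nat.card ↥(center G) ≤ Nat.card ↥(Cb ⊓ Cx ⊓ Cw) := by
    apply E1N_aux_double (y := b)
    · intro c hc
      refine ⟨⟨?_, ?_⟩, ?_⟩
      · exact Subgroup.mem_centralizer_singleton_iff.2 (Subgroup.mem_center_iff.1 hc b).symm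
      · exact Subgroup.mem_centralizer_singleton_iff.2 (Subgroup.mem_center_iff.1 hc x).symm
      · exact Subgroup.mem_centralizer_singleton_iff.2 (Subgroup.mem_center_iff.1 hc w).symm
    · refine ⟨⟨?_, ?_⟩, ?_⟩
      · exact Subgroup.mem_centralizer_singleton_iff.2 rfl
      · exact Subgroup.mem_centralizer_singleton_iff.2 hbx
      · exact Subgroup.mem_centralizer_singleton_iff.2 hbw
    · exact hbz
  have hZ2 : 2 * Nat.card ↥(Cb ⊓ Cx ⊓ Cw) ≤ Nat.card ↥(Cb ⊓ Cx) := by
    apply E1N_aux_double (y := x) inf_le_left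
    · refine ⟨?_, ?_⟩
      · exact Subgroup.mem_centralizer_singleton_iff.2 hbx.symm
      · exact Subgroup.mem_centralizer_singleton_iff.2 rfl
    · intro hmem
      have := Subgroup.mem_centralizer_singleton_iff.1 hmem.2
      exact hw this.symm
  have hZ3 : 2 * Nat.card ↥(Cb ⊓ Cx) ≤ Nat.card ↥Cb := by
    apply E1N_aux_double (y := w) inf_le_left
    · exact Subgroup.mem_centralizer_singleton_iff.2 hbw.symm
    · intro hmem
      have := Subgroup.mem_centralizer_singleton_iff.1 hmem.2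
      exact hw this
  have hCbtop : Cb = ⊤ := by
    apply Subgroup.eq_top_of_le_card
    rw [h16]
    rw [hz] at hZ1
    omega
  apply hbz
  rw [Subgroup.mem_center_iff]
  intro g
  have : g ∈ Cb := hCbtop ▸ Subgroup.mem_top g
  exact (Subgroup.mem_centralizer_singleton_iff.1 this)

variable {S : Type*} [Group S] [Finite S]

/-- E1N -/
theorem es_ne16 (P : Subgroup S) (hP : IsPGroup 2 ↥P) (hs : SpecialInt P) (hz : Nat.card ↥(Zc P) = 2) :
    Nat.card ↥P ≠ 16 := by
  -- the centre of `↥P` maps onto `Zc P`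
  have hmap : (center ↥P).map P.subtype = Zc P := by
    ext y
    rw [Subgroup.mem_map, mem_Zc]
    constructor
    · rintro ⟨c, hc, rfl⟩
      refine ⟨c.2, fun g hg => ?_⟩
      have := Subgroup.mem_center_iff.1 hc ⟨g, hg⟩
      exact congrArg Subtype.val this
    · rintro ⟨hy, hcomm⟩
      refine ⟨⟨y, hy⟩, ?_, rfl⟩
      rw [Subgroup.mem_center_iff]
      intro g
      exact Subtype.ext (hcomm g.1 g.2)
  have hzc : Nat.card ↥(center ↥P) = 2 := by
    rw [← hz, ← hmap]
    exact (Subgroup.card_map_of_injective (Subgroup.subtype_injective P)).symm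
  have hder : ∀ a b : ↥P, a * b * a⁻¹ * b⁻¹ ∈ center ↥P := by
    intro a b
    have h1 : (a : S) * b * (a : S)⁻¹ * (b : S)⁻¹ ∈ Der P := by
      unfold Der
      exact Subgroup.commutator_mem_commutator a.2 b.2
    rw [hs.2, ← hmap] at h1
    obtain ⟨c, hc, hce⟩ := h1
    have : c = a * b * a⁻¹ * b⁻¹ := Subtype.ext (by rw [← Subgroup.coe_subtype]; rw [hce]; rfl)
    rw [← this]; exact hc
  exact E1N_aux_abs hzc hder

end Cfsg.Agent.S4409P
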