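import Mathlib
import Cfsg.Agent.Helper11.S4409Defs
import Cfsg.Agent.Helper9.S4409F
import Cfsg.Agent.Helper7.S4409E1N

/-! Board `s4409pieces`, row E3 (`q8_of_es8`): an extraspecial group of order `8` with `P = [P,K]`,
`K` of odd order, is quaternion. -/

set_option autoImplicit false
set_option linter.unusedVariables false

namespace Cfsg.Agent.S4409P

open Subgroup
open scoped commutatorElement

variable {S : Type*} [Group S] [Finite S]

/-- cosets of a subgroup of index two (internal form). -/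
theorem E3_aux_idx {A B : Subgroup S} (hAB : A ≤ B) (hcard : 2 * Nat.card ↥A = Nat.card ↥B)
    {a : S} (haB : a ∈ B) (haA : a ∉ A) : ∀ g ∈ B, g ∈ A ∨ a⁻¹ * g ∈ A := by
  intro g hg
  have hidx : (A.subgroupOf B).index = 2 := by
    have h1 := Subgroup.card_mul_index (A.subgroupOf B)
    have h2 : Nat.card ↥(A.subgroupOf B) = Nat.card ↥A :=
      Nat.card_congr (Subgroup.subgroupOfEquivOfLe hAB).toEquiv
    rw [h2] at h1
    have hpos : 0 < Nat.card ↥A := Nat.card_pos
    have : Nat.card ↥A * (A.subgroupOf B).index = Nat.card ↥A * 2 := by rw [h1, ← hcard]; ring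
    exact Nat.eq_of_mul_eq_mul_left hpos this
  by_cases hgA : g ∈ A
  · exact Or.inl hgA
  · right
    have := Subgroup.mul_mem_iff_of_index_two hidx (a := (⟨a⁻¹, B.inv_mem haB⟩ : ↥B)) (b := ⟨g, hg⟩)
    rw [Subgroup.mem_subgroupOf, Subgroup.mem_subgroupOf, Subgroup.mem_subgroupOf] at this
    apply this.2
    constructor
    · intro h
      exact absurd (by simpa using A.inv_mem h) haA
    · intro h
      exact absurd h hgA

/-- an element of odd order commutes with whatever its square commutes with. -/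
theorem E3_aux_odd {k v : S} (hodd : Odd (orderOf k)) (h2 : Commute (k * k) v) : Commute k v := by
  obtain ⟨m, hm⟩ := hodd
  have hk : (k * k) ^ (m + 1) = k := by
    have : (k * k) ^ (m + 1) = k ^ (orderOf k) * k := by
      rw [hm, ← pow_two, ← pow_mul, ← pow_succ]
      congr 1
    rw [this, pow_orderOf_eq_one, one_mul]
  rw [← hk]
  exact h2.pow_left _

/-- E3 -/
theorem q8_of_es8 (P K : Subgroup S) (hP : IsPGroup 2 ↥P) (hs : SpecialInt P) (hz : Nat.card ↥(Zc P) = 2)
    (h8 : Nat.card ↥P = 8) (hK : Odd (Nat.card ↥K)) (hKP : K ≤ normalizer (P : Set S)) (hPK : ⁅P, K⁆ = P) : IsQ8 P := by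
  -- the nontrivial central element
  obtain ⟨⟨ζ, hζZ⟩, hζ1, huniq⟩ := (Nat.card_eq_two_iff' (1 : ↥(Zc P))).1 hz
  have hζne : ζ ≠ 1 := fun h => hζ1 (Subtype.ext h)
  have hZel : ∀ c ∈ Zc P, c = 1 ∨ c = ζ := by
    intro c hc
    by_cases h1 : c = 1
    · exact Or.inl h1
    · right
      have := huniq ⟨c, hc⟩ (fun h => h1 (congrArg Subtype.val h))
      exact congrArg Subtype.val this
  have hζP : ζ ∈ P := Zc_le P hζZ
  have hζc : ∀ g ∈ P, g * ζ = ζ * g := fun g hg => (mem_Zc.1 hζZ).2 g hg
  have hζζ : ζ * ζ = 1 := by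
    rcases hZel _ ((Zc P).mul_mem hζZ hζZ) with h | h
    · exact h
    · exfalso
      apply hζne
      have : ζ * ζ = ζ * 1 := by rw [h, mul_one]
      exact mul_left_cancel this
  have hsq : ∀ g ∈ P, g * g ∈ Zc P := by
    intro g hg
    rw [← hs.1]
    exact sq_mem_fr P hP hg
  have hder : ∀ a ∈ P, ∀ b ∈ P, a * b * a⁻¹ * b⁻¹ ∈ Zc P := by
    intro a ha b hb
    rw [← hs.2]
    unfold Der
    exact Subgroup.commutator_mem_commutator ha hb
  -- `K` normalises `Z(P)` and centralises `ζ`
  have hKζ : ∀ k ∈ K, k * ζ * k⁻¹ = ζ := by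
    intro k hk
    have hkN := hKP hk
    have hmem : k * ζ * k⁻¹ ∈ Zc P := by
      rw [mem_Zc]
      refine ⟨(Subgroup.mem_normalizer_iff.1 hkN ζ).1 hζP, ?_⟩
      intro y hy
      have hy' : k⁻¹ * y * k ∈ P := by
        have := (Subgroup.mem_normalizer_iff.1 hkN (k⁻¹ * y * k)).2
        apply this
        have e : k * (k⁻¹ * y * k) * k⁻¹ = y := by group
        rw [e]; exact hy
      have h1 := hζc _ hy'
      -- k⁻¹ y k ζ = ζ k⁻¹ y k
      calc y * (k * ζ * k⁻¹) = k * ((k⁻¹ * y * k) * ζ) * k⁻¹ := by group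
        _ = k * (ζ * (k⁻¹ * y * k)) * k⁻¹ := by rw [h1]
        _ = k * ζ * k⁻¹ * y := by group
    rcases hZel _ hmem with h | h
    · exfalso
      apply hζne
      have : ζ = k⁻¹ * (k * ζ * k⁻¹) * k := by group
      rw [this, h]; group
    · exact h
  refine ⟨h8, ζ, hζP, hζne, hζζ, ?_⟩
  intro x hx
  by_contra hcon
  rw [not_or, not_or] at hcon
  obtain ⟨hx1, hxζ, hxx⟩ := hcon
  have hxx1 : x * x = 1 := by
    rcases hZel _ (hsq x hx) with h | h
    · exact h
    · exact absurd h hxx
  have hxZ : x ∉ Zc P := by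
    intro h
    rcases hZel _ h with h | h
    · exact hx1 h
    · exact hxζ h
  have hy : ∃ y ∈ P, y * x ≠ x * y := by
    by_contra hcon
    apply hxZ
    rw [mem_Zc]
    refine ⟨hx, fun y hy => ?_⟩
    by_contra hne
    exact hcon ⟨y, hy, hne⟩
  obtain ⟨y, hyP, hyx⟩ := hy
  have hcomm : x * y * x⁻¹ * y⁻¹ = ζ := by
    rcases hZel _ (hder x hx y hyP) with h | h
    · exfalso
      apply hyx
      have : x * y = (x * y * x⁻¹ * y⁻¹) * (y * x) := by group
      rw [h, one_mul] at this
      exact this.symm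
    · exact h
  have hxy : x * y = ζ * (y * x) := by
    have : x * y = (x * y * x⁻¹ * y⁻¹) * (y * x) := by group
    rw [hcomm] at this
    exact this
  -- the chain `Z < H < P`
  set H : Subgroup S := P ⊓ centralizer ({x} : Set S) with hH
  have hZH : Zc P ≤ H := by
    intro c hc
    refine ⟨Zc_le P hc, ?_⟩
    exact Subgroup.mem_centralizer_singleton_iff.2 ((mem_Zc.1 hc).2 x hx).symm
  have hxH : x ∈ H := ⟨hx, Subgroup.mem_centralizer_singleton_iff.2 rfl⟩
  have hyH : y ∉ H := by
    intro h
    exact hyx (Subgroup.mem_centralizer_singleton_iff.1 h.2)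
  have hc1 : 2 * Nat.card ↥(Zc P) ≤ Nat.card ↥H := E1N_aux_double hZH hxH hxZ
  have hc2 : 2 * Nat.card ↥H ≤ Nat.card ↥P := E1N_aux_double inf_le_left hyP hyH
  have hcH : Nat.card ↥H = 4 := by omega
  have hHel : ∀ h ∈ H, h = 1 ∨ h = ζ ∨ h = x ∨ h = x * ζ := by
    intro h hh
    rcases E3_aux_idx hZH (show 2 * Nat.card ↥(Zc P) = Nat.card ↥H by rw [hcH, hz]) hxH hxZ h hh with h1 | h1
    · rcases hZel _ h1 with h2 | h2
      · exact Or.inl h2
      · exact Or.inr (Or.inl h2)
    · rcases hZel _ h1 with h2 | h2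
      · right; right; left
        have : h = x * (x⁻¹ * h) := by group
        rw [this, h2, mul_one]
      · right; right; right
        have : h = x * (x⁻¹ * h) := by group
        rw [this, h2]
  have hPel : ∀ g ∈ P, g ∈ H ∨ ∃ h ∈ H, g = y * h := by
    intro g hg
    rcases E3_aux_idx (inf_le_left : H ≤ P) (show 2 * Nat.card ↥H = Nat.card ↥P by rw [hcH, h8]) hyP hyH g hg with h1 | h1
    · exact Or.inl h1
    · exact Or.inr ⟨y⁻¹ * g, h1, by group⟩
  have hHsq : ∀ h ∈ H, h * h = 1 := by
    intro h hh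
    rcases hHel h hh with rfl | rfl | rfl | rfl
    · exact one_mul 1
    · exact hζζ
    · exact hxx1
    · calc x * ζ * (x * ζ) = x * (ζ * x) * ζ := by group
        _ = x * (x * ζ) * ζ := by rw [hζc x hx]
        _ = (x * x) * (ζ * ζ) := by group
        _ = 1 := by rw [hxx1, hζζ, one_mul]
  have hyxsq : (y * x) * (y * x) = ζ * (y * y) := by
    calc (y * x) * (y * x) = y * (x * y) * x := by group
      _ = y * (ζ * (y * x)) * x := by rw [hxy]
      _ = (y * ζ) * (y * (x * x)) := by group
      _ = (ζ * y) * (y * (x * x)) := by rw [hζc y hyP]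
      _ = ζ * (y * y) := by rw [hxx1]; group
  have hsqζ : ∀ g ∈ P, (g * ζ) * (g * ζ) = g * g := by
    intro g hg
    calc (g * ζ) * (g * ζ) = g * (ζ * g) * ζ := by group
      _ = g * (g * ζ) * ζ := by rw [hζc g hg]
      _ = (g * g) * (ζ * ζ) := by group
      _ = g * g := by rw [hζζ, mul_one]
  -- the element of order four
  have hv : ∃ v ∈ P, v * v = ζ ∧ ∀ g ∈ P, g * g = ζ → g = v ∨ g = v * ζ := by
    rcases hZel _ (hsq y hyP) with hyy | hyy
    · -- `y² = 1`, `v = y x`
      refine ⟨y * x, P.mul_mem hyP hx, by rw [hyxsq, hyy, mul_one], ?_⟩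
      intro g hg hgg
      rcases hPel g hg with h1 | ⟨h, hh, rfl⟩
      · exfalso; apply hζne; rw [← hgg, hHsq g h1]
      · rcases hHel h hh with rfl | rfl | rfl | rfl
        · exfalso; apply hζne; rw [← hgg, mul_one, hyy]
        · exfalso; apply hζne; rw [← hgg, hsqζ y hyP, hyy]
        · exact Or.inl rfl
        · exact Or.inr (by group)
    · -- `y² = ζ`, `v = y`
      refine ⟨y, hyP, hyy, ?_⟩
      intro g hg hgg
      rcases hPel g hg with h1 | ⟨h, hh, rfl⟩
      · exfalso; apply hζne; rw [← hgg, hHsq g h1]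
      · rcases hHel h hh with rfl | rfl | rfl | rfl
        · exact Or.inl (mul_one y)
        · exact Or.inr rfl
        · exfalso; apply hζne
          have : ζ = ζ * (y * y) := hgg.symm.trans hyxsq
          rw [hyy, hζζ] at this
          exact this
        · exfalso; apply hζne
          have e : y * (x * ζ) = (y * x) * ζ := by group
          rw [e, hsqζ (y * x) (P.mul_mem hyP hx), hyxsq, hyy, hζζ] at hgg
          exact hgg.symm
  obtain ⟨v, hvP, hvv, hvJ⟩ := hv
  -- `K` centralises `v`
  have hKv : ∀ k ∈ K, Commute k v := by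
    intro k hk
    have hkN := hKP hk
    have hodd : Odd (orderOf k) := by
      have h1 : orderOf (⟨k, hk⟩ : ↥K) ∣ Nat.card ↥K := orderOf_dvd_natCard _
      rw [← Subgroup.orderOf_coe] at h1
      exact Odd.of_dvd_nat hK h1
    have hg : k * v * k⁻¹ ∈ P := (Subgroup.mem_normalizer_iff.1 hkN v).1 hvP
    have hgg : (k * v * k⁻¹) * (k * v * k⁻¹) = ζ := by
      calc (k * v * k⁻¹) * (k * v * k⁻¹) = k * (v * v) * k⁻¹ := by group
        _ = ζ := by rw [hvv, hKζ k hk]
    have hconj : k * v * k⁻¹ = v := by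
      rcases hvJ _ hg hgg with h | h
      · exact h
      · exfalso
        have h2 : (k * k) * v * (k * k)⁻¹ = v := by
          calc (k * k) * v * (k * k)⁻¹ = k * (k * v * k⁻¹) * k⁻¹ := by group
            _ = k * (v * ζ) * k⁻¹ := by rw [h]
            _ = (k * v * k⁻¹) * (k * ζ * k⁻¹) := by group
            _ = v * ζ * ζ := by rw [h, hKζ k hk]
            _ = v := by rw [mul_assoc, hζζ, mul_one]
        have h3 : Commute (k * k) v := by
          show (k * k) * v = v * (k * k)
          calc (k * k) * v = ((k * k) * v * (k * k)⁻¹) * (k * k) := by group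
            _ = v * (k * k) := by rw [h2]
        have h4 : Commute k v := E3_aux_odd hodd h3
        have h5 : k * v * k⁻¹ = v := by
          have : k * v = v * k := h4
          rw [this]; group
        rw [h5] at h
        apply hζne
        have : v * 1 = v * ζ := by rw [mul_one]; exact h
        exact (mul_left_cancel this).symm
    show k * v = v * k
    calc k * v = (k * v * k⁻¹) * k := by group
      _ = v * k := by rw [hconj]
  -- `[P,K]` centralises `v`
  have hle : ⁅P, K⁆ ≤ centralizer ({v} : Set S) := by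
    rw [Subgroup.commutator_le]
    intro g hg k hk
    rw [Subgroup.mem_centralizer_singleton_iff, commutatorElement_def]
    have hkv : Commute k v := hKv k hk
    have hginv : g⁻¹ ∈ P := P.inv_mem hg
    have hc : g⁻¹ * v * g * v⁻¹ ∈ Zc P := by
      have := hder g⁻¹ hginv v hvP
      rwa [inv_inv] at this
    have hkc : Commute k (g⁻¹ * v * g * v⁻¹) := by
      rcases hZel _ hc with h | h
      · rw [h]; exact Commute.one_right k
      · rw [h]
        show k * ζ = ζ * k
        calc k * ζ = (k * ζ * k⁻¹) * k := by group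
          _ = ζ * k := by rw [hKζ k hk]
    have hkw : Commute k (g⁻¹ * v * g) := by
      have : g⁻¹ * v * g = (g⁻¹ * v * g * v⁻¹) * v := by group
      rw [this]
      exact hkc.mul_right hkv
    have h1 : Commute (g * k * g⁻¹) v := by
      have h2 : Commute (g * k * g⁻¹) (g * (g⁻¹ * v * g) * g⁻¹) := (Commute.conj_iff g).2 hkw
      have e : g * (g⁻¹ * v * g) * g⁻¹ = v := by group
      rwa [e] at h2
    have h3 : Commute (g * k * g⁻¹ * k⁻¹) v := h1.mul_left hkv.inv_left
    exact h3
  rw [hPK] at hle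
  have hvZ : v ∈ Zc P := by
    rw [mem_Zc]
    refine ⟨hvP, fun y hy => ?_⟩
    exact Subgroup.mem_centralizer_singleton_iff.1 (hle hy)
  apply hζne
  rcases hZel _ hvZ with h | h
  · rw [← hvv, h, one_mul]
  · rw [← hvv, h, hζζ]

end Cfsg.Agent.S4409P
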