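import Mathlib
import Cfsg.Agent.Helper25.S5165.Defs
import Cfsg.Agent.Helper24.S5165LIBA
import Cfsg.Agent.Helper24.S5165LIBB
import Cfsg.Agent.Helper23.S5165TYPEB

set_option autoImplicit false
set_option linter.unusedSectionVars false
set_option linter.unusedVariables false

/-! S5165 piece PCYC (driver helper25; helper7): the `p`-cycles of `SQ r Q` are the `base (Pi.single i k)`. -/

namespace Cfsg.Agent.S5165P

open Equiv

section chapB

variable {p : ℕ} [Fact p.Prime] {I : Type} [Fintype I] [DecidableEq I] {r : ℕ}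

namespace PCYC

/-- the points of a block -/
def blk (p : ℕ) [Fact p.Prime] (r : ℕ) (i : I) : Finset (X p I r) :=
  (Finset.univ : Finset (ZMod p)).map ⟨fun x => Sum.inl (i, x), fun x y h => by
    have := Sum.inl_injective h
    exact (Prod.mk.injEq _ _ _ _ ▸ this).2⟩

theorem card_blk (i : I) : (blk p r i).card = p := by
  unfold blk
  rw [Finset.card_map, Finset.card_univ, ZMod.card]

theorem mem_blk (i : I) (z : X p I r) : z ∈ blk p r i ↔ ∃ x : ZMod p, z = Sum.inl (i, x) := by
  unfold blk
  simp only [Finset.mem_map, Finset.mem_univ, true_and, Function.Embedding.coeFn_mk]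
  constructor
  · rintro ⟨x, rfl⟩; exact ⟨x, rfl⟩
  · rintro ⟨x, rfl⟩; exact ⟨x, rfl⟩

theorem disjoint_blk {i j : I} (h : i ≠ j) : Disjoint (blk p r i) (blk p r j) := by
  rw [Finset.disjoint_left]
  intro z hz hz'
  obtain ⟨x, rfl⟩ := (mem_blk i z).1 hz
  obtain ⟨y, hy⟩ := (mem_blk j _).1 hz'
  have := Sum.inl_injective hy
  exact h (Prod.mk.injEq _ _ _ _ ▸ this).1

end PCYC

theorem PCYC.eq_base_single (Q : Subgroup (Perm I)) (g : Perm (X p I r)) (hg : g ∈ SQ r Q)
    (hc : g.cycleType = {p}) : ∃ (i : I) (k : ZMod p), k ≠ 0 ∧ g = base (Pi.single i k) := by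
  have hp : p.Prime := Fact.out
  obtain ⟨q, hq, f, hgl, hgr⟩ := LIBB.SQ_apply_inl Q hg
  have hsupp : g.support.card = p := by
    rw [← Equiv.Perm.sum_cycleType, hc, Multiset.sum_singleton]
  -- `q = 1`
  have hq1 : ∀ i, q i = i := by
    intro i
    by_contra hi
    have hi' : q (q i) ≠ q i := fun h => hi (q.injective h)
    have h1 : PCYC.blk p r i ⊆ g.support := by
      intro z hz
      obtain ⟨x, rfl⟩ := (PCYC.mem_blk i z).1 hz
      rw [Equiv.Perm.mem_support, hgl]
      intro h
      have := Sum.inl_injective h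
      exact hi (Prod.mk.injEq _ _ _ _ ▸ this).1
    have h2 : PCYC.blk p r (q i) ⊆ g.support := by
      intro z hz
      obtain ⟨x, rfl⟩ := (PCYC.mem_blk (q i) z).1 hz
      rw [Equiv.Perm.mem_support, hgl]
      intro h
      have := Sum.inl_injective h
      exact hi' (Prod.mk.injEq _ _ _ _ ▸ this).1
    have h3 := Finset.card_le_card (Finset.union_subset h1 h2)
    rw [Finset.card_union_of_disjoint (PCYC.disjoint_blk (Ne.symm hi)), PCYC.card_blk,
      PCYC.card_blk, hsupp] at h3
    have := hp.pos
    omega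
  -- `g = base f`
  have hgf : g = base f := by
    ext z
    rcases z with ⟨i, x⟩ | k
    · rw [hgl, hq1, base_inl]
    · rw [hgr, base_inr]
  have hcard : (Finset.univ.filter (fun i => f i ≠ 0)).card = 1 := by
    have h1 := TYPEB.cycleType_base (r := r) f
    rw [← hgf, hc] at h1
    have h2 := congrArg Multiset.card h1
    rw [Multiset.card_singleton, Multiset.card_replicate] at h2
    exact h2.symm
  obtain ⟨i, hi⟩ := Finset.card_eq_one.1 hcard
  have hfi : f i ≠ 0 := by
    have : i ∈ Finset.univ.filter (fun i => f i ≠ 0) := by rw [hi]; exact Finset.mem_singleton_self _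
    exact (Finset.mem_filter.1 this).2
  refine ⟨i, f i, hfi, ?_⟩
  rw [hgf]
  congr 1
  funext j
  by_cases hj : j = i
  · subst hj; rw [Pi.single_eq_same]
  · rw [Pi.single_eq_of_ne hj]
    by_contra h
    have : j ∈ Finset.univ.filter (fun i => f i ≠ 0) := Finset.mem_filter.2 ⟨Finset.mem_univ _, h⟩
    rw [hi, Finset.mem_singleton] at this
    exact hj this

end chapB

end Cfsg.Agent.S5165P
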