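import Mathlib
import Cfsg.Prelude.Def_Characters
import Cfsg.Agent.Helper12.LSLDefs
import Cfsg.Agent.Helper12.SLTrans
import Cfsg.Agent.Helper2.Transvec
import Cfsg.Agent.Lead.AISLPSL

/-!
# S2332, piece PERFV: the stabiliser of a nonzero vector in `SL_m(q)` is perfect
-/

set_option autoImplicit false

namespace Cfsg.Agent.Helper12.LSL

open Matrix Cfsg

variable {F : Type*} [Field F] {m : ℕ}

/-- the first basis vector in block coordinates -/
def perfvE (k : ℕ) (F : Type*) [Field F] : Unit ⊕ Fin k → F := Sum.elim 1 0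

theorem perfvE_inl (k : ℕ) : perfvE k F ∘ Sum.inl = 1 := rfl

theorem perfvE_inr (k : ℕ) : perfvE k F ∘ Sum.inr = 0 := rfl

/-- the stabiliser of the first basis vector in `SL_{k+1}` (block coordinates) -/
def perfvP (k : ℕ) (F : Type*) [Field F] : Subgroup (GG k F) where
  carrier := {g | (g : Matrix (Unit ⊕ Fin k) (Unit ⊕ Fin k) F) *ᵥ perfvE k F = perfvE k F}
  one_mem' := by
    show ((1 : GG k F) : Matrix (Unit ⊕ Fin k) (Unit ⊕ Fin k) F) *ᵥ perfvE k F = perfvE k F
    rw [Matrix.SpecialLinearGroup.coe_one, one_mulVec]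
  mul_mem' := by
    intro a b ha hb
    show ((a * b : GG k F) : Matrix (Unit ⊕ Fin k) (Unit ⊕ Fin k) F) *ᵥ perfvE k F = perfvE k F
    have ha : (a : Matrix (Unit ⊕ Fin k) (Unit ⊕ Fin k) F) *ᵥ perfvE k F = perfvE k F := ha
    have hb : (b : Matrix (Unit ⊕ Fin k) (Unit ⊕ Fin k) F) *ᵥ perfvE k F = perfvE k F := hb
    rw [Matrix.SpecialLinearGroup.coe_mul, ← mulVec_mulVec, hb, ha]
  inv_mem' := by
    intro a ha
    show ((a⁻¹ : GG k F) : Matrix (Unit ⊕ Fin k) (Unit ⊕ Fin k) F) *ᵥ perfvE k F = perfvE k F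
    have ha : (a : Matrix (Unit ⊕ Fin k) (Unit ⊕ Fin k) F) *ᵥ perfvE k F = perfvE k F := ha
    conv_lhs => rw [← ha]
    rw [mulVec_mulVec, ← Matrix.SpecialLinearGroup.coe_mul, inv_mul_cancel,
      Matrix.SpecialLinearGroup.coe_one, one_mulVec]

theorem mem_perfvP {k : ℕ} (g : GG k F) :
    g ∈ perfvP k F ↔ (g : Matrix (Unit ⊕ Fin k) (Unit ⊕ Fin k) F) *ᵥ perfvE k F = perfvE k F :=
  Iff.rfl

theorem perfv_lev_mem {k : ℕ} (B : MM k F) : lev B ∈ perfvP k F := by
  rw [mem_perfvP, lev_val, fromBlocks_mulVec, perfvE_inl, perfvE_inr]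
  simp only [one_mulVec, mulVec_zero, zero_mulVec, add_zero]
  rfl

theorem perfv_uQ_mem {k : ℕ} (r : Fin k → F) : uQ r ∈ perfvP k F := by
  rw [mem_perfvP, uQ_val, fromBlocks_mulVec, perfvE_inl, perfvE_inr]
  simp only [one_mulVec, mulVec_zero, zero_mulVec, add_zero]
  rfl

/-- every element of the stabiliser is `lev B * uQ r` -/
theorem perfv_decomp {k : ℕ} (g : GG k F) (hg : g ∈ perfvP k F) :
    ∃ (B : MM k F) (r : Fin k → F), g = lev B * uQ r := by
  rw [mem_perfvP] at hg
  obtain ⟨M, hM⟩ : ∃ M : Matrix (Unit ⊕ Fin k) (Unit ⊕ Fin k) F, M = (g : Matrix _ _ F) := ⟨_, rfl⟩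
  have hg' : M *ᵥ perfvE k F = perfvE k F := by rw [hM]; exact hg
  have hblk : M = fromBlocks M.toBlocks₁₁ M.toBlocks₁₂ M.toBlocks₂₁ M.toBlocks₂₂ :=
    (fromBlocks_toBlocks M).symm
  rw [hblk, fromBlocks_mulVec, perfvE_inl, perfvE_inr] at hg'
  simp only [mulVec_zero, add_zero] at hg'
  have h11 : M.toBlocks₁₁ = 1 := by
    ext i j
    have := congrFun hg' (Sum.inl i)
    simp [perfvE, mulVec, dotProduct] at this
    have hij : i = j := Subsingleton.elim _ _
    subst hij
    rw [one_apply_eq]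
    exact this
  have h21 : M.toBlocks₂₁ = 0 := by
    ext i j
    have := congrFun hg' (Sum.inr i)
    simp [perfvE, mulVec, dotProduct] at this
    rw [Matrix.zero_apply]
    exact this
  have hdet : M.toBlocks₂₂.det = 1 := by
    have h : M.det = 1 := by rw [hM]; exact g.2
    rw [hblk, h21, det_fromBlocks_zero₂₁, h11, det_one, one_mul] at h
    exact h
  obtain ⟨B, hB⟩ : ∃ B : MM k F, (B : Matrix (Fin k) (Fin k) F) = M.toBlocks₂₂ :=
    ⟨⟨_, hdet⟩, rfl⟩
  refine ⟨B, fun j => M.toBlocks₁₂ () j, ?_⟩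
  apply sl_ext
  rw [Matrix.SpecialLinearGroup.coe_mul, lev_val, uQ_val, fromBlocks_multiply, ← hM, hB]
  conv_lhs => rw [hblk, h11, h21]
  congr 1
  · simp
  · ext i j
    simp
  · simp
  · simp

open scoped commutatorElement in
/-- `uQ (c e_j)` is a commutator of elements of the stabiliser -/
theorem perfv_uQ_single_mem {k : ℕ} (hk : 2 ≤ k) (j : Fin k) (c : F) :
    uQ (Pi.single j c) ∈ ⁅perfvP k F, perfvP k F⁆ := by
  obtain ⟨i, hij⟩ : ∃ i : Fin k, i ≠ j := by
    by_cases hj : j = ⟨0, by omega⟩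
    · exact ⟨⟨1, by omega⟩, by rw [hj]; intro h; simpa using congrArg Fin.val h⟩
    · exact ⟨⟨0, by omega⟩, fun h => hj h.symm⟩
  obtain ⟨A, hA⟩ : ∃ A : MM k F, (A : Matrix (Fin k) (Fin k) F) = transvection i j (-1) :=
    ⟨⟨_, det_transvection_of_ne i j hij (-1)⟩, rfl⟩
  obtain ⟨A', hA'⟩ : ∃ A' : MM k F, (A' : Matrix (Fin k) (Fin k) F) = transvection i j 1 :=
    ⟨⟨_, det_transvection_of_ne i j hij 1⟩, rfl⟩
  have hinv : A⁻¹ = A' := by
    rw [inv_eq_iff_mul_eq_one]
    apply sl_ext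
    rw [Matrix.SpecialLinearGroup.coe_mul, hA, hA', transvection_mul_transvection_same i j hij,
      neg_add_cancel, transvection_zero, Matrix.SpecialLinearGroup.coe_one]
  have hcomm : ⁅lev A, uQ (Pi.single i c)⁆ = uQ (Pi.single j c) := by
    rw [commutatorElement_def, lev_conj_uQ, hinv, hA', uQ_inv, uQ_mul]
    congr 1
    rw [single_vecMul]
    funext l
    simp only [Pi.add_apply, Pi.smul_apply, Pi.neg_apply, Matrix.row_apply, transvection,
      Matrix.add_apply, smul_eq_mul, Matrix.single_apply, Matrix.one_apply, Pi.single_apply]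
    by_cases hl : l = j
    · subst hl
      simp [hij, Ne.symm hij]
    · by_cases hli : l = i
      · subst hli
        have h2 : ¬ j = l := fun h => hl h.symm
        simp [hl, h2]
      · have h1 : ¬ i = l := fun h => hli h.symm
        have h2 : ¬ j = l := fun h => hl h.symm
        simp [hl, hli, h1, h2]
  rw [← hcomm]
  exact Subgroup.commutator_mem_commutator (perfv_lev_mem A) (perfv_uQ_mem _)

/-- the stabiliser of the first basis vector is perfect when `SL_k` is -/
theorem perfv_perfect {k : ℕ} (hk : 2 ≤ k) (hperf : commutator (MM k F) = ⊤) :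
    ⁅perfvP k F, perfvP k F⁆ = perfvP k F := by
  apply le_antisymm
  · rw [Subgroup.commutator_le]
    intro g1 h1 g2 h2
    rw [commutatorElement_def]
    exact (perfvP k F).mul_mem ((perfvP k F).mul_mem ((perfvP k F).mul_mem h1 h2)
      ((perfvP k F).inv_mem h1)) ((perfvP k F).inv_mem h2)
  · intro g hg
    obtain ⟨B, r, rfl⟩ := perfv_decomp g hg
    apply Subgroup.mul_mem
    · have hB : B ∈ ⁅(⊤ : Subgroup (MM k F)), (⊤ : Subgroup (MM k F))⁆ := by
        rw [← commutator_def, hperf]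
        trivial
      have h := Subgroup.mem_map_of_mem (levhom : MM k F →* GG k F) hB
      rw [Subgroup.map_commutator] at h
      have hle : Subgroup.map (levhom : MM k F →* GG k F) (⊤ : Subgroup (MM k F)) ≤ perfvP k F := by
        rintro _ ⟨A, _, rfl⟩
        exact perfv_lev_mem A
      exact Subgroup.commutator_mono hle hle h
    · -- the row group
      let S : AddSubgroup (Fin k → F) :=
        { carrier := {r | uQ r ∈ ⁅perfvP k F, perfvP k F⁆}
          zero_mem' := by
            show uQ (0 : Fin k → F) ∈ ⁅perfvP k F, perfvP k F⁆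
            rw [uQ_zero]
            exact Subgroup.one_mem _
          add_mem' := by
            intro a b ha hb
            show uQ (a + b) ∈ ⁅perfvP k F, perfvP k F⁆
            rw [← uQ_mul]
            exact Subgroup.mul_mem _ ha hb
          neg_mem' := by
            intro a ha
            show uQ (-a) ∈ ⁅perfvP k F, perfvP k F⁆
            rw [← uQ_inv]
            exact Subgroup.inv_mem _ ha }
      have hr : r ∈ S := by
        rw [← Finset.univ_sum_single r]
        apply AddSubgroup.sum_mem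
        intro j _
        exact perfv_uQ_single_mem hk j (r j)
      exact hr

/-- perfect subgroups have perfect images -/
theorem perfv_map_perfect {G G' : Type*} [Group G] [Group G'] (f : G →* G') (H : Subgroup G)
    (h : ⁅H, H⁆ = H) : ⁅H.map f, H.map f⁆ = H.map f := by
  rw [← Subgroup.map_commutator, h]

/-- the index equivalence `Unit ⊕ Fin k ≃ Fin (k + 1)` -/
def perfvEquiv (k : ℕ) : Unit ⊕ Fin k ≃ Fin (k + 1) where
  toFun := Sum.elim (fun _ => 0) Fin.succ
  invFun := Fin.cases (Sum.inl ()) Sum.inr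
  left_inv := by
    rintro (_ | i)
    · rfl
    · simp
  right_inv := by
    intro i
    refine Fin.cases ?_ ?_ i
    · rfl
    · intro j
      simp

theorem perfvE_eq (k : ℕ) :
    perfvE k F = (Pi.single 0 1 : Fin (k + 1) → F) ∘ perfvEquiv k := by
  funext i
  rcases i with i | i
  · show (1 : F) = (Pi.single 0 1 : Fin (k + 1) → F) 0
    rw [Pi.single_eq_same]
  · show (0 : F) = (Pi.single 0 1 : Fin (k + 1) → F) i.succ
    rw [Pi.single_eq_of_ne (Fin.succ_ne_zero i)]

theorem perfv_slRe_val {k : ℕ} (g : GG k F) :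
    ((slRe F (perfvEquiv k) g : MM (k + 1) F) : Matrix (Fin (k + 1)) (Fin (k + 1)) F) =
      Matrix.reindex (perfvEquiv k) (perfvEquiv k) (g : Matrix (Unit ⊕ Fin k) (Unit ⊕ Fin k) F) :=
  rfl

theorem perfv_slRe_mem {k : ℕ} (g : GG k F) :
    slRe F (perfvEquiv k) g ∈ stabV (Pi.single 0 1 : Fin (k + 1) → F) ↔ g ∈ perfvP k F := by
  rw [mem_perfvP]
  show ((slRe F (perfvEquiv k) g : MM (k + 1) F) : Matrix (Fin (k + 1)) (Fin (k + 1)) F) *ᵥ
    (Pi.single 0 1 : Fin (k + 1) → F) = Pi.single 0 1 ↔ _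
  rw [perfv_slRe_val, Matrix.reindex_apply, Matrix.submatrix_mulVec_equiv, Equiv.symm_symm,
    ← perfvE_eq]
  constructor
  · intro h
    have := congrArg (fun w => w ∘ perfvEquiv k) h
    simp only [Function.comp_assoc, Equiv.symm_comp_self, Function.comp_id] at this
    rw [this, perfvE_eq]
  · intro h
    rw [h, perfvE_eq, Function.comp_assoc, Equiv.self_comp_symm, Function.comp_id]

theorem perfv_stab_e0 {k : ℕ} :
    stabV (Pi.single 0 1 : Fin (k + 1) → F) =
      (perfvP k F).map (slRe F (perfvEquiv k)).toMonoidHom := by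
  ext A
  constructor
  · intro hA
    refine ⟨(slRe F (perfvEquiv k)).symm A, ?_, ?_⟩
    · rw [SetLike.mem_coe, ← perfv_slRe_mem, MulEquiv.apply_symm_apply]
      exact hA
    · exact MulEquiv.apply_symm_apply _ A
  · rintro ⟨g, hg, rfl⟩
    exact (perfv_slRe_mem g).mpr hg

/-! ### PERFV -/
theorem commutator_stabV [Fintype F] (hm : 3 ≤ m) (hq : m = 3 → 4 ≤ Fintype.card F)
    (v : Fin m → F) (hv : v ≠ 0) : ⁅stabV v, stabV v⁆ = stabV v := by
  obtain ⟨k, rfl⟩ : ∃ k, m = k + 1 := ⟨m - 1, by omega⟩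
  have hperf : commutator (MM k F) = ⊤ := by
    by_cases hk : k = 2
    · subst hk
      exact Cfsg.Agent.Lead.AI.sl2_commutator_eq_top (hq rfl)
    · exact Cfsg.Agent.Helper2.SL_commutator_eq_top (by rw [Fintype.card_fin]; omega)
  have h0 : ⁅stabV (Pi.single 0 1 : Fin (k + 1) → F), stabV (Pi.single 0 1 : Fin (k + 1) → F)⁆ =
      stabV (Pi.single 0 1 : Fin (k + 1) → F) := by
    rw [perfv_stab_e0]
    exact perfv_map_perfect _ _ (perfv_perfect (by omega) hperf)
  obtain ⟨g0, hg0⟩ : ∃ g0 : MM (k + 1) F,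
      (g0 : Matrix (Fin (k + 1)) (Fin (k + 1)) F) *ᵥ (Pi.single 0 1 : Fin (k + 1) → F) = v := by
    have hli : LinearIndependent F (fun _ : Fin 1 => (Pi.single 0 1 : Fin (k + 1) → F)) := by
      rw [linearIndependent_unique_iff]
      intro h
      have := congrFun h 0
      simp at this
    have hli' : LinearIndependent F (fun _ : Fin 1 => v) := by
      rw [linearIndependent_unique_iff]
      exact hv
    obtain ⟨g, hg⟩ := Cfsg.Agent.Helper12.exists_sl_map_family (F := F) (n := k + 1)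
      (k := 1) (by omega) _ _ hli hli'
    exact ⟨g, hg 0⟩
  have hconj : stabV v =
      (stabV (Pi.single 0 1 : Fin (k + 1) → F)).map (MulAut.conj g0).toMonoidHom := by
    ext A
    constructor
    · intro hA
      refine ⟨g0⁻¹ * A * g0, ?_, ?_⟩
      · show ((g0⁻¹ * A * g0 : MM (k + 1) F) : Matrix (Fin (k + 1)) (Fin (k + 1)) F) *ᵥ
          (Pi.single 0 1 : Fin (k + 1) → F) = Pi.single 0 1
        have hA' : (A : Matrix (Fin (k + 1)) (Fin (k + 1)) F) *ᵥ v = v := hA
        rw [Matrix.SpecialLinearGroup.coe_mul, Matrix.SpecialLinearGroup.coe_mul, ← mulVec_mulVec,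
          ← mulVec_mulVec, hg0, hA', ← hg0, mulVec_mulVec, ← Matrix.SpecialLinearGroup.coe_mul,
          inv_mul_cancel, Matrix.SpecialLinearGroup.coe_one, one_mulVec]
      · show g0 * (g0⁻¹ * A * g0) * g0⁻¹ = A
        group
    · rintro ⟨B, hB, rfl⟩
      have hB' : (B : Matrix (Fin (k + 1)) (Fin (k + 1)) F) *ᵥ
          (Pi.single 0 1 : Fin (k + 1) → F) = Pi.single 0 1 := hB
      show ((g0 * B * g0⁻¹ : MM (k + 1) F) : Matrix (Fin (k + 1)) (Fin (k + 1)) F) *ᵥ v = v
      rw [Matrix.SpecialLinearGroup.coe_mul, Matrix.SpecialLinearGroup.coe_mul, ← mulVec_mulVec,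
        ← mulVec_mulVec]
      have hinv : ((g0⁻¹ : MM (k + 1) F) : Matrix (Fin (k + 1)) (Fin (k + 1)) F) *ᵥ v =
          Pi.single 0 1 := by
        rw [← hg0, mulVec_mulVec, ← Matrix.SpecialLinearGroup.coe_mul, inv_mul_cancel,
          Matrix.SpecialLinearGroup.coe_one, one_mulVec]
      rw [hinv, hB', hg0]
  rw [hconj]
  exact perfv_map_perfect _ _ h0

end Cfsg.Agent.Helper12.LSL
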