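import Mathlib
import Cfsg.Prelude.Def_Characters
import Cfsg.Agent.Helper12.LSLDefs

/-!
# S2332, piece TCOUNT: the number of transvections of `SL_n(q)`
-/

set_option autoImplicit false

namespace Cfsg.Agent.Helper12.LSL

open Matrix Cfsg

variable {F : Type*} [Field F] {m : ℕ}

/-- two rank one matrices `x φᵀ = x' φ'ᵀ` (all vectors nonzero) differ by a scalar -/
theorem tcount_scalar {ι : Type*} [Fintype ι] [DecidableEq ι] (x φ x' φ' : ι → F)
    (hx : x ≠ 0) (hφ : φ ≠ 0) (h : vecMulVec x φ = vecMulVec x' φ') :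
    ∃ s : Fˣ, x = (s : F) • x' ∧ φ = ((s⁻¹ : Fˣ) : F) • φ' := by
  obtain ⟨i0, hi0⟩ : ∃ i, x i ≠ 0 := by
    by_contra hcon
    push Not at hcon
    exact hx (funext hcon)
  obtain ⟨j0, hj0⟩ : ∃ j, φ j ≠ 0 := by
    by_contra hcon
    push Not at hcon
    exact hφ (funext hcon)
  have hij : ∀ i j, x i * φ j = x' i * φ' j := by
    intro i j
    have := congrFun (congrFun h i) j
    simpa [vecMulVec_apply] using this
  have h00 : x' i0 * φ' j0 ≠ 0 := by
    rw [← hij]
    exact mul_ne_zero hi0 hj0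
  have hx'0 : x' i0 ≠ 0 := left_ne_zero_of_mul h00
  have hφ'0 : φ' j0 ≠ 0 := right_ne_zero_of_mul h00
  have hs : φ' j0 / φ j0 ≠ 0 := div_ne_zero hφ'0 hj0
  refine ⟨Units.mk0 _ hs, ?_, ?_⟩
  · funext i
    rw [Pi.smul_apply, smul_eq_mul, Units.val_mk0]
    have := hij i j0
    field_simp
    linear_combination this
  · funext j
    rw [Pi.smul_apply, smul_eq_mul, Units.val_inv_eq_inv_val, Units.val_mk0, inv_div]
    have h1 := hij i0 j
    have h2 := hij i0 j0
    field_simp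
    apply mul_left_cancel₀ hx'0
    apply mul_left_cancel₀ hi0
    linear_combination (x' i0 * φ' j0) * h1 - (x' i0 * φ' j) * h2
  
open Classical in
/-- the kernel of the nonzero functional `φ ↦ φ ⬝ᵥ x` has `q^(n-1)` elements -/
theorem tcount_ker_card [Fintype F] {ι : Type*} [Fintype ι] [DecidableEq ι] (x : ι → F)
    (hx : x ≠ 0) :
    (Finset.univ.filter (fun φ : ι → F => φ ⬝ᵥ x = 0)).card * Fintype.card F =
      Fintype.card F ^ Fintype.card ι := by
  obtain ⟨i0, hi0⟩ : ∃ i, x i ≠ 0 := by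
    by_contra hcon
    push Not at hcon
    exact hx (funext hcon)
  obtain ⟨e, he⟩ : ∃ e : ι → F, e = Pi.single i0 (x i0)⁻¹ := ⟨_, rfl⟩
  have hex : e ⬝ᵥ x = 1 := by
    rw [he, single_dotProduct, inv_mul_cancel₀ hi0]
  have h1 : (Finset.univ.filter (fun φ : ι → F => φ ⬝ᵥ x = 0)).card * Fintype.card F =
      ((Finset.univ.filter (fun φ : ι → F => φ ⬝ᵥ x = 0)) ×ˢ (Finset.univ : Finset F)).card := by
    rw [Finset.card_product, Finset.card_univ]
  have h2 : Fintype.card F ^ Fintype.card ι = (Finset.univ : Finset (ι → F)).card := by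
    rw [Finset.card_univ, Fintype.card_fun]
  rw [h1, h2]
  apply Finset.card_bij (fun (p : (ι → F) × F) _ => p.1 + p.2 • e)
  · intro p _
    exact Finset.mem_univ _
  · intro p hp p' hp' hpp
    have hp1 := (Finset.mem_filter.mp (Finset.mem_product.mp hp).1).2
    have hp1' := (Finset.mem_filter.mp (Finset.mem_product.mp hp').1).2
    have hd := congrArg (fun w => w ⬝ᵥ x) hpp
    simp only [add_dotProduct, smul_dotProduct, hp1, hp1', hex, smul_eq_mul, mul_one,
      zero_add] at hd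
    rw [hd] at hpp
    exact Prod.ext (add_right_cancel hpp) hd
  · intro ψ _
    refine ⟨(ψ - (ψ ⬝ᵥ x) • e, ψ ⬝ᵥ x), ?_, ?_⟩
    · rw [Finset.mem_product]
      refine ⟨?_, Finset.mem_univ _⟩
      rw [Finset.mem_filter]
      refine ⟨Finset.mem_univ _, ?_⟩
      rw [sub_dotProduct, smul_dotProduct, hex, smul_eq_mul, mul_one, sub_self]
    · simp

open Classical in
/-- the number of nonzero `φ` with `φ ⬝ᵥ x = 0` -/
theorem tcount_ker_card' [Fintype F] {ι : Type*} [Fintype ι] [DecidableEq ι]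
    (hι : 1 ≤ Fintype.card ι) (x : ι → F) (hx : x ≠ 0) :
    (Finset.univ.filter (fun φ : ι → F => φ ≠ 0 ∧ φ ⬝ᵥ x = 0)).card =
      Fintype.card F ^ (Fintype.card ι - 1) - 1 := by
  have hq : 0 < Fintype.card F := Fintype.card_pos
  have h := tcount_ker_card x hx
  have hpow : Fintype.card F ^ Fintype.card ι =
      Fintype.card F ^ (Fintype.card ι - 1) * Fintype.card F := by
    rw [← pow_succ]
    congr 1
    omega
  rw [hpow] at h
  have hK := Nat.eq_of_mul_eq_mul_right hq h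
  have hset : Finset.univ.filter (fun φ : ι → F => φ ≠ 0 ∧ φ ⬝ᵥ x = 0) =
      (Finset.univ.filter (fun φ : ι → F => φ ⬝ᵥ x = 0)).erase 0 := by
    ext φ
    rw [Finset.mem_erase, Finset.mem_filter, Finset.mem_filter]
    tauto
  rw [hset, Finset.card_erase_of_mem, hK]
  rw [Finset.mem_filter]
  exact ⟨Finset.mem_univ _, zero_dotProduct x⟩

/-- the set of pairs `(x, φ)` parametrising the transvections -/
def tcountS (ι : Type*) [Fintype ι] (F : Type*) [Field F] : Type _ :=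
  {p : (ι → F) × (ι → F) // p.1 ≠ 0 ∧ p.2 ≠ 0 ∧ p.2 ⬝ᵥ p.1 = 0}

open Classical in
theorem tcount_card_S [Fintype F] (ι : Type*) [Fintype ι] [DecidableEq ι]
    (hι : 1 ≤ Fintype.card ι) :
    Nat.card (tcountS ι F) =
      (Fintype.card F ^ Fintype.card ι - 1) * (Fintype.card F ^ (Fintype.card ι - 1) - 1) := by
  unfold tcountS
  rw [Nat.card_eq_fintype_card, Fintype.card_subtype]
  have hset : (Finset.univ.filter (fun p : (ι → F) × (ι → F) =>
      p.1 ≠ 0 ∧ p.2 ≠ 0 ∧ p.2 ⬝ᵥ p.1 = 0)) =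
      ((Finset.univ.filter (fun x : ι → F => x ≠ 0)).sigma
        (fun x => Finset.univ.filter (fun φ : ι → F => φ ≠ 0 ∧ φ ⬝ᵥ x = 0))).map
        ⟨fun s => (s.1, s.2), by
          intro s s' h
          have h1 : s.1 = s'.1 := congrArg Prod.fst h
          have h2 : s.2 = s'.2 := congrArg Prod.snd h
          exact Sigma.ext h1 (heq_of_eq h2)⟩ := by
    ext p
    simp only [Finset.mem_filter, Finset.mem_univ, true_and, Finset.mem_map, Finset.mem_sigma,
      Sigma.exists]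
    constructor
    · rintro ⟨h1, h2, h3⟩
      exact ⟨p.1, p.2, ⟨h1, h2, h3⟩, rfl⟩
    · rintro ⟨a, b, ⟨h1, h2, h3⟩, rfl⟩
      exact ⟨h1, h2, h3⟩
  rw [hset, Finset.card_map, Finset.card_sigma]
  have hsum : ∀ x ∈ Finset.univ.filter (fun x : ι → F => x ≠ 0),
      (Finset.univ.filter (fun φ : ι → F => φ ≠ 0 ∧ φ ⬝ᵥ x = 0)).card =
        Fintype.card F ^ (Fintype.card ι - 1) - 1 := by
    intro x hx
    exact tcount_ker_card' hι x (Finset.mem_filter.mp hx).2
  rw [Finset.sum_congr rfl hsum, Finset.sum_const, smul_eq_mul]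
  congr 1
  have : Finset.univ.filter (fun x : ι → F => x ≠ 0) = (Finset.univ : Finset (ι → F)).erase 0 := by
    ext x
    simp
  rw [this, Finset.card_erase_of_mem (Finset.mem_univ _), Finset.card_univ, Fintype.card_fun]

theorem tcount_det {ι : Type*} [Fintype ι] [DecidableEq ι] (x φ : ι → F) (h : φ ⬝ᵥ x = 0) :
    (1 + vecMulVec x φ).det = 1 := by
  rw [vecMulVec_eq (ι := Unit), det_one_add_replicateCol_mul_replicateRow, h, add_zero]

theorem tcount_smul {ι : Type*} [Fintype ι] [DecidableEq ι] (x φ : ι → F) (s : Fˣ) :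
    vecMulVec ((s : F) • x) (((s⁻¹ : Fˣ) : F) • φ) = vecMulVec x φ := by
  ext i j
  simp only [vecMulVec_apply, Pi.smul_apply, smul_eq_mul]
  have : (s : F) * ((s⁻¹ : Fˣ) : F) = 1 := by
    rw [← Units.val_mul, mul_inv_cancel, Units.val_one]
  linear_combination (x i * φ j) * this

/-! ### TCOUNT -/
theorem card_tvSet [Fintype F] (ι : Type*) [Fintype ι] [DecidableEq ι]
    (hι : 2 ≤ Fintype.card ι) :
    Nat.card (tvSet ι F) * (Fintype.card F - 1) =
      (Fintype.card F ^ Fintype.card ι - 1) * (Fintype.card F ^ (Fintype.card ι - 1) - 1) := by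
  classical
  rw [← tcount_card_S ι (by omega)]
  have hunits : Fintype.card F - 1 = Nat.card Fˣ := by
    rw [Nat.card_eq_fintype_card, Fintype.card_units]
  rw [hunits, ← Nat.card_prod]
  apply Nat.card_congr
  have hrep : ∀ g : tvSet ι F, ∃ x φ : ι → F, x ≠ 0 ∧ φ ≠ 0 ∧ φ ⬝ᵥ x = 0 ∧
      g.1.1 = 1 + vecMulVec x φ := fun g => g.2
  choose X Φ hX hΦ hdot hval using hrep
  refine Equiv.ofBijective
    (fun p => ⟨((p.2 : F) • X p.1, ((p.2⁻¹ : Fˣ) : F) • Φ p.1), ?_, ?_, ?_⟩) ⟨?_, ?_⟩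
  · exact smul_ne_zero (Units.ne_zero _) (hX p.1)
  · exact smul_ne_zero (Units.ne_zero _) (hΦ p.1)
  · show (((p.2⁻¹ : Fˣ) : F) • Φ p.1) ⬝ᵥ ((p.2 : F) • X p.1) = 0
    rw [smul_dotProduct, dotProduct_smul, hdot, smul_zero, smul_zero]
  · rintro ⟨g, s⟩ ⟨g', s'⟩ h
    have h1 : (s : F) • X g = (s' : F) • X g' := congrArg (fun q => q.1.1) h
    have h2 : ((s⁻¹ : Fˣ) : F) • Φ g = ((s'⁻¹ : Fˣ) : F) • Φ g' := congrArg (fun q => q.1.2) h
    have hg : g = g' := by
      apply Subtype.ext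
      apply Subtype.ext
      rw [hval g, hval g', ← tcount_smul (X g) (Φ g) s, ← tcount_smul (X g') (Φ g') s', h1, h2]
    subst hg
    have hs : s = s' := by
      obtain ⟨i, hi⟩ : ∃ i, X g i ≠ 0 := by
        by_contra hcon
        push Not at hcon
        exact hX g (funext hcon)
      have := congrFun h1 i
      simp only [Pi.smul_apply, smul_eq_mul] at this
      exact Units.ext (mul_right_cancel₀ hi this)
    rw [hs]
  · rintro ⟨⟨x, φ⟩, hx, hφ, hd⟩
    have hx : x ≠ 0 := hx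
    have hφ : φ ≠ 0 := hφ
    have hd : φ ⬝ᵥ x = 0 := hd
    obtain ⟨g, hg⟩ : ∃ g : tvSet ι F, g.1.1 = 1 + vecMulVec x φ :=
      ⟨⟨⟨1 + vecMulVec x φ, tcount_det x φ hd⟩, x, φ, hx, hφ, hd, rfl⟩, rfl⟩
    have hvv : vecMulVec x φ = vecMulVec (X g) (Φ g) := by
      have := hval g
      rw [hg] at this
      exact add_left_cancel this
    obtain ⟨s, hs1, hs2⟩ := tcount_scalar x φ (X g) (Φ g) hx hφ hvv
    refine ⟨(g, s), ?_⟩
    apply Subtype.ext
    show ((s : F) • X g, ((s⁻¹ : Fˣ) : F) • Φ g) = (x, φ)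
    rw [← hs1, ← hs2]

end Cfsg.Agent.Helper12.LSL
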