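import Mathlib
import Cfsg.Agent.Helper7.PConstrained2
import Cfsg.Agent.Helper7.FStar

set_option autoImplicit false
set_option linter.style.haveILetI false
set_option linter.unusedSectionVars false

/-! # Centralizer of a transvection in `SL_n(2)` -/

namespace Cfsg.Agent.Helper7

open Subgroup Cfsg
open Cfsg.Agent.Helper14 (pCore_isPGroup le_pCore pCore_characteristic)
open Cfsg.Agent.Helper19 (pPrimeCore_coprime)

universe u

section abstract

variable {M : Type u} [Group M] [Finite M] {p : ℕ} [hp : Fact p.Prime]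

/-- A group with a self-centralizing normal `p`-subgroup has trivial `p'`-core. -/
theorem pPrimeCore_eq_bot_of_centralizer_le {Q : Subgroup M} (hQn : Q.Normal) (hQp : IsPGroup p Q)
    (hC : centralizer (Q : Set M) ≤ Q) : pPrimeCore p M = ⊥ := by
  have hdisj : pPrimeCore p M ⊓ Q = ⊥ := by
    apply (Subgroup.disjoint_of_coprime_natCard ?_).eq_bot
    obtain ⟨k, hk⟩ := IsPGroup.iff_card.1 hQp
    rw [hk]
    exact Nat.Coprime.pow_right _ (pPrimeCore_coprime p)
  have hcomm : ⁅pPrimeCore p M, Q⁆ = ⊥ := by
    rw [eq_bot_iff, ← hdisj]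
    exact le_inf (Subgroup.commutator_le_left _ _) (Subgroup.commutator_le_right _ _)
  have h1 : pPrimeCore p M ≤ centralizer (Q : Set M) := by
    rw [← commutator_eq_bot_iff_le_centralizer]
    exact hcomm
  rw [eq_bot_iff, ← hdisj]
  exact le_inf le_rfl (h1.trans hC)

/-- A group with a self-centralizing normal `p`-subgroup has trivial layer. -/
theorem layer_eq_bot_of_centralizer_le {Q : Subgroup M} (hQn : Q.Normal) (hQp : IsPGroup p Q)
    (hC : centralizer (Q : Set M) ≤ Q) : layer M = ⊥ := by
  rw [← centralizer_fitting_le_iff_layer_eq_bot]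
  have hQF : Q ≤ fittingSubgroup M := (le_pCore p hQn hQp).trans (pCore_le_fittingSubgroup p)
  exact (centralizer_le hQF).trans (hC.trans hQF)

/-- A group with a self-centralizing normal `p`-subgroup has `F* = O_p`. -/
theorem generalizedFitting_eq_pCore_of_centralizer_le {Q : Subgroup M} (hQn : Q.Normal)
    (hQp : IsPGroup p Q) (hC : centralizer (Q : Set M) ≤ Q) :
    generalizedFittingSubgroup M = pCore p M :=
  generalizedFitting_eq_pCore_of (pPrimeCore_eq_bot_of_centralizer_le hQn hQp hC)
    (layer_eq_bot_of_centralizer_le hQn hQp hC)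

end abstract

section matrix

variable {ι : Type*} [Fintype ι] [DecidableEq ι] {R : Type*} [CommRing R]

/-- Commuting with a transvection `1 + E_{ij}`: entrywise consequences. -/
theorem entries_of_commute_transvection {i j : ι} {g : Matrix ι ι R}
    (h : g * Matrix.transvection i j 1 = Matrix.transvection i j 1 * g) :
    (∀ k, k ≠ i → g k i = 0) ∧ (∀ l, l ≠ j → g j l = 0) ∧ g i i = g j j := by
  have hE : g * Matrix.single i j (1 : R) = Matrix.single i j (1 : R) * g := by
    have h' : g + g * Matrix.single i j (1 : R) = g + Matrix.single i j (1 : R) * g := by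
      simpa [Matrix.transvection, mul_add, add_mul] using h
    exact add_left_cancel h'
  refine ⟨fun k hk => ?_, fun l hl => ?_, ?_⟩
  · have := congrFun (congrFun hE k) j
    rw [Matrix.mul_single_apply_same, Matrix.single_mul_apply_of_ne _ _ _ _ _ hk, mul_one] at this
    exact this
  · have := congrFun (congrFun hE i) l
    rw [Matrix.mul_single_apply_of_ne _ _ _ _ _ hl, Matrix.single_mul_apply_same, one_mul] at this
    exact this.symm
  · have := congrFun (congrFun hE i) j
    rw [Matrix.mul_single_apply_same, Matrix.single_mul_apply_same, one_mul, mul_one] at this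
    exact this

/-- `A` is supported on row `i` and column `j`. -/
def SuppRC (i j : ι) (A : Matrix ι ι R) : Prop := ∀ k l, k ≠ i → l ≠ j → A k l = 0

theorem SuppRC.add {i j : ι} {A B : Matrix ι ι R} (hA : SuppRC i j A) (hB : SuppRC i j B) :
    SuppRC i j (A + B) := by
  intro k l hk hl
  rw [Matrix.add_apply, hA k l hk hl, hB k l hk hl, add_zero]

theorem SuppRC.mul {i j : ι} {A B : Matrix ι ι R} (hA : SuppRC i j A) (hB : ∀ l, B j l = 0) :
    SuppRC i j (A * B) := by
  intro k l hk hl
  rw [Matrix.mul_apply]
  apply Finset.sum_eq_zero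
  intro m _
  by_cases hm : m = j
  · rw [hm, hB l, mul_zero]
  · rw [hA k m hk hm, zero_mul]

theorem SuppRC.conj {i j : ι} {A c c' : Matrix ι ι R} (hA : SuppRC i j A)
    (hc : ∀ k, k ≠ i → c k i = 0) (hc' : ∀ l, l ≠ j → c' j l = 0) :
    SuppRC i j (c * A * c') := by
  intro k l hk hl
  rw [Matrix.mul_apply]
  apply Finset.sum_eq_zero
  intro b _
  by_cases hb : b = j
  · rw [hb, hc' l hl, mul_zero]
  · have : (c * A) k b = 0 := by
      rw [Matrix.mul_apply]
      apply Finset.sum_eq_zero
      intro a _
      by_cases ha : a = i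
      · rw [ha, hc k hk, zero_mul]
      · rw [hA a b ha hb, mul_zero]
    rw [this, zero_mul]

/-- If moreover column `i` and row `j` of `A` vanish, then `A ^ 2` is supported at `(i, j)`. -/
theorem SuppRC.sq_apply {i j : ι} {A : Matrix ι ι R} (hA : SuppRC i j A)
    (hcol : ∀ k, A k i = 0) (hrow : ∀ l, A j l = 0) {k l : ι} (hkl : ¬ (k = i ∧ l = j)) :
    (A * A) k l = 0 := by
  rw [Matrix.mul_apply]
  apply Finset.sum_eq_zero
  intro m _
  by_cases hm : m = i
  · rw [hm, hcol k, zero_mul]
  by_cases hm' : m = j
  · rw [hm', hrow l, mul_zero]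
  by_cases hk : k = i
  · have hl : l ≠ j := fun hl => hkl ⟨hk, hl⟩
    rw [hA m l hm hl, mul_zero]
  · rw [hA k m hk hm', zero_mul]

theorem SuppRC.cube_eq_zero {i j : ι} {A : Matrix ι ι R} (hA : SuppRC i j A)
    (hcol : ∀ k, A k i = 0) (hrow : ∀ l, A j l = 0) : A * A * A = 0 := by
  ext k l
  rw [Matrix.mul_apply, Matrix.zero_apply]
  apply Finset.sum_eq_zero
  intro m _
  by_cases hm : m = j
  · rw [hm, hrow l, mul_zero]
  · rw [hA.sq_apply hcol hrow (fun h => hm h.2), zero_mul]

/-- In characteristic two, `1 + A` has fourth power one. -/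
theorem one_add_pow_four_of_suppRC (h2 : ∀ x : R, x + x = 0) {i j : ι} {A : Matrix ι ι R}
    (hA : SuppRC i j A) (hcol : ∀ k, A k i = 0) (hrow : ∀ l, A j l = 0) :
    (1 + A) ^ 4 = 1 := by
  have h2M : ∀ B : Matrix ι ι R, B + B = 0 := by
    intro B; ext k l; rw [Matrix.add_apply, h2, Matrix.zero_apply]
  have h3 := hA.cube_eq_zero hcol hrow
  have e1 : (1 + A) * (1 + A) = 1 + A * A := by
    have : (1 + A) * (1 + A) = 1 + (A + A) + A * A := by noncomm_ring
    rw [this, h2M, add_zero]
  have e2 : (1 + A * A) * (1 + A * A) = 1 := by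
    have : (1 + A * A) * (1 + A * A) = 1 + (A * A + A * A) + A * A * A * A := by noncomm_ring
    rw [this, h2M, h3, zero_mul, add_zero, add_zero]
  calc (1 + A) ^ 4 = ((1 + A) * (1 + A)) * ((1 + A) * (1 + A)) := by noncomm_ring
    _ = 1 := by rw [e1, e2]

end matrix

section field2

variable {F : Type*} [Field F] [Fintype F]

theorem eq_zero_or_one_of_card_two (hF : Fintype.card F = 2) (x : F) : x = 0 ∨ x = 1 := by
  have h := FiniteField.pow_card x
  rw [hF] at h
  have : x * (x - 1) = 0 := by rw [mul_sub, mul_one, ← sq, h, sub_self]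
  rcases mul_eq_zero.1 this with h | h
  · exact Or.inl h
  · exact Or.inr (sub_eq_zero.1 h)

theorem add_self_of_card_two (hF : Fintype.card F = 2) (x : F) : x + x = 0 := by
  have h11 : (1 : F) + 1 = 0 := by
    rcases eq_zero_or_one_of_card_two hF ((1 : F) + 1) with h | h
    · exact h
    · exfalso
      have : (1 : F) = 0 := by
        have := congrArg (fun y => y - 1) h
        simp at this
      exact one_ne_zero this
  rcases eq_zero_or_one_of_card_two hF x with h | h
  · rw [h, add_zero]
  · rw [h, h11]

end field2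

section SL

open Matrix

variable {F : Type*} [Field F] [Fintype F] {n : ℕ}

/-- Elements of `SL_n(2)` commuting with the transvection `1 + E_{ij}`: column `i` and row `j`
of `g - 1` vanish. -/
theorem sub_one_col_row_of_commute (hF : Fintype.card F = 2) {i j : Fin n}
    {g : Matrix (Fin n) (Fin n) F} (hdet : g.det = 1)
    (h : g * Matrix.transvection i j 1 = Matrix.transvection i j 1 * g) :
    (∀ k, (g - 1) k i = 0) ∧ (∀ l, (g - 1) j l = 0) := by
  obtain ⟨h1, h2, h3⟩ := entries_of_commute_transvection h
  have hii : g i i = 1 := by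
    rcases eq_zero_or_one_of_card_two hF (g i i) with h0 | h0
    · exfalso
      have : g.det = 0 := by
        apply Matrix.det_eq_zero_of_column_eq_zero i
        intro k
        by_cases hk : k = i
        · rw [hk, h0]
        · exact h1 k hk
      rw [hdet] at this
      exact one_ne_zero this
    · exact h0
  constructor
  · intro k
    rw [Matrix.sub_apply]
    by_cases hk : k = i
    · rw [hk, hii, Matrix.one_apply_eq, sub_self]
    · rw [h1 k hk, Matrix.one_apply_ne hk, sub_self]
  · intro l
    rw [Matrix.sub_apply]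
    by_cases hl : l = j
    · rw [hl, ← h3, hii, Matrix.one_apply_eq, sub_self]
    · rw [h2 l hl, Matrix.one_apply_ne (Ne.symm hl), sub_self]

variable (hF : Fintype.card F = 2) {i j : Fin n} (hij : i ≠ j)
  {t : Matrix.SpecialLinearGroup (Fin n) F}
  (ht : (t : Matrix (Fin n) (Fin n) F) = Matrix.transvection i j 1)

include ht in
theorem commute_coe_of_mem_centralizer {g : Matrix.SpecialLinearGroup (Fin n) F}
    (hg : g ∈ centralizer ({t} : Set (Matrix.SpecialLinearGroup (Fin n) F))) :
    (g : Matrix (Fin n) (Fin n) F) * Matrix.transvection i j 1 =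
      Matrix.transvection i j 1 * (g : Matrix (Fin n) (Fin n) F) := by
  rw [mem_centralizer_singleton_iff] at hg
  have := congrArg (fun x : Matrix.SpecialLinearGroup (Fin n) F =>
    (x : Matrix (Fin n) (Fin n) F)) hg
  simp only [Matrix.SpecialLinearGroup.coe_mul, ht] at this
  exact this

include hF ht in
theorem sub_one_col_row_of_mem_centralizer {g : Matrix.SpecialLinearGroup (Fin n) F}
    (hg : g ∈ centralizer ({t} : Set (Matrix.SpecialLinearGroup (Fin n) F))) :
    (∀ k, ((g : Matrix (Fin n) (Fin n) F) - 1) k i = 0) ∧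
      (∀ l, ((g : Matrix (Fin n) (Fin n) F) - 1) j l = 0) :=
  sub_one_col_row_of_commute hF g.det_coe (commute_coe_of_mem_centralizer ht hg)

/-- The submonoid of the centralizer of elements that are the identity off row `i` and
column `j`. -/
def transvQMonoid (i j : Fin n) (t : Matrix.SpecialLinearGroup (Fin n) F)
    (hF : Fintype.card F = 2) (ht : (t : Matrix (Fin n) (Fin n) F) = Matrix.transvection i j 1) :
    Submonoid ↥(centralizer ({t} : Set (Matrix.SpecialLinearGroup (Fin n) F))) where
  carrier := {c | SuppRC i j (((c : Matrix.SpecialLinearGroup (Fin n) F) :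
    Matrix (Fin n) (Fin n) F) - 1)}
  one_mem' := by
    intro k l _ _
    simp
  mul_mem' := by
    intro a b ha hb
    have hb2 := (sub_one_col_row_of_mem_centralizer hF ht b.2).2
    set A := ((a : Matrix.SpecialLinearGroup (Fin n) F) : Matrix (Fin n) (Fin n) F) - 1 with hA
    set B := ((b : Matrix.SpecialLinearGroup (Fin n) F) : Matrix (Fin n) (Fin n) F) - 1 with hB
    have : (((a * b : ↥(centralizer ({t} : Set (Matrix.SpecialLinearGroup (Fin n) F)))) :
        Matrix.SpecialLinearGroup (Fin n) F) : Matrix (Fin n) (Fin n) F) - 1 = A * B + A + B := by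
      rw [Subgroup.coe_mul, Matrix.SpecialLinearGroup.coe_mul, hA, hB]
      noncomm_ring
    show SuppRC i j _
    rw [this]
    exact ((SuppRC.mul ha hb2).add ha).add hb

theorem mem_transvQMonoid_iff
    {c : ↥(centralizer ({t} : Set (Matrix.SpecialLinearGroup (Fin n) F)))} :
    c ∈ transvQMonoid i j t hF ht ↔ SuppRC i j (((c : Matrix.SpecialLinearGroup (Fin n) F) :
      Matrix (Fin n) (Fin n) F) - 1) := Iff.rfl

theorem pow_four_of_mem_transvQMonoid
    {c : ↥(centralizer ({t} : Set (Matrix.SpecialLinearGroup (Fin n) F)))}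
    (hc : c ∈ transvQMonoid i j t hF ht) : c ^ 4 = 1 := by
  obtain ⟨h1, h2⟩ := sub_one_col_row_of_mem_centralizer hF ht c.2
  have := one_add_pow_four_of_suppRC (add_self_of_card_two hF) hc h1 h2
  rw [add_sub_cancel] at this
  apply Subtype.ext
  apply Matrix.SpecialLinearGroup.ext
  intro k l
  rw [Subgroup.coe_pow, Matrix.SpecialLinearGroup.coe_pow, this]
  rfl

/-- The subgroup `Q` of the centralizer of a transvection. -/
def transvQ (i j : Fin n) (t : Matrix.SpecialLinearGroup (Fin n) F)
    (hF : Fintype.card F = 2) (ht : (t : Matrix (Fin n) (Fin n) F) = Matrix.transvection i j 1) :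
    Subgroup ↥(centralizer ({t} : Set (Matrix.SpecialLinearGroup (Fin n) F))) :=
  { transvQMonoid i j t hF ht with
    inv_mem' := by
      intro c hc
      have h4 := pow_four_of_mem_transvQMonoid hF ht hc
      have : c⁻¹ = c ^ 3 := by
        rw [inv_eq_iff_mul_eq_one, ← pow_succ', h4]
      show c⁻¹ ∈ transvQMonoid i j t hF ht
      rw [this]
      exact pow_mem hc 3 }

theorem mem_transvQ_iff
    {c : ↥(centralizer ({t} : Set (Matrix.SpecialLinearGroup (Fin n) F)))} :
    c ∈ transvQ i j t hF ht ↔ SuppRC i j (((c : Matrix.SpecialLinearGroup (Fin n) F) :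
      Matrix (Fin n) (Fin n) F) - 1) := Iff.rfl

theorem transvQ_normal : (transvQ i j t hF ht).Normal := by
  constructor
  intro a ha c
  rw [mem_transvQ_iff] at ha ⊢
  have hc1 := (sub_one_col_row_of_mem_centralizer hF ht c.2).1
  have hc2 := (sub_one_col_row_of_mem_centralizer hF ht (c⁻¹).2).2
  set A := ((a : Matrix.SpecialLinearGroup (Fin n) F) : Matrix (Fin n) (Fin n) F) - 1 with hA
  have hcc : ((c : Matrix.SpecialLinearGroup (Fin n) F) : Matrix (Fin n) (Fin n) F) *
      (((c⁻¹ : ↥(centralizer ({t} : Set (Matrix.SpecialLinearGroup (Fin n) F)))) :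
        Matrix.SpecialLinearGroup (Fin n) F) : Matrix (Fin n) (Fin n) F) = 1 := by
    rw [← Matrix.SpecialLinearGroup.coe_mul, ← Subgroup.coe_mul, mul_inv_cancel]
    rfl
  have : (((c * a * c⁻¹ : ↥(centralizer ({t} : Set (Matrix.SpecialLinearGroup (Fin n) F)))) :
      Matrix.SpecialLinearGroup (Fin n) F) : Matrix (Fin n) (Fin n) F) - 1 =
      ((c : Matrix.SpecialLinearGroup (Fin n) F) : Matrix (Fin n) (Fin n) F) * A *
      (((c⁻¹ : ↥(centralizer ({t} : Set (Matrix.SpecialLinearGroup (Fin n) F)))) :
        Matrix.SpecialLinearGroup (Fin n) F) : Matrix (Fin n) (Fin n) F) := by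
    rw [Subgroup.coe_mul, Subgroup.coe_mul, Matrix.SpecialLinearGroup.coe_mul,
      Matrix.SpecialLinearGroup.coe_mul, hA, mul_sub, sub_mul, mul_one, hcc]
  rw [this]
  apply ha.conj
  · intro k hk
    have := hc1 k
    rw [Matrix.sub_apply, Matrix.one_apply_ne hk, sub_zero] at this
    exact this
  · intro l hl
    have := hc2 l
    rw [Matrix.sub_apply, Matrix.one_apply_ne (Ne.symm hl), sub_zero] at this
    exact this

theorem transvQ_isPGroup : IsPGroup 2 (transvQ i j t hF ht) := by
  intro c
  refine ⟨2, ?_⟩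
  apply Subtype.ext
  rw [Subgroup.coe_pow]
  exact pow_four_of_mem_transvQMonoid hF ht c.2

include hij in
theorem transvQ_centralizer_le :
    centralizer ((transvQ i j t hF ht : Subgroup _) :
      Set ↥(centralizer ({t} : Set (Matrix.SpecialLinearGroup (Fin n) F)))) ≤ transvQ i j t hF ht := by
  intro c hc
  rw [mem_transvQ_iff]
  have hc1 := (sub_one_col_row_of_mem_centralizer hF ht c.2).1
  have hii : ((c : Matrix.SpecialLinearGroup (Fin n) F) : Matrix (Fin n) (Fin n) F) i i = 1 := by
    have := hc1 i
    rw [Matrix.sub_apply, Matrix.one_apply_eq, sub_eq_zero] at this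
    exact this
  -- rows `l ≠ i` of `c`
  have hrow : ∀ l, l ≠ i → (∀ m, m ≠ l →
      ((c : Matrix.SpecialLinearGroup (Fin n) F) : Matrix (Fin n) (Fin n) F) l m = 0) ∧
      ((c : Matrix.SpecialLinearGroup (Fin n) F) : Matrix (Fin n) (Fin n) F) l l = 1 := by
    intro l hl
    set τ : Matrix.SpecialLinearGroup (Fin n) F :=
      ⟨Matrix.transvection i l 1, Matrix.det_transvection_of_ne i l (Ne.symm hl) 1⟩ with hτ
    have hτc : τ ∈ centralizer ({t} : Set (Matrix.SpecialLinearGroup (Fin n) F)) := by
      rw [mem_centralizer_singleton_iff]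
      apply Matrix.SpecialLinearGroup.ext
      intro a b
      rw [Matrix.SpecialLinearGroup.coe_mul, Matrix.SpecialLinearGroup.coe_mul, ht]
      have e1 : Matrix.single i l (1 : F) * Matrix.single i j (1 : F) = 0 :=
        Matrix.single_mul_single_of_ne _ _ _ _ hl _
      have e2 : Matrix.single i j (1 : F) * Matrix.single i l (1 : F) = 0 :=
        Matrix.single_mul_single_of_ne _ _ _ _ (Ne.symm hij) _
      have e3 : (Matrix.transvection i l (1 : F) * Matrix.transvection i j 1 :
          Matrix (Fin n) (Fin n) F) = Matrix.transvection i j 1 * Matrix.transvection i l (1 : F) := by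
        simp only [Matrix.transvection, mul_add, add_mul, mul_one, one_mul, e1, e2]
        abel
      exact congrFun (congrFun e3 a) b
    have hτQ : (⟨τ, hτc⟩ : ↥(centralizer ({t} : Set (Matrix.SpecialLinearGroup (Fin n) F)))) ∈
        transvQ i j t hF ht := by
      rw [mem_transvQ_iff]
      intro k m hk _
      show (Matrix.transvection i l (1 : F) - 1) k m = 0
      rw [Matrix.transvection, add_sub_cancel_left, Matrix.single_apply, if_neg]
      exact fun h => hk h.1.symm
    have hcomm := mem_centralizer_iff.1 hc _ hτQ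
    have hcomm' : ((c : Matrix.SpecialLinearGroup (Fin n) F) : Matrix (Fin n) (Fin n) F) *
        Matrix.transvection i l 1 = Matrix.transvection i l 1 *
        ((c : Matrix.SpecialLinearGroup (Fin n) F) : Matrix (Fin n) (Fin n) F) := by
      have := congrArg (fun x : ↥(centralizer ({t} : Set (Matrix.SpecialLinearGroup (Fin n) F))) =>
        ((x : Matrix.SpecialLinearGroup (Fin n) F) : Matrix (Fin n) (Fin n) F)) hcomm
      simp only [Subgroup.coe_mul, Matrix.SpecialLinearGroup.coe_mul] at this
      exact this.symm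
    obtain ⟨_, h2, h3⟩ := entries_of_commute_transvection hcomm'
    exact ⟨h2, by rw [← h3, hii]⟩
  intro k m hk _
  rw [Matrix.sub_apply]
  by_cases hkm : m = k
  · rw [hkm, (hrow k hk).2, Matrix.one_apply_eq, sub_self]
  · rw [(hrow k hk).1 m hkm, Matrix.one_apply_ne (Ne.symm hkm), sub_self]

include hF hij ht in
/-- **S1339.** The generalized Fitting subgroup of the centralizer of a transvection in
`SL_n(2)` is its `O_2`. -/
theorem generalizedFitting_centralizer_transvection :
    generalizedFittingSubgroup ↥(centralizer ({t} : Set (Matrix.SpecialLinearGroup (Fin n) F))) =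
      pCore 2 ↥(centralizer ({t} : Set (Matrix.SpecialLinearGroup (Fin n) F))) := by
  haveI : Fact (Nat.Prime 2) := ⟨Nat.prime_two⟩
  exact generalizedFitting_eq_pCore_of_centralizer_le (transvQ_normal hF ht)
    (transvQ_isPGroup hF ht) (transvQ_centralizer_le hF hij ht)

end SL

end Cfsg.Agent.Helper7
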