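import Mathlib
import Cfsg.Prelude.Def_Balance
import Cfsg.Agent.Helper7.Basic
import Cfsg.Agent.Helper7.TwoLocal
import Cfsg.Agent.Helper7.Hyperplane
import Cfsg.Agent.Helper15.StrongEmb

set_option autoImplicit false
set_option linter.style.haveILetI false
set_option linter.unusedSectionVars false

/-! # The commuting graph on elementary abelian `p`-subgroups and strongly `p`-embedded
subgroups (S1336) -/

namespace Cfsg.Agent.Helper7

open Subgroup Cfsg

variable {G : Type*} [Group G]

/-- Adjacency in the commuting graph on elementary abelian `p`-subgroups of order `≥ p^k`. -/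
def CAdj (p k : ℕ) (A B : Subgroup G) : Prop :=
  IsElementaryAbelian p A ∧ p ^ k ≤ Nat.card A ∧ IsElementaryAbelian p B ∧
    p ^ k ≤ Nat.card B ∧ ∀ a ∈ A, ∀ b ∈ B, a * b = b * a

theorem isKConnected_iff (p k : ℕ) : IsKConnected p k G ↔
    ∀ E E' : Subgroup G, IsElementaryAbelian p E → p ^ k ≤ Nat.card E →
      IsElementaryAbelian p E' → p ^ k ≤ Nat.card E' →
      Relation.ReflTransGen (CAdj p k) E E' := Iff.rfl

theorem CAdj.symm {p k : ℕ} {A B : Subgroup G} (h : CAdj p k A B) : CAdj p k B A :=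
  ⟨h.2.2.1, h.2.2.2.1, h.1, h.2.1, fun b hb a ha => (h.2.2.2.2 a ha b hb).symm⟩

theorem IsElementaryAbelian.map_conj {p : ℕ} {A : Subgroup G} (h : IsElementaryAbelian p A)
    (g : G) : IsElementaryAbelian p (A.map (MulAut.conj g).toMonoidHom) := by
  refine ⟨⟨⟨?_⟩⟩, ?_⟩
  · rintro ⟨a, a', ha', rfl⟩ ⟨b, b', hb', rfl⟩
    apply Subtype.ext
    show (MulAut.conj g).toMonoidHom a' * (MulAut.conj g).toMonoidHom b' =
      (MulAut.conj g).toMonoidHom b' * (MulAut.conj g).toMonoidHom a'
    rw [← map_mul, ← map_mul, IsElementaryAbelian.commute h ha' hb']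
  · rintro a ⟨a', ha', rfl⟩
    rw [← map_pow, h.2 a' ha', map_one]

theorem card_map_conj_cn [Finite G] (A : Subgroup G) (g : G) :
    Nat.card (A.map (MulAut.conj g).toMonoidHom) = Nat.card A :=
  card_map_of_injective (MulAut.conj g).injective

theorem CAdj.map_conj [Finite G] {p k : ℕ} {A B : Subgroup G} (h : CAdj p k A B) (g : G) :
    CAdj p k (A.map (MulAut.conj g).toMonoidHom) (B.map (MulAut.conj g).toMonoidHom) := by
  refine ⟨IsElementaryAbelian.map_conj h.1 g, by rw [card_map_conj_cn]; exact h.2.1,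
    IsElementaryAbelian.map_conj h.2.2.1 g, by rw [card_map_conj_cn]; exact h.2.2.2.1, ?_⟩
  rintro a ⟨a', ha', rfl⟩ b ⟨b', hb', rfl⟩
  rw [← map_mul, ← map_mul, h.2.2.2.2 a' ha' b' hb']

theorem conn_symm {p k : ℕ} {A B : Subgroup G} (h : Relation.ReflTransGen (CAdj p k) A B) :
    Relation.ReflTransGen (CAdj p k) B A := by
  induction h with
  | refl => exact Relation.ReflTransGen.refl
  | tail _ hbc ih => exact Relation.ReflTransGen.head hbc.symm ih

theorem conn_map_conj [Finite G] {p k : ℕ} {A B : Subgroup G}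
    (h : Relation.ReflTransGen (CAdj p k) A B) (g : G) :
    Relation.ReflTransGen (CAdj p k) (A.map (MulAut.conj g).toMonoidHom)
      (B.map (MulAut.conj g).toMonoidHom) := by
  induction h with
  | refl => exact Relation.ReflTransGen.refl
  | tail _ hbc ih => exact Relation.ReflTransGen.tail ih (hbc.map_conj g)

theorem map_conj_mul (A : Subgroup G) (g h : G) :
    A.map (MulAut.conj (g * h)).toMonoidHom =
      (A.map (MulAut.conj h).toMonoidHom).map (MulAut.conj g).toMonoidHom := by
  rw [map_map]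
  congr 1
  ext t
  simp only [MonoidHom.comp_apply, MulEquiv.coe_toMonoidHom, MulAut.conj_apply]
  group

theorem map_conj_one_cn (A : Subgroup G) : A.map (MulAut.conj (1 : G)).toMonoidHom = A := by
  ext t
  rw [mem_map_conj_iff]
  simp

section

variable [Finite G] {p : ℕ} [hp : Fact p.Prime]

theorem isElementaryAbelian_zpowers {z : G} (hz : z ^ p = 1) :
    IsElementaryAbelian p (zpowers z) := by
  refine ⟨inferInstance, ?_⟩
  intro a ha
  obtain ⟨n, rfl⟩ := mem_zpowers_iff.1 ha
  rw [← zpow_natCast, ← zpow_mul, mul_comm, zpow_mul, zpow_natCast, hz, one_zpow]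

theorem ne_bot_of_le_card {A : Subgroup G} (h : p ^ 1 ≤ Nat.card A) : A ≠ ⊥ := by
  intro h0
  rw [h0, card_bot, pow_one] at h
  have := hp.out.one_lt
  omega

/-- Inside a `p`-subgroup all vertices are connected. -/
theorem conn_of_le_pGroup {S : Subgroup G} (hS : IsPGroup p S) {A B : Subgroup G}
    (hA : IsElementaryAbelian p A) (hA1 : p ^ 1 ≤ Nat.card A) (hAS : A ≤ S)
    (hB : IsElementaryAbelian p B) (hB1 : p ^ 1 ≤ Nat.card B) (hBS : B ≤ S) :
    Relation.ReflTransGen (CAdj p 1) A B := by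
  have hS1 : S ≠ ⊥ := fun h => ne_bot_of_le_card hA1 (le_bot_iff.1 (h ▸ hAS))
  obtain ⟨z, hzS, hzord, hzc⟩ := exists_central_orderOf_eq_prime hS hS1
  have hzp : z ^ p = 1 := hzord ▸ pow_orderOf_eq_one z
  have hZ : IsElementaryAbelian p (zpowers z) := isElementaryAbelian_zpowers hzp
  have hZ1 : p ^ 1 ≤ Nat.card (zpowers z) := by rw [Nat.card_zpowers, hzord, pow_one]
  have key : ∀ D : Subgroup G, IsElementaryAbelian p D → p ^ 1 ≤ Nat.card D → D ≤ S →
      CAdj p 1 D (zpowers z) := by
    intro D hD hD1 hDS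
    refine ⟨hD, hD1, hZ, hZ1, ?_⟩
    intro a ha b hb
    obtain ⟨n, rfl⟩ := mem_zpowers_iff.1 hb
    have : Commute a z := hzc a (hDS ha)
    exact (this.zpow_right n).eq
  exact Relation.ReflTransGen.tail (Relation.ReflTransGen.single (key A hA hA1 hAS))
    (key B hB hB1 hBS).symm

/-- (⇒) of S1336. -/
theorem not_isKConnected_of_stronglyEmbedded {H : Subgroup G} (hH : H ≠ ⊤)
    (hpH : p ∣ Nat.card H)
    (hse : ∀ g : G, g ∉ H → ¬ p ∣ Nat.card ↥(H ⊓ H.map (MulAut.conj g).toMonoidHom)) :
    ¬ IsKConnected p 1 G := by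
  intro hconn
  rw [isKConnected_iff] at hconn
  obtain ⟨x, hx⟩ := exists_prime_orderOf_dvd_card' p hpH
  have hxord : orderOf (x : G) = p := by rw [Subgroup.orderOf_coe]; exact hx
  have hxp : (x : G) ^ p = 1 := hxord ▸ pow_orderOf_eq_one (x : G)
  set E := zpowers (x : G) with hE
  have hEel : IsElementaryAbelian p E := isElementaryAbelian_zpowers hxp
  have hE1 : p ^ 1 ≤ Nat.card E := by rw [Nat.card_zpowers, hxord, pow_one]
  have hEH : E ≤ H := zpowers_le.2 x.2
  obtain ⟨g, hg⟩ : ∃ g : G, g ∉ H := by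
    by_contra hcon
    push Not at hcon
    exact hH (eq_top_iff.2 fun g _ => hcon g)
  have h1 := hconn E (E.map (MulAut.conj g).toMonoidHom) hEel hE1
    (IsElementaryAbelian.map_conj hEel g) (by rw [card_map_conj_cn]; exact hE1)
  -- the chain stays inside `H`
  have inv : ∀ A B : Subgroup G, Relation.ReflTransGen (CAdj p 1) A B → A ≤ H → B ≤ H := by
    intro A B hAB
    induction hAB with
    | refl => exact id
    | tail _ hbc ih =>
      intro hA
      have hbH := ih hA
      obtain ⟨hb, hb1, _, _, hcomm⟩ := hbc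
      have h2 := Cfsg.Agent.Helper15.normalizer_le_of_stronglyEmbedded hse
        (IsElementaryAbelian.isPGroup hb) (ne_bot_of_le_card hb1) hbH
      intro c hc
      apply h2
      apply centralizer_le_normalizer
      rw [mem_centralizer_iff]
      intro b hb'
      exact hcomm b hb' c hc
  have h2 : E.map (MulAut.conj g).toMonoidHom ≤ H := inv _ _ h1 hEH
  apply hse g hg
  have h3 : E.map (MulAut.conj g).toMonoidHom ≤ H ⊓ H.map (MulAut.conj g).toMonoidHom :=
    le_inf h2 (map_mono hEH)
  have h4 : p ∣ Nat.card (E.map (MulAut.conj g).toMonoidHom) := by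
    rw [card_map_conj_cn, Nat.card_zpowers, hxord]
  exact h4.trans (card_dvd_of_le h3)

/-- (⇐) of S1336. -/
theorem exists_stronglyEmbedded_of_not_isKConnected (h : ¬ IsKConnected p 1 G) :
    ∃ H : Subgroup G, H ≠ ⊤ ∧ p ∣ Nat.card H ∧
      ∀ g : G, g ∉ H → ¬ p ∣ Nat.card ↥(H ⊓ H.map (MulAut.conj g).toMonoidHom) := by
  rw [isKConnected_iff] at h
  push Not at h
  obtain ⟨E, E', hE, hE1, hE', hE'1, hnc⟩ := h
  let H : Subgroup G :=
    { carrier := {g | Relation.ReflTransGen (CAdj p 1) E (E.map (MulAut.conj g).toMonoidHom)}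
      one_mem' := by
        show Relation.ReflTransGen (CAdj p 1) E (E.map (MulAut.conj (1 : G)).toMonoidHom)
        rw [map_conj_one_cn]
      mul_mem' := by
        intro g h hg hh
        show Relation.ReflTransGen (CAdj p 1) E (E.map (MulAut.conj (g * h)).toMonoidHom)
        rw [map_conj_mul]
        exact Relation.ReflTransGen.trans hg (conn_map_conj hh g)
      inv_mem' := by
        intro g hg
        show Relation.ReflTransGen (CAdj p 1) E (E.map (MulAut.conj g⁻¹).toMonoidHom)
        have := conn_map_conj hg g⁻¹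
        rw [← map_conj_mul, inv_mul_cancel, map_conj_one_cn] at this
        exact conn_symm this }
  have memH : ∀ g, g ∈ H ↔
      Relation.ReflTransGen (CAdj p 1) E (E.map (MulAut.conj g).toMonoidHom) := fun g => Iff.rfl
  obtain ⟨S, hES⟩ := (IsElementaryAbelian.isPGroup hE).exists_le_sylow
  have hcardconj : ∀ (D : Subgroup G) (g : G), p ^ 1 ≤ Nat.card D →
      p ^ 1 ≤ Nat.card (D.map (MulAut.conj g).toMonoidHom) := by
    intro D g hD; rw [card_map_conj_cn]; exact hD
  have hSH : (S : Subgroup G) ≤ H := by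
    intro s hs
    rw [memH]
    apply conn_of_le_pGroup S.isPGroup' hE hE1 hES (IsElementaryAbelian.map_conj hE s)
      (hcardconj E s hE1)
    rintro _ ⟨e, he, rfl⟩
    show s * e * s⁻¹ ∈ (S : Subgroup G)
    exact mul_mem (mul_mem hs (hES he)) (inv_mem hs)
  have hDE : ∀ D : Subgroup G, IsElementaryAbelian p D → p ^ 1 ≤ Nat.card D → D ≤ H →
      Relation.ReflTransGen (CAdj p 1) E D := by
    intro D hD hD1 hDH
    obtain ⟨h, hhH, hh⟩ := exists_conj_mem_sylow_of_le S hSH hDH (IsElementaryAbelian.isPGroup hD)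
    have h1 : D.map (MulAut.conj h).toMonoidHom ≤ S := by
      rintro _ ⟨d, hd, rfl⟩
      exact hh d hd
    have h2 : Relation.ReflTransGen (CAdj p 1) E (D.map (MulAut.conj h).toMonoidHom) :=
      conn_of_le_pGroup S.isPGroup' hE hE1 hES (IsElementaryAbelian.map_conj hD h)
        (hcardconj D h hD1) h1
    have h3 := conn_map_conj h2 h⁻¹
    rw [← map_conj_mul, inv_mul_cancel, map_conj_one_cn] at h3
    exact Relation.ReflTransGen.trans ((memH h⁻¹).1 (H.inv_mem hhH)) h3
  refine ⟨H, ?_, ?_, ?_⟩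
  · intro htop
    obtain ⟨S', hE'S'⟩ := (IsElementaryAbelian.isPGroup hE').exists_le_sylow
    obtain ⟨g, hg⟩ := MulAction.exists_smul_eq G S S'
    apply hnc
    have hgH : g ∈ H := htop ▸ mem_top g
    have h1 := (memH g).1 hgH
    have h2 : E.map (MulAut.conj g).toMonoidHom ≤ S' := by
      rintro _ ⟨e, he, rfl⟩
      rw [← hg]
      show g * e * g⁻¹ ∈ g • S
      rw [mem_sylow_smul_iff]
      have : g⁻¹ * (g * e * g⁻¹) * g = e := by group
      rw [this]
      exact hES he
    exact Relation.ReflTransGen.trans h1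
      (conn_of_le_pGroup S'.isPGroup' (IsElementaryAbelian.map_conj hE g) (hcardconj E g hE1) h2
        hE' hE'1 hE'S')
  · have h1 : p ∣ Nat.card E := by
      obtain ⟨k, hk⟩ := (IsElementaryAbelian.isPGroup hE).exists_card_eq
      rw [hk] at hE1 ⊢
      rcases k with _ | k
      · exfalso
        rw [pow_zero, pow_one] at hE1
        have := hp.out.one_lt
        omega
      · exact dvd_pow_self p (Nat.succ_ne_zero k)
    exact h1.trans (card_dvd_of_le (hES.trans hSH))
  · intro g hg hdvd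
    apply hg
    obtain ⟨x, hx⟩ := exists_prime_orderOf_dvd_card' p hdvd
    have hxord : orderOf (x : G) = p := by rw [Subgroup.orderOf_coe]; exact hx
    have hxp : (x : G) ^ p = 1 := hxord ▸ pow_orderOf_eq_one (x : G)
    set D := zpowers (x : G) with hD'
    have hD : IsElementaryAbelian p D := isElementaryAbelian_zpowers hxp
    have hD1 : p ^ 1 ≤ Nat.card D := by rw [Nat.card_zpowers, hxord, pow_one]
    have hDH : D ≤ H := zpowers_le.2 x.2.1
    have hDHg : D ≤ H.map (MulAut.conj g).toMonoidHom := zpowers_le.2 x.2.2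
    have h1 := hDE D hD hD1 hDH
    have h2 : D.map (MulAut.conj g⁻¹).toMonoidHom ≤ H := by
      rintro _ ⟨d, hd, rfl⟩
      have := hDHg hd
      rw [mem_map_conj_iff] at this
      show g⁻¹ * d * g⁻¹⁻¹ ∈ H
      rwa [inv_inv]
    have h3 := hDE _ (IsElementaryAbelian.map_conj hD g⁻¹) (hcardconj D g⁻¹ hD1) h2
    have h4 := conn_map_conj h3 g
    rw [← map_conj_mul, mul_inv_cancel, map_conj_one_cn] at h4
    rw [memH]
    exact Relation.ReflTransGen.trans h1 (conn_symm h4)

/-- S1336 -/
theorem exists_stronglyEmbedded_iff_not_isKConnected :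
    (∃ H : Subgroup G, H ≠ ⊤ ∧ p ∣ Nat.card H ∧
      ∀ g : G, g ∉ H → ¬ p ∣ Nat.card ↥(H ⊓ H.map (MulAut.conj g).toMonoidHom)) ↔
      ¬ IsKConnected p 1 G :=
  ⟨fun ⟨_, hH, hpH, hse⟩ => not_isKConnected_of_stronglyEmbedded hH hpH hse,
    exists_stronglyEmbedded_of_not_isKConnected⟩

end

end Cfsg.Agent.Helper7
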