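import Mathlib
import Cfsg.Prelude.Def_Local
import Cfsg.Agent.Helper7.Layer
import Cfsg.Agent.Helper7.PPrimeCore
import Cfsg.Agent.Helper7.PComponent
import Cfsg.Agent.Helper7.Signalizer2
import Cfsg.Agent.Helper7.Hyperplane

set_option autoImplicit false
set_option linter.style.haveILetI false
set_option linter.unusedSectionVars false

/-! # `O_{p'}(C_G(x))` centralises the components `L` with `[L, x] ≠ L` (S1270) -/

namespace Cfsg.Agent.Helper7

open Subgroup Cfsg
open scoped commutatorElement

universe u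

section Orbit

variable {G : Type*} [Group G]

/-- The join of the conjugates `x^i L x^{-i}`, `a ≤ i < b`. -/
def orbSup (L : Subgroup G) (x : G) (a b : ℕ) : Subgroup G :=
  ⨆ i : {i : ℕ // a ≤ i ∧ i < b}, L.map (MulAut.conj (x ^ (i : ℕ))).toMonoidHom

theorem map_conj_pow_map_conj (L : Subgroup G) (x : G) (i : ℕ) :
    (L.map (MulAut.conj (x ^ i)).toMonoidHom).map (MulAut.conj x).toMonoidHom =
      L.map (MulAut.conj (x ^ (i + 1))).toMonoidHom := by
  rw [map_map]
  congr 1
  ext g
  simp only [MonoidHom.comp_apply, MulEquiv.coe_toMonoidHom, MulAut.conj_apply, pow_succ']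
  group

theorem le_orbSup (L : Subgroup G) (x : G) {a b i : ℕ} (h1 : a ≤ i) (h2 : i < b) :
    L.map (MulAut.conj (x ^ i)).toMonoidHom ≤ orbSup L x a b :=
  le_iSup (fun i : {i : ℕ // a ≤ i ∧ i < b} => L.map (MulAut.conj (x ^ (i : ℕ))).toMonoidHom)
    ⟨i, h1, h2⟩

theorem orbSup_mono (L : Subgroup G) (x : G) {a b a' b' : ℕ} (h1 : a' ≤ a) (h2 : b ≤ b') :
    orbSup L x a b ≤ orbSup L x a' b' := by
  unfold orbSup
  apply iSup_le
  rintro ⟨i, hi1, hi2⟩
  exact le_orbSup L x (h1.trans hi1) (lt_of_lt_of_le hi2 h2)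

theorem orbSup_map_le (L : Subgroup G) (x : G) (a b : ℕ) :
    (orbSup L x a b).map (MulAut.conj x).toMonoidHom ≤ orbSup L x (a + 1) (b + 1) := by
  unfold orbSup
  rw [Subgroup.map_iSup]
  apply iSup_le
  rintro ⟨i, hi1, hi2⟩
  rw [map_conj_pow_map_conj]
  exact le_orbSup L x (Nat.succ_le_succ hi1) (Nat.succ_lt_succ hi2)

theorem le_orbSup_zero (L : Subgroup G) (x : G) {b : ℕ} (hb : 0 < b) : L ≤ orbSup L x 0 b := by
  have := le_orbSup L x (le_refl 0) hb
  intro l hl
  apply this
  refine ⟨l, hl, ?_⟩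
  simp

/-- `(l x)^(n+1) = l · r · x^(n+1)` with `r` in the join of `x^i L x^{-i}`, `1 ≤ i ≤ n`. -/
theorem exists_pow_mul_eq (L : Subgroup G) (x : G) {l : G} (hl : l ∈ L) :
    ∀ n : ℕ, ∃ r ∈ orbSup L x 1 (n + 1), (l * x) ^ (n + 1) = l * r * x ^ (n + 1) := by
  intro n
  induction n with
  | zero => exact ⟨1, one_mem _, by simp⟩
  | succ n ih =>
    obtain ⟨r, hr, hrn⟩ := ih
    refine ⟨(x * l * x⁻¹) * (x * r * x⁻¹), ?_, ?_⟩
    · apply mul_mem
      · have h1 : x * l * x⁻¹ ∈ L.map (MulAut.conj (x ^ 1)).toMonoidHom := by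
          rw [pow_one]; exact conj_mem_map_conj hl
        exact le_orbSup L x (le_refl 1) (by omega) h1
      · have h1 : x * r * x⁻¹ ∈ (orbSup L x 1 (n + 1)).map (MulAut.conj x).toMonoidHom :=
          conj_mem_map_conj hr
        exact orbSup_mono L x (by omega) (le_refl _) (orbSup_map_le L x 1 (n + 1) h1)
    · rw [pow_succ' (l * x) (n + 1), hrn, pow_succ' x (n + 1)]
      group

end Orbit

end Cfsg.Agent.Helper7

namespace Cfsg.Agent.Helper7

open Subgroup Cfsg
open scoped commutatorElement
open Cfsg.Agent.Helper19 (pPrimeCore_coprime)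
open Cfsg.Agent.Lead (normalizer_le_normalizer_map_of_characteristic commutator_le_of_le_normalizer
  le_normalizer_commutator_left)

universe u


/-- If `L ≤ W A` (with `L`, `W` normalising `A`), then `|L : L ∩ A|` divides `|W|`. -/
theorem relIndex_dvd_card_of_le_sup {G : Type*} [Group G] [Finite G] {A L W : Subgroup G}
    (hL : L ≤ normalizer (A : Set G)) (hW : W ≤ normalizer (A : Set G)) (h : L ≤ W ⊔ A) :
    A.relIndex L ∣ Nat.card W := by
  have key : ∀ B : Subgroup G, B ≤ normalizer (A : Set G) →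
      Nat.card (A ⊔ B : Subgroup G) = Nat.card A * A.relIndex B := by
    intro B hB
    have h1 := Cfsg.Agent.Helper17.card_sup_mul_card_inf A B hB
    have h2 := card_mul_relIndex_of_le (inf_le_right : A ⊓ B ≤ B)
    rw [inf_relIndex_right] at h2
    rw [← h2] at h1
    have hpos : 0 < Nat.card (A ⊓ B : Subgroup G) := Nat.card_pos
    apply Nat.eq_of_mul_eq_mul_right hpos
    rw [h1]; ring
  have h1 : Nat.card (A ⊔ L : Subgroup G) ∣ Nat.card (A ⊔ W : Subgroup G) :=
    card_dvd_of_le (sup_le (le_sup_left) (h.trans (sup_le le_sup_right le_sup_left)))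
  rw [key L hL, key W hW] at h1
  have h2 : A.relIndex L ∣ A.relIndex W := Nat.dvd_of_mul_dvd_mul_left Nat.card_pos h1
  exact h2.trans (relIndex_dvd_card A W)

theorem map_conj_comm {G : Type*} [Group G] {a b : G} (h : a * b = b * a) (L : Subgroup G) :
    (L.map (MulAut.conj a).toMonoidHom).map (MulAut.conj b).toMonoidHom =
      (L.map (MulAut.conj b).toMonoidHom).map (MulAut.conj a).toMonoidHom := by
  rw [map_map, map_map]
  congr 1
  ext t
  simp only [MonoidHom.comp_apply, MulEquiv.coe_toMonoidHom, MulAut.conj_apply]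
  rw [show b * (a * t * a⁻¹) * b⁻¹ = (b * a) * t * (b * a)⁻¹ by group,
    show a * (b * t * b⁻¹) * a⁻¹ = (a * b) * t * (a * b)⁻¹ by group, h]

theorem mem_zpowers_pow_of_coprime {G : Type*} [Group G] [Finite G] {y : G} {m : ℕ}
    (h : (orderOf y).Coprime m) : y ∈ zpowers (y ^ m) := by
  have h1 := Nat.Coprime.orderOf_pow (y := y) h
  have hle : zpowers (y ^ m) ≤ zpowers y := zpowers_le.2 (pow_mem (mem_zpowers y) m)
  have hcard : Nat.card (zpowers (y ^ m)) = Nat.card (zpowers y) := by
    rw [Nat.card_zpowers, Nat.card_zpowers, h1]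
  have heq : zpowers (y ^ m) = zpowers y := Subgroup.eq_of_le_of_card_ge hle hcard.ge
  rw [heq]; exact mem_zpowers y

variable {G : Type u} [Group G] [Finite G] {p : ℕ} [hp : Fact p.Prime]

/-- Case A of S1270: `x` centralises `L`. -/
theorem commutator_centralizerPPrimeCore_eq_bot_of_le_centralizer (hO : pPrimeCore p G = ⊥)
    {x : G} {L : Subgroup G} (hL : IsComponent L) (hLx : L ≤ centralizer {x}) :
    ⁅L, centralizerPPrimeCore p x⁆ = ⊥ := by
  set C := centralizer ({x} : Set G) with hC
  have hL' : IsComponent (L.subgroupOf C) := isComponent_subgroupOf hL hLx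
  have hN : (pPrimeCore p C).IsSubnormal := Subgroup.Normal.isSubnormal inferInstance
  rcases component_le_or_commutator_eq_bot hL' hN with h | h
  · exfalso
    have h1 : (Nat.card (L.subgroupOf C)).Coprime p :=
      Nat.Coprime.coprime_dvd_left (card_dvd_of_le h) (pPrimeCore_coprime p)
    rw [Cfsg.Agent.Helper17.card_subgroupOf_of_le hLx] at h1
    have h2 := subnormal_coprime_le_pPrimeCore hL.1 h1
    rw [hO] at h2
    exact IsComponent.ne_bot hL (le_bot_iff.1 h2)
  · rw [commutator_eq_bot_iff_forall_commute] at h ⊢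
    intro l hl n hn
    obtain ⟨n', hn', rfl⟩ := hn
    have := h ⟨l, hLx hl⟩ (mem_subgroupOf.2 hl) n' hn'
    exact congrArg Subtype.val this

/-- Case B of S1270: `x` does not normalise `L`. -/
theorem commutator_centralizerPPrimeCore_eq_bot_of_map_conj_ne (hO : pPrimeCore p G = ⊥)
    {x : G} (hx : orderOf x = p) {L : Subgroup G} (hL : IsComponent L)
    (hB : L.map (MulAut.conj x).toMonoidHom ≠ L) :
    ⁅L, centralizerPPrimeCore p x⁆ = ⊥ := by
  set C := centralizer ({x} : Set G) with hC
  set N := centralizerPPrimeCore p x with hN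
  set E := layer G with hE
  set CL := centralizer (L : Set G) with hCL
  set W := N ⊓ E with hW
  set R := orbSup L x 1 p with hR
  have hxp : x ^ p = 1 := hx ▸ pow_orderOf_eq_one x
  have hp2 : 2 ≤ p := hp.out.two_le
  have hNC : N ≤ C := centralizerPPrimeCore_le p x
  have hCN : C ≤ normalizer (N : Set G) :=
    le_normalizer.trans (normalizer_le_normalizer_map_of_characteristic C (pPrimeCore p C))
  have hNcop : (Nat.card N).Coprime p := card_centralizerPPrimeCore_coprime p x
  have hLE : L ≤ E := IsComponent.le_layer hL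
  have hLCL : ⁅L, CL⁆ = ⊥ := by
    rw [commutator_comm, commutator_eq_bot_iff_le_centralizer]
  have hLnotcomm : ¬ L ≤ CL := by
    intro h
    apply IsQuasisimple.not_isMulCommutative hL.2
    refine ⟨⟨fun a b => ?_⟩⟩
    apply Subtype.ext
    exact ((mem_centralizer_iff.1 (h a.2)) b b.2).symm
  -- F1
  have F1 : ∀ i, 0 < i → i < p → L.map (MulAut.conj (x ^ i)).toMonoidHom ≠ L := by
    intro i hi0 hip heq
    apply hB
    have h1 : x ^ i ∈ normalizer (L : Set G) := mem_normalizer_iff_map_conj_eq'.2 heq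
    have h2 : x ∈ zpowers (x ^ i) := mem_zpowers_pow_of_not_dvd hxp
      (fun hd => by have := Nat.le_of_dvd hi0 hd; omega)
    exact mem_normalizer_iff_map_conj_eq'.1 ((zpowers_le.2 h1) h2)
  have hLi : ∀ i, IsComponent (L.map (MulAut.conj (x ^ i)).toMonoidHom) :=
    fun i => isComponent_map_conj hL _
  -- F2
  have hRCL : R ≤ CL := by
    apply iSup_le
    rintro ⟨i, hi1, hi2⟩
    have := components_commute (hLi i) hL (F1 i (by omega) hi2)
    exact commutator_eq_bot_iff_le_centralizer.1 this
  have hRE : R ≤ E := iSup_le fun i => IsComponent.le_layer (hLi i)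
  -- F3
  have F3 : ∀ l ∈ L, ∃ r ∈ R, (l * x) ^ p = l * r := by
    intro l hl
    obtain ⟨r, hr, h⟩ := exists_pow_mul_eq L x hl (p - 1)
    have hp1 : p - 1 + 1 = p := by omega
    rw [hp1] at hr h
    exact ⟨r, hr, by rw [h, hxp, mul_one]⟩
  -- F4
  have F4 : ∀ l ∈ L, (l * x) ^ p ∈ C ⊓ E := by
    intro l hl
    obtain ⟨r, hr, hd⟩ := F3 l hl
    refine ⟨?_, ?_⟩
    · show (l * x) ^ p ∈ centralizer ({x} : Set G)
      rw [mem_centralizer_singleton_iff]
      have h1 : Commute ((l * x) ^ p) (l * x) := (Commute.refl (l * x)).pow_left p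
      have h2 : Commute ((l * x) ^ p) l := by
        rw [hd]
        have : r * l = l * r := (mem_centralizer_iff.1 (hRCL hr)) l hl |>.symm
        show l * r * l = l * (l * r)
        rw [mul_assoc, this]
      have h3 : Commute ((l * x) ^ p) (l⁻¹ * (l * x)) := h2.inv_right.mul_right h1
      rw [inv_mul_cancel_left] at h3
      exact h3.eq
    · rw [hd]
      exact mul_mem (hLE hl) (hRE hr)
  have hEnorm : E ≤ normalizer (L : Set G) := layer_le_normalizer_component hL
  have hNLCL : normalizer (L : Set G) ≤ normalizer (CL : Set G) :=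
    normalizer_le_normalizer_centralizer L
  have hE_le : E ≤ L ⊔ CL := by
    rw [hE, layer_le_iff]
    intro K hK
    by_cases h : K = L
    · rw [h]; exact le_sup_left
    · exact le_trans (commutator_eq_bot_iff_le_centralizer.1 (components_commute hK hL h))
        le_sup_right
  have hEtop : normalizer (E : Set G) = ⊤ := normalizer_eq_top_iff.2 inferInstance
  have hdW : ∀ d ∈ C ⊓ E, d ∈ normalizer (W : Set G) := by
    intro d hd
    have h1 : d ∈ normalizer (N : Set G) := hCN hd.1
    have h2 : d ∈ normalizer (E : Set G) := by rw [hEtop]; trivial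
    exact normalizer_inf_normalizer_le_normalizer_inf N E ⟨h1, h2⟩
  set T := L ⊓ (W ⊔ CL) with hT
  have hWnCL : W ≤ normalizer (CL : Set G) := (inf_le_right.trans hEnorm).trans hNLCL
  have hLT : L ≤ normalizer (T : Set G) := by
    intro l hl
    obtain ⟨r, hr, hd⟩ := F3 l hl
    have hdC : (l * x) ^ p ∈ C ⊓ E := F4 l hl
    have h1 : (l * x) ^ p ∈ normalizer (T : Set G) := by
      apply normalizer_inf_normalizer_le_normalizer_inf
      refine ⟨hEnorm hdC.2, ?_⟩
      apply normalizer_inf_le_normalizer_sup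
      exact ⟨hdW _ hdC, hNLCL (hEnorm hdC.2)⟩
    have h2 : r ∈ normalizer (T : Set G) := by
      apply normalizer_inf_normalizer_le_normalizer_inf
      refine ⟨?_, ?_⟩
      · exact (centralizer_le_normalizer _) (hRCL hr)
      · exact le_normalizer (mem_sup_right (hRCL hr))
    have : l = (l * x) ^ p * r⁻¹ := by rw [hd]; group
    rw [this]; exact mul_mem h1 (inv_mem h2)
  haveI hTnormal : (T.subgroupOf L).Normal :=
    (normal_subgroupOf_iff_le_normalizer inf_le_left).2 hLT
  -- F5
  have F5 : W ≤ CL := by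
    rcases IsQuasisimple.normal_eq_top_or_le_center hL.2 (T.subgroupOf L) with h | h
    · exfalso
      have hLle : L ≤ W ⊔ CL := fun l hl => ((subgroupOf_eq_top.1 h) hl).2
      have hLnCL : L ≤ normalizer (CL : Set G) := le_normalizer.trans hNLCL
      have hdvd : CL.relIndex L ∣ Nat.card W := relIndex_dvd_card_of_le_sup hLnCL hWnCL hLle
      have hcop : (CL.relIndex L).Coprime p :=
        Nat.Coprime.coprime_dvd_left (hdvd.trans (card_dvd_of_le inf_le_left)) hNcop
      haveI : (CL.subgroupOf L).Normal := by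
        have : CL.subgroupOf L = (L ⊓ CL).subgroupOf L := by
          rw [inf_comm, inf_subgroupOf_right]
        rw [this]
        apply (normal_subgroupOf_iff_le_normalizer inf_le_left).2
        exact (le_inf le_normalizer hLnCL).trans (normalizer_inf_normalizer_le_normalizer_inf _ _)
      have := IsComponent.eq_top_of_normal_of_index_coprime hO hL (CL.subgroupOf L) hcop
      exact hLnotcomm (subgroupOf_eq_top.1 this)
    · intro w hw
      obtain ⟨l, hl, c, hc, hlc⟩ := (mem_sup_of_commutator_eq_bot hLCL).1 (hE_le hw.2)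
      have hlT : l ∈ T := by
        refine ⟨hl, ?_⟩
        have : l = w * c⁻¹ := by rw [← hlc]; group
        rw [this]
        exact mul_mem (mem_sup_left hw) (mem_sup_right (inv_mem hc))
      have hlZ : (⟨l, hl⟩ : L) ∈ center L := h (mem_subgroupOf.2 hlT)
      have hlCL : l ∈ CL := by
        rw [hCL, mem_centralizer_iff]
        intro g hg
        have := (mem_center_iff.1 hlZ) ⟨g, hg⟩
        exact congrArg Subtype.val this
      rw [← hlc]; exact mul_mem hlCL hc
  have hWE : ∀ y ∈ N, ∀ d ∈ C ⊓ E, d * y * d⁻¹ * y⁻¹ ∈ W := by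
    intro y hy d hd
    refine ⟨?_, ?_⟩
    · have h1 : d * y * d⁻¹ ∈ N := forall_conj_mem_of_le_normalizer hCN d hd.1 y hy
      exact N.mul_mem h1 (N.inv_mem hy)
    · have h1 : y * d⁻¹ * y⁻¹ ∈ E :=
        (inferInstance : E.Normal).conj_mem d⁻¹ (E.inv_mem hd.2) y
      have : d * y * d⁻¹ * y⁻¹ = d * (y * d⁻¹ * y⁻¹) := by group
      rw [this]; exact E.mul_mem hd.2 h1
  -- F6
  have F6 : ∀ y ∈ N, y ∈ normalizer (L : Set G) := by
    intro y hy
    have hyx : y * x = x * y := mem_centralizer_singleton_iff.1 (hNC hy)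
    by_cases hex : ∃ j : ℕ, L.map (MulAut.conj y).toMonoidHom =
        L.map (MulAut.conj (x ^ j)).toMonoidHom
    · obtain ⟨j, hLj⟩ := hex
      set g := (x ^ j)⁻¹ * y with hg
      have hgN : g ∈ normalizer (L : Set G) := by
        rw [mem_normalizer_iff_map_conj_eq']
        have h1 : L.map (MulAut.conj g).toMonoidHom =
            (L.map (MulAut.conj y).toMonoidHom).map (MulAut.conj (x ^ j)⁻¹).toMonoidHom := by
          rw [map_map]
          congr 1
          ext t
          simp only [hg, MonoidHom.comp_apply, MulEquiv.coe_toMonoidHom, MulAut.conj_apply]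
          group
        rw [h1, hLj, map_map]
        have h2 : ((MulAut.conj (x ^ j)⁻¹).toMonoidHom).comp (MulAut.conj (x ^ j)).toMonoidHom =
            MonoidHom.id G := by
          ext t
          simp only [MonoidHom.comp_apply, MulEquiv.coe_toMonoidHom, MulAut.conj_apply,
            MonoidHom.id_apply]
          group
        rw [h2, Subgroup.map_id]
      have hcomm : Commute ((x ^ j)⁻¹) y := by
        have : Commute x y := hyx.symm
        exact (this.pow_left j).inv_left
      have hgp : g ^ p = y ^ p := by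
        rw [hg, hcomm.mul_pow, inv_pow, ← pow_mul, mul_comm j p, pow_mul, hxp, one_pow, inv_one,
          one_mul]
      have hcop : Nat.Coprime (orderOf y) p := by
        have h1 : orderOf y ∣ Nat.card N := by
          have : orderOf (⟨y, hy⟩ : N) = orderOf y := Subgroup.orderOf_mk y hy
          rw [← this]
          exact orderOf_dvd_natCard _
        exact Nat.Coprime.coprime_dvd_left h1 hNcop
      have h3 : y ∈ zpowers (y ^ p) := mem_zpowers_pow_of_coprime hcop
      rw [← hgp] at h3
      have h4 : zpowers (g ^ p) ≤ normalizer (L : Set G) :=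
        zpowers_le.2 (pow_mem hgN p)
      exact h4 h3
    · push Not at hex
      exfalso
      apply hLnotcomm
      intro l hl
      obtain ⟨r, hr, hd⟩ := F3 l hl
      have hdCE := F4 l hl
      have hK : (orbSup L x 0 p).map (MulAut.conj y).toMonoidHom ≤ CL := by
        unfold orbSup
        rw [Subgroup.map_iSup]
        apply iSup_le
        rintro ⟨i, _, hi⟩
        have hcomp : IsComponent ((L.map (MulAut.conj (x ^ i)).toMonoidHom).map
            (MulAut.conj y).toMonoidHom) := isComponent_map_conj (hLi i) y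
        have hne : (L.map (MulAut.conj (x ^ i)).toMonoidHom).map
            (MulAut.conj y).toMonoidHom ≠ L := by
          intro heq
          apply hex (p - i)
          have hinv : x ^ (p - i) * x ^ i = 1 := by
            rw [← pow_add, Nat.sub_add_cancel hi.le, hxp]
          have hyxi : y * x ^ i = x ^ i * y := (Commute.pow_right hyx i).eq
          -- `L = (L^y)^(x^i)`, so `L^y = L^(x^(p-i))`
          have h1 : (L.map (MulAut.conj y).toMonoidHom).map (MulAut.conj (x ^ i)).toMonoidHom
              = L := by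
            rw [map_conj_comm hyxi L]; exact heq
          have h2 : L.map (MulAut.conj (x ^ (p - i))).toMonoidHom =
              ((L.map (MulAut.conj y).toMonoidHom).map (MulAut.conj (x ^ i)).toMonoidHom).map
                (MulAut.conj (x ^ (p - i))).toMonoidHom := by rw [h1]
          rw [h2, map_map]
          have h3 : ((MulAut.conj (x ^ (p - i))).toMonoidHom).comp
              (MulAut.conj (x ^ i)).toMonoidHom = MonoidHom.id G := by
            ext t
            simp only [MonoidHom.comp_apply, MulEquiv.coe_toMonoidHom, MulAut.conj_apply,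
              MonoidHom.id_apply]
            have e : (x ^ (p - i))⁻¹ = x ^ i := by
              rw [inv_eq_iff_mul_eq_one]; exact hinv
            have e' : (x ^ i)⁻¹ = x ^ (p - i) := by
              rw [inv_eq_iff_mul_eq_one, ← pow_add, Nat.add_sub_cancel' hi.le, hxp]
            rw [show x ^ (p - i) * (x ^ i * t * (x ^ i)⁻¹) * (x ^ (p - i))⁻¹ =
              (x ^ (p - i) * x ^ i) * t * ((x ^ i)⁻¹ * (x ^ (p - i))⁻¹) by group, hinv, e, e',
              ← pow_add, Nat.sub_add_cancel hi.le, hxp]
            group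
          rw [h3, Subgroup.map_id]
        exact commutator_eq_bot_iff_le_centralizer.1 (components_commute hcomp hL hne)
      have hdK : (l * x) ^ p ∈ orbSup L x 0 p := by
        rw [hd]
        exact mul_mem (le_orbSup_zero L x hp.out.pos hl)
          (orbSup_mono L x (Nat.zero_le 1) (le_refl p) hr)
      have h1 : y * (l * x) ^ p * y⁻¹ ∈ CL := hK (conj_mem_map_conj hdK)
      have h2 : (l * x) ^ p * y * ((l * x) ^ p)⁻¹ * y⁻¹ ∈ CL := F5 (hWE y hy _ hdCE)
      have h3 : (l * x) ^ p ∈ CL := by
        have : (l * x) ^ p = ((l * x) ^ p * y * ((l * x) ^ p)⁻¹ * y⁻¹) *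
            (y * (l * x) ^ p * y⁻¹) := by group
        rw [this]; exact mul_mem h2 h1
      have : l = (l * x) ^ p * r⁻¹ := by rw [hd]; group
      rw [this]
      exact mul_mem h3 (inv_mem (hRCL hr))
  -- F7
  have hNL : ⁅N, L⁆ ≤ CL := by
    rw [commutator_le]
    intro y hy l hl
    have hyN : y ∈ normalizer (L : Set G) := F6 y hy
    have hyCL : y ∈ normalizer (CL : Set G) := hNLCL hyN
    obtain ⟨r, hr, hd⟩ := F3 l hl
    have hw : (l * x) ^ p * y * ((l * x) ^ p)⁻¹ * y⁻¹ ∈ CL := F5 (hWE y hy _ (F4 l hl))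
    rw [hd] at hw
    have hr' : y * r⁻¹ * y⁻¹ ∈ CL := (mem_normalizer_iff.1 hyCL r⁻¹).1 (inv_mem (hRCL hr))
    have hrr : r * (y * r⁻¹ * y⁻¹) ∈ CL := mul_mem (hRCL hr) hr'
    have hl' : y * l⁻¹ * y⁻¹ ∈ L := (mem_normalizer_iff.1 hyN l⁻¹).1 (inv_mem hl)
    have hc : (y * l⁻¹ * y⁻¹) * (r * (y * r⁻¹ * y⁻¹)) =
        (r * (y * r⁻¹ * y⁻¹)) * (y * l⁻¹ * y⁻¹) := (mem_centralizer_iff.1 hrr) _ hl'
    have e1 : l * r * y * (l * r)⁻¹ * y⁻¹ =
        l * ((r * (y * r⁻¹ * y⁻¹)) * (y * l⁻¹ * y⁻¹)) := by group
    have e2 : l * (y * l⁻¹ * y⁻¹) =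
        (l * r * y * (l * r)⁻¹ * y⁻¹) * (r * (y * r⁻¹ * y⁻¹))⁻¹ := by
      rw [e1, ← hc]; group
    have h5 : l * (y * l⁻¹ * y⁻¹) ∈ CL := by
      rw [e2]; exact mul_mem hw (inv_mem hrr)
    have : ⁅y, l⁆ = (l * (y * l⁻¹ * y⁻¹))⁻¹ := by
      rw [commutatorElement_def]; group
    rw [this]
    exact inv_mem h5
  have hfin : ⁅⁅N, L⁆, L⁆ = ⊥ := by
    rw [eq_bot_iff]
    refine (commutator_mono hNL le_rfl).trans ?_
    rw [le_bot_iff, commutator_eq_bot_iff_le_centralizer]
  exact commutator_eq_bot_of_perfect (IsComponent.commutator_eq hL) hfin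

/-- S1270 -/
theorem commutator_centralizerPPrimeCore_eq_bot (hO : pPrimeCore p G = ⊥) (x : G)
    (hx : orderOf x = p) (L : Subgroup G) (hL : IsComponent L)
    (hne : ⁅L, zpowers x⁆ ≠ L) : ⁅L, centralizerPPrimeCore p x⁆ = ⊥ := by
  by_cases hB : L.map (MulAut.conj x).toMonoidHom = L
  · have hxN : x ∈ normalizer (L : Set G) := mem_normalizer_iff_map_conj_eq'.2 hB
    have hzN : zpowers x ≤ normalizer (L : Set G) := zpowers_le.2 hxN
    have hle : ⁅L, zpowers x⁆ ≤ L := commutator_le_of_le_normalizer hzN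
    have hnorm : L ≤ normalizer ((⁅L, zpowers x⁆ : Subgroup G) : Set G) :=
      le_normalizer_commutator_left L (zpowers x)
    haveI hN : ((⁅L, zpowers x⁆).subgroupOf L).Normal :=
      (normal_subgroupOf_iff_le_normalizer hle).2 hnorm
    rcases IsQuasisimple.normal_eq_top_or_le_center hL.2 ((⁅L, zpowers x⁆).subgroupOf L)
      with h | h
    · exfalso
      apply hne
      exact le_antisymm hle (subgroupOf_eq_top.1 h)
    · have h1 : ⁅L, zpowers x⁆ ≤ centralizer (L : Set G) := by
        intro c hc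
        have hcL : c ∈ L := hle hc
        have hcZ : (⟨c, hcL⟩ : L) ∈ center L := h (mem_subgroupOf.2 hc)
        rw [mem_centralizer_iff]
        intro g hg
        have := (mem_center_iff.1 hcZ) ⟨g, hg⟩
        exact congrArg Subtype.val this
      have h2 : ⁅⁅zpowers x, L⁆, L⁆ = ⊥ := by
        rw [commutator_comm (zpowers x) L]
        exact commutator_eq_bot_iff_le_centralizer.2 h1
      have h3 := commutator_eq_bot_of_perfect (IsComponent.commutator_eq hL) h2
      have hLx : L ≤ centralizer {x} := by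
        intro l hl
        rw [mem_centralizer_singleton_iff]
        exact (commutator_eq_bot_iff_forall_commute.1 h3) l hl x (mem_zpowers x)
      exact commutator_centralizerPPrimeCore_eq_bot_of_le_centralizer hO hL hLx
  · exact commutator_centralizerPPrimeCore_eq_bot_of_map_conj_ne hO hx hL hB

end Cfsg.Agent.Helper7
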