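import Mathlib
import Cfsg.Prelude.Def_Local
import Cfsg.Agent.Helper7.CoreComponent
import Cfsg.Agent.Helper7.PComponent
import Cfsg.Agent.Helper7.PConstrained
import Cfsg.Agent.Helper7.FStar
import Cfsg.Agent.Lead.ThompsonPQ
import Cfsg.Agent.Helper7.ExtLayer
import Cfsg.Agent.Helper7.Connected

set_option autoImplicit false
set_option linter.style.haveILetI false
set_option linter.unusedSectionVars false

/-! # `O(C_X(t))` normalises the `t`-invariant components (towards S1328) -/

namespace Cfsg.Agent.Helper7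

open Subgroup Cfsg
open scoped Pointwise commutatorElement
open Cfsg.Agent.Helper14 (pCore_isPGroup le_pCore pCore_characteristic)

universe u

variable {X : Type u} [Group X] [Finite X]

/-- The centre of a component has even index (when `O(X) = 1`). -/
theorem two_dvd_index_center_of_isComponent (hO : pPrimeCore 2 X = ⊥) {L : Subgroup X}
    (hL : IsComponent L) : 2 ∣ (center L).index := by
  haveI : Fact (Nat.Prime 2) := ⟨Nat.prime_two⟩
  by_contra h
  have hcop : ((center L).index).Coprime 2 :=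
    (Nat.Prime.coprime_iff_not_dvd Nat.prime_two).2 h |>.symm
  have := IsComponent.eq_top_of_normal_of_index_coprime hO hL (center L) hcop
  exact IsQuasisimple.center_ne_top hL.2 this

/-- A `t`-fixed coset of `Z(L)` in `L` of order `2`. -/
theorem exists_fixed_coset (hO : pPrimeCore 2 X = ⊥) {t : X} (ht : orderOf t = 2)
    {L : Subgroup X} (hL : IsComponent L) (hLt : L.map (MulAut.conj t).toMonoidHom = L) :
    ∃ s ∈ L, s ∉ (center L).map L.subtype ∧ s ^ 2 ∈ (center L).map L.subtype ∧
      s⁻¹ * (t * s * t⁻¹) ∈ (center L).map L.subtype := by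
  classical
  haveI : Fact (Nat.Prime 2) := ⟨Nat.prime_two⟩
  have ht2 : t * t = 1 := by
    have := pow_orderOf_eq_one t
    rwa [ht, pow_two] at this
  -- the automorphism of `L` induced by `t`
  let τ : L ≃* L := (L.equivMapOfInjective _ (MulAut.conj t).injective).trans
    (MulEquiv.subgroupCongr hLt)
  have hτ : ∀ x : L, ((τ x : L) : X) = t * x * t⁻¹ := fun x => rfl
  have hττ : ∀ x : L, τ (τ x) = x := by
    intro x
    apply Subtype.ext
    rw [hτ, hτ]
    have : t⁻¹ = t := inv_eq_of_mul_eq_one_left ht2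
    rw [this]
    calc t * (t * x * t) * t = (t * t) * x * (t * t) := by group
      _ = x := by rw [ht2, one_mul, mul_one]
  have hchar : (center L).map (τ : L →* L) = center L :=
    (Subgroup.characteristic_iff_map_eq.1 inferInstance) τ
  let τbar : (L ⧸ center L) ≃* (L ⧸ center L) := QuotientGroup.congr (center L) (center L) τ hchar
  have hτbar : ∀ x : L, τbar (x : L ⧸ center L) = ((τ x : L) : L ⧸ center L) := fun x => rfl
  haveI : Fintype (L ⧸ center L) := Fintype.ofFinite _
  let σ : Equiv.Perm (L ⧸ center L) := τbar.toEquiv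
  have hσ2 : σ ^ 2 ^ 1 = 1 := by
    ext q
    induction q using QuotientGroup.induction_on with
    | H x =>
      rw [pow_one, pow_two, Equiv.Perm.mul_apply, Equiv.Perm.one_apply]
      show τbar (τbar (x : L ⧸ center L)) = _
      rw [hτbar, hτbar, hττ]
  have hcard := Equiv.Perm.card_compl_support_modEq hσ2
  have heven : 2 ∣ Fintype.card (L ⧸ center L) := by
    rw [← Nat.card_eq_fintype_card]
    exact two_dvd_index_center_of_isComponent hO hL
  have hfix : 2 ∣ σ.supportᶜ.card := (Nat.ModEq.dvd_iff hcard (dvd_refl 2)).2 heven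
  -- the fixed subgroup
  let Fix : Subgroup (L ⧸ center L) := (τbar : (L ⧸ center L) →* (L ⧸ center L)).eqLocus
    (MonoidHom.id _)
  have hFixmem : ∀ q, q ∈ Fix ↔ τbar q = q := fun q => Iff.rfl
  have hFixcard : Nat.card Fix = σ.supportᶜ.card := by
    have hset : (Fix : Set (L ⧸ center L)) = ↑(σ.supportᶜ) := by
      ext q
      rw [Finset.mem_coe, Finset.mem_compl, Equiv.Perm.mem_support, not_not]
      exact hFixmem q
    calc Nat.card Fix = Nat.card ↥(Fix : Set (L ⧸ center L)) := rfl
      _ = Nat.card ↥((σ.supportᶜ : Finset (L ⧸ center L)) : Set (L ⧸ center L)) := by rw [hset]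
      _ = σ.supportᶜ.card := by rw [Nat.card_coe_set_eq, Set.ncard_coe_finset]
  obtain ⟨q, hq⟩ := exists_prime_orderOf_dvd_card' (G := Fix) 2 (by rw [hFixcard]; exact hfix)
  obtain ⟨s, hs⟩ := QuotientGroup.mk_surjective (q : L ⧸ center L)
  have hq1 : (q : L ⧸ center L) ≠ 1 := by
    intro h
    have : q = 1 := Subtype.ext h
    rw [this, orderOf_one] at hq
    omega
  have hq2 : (q : L ⧸ center L) ^ 2 = 1 := by
    have := pow_orderOf_eq_one q
    rw [hq] at this
    exact congrArg Subtype.val this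
  have hqfix : τbar (q : L ⧸ center L) = q := (hFixmem _).1 q.2
  rw [← hs] at hq1 hq2 hqfix
  have hmem : ∀ x : L, (x : X) ∈ (center L).map L.subtype ↔ x ∈ center L := by
    intro x
    constructor
    · rintro ⟨y, hy, hyx⟩
      have : y = x := Subtype.ext hyx
      rwa [← this]
    · intro h
      exact ⟨x, h, rfl⟩
  refine ⟨s, s.2, ?_, ?_, ?_⟩
  · rw [hmem]
    intro h
    exact hq1 ((QuotientGroup.eq_one_iff s).2 h)
  · have : ((s ^ 2 : L) : X) ∈ (center L).map L.subtype := by
      rw [hmem]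
      rw [← QuotientGroup.mk_pow] at hq2
      exact (QuotientGroup.eq_one_iff _).1 hq2
    simpa using this
  · have : ((s⁻¹ * τ s : L) : X) ∈ (center L).map L.subtype := by
      rw [hmem]
      rw [hτbar] at hqfix
      exact QuotientGroup.eq.1 hqfix.symm
    simpa [hτ] using this

/-- `O(C_X(t))` centralises `O_2(X)` (Thompson's `A × B` lemma). -/
theorem centralizerPPrimeCore_le_centralizer_pCore {t : X} (ht : orderOf t = 2) :
    centralizerPPrimeCore 2 t ≤ centralizer (pCore 2 X : Set X) := by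
  haveI : Fact (Nat.Prime 2) := ⟨Nat.prime_two⟩
  set D := centralizerPPrimeCore 2 t with hD
  set U := pCore 2 X with hU
  have hUp : IsPGroup 2 U := pCore_isPGroup 2
  haveI hUnorm : U.Normal := Cfsg.pCore_normal 2 X
  have hUn : normalizer (U : Set X) = ⊤ := normalizer_eq_top_iff.2 hUnorm
  have hDC : D ≤ centralizer ({t} : Set X) := centralizerPPrimeCore_le 2 t
  have hCD : centralizer ({t} : Set X) ≤ normalizer (D : Set X) := by
    have h1 := normalizer_zpowers_le_normalizer_centralizerPPrimeCore 2 t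
    refine le_trans ?_ h1
    rw [← centralizer_zpowers_eq]
    exact centralizer_le_normalizer _
  have hDcop : (Nat.card D).Coprime 2 := card_centralizerPPrimeCore_coprime 2 t
  have hP : IsPGroup 2 (zpowers t) := by
    apply IsPGroup.of_card (n := 1)
    rw [Nat.card_zpowers, ht, pow_one]
  apply Cfsg.Agent.Lead.thompson_PQ 2 (zpowers t) D U hP hDcop hUp
  · rw [zpowers_le, mem_centralizer_iff]
    intro d hd
    exact mem_centralizer_singleton_iff.1 (hDC hd)
  · rw [hUn]; exact le_top
  · rw [hUn]; exact le_top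
  · intro u hu
    rw [mem_centralizer_iff]
    intro d hd
    have huC : u ∈ centralizer ({t} : Set X) := by
      have := hu.2
      rw [centralizer_zpowers_eq] at this
      exact this
    have h1 : u * d⁻¹ * u⁻¹ ∈ D := (mem_normalizer_iff.1 (hCD huC) _).1 (D.inv_mem hd)
    have h2 : d * u * d⁻¹ ∈ U := hUnorm.conj_mem u hu.1 d
    have hmemD : d * (u * d⁻¹ * u⁻¹) ∈ D := D.mul_mem hd h1
    have hmemU : (d * u * d⁻¹) * u⁻¹ ∈ U := U.mul_mem h2 (U.inv_mem hu.1)
    have e : d * (u * d⁻¹ * u⁻¹) = (d * u * d⁻¹) * u⁻¹ := by group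
    rw [e] at hmemD
    have hdis : Disjoint D U := by
      apply Subgroup.disjoint_of_coprime_natCard
      obtain ⟨k, hk⟩ := IsPGroup.iff_card.1 hUp
      rw [hk]
      exact Nat.Coprime.pow_right _ hDcop
    have h3 : (d * u * d⁻¹) * u⁻¹ = 1 := by
      have : (d * u * d⁻¹) * u⁻¹ ∈ D ⊓ U := ⟨hmemD, hmemU⟩
      rwa [disjoint_iff.1 hdis, mem_bot] at this
    calc d * u = (d * u * d⁻¹ * u⁻¹) * (u * d) := by group
      _ = u * d := by rw [h3, one_mul]

/-- The centre of a component lies in `O_2(X)` when `O(X) = 1`. -/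
theorem map_center_component_le_pCore (hO : pPrimeCore 2 X = ⊥) {L : Subgroup X}
    (hL : IsComponent L) : (center L).map L.subtype ≤ pCore 2 X := by
  haveI : Fact (Nat.Prime 2) := ⟨Nat.prime_two⟩
  rw [← fittingSubgroup_eq_pCore_of_pPrimeCore_eq_bot hO]
  apply subnormal_nilpotent_le_fittingSubgroup
  · exact (Subgroup.Normal.isSubnormal (inferInstance : (center L).Normal)).trans' hL.1
  · haveI : IsMulCommutative ((center L).map L.subtype) := Subgroup.map_isMulCommutative _ _
    exact isNilpotent_of_isMulCommutative _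

theorem centralizer_le_normalizer_centralizerPPrimeCore (p : ℕ) (t : X) :
    centralizer ({t} : Set X) ≤ normalizer ((centralizerPPrimeCore p t : Subgroup X) : Set X) := by
  have h1 := normalizer_zpowers_le_normalizer_centralizerPPrimeCore p t
  refine le_trans ?_ h1
  rw [← centralizer_zpowers_eq]
  exact centralizer_le_normalizer _

/-- `O(C_X(t))` normalises every `t`-invariant component of `X` (when `O(X) = 1`). -/
theorem centralizerPPrimeCore_le_normalizer_component (hO : pPrimeCore 2 X = ⊥) {t : X}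
    (ht : orderOf t = 2) {L : Subgroup X} (hL : IsComponent L)
    (hLt : L.map (MulAut.conj t).toMonoidHom = L) :
    centralizerPPrimeCore 2 t ≤ normalizer (L : Set X) := by
  haveI : Fact (Nat.Prime 2) := ⟨Nat.prime_two⟩
  set D := centralizerPPrimeCore 2 t with hD
  set Z := (center L).map L.subtype with hZ
  have hZeq : Z = L ⊓ centralizer (L : Set X) := map_subtype_center L
  have hDC : D ≤ centralizer ({t} : Set X) := centralizerPPrimeCore_le 2 t
  have hCD : centralizer ({t} : Set X) ≤ normalizer (D : Set X) :=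
    centralizer_le_normalizer_centralizerPPrimeCore 2 t
  have hDcop : (Nat.card D).Coprime 2 := card_centralizerPPrimeCore_coprime 2 t
  have hDZ : D ≤ centralizer (Z : Set X) :=
    (centralizerPPrimeCore_le_centralizer_pCore ht).trans
      (centralizer_le (map_center_component_le_pCore hO hL))
  obtain ⟨s, hsL, hsZ0, hs20, hst0⟩ := exists_fixed_coset hO ht hL hLt
  have hsZ : s ∉ Z := hsZ0
  have hs2 : s ^ 2 ∈ Z := hs20
  have hst : s⁻¹ * (t * s * t⁻¹) ∈ Z := hst0
  clear hsZ0 hs20 hst0
  intro y hy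
  by_contra hyN
  set L₁ := L.map (MulAut.conj y).toMonoidHom with hL₁
  set L₂ := L₁.map (MulAut.conj y).toMonoidHom with hL₂
  have hc1 : IsComponent L₁ := isComponent_map_conj hL y
  have hc2 : IsComponent L₂ := isComponent_map_conj hc1 y
  have hne1 : L₁ ≠ L := fun h => hyN (mem_normalizer_iff_map_conj_eq'.2 h)
  have hne12 : L₂ ≠ L₁ := by
    intro h
    have hy1 : y ∈ normalizer (L₁ : Set X) := mem_normalizer_iff_map_conj_eq'.2 h
    have h2 := mem_normalizer_iff_map_conj_eq'.1 (inv_mem hy1)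
    apply hne1
    rw [← h2, hL₁, map_conj_inv_map_conj]
  have hne2 : L₂ ≠ L := by
    intro h
    have h2 : L.map (MulAut.conj (y ^ 2)).toMonoidHom = L := by
      rw [pow_two, map_conj_mul]; exact h
    have hy2 : y ^ 2 ∈ normalizer (L : Set X) := mem_normalizer_iff_map_conj_eq'.2 h2
    have hodd : (orderOf y).Coprime 2 := by
      have := orderOf_dvd_natCard (⟨y, hy⟩ : D)
      rw [Subgroup.orderOf_mk] at this
      exact Nat.Coprime.coprime_dvd_left this hDcop
    exact hyN ((zpowers_le.2 hy2) (mem_zpowers_pow_of_coprime hodd))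
  -- commutation between the three components
  have hcomm01 : ∀ a ∈ L, ∀ b ∈ L₁, a * b = b * a :=
    commutator_eq_bot_iff_forall_commute.1 (components_commute hL hc1 hne1.symm)
  have hcomm02 : ∀ a ∈ L, ∀ b ∈ L₂, a * b = b * a :=
    commutator_eq_bot_iff_forall_commute.1 (components_commute hL hc2 hne2.symm)
  -- the elements
  set s₁ := y * s * y⁻¹ with hs₁
  set s₂ := y * s₁ * y⁻¹ with hs₂
  have hs₁L : s₁ ∈ L₁ := ⟨s, hsL, rfl⟩
  have hs₂L : s₂ ∈ L₂ := ⟨s₁, hs₁L, rfl⟩
  set z := s⁻¹ * (t * s * t⁻¹) with hz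
  have hzL : z ∈ L := (hZeq ▸ hst : z ∈ L ⊓ centralizer (L : Set X)).1
  have hzc : z ∈ centralizer (L : Set X) := (hZeq ▸ hst : z ∈ L ⊓ centralizer (L : Set X)).2
  have hty : t * y = y * t := (mem_centralizer_singleton_iff.1 (hDC hy)).symm
  have hyz : y * z = z * y := ((mem_centralizer_iff.1 (hDZ hy)) z hst).symm
  have hzs : z * s = s * z := (mem_centralizer_iff.1 hzc) s hsL |>.symm
  have hzs₁ : z * s₁ = s₁ * z := hcomm01 z hzL s₁ hs₁L
  have hts : t * s * t⁻¹ = s * z := by rw [hz]; group
  set u := s⁻¹ * s₁ with hu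
  have hut : u ∈ centralizer ({t} : Set X) := by
    rw [mem_centralizer_singleton_iff]
    have h1 : t * s₁ * t⁻¹ = s₁ * z := by
      have hty' : t⁻¹ * y⁻¹ = y⁻¹ * t⁻¹ := by
        rw [← mul_inv_rev, ← mul_inv_rev, hty]
      calc t * s₁ * t⁻¹ = (t * y) * s * (y⁻¹ * t⁻¹) := by rw [hs₁]; group
        _ = (y * t) * s * (t⁻¹ * y⁻¹) := by rw [hty, hty']
        _ = y * (t * s * t⁻¹) * y⁻¹ := by group
        _ = y * (s * z) * y⁻¹ := by rw [hts]
        _ = (y * s * y⁻¹) * (y * z) * y⁻¹ := by group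
        _ = (y * s * y⁻¹) * (z * y) * y⁻¹ := by rw [hyz]
        _ = s₁ * z := by rw [hs₁]; group
    have h2 : t * u * t⁻¹ = u := by
      calc t * u * t⁻¹ = (t * s * t⁻¹)⁻¹ * (t * s₁ * t⁻¹) := by rw [hu]; group
        _ = (s * z)⁻¹ * (s₁ * z) := by rw [hts, h1]
        _ = z⁻¹ * s⁻¹ * (z * s₁) := by rw [hzs₁]; group
        _ = z⁻¹ * (s⁻¹ * z) * s₁ := by group
        _ = z⁻¹ * (z * s⁻¹) * s₁ := by
            have : s⁻¹ * z = z * s⁻¹ := by
              have := hzs
              calc s⁻¹ * z = s⁻¹ * (z * s) * s⁻¹ := by group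
                _ = s⁻¹ * (s * z) * s⁻¹ := by rw [this]
                _ = z * s⁻¹ := by group
            rw [this]
        _ = u := by rw [hu]; group
    symm
    calc t * u = (t * u * t⁻¹) * t := by group
      _ = u * t := by rw [h2]
  -- `w = u⁻¹ (y u y⁻¹) ∈ D`
  set w := u⁻¹ * (y * u * y⁻¹) with hw
  have hwD : w ∈ D := by
    have h1 : u⁻¹ * y * u⁻¹⁻¹ ∈ D := (mem_normalizer_iff.1 (hCD (inv_mem hut)) y).1 hy
    have : w = (u⁻¹ * y * u⁻¹⁻¹) * y⁻¹ := by rw [hw]; group
    rw [this]
    exact D.mul_mem h1 (D.inv_mem hy)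
  set r := s₁⁻¹ * s₁⁻¹ * s₂ with hr
  have hrc : r ∈ centralizer (L : Set X) := by
    have h1 : L₁ ≤ centralizer (L : Set X) :=
      commutator_eq_bot_iff_le_centralizer.1 (components_commute hc1 hL hne1)
    have h2 : L₂ ≤ centralizer (L : Set X) :=
      commutator_eq_bot_iff_le_centralizer.1 (components_commute hc2 hL hne2)
    exact mul_mem (mul_mem (inv_mem (h1 hs₁L)) (inv_mem (h1 hs₁L))) (h2 hs₂L)
  have hwsr : w = s * r := by
    have hss₁ : s * s₁⁻¹ = s₁⁻¹ * s := by
      have := hcomm01 s hsL s₁ hs₁L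
      calc s * s₁⁻¹ = s₁⁻¹ * (s₁ * s) * s₁⁻¹ := by group
        _ = s₁⁻¹ * (s * s₁) * s₁⁻¹ := by rw [this]
        _ = s₁⁻¹ * s := by group
    calc w = s₁⁻¹ * s * s₁⁻¹ * (y * s₁ * y⁻¹) := by rw [hw, hu, hs₁]; group
      _ = (s₁⁻¹ * s) * s₁⁻¹ * s₂ := by rw [hs₂]
      _ = (s * s₁⁻¹) * s₁⁻¹ * s₂ := by rw [hss₁]
      _ = s * r := by rw [hr]; group
  have hsr : Commute s r := ((mem_centralizer_iff.1 hrc) s hsL)
  -- the order of `w` is odd
  set m := orderOf w with hm
  have hmodd : m.Coprime 2 := by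
    have := orderOf_dvd_natCard (⟨w, hwD⟩ : D)
    rw [Subgroup.orderOf_mk] at this
    exact Nat.Coprime.coprime_dvd_left this hDcop
  have hwm : s ^ m * r ^ m = 1 := by
    rw [← hsr.mul_pow, ← hwsr]; exact pow_orderOf_eq_one w
  have hsmZ : s ^ m ∈ Z := by
    rw [hZeq]
    refine Subgroup.mem_inf.2 ⟨pow_mem hsL m, ?_⟩
    have : s ^ m = (r ^ m)⁻¹ := eq_inv_of_mul_eq_one_left hwm
    rw [this]
    exact Subgroup.inv_mem _ (Subgroup.pow_mem _ hrc m)
  -- hence `s ∈ Z`
  apply hsZ
  have hmod : m % 2 = 1 := by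
    rcases Nat.mod_two_eq_zero_or_one m with h | h
    · exfalso
      have : 2 ∣ m := Nat.dvd_of_mod_eq_zero h
      have := Nat.Coprime.eq_one_of_dvd hmodd.symm this
      omega
    · exact h
  have hm2 : m = 2 * (m / 2) + 1 := by omega
  have : s = s ^ m * ((s ^ 2) ^ (m / 2))⁻¹ := by
    have e : s ^ m = (s ^ 2) ^ (m / 2) * s := by
      conv_lhs => rw [hm2]
      rw [pow_succ, pow_mul]
    rw [e]
    have hc : Commute ((s ^ 2) ^ (m / 2)) s := ((Commute.refl s).pow_left 2).pow_left _
    calc s = s * ((s ^ 2) ^ (m / 2) * ((s ^ 2) ^ (m / 2))⁻¹) := by rw [mul_inv_cancel, mul_one]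
      _ = (s * (s ^ 2) ^ (m / 2)) * ((s ^ 2) ^ (m / 2))⁻¹ := by group
      _ = ((s ^ 2) ^ (m / 2) * s) * ((s ^ 2) ^ (m / 2))⁻¹ := by rw [hc.eq]
  rw [this]
  exact Z.mul_mem hsmZ (Z.inv_mem (Z.pow_mem hs2 _))

/-- The abstract form of S1328: `O(X) = 1`, `t` an involution and `1 ≠ Y ≤ O(C_X(t))`. -/
theorem exists_component_of_le_core (hO : pPrimeCore 2 X = ⊥) {t : X} (ht : orderOf t = 2)
    {Y : Subgroup X} (hY1 : Y ≠ ⊥) (hY : Y ≤ centralizerPPrimeCore 2 t) :
    ∃ L : Subgroup X, IsComponent L ∧ L.map (MulAut.conj t).toMonoidHom = L ∧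
      Y ≤ normalizer (L : Set X) ∧ t ∉ centralizer (L : Set X) ∧
      ¬ Y ≤ centralizer (L : Set X) := by
  haveI : Fact (Nat.Prime 2) := ⟨Nat.prime_two⟩
  by_contra hcon
  set D := centralizerPPrimeCore 2 t with hD
  have hDcop : (Nat.card D).Coprime 2 := card_centralizerPPrimeCore_coprime 2 t
  have hall : ∀ L : Subgroup X, IsComponent L → Y ≤ centralizer (L : Set X) := by
    intro L hL
    by_cases h1 : L.map (MulAut.conj t).toMonoidHom = L
    · by_cases h2 : t ∈ centralizer (L : Set X)
      · have hLt : L ≤ centralizer ({t} : Set X) := by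
          intro l hl
          rw [mem_centralizer_singleton_iff]
          exact ((mem_centralizer_iff.1 h2) l hl)
        have := commutator_centralizerPPrimeCore_eq_bot_of_le_centralizer (p := 2) hO hL hLt
        rw [commutator_comm, commutator_eq_bot_iff_le_centralizer] at this
        exact hY.trans this
      · by_contra h3
        exact hcon ⟨L, hL, h1,
          hY.trans (centralizerPPrimeCore_le_normalizer_component hO ht hL h1), h2, h3⟩
    · have := commutator_centralizerPPrimeCore_eq_bot_of_map_conj_ne (p := 2) hO ht hL h1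
      rw [commutator_comm, commutator_eq_bot_iff_le_centralizer] at this
      exact hY.trans this
  have h1 : layer X ≤ centralizer (Y : Set X) := by
    rw [layer_le_iff]
    intro L hL
    exact le_centralizer_iff.1 (hall L hL)
  have h2 : fittingSubgroup X ≤ centralizer (Y : Set X) := by
    rw [fittingSubgroup_eq_pCore_of_pPrimeCore_eq_bot hO]
    exact le_centralizer_iff.1 (hY.trans (centralizerPPrimeCore_le_centralizer_pCore ht))
  have h3 : Y ≤ centralizer (generalizedFittingSubgroup X : Set X) :=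
    le_centralizer_iff.1 (sup_le h1 h2)
  set N := generalizedFittingSubgroup X ⊓ centralizer (generalizedFittingSubgroup X : Set X)
    with hN
  have hYN : Y ≤ N := le_inf (h3.trans centralizer_generalizedFitting_le) h3
  have hNnormal : N.Normal := by
    haveI : (centralizer (generalizedFittingSubgroup X : Set X)).Normal := normal_centralizer
    infer_instance
  have hNcomm : IsMulCommutative N := by
    refine ⟨⟨fun a b => ?_⟩⟩
    apply Subtype.ext
    exact ((mem_centralizer_iff.1 a.2.2) b b.2.1).symm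
  have hNF : N ≤ pCore 2 X := by
    rw [← fittingSubgroup_eq_pCore_of_pPrimeCore_eq_bot hO]
    exact le_fittingSubgroup hNnormal (isNilpotent_of_isMulCommutative _)
  have hY2 : IsPGroup 2 Y := (pCore_isPGroup 2).to_le (hYN.trans hNF)
  obtain ⟨k, hk⟩ := IsPGroup.iff_card.1 hY2
  have hYcop : (Nat.card Y).Coprime 2 :=
    Nat.Coprime.coprime_dvd_left (card_dvd_of_le hY) hDcop
  apply hY1
  rw [← card_eq_one]
  rcases k with _ | k
  · rw [hk, pow_zero]
  · exfalso
    rw [hk] at hYcop
    have : 2 ∣ Nat.gcd (2 ^ (k + 1)) 2 := Nat.dvd_gcd (dvd_pow_self 2 (Nat.succ_ne_zero k)) dvd_rfl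
    rw [hYcop] at this
    omega

end Cfsg.Agent.Helper7
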