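import Mathlib
import Cfsg.Prelude.Def_Local
import Cfsg.Prelude.Def_CaseTheorems
import Cfsg.Agent.Helper7.CoreNormalizes
import Cfsg.Agent.Lead.Compl

set_option autoImplicit false
set_option linter.style.haveILetI false
set_option linter.unusedSectionVars false

/-! # Transport to `H⟨t⟩` for S1328 -/

namespace Cfsg.Agent.Helper7

open Subgroup Cfsg
open scoped Pointwise commutatorElement
open Cfsg.Agent.Helper19 (pPrimeCore_coprime)

universe u

variable {G : Type u} [Group G] [Finite G]

/-- A normal subgroup of `C` of order prime to `p` lies in `O_{p'}(C)`. -/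
theorem le_map_pPrimeCore_of_le_normalizer {p : ℕ} {C W : Subgroup G} (hWC : W ≤ C)
    (hCW : C ≤ normalizer (W : Set G)) (hW : (Nat.card W).Coprime p) :
    W ≤ (pPrimeCore p C).map C.subtype := by
  have h1 : W.subgroupOf C ≤ pPrimeCore p C := by
    apply le_pPrimeCore ((normal_subgroupOf_iff_le_normalizer hWC).2 hCW)
    rwa [Cfsg.Agent.Helper17.card_subgroupOf_of_le hWC]
  have h2 := map_mono (f := C.subtype) h1
  rwa [map_subgroupOf_eq_of_le hWC] at h2

/-- Squares of elements of `H⟨t⟩` lie in `H`. -/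
theorem sq_mem_of_mem_sup_zpowers {H : Subgroup G} {t : G} (ht2 : t ^ 2 = 1)
    (htH : t ∈ normalizer (H : Set G)) {x : G} (hx : x ∈ H ⊔ zpowers t) : x ^ 2 ∈ H := by
  have hz : zpowers t ≤ normalizer (H : Set G) := zpowers_le.2 htH
  obtain ⟨h, hh, z, hz', rfl⟩ := (mem_sup_of_le_normalizer hz).1 hx
  have hz2 : z ^ 2 = 1 := by
    obtain ⟨k, rfl⟩ := mem_zpowers_iff.1 hz'
    rw [← zpow_natCast, ← zpow_mul, mul_comm, zpow_mul, zpow_natCast, ht2, one_zpow]
  have hzinv : z⁻¹ = z := by
    rw [inv_eq_iff_mul_eq_one, ← pow_two, hz2]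
  have e : (h * z) ^ 2 = h * (z * h * z⁻¹) := by
    rw [hzinv, pow_two]
    group
  rw [e]
  exact H.mul_mem hh ((mem_normalizer_iff.1 (hz hz') h).1 hh)

theorem sup_zpowers_le_normalizer {H : Subgroup G} {t : G} (htH : t ∈ normalizer (H : Set G)) :
    H ⊔ zpowers t ≤ normalizer (H : Set G) :=
  sup_le le_normalizer (zpowers_le.2 htH)

/-- An element of odd order all of whose... squares lie in `H` lies in `H`. -/
theorem mem_of_sq_mem_of_odd {H : Subgroup G} {x : G} (hx2 : x ^ 2 ∈ H)
    (hodd : (orderOf x).Coprime 2) : x ∈ H := by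
  have hmod : orderOf x % 2 = 1 := by
    rcases Nat.mod_two_eq_zero_or_one (orderOf x) with h | h
    · exfalso
      have : 2 ∣ orderOf x := Nat.dvd_of_mod_eq_zero h
      have := Nat.Coprime.eq_one_of_dvd hodd.symm this
      omega
    · exact h
  have e : x = (x ^ 2) ^ ((orderOf x + 1) / 2) := by
    rw [← pow_mul]
    have : 2 * ((orderOf x + 1) / 2) = orderOf x + 1 := by omega
    rw [this, pow_succ, pow_orderOf_eq_one, one_mul]
  rw [e]
  exact H.pow_mem hx2 _

/-- `O(K) = 1` when `O(H) = 1`, `H ⊴ K` and `K / H` has exponent `2`. -/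
theorem pPrimeCore_eq_bot_of_sq_mem {H K : Subgroup G} (hHK : H ≤ K)
    (hKN : K ≤ normalizer (H : Set G)) (hsq : ∀ x ∈ K, x ^ 2 ∈ H)
    (hO : pPrimeCore 2 H = ⊥) : pPrimeCore 2 K = ⊥ := by
  haveI : Fact (Nat.Prime 2) := ⟨Nat.prime_two⟩
  set O := pPrimeCore 2 K with hOdef
  have hOcop : (Nat.card O).Coprime 2 := pPrimeCore_coprime 2
  set OG := O.map K.subtype with hOG
  have hOGK : OG ≤ K := map_subtype_le _
  have hOGcard : Nat.card OG = Nat.card O := card_map_of_injective K.subtype_injective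
  have hOGH : OG ≤ H := by
    intro x hx
    apply mem_of_sq_mem_of_odd (hsq x (hOGK hx))
    have := orderOf_dvd_natCard (⟨x, hx⟩ : OG)
    rw [Subgroup.orderOf_mk] at this
    exact Nat.Coprime.coprime_dvd_left this (hOGcard ▸ hOcop)
  have hKOG : K ≤ normalizer (OG : Set G) := by
    have h := Cfsg.Agent.Lead.normalizer_le_normalizer_map_of_characteristic K (pPrimeCore 2 K)
    exact le_normalizer.trans h
  have h1 := le_map_pPrimeCore_of_le_normalizer (p := 2) hOGH (hHK.trans hKOG)
    (hOGcard ▸ hOcop)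
  rw [hO, Subgroup.map_bot, le_bot_iff] at h1
  rw [hOG] at h1
  exact (map_eq_bot_iff_of_injective _ K.subtype_injective).1 h1

/-- A component of `K` lies in `H` when `K / H` has exponent `2`. -/
theorem map_component_le_of_sq_mem {H K : Subgroup G} (hKN : K ≤ normalizer (H : Set G))
    (hsq : ∀ x ∈ K, x ^ 2 ∈ H) {L : Subgroup K} (hL : IsComponent L) :
    L.map K.subtype ≤ H := by
  have hperf : ⁅L, L⁆ = L := IsComponent.commutator_eq hL
  have hle : ⁅L, L⁆ ≤ H.subgroupOf K := by
    rw [commutator_le]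
    intro a _ b _
    rw [mem_subgroupOf]
    have e : ((⁅a, b⁆ : K) : G) = ((a : G) * b) ^ 2 * ((b : G)⁻¹ * ((a : G)⁻¹) ^ 2 * (b : G)⁻¹⁻¹) *
        ((b : G)⁻¹) ^ 2 := by
      rw [commutatorElement_def]
      push_cast
      rw [pow_two, pow_two, pow_two]
      group
    rw [e]
    have h1 : ((a : G) * b) ^ 2 ∈ H := hsq _ (K.mul_mem a.2 b.2)
    have h2 : ((a : G)⁻¹) ^ 2 ∈ H := hsq _ (K.inv_mem a.2)
    have h3 : ((b : G)⁻¹) ^ 2 ∈ H := hsq _ (K.inv_mem b.2)
    have h4 : (b : G)⁻¹ * ((a : G)⁻¹) ^ 2 * (b : G)⁻¹⁻¹ ∈ H :=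
      (mem_normalizer_iff.1 (hKN (K.inv_mem b.2)) _).1 h2
    exact H.mul_mem (H.mul_mem h1 h4) h3
  rw [hperf] at hle
  rintro _ ⟨l, hl, rfl⟩
  exact mem_subgroupOf.1 (hle hl)

/-- A component of `K` gives a component of `H`. -/
theorem isComponent_subgroupOf_of_sq_mem {H K : Subgroup G} (hHK : H ≤ K)
    (hKN : K ≤ normalizer (H : Set G)) (hsq : ∀ x ∈ K, x ^ 2 ∈ H) {L : Subgroup K}
    (hL : IsComponent L) : IsComponent ((L.map K.subtype).subgroupOf H) := by
  have hLH : L.map K.subtype ≤ H := map_component_le_of_sq_mem hKN hsq hL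
  have hLH' : L ≤ H.subgroupOf K := by
    intro l hl
    rw [mem_subgroupOf]
    exact hLH ⟨l, hl, rfl⟩
  have h1 : IsComponent (L.subgroupOf (H.subgroupOf K)) := isComponent_subgroupOf hL hLH'
  have h2 := isComponent_map_equiv (subgroupOfEquivOfLe hHK) h1
  have heq : (L.subgroupOf (H.subgroupOf K)).map (subgroupOfEquivOfLe hHK).toMonoidHom =
      (L.map K.subtype).subgroupOf H := by
    ext x
    rw [mem_subgroupOf]
    constructor
    · rintro ⟨y, hy, rfl⟩
      have hy' : y ∈ L.subgroupOf (H.subgroupOf K) := hy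
      rw [mem_subgroupOf] at hy'
      exact ⟨(y : K), hy', rfl⟩
    · rintro ⟨l, hl, hlx⟩
      have hlx' : (l : G) = x := hlx
      refine ⟨⟨l, ?_⟩, ?_, ?_⟩
      · rw [mem_subgroupOf, hlx']; exact x.2
      · show (⟨l, _⟩ : H.subgroupOf K) ∈ L.subgroupOf (H.subgroupOf K)
        rw [mem_subgroupOf]; exact hl
      · apply Subtype.ext
        exact hlx'
  rw [heq] at h2
  exact h2

/-- Conjugation commutes with the inclusion of a subgroup. -/
theorem map_conj_map_subtype {K : Subgroup G} (k : K) (S : Subgroup K) :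
    (S.map (MulAut.conj k).toMonoidHom).map K.subtype =
      (S.map K.subtype).map (MulAut.conj (k : G)).toMonoidHom :=
  Cfsg.Agent.Lead.map_conj_smul K.subtype k S

theorem mem_normalizer_map_subtype_of_mem {K : Subgroup G} {k : K} {S : Subgroup K}
    (h : k ∈ normalizer (S : Set K)) : (k : G) ∈ normalizer ((S.map K.subtype : Subgroup G) : Set G) := by
  rw [mem_normalizer_iff_map_conj_eq'] at h ⊢
  rw [← map_conj_map_subtype, h]

theorem mem_centralizer_of_mem_centralizer_map_subtype {K : Subgroup G} {k : K} {S : Subgroup K}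
    (h : (k : G) ∈ centralizer ((S.map K.subtype : Subgroup G) : Set G)) :
    k ∈ centralizer (S : Set K) := by
  rw [mem_centralizer_iff] at h ⊢
  intro s hs
  apply Subtype.ext
  exact h (s : G) ⟨s, hs, rfl⟩

/-- S1328. -/
theorem exists_component_normalized (H : Subgroup G) (hO : oddCore H = ⊥) (t : G)
    (ht : orderOf t = 2) (htH : t ∈ normalizer (H : Set G)) (Y : Subgroup G) (hY1 : Y ≠ ⊥)
    (hY : Y ≤ (oddCore (H ⊓ centralizer ({t} : Set G) : Subgroup G)).map
      (H ⊓ centralizer ({t} : Set G)).subtype) :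
    ∃ E : Subgroup H, IsComponent E ∧
      (E.map H.subtype).map (MulAut.conj t).toMonoidHom = E.map H.subtype ∧
      Y ≤ normalizer ((E.map H.subtype : Subgroup G) : Set G) ∧
      ¬ (t ∈ centralizer ((E.map H.subtype : Subgroup G) : Set G)) ∧
      ¬ (Y ≤ centralizer ((E.map H.subtype : Subgroup G) : Set G)) := by
  haveI : Fact (Nat.Prime 2) := ⟨Nat.prime_two⟩
  have ht2 : t ^ 2 = 1 := by rw [← ht]; exact pow_orderOf_eq_one t
  set K := H ⊔ zpowers t with hK
  have hHK : H ≤ K := le_sup_left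
  have htK : t ∈ K := le_sup_right (α := Subgroup G) (mem_zpowers t)
  have hKN : K ≤ normalizer (H : Set G) := sup_zpowers_le_normalizer htH
  have hsq : ∀ x ∈ K, x ^ 2 ∈ H := fun x hx => sq_mem_of_mem_sup_zpowers ht2 htH hx
  have hOK : pPrimeCore 2 K = ⊥ := pPrimeCore_eq_bot_of_sq_mem hHK hKN hsq hO
  set t' : K := ⟨t, htK⟩ with ht'
  have ht'2 : orderOf t' = 2 := by rw [ht', Subgroup.orderOf_mk]; exact ht
  -- the subgroup `O(C_H(t))`
  set CH := H ⊓ centralizer ({t} : Set G) with hCH
  set O₁ := (pPrimeCore 2 CH).map CH.subtype with hO₁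
  have hO₁CH : O₁ ≤ CH := map_subtype_le _
  have hO₁K : O₁ ≤ K := (hO₁CH.trans inf_le_left).trans hHK
  have hO₁cop : (Nat.card O₁).Coprime 2 := by
    rw [hO₁, card_map_of_injective CH.subtype_injective]
    exact pPrimeCore_coprime 2
  have hYK : Y ≤ K := hY.trans hO₁K
  set Y' := Y.subgroupOf K with hY'
  have hY'1 : Y' ≠ ⊥ := by
    intro h
    apply hY1
    rw [eq_bot_iff]
    intro y hy
    have : (⟨y, hYK hy⟩ : K) ∈ Y' := mem_subgroupOf.2 hy
    rw [h, mem_bot] at this
    rw [mem_bot]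
    exact congrArg Subtype.val this
  -- `Y' ≤ O(C_K(t'))`
  have hY'D : Y' ≤ centralizerPPrimeCore 2 t' := by
    unfold centralizerPPrimeCore
    set C' := centralizer ({t'} : Set K) with hC'
    have hWC : O₁.subgroupOf K ≤ C' := by
      intro x hx
      rw [mem_subgroupOf] at hx
      rw [hC', mem_centralizer_singleton_iff]
      apply Subtype.ext
      exact mem_centralizer_singleton_iff.1 (hO₁CH hx).2
    have hCW : C' ≤ normalizer ((O₁.subgroupOf K : Subgroup K) : Set K) := by
      intro c hc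
      have hcG : (c : G) ∈ normalizer (O₁ : Set G) := by
        have h1 : (c : G) ∈ normalizer (CH : Set G) := by
          apply normalizer_inf_normalizer_le_normalizer_inf
          refine ⟨hKN c.2, ?_⟩
          apply centralizer_le_normalizer_centralizerPPrimeCore 2 t |> fun _ => ?_
          have hct : (c : G) ∈ centralizer ({t} : Set G) := by
            rw [mem_centralizer_singleton_iff]
            have := mem_centralizer_singleton_iff.1 hc
            exact congrArg Subtype.val this
          exact le_normalizer hct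
        exact (Cfsg.Agent.Lead.normalizer_le_normalizer_map_of_characteristic CH
          (pPrimeCore 2 CH)) h1
      rw [mem_normalizer_iff]
      intro x
      rw [mem_subgroupOf, mem_subgroupOf]
      exact mem_normalizer_iff.1 hcG x
    have hWcop : (Nat.card (O₁.subgroupOf K)).Coprime 2 := by
      rw [Cfsg.Agent.Helper17.card_subgroupOf_of_le hO₁K]; exact hO₁cop
    refine le_trans ?_ (le_map_pPrimeCore_of_le_normalizer (p := 2) hWC hCW hWcop)
    intro y hy
    rw [mem_subgroupOf] at hy ⊢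
    exact hY hy
  obtain ⟨L, hL, hLt, hYL, htL, hYcL⟩ := exists_component_of_le_core hOK ht'2 hY'1 hY'D
  have hLH : L.map K.subtype ≤ H := map_component_le_of_sq_mem hKN hsq hL
  have hE : ((L.map K.subtype).subgroupOf H).map H.subtype = L.map K.subtype :=
    map_subgroupOf_eq_of_le hLH
  refine ⟨(L.map K.subtype).subgroupOf H, isComponent_subgroupOf_of_sq_mem hHK hKN hsq hL, ?_, ?_,
    ?_, ?_⟩
  · rw [hE]
    have := map_conj_map_subtype t' L
    rw [hLt] at this
    exact this.symm
  · rw [hE]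
    intro y hy
    have hy' : (⟨y, hYK hy⟩ : K) ∈ Y' := mem_subgroupOf.2 hy
    exact mem_normalizer_map_subtype_of_mem (hYL hy')
  · rw [hE]
    intro h
    exact htL (mem_centralizer_of_mem_centralizer_map_subtype (k := t') h)
  · rw [hE]
    intro h
    apply hYcL
    intro y hy
    rw [mem_subgroupOf] at hy
    exact mem_centralizer_of_mem_centralizer_map_subtype (h hy)

end Cfsg.Agent.Helper7
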