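import Mathlib
import Cfsg.Prelude.Def_Balance
import Cfsg.Agent.Helper7.CoreNormalizes
import Cfsg.Agent.Helper7.CoreTransport

set_option autoImplicit false
set_option linter.style.haveILetI false
set_option linter.unusedSectionVars false

/-! # General-`p` version: `O_{p'}(C_X(x))` normalises the `x`-invariant components (towards S1271) -/

namespace Cfsg.Agent.Helper7

open Subgroup Cfsg
open scoped Pointwise commutatorElement
open Cfsg.Agent.Helper14 (pCore_isPGroup le_pCore pCore_characteristic)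

universe u

variable {X : Type u} [Group X] [Finite X] {p : ℕ} [hp : Fact p.Prime]

/-- The centre of a component has index divisible by `p` (when `O_{p'}(X) = 1`). -/
theorem p_dvd_index_center_of_isComponent (hO : pPrimeCore p X = ⊥) {L : Subgroup X}
    (hL : IsComponent L) : p ∣ (center L).index := by
  by_contra h
  have hcop : ((center L).index).Coprime p :=
    (Nat.Prime.coprime_iff_not_dvd hp.out).2 h |>.symm
  have := IsComponent.eq_top_of_normal_of_index_coprime hO hL (center L) hcop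
  exact IsQuasisimple.center_ne_top hL.2 this

theorem exists_fixed_coset_p (hO : pPrimeCore p X = ⊥) {t : X} (ht : orderOf t = p)
    {L : Subgroup X} (hL : IsComponent L) (hLt : L.map (MulAut.conj t).toMonoidHom = L) :
    ∃ s ∈ L, s ∉ (center L).map L.subtype ∧ s ^ p ∈ (center L).map L.subtype ∧
      s⁻¹ * (t * s * t⁻¹) ∈ (center L).map L.subtype := by
  classical
  have htp : t ^ p = 1 := by
    have := pow_orderOf_eq_one t
    rwa [ht] at this
  -- the automorphism of `L` induced by `t`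
  let τ : L ≃* L := (L.equivMapOfInjective _ (MulAut.conj t).injective).trans
    (MulEquiv.subgroupCongr hLt)
  have hτ : ∀ x : L, ((τ x : L) : X) = t * x * t⁻¹ := fun x => rfl
  have hτpow : ∀ (n : ℕ) (x : L), (((τ ^ n) x : L) : X) = t ^ n * x * (t ^ n)⁻¹ := by
    intro n
    induction n with
    | zero => intro x; simp
    | succ n ih =>
      intro x
      rw [pow_succ', MulAut.mul_apply, hτ, ih, pow_succ']
      group
  have hττ : ∀ x : L, (τ ^ p) x = x := by
    intro x
    apply Subtype.ext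
    rw [hτpow, htp]
    simp
  have hchar : (center L).map (τ : L →* L) = center L :=
    (Subgroup.characteristic_iff_map_eq.1 inferInstance) τ
  let τbar : (L ⧸ center L) ≃* (L ⧸ center L) := QuotientGroup.congr (center L) (center L) τ hchar
  have hτbar : ∀ x : L, τbar (x : L ⧸ center L) = ((τ x : L) : L ⧸ center L) := fun x => rfl
  have hτbarpow : ∀ (n : ℕ) (x : L), (τbar ^ n) (x : L ⧸ center L)
      = (((τ ^ n) x : L) : L ⧸ center L) := by
    intro n
    induction n with
    | zero => intro x; simp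
    | succ n ih =>
      intro x
      rw [pow_succ', MulAut.mul_apply, ih, hτbar, pow_succ', MulAut.mul_apply]
  haveI : Fintype (L ⧸ center L) := Fintype.ofFinite _
  let σ : Equiv.Perm (L ⧸ center L) := τbar.toEquiv
  have hσpow : ∀ (n : ℕ) (q : L ⧸ center L), (σ ^ n) q = (τbar ^ n) q := by
    intro n
    induction n with
    | zero => intro q; simp
    | succ n ih =>
      intro q
      rw [pow_succ', Equiv.Perm.mul_apply, ih, pow_succ', MulAut.mul_apply]
      rfl
  have hσ2 : σ ^ p ^ 1 = 1 := by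
    ext q
    induction q using QuotientGroup.induction_on with
    | H x =>
      rw [pow_one, Equiv.Perm.one_apply, hσpow, hτbarpow, hττ]
  have hcard := Equiv.Perm.card_compl_support_modEq hσ2
  have heven : p ∣ Fintype.card (L ⧸ center L) := by
    rw [← Nat.card_eq_fintype_card]
    exact p_dvd_index_center_of_isComponent hO hL
  have hfix : p ∣ σ.supportᶜ.card := (Nat.ModEq.dvd_iff hcard (dvd_refl p)).2 heven
  -- the fixed subgroup
  let Fix : Subgroup (L ⧸ center L) := (τbar : (L ⧸ center L) →* (L ⧸ center L)).eqLocus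
    (MonoidHom.id _)
  have hFixmem : ∀ q, q ∈ Fix ↔ τbar q = q := fun q => Iff.rfl
  have hFixcard : Nat.card Fix = σ.supportᶜ.card := by
    have hset : (Fix : Set (L ⧸ center L)) = ↑(σ.supportᶜ) := by
      ext q
      rw [Finset.mem_coe, Finset.mem_compl, Equiv.Perm.mem_support, not_not]
      exact hFixmem q
    calc Nat.card Fix = Nat.card ↥(Fix : Set (L ⧸ center L)) := rfl
      _ = Nat.card ↥((σ.supportᶜ : Finset (L ⧸ center L)) : Set (L ⧸ center L)) := by rw [hset]
      _ = σ.supportᶜ.card := by rw [Nat.card_coe_set_eq, Set.ncard_coe_finset]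
  obtain ⟨q, hq⟩ := exists_prime_orderOf_dvd_card' (G := Fix) p (by rw [hFixcard]; exact hfix)
  obtain ⟨s, hs⟩ := QuotientGroup.mk_surjective (q : L ⧸ center L)
  have hq1 : (q : L ⧸ center L) ≠ 1 := by
    intro h
    have : q = 1 := Subtype.ext h
    rw [this, orderOf_one] at hq
    exact hp.out.ne_one hq.symm
  have hq2 : (q : L ⧸ center L) ^ p = 1 := by
    have := pow_orderOf_eq_one q
    rw [hq] at this
    exact congrArg Subtype.val this
  have hqfix : τbar (q : L ⧸ center L) = q := (hFixmem _).1 q.2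
  rw [← hs] at hq1 hq2 hqfix
  have hmem : ∀ x : L, (x : X) ∈ (center L).map L.subtype ↔ x ∈ center L := by
    intro x
    constructor
    · rintro ⟨y, hy, hyx⟩
      have : y = x := Subtype.ext hyx
      rwa [← this]
    · intro h
      exact ⟨x, h, rfl⟩
  refine ⟨s, s.2, ?_, ?_, ?_⟩
  · rw [hmem]
    intro h
    exact hq1 ((QuotientGroup.eq_one_iff s).2 h)
  · have : ((s ^ p : L) : X) ∈ (center L).map L.subtype := by
      rw [hmem]
      rw [← QuotientGroup.mk_pow] at hq2
      exact (QuotientGroup.eq_one_iff _).1 hq2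
    simpa using this
  · have : ((s⁻¹ * τ s : L) : X) ∈ (center L).map L.subtype := by
      rw [hmem]
      rw [hτbar] at hqfix
      exact QuotientGroup.eq.1 hqfix.symm
    simpa [hτ] using this

/-- `O_{p'}(C_X(t))` centralises `O_p(X)` (Thompson's `A × B` lemma). -/
theorem centralizerPPrimeCore_le_centralizer_pCore_p {t : X} (ht : orderOf t = p) :
    centralizerPPrimeCore p t ≤ centralizer (pCore p X : Set X) := by
  set D := centralizerPPrimeCore p t with hD
  set U := pCore p X with hU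
  have hUp : IsPGroup p U := pCore_isPGroup p
  haveI hUnorm : U.Normal := Cfsg.pCore_normal p X
  have hUn : normalizer (U : Set X) = ⊤ := normalizer_eq_top_iff.2 hUnorm
  have hDC : D ≤ centralizer ({t} : Set X) := centralizerPPrimeCore_le p t
  have hCD : centralizer ({t} : Set X) ≤ normalizer (D : Set X) :=
    centralizer_le_normalizer_centralizerPPrimeCore p t
  have hDcop : (Nat.card D).Coprime p := card_centralizerPPrimeCore_coprime p t
  have hP : IsPGroup p (zpowers t) := by
    apply IsPGroup.of_card (n := 1)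
    rw [Nat.card_zpowers, ht, pow_one]
  apply Cfsg.Agent.Lead.thompson_PQ p (zpowers t) D U hP hDcop hUp
  · rw [zpowers_le, mem_centralizer_iff]
    intro d hd
    exact mem_centralizer_singleton_iff.1 (hDC hd)
  · rw [hUn]; exact le_top
  · rw [hUn]; exact le_top
  · intro u hu
    rw [mem_centralizer_iff]
    intro d hd
    have huC : u ∈ centralizer ({t} : Set X) := by
      have := hu.2
      rw [centralizer_zpowers_eq] at this
      exact this
    have h1 : u * d⁻¹ * u⁻¹ ∈ D := (mem_normalizer_iff.1 (hCD huC) _).1 (D.inv_mem hd)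
    have h2 : d * u * d⁻¹ ∈ U := hUnorm.conj_mem u hu.1 d
    have hmemD : d * (u * d⁻¹ * u⁻¹) ∈ D := D.mul_mem hd h1
    have hmemU : (d * u * d⁻¹) * u⁻¹ ∈ U := U.mul_mem h2 (U.inv_mem hu.1)
    have e : d * (u * d⁻¹ * u⁻¹) = (d * u * d⁻¹) * u⁻¹ := by group
    rw [e] at hmemD
    have hdis : Disjoint D U := by
      apply Subgroup.disjoint_of_coprime_natCard
      obtain ⟨k, hk⟩ := IsPGroup.iff_card.1 hUp
      rw [hk]
      exact Nat.Coprime.pow_right _ hDcop
    have h3 : (d * u * d⁻¹) * u⁻¹ = 1 := by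
      have : (d * u * d⁻¹) * u⁻¹ ∈ D ⊓ U := ⟨hmemD, hmemU⟩
      rwa [disjoint_iff.1 hdis, mem_bot] at this
    calc d * u = (d * u * d⁻¹ * u⁻¹) * (u * d) := by group
      _ = u * d := by rw [h3, one_mul]

/-- The centre of a component lies in `O_p(X)` when `O_{p'}(X) = 1`. -/
theorem map_center_component_le_pCore_p (hO : pPrimeCore p X = ⊥) {L : Subgroup X}
    (hL : IsComponent L) : (center L).map L.subtype ≤ pCore p X := by
  rw [← fittingSubgroup_eq_pCore_of_pPrimeCore_eq_bot hO]
  apply subnormal_nilpotent_le_fittingSubgroup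
  · exact (Subgroup.Normal.isSubnormal (inferInstance : (center L).Normal)).trans' hL.1
  · haveI : IsMulCommutative ((center L).map L.subtype) := Subgroup.map_isMulCommutative _ _
    exact isNilpotent_of_isMulCommutative _

/-- If `s ^ p ∈ Z` and `s ^ m ∈ Z` with `m` prime to `p`, then `s ∈ Z`. -/
theorem mem_of_pow_mem_of_coprime {Z : Subgroup X} {s : X} {m : ℕ} (hs : s ^ p ∈ Z)
    (hm : s ^ m ∈ Z) (hcop : m.Coprime p) : s ∈ Z := by
  have h1 : (m : ℤ).gcd (p : ℤ) = 1 := by
    rw [Int.gcd_natCast_natCast]; exact hcop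
  have h2 := Int.gcd_eq_gcd_ab (m : ℤ) (p : ℤ)
  rw [h1] at h2
  have : s = (s ^ m) ^ (Int.gcdA m p) * (s ^ p) ^ (Int.gcdB m p) := by
    rw [← zpow_natCast s m, ← zpow_natCast s p, ← zpow_mul, ← zpow_mul, ← zpow_add, ← h2]
    simp
  rw [this]
  exact Z.mul_mem (Z.zpow_mem hm _) (Z.zpow_mem hs _)

/-- `O_{p'}(C_X(t))` normalises every `t`-invariant component of `X` (when `O_{p'}(X) = 1`). -/
theorem centralizerPPrimeCore_le_normalizer_component_p (hO : pPrimeCore p X = ⊥) {t : X}
    (ht : orderOf t = p) {L : Subgroup X} (hL : IsComponent L)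
    (hLt : L.map (MulAut.conj t).toMonoidHom = L) :
    centralizerPPrimeCore p t ≤ normalizer (L : Set X) := by
  set D := centralizerPPrimeCore p t with hD
  set Z := (center L).map L.subtype with hZ
  have hZeq : Z = L ⊓ centralizer (L : Set X) := map_subtype_center L
  have hDC : D ≤ centralizer ({t} : Set X) := centralizerPPrimeCore_le p t
  have hCD : centralizer ({t} : Set X) ≤ normalizer (D : Set X) :=
    centralizer_le_normalizer_centralizerPPrimeCore p t
  have hDcop : (Nat.card D).Coprime p := card_centralizerPPrimeCore_coprime p t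
  have hDZ : D ≤ centralizer (Z : Set X) :=
    (centralizerPPrimeCore_le_centralizer_pCore_p ht).trans
      (centralizer_le (map_center_component_le_pCore_p hO hL))
  obtain ⟨s, hsL, hsZ0, hs20, hst0⟩ := exists_fixed_coset_p hO ht hL hLt
  have hsZ : s ∉ Z := hsZ0
  have hs2 : s ^ p ∈ Z := hs20
  have hst : s⁻¹ * (t * s * t⁻¹) ∈ Z := hst0
  clear hsZ0 hs20 hst0
  intro y hy
  by_contra hyN
  set L₁ := L.map (MulAut.conj y).toMonoidHom with hL₁
  set L₂ := L₁.map (MulAut.conj y).toMonoidHom with hL₂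
  have hc1 : IsComponent L₁ := isComponent_map_conj hL y
  have hc2 : IsComponent L₂ := isComponent_map_conj hc1 y
  have hne1 : L₁ ≠ L := fun h => hyN (mem_normalizer_iff_map_conj_eq'.2 h)
  have hne12 : L₂ ≠ L₁ := by
    intro h
    have hy1 : y ∈ normalizer (L₁ : Set X) := mem_normalizer_iff_map_conj_eq'.2 h
    have h2 := mem_normalizer_iff_map_conj_eq'.1 (inv_mem hy1)
    apply hne1
    rw [← h2, hL₁, map_conj_inv_map_conj]
  -- commutation between the components
  have hcomm01 : ∀ a ∈ L, ∀ b ∈ L₁, a * b = b * a :=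
    commutator_eq_bot_iff_forall_commute.1 (components_commute hL hc1 hne1.symm)
  -- the elements
  set s₁ := y * s * y⁻¹ with hs₁
  set s₂ := y * s₁ * y⁻¹ with hs₂
  have hs₁L : s₁ ∈ L₁ := ⟨s, hsL, rfl⟩
  have hs₂L : s₂ ∈ L₂ := ⟨s₁, hs₁L, rfl⟩
  set z := s⁻¹ * (t * s * t⁻¹) with hz
  have hzL : z ∈ L := (hZeq ▸ hst : z ∈ L ⊓ centralizer (L : Set X)).1
  have hzc : z ∈ centralizer (L : Set X) := (hZeq ▸ hst : z ∈ L ⊓ centralizer (L : Set X)).2
  have hty : t * y = y * t := (mem_centralizer_singleton_iff.1 (hDC hy)).symm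
  have hyz : y * z = z * y := ((mem_centralizer_iff.1 (hDZ hy)) z hst).symm
  have hzs : z * s = s * z := (mem_centralizer_iff.1 hzc) s hsL |>.symm
  have hzs₁ : z * s₁ = s₁ * z := hcomm01 z hzL s₁ hs₁L
  have hts : t * s * t⁻¹ = s * z := by rw [hz]; group
  set u := s⁻¹ * s₁ with hu
  have hut : u ∈ centralizer ({t} : Set X) := by
    rw [mem_centralizer_singleton_iff]
    have h1 : t * s₁ * t⁻¹ = s₁ * z := by
      have hty' : t⁻¹ * y⁻¹ = y⁻¹ * t⁻¹ := by
        rw [← mul_inv_rev, ← mul_inv_rev, hty]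
      calc t * s₁ * t⁻¹ = (t * y) * s * (y⁻¹ * t⁻¹) := by rw [hs₁]; group
        _ = (y * t) * s * (t⁻¹ * y⁻¹) := by rw [hty, hty']
        _ = y * (t * s * t⁻¹) * y⁻¹ := by group
        _ = y * (s * z) * y⁻¹ := by rw [hts]
        _ = (y * s * y⁻¹) * (y * z) * y⁻¹ := by group
        _ = (y * s * y⁻¹) * (z * y) * y⁻¹ := by rw [hyz]
        _ = s₁ * z := by rw [hs₁]; group
    have h2 : t * u * t⁻¹ = u := by
      calc t * u * t⁻¹ = (t * s * t⁻¹)⁻¹ * (t * s₁ * t⁻¹) := by rw [hu]; group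
        _ = (s * z)⁻¹ * (s₁ * z) := by rw [hts, h1]
        _ = z⁻¹ * s⁻¹ * (z * s₁) := by rw [hzs₁]; group
        _ = z⁻¹ * (s⁻¹ * z) * s₁ := by group
        _ = z⁻¹ * (z * s⁻¹) * s₁ := by
            have : s⁻¹ * z = z * s⁻¹ := by
              have := hzs
              calc s⁻¹ * z = s⁻¹ * (z * s) * s⁻¹ := by group
                _ = s⁻¹ * (s * z) * s⁻¹ := by rw [this]
                _ = z * s⁻¹ := by group
            rw [this]
        _ = u := by rw [hu]; group
    symm
    calc t * u = (t * u * t⁻¹) * t := by group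
      _ = u * t := by rw [h2]
  -- `w = u⁻¹ (y u y⁻¹) ∈ D`
  set w := u⁻¹ * (y * u * y⁻¹) with hw
  have hwD : w ∈ D := by
    have h1 : u⁻¹ * y * u⁻¹⁻¹ ∈ D := (mem_normalizer_iff.1 (hCD (inv_mem hut)) y).1 hy
    have : w = (u⁻¹ * y * u⁻¹⁻¹) * y⁻¹ := by rw [hw]; group
    rw [this]
    exact D.mul_mem h1 (D.inv_mem hy)
  have hss₁ : s * s₁⁻¹ = s₁⁻¹ * s := by
    have := hcomm01 s hsL s₁ hs₁L
    calc s * s₁⁻¹ = s₁⁻¹ * (s₁ * s) * s₁⁻¹ := by group
      _ = s₁⁻¹ * (s * s₁) * s₁⁻¹ := by rw [this]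
      _ = s₁⁻¹ * s := by group
  have hw' : w = s * (s₁⁻¹ * s₁⁻¹ * s₂) := by
    calc w = s₁⁻¹ * s * s₁⁻¹ * (y * s₁ * y⁻¹) := by rw [hw, hu, hs₁]; group
      _ = (s₁⁻¹ * s) * s₁⁻¹ * s₂ := by rw [hs₂]
      _ = (s * s₁⁻¹) * s₁⁻¹ * s₂ := by rw [hss₁]
      _ = s * (s₁⁻¹ * s₁⁻¹ * s₂) := by group
  -- the order of `w` is prime to `p`
  set m := orderOf w with hm
  have hmcop : m.Coprime p := by
    have := orderOf_dvd_natCard (⟨w, hwD⟩ : D)
    rw [Subgroup.orderOf_mk] at this
    exact Nat.Coprime.coprime_dvd_left this hDcop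
  have hL₁c : L₁ ≤ centralizer (L : Set X) :=
    commutator_eq_bot_iff_le_centralizer.1 (components_commute hc1 hL hne1)
  by_cases hne2 : L₂ = L
  · -- the orbit has length two
    have hs₂L' : s₂ ∈ L := hne2 ▸ hs₂L
    set a := s * s₂ with ha
    set b := s₁⁻¹ * s₁⁻¹ with hb
    have haL : a ∈ L := L.mul_mem hsL hs₂L'
    have hbL₁ : b ∈ L₁ := L₁.mul_mem (L₁.inv_mem hs₁L) (L₁.inv_mem hs₁L)
    have hs₂b : s₂ * b = b * s₂ := hcomm01 s₂ hs₂L' b hbL₁
    have hwab : w = a * b := by
      rw [hw', ha, hb]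
      calc s * (s₁⁻¹ * s₁⁻¹ * s₂) = s * (b * s₂) := by rw [hb]
        _ = s * (s₂ * b) := by rw [hs₂b]
        _ = s * s₂ * (s₁⁻¹ * s₁⁻¹) := by rw [hb]; group
    have hab : Commute a b := hcomm01 a haL b hbL₁
    have hwm : a ^ m * b ^ m = 1 := by
      rw [← hab.mul_pow, ← hwab]; exact pow_orderOf_eq_one w
    -- `b ^ m ∈ L ⊓ L₁`, hence central in `L₁`
    have hbmL : b ^ m ∈ L := by
      have : b ^ m = (a ^ m)⁻¹ := eq_inv_of_mul_eq_one_right hwm
      rw [this]
      exact L.inv_mem (L.pow_mem haL m)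
    have hbmc : b ^ m ∈ centralizer (L₁ : Set X) := by
      have h1 : L ≤ centralizer (L₁ : Set X) :=
        commutator_eq_bot_iff_le_centralizer.1 (components_commute hL hc1 hne1.symm)
      exact h1 hbmL
    -- conjugating back by `y⁻¹`
    have hb' : b ^ m = y * ((s⁻¹ * s⁻¹) ^ m) * y⁻¹ := by
      have : b = y * (s⁻¹ * s⁻¹) * y⁻¹ := by rw [hb, hs₁]; group
      rw [this]
      exact (conj_pow (a := y) (b := s⁻¹ * s⁻¹) (i := m)).symm ▸ rfl
    have hsmZ : (s⁻¹ * s⁻¹) ^ m ∈ Z := by
      rw [hZeq]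
      refine Subgroup.mem_inf.2 ⟨L.pow_mem (L.mul_mem (L.inv_mem hsL) (L.inv_mem hsL)) m, ?_⟩
      rw [mem_centralizer_iff]
      intro g hg
      have hg₁ : y * g * y⁻¹ ∈ L₁ := ⟨g, hg, rfl⟩
      have := (mem_centralizer_iff.1 hbmc) _ hg₁
      rw [hb'] at this
      have e1 : y * g * y⁻¹ * (y * (s⁻¹ * s⁻¹) ^ m * y⁻¹) = y * (g * (s⁻¹ * s⁻¹) ^ m) * y⁻¹ := by
        group
      have e2 : y * (s⁻¹ * s⁻¹) ^ m * y⁻¹ * (y * g * y⁻¹) = y * ((s⁻¹ * s⁻¹) ^ m * g) * y⁻¹ := by
        group
      rw [e1, e2] at this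
      have := mul_left_cancel (mul_right_cancel this)
      exact this
    have hs2m : s ^ (2 * m) ∈ Z := by
      have : s ^ (2 * m) = ((s⁻¹ * s⁻¹) ^ m)⁻¹ := by
        rw [← inv_pow, mul_inv_rev, inv_inv, ← pow_two, ← pow_mul]
      rw [this]
      exact Z.inv_mem hsmZ
    -- `p` is odd here
    have hp2 : p ≠ 2 := by
      intro hp2
      -- `y` has odd order, so `y ∈ ⟨y²⟩ ≤ N(L)`
      have h2 : L.map (MulAut.conj (y ^ 2)).toMonoidHom = L := by
        rw [pow_two, map_conj_mul]; exact hne2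
      have hy2 : y ^ 2 ∈ normalizer (L : Set X) := mem_normalizer_iff_map_conj_eq'.2 h2
      have hodd : (orderOf y).Coprime 2 := by
        have := orderOf_dvd_natCard (⟨y, hy⟩ : D)
        rw [Subgroup.orderOf_mk] at this
        have h3 := Nat.Coprime.coprime_dvd_left this hDcop
        rwa [hp2] at h3
      exact hyN ((zpowers_le.2 hy2) (mem_zpowers_pow_of_coprime hodd))
    have hcop2 : (2 * m).Coprime p := by
      apply Nat.Coprime.mul_left _ hmcop
      rw [Nat.coprime_comm]
      exact (Nat.coprime_primes hp.out Nat.prime_two).2 hp2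
    exact hsZ (mem_of_pow_mem_of_coprime hs2 hs2m hcop2)
  · -- three distinct components
    have hcomm02 : ∀ a ∈ L, ∀ b ∈ L₂, a * b = b * a :=
      commutator_eq_bot_iff_forall_commute.1 (components_commute hL hc2 (Ne.symm hne2))
    set r := s₁⁻¹ * s₁⁻¹ * s₂ with hr
    have hrc : r ∈ centralizer (L : Set X) := by
      have h2 : L₂ ≤ centralizer (L : Set X) :=
        commutator_eq_bot_iff_le_centralizer.1 (components_commute hc2 hL hne2)
      exact mul_mem (mul_mem (inv_mem (hL₁c hs₁L)) (inv_mem (hL₁c hs₁L))) (h2 hs₂L)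
    have hsr : Commute s r := ((mem_centralizer_iff.1 hrc) s hsL)
    have hwm : s ^ m * r ^ m = 1 := by
      rw [← hsr.mul_pow, ← hw']; exact pow_orderOf_eq_one w
    have hsmZ : s ^ m ∈ Z := by
      rw [hZeq]
      refine Subgroup.mem_inf.2 ⟨pow_mem hsL m, ?_⟩
      have : s ^ m = (r ^ m)⁻¹ := eq_inv_of_mul_eq_one_left hwm
      rw [this]
      exact Subgroup.inv_mem _ (Subgroup.pow_mem _ hrc m)
    exact hsZ (mem_of_pow_mem_of_coprime hs2 hsmZ hmcop)

end Cfsg.Agent.Helper7
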