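import Mathlib
import Cfsg.Prelude.Def_Balance
import Cfsg.Agent.Helper7.BalanceComp
import Cfsg.Agent.Helper7.CoreComponent
import Cfsg.Agent.Lead.CoprimeFrattini

set_option autoImplicit false
set_option linter.style.haveILetI false
set_option linter.unusedSectionVars false

/-! # Balance from balance of the automizers of the components (S1271) -/

namespace Cfsg.Agent.Helper7

open Subgroup Cfsg
open scoped Pointwise commutatorElement
open Cfsg.Agent.Helper14 (pCore_isPGroup le_pCore pCore_characteristic)
open Cfsg.Agent.Helper19 (pPrimeCore_coprime)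

universe u

variable {X : Type u} [Group X] [Finite X] {p : ℕ} [hp : Fact p.Prime]

/-- A `p'`-subgroup `N ≥ O_{p'}(C_X(x))` of `C_X(x)` normalised by every element of `L`
which commutes with `x` modulo `C_X(L)`. -/
theorem exists_core_envelope (hO : pPrimeCore p X = ⊥) {x : X} (hx : orderOf x = p)
    {L : Subgroup X} (hL : IsComponent L) (hLx : L.map (MulAut.conj x).toMonoidHom = L) :
    ∃ N : Subgroup X, centralizerPPrimeCore p x ≤ N ∧ N ≤ centralizer ({x} : Set X) ∧
      N ≤ L ⊔ centralizerPPrimeCore p x ∧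
      (Nat.card N).Coprime p ∧ centralizerPPrimeCore p x ≤ normalizer (N : Set X) ∧
      x ∈ normalizer (N : Set X) ∧
      ∀ l ∈ L, l * x * l⁻¹ * x⁻¹ ∈ centralizer (L : Set X) → l ∈ normalizer (N : Set X) := by
  set D := centralizerPPrimeCore p x with hD
  set Z := (center L).map L.subtype with hZ
  have hZeq : Z = L ⊓ centralizer (L : Set X) := map_subtype_center L
  have hDC : D ≤ centralizer ({x} : Set X) := centralizerPPrimeCore_le p x
  have hCD : centralizer ({x} : Set X) ≤ normalizer (D : Set X) :=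
    centralizer_le_normalizer_centralizerPPrimeCore p x
  have hDcop : (Nat.card D).Coprime p := card_centralizerPPrimeCore_coprime p x
  have hDZ : D ≤ centralizer (Z : Set X) :=
    (centralizerPPrimeCore_le_centralizer_pCore_p hx).trans
      (centralizer_le (map_center_component_le_pCore_p hO hL))
  have hDL : D ≤ normalizer (L : Set X) :=
    centralizerPPrimeCore_le_normalizer_component_p hO hx hL hLx
  have hxLmem : ∀ l ∈ L, x * l * x⁻¹ ∈ L := by
    intro l hl
    have : (MulAut.conj x).toMonoidHom l ∈ L.map (MulAut.conj x).toMonoidHom :=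
      mem_map_of_mem _ hl
    rw [hLx] at this
    simpa using this
  set CLx := L ⊓ centralizer ({x} : Set X) with hCLx
  set J := CLx ⊔ D with hJ
  have hJC : J ≤ centralizer ({x} : Set X) := sup_le inf_le_right hDC
  set N := (pPrimeCore p ↥J).map J.subtype with hN
  have hDN : D ≤ N :=
    le_map_pPrimeCore_of_le_normalizer (le_sup_right : D ≤ J) (hJC.trans hCD) hDcop
  have hNJ : N ≤ J := map_subtype_le _
  have hNcop : (Nat.card N).Coprime p := by
    have : Nat.card N = Nat.card (pPrimeCore p ↥J) :=
      Nat.card_congr ((pPrimeCore p ↥J).equivMapOfInjective _ J.subtype_injective).symm.toEquiv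
    rw [this]
    exact pPrimeCore_coprime p
  have hJN : normalizer (J : Set X) ≤ normalizer (N : Set X) :=
    Cfsg.Agent.Lead.normalizer_le_normalizer_map_of_characteristic J (pPrimeCore p ↥J)
  have hxJ : x ∈ normalizer (J : Set X) := by
    apply centralizer_le_normalizer
    rw [mem_centralizer_iff]
    intro j hj
    exact mem_centralizer_singleton_iff.1 (hJC hj)
  -- the key computation
  have key1 : ∀ l ∈ L, l * x * l⁻¹ * x⁻¹ ∈ centralizer (L : Set X) →
      ∀ j ∈ J, l * j * l⁻¹ ∈ J := by
    intro l hl hc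
    set c := l * x * l⁻¹ * x⁻¹ with hcdef
    set z := c⁻¹ with hzdef
    have hzc : z ∈ centralizer (L : Set X) := inv_mem hc
    have hzl : z * l = l * z := ((mem_centralizer_iff.1 hzc) l hl).symm
    have hxl : x * l * x⁻¹ = l * z := by
      have h1 : x * l * x⁻¹ = z * l := by rw [hzdef, hcdef]; group
      rw [h1, hzl]
    have hzL : z ∈ L := by
      have : z = l⁻¹ * (x * l * x⁻¹) := by rw [hxl]; group
      rw [this]
      exact L.mul_mem (L.inv_mem hl) (hxLmem l hl)
    have hzZ : z ∈ Z := by
      rw [hZeq]; exact Subgroup.mem_inf.2 ⟨hzL, hzc⟩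
    have hJle : J ≤ J.comap (MulAut.conj l).toMonoidHom := by
      apply sup_le
      · intro a ha
        rw [mem_comap]
        show l * a * l⁻¹ ∈ J
        have haL : a ∈ L := ha.1
        have hax : a * x = x * a := mem_centralizer_singleton_iff.1 ha.2
        have hxa : x * a * x⁻¹ = a := by
          calc x * a * x⁻¹ = (a * x) * x⁻¹ := by rw [hax]
            _ = a := by group
        have hza : z * a * z⁻¹ = a := by
          have := (mem_centralizer_iff.1 hzc) a haL
          calc z * a * z⁻¹ = (a * z) * z⁻¹ := by rw [this]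
            _ = a := by group
        apply (le_sup_left : CLx ≤ J)
        refine Subgroup.mem_inf.2 ⟨L.mul_mem (L.mul_mem hl haL) (L.inv_mem hl), ?_⟩
        rw [mem_centralizer_singleton_iff]
        symm
        calc x * (l * a * l⁻¹) = (x * l * x⁻¹) * (x * a * x⁻¹) * (x * l * x⁻¹)⁻¹ * x := by group
          _ = (l * z) * a * (l * z)⁻¹ * x := by rw [hxl, hxa]
          _ = l * (z * a * z⁻¹) * l⁻¹ * x := by group
          _ = l * a * l⁻¹ * x := by rw [hza]
      · intro d hd
        rw [mem_comap]
        show l * d * l⁻¹ ∈ J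
        have hdx : d * x = x * d := mem_centralizer_singleton_iff.1 (hDC hd)
        have hxd : x * d * x⁻¹ = d := by
          calc x * d * x⁻¹ = (d * x) * x⁻¹ := by rw [hdx]
            _ = d := by group
        have hzd : z * d * z⁻¹ = d := by
          have := (mem_centralizer_iff.1 (hDZ hd)) z hzZ
          calc z * d * z⁻¹ = (d * z) * z⁻¹ := by rw [this]
            _ = d := by group
        set w := l * (d * l⁻¹ * d⁻¹) with hw
        have hwL : w ∈ L :=
          L.mul_mem hl ((mem_normalizer_iff.1 (hDL hd) _).1 (L.inv_mem hl))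
        have hwx : w ∈ centralizer ({x} : Set X) := by
          rw [mem_centralizer_singleton_iff]
          symm
          calc x * w = (x * l * x⁻¹) * ((x * d * x⁻¹) * (x * l * x⁻¹)⁻¹ * (x * d * x⁻¹)⁻¹) * x := by
                rw [hw]; group
            _ = (l * z) * (d * (l * z)⁻¹ * d⁻¹) * x := by rw [hxl, hxd]
            _ = l * ((z * d * z⁻¹) * l⁻¹ * d⁻¹) * x := by group
            _ = w * x := by rw [hzd]
        have : l * d * l⁻¹ = w * d := by rw [hw]; group
        rw [this]
        exact J.mul_mem ((le_sup_left : CLx ≤ J) (Subgroup.mem_inf.2 ⟨hwL, hwx⟩))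
          ((le_sup_right : D ≤ J) hd)
    intro j hj
    exact hJle hj
  have key2 : ∀ l ∈ L, l * x * l⁻¹ * x⁻¹ ∈ centralizer (L : Set X) →
      l⁻¹ * x * l⁻¹⁻¹ * x⁻¹ ∈ centralizer (L : Set X) := by
    intro l hl hc
    set c := l * x * l⁻¹ * x⁻¹ with hcdef
    have hcl : c * l = l * c := ((mem_centralizer_iff.1 hc) l hl).symm
    have : l⁻¹ * x * l⁻¹⁻¹ * x⁻¹ = c⁻¹ := by
      have h1 : l⁻¹ * x * l⁻¹⁻¹ * x⁻¹ = l⁻¹ * c⁻¹ * l := by rw [hcdef]; group
      rw [h1]
      calc l⁻¹ * c⁻¹ * l = l⁻¹ * c⁻¹ * (l * c) * c⁻¹ := by group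
        _ = l⁻¹ * c⁻¹ * (c * l) * c⁻¹ := by rw [hcl]
        _ = c⁻¹ := by group
    rw [this]
    exact inv_mem hc
  refine ⟨N, hDN, hNJ.trans hJC, hNJ.trans (sup_le (inf_le_left.trans le_sup_left) le_sup_right),
    hNcop, ?_, hJN hxJ, ?_⟩
  · exact ((le_sup_right : D ≤ J).trans le_normalizer).trans hJN
  · intro l hl hc
    apply hJN
    rw [mem_normalizer_iff]
    intro j
    constructor
    · exact key1 l hl hc j
    · intro hj
      have := key1 l⁻¹ (L.inv_mem hl) (key2 l hl hc) _ hj
      simpa [mul_assoc] using this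

/-- Transfer to a quotient: the image of a `p'`-subgroup `N ≤ C(x)` of `H` which is normalised by
the full preimage of `C_{H/K}(x̄)` lies in `O_{p'}(C_{H/K}(x̄))`. -/
theorem map_mk_le_centralizerPPrimeCore {H : Subgroup X} (K : Subgroup H) [K.Normal] (xH : H)
    {N : Subgroup X} (hNH : N ≤ H) (hNx : N ≤ centralizer ({(xH : X)} : Set X))
    (hNcop : (Nat.card N).Coprime p)
    (hnorm : ∀ h : H, (QuotientGroup.mk' K h) * (QuotientGroup.mk' K xH) =
      (QuotientGroup.mk' K xH) * (QuotientGroup.mk' K h) → (h : X) ∈ normalizer (N : Set X)) :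
    (N.subgroupOf H).map (QuotientGroup.mk' K) ≤
      centralizerPPrimeCore p (QuotientGroup.mk' K xH) := by
  set π := QuotientGroup.mk' K with hπ
  set W := (N.subgroupOf H).map π with hW
  set C := centralizer ({π xH} : Set (H ⧸ K)) with hC
  have hWC : W ≤ C := by
    rintro _ ⟨n, hn, rfl⟩
    rw [hC, mem_centralizer_singleton_iff, ← map_mul, ← map_mul]
    congr 1
    apply Subtype.ext
    exact mem_centralizer_singleton_iff.1 (hNx (mem_subgroupOf.1 hn))
  have hCW : C ≤ normalizer (W : Set (H ⧸ K)) := by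
    apply le_normalizer_of_forall_conj_mem
    intro c hc w hw
    obtain ⟨h, rfl⟩ := QuotientGroup.mk'_surjective K c
    obtain ⟨n, hn, rfl⟩ := hw
    have hh := hnorm h (mem_centralizer_singleton_iff.1 hc)
    have hn' : (n : X) ∈ N := hn
    refine ⟨h * n * h⁻¹, ?_, ?_⟩
    · show ((h * n * h⁻¹ : H) : X) ∈ N
      exact (mem_normalizer_iff.1 hh _).1 hn'
    · show π (h * n * h⁻¹) = π h * π n * (π h)⁻¹
      rw [map_mul, map_mul, map_inv]
  have hWcop : (Nat.card W).Coprime p := by
    have h1 : Nat.card W ∣ Nat.card (N.subgroupOf H) := card_map_dvd _ _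
    rw [Cfsg.Agent.Helper17.card_subgroupOf_of_le hNH] at h1
    exact Nat.Coprime.coprime_dvd_left h1 hNcop
  exact le_map_pPrimeCore_of_le_normalizer hWC hCW hWcop

/-- `O_{p'}(H / C_H(L)) = 1` for a component `L ≤ H` of `X` when `O_{p'}(X) = 1`. -/
theorem pPrimeCore_quotient_centralizer_eq_bot {L H : Subgroup X}
    (hL : IsComponent L) (hLH : L ≤ H)
    [hKn : ((centralizer (L : Set X)).subgroupOf H).Normal]
    (hs : ∃ s ∈ L, s ∉ centralizer (L : Set X) ∧ s ^ p ∈ centralizer (L : Set X)) :
    pPrimeCore p (↥H ⧸ (centralizer (L : Set X)).subgroupOf H) = ⊥ := by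
  set K := (centralizer (L : Set X)).subgroupOf H with hK
  set π := QuotientGroup.mk' K with hπ
  set R := pPrimeCore p (↥H ⧸ K) with hR
  haveI hRn : R.Normal := inferInstance
  set R' := R.comap π with hR'
  haveI hR'n : R'.Normal := inferInstance
  have hcomp : IsComponent (L.subgroupOf H) := isComponent_subgroupOf hL hLH
  rcases component_le_or_commutator_eq_bot hcomp (Subgroup.Normal.isSubnormal hR'n) with h | h
  · exfalso
    obtain ⟨s, hsL, hsC, hspC⟩ := hs
    set sH : H := ⟨s, hLH hsL⟩ with hsH
    have hmem : π sH ∈ R := by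
      have : sH ∈ R' := h (mem_subgroupOf.2 hsL)
      exact this
    have hpow : (π sH) ^ p = 1 := by
      rw [← map_pow, hπ, QuotientGroup.mk'_apply, QuotientGroup.eq_one_iff, hK, mem_subgroupOf]
      exact hspC
    have hne : π sH ≠ 1 := by
      intro h1
      rw [hπ, QuotientGroup.mk'_apply, QuotientGroup.eq_one_iff, hK, mem_subgroupOf] at h1
      exact hsC h1
    have hord : orderOf (π sH) = p := orderOf_eq_prime hpow hne
    have hdvd : p ∣ Nat.card R := by
      have := orderOf_dvd_natCard (⟨π sH, hmem⟩ : R)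
      rwa [Subgroup.orderOf_mk, hord] at this
    have hcop : (Nat.card R).Coprime p := pPrimeCore_coprime p
    exact (Nat.Prime.coprime_iff_not_dvd hp.out).1 hcop.symm hdvd
  · have hcomm : ∀ a ∈ L.subgroupOf H, ∀ b ∈ R', a * b = b * a :=
      commutator_eq_bot_iff_forall_commute.1 h
    have hRK : R' ≤ K := by
      intro r hr
      rw [hK, mem_subgroupOf, mem_centralizer_iff]
      intro l hl
      have := hcomm ⟨l, hLH hl⟩ (mem_subgroupOf.2 hl) r hr
      exact congrArg Subtype.val this
    rw [eq_bot_iff]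
    intro r hr
    obtain ⟨h', rfl⟩ := QuotientGroup.mk'_surjective K r
    rw [mem_bot, QuotientGroup.mk'_apply, QuotientGroup.eq_one_iff]
    exact hRK hr

/-- The quotient step: if the automizers `H / C_H(L)` are balanced then `O_{p'}(C_X(x))`
centralises every `x`-invariant component `L` not centralised by `x`. -/
theorem centralizerPPrimeCore_le_centralizer_component_of_balanced (hO : pPrimeCore p X = ⊥)
    {x : X} (hx : orderOf x = p) {L : Subgroup X} (hL : IsComponent L)
    (hLx : L.map (MulAut.conj x).toMonoidHom = L) (hxc : ¬ L ≤ centralizer ({x} : Set X))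
    (hbal : ∀ H : Subgroup X, L ≤ H → (L.subgroupOf H).Normal →
      ∀ [((centralizer (L : Set X)).subgroupOf H).Normal],
        IsBalancedFor p (↥H ⧸ (centralizer (L : Set X)).subgroupOf H)) :
    centralizerPPrimeCore p x ≤ centralizer (L : Set X) := by
  set D := centralizerPPrimeCore p x with hD
  have hDC : D ≤ centralizer ({x} : Set X) := centralizerPPrimeCore_le p x
  have hDL : D ≤ normalizer (L : Set X) :=
    centralizerPPrimeCore_le_normalizer_component_p hO hx hL hLx
  have hxL : x ∈ normalizer (L : Set X) := mem_normalizer_iff_map_conj_eq'.2 hLx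
  have hxp : x ^ p = 1 := by
    have := pow_orderOf_eq_one x
    rwa [hx] at this
  set M := D ⊔ zpowers x with hM
  have hML : M ≤ normalizer (L : Set X) := sup_le hDL (zpowers_le.2 hxL)
  have hMC : M ≤ centralizer ({x} : Set X) :=
    sup_le hDC (zpowers_le.2 (mem_centralizer_singleton_iff.2 rfl))
  set H := L ⊔ M with hH
  have hLH : L ≤ H := le_sup_left
  have hHL : H ≤ normalizer (L : Set X) := sup_le le_normalizer hML
  haveI hLn : (L.subgroupOf H).Normal := (normal_subgroupOf_iff_le_normalizer hLH).2 hHL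
  haveI hKn : ((centralizer (L : Set X)).subgroupOf H).Normal :=
    normal_subgroupOf_of_le_normalizer (hHL.trans (normalizer_le_normalizer_centralizer L))
  have hB := hbal H hLH hLn
  set K := (centralizer (L : Set X)).subgroupOf H with hK
  set π := QuotientGroup.mk' K with hπ
  have hxH : x ∈ H := (le_sup_right : M ≤ H) ((le_sup_right : zpowers x ≤ M) (mem_zpowers x))
  set xH : H := ⟨x, hxH⟩ with hxHdef
  -- `x̄` has order `p`
  have hxbar : orderOf (π xH) = p := by
    apply orderOf_eq_prime
    · rw [← map_pow]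
      have : xH ^ p = 1 := by
        apply Subtype.ext
        simpa using hxp
      rw [this, map_one]
    · intro h1
      rw [hπ, QuotientGroup.mk'_apply, QuotientGroup.eq_one_iff, hK, mem_subgroupOf] at h1
      apply hxc
      intro l hl
      rw [mem_centralizer_singleton_iff]
      exact (mem_centralizer_iff.1 h1) l hl
  -- `O_{p'}(Q) = 1`
  have hQ : pPrimeCore p (↥H ⧸ K) = ⊥ := by
    apply pPrimeCore_quotient_centralizer_eq_bot hL hLH
    obtain ⟨s, hsL, hsZ, hspZ, -⟩ := exists_fixed_coset_p hO hx hL hLx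
    rw [map_subtype_center] at hsZ hspZ
    exact ⟨s, hsL, fun h => hsZ (Subgroup.mem_inf.2 ⟨hsL, h⟩), hspZ.2⟩
  obtain ⟨N, hDN, hNx, hNLD, hNcop, hDnN, hxN, hLN⟩ := exists_core_envelope hO hx hL hLx
  have hNH : N ≤ H := hNLD.trans (sup_le hLH ((le_sup_left : D ≤ M).trans le_sup_right))
  have hMN : M ≤ normalizer (N : Set X) := sup_le hDnN (zpowers_le.2 hxN)
  have hle : (N.subgroupOf H).map π ≤ centralizerPPrimeCore p (π xH) := by
    apply map_mk_le_centralizerPPrimeCore K xH hNH hNx hNcop
    intro h hcomm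
    obtain ⟨l, hl, m, hm, hlm⟩ := (mem_sup_of_le_normalizer hML).1 h.2
    have h1 : π (h * xH * h⁻¹ * xH⁻¹) = 1 := by
      have hcomm' : π h * π xH = π xH * π h := hcomm
      rw [map_mul, map_mul, map_mul, map_inv, map_inv, hcomm']
      group
    rw [hπ, QuotientGroup.mk'_apply, QuotientGroup.eq_one_iff, hK, mem_subgroupOf] at h1
    have h2 : ((h * xH * h⁻¹ * xH⁻¹ : H) : X) = l * x * l⁻¹ * x⁻¹ := by
      have hmx : m * x = x * m := mem_centralizer_singleton_iff.1 (hMC hm)
      show (h : X) * x * (h : X)⁻¹ * x⁻¹ = l * x * l⁻¹ * x⁻¹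
      rw [← hlm]
      calc l * m * x * (l * m)⁻¹ * x⁻¹ = l * (m * x) * m⁻¹ * l⁻¹ * x⁻¹ := by group
        _ = l * (x * m) * m⁻¹ * l⁻¹ * x⁻¹ := by rw [hmx]
        _ = l * x * l⁻¹ * x⁻¹ := by group
    rw [h2] at h1
    rw [← hlm]
    exact mul_mem (hLN l hl h1) (hMN hm)
  have hbot : (N.subgroupOf H).map π ≤ ⊥ := by
    rw [← hQ]
    exact hle.trans (hB (π xH) hxbar)
  intro d hd
  have hdH : d ∈ H := (le_sup_right : M ≤ H) ((le_sup_left : D ≤ M) hd)
  have h1 : π ⟨d, hdH⟩ ∈ (N.subgroupOf H).map π :=
    mem_map_of_mem _ (mem_subgroupOf.2 (hDN hd))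
  have h2 := hbot h1
  rw [mem_bot, hπ, QuotientGroup.mk'_apply, QuotientGroup.eq_one_iff, hK, mem_subgroupOf] at h2
  exact h2

/-- If `O_{p'}(C_X(x))` centralises every component then it is trivial (when `O_{p'}(X) = 1`). -/
theorem centralizerPPrimeCore_eq_bot_of_forall_le_centralizer (hO : pPrimeCore p X = ⊥) {x : X}
    (hx : orderOf x = p)
    (hall : ∀ L : Subgroup X, IsComponent L →
      centralizerPPrimeCore p x ≤ centralizer (L : Set X)) :
    centralizerPPrimeCore p x = ⊥ := by
  set D := centralizerPPrimeCore p x with hD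
  have hDcop : (Nat.card D).Coprime p := card_centralizerPPrimeCore_coprime p x
  have h1 : layer X ≤ centralizer (D : Set X) := by
    rw [layer_le_iff]
    intro L hL
    exact le_centralizer_iff.1 (hall L hL)
  have h2 : fittingSubgroup X ≤ centralizer (D : Set X) := by
    rw [fittingSubgroup_eq_pCore_of_pPrimeCore_eq_bot hO]
    exact le_centralizer_iff.1 (centralizerPPrimeCore_le_centralizer_pCore_p hx)
  have h3 : D ≤ centralizer (generalizedFittingSubgroup X : Set X) :=
    le_centralizer_iff.1 (sup_le h1 h2)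
  set N := generalizedFittingSubgroup X ⊓ centralizer (generalizedFittingSubgroup X : Set X)
    with hN
  have hDN : D ≤ N := le_inf (h3.trans centralizer_generalizedFitting_le) h3
  have hNnormal : N.Normal := by
    haveI : (centralizer (generalizedFittingSubgroup X : Set X)).Normal := normal_centralizer
    infer_instance
  have hNcomm : IsMulCommutative N := by
    refine ⟨⟨fun a b => ?_⟩⟩
    apply Subtype.ext
    exact ((mem_centralizer_iff.1 a.2.2) b b.2.1).symm
  have hNF : N ≤ pCore p X := by
    rw [← fittingSubgroup_eq_pCore_of_pPrimeCore_eq_bot hO]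
    exact le_fittingSubgroup hNnormal (isNilpotent_of_isMulCommutative _)
  have hDp : IsPGroup p D := (pCore_isPGroup p).to_le (hDN.trans hNF)
  obtain ⟨k, hk⟩ := IsPGroup.iff_card.1 hDp
  rw [← card_eq_one]
  rcases k with _ | k
  · rw [hk, pow_zero]
  · exfalso
    rw [hk] at hDcop
    have : p ∣ Nat.gcd (p ^ (k + 1)) p := Nat.dvd_gcd (dvd_pow_self p (Nat.succ_ne_zero k)) dvd_rfl
    rw [hDcop] at this
    exact hp.out.one_lt.ne' (Nat.dvd_one.1 this)

/-- S1271: if `O_{p'}(X) = 1` and the automizers `H / C_H(L)` of the components are balanced for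
`p` then `X` is balanced for `p`. -/
theorem isBalancedFor_of_component_automizers_balanced (hO : pPrimeCore p X = ⊥)
    (h : ∀ L : Subgroup X, IsComponent L → ∀ H : Subgroup X, L ≤ H → (L.subgroupOf H).Normal →
      ∀ [((centralizer (L : Set X)).subgroupOf H).Normal],
        IsBalancedFor p (↥H ⧸ (centralizer (L : Set X)).subgroupOf H)) :
    IsBalancedFor p X := by
  intro x hx
  rw [hO]
  apply le_of_eq
  apply centralizerPPrimeCore_eq_bot_of_forall_le_centralizer hO hx
  intro L hL
  by_cases h1 : L.map (MulAut.conj x).toMonoidHom = L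
  · by_cases h2 : L ≤ centralizer ({x} : Set X)
    · have := commutator_centralizerPPrimeCore_eq_bot_of_le_centralizer (p := p) hO hL h2
      rw [commutator_comm, commutator_eq_bot_iff_le_centralizer] at this
      exact this
    · exact centralizerPPrimeCore_le_centralizer_component_of_balanced hO hx hL h1 h2 (h L hL)
  · have := commutator_centralizerPPrimeCore_eq_bot_of_map_conj_ne (p := p) hO hx hL h1
    rw [commutator_comm, commutator_eq_bot_iff_le_centralizer] at this
    exact this

end Cfsg.Agent.Helper7
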