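import Mathlib
import Cfsg.Prelude.Def_Balance
import Cfsg.Agent.Helper7.BalanceComp2
import Cfsg.Agent.Lead.Coprime3

set_option autoImplicit false
set_option linter.style.haveILetI false
set_option linter.unusedSectionVars false

/-! # The automizer `H / C_H(L)` inside `Aut(L / Z(L))`, and transport of cores (S1297, S1298) -/

namespace Cfsg.Agent.Helper7

open Subgroup Cfsg
open scoped Pointwise commutatorElement
open Cfsg.Agent.Helper19 (pPrimeCore_coprime)

universe u

section aut

/-- The automorphism induced on `N / Z(N)`. -/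
def autQuotientCenter (N : Type*) [Group N] : MulAut N →* MulAut (N ⧸ center N) where
  toFun σ := QuotientGroup.congr (center N) (center N) σ
    ((Subgroup.characteristic_iff_map_eq.1 inferInstance) σ)
  map_one' := by
    ext q
    induction q using QuotientGroup.induction_on with
    | H x => rfl
  map_mul' σ τ := by
    ext q
    induction q using QuotientGroup.induction_on with
    | H x => rfl

theorem autQuotientCenter_apply {N : Type*} [Group N] (σ : MulAut N) (n : N) :
    autQuotientCenter N σ (n : N ⧸ center N) = ((σ n : N) : N ⧸ center N) := rfl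

/-- An automorphism of a perfect group acting trivially modulo the centre is trivial. -/
theorem eq_one_of_autQuotientCenter_eq_one {N : Type*} [Group N] (hperf : commutator N = ⊤)
    {σ : MulAut N} (h : autQuotientCenter N σ = 1) : σ = 1 := by
  have hmem : ∀ n : N, n⁻¹ * σ n ∈ center N := by
    intro n
    have h1 : autQuotientCenter N σ (n : N ⧸ center N) = (n : N ⧸ center N) := by
      rw [h]; rfl
    rw [autQuotientCenter_apply] at h1
    exact QuotientGroup.eq.1 h1.symm
  obtain ⟨f, hf⟩ : ∃ f : N →* N, ∀ n, f n = n⁻¹ * σ n := by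
    refine ⟨MonoidHom.mk' (fun n => n⁻¹ * σ n) ?_, fun n => rfl⟩
    intro n m
    have hc : (n⁻¹ * σ n) * m⁻¹ = m⁻¹ * (n⁻¹ * σ n) :=
      (mem_center_iff.1 (hmem n) m⁻¹).symm
    show (n * m)⁻¹ * σ (n * m) = (n⁻¹ * σ n) * (m⁻¹ * σ m)
    rw [map_mul]
    generalize σ n = a at hc ⊢
    generalize σ m = b
    calc (n * m)⁻¹ * (a * b) = (m⁻¹ * (n⁻¹ * a)) * b := by
          rw [mul_inv_rev]; simp only [mul_assoc]
      _ = ((n⁻¹ * a) * m⁻¹) * b := by rw [hc]
      _ = (n⁻¹ * a) * (m⁻¹ * b) := by simp only [mul_assoc]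
  have hker : f.ker = ⊤ := by
    have h1 : _root_.commutator N ≤ f.ker := by
      rw [commutator_def, Subgroup.commutator_le]
      intro a _ b _
      rw [MonoidHom.mem_ker, map_commutatorElement, commutatorElement_def]
      have hb : f b ∈ center N := by rw [hf]; exact hmem b
      have : f a * f b = f b * f a := mem_center_iff.1 hb (f a)
      calc f a * f b * (f a)⁻¹ * (f b)⁻¹ = (f b * f a) * (f a)⁻¹ * (f b)⁻¹ := by rw [this]
        _ = 1 := by group
    rw [hperf] at h1
    exact top_le_iff.1 h1
  ext n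
  have h1 : n ∈ f.ker := by rw [hker]; exact mem_top n
  rw [MonoidHom.mem_ker, hf] at h1
  rw [MulAut.one_apply]
  exact (inv_mul_eq_one.1 h1).symm

end aut

section automizer

variable {X : Type u} [Group X] {L H : Subgroup X}

/-- Conjugation by `h ∈ H` as an automorphism of the normal subgroup `L` of `H`. -/
noncomputable def automizerAut (hLH : L ≤ H) [(L.subgroupOf H).Normal] (h : H) : MulAut ↥L :=
  MulAut.congr (subgroupOfEquivOfLe hLH) (MulAut.conjNormal (H := L.subgroupOf H) h)

theorem coe_automizerAut (hLH : L ≤ H) [(L.subgroupOf H).Normal] (h : H) (l : L) :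
    ((automizerAut hLH h l : L) : X) = (h : X) * l * (h : X)⁻¹ := by
  unfold automizerAut
  simp [MulAut.congr]

/-- The action of `H` on `L / Z(L)` for a normal subgroup `L` of `H`. -/
noncomputable def automizerHom (hLH : L ≤ H) [(L.subgroupOf H).Normal] :
    ↥H →* MulAut (↥L ⧸ center ↥L) :=
  (autQuotientCenter ↥L).comp
    ((MulAut.congr (subgroupOfEquivOfLe hLH)).toMonoidHom.comp
      (MulAut.conjNormal (H := L.subgroupOf H)))

theorem automizerHom_eq (hLH : L ≤ H) [(L.subgroupOf H).Normal] (h : H) :
    automizerHom hLH h = autQuotientCenter ↥L (automizerAut hLH h) := rfl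

theorem automizerHom_apply (hLH : L ≤ H) [(L.subgroupOf H).Normal] (h : H) (l : L) :
    automizerHom hLH h (l : ↥L ⧸ center ↥L) = ((automizerAut hLH h l : L) : ↥L ⧸ center ↥L) :=
  rfl

theorem automizerHom_ker (hLH : L ≤ H) [(L.subgroupOf H).Normal]
    (hperf : commutator ↥L = ⊤) :
    (automizerHom hLH).ker = (centralizer (L : Set X)).subgroupOf H := by
  ext h
  rw [MonoidHom.mem_ker, mem_subgroupOf, mem_centralizer_iff, automizerHom_eq]
  constructor
  · intro h1
    have h2 := eq_one_of_autQuotientCenter_eq_one hperf h1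
    intro l hl
    have h3 : automizerAut hLH h ⟨l, hl⟩ = ⟨l, hl⟩ := by rw [h2]; rfl
    have h4 := congrArg Subtype.val h3
    rw [coe_automizerAut] at h4
    have h5 : (h : X) * l * (h : X)⁻¹ = l := h4
    calc l * (h : X) = ((h : X) * l * (h : X)⁻¹) * h := by rw [h5]
      _ = h * l := by group
  · intro h1
    have : automizerAut hLH h = 1 := by
      ext l
      rw [coe_automizerAut, MulAut.one_apply]
      have := h1 l l.2
      calc (h : X) * l * (h : X)⁻¹ = (l * h) * (h : X)⁻¹ := by rw [this]
        _ = l := by group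
    rw [this, map_one]

theorem conj_range_le_automizerHom_range (hLH : L ≤ H) [(L.subgroupOf H).Normal] :
    (MulAut.conj : (↥L ⧸ center ↥L) →* MulAut (↥L ⧸ center ↥L)).range ≤
      (automizerHom hLH).range := by
  rintro _ ⟨q, rfl⟩
  obtain ⟨l, rfl⟩ := QuotientGroup.mk_surjective q
  refine ⟨⟨l, hLH l.2⟩, ?_⟩
  ext q'
  induction q' using QuotientGroup.induction_on with
  | H l' =>
    rw [automizerHom_apply, MulAut.conj_apply, ← QuotientGroup.mk_inv, ← QuotientGroup.mk_mul,
      ← QuotientGroup.mk_mul]
    congr 1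

/-- The automizer `H / C_H(L)` as a group of automorphisms of `L / Z(L)`. -/
noncomputable def automizerEquiv (hLH : L ≤ H) [(L.subgroupOf H).Normal]
    [((centralizer (L : Set X)).subgroupOf H).Normal] (hperf : commutator ↥L = ⊤) :
    ↥H ⧸ (centralizer (L : Set X)).subgroupOf H ≃* ↥(automizerHom hLH).range :=
  (QuotientGroup.quotientMulEquivOfEq (automizerHom_ker hLH hperf).symm).trans
    (QuotientGroup.quotientKerEquivRange _)

end automizer

section transport

variable {G G' : Type u} [Group G] [Group G'] [Finite G] [Finite G']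

/-- The image of `O_{p'}(C_G(x))` under an isomorphism lies in `O_{p'}(C_{G'}(e x))`. -/
theorem map_centralizerPPrimeCore_le (e : G ≃* G') (p : ℕ) (x : G) :
    (centralizerPPrimeCore p x).map e.toMonoidHom ≤ centralizerPPrimeCore p (e x) := by
  set D := centralizerPPrimeCore p x with hD
  set W := D.map e.toMonoidHom with hW
  set C := centralizer ({e x} : Set G') with hC
  have hWC : W ≤ C := by
    rintro _ ⟨w, hw, rfl⟩
    rw [hC, mem_centralizer_singleton_iff]
    show e w * e x = e x * e w
    rw [← map_mul, ← map_mul]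
    congr 1
    exact mem_centralizer_singleton_iff.1 (centralizerPPrimeCore_le p x hw)
  have hCW : C ≤ normalizer (W : Set G') := by
    apply le_normalizer_of_forall_conj_mem
    intro c hc w hw
    obtain ⟨d, hd, rfl⟩ := hw
    have hc' : e.symm c ∈ centralizer ({x} : Set G) := by
      rw [mem_centralizer_singleton_iff]
      apply e.injective
      rw [map_mul, map_mul, e.apply_symm_apply]
      exact mem_centralizer_singleton_iff.1 hc
    have h1 := (mem_normalizer_iff.1 (centralizer_le_normalizer_centralizerPPrimeCore p x hc') d).1 hd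
    refine ⟨e.symm c * d * (e.symm c)⁻¹, h1, ?_⟩
    show e (e.symm c * d * (e.symm c)⁻¹) = c * e d * c⁻¹
    rw [map_mul, map_mul, map_inv, e.apply_symm_apply]
  have hWcop : (Nat.card W).Coprime p :=
    Nat.Coprime.coprime_dvd_left (card_map_dvd _ _) (card_centralizerPPrimeCore_coprime p x)
  exact le_map_pPrimeCore_of_le_normalizer hWC hCW hWcop

theorem centralizerPPrimeCore_eq_bot_of_equiv (e : G ≃* G') {p : ℕ} {x : G}
    (h : centralizerPPrimeCore p (e x) = ⊥) : centralizerPPrimeCore p x = ⊥ := by
  have h1 := map_centralizerPPrimeCore_le e p x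
  rw [h, le_bot_iff] at h1
  exact (map_eq_bot_iff_of_injective _ e.injective).1 h1

end transport

section balanced

variable {X : Type u} [Group X] [Finite X]

/-- If `L / Z(L)` is locally balanced then every automizer `H / C_H(L)` is balanced for `2`. -/
theorem isBalancedFor_two_automizer {L H : Subgroup X} (hLq : IsQuasisimple ↥L) (hLH : L ≤ H)
    [(L.subgroupOf H).Normal] [((centralizer (L : Set X)).subgroupOf H).Normal]
    (hloc : IsLocallyBalanced (↥L ⧸ center ↥L)) :
    IsBalancedFor 2 (↥H ⧸ (centralizer (L : Set X)).subgroupOf H) := by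
  intro q hq
  set e := automizerEquiv hLH hLq.1.commutator_eq_top with he
  have h1 := hloc (automizerHom hLH).range (conj_range_le_automizerHom_range hLH) (e q)
    (by rw [e.orderOf_eq]; exact hq)
  rw [centralizerPPrimeCore_eq_bot_of_equiv e h1]
  exact bot_le

/-- Variant of `map_mk_le_centralizerPPrimeCore` where only some lift of each element of
`C_{H/K}(x̄)` is required to normalise `N`. -/
theorem map_mk_le_centralizerPPrimeCore' {p : ℕ} {H : Subgroup X} (K : Subgroup H) [K.Normal]
    (xH : H) {N : Subgroup X} (hNH : N ≤ H) (hNx : N ≤ centralizer ({(xH : X)} : Set X))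
    (hNcop : (Nat.card N).Coprime p)
    (hnorm : ∀ q : H ⧸ K, q * (QuotientGroup.mk' K xH) = (QuotientGroup.mk' K xH) * q →
      ∃ h : H, QuotientGroup.mk' K h = q ∧ (h : X) ∈ normalizer (N : Set X)) :
    (N.subgroupOf H).map (QuotientGroup.mk' K) ≤
      centralizerPPrimeCore p (QuotientGroup.mk' K xH) := by
  set π := QuotientGroup.mk' K with hπ
  set W := (N.subgroupOf H).map π with hW
  set C := centralizer ({π xH} : Set (H ⧸ K)) with hC
  have hWC : W ≤ C := by
    rintro _ ⟨n, hn, rfl⟩
    rw [hC, mem_centralizer_singleton_iff, ← map_mul, ← map_mul]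
    congr 1
    apply Subtype.ext
    exact mem_centralizer_singleton_iff.1 (hNx (mem_subgroupOf.1 hn))
  have hCW : C ≤ normalizer (W : Set (H ⧸ K)) := by
    apply le_normalizer_of_forall_conj_mem
    intro c hc w hw
    obtain ⟨h, rfl, hh⟩ := hnorm c (mem_centralizer_singleton_iff.1 hc)
    obtain ⟨n, hn, rfl⟩ := hw
    have hn' : (n : X) ∈ N := hn
    refine ⟨h * n * h⁻¹, ?_, ?_⟩
    · show ((h * n * h⁻¹ : H) : X) ∈ N
      exact (mem_normalizer_iff.1 hh _).1 hn'
    · show π (h * n * h⁻¹) = π h * π n * (π h)⁻¹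
      rw [map_mul, map_mul, map_inv]
  have hWcop : (Nat.card W).Coprime p := by
    have h1 : Nat.card W ∣ Nat.card (N.subgroupOf H) := card_map_dvd _ _
    rw [Cfsg.Agent.Helper17.card_subgroupOf_of_le hNH] at h1
    exact Nat.Coprime.coprime_dvd_left h1 hNcop
  exact le_map_pPrimeCore_of_le_normalizer hWC hCW hWcop

/-- Reduction modulo `O_{p'}(C)`: the image of `O_{p'}(C_X(a)) ∩ C` in `C / O_{p'}(C)` lies in
`O_{p'}` of the centralizer of the image of `a` (for `a ∈ C` of order `p`). -/
theorem map_mk_core_inf_le {p : ℕ} [hp : Fact p.Prime] (C : Subgroup X) {a : X} (haC : a ∈ C)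
    (ha : orderOf a = p) :
    ((centralizerPPrimeCore p a ⊓ C).subgroupOf C).map (QuotientGroup.mk' (pPrimeCore p ↥C)) ≤
      centralizerPPrimeCore p (QuotientGroup.mk' (pPrimeCore p ↥C) ⟨a, haC⟩) := by
  set W := pPrimeCore p ↥C with hW
  set π := QuotientGroup.mk' W with hπ
  set aC : C := ⟨a, haC⟩ with haCdef
  set N := centralizerPPrimeCore p a ⊓ C with hN
  have hNx : N ≤ centralizer ({(aC : X)} : Set X) :=
    inf_le_left.trans (centralizerPPrimeCore_le p a)
  have hNcop : (Nat.card N).Coprime p :=
    Nat.Coprime.coprime_dvd_left (card_dvd_of_le inf_le_left)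
      (card_centralizerPPrimeCore_coprime p a)
  apply map_mk_le_centralizerPPrimeCore' W aC inf_le_right hNx hNcop
  intro q hq
  obtain ⟨k, rfl⟩ := QuotientGroup.mk'_surjective W q
  have hWn : zpowers aC ≤ normalizer (W : Set C) := by
    rw [normalizer_eq_top_iff.2 inferInstance]; exact le_top
  have hcardA : Nat.card (zpowers aC) = p := by
    rw [Nat.card_zpowers, haCdef, Subgroup.orderOf_mk, ha]
  have hcop : (Nat.card (zpowers aC)).Coprime (Nat.card W) := by
    rw [hcardA]; exact (pPrimeCore_coprime p).symm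
  have hcomm : Commute (π aC) (π k) := hq.symm
  have hfix : ∀ a' ∈ zpowers aC, a' * k * a'⁻¹ * k⁻¹ ∈ W := by
    intro a' ha'
    obtain ⟨i, rfl⟩ := mem_zpowers_iff.1 ha'
    rw [← QuotientGroup.eq_one_iff]
    show π (aC ^ i * k * (aC ^ i)⁻¹ * k⁻¹) = 1
    rw [map_mul, map_mul, map_mul, map_inv, map_inv, map_zpow]
    have := (hcomm.zpow_left i).eq
    rw [this]
    group
  obtain ⟨c, hcA, hck⟩ := Cfsg.Agent.Lead.coprime_invariant_coset_fixed (zpowers aC) W hWn hcop
    (Or.inl (Group.isSolvable_of_comm (fun x y => mul_comm' x y))) k hfix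
  refine ⟨c, ?_, ?_⟩
  · have h1 : π (c * k⁻¹) = 1 := (QuotientGroup.eq_one_iff _).2 hck
    rw [map_mul, map_inv, mul_inv_eq_one] at h1
    exact h1
  · have hca : (c : X) ∈ centralizer ({a} : Set X) := by
      rw [mem_centralizer_singleton_iff]
      have := (mem_centralizer_iff.1 hcA) aC (mem_zpowers aC)
      exact (congrArg Subtype.val this).symm
    have h1 : (c : X) ∈ normalizer (centralizerPPrimeCore p a : Set X) :=
      centralizer_le_normalizer_centralizerPPrimeCore p a hca
    have h2 : (c : X) ∈ normalizer (C : Set X) := le_normalizer c.2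
    rw [mem_normalizer_iff]
    intro n
    rw [Subgroup.mem_inf, Subgroup.mem_inf, ← mem_normalizer_iff.1 h1 n,
      ← mem_normalizer_iff.1 h2 n]

end balanced

end Cfsg.Agent.Helper7
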