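import Mathlib
import Cfsg.Agent.Helper7.PLocal
import Cfsg.Agent.Helper7.PComponent
import Cfsg.Agent.Helper7.CoreComponent
import Cfsg.Agent.Helper7.Connected
import Cfsg.Agent.Helper7.Signalizer

set_option autoImplicit false
set_option linter.style.haveILetI false
set_option linter.unusedSectionVars false

/-! # `L_{p'}(N_G(P))` normalises every component of `G` when `O_{p'}(G) = 1` (S1269) -/

namespace Cfsg.Agent.Helper7

open Subgroup Cfsg
open Cfsg.Agent.Helper14 (pCore_isPGroup le_pCore pCore_characteristic)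
open Cfsg.Agent.Helper19 (pPrimeCore_coprime)

universe u

section fixed

variable {H : Type*} [Group H] [Finite H] {p : ℕ} [hp : Fact p.Prime]

/-- A `p`-group `Q` normalising a subgroup `K` of order divisible by `p` centralises an element
of order `p` of `K`. -/
theorem exists_orderOf_eq_mem_inf_centralizer {Q K : Subgroup H} (hQ : IsPGroup p Q)
    (hQK : Q ≤ normalizer (K : Set H)) (hdvd : p ∣ Nat.card K) :
    ∃ y ∈ K, y ∈ centralizer (Q : Set H) ∧ orderOf y = p := by
  let _ : MulAction ↥Q ↥K := MulAction.compHom ↥K (Subgroup.inclusion hQK)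
  have hsmul : ∀ (q : Q) (b : K), ((q • b : K) : H) = (q : H) * b * (q : H)⁻¹ := fun q b => rfl
  have h1 := hQ.card_modEq_card_fixedPoints (α := ↥K)
  set C : Subgroup H := K ⊓ centralizer (Q : Set H) with hC
  have hmem : ∀ b : K, b ∈ MulAction.fixedPoints ↥Q ↥K ↔ (b : H) ∈ C := by
    intro b
    rw [MulAction.mem_fixedPoints, hC, mem_inf, mem_centralizer_iff]
    constructor
    · intro h
      refine ⟨b.2, fun q hq => ?_⟩
      have h2 := congrArg Subtype.val (h ⟨q, hq⟩)
      rw [hsmul] at h2
      calc q * (b : H) = q * b * q⁻¹ * q := by group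
        _ = b * q := by rw [h2]
    · intro h q
      apply Subtype.ext
      rw [hsmul]
      have := h.2 q q.2
      calc (q : H) * b * (q : H)⁻¹ = b * q * (q : H)⁻¹ := by rw [this]
        _ = b := by group
  have hcard : Nat.card (MulAction.fixedPoints ↥Q ↥K) = Nat.card C := by
    apply Nat.card_congr
    refine ⟨fun b => ⟨(b : K), (hmem b).1 b.2⟩, fun c => ⟨⟨c, c.2.1⟩, (hmem _).2 c.2⟩, ?_, ?_⟩
    · intro b; rfl
    · intro c; rfl
  have hdvd' : p ∣ Nat.card C := by
    rw [← hcard]
    exact (Nat.modEq_zero_iff_dvd.1 (h1.symm.trans (Nat.modEq_zero_iff_dvd.2 hdvd)))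
  obtain ⟨y, hy⟩ := exists_prime_orderOf_dvd_card' p hdvd'
  refine ⟨y, y.2.1, y.2.2, ?_⟩
  rw [← hy, Subgroup.orderOf_coe]

end fixed

section orbit

variable {G : Type u} [Group G] [Finite G]

/-- The join of the `P`-conjugates of `L`. -/
def conjSup (P L : Subgroup G) : Subgroup G :=
  ⨆ u : P, L.map (MulAut.conj (u : G)).toMonoidHom

theorem map_conj_le_conjSup (P L : Subgroup G) {u : G} (hu : u ∈ P) :
    L.map (MulAut.conj u).toMonoidHom ≤ conjSup P L :=
  le_iSup (fun u : P => L.map (MulAut.conj (u : G)).toMonoidHom) ⟨u, hu⟩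

theorem le_conjSup (P L : Subgroup G) : L ≤ conjSup P L := by
  have := map_conj_le_conjSup P L (one_mem P)
  rwa [map_conj_one_cn] at this

theorem conjSup_le_layer {P L : Subgroup G} (hL : IsComponent L) : conjSup P L ≤ layer G := by
  unfold conjSup
  apply iSup_le
  intro u
  exact IsComponent.le_layer (isComponent_map_conj hL _)

/-- A component outside the `P`-orbit of `L` commutes with `conjSup P L`. -/
theorem conjSup_le_centralizer {P L K : Subgroup G} (hL : IsComponent L) (hK : IsComponent K)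
    (hne : ∀ u ∈ P, L.map (MulAut.conj u).toMonoidHom ≠ K) :
    conjSup P L ≤ centralizer (K : Set G) := by
  unfold conjSup
  apply iSup_le
  intro u
  rw [← commutator_eq_bot_iff_le_centralizer]
  exact components_commute (isComponent_map_conj hL _) hK (hne u u.2)

/-- If `g` centralises `P` and moves `L` out of its `P`-orbit, then `conjSup P L` commutes with
its `g`-conjugate. -/
theorem map_conj_conjSup_le_centralizer {P L : Subgroup G} (hL : IsComponent L) {g : G}
    (hg : g ∈ centralizer (P : Set G))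
    (hne : ∀ u ∈ P, L.map (MulAut.conj g).toMonoidHom ≠ L.map (MulAut.conj u).toMonoidHom) :
    (conjSup P L).map (MulAut.conj g).toMonoidHom ≤ centralizer (conjSup P L : Set G) := by
  unfold conjSup
  rw [Subgroup.map_iSup]
  apply iSup_le
  intro u
  rw [le_centralizer_iff]
  apply conjSup_le_centralizer hL (isComponent_map_conj (isComponent_map_conj hL _) _)
  intro v hv heq
  -- `L^v = (L^u)^g = (L^g)^u`
  have hcomm : (u : G) * g = g * u := (mem_centralizer_iff.1 hg) u u.2
  rw [map_conj_comm hcomm] at heq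
  apply hne ((u : G)⁻¹ * v) (P.mul_mem (P.inv_mem u.2) hv)
  have h2 := congrArg (fun S : Subgroup G => S.map (MulAut.conj ((u : G)⁻¹)).toMonoidHom) heq
  beta_reduce at h2
  rw [← map_conj_mul, ← map_conj_mul, inv_mul_cancel, map_conj_one_cn] at h2
  exact h2.symm

/-- If `g` centralises `P` and keeps `L` in its `P`-orbit, then `g` normalises `conjSup P L`. -/
theorem map_conj_conjSup_le {P L : Subgroup G} {g : G} (hg : g ∈ centralizer (P : Set G))
    {u₀ : G} (hu₀ : u₀ ∈ P)
    (h : L.map (MulAut.conj g).toMonoidHom = L.map (MulAut.conj u₀).toMonoidHom) :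
    (conjSup P L).map (MulAut.conj g).toMonoidHom ≤ conjSup P L := by
  unfold conjSup
  rw [Subgroup.map_iSup]
  apply iSup_le
  intro u
  have hcomm : (u : G) * g = g * u := (mem_centralizer_iff.1 hg) u u.2
  rw [map_conj_comm hcomm, h, ← map_conj_mul]
  exact map_conj_le_conjSup P L (P.mul_mem u.2 hu₀)

/-- `Z(conjSup P L) ≤ Z(E(G))`. -/
theorem mem_fitting_inf_layer_of_mem_conjSup {P L : Subgroup G} (hL : IsComponent L) {x : G}
    (hx : x ∈ conjSup P L) (hx' : x ∈ centralizer (conjSup P L : Set G)) :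
    x ∈ fittingSubgroup G ⊓ layer G := by
  rw [← map_subtype_center_layer, map_subtype_center]
  refine mem_inf.2 ⟨conjSup_le_layer hL hx, ?_⟩
  have : layer G ≤ centralizer ({x} : Set G) := by
    rw [layer_le_iff]
    intro K hK
    by_cases hKo : ∃ u ∈ P, L.map (MulAut.conj u).toMonoidHom = K
    · obtain ⟨u, hu, rfl⟩ := hKo
      intro y hy
      rw [mem_centralizer_singleton_iff]
      exact ((mem_centralizer_iff.1 hx') y (map_conj_le_conjSup P L hu hy))
    · push Not at hKo
      intro y hy
      rw [mem_centralizer_singleton_iff]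
      exact (mem_centralizer_iff.1 (conjSup_le_centralizer hL hK hKo hx)) y hy
  rw [mem_centralizer_iff]
  intro y hy
  have := this hy
  rw [mem_centralizer_singleton_iff] at this
  exact this

/-- If `g` centralises `P` and `L^g = L^u` with `u ∈ P`, then `L^(g^n) = L^(u^n)`. -/
theorem map_conj_pow_eq_of_orbit_fixed {P L : Subgroup G} {g u : G}
    (hg : g ∈ centralizer (P : Set G)) (hu : u ∈ P)
    (h : L.map (MulAut.conj g).toMonoidHom = L.map (MulAut.conj u).toMonoidHom) (n : ℕ) :
    L.map (MulAut.conj (g ^ n)).toMonoidHom = L.map (MulAut.conj (u ^ n)).toMonoidHom := by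
  induction n with
  | zero => rw [pow_zero, pow_zero]
  | succ n ih =>
    have hcomm : u ^ n * g = g * u ^ n := (mem_centralizer_iff.1 hg) _ (P.pow_mem hu n)
    rw [pow_succ' g, map_conj_mul, ih, map_conj_comm hcomm, h, ← map_conj_mul, ← pow_succ]

/-- Step C: a `p'`-element centralising the `p`-group `P` and fixing the `P`-orbit of `L`
normalises `L`. -/
theorem map_conj_eq_self_of_orbit_fixed {p : ℕ} [hp : Fact p.Prime] {P L : Subgroup G}
    (hP : IsPGroup p P) {k u : G} (hkP : k ∈ centralizer (P : Set G))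
    (hk : (orderOf k).Coprime p) (hu : u ∈ P)
    (h : L.map (MulAut.conj k).toMonoidHom = L.map (MulAut.conj u).toMonoidHom) :
    L.map (MulAut.conj k).toMonoidHom = L := by
  obtain ⟨j, hj⟩ := hP ⟨u, hu⟩
  have hj' : u ^ p ^ j = 1 := congrArg Subtype.val hj
  have h1 := map_conj_pow_eq_of_orbit_fixed hkP hu h (p ^ j)
  rw [hj', map_conj_one_cn] at h1
  have h2 : k ^ p ^ j ∈ normalizer (L : Set G) := mem_normalizer_iff_map_conj_eq'.2 h1
  have h3 : k ∈ zpowers (k ^ p ^ j) := mem_zpowers_pow_of_coprime (Nat.Coprime.pow_right _ hk)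
  exact mem_normalizer_iff_map_conj_eq'.1 ((zpowers_le.2 h2) h3)

end orbit

section core

variable {G : Type u} [Group G] [Finite G] {p : ℕ} [hp : Fact p.Prime]

theorem eq_one_of_pow_eq_one_of_coprime {H : Type*} [Group H] {x : H} {a b : ℕ}
    (ha : x ^ a = 1) (hb : x ^ b = 1) (hab : a.Coprime b) : x = 1 := by
  rw [← orderOf_eq_one_iff]
  have h1 := orderOf_dvd_of_pow_eq_one ha
  have h2 := orderOf_dvd_of_pow_eq_one hb
  exact Nat.eq_one_of_dvd_coprimes hab h1 h2

theorem conjSup_le_normalizer (P L : Subgroup G) : P ≤ normalizer (conjSup P L : Set G) := by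
  apply le_normalizer_of_forall_conj_mem
  intro u hu x hx
  have h1 : (conjSup P L).map (MulAut.conj u).toMonoidHom ≤ conjSup P L := by
    unfold conjSup
    rw [Subgroup.map_iSup]
    apply iSup_le
    intro v
    rw [← map_conj_mul]
    exact map_conj_le_conjSup P L (P.mul_mem hu v.2)
  exact h1 (conj_mem_map_conj hx)

/-- The image of a component in `G/Z(E(G))` has order divisible by `p` when `O_{p'}(G) = 1`. -/
theorem dvd_card_map_mk_component (hO : pPrimeCore p G = ⊥) {L : Subgroup G}
    (hL : IsComponent L) :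
    p ∣ Nat.card (L.map (QuotientGroup.mk' (fittingSubgroup G ⊓ layer G))) := by
  set Z := fittingSubgroup G ⊓ layer G with hZ
  set f : L →* G ⧸ Z := (QuotientGroup.mk' Z).comp L.subtype with hf
  have hrange : f.range = L.map (QuotientGroup.mk' Z) := by
    rw [hf, MonoidHom.range_comp, Subgroup.range_subtype]
  have hker : f.ker ≤ center L := by
    intro x hx
    rw [MonoidHom.mem_ker] at hx
    have hxZ : (x : G) ∈ Z := (QuotientGroup.eq_one_iff (x : G)).1 hx
    rw [Subgroup.mem_center_iff]
    intro y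
    apply Subtype.ext
    have := commutator_eq_bot_iff_forall_commute.1 (layer_commutator_fitting (G := G))
      (y : G) (IsComponent.le_layer hL y.2) (x : G) (mem_inf.1 hxZ).1
    exact this
  rw [← hrange, ← Subgroup.index_ker]
  refine Dvd.dvd.trans ?_ (Subgroup.index_dvd_of_le hker)
  by_contra hnd
  haveI : Group.IsPerfect L := hL.2.1
  have hcop : ((center L).index).Coprime p :=
    (Nat.coprime_comm.1 ((Nat.Prime.coprime_iff_not_dvd hp.out).2 hnd))
  have h1 := card_coprime_of_perfect_of_index_center_coprime hcop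
  have h2 : L ≤ pPrimeCore p G := subnormal_coprime_le_pPrimeCore hL.1 h1
  rw [hO, le_bot_iff] at h2
  exact IsComponent.ne_bot hL h2

/-- Existence of the element `t`. -/
theorem exists_pElement_conjSup (hO : pPrimeCore p G = ⊥) {P : Subgroup G} (hP : IsPGroup p P)
    {L : Subgroup G} (hL : IsComponent L) :
    ∃ t ∈ conjSup P L, ∃ a : ℕ, t ^ p ^ a = 1 ∧ t ∉ fittingSubgroup G ⊓ layer G ∧
      ∀ u ∈ P, t⁻¹ * (u * t * u⁻¹) ∈ fittingSubgroup G ⊓ layer G := by
  set M := conjSup P L with hM
  set Z := fittingSubgroup G ⊓ layer G with hZ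
  set π := QuotientGroup.mk' Z with hπ
  have hdvd : p ∣ Nat.card (M.map π) :=
    (dvd_card_map_mk_component hO hL).trans (card_dvd_of_le (map_mono (le_conjSup P L)))
  have hPM : P.map π ≤ normalizer ((M.map π : Subgroup (G ⧸ Z)) : Set (G ⧸ Z)) :=
    (map_mono (conjSup_le_normalizer P L)).trans (le_normalizer_map π)
  obtain ⟨y, hyM, hyC, hyo⟩ := exists_orderOf_eq_mem_inf_centralizer (hP.map π) hPM hdvd
  obtain ⟨t₀, ht₀M, rfl⟩ := hyM
  set n := orderOf t₀ with hn
  have hn0 : n ≠ 0 := (orderOf_pos t₀).ne'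
  set a := n.factorization p with ha
  set m := n / p ^ a with hm
  have hnm : p ^ a * m = n := Nat.ordProj_mul_ordCompl_eq_self n p
  have hpm : ¬ p ∣ m := Nat.not_dvd_ordCompl hp.out hn0
  refine ⟨t₀ ^ m, M.pow_mem ht₀M m, a, ?_, ?_, ?_⟩
  · rw [← pow_mul, mul_comm, hnm, hn, pow_orderOf_eq_one]
  · intro h
    have h1 : (π t₀) ^ m = 1 := by
      rw [← map_pow]
      exact (QuotientGroup.eq_one_iff _).2 h
    have h2 := orderOf_dvd_of_pow_eq_one h1
    rw [hyo] at h2
    exact hpm h2
  · intro u hu
    rw [← QuotientGroup.eq_one_iff]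
    have h1 : π u * π (t₀ ^ m) = π (t₀ ^ m) * π u := by
      have h2 : π (t₀ ^ m) ∈ centralizer ((P.map π : Subgroup (G ⧸ Z)) : Set (G ⧸ Z)) := by
        rw [map_pow]; exact pow_mem hyC m
      exact (mem_centralizer_iff.1 h2) (π u) (mem_map_of_mem π hu)
    show π (((t₀ ^ m)⁻¹ * (u * t₀ ^ m * u⁻¹))) = 1
    rw [map_mul, map_inv, map_mul, map_mul, map_inv, h1]
    group

/-- **Core lemma.** A `p'`-element `k` centralising `P` and `O_p(G)` whose commutators with
`C_{E(G)}(P)` are `p'`-elements normalises every component of `G`. -/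
theorem map_conj_eq_self_of_coprime (hO : pPrimeCore p G = ⊥) {P : Subgroup G}
    (hP : IsPGroup p P) {k : G} (hkP : k ∈ centralizer (P : Set G))
    (hkR : k ∈ centralizer (pCore p G : Set G)) (hk : (orderOf k).Coprime p)
    (hW : ∀ d ∈ layer G ⊓ centralizer (P : Set G), (orderOf (d⁻¹ * k * d * k⁻¹)).Coprime p)
    {L : Subgroup G} (hL : IsComponent L) : L.map (MulAut.conj k).toMonoidHom = L := by
  by_cases horb : ∃ u ∈ P, L.map (MulAut.conj k).toMonoidHom = L.map (MulAut.conj u).toMonoidHom
  · obtain ⟨u, hu, h⟩ := horb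
    exact map_conj_eq_self_of_orbit_fixed hP hkP hk hu h
  exfalso
  push Not at horb
  set M := conjSup P L with hM
  set Z := fittingSubgroup G ⊓ layer G with hZ
  set π := QuotientGroup.mk' Z with hπ
  obtain ⟨t, htM, a, hta, htZ, htu⟩ := exists_pElement_conjSup hO hP hL
  have hME : M ≤ layer G := conjSup_le_layer hL
  have htE : t ∈ layer G := hME htM
  have hπt : π t ≠ 1 := fun h => htZ ((QuotientGroup.eq_one_iff t).1 h)
  have hπta : (π t) ^ p ^ a = 1 := by rw [← map_pow, hta, map_one]
  -- elements of `Z` commute with `E(G)`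
  have hZc : ∀ z ∈ Z, ∀ e ∈ layer G, z * e = e * z := by
    intro z hz e he
    exact (commutator_eq_bot_iff_forall_commute.1 (layer_commutator_fitting (G := G))
      e he z (mem_inf.1 hz).1).symm
  -- the `k`-conjugates
  set t' := k * t * k⁻¹ with ht'
  set t'' := k * t' * k⁻¹ with ht''
  have hk2P : k ^ 2 ∈ centralizer (P : Set G) := pow_mem hkP 2
  have ht'E : t' ∈ layer G := (layer_normal G).conj_mem t htE k
  have hM'c : M.map (MulAut.conj k).toMonoidHom ≤ centralizer (M : Set G) :=
    map_conj_conjSup_le_centralizer hL hkP horb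
  have ht'M' : t' ∈ M.map (MulAut.conj k).toMonoidHom := conj_mem_map_conj htM
  have ht'c : t' ∈ centralizer (M : Set G) := hM'c ht'M'
  have htt' : t' * t = t * t' := ((mem_centralizer_iff.1 ht'c) t htM).symm
  have ht''eq : t'' = k ^ 2 * t * (k ^ 2)⁻¹ := by rw [ht'', ht', pow_two]; group
  -- `d`
  set d := t⁻¹ * t' with hd
  have hdE : d ∈ layer G := mul_mem (inv_mem htE) ht'E
  have hdP : d ∈ centralizer (P : Set G) := by
    rw [mem_centralizer_iff]
    intro u hu
    set z := t⁻¹ * (u * t * u⁻¹) with hz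
    have hzZ : z ∈ Z := htu u hu
    have e1 : u * t * u⁻¹ = t * z := by rw [hz]; group
    -- `z` is a `p`-element of `Z(E)`, hence in `O_p(G)`
    have hzt : z * t = t * z := hZc z hzZ t htE
    have hzp : z ^ p ^ a = 1 := by
      have h1 : (u * t * u⁻¹) ^ p ^ a = 1 := by rw [conj_pow, hta]; group
      rw [e1, (Commute.mul_pow (show Commute t z from hzt.symm)), hta, one_mul] at h1
      exact h1
    have hzR : z ∈ pCore p G := by
      have hzpg : IsPGroup p (zpowers z) := by
        obtain ⟨b, -, hb⟩ := (Nat.dvd_prime_pow hp.out).1 (orderOf_dvd_of_pow_eq_one hzp)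
        exact IsPGroup.of_card (n := b) (by rw [Nat.card_zpowers, hb])
      have hzE : zpowers z ≤ layer G := by
        rw [zpowers_le]; exact (mem_inf.1 hzZ).2
      have hsub : (zpowers z).IsSubnormal := by
        refine IsSubnormal.trans hzE ?_ (layer_normal G).isSubnormal
        have : ((zpowers z).subgroupOf (layer G)).Normal := by
          constructor
          intro x hx e
          rw [mem_subgroupOf] at hx ⊢
          obtain ⟨i, hi⟩ := mem_zpowers_iff.1 hx
          have hc : (z ^ i) * (e : G) = e * z ^ i := hZc _ (Z.zpow_mem hzZ i) e e.2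
          have : ((e * x * e⁻¹ : layer G) : G) = (x : G) := by
            show (e : G) * x * (e : G)⁻¹ = x
            rw [← hi, ← hc]; group
          rw [this]; exact hx
        exact this.isSubnormal
      exact subnormal_pGroup_le_pCore hsub hzpg (mem_zpowers z)
    have hkz : k * z = z * k := ((mem_centralizer_iff.1 hkR) z hzR).symm
    have huk : u * k = k * u := (mem_centralizer_iff.1 hkP) u hu
    have e2 : u * t' * u⁻¹ = t' * z := by
      calc u * t' * u⁻¹ = (u * k) * t * (u * k)⁻¹ := by rw [ht']; group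
        _ = k * (u * t * u⁻¹) * k⁻¹ := by rw [huk]; group
        _ = k * (t * z) * k⁻¹ := by rw [e1]
        _ = (k * t * k⁻¹) * (k * z) * k⁻¹ := by group
        _ = (k * t * k⁻¹) * (z * k) * k⁻¹ := by rw [hkz]
        _ = t' * z := by rw [ht']; group
    have e3 : u * d * u⁻¹ = d := by
      calc u * d * u⁻¹ = (u * t * u⁻¹)⁻¹ * (u * t' * u⁻¹) := by rw [hd]; group
        _ = z⁻¹ * (t⁻¹ * t') * z := by rw [e1, e2]; group
        _ = t⁻¹ * t' := by
            have := hZc z hzZ (t⁻¹ * t') hdE
            calc z⁻¹ * (t⁻¹ * t') * z = z⁻¹ * (z * (t⁻¹ * t')) := by rw [this]; group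
              _ = t⁻¹ * t' := by group
    calc u * d = u * d * u⁻¹ * u := by group
      _ = d * u := by rw [e3]
  -- `w`
  set w := d⁻¹ * k * d * k⁻¹ with hw
  have hwcop : (orderOf w).Coprime p := hW d (mem_inf.2 ⟨hdE, hdP⟩)
  have hweq : w = t'⁻¹ * t * t'⁻¹ * t'' := by rw [hw, hd, ht'', ht']; group
  set m' := orderOf w with hm'
  have hwm : w ^ m' = 1 := pow_orderOf_eq_one w
  by_cases horb2 : ∃ u ∈ P, L.map (MulAut.conj (k ^ 2)).toMonoidHom =
      L.map (MulAut.conj u).toMonoidHom
  · -- Case B
    obtain ⟨u₀, hu₀, h2⟩ := horb2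
    have hp2 : p ≠ 2 := by
      intro hp2
      have h3 : k ∈ zpowers (k ^ 2) := mem_zpowers_pow_of_coprime (hp2 ▸ hk)
      have h4 : k ∈ Submonoid.powers (k ^ 2) := (mem_powers_iff_mem_zpowers).2 h3
      obtain ⟨j, hj⟩ := h4
      have h5 := map_conj_pow_eq_of_orbit_fixed hk2P hu₀ h2 j
      have hj' : (k ^ 2) ^ j = k := hj
      rw [hj'] at h5
      exact horb (u₀ ^ j) (P.pow_mem hu₀ j) h5
    have ht''M : t'' ∈ M := by
      rw [ht''eq]
      exact (map_conj_conjSup_le hk2P hu₀ h2) (conj_mem_map_conj htM)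
    set a' := t'⁻¹ * t'⁻¹ with ha'
    set b := t * t'' with hb
    have hbM : b ∈ M := mul_mem htM ht''M
    have ha'c : a' ∈ centralizer (M : Set G) := mul_mem (inv_mem ht'c) (inv_mem ht'c)
    have hwab : w = a' * b := by
      rw [hweq, ha', hb]
      have : t'⁻¹ * t = t * t'⁻¹ := by
        calc t'⁻¹ * t = t'⁻¹ * (t * t') * t'⁻¹ := by group
          _ = t * t'⁻¹ := by rw [← htt']; group
      have e4 : t'⁻¹ * t'⁻¹ * (t * t'') = t * t'⁻¹ * t'⁻¹ * t'' := by
        calc t'⁻¹ * t'⁻¹ * (t * t'') = t'⁻¹ * (t'⁻¹ * t) * t'' := by group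
          _ = t'⁻¹ * (t * t'⁻¹) * t'' := by rw [this]
          _ = (t'⁻¹ * t) * t'⁻¹ * t'' := by group
          _ = (t * t'⁻¹) * t'⁻¹ * t'' := by rw [this]
      rw [e4, this]
    have hcomm : Commute a' b := ((mem_centralizer_iff.1 ha'c) b hbM).symm
    have h3 : a' ^ m' * b ^ m' = 1 := by rw [← hcomm.mul_pow, ← hwab, hwm]
    have h4 : a' ^ m' = (b ^ m')⁻¹ := eq_inv_of_mul_eq_one_left h3
    have h5 : a' ^ m' ∈ Z := by
      apply mem_fitting_inf_layer_of_mem_conjSup hL
      · rw [h4]; exact inv_mem (pow_mem hbM m')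
      · exact pow_mem ha'c m'
    -- `π t'` is a `p`-element with `(π t')^(2 m') = 1`
    have h6 : (π t') ^ (2 * m') = 1 := by
      have h7 : π (a' ^ m') = 1 := (QuotientGroup.eq_one_iff _).2 h5
      rw [ha', map_pow, map_mul, map_inv, ← mul_inv_rev, inv_pow, inv_eq_one, ← pow_two,
        ← pow_mul] at h7
      exact h7
    have h8 : (π t') ^ p ^ a = 1 := by
      rw [← map_pow, ht', conj_pow, hta]; simp
    have hcop2 : (2 * m').Coprime (p ^ a) := by
      apply Nat.Coprime.pow_right
      apply Nat.Coprime.mul_left _ hwcop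
      exact (Nat.coprime_primes Nat.prime_two hp.out).2 (Ne.symm hp2)
    have h9 : π t' = 1 := eq_one_of_pow_eq_one_of_coprime h6 h8 hcop2
    apply hπt
    have : π t' = π k * π t * (π k)⁻¹ := by rw [ht', map_mul, map_mul, map_inv]
    rw [this] at h9
    calc π t = (π k)⁻¹ * (π k * π t * (π k)⁻¹) * π k := by group
      _ = 1 := by rw [h9]; group
  · -- Case A
    push Not at horb2
    have hM''c : M.map (MulAut.conj (k ^ 2)).toMonoidHom ≤ centralizer (M : Set G) :=
      map_conj_conjSup_le_centralizer hL hk2P horb2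
    have ht''c : t'' ∈ centralizer (M : Set G) := by
      rw [ht''eq]; exact hM''c (conj_mem_map_conj htM)
    set b := t'⁻¹ * t'⁻¹ * t'' with hb
    have hbc : b ∈ centralizer (M : Set G) :=
      mul_mem (mul_mem (inv_mem ht'c) (inv_mem ht'c)) ht''c
    have hwab : w = t * b := by
      rw [hweq, hb]
      have : t'⁻¹ * t = t * t'⁻¹ := by
        calc t'⁻¹ * t = t'⁻¹ * (t * t') * t'⁻¹ := by group
          _ = t * t'⁻¹ := by rw [← htt']; group
      calc t'⁻¹ * t * t'⁻¹ * t'' = (t * t'⁻¹) * t'⁻¹ * t'' := by rw [this]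
        _ = t * (t'⁻¹ * t'⁻¹ * t'') := by group
    have hcomm : Commute t b := (mem_centralizer_iff.1 hbc) t htM
    have h3 : t ^ m' * b ^ m' = 1 := by rw [← hcomm.mul_pow, ← hwab, hwm]
    have h4 : t ^ m' = (b ^ m')⁻¹ := eq_inv_of_mul_eq_one_left h3
    have h5 : t ^ m' ∈ Z := by
      apply mem_fitting_inf_layer_of_mem_conjSup hL
      · exact pow_mem htM m'
      · rw [h4]; exact inv_mem (pow_mem hbc m')
    have h6 : (π t) ^ m' = 1 := by
      rw [← map_pow]; exact (QuotientGroup.eq_one_iff _).2 h5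
    exact hπt (eq_one_of_pow_eq_one_of_coprime h6 hπta (Nat.Coprime.pow_right _ hwcop))

end core

section final

/-- The kernel of the conjugation action on the set of components. -/
def compKernel (G : Type*) [Group G] : Subgroup G :=
  ⨅ K : {K : Subgroup G // IsComponent K}, normalizer ((K : Subgroup G) : Set G)

theorem mem_compKernel_iff {G : Type*} [Group G] {g : G} :
    g ∈ compKernel G ↔ ∀ K : Subgroup G, IsComponent K →
      K.map (MulAut.conj g).toMonoidHom = K := by
  unfold compKernel
  rw [mem_iInf]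
  constructor
  · intro h K hK
    exact mem_normalizer_iff_map_conj_eq'.1 (h ⟨K, hK⟩)
  · intro h K
    exact mem_normalizer_iff_map_conj_eq'.2 (h K.1 K.2)

instance compKernel_normal (G : Type*) [Group G] : (compKernel G).Normal := by
  constructor
  intro n hn g
  rw [mem_compKernel_iff] at hn ⊢
  intro K hK
  have h1 := hn _ (isComponent_map_conj hK g⁻¹)
  -- `K^(g n g⁻¹) = ((K^(g⁻¹))^n)^g`
  have h2 : K.map (MulAut.conj (g * n * g⁻¹)).toMonoidHom =
      ((K.map (MulAut.conj g⁻¹).toMonoidHom).map (MulAut.conj n).toMonoidHom).map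
        (MulAut.conj g).toMonoidHom := by
    rw [← map_conj_mul, ← map_conj_mul, mul_assoc]
  rw [h2, h1, ← map_conj_mul, mul_inv_cancel, map_conj_one_cn]

variable {G : Type u} [Group G] [Finite G] {p : ℕ} [hp : Fact p.Prime]

theorem layer_le_compKernel : layer G ≤ compKernel G := by
  unfold compKernel
  apply le_iInf
  intro K
  exact layer_le_normalizer_component K.2

/-- **S1269.** If `O_{p'}(G) = 1` and `N = N_G(P)` for a `p`-subgroup `P`, the preimage of
`E(N/O_{p'}(N))` normalises every component of `G`. -/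
theorem pLayerPre_normalizer_le_compKernel (hO : pPrimeCore p G = ⊥) {P : Subgroup G}
    (hP : IsPGroup p P) :
    (pLayerPre p (normalizer (P : Set G))).map (normalizer (P : Set G)).subtype ≤
      compKernel G := by
  set N := normalizer (P : Set G) with hN
  set W := pPrimeCore p N with hW
  set πW := QuotientGroup.mk' W with hπW
  set 𝒦 := (compKernel G).subgroupOf N with h𝒦
  haveI h𝒦n : 𝒦.Normal := by rw [h𝒦]; infer_instance
  rw [map_le_iff_le_comap]
  show pLayerPre p N ≤ 𝒦
  -- the common argument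
  have common : ∀ a : N, (orderOf a).Coprime p → a ∈ pLayerPre p N →
      (∀ d : N, (d : G) ∈ layer G → (d : G) ∈ centralizer (P : Set G) →
        d⁻¹ * a * d * a⁻¹ ∈ W) → a ∈ 𝒦 := by
    intro a hcop ha hcomm
    rw [h𝒦, mem_subgroupOf, mem_compKernel_iff]
    intro K hK
    apply map_conj_eq_self_of_coprime hO hP _
      (mem_centralizer_pCore_of_mem_pLayerPre_normalizer p hP ha hcop) _ _ hK
    · -- `a` centralises `P`
      haveI : (P.subgroupOf N).Normal := normal_in_normalizer
      have h1 := pLayerPre_commutator_eq_bot (G := N) p (V := P.subgroupOf N) hP.comap_subtype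
      rw [mem_centralizer_iff]
      intro u hu
      have h2 := commutator_eq_bot_iff_forall_commute.1 h1 a ha ⟨u, le_normalizer hu⟩
        (mem_subgroupOf.2 hu)
      exact (congrArg Subtype.val h2).symm
    · rw [Subgroup.orderOf_coe]; exact hcop
    · intro d hd
      have hdN : d ∈ N := centralizer_le_normalizer _ (mem_inf.1 hd).2
      have h1 := hcomm ⟨d, hdN⟩ (mem_inf.1 hd).1 (mem_inf.1 hd).2
      have h2 := orderOf_coprime_of_mem_pPrimeCore p h1
      rw [← Subgroup.orderOf_coe] at h2
      exact h2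
  -- (I) `W ≤ 𝒦`
  have hWK : W ≤ 𝒦 := by
    intro a ha
    apply common a (orderOf_coprime_of_mem_pPrimeCore p ha) (pPrimeCore_le_pLayerPre p N ha)
    intro d _ _
    have h1 : d⁻¹ * a * d ∈ W := by
      have := (pPrimeCore_normal p N).conj_mem a ha d⁻¹
      rwa [inv_inv] at this
    exact W.mul_mem h1 (W.inv_mem ha)
  -- (II) `E(N/W) ≤ π(𝒦)`
  have hlayer : layer (N ⧸ W) ≤ 𝒦.map πW := by
    rw [layer_le_iff]
    intro Kb hKb
    set A := ((layer G).subgroupOf N).map πW with hA
    have hAn : A.Normal := by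
      rw [hA]
      exact Subgroup.Normal.map inferInstance πW (QuotientGroup.mk'_surjective W)
    rcases component_le_or_commutator_eq_bot hKb hAn.isSubnormal with h | h
    · refine h.trans (map_mono ?_)
      rw [h𝒦]
      exact comap_mono layer_le_compKernel
    · have h𝒦bn : (𝒦.map πW).Normal :=
        Subgroup.Normal.map h𝒦n πW (QuotientGroup.mk'_surjective W)
      apply le_of_perfect_of_forall_coprime_mem (IsComponent.commutator_eq hKb) p
      · rw [normalizer_eq_top]; exact le_top
      · intro ab hab hcop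
        obtain ⟨a, rfl⟩ := QuotientGroup.mk'_surjective W ab
        apply mem_map_of_mem
        apply common a
        · -- the order of `a`
          set o := orderOf (πW a) with ho
          have h1 : a ^ o ∈ W := by
            rw [← QuotientGroup.eq_one_iff]
            show πW (a ^ o) = 1
            rw [map_pow, ho, pow_orderOf_eq_one]
          have h2 : (a ^ o) ^ Nat.card W = 1 := by
            have := pow_card_eq_one' (G := W) (x := ⟨a ^ o, h1⟩)
            exact congrArg Subtype.val this
          rw [← pow_mul] at h2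
          exact Nat.Coprime.coprime_dvd_left (orderOf_dvd_of_pow_eq_one h2)
            (Nat.Coprime.mul_left hcop (pPrimeCore_coprime p))
        · show πW a ∈ layer (N ⧸ W)
          exact IsComponent.le_layer hKb hab
        · intro d hdE _
          rw [← QuotientGroup.eq_one_iff]
          have hdA : πW d ∈ A := mem_map_of_mem πW (mem_subgroupOf.2 hdE)
          have hc := commutator_eq_bot_iff_forall_commute.1 h (πW a) hab (πW d) hdA
          show πW (d⁻¹ * a * d * a⁻¹) = 1
          rw [map_mul, map_mul, map_mul, map_inv, map_inv, mul_assoc (πW d)⁻¹, hc]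
          group
  calc pLayerPre p N ≤ (𝒦.map πW).comap πW := comap_mono hlayer
    _ = 𝒦 ⊔ πW.ker := comap_map_eq _ _
    _ = 𝒦 := by rw [QuotientGroup.ker_mk']; exact sup_eq_left.2 hWK

end final

end Cfsg.Agent.Helper7
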