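import Mathlib
import Cfsg.Prelude.Def_GeometricClasses
import Cfsg.Agent.Helper4.SUnModel

set_option autoImplicit false

/-!
# S2282 piece P1 (FORM): the alternating anti-diagonal Hermitian form `hJ`
-/

namespace Cfsg.Agent.Helper7.SUn

open Matrix Cfsg.Agent.Helper4.SUn

variable {K : Type*} [Field K] (σ : K →+* K) (k : ℕ)

theorem hJ_add_left (x x' y : Fin (2 * k + 5) → K) :
    hJ σ k (x + x') y = hJ σ k x y + hJ σ k x' y := by
  unfold hJ
  rw [← Finset.sum_add_distrib]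
  refine Finset.sum_congr rfl fun i _ => ?_
  simp only [Pi.add_apply]
  ring

theorem hJ_smul_left (c : K) (x y : Fin (2 * k + 5) → K) :
    hJ σ k (c • x) y = c * hJ σ k x y := by
  unfold hJ
  rw [Finset.mul_sum]
  refine Finset.sum_congr rfl fun i _ => ?_
  simp only [Pi.smul_apply, smul_eq_mul]
  ring

theorem hJ_add_right (x y y' : Fin (2 * k + 5) → K) :
    hJ σ k x (y + y') = hJ σ k x y + hJ σ k x y' := by
  unfold hJ
  rw [← Finset.sum_add_distrib]
  refine Finset.sum_congr rfl fun i _ => ?_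
  simp only [Pi.add_apply, map_add]
  ring

theorem hJ_smul_right (c : K) (x y : Fin (2 * k + 5) → K) :
    hJ σ k x (c • y) = σ c * hJ σ k x y := by
  unfold hJ
  rw [Finset.mul_sum]
  refine Finset.sum_congr rfl fun i _ => ?_
  simp only [Pi.smul_apply, smul_eq_mul, map_mul]
  ring

/-- the sign `(-1)^i` is invariant under `Fin.rev` (the dimension `2k+5` is odd) -/
theorem neg_one_pow_rev (i : Fin (2 * k + 5)) :
    (-1 : K) ^ ((i.rev : Fin (2 * k + 5)) : ℕ) = (-1 : K) ^ (i : ℕ) := by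
  have hi : (i : ℕ) < 2 * k + 5 := i.2
  have h1 : ((i.rev : Fin (2 * k + 5)) : ℕ) = 2 * k + 4 - (i : ℕ) := by
    rw [Fin.val_rev]; omega
  rw [h1]
  have h2 : (-1 : K) ^ (2 * k + 4 - (i : ℕ)) * (-1 : K) ^ (i : ℕ) = 1 := by
    rw [← pow_add]
    have : 2 * k + 4 - (i : ℕ) + (i : ℕ) = 2 * (k + 2) := by omega
    rw [this, pow_mul]
    simp
  have h3 : (-1 : K) ^ (i : ℕ) * (-1 : K) ^ (i : ℕ) = 1 := by
    rw [← pow_add, ← two_mul, pow_mul]
    simp
  calc (-1 : K) ^ (2 * k + 4 - (i : ℕ))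
      = (-1 : K) ^ (2 * k + 4 - (i : ℕ)) * ((-1 : K) ^ (i : ℕ) * (-1 : K) ^ (i : ℕ)) := by
        rw [h3, mul_one]
    _ = ((-1 : K) ^ (2 * k + 4 - (i : ℕ)) * (-1 : K) ^ (i : ℕ)) * (-1 : K) ^ (i : ℕ) := by ring
    _ = (-1 : K) ^ (i : ℕ) := by rw [h2, one_mul]

theorem hJ_herm (hσ2 : ∀ x, σ (σ x) = x) (x y : Fin (2 * k + 5) → K) :
    hJ σ k x y = σ (hJ σ k y x) := by
  unfold hJ
  rw [map_sum]
  rw [← Equiv.sum_comp Fin.revPerm (fun i => σ ((-1 : K) ^ (i : ℕ) * y i * σ (x i.rev)))]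
  refine Finset.sum_congr rfl fun i _ => ?_
  simp only [Fin.revPerm_apply, Fin.rev_rev, map_mul, map_pow, map_neg, map_one, hσ2]
  rw [neg_one_pow_rev]
  ring

theorem hJ_eps_right (x : Fin (2 * k + 5) → K) (j : Fin (2 * k + 5)) :
    hJ σ k x (ε k j) = (-1 : K) ^ ((j.rev : Fin (2 * k + 5)) : ℕ) * x j.rev := by
  unfold hJ
  rw [Finset.sum_eq_single j.rev]
  · simp [ε]
  · intro i _ hi
    have : (i.rev : Fin (2 * k + 5)) ≠ j := by
      intro h
      apply hi
      rw [← h, Fin.rev_rev]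
    simp [ε, this]
  · intro h
    exact absurd (Finset.mem_univ _) h

theorem hJ_eps_left (i : Fin (2 * k + 5)) (y : Fin (2 * k + 5) → K) :
    hJ σ k (ε k i) y = (-1 : K) ^ (i : ℕ) * σ (y i.rev) := by
  unfold hJ
  rw [Finset.sum_eq_single i]
  · simp [ε]
  · intro i' _ hi
    simp [ε, hi]
  · intro h
    exact absurd (Finset.mem_univ _) h

theorem neg_one_pow_ne_zero (n : ℕ) : (-1 : K) ^ n ≠ 0 :=
  pow_ne_zero n (neg_ne_zero.mpr one_ne_zero)

theorem hJ_isUnitaryForm (σ' : K ≃+* K) (hσ' : ∀ x, σ' x = σ x) (hne : ∃ x, σ x ≠ x)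
    (hσ2 : ∀ x, σ (σ x) = x) : Cfsg.Geo.IsUnitaryForm σ' (hJ σ k) where
  ne_refl := by
    intro h
    obtain ⟨x, hx⟩ := hne
    apply hx
    rw [← hσ', h]
    rfl
  involutive := by
    intro a
    rw [hσ', hσ', hσ2]
  add_left := fun x y v => hJ_add_left σ k x y v
  smul_left := fun c x v => hJ_smul_left σ k c x v
  herm := by
    intro v w
    rw [hσ']
    exact hJ_herm σ k hσ2 v w
  nondegenerate := by
    intro v hv
    obtain ⟨j, hj⟩ : ∃ j, v j ≠ 0 := by
      by_contra h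
      simp only [not_exists, not_not] at h
      exact hv (funext h)
    constructor
    · refine ⟨ε k j.rev, ?_⟩
      rw [hJ_eps_left, Fin.rev_rev]
      refine mul_ne_zero (neg_one_pow_ne_zero _) ?_
      intro h0
      apply hj
      have := congrArg σ h0
      rwa [hσ2, map_zero] at this
    · refine ⟨ε k j.rev, ?_⟩
      rw [hJ_eps_right, Fin.rev_rev]
      exact mul_ne_zero (neg_one_pow_ne_zero _) hj

end Cfsg.Agent.Helper7.SUn
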