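import Mathlib
import Cfsg.Prelude.Def_Characters
import Cfsg.Agent.Helper12.LSpWDefs
import Cfsg.Agent.Helper12.LSpWPDefs
import Cfsg.Agent.Helper12.WGDefs
import Cfsg.Agent.Helper12.WGDefsC
import Cfsg.Agent.Helper12.WGDefsD
import Cfsg.Agent.Helper12.WGStruct

set_option autoImplicit false
set_option linter.unusedSectionVars false

/-! # S2524 piece HEISUNIQ: a class function of `Heis ⋊ Sp` with nontrivial central character
vanishes off the centre of the Heisenberg group -/

namespace Cfsg.Agent.S2524P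

open Matrix Cfsg Cfsg.Agent.S2333P Cfsg.Agent.Helper2.Sp Cfsg.Agent.Helper12.LSp

variable {F : Type*} [Field F] [Fintype F]

/-- conjugation inside the Heisenberg group -/
theorem HEISUNIQ_conj {m : ℕ} (u : Fin m ⊕ Fin m → F) (a : Heis m F) :
    (⟨u, 0⟩ : Heis m F) * a * (⟨u, 0⟩ : Heis m F)⁻¹ = zel m (2 * om u a.v) * a := by
  apply Heis.ext
  · simp only [Heis.mul_v, Heis.inv_v, zel]
    abel
  · simp only [Heis.mul_s, Heis.mul_v, Heis.inv_s, Heis.inv_v, zel, om_add_left, om_neg_right',
      om_self, om_zero_left', om_swap u a.v]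
    ring

/-- **HEISUNIQ**: a class function with nontrivial central character vanishes off the centre of
the Heisenberg group -/
theorem heis_uniq (h2 : (2 : F) ≠ 0) (ψ : AddChar F ℂ) (hψ : ψ ≠ 1) {m : ℕ} (z : F) (hz : z ≠ 0)
    (ζ : Gam m F → ℂ) (hζ : IsClassFunction (Gam m F) ζ) (hov : LiesOver ψ ζ z) (a : Heis m F) :
    ζ (SemidirectProduct.inl a) =
      ζ 1 / (Fintype.card F : ℂ) ^ m * theta (AddChar.mulShift ψ z) a := by
  have hq : ((Fintype.card F : ℂ)) ^ m ≠ 0 := by
    apply pow_ne_zero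
    exact_mod_cast Fintype.card_ne_zero
  by_cases hv : a.v = 0
  · rw [theta_of_v_eq_zero _ hv, AddChar.mulShift_apply]
    have ha : (SemidirectProduct.inl a : Gam m F) = zc m a.s * 1 := by
      rw [mul_one]
      unfold zc zel
      congr 1
      apply Heis.ext
      · exact hv
      · rfl
    rw [ha, hov]
    field_simp
  · rw [theta_of_v_ne_zero _ hv, mul_zero]
    -- choose `u`
    obtain ⟨c, hc⟩ : ∃ c : F, ψ c ≠ 1 := by
      by_contra h
      push Not at h
      apply hψ
      ext x
      rw [h x]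
      rfl
    obtain ⟨x, hx⟩ := exists_om_ne_zero hv
    -- `u := d • x` with `2 z om u a.v = c`
    obtain ⟨u, hu⟩ : ∃ u : Fin m ⊕ Fin m → F, z * (2 * om u a.v) = c := by
      refine ⟨(-(c / (2 * z * om a.v x))) • x, ?_⟩
      rw [om_smul_left, om_swap a.v x]
      field_simp
    have h1 : ζ (SemidirectProduct.inl ((⟨u, 0⟩ : Heis m F) * a * (⟨u, 0⟩ : Heis m F)⁻¹)) =
        ζ (SemidirectProduct.inl a) := by
      have := hζ (SemidirectProduct.inl a) (SemidirectProduct.inl (⟨u, 0⟩ : Heis m F))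
      rw [← map_inv, ← map_mul, ← map_mul] at this
      exact this
    rw [HEISUNIQ_conj, map_mul] at h1
    have h3 : (SemidirectProduct.inl (zel m (2 * om u a.v)) : Gam m F) = zc m (2 * om u a.v) := rfl
    rw [h3, hov, hu] at h1
    -- `(ψ c - 1) ζ = 0`
    have h4 : (ψ c - 1) * ζ (SemidirectProduct.inl a) = 0 := by
      rw [sub_mul, one_mul, h1, sub_self]
    rcases mul_eq_zero.mp h4 with h5 | h5
    · exact absurd (sub_eq_zero.mp h5) hc
    · exact h5

end Cfsg.Agent.S2524P
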