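import Mathlib
import Cfsg.Prelude.Def_Characters
import Cfsg.Agent.Helper12.LSpWDefs
import Cfsg.Agent.Helper12.LSpWPDefs
import Cfsg.Agent.Helper12.WGDefs
import Cfsg.Agent.Helper12.WGDefsC
import Cfsg.Agent.Helper12.WGDefsD
import Cfsg.Agent.Helper12.WGStruct
import Cfsg.Agent.Helper2.SpGen

set_option autoImplicit false

/-! # S2524 piece HEISGEN: the translates of the Lagrangian `W` generate the Heisenberg group -/

namespace Cfsg.Agent.S2524P

open Matrix Cfsg Cfsg.Agent.S2333P Cfsg.Agent.Helper2.Sp Cfsg.Agent.Helper12.LSp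

variable {F : Type*} [Field F] [Fintype F]

/-- **HEISGEN**: the translates of the Lagrangian `W` generate the Heisenberg group -/
theorem heis_gen {m : ℕ} (K : Subgroup (Heis m F))
    (hW : ∀ (v : Fin m ⊕ Fin m → F) (s : F), InW v → (⟨v, s⟩ : Heis m F) ∈ K)
    (hst : ∀ (g : ↥(symplecticGroup (Fin m) F)) (a : Heis m F), a ∈ K → heisAct g a ∈ K) :
    K = ⊤ := by
  rw [eq_top_iff]
  rintro ⟨v, s⟩ -
  by_cases hv : v = 0
  · subst hv
    exact hW 0 s (fun i => rfl)
  · -- `m ≥ 1`
    have hm : 0 < m := by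
      rcases Nat.eq_zero_or_pos m with h0 | h0
      · subst h0
        exfalso
        apply hv
        funext i
        rcases i with i | i <;> exact i.elim0
      · exact h0
    obtain ⟨w, hw0, hwW⟩ : ∃ w : Fin m ⊕ Fin m → F, w ≠ 0 ∧ InW w := by
      refine ⟨Pi.single (Sum.inl ⟨0, hm⟩) 1, ?_, ?_⟩
      · intro h
        have := congrFun h (Sum.inl ⟨0, hm⟩)
        rw [Pi.single_eq_same] at this
        exact one_ne_zero this
      · intro i
        rw [Pi.single_apply, if_neg (by simp)]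
    obtain ⟨g, -, hg⟩ := exists_TV_mulVec_eq w v hw0 hv
    have h1 := hst g ⟨w, s⟩ (hW w s hwW)
    have h2 : heisAct g ⟨w, s⟩ = (⟨v, s⟩ : Heis m F) := by
      apply Heis.ext
      · rw [heisAct_v]
        exact hg
      · rfl
    rw [h2] at h1
    exact h1

end Cfsg.Agent.S2524P
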