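import Mathlib
import Cfsg.Prelude.Def_Characters
import Cfsg.Agent.Helper7.S2333Defs
import Cfsg.Agent.Helper7.S2333Basic

/-!
# S2333 piece SIEGEL: the Siegel radical is embedded, and the Levi factor acts by congruence
-/

set_option autoImplicit false

namespace Cfsg.Agent.S2333P

open Matrix Cfsg Cfsg.Agent.Helper25

variable {F : Type*} [Field F] {n : ℕ}

theorem US_injective (n : ℕ) : Function.Injective (US n F) := by
  intro a b hab
  have h1 : ((US n F a : symplecticGroup (Fin n) F) :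
      Matrix (Fin n ⊕ Fin n) (Fin n ⊕ Fin n) F) = (US n F b : symplecticGroup (Fin n) F) := by
    rw [hab]
  have ha : a = Multiplicative.ofAdd (Multiplicative.toAdd a) := rfl
  have hb : b = Multiplicative.ofAdd (Multiplicative.toAdd b) := rfl
  rw [ha, hb, US_val, US_val] at h1
  unfold SpU.uS at h1
  have h2 := (Matrix.fromBlocks_inj.mp h1).2.1
  apply Multiplicative.toAdd.injective
  exact Subtype.ext h2

theorem US_levi (A : Matrix (Fin n) (Fin n) F) (hA : A.det ≠ 0) :
    ∃ g : symplecticGroup (Fin n) F, ∀ Y : ↥(SymM n F),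
      g * US n F (Multiplicative.ofAdd Y) * g⁻¹ = US n F (Multiplicative.ofAdd (congS A Y)) := by
  have hAu : IsUnit A.det := isUnit_iff_ne_zero.mpr hA
  have hAD : Aᵀ * (A⁻¹)ᵀ = 1 := by
    rw [← transpose_mul, Matrix.nonsing_inv_mul A hAu, transpose_one]
  have hDA : (A⁻¹)ᵀ * Aᵀ = 1 := by
    rw [← transpose_mul, Matrix.mul_nonsing_inv A hAu, transpose_one]
  refine ⟨SpU.levg A (A⁻¹)ᵀ, ?_⟩
  intro Y
  rw [mul_inv_eq_iff_eq_mul]
  apply Subtype.ext
  show (SpU.levg A (A⁻¹)ᵀ).1 * (US n F (Multiplicative.ofAdd Y)).1 =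
    (US n F (Multiplicative.ofAdd (congS A Y))).1 * (SpU.levg A (A⁻¹)ᵀ).1
  rw [SpU.levg_val hAD, US_val, US_val, congS_val]
  unfold SpU.lev SpU.uS
  rw [fromBlocks_multiply, fromBlocks_multiply]
  simp only [Matrix.mul_one, Matrix.mul_zero, Matrix.zero_mul, Matrix.one_mul, add_zero, zero_add]
  rw [Matrix.mul_assoc (A * Y.1) Aᵀ, hAD, Matrix.mul_one]

end Cfsg.Agent.S2333P
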