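import Mathlib
import Cfsg.Prelude.Def_Characters
import Cfsg.Agent.Helper12.WGDefs
import Cfsg.Agent.Helper12.WGDefsC
import Cfsg.Agent.Helper12.WGDefsD
import Cfsg.Agent.Helper12.WGStruct
import Cfsg.Agent.Helper25.SpUH

set_option autoImplicit false
set_option linter.unusedSectionVars false
set_option linter.unusedSimpArgs false

/-! # S2524 piece WEYL: the reflection in the `j`-th hyperbolic pair -/

namespace Cfsg.Agent.S2524P

open Matrix Cfsg Cfsg.Agent.S2333P Cfsg.Agent.Helper2.Sp Cfsg.Agent.Helper12.LSp Cfsg.Agent.Helper25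

variable {F : Type*} [Field F] [Fintype F]

/-- the matrix of the reflection attached to a symmetric idempotent `D` -/
def WEYL_mat {n : ℕ} (D : Matrix (Fin n) (Fin n) F) :
    Matrix (Fin n ⊕ Fin n) (Fin n ⊕ Fin n) F :=
  fromBlocks (1 - D) (-D) D (1 - D)

theorem WEYL_mat_mem {n : ℕ} {D : Matrix (Fin n) (Fin n) F} (hD2 : D * D = D) (hDt : Dᵀ = D) :
    WEYL_mat D ∈ symplecticGroup (Fin n) F := by
  rw [WEYL_mat, SymplecticGroup.fromBlocks_mem_iff]
  have hP : (1 - D)ᵀ = 1 - D := by rw [transpose_sub, transpose_one, hDt]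
  refine ⟨?_, ?_, ?_⟩
  · rw [hP, hDt, sub_mul, mul_sub, one_mul, mul_one, hD2]
  · rw [hP, transpose_neg, hDt, neg_mul, mul_neg, sub_mul, mul_sub, one_mul, mul_one, hD2]
  · rw [hP, hDt]
    simp only [sub_mul, mul_sub, one_mul, mul_one, mul_neg, hD2]
    abel

/-- commutation with `uS S` when `D S = 0 = S D` -/
theorem WEYL_comm {n : ℕ} {D S : Matrix (Fin n) (Fin n) F} (h1 : D * S = 0) (h2 : S * D = 0) :
    WEYL_mat D * SpU.uS S = SpU.uS S * WEYL_mat D := by
  rw [WEYL_mat, SpU.uS, fromBlocks_multiply, fromBlocks_multiply]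
  congr 1
  · rw [mul_one, mul_zero, add_zero, one_mul, h2, add_zero]
  · rw [mul_one, sub_mul, one_mul, h1, sub_zero, one_mul, mul_sub, mul_one, h2, sub_zero]
    abel
  · rw [mul_one, mul_zero, add_zero, zero_mul, one_mul, zero_add]
  · rw [h1, mul_one, zero_add, zero_mul, one_mul, zero_add]

/-- the conjugate of `uS (t (E_ij + E_ji))` -/
theorem WEYL_lev {n : ℕ} {i j : Fin n} (hij : i ≠ j) (t : F) :
    WEYL_mat (Matrix.single j j (1 : F)) * SpU.uS (Matrix.single i j t + Matrix.single j i t) =
      SpU.lev (1 + Matrix.single i j (-t)) (1 - Matrix.single j i (-t)) *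
        WEYL_mat (Matrix.single j j (1 : F)) := by
  have hji : j ≠ i := fun h => hij h.symm
  have h1 : Matrix.single j j (1 : F) * Matrix.single i j t = 0 :=
    single_mul_single_of_ne _ _ _ _ hji _
  have h2 : Matrix.single j j (1 : F) * Matrix.single j i t = Matrix.single j i t := by
    rw [single_mul_single_same, one_mul]
  have h3 : Matrix.single i j t * Matrix.single j j (1 : F) = Matrix.single i j t := by
    rw [single_mul_single_same, mul_one]
  have h4 : Matrix.single j i t * Matrix.single j j (1 : F) = 0 :=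
    single_mul_single_of_ne _ _ _ _ hij _
  have h5 : Matrix.single i j (-t) = - Matrix.single i j t := by
    ext a b
    by_cases h : i = a ∧ j = b <;> simp [Matrix.single_apply, h]
  have h6 : Matrix.single j i (-t) = - Matrix.single j i t := by
    ext a b
    by_cases h : j = a ∧ i = b <;> simp [Matrix.single_apply, h]
  rw [WEYL_mat, SpU.uS, SpU.lev, fromBlocks_multiply, fromBlocks_multiply, h5, h6]
  congr 1
  · simp only [mul_one, mul_zero, zero_mul, one_mul, add_zero, zero_add, sub_mul, mul_sub, add_mul,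
      mul_add, neg_mul, mul_neg, h1, h2, h3, h4]
    abel
  · simp only [mul_one, mul_zero, zero_mul, one_mul, add_zero, zero_add, sub_mul, mul_sub, add_mul,
      mul_add, neg_mul, mul_neg, h1, h2, h3, h4]
    abel
  · simp only [mul_one, mul_zero, zero_mul, one_mul, add_zero, zero_add, sub_mul, mul_sub, add_mul,
      mul_add, neg_mul, mul_neg, h1, h2, h3, h4]
    abel
  · simp only [mul_one, mul_zero, zero_mul, one_mul, add_zero, zero_add, sub_mul, mul_sub, add_mul,
      mul_add, neg_mul, mul_neg, h1, h2, h3, h4]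
    abel

/-- **WEYL**: the reflection in the `j`-th hyperbolic pair -/
theorem weyl_exists {n : ℕ} (j : Fin n) :
    ∃ w : ↥(symplecticGroup (Fin n) F),
      (∀ S : ↥(SymM n F), (∀ k, S.1 j k = 0) →
        w * US n F (Multiplicative.ofAdd S) * w⁻¹ = US n F (Multiplicative.ofAdd S)) ∧
      ∀ i : Fin n, i ≠ j → ∀ t : F,
        w * US n F (Multiplicative.ofAdd (symE i j t)) * w⁻¹ = SpU.levT i j (-t) := by
  have hD2 : Matrix.single j j (1 : F) * Matrix.single j j (1 : F) = Matrix.single j j (1 : F) := by
    rw [single_mul_single_same, mul_one]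
  have hDt : (Matrix.single j j (1 : F))ᵀ = Matrix.single j j (1 : F) := transpose_single _ _ _
  refine ⟨⟨WEYL_mat (Matrix.single j j (1 : F)), WEYL_mat_mem hD2 hDt⟩, ?_, ?_⟩
  · intro S hS
    rw [mul_inv_eq_iff_eq_mul]
    apply Subtype.ext
    rw [Submonoid.coe_mul, Submonoid.coe_mul, US_val]
    apply WEYL_comm
    · ext a b
      rw [Matrix.mul_apply]
      simp only [Matrix.single_apply, Matrix.zero_apply]
      apply Finset.sum_eq_zero
      intro k _
      by_cases h : j = a ∧ j = k
      · rw [if_pos h, one_mul, ← h.2, hS]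
      · rw [if_neg h, zero_mul]
    · have hSt : ∀ a b, S.1 a b = S.1 b a := by
        intro a b
        have := S.2
        rw [mem_SymM] at this
        have h := congrFun (congrFun this b) a
        rw [transpose_apply] at h
        exact h
      ext a b
      rw [Matrix.mul_apply]
      simp only [Matrix.single_apply, Matrix.zero_apply]
      apply Finset.sum_eq_zero
      intro k _
      by_cases h : j = k ∧ j = b
      · rw [if_pos h, mul_one, ← h.1, hSt, hS]
      · rw [if_neg h, mul_zero]
  · intro i hij t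
    rw [mul_inv_eq_iff_eq_mul]
    apply Subtype.ext
    rw [Submonoid.coe_mul, Submonoid.coe_mul, US_val, SpU.levT_val hij, symE_val]
    exact WEYL_lev hij t

end Cfsg.Agent.S2524P
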