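import Mathlib
import Cfsg.Agent.Helper7.S2333Defs
import Cfsg.Agent.Helper7.S2333Basic

/-!
# S2333, piece HPLANE: an affine hyperplane has at most `q^(n-1)` points
-/

set_option autoImplicit false

namespace Cfsg.Agent.S2333P

open Matrix

variable {F : Type*} [Field F]

open Classical in
theorem card_polar_eq_le [Fintype F] (n : ℕ) (hn : 1 ≤ n) (M : Matrix (Fin n) (Fin n) F)
    (u : Fin n → F) (c : F) (hc : c ≠ 0) :
    (Finset.univ.filter (fun v : Fin n → F => polar (qf M) u v = c)).card ≤
      Fintype.card F ^ (n - 1) := by
  by_cases h : ∃ v0 : Fin n → F, polar (qf M) u v0 = c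
  · obtain ⟨v0, hv0⟩ := h
    have hq : 0 < Fintype.card F := Fintype.card_pos
    -- `q * #{f = c} ≤ q ^ n`
    have hmain : Fintype.card F * (Finset.univ.filter
        (fun v : Fin n → F => polar (qf M) u v = c)).card ≤ Fintype.card F ^ n := by
      have hcard : Fintype.card F * (Finset.univ.filter
          (fun v : Fin n → F => polar (qf M) u v = c)).card =
          ((Finset.univ.filter (fun v : Fin n → F => polar (qf M) u v = c)) ×ˢ
            (Finset.univ : Finset F)).card := by
        rw [Finset.card_product, Finset.card_univ, mul_comm]
      have htot : Fintype.card F ^ n = (Finset.univ : Finset (Fin n → F)).card := by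
        rw [Finset.card_univ, Fintype.card_fun, Fintype.card_fin]
      rw [hcard, htot]
      apply Finset.card_le_card_of_injOn (fun p : (Fin n → F) × F => p.1 + p.2 • v0)
      · intro p _
        exact Finset.mem_coe.mpr (Finset.mem_univ _)
      · intro p hp p' hp' hpp
        have hp1 := (Finset.mem_filter.mp (Finset.mem_product.mp (Finset.mem_coe.mp hp)).1).2
        have hp1' := (Finset.mem_filter.mp (Finset.mem_product.mp (Finset.mem_coe.mp hp')).1).2
        have hpp : p.1 + p.2 • v0 = p'.1 + p'.2 • v0 := hpp
        have hf := congrArg (fun w => polar (qf M) u w) hpp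
        simp only [polar_add_right, polar_smul_right, hp1, hp1', hv0] at hf
        have h2 : p.2 = p'.2 := by
          have : (p.2 - p'.2) * c = 0 := by linear_combination hf
          rcases mul_eq_zero.mp this with h1 | h1
          · exact sub_eq_zero.mp h1
          · exact absurd h1 hc
        rw [h2] at hpp
        exact Prod.ext (add_right_cancel hpp) h2
    have hpow : Fintype.card F ^ n = Fintype.card F * Fintype.card F ^ (n - 1) := by
      rw [← pow_succ']
      congr 1
      omega
    rw [hpow] at hmain
    exact Nat.le_of_mul_le_mul_left hmain hq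
  · have : Finset.univ.filter (fun v : Fin n → F => polar (qf M) u v = c) = ∅ := by
      rw [Finset.filter_eq_empty_iff]
      intro v _ hv
      exact h ⟨v, hv⟩
    rw [this]
    simp

end Cfsg.Agent.S2333P
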