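import Mathlib
import Cfsg.Agent.Helper7.S2333Defs
import Cfsg.Agent.Helper7.S2333Basic

/-!
# S2333, piece LINE: a quadric meets the affine lines `v + F u` in at most two points
-/

set_option autoImplicit false

namespace Cfsg.Agent.S2333P

open Matrix

variable {F : Type*} [Field F] {n : ℕ}

/-- a quadratic equation with nonzero linear coefficient has at most two roots -/
theorem card_quad_roots_le [Fintype F] [DecidableEq F] (a b d : F) (hb : b ≠ 0) :
    (Finset.univ.filter (fun t : F => a * t ^ 2 + b * t + d = 0)).card ≤ 2 := by
  by_cases h : ∃ t0 : F, a * t0 ^ 2 + b * t0 + d = 0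
  · obtain ⟨t0, ht0⟩ := h
    have hsub : Finset.univ.filter (fun t : F => a * t ^ 2 + b * t + d = 0) ⊆
        {t0, -b / a - t0} := by
      intro t ht
      rw [Finset.mem_filter] at ht
      have ht := ht.2
      rw [Finset.mem_insert, Finset.mem_singleton]
      have hprod : (t - t0) * (a * (t + t0) + b) = 0 := by
        linear_combination ht - ht0
      rcases mul_eq_zero.mp hprod with h1 | h1
      · left
        exact sub_eq_zero.mp h1
      · right
        have ha : a ≠ 0 := by
          intro ha
          rw [ha, zero_mul, zero_add] at h1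
          exact hb h1
        field_simp
        linear_combination h1
    exact le_trans (Finset.card_le_card hsub) Finset.card_le_two
  · have : Finset.univ.filter (fun t : F => a * t ^ 2 + b * t + d = 0) = ∅ := by
      rw [Finset.filter_eq_empty_iff]
      intro t _ ht
      exact h ⟨t, ht⟩
    rw [this]
    simp

/-- a linear equation with nonzero slope has at most one root -/
theorem card_lin_roots_le [Fintype F] [DecidableEq F] (b d : F) (hb : b ≠ 0) :
    (Finset.univ.filter (fun t : F => b * t + d = 0)).card ≤ 1 := by
  rw [Finset.card_le_one]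
  intro t ht t' ht'
  rw [Finset.mem_filter] at ht ht'
  have h : b * (t - t') = 0 := by linear_combination ht.2 - ht'.2
  rcases mul_eq_zero.mp h with h1 | h1
  · exact absurd h1 hb
  · exact sub_eq_zero.mp h1

/-- the general counting step: if every line `v + F u` (with `polar u v = b0`) meets the quadric
`qf = c` in at most `k` points, then `q * #{qf = c, polar = b0} ≤ k * #{polar = b0}` -/
theorem card_line_aux [Fintype F] [DecidableEq F] (h2 : (2 : F) = 0)
    (M : Matrix (Fin n) (Fin n) F) (u : Fin n → F) (c b0 : F) (k : ℕ)
    (hk : ∀ v : Fin n → F, polar (qf M) u v = b0 →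
      (Finset.univ.filter (fun t : F => qf M (v + t • u) = c)).card ≤ k) :
    Fintype.card F * (Finset.univ.filter (fun v : Fin n → F =>
        qf M v = c ∧ polar (qf M) u v = b0)).card ≤
      k * (Finset.univ.filter (fun v : Fin n → F => polar (qf M) u v = b0)).card := by
  -- the set of pairs `(v, t)` with `polar u v = b0` and `qf (v + t u) = c`
  have hpairs : ((Finset.univ.filter (fun v : Fin n → F => polar (qf M) u v = b0)).sigma
      (fun v => Finset.univ.filter (fun t : F => qf M (v + t • u) = c))).card ≤
      k * (Finset.univ.filter (fun v : Fin n → F => polar (qf M) u v = b0)).card := by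
    rw [Finset.card_sigma, mul_comm]
    calc _ ≤ ∑ _v ∈ Finset.univ.filter (fun v : Fin n → F => polar (qf M) u v = b0), k := by
            apply Finset.sum_le_sum
            intro v hv
            rw [Finset.mem_filter] at hv
            exact hk v hv.2
      _ = _ := by rw [Finset.sum_const, smul_eq_mul]
  refine le_trans ?_ hpairs
  have hcard : Fintype.card F * (Finset.univ.filter (fun v : Fin n → F =>
        qf M v = c ∧ polar (qf M) u v = b0)).card =
      ((Finset.univ.filter (fun v : Fin n → F =>
        qf M v = c ∧ polar (qf M) u v = b0)) ×ˢ (Finset.univ : Finset F)).card := by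
    rw [Finset.card_product, Finset.card_univ, mul_comm]
  rw [hcard]
  apply Finset.card_le_card_of_injOn (fun p : (Fin n → F) × F => ⟨p.1 - p.2 • u, p.2⟩)
  · intro p hp
    have hp' := Finset.mem_product.mp hp
    have hp1 := (Finset.mem_filter.mp hp'.1).2
    rw [Finset.mem_coe, Finset.mem_sigma]
    constructor
    · rw [Finset.mem_filter]
      refine ⟨Finset.mem_univ _, ?_⟩
      show polar (qf M) u (p.1 - p.2 • u) = b0
      rw [polar_sub_right, polar_smul_right, polar_self h2, mul_zero, sub_zero]
      exact hp1.2
    · rw [Finset.mem_filter]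
      refine ⟨Finset.mem_univ _, ?_⟩
      show qf M (p.1 - p.2 • u + p.2 • u) = c
      rw [sub_add_cancel]
      exact hp1.1
  · intro p _ p' _ hpp
    have h2' : p.2 = p'.2 := by
      have := congrArg Sigma.snd hpp
      simpa using this
    have h1' : p.1 - p.2 • u = p'.1 - p'.2 • u := by
      have := congrArg Sigma.fst hpp
      simpa using this
    rw [h2'] at h1'
    exact Prod.ext (sub_left_injective h1') h2'

open Classical in
theorem card_line_le [Fintype F] (h2 : (2 : F) = 0) (M : Matrix (Fin n) (Fin n) F)
    (u : Fin n → F) (c b0 : F) (hb0 : b0 ≠ 0) :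
    Fintype.card F * (Finset.univ.filter (fun v : Fin n → F =>
        qf M v = c ∧ polar (qf M) u v = b0)).card ≤
      2 * (Finset.univ.filter (fun v : Fin n → F => polar (qf M) u v = b0)).card := by
  apply card_line_aux h2 M u c b0 2
  intro v hv
  have hset : Finset.univ.filter (fun t : F => qf M (v + t • u) = c) =
      Finset.univ.filter (fun t : F => qf M u * t ^ 2 + b0 * t + (qf M v - c) = 0) := by
    ext t
    rw [Finset.mem_filter, Finset.mem_filter, qf_add_smul, polar_comm (qf M) v u, hv]
    constructor
    · rintro ⟨h, h'⟩
      exact ⟨h, by linear_combination h'⟩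
    · rintro ⟨h, h'⟩
      exact ⟨h, by linear_combination h'⟩
  rw [hset]
  exact card_quad_roots_le _ _ _ hb0

open Classical in
theorem card_line_le_sing [Fintype F] (h2 : (2 : F) = 0) (M : Matrix (Fin n) (Fin n) F)
    (u : Fin n → F) (hu : qf M u = 0) (c b0 : F) (hb0 : b0 ≠ 0) :
    Fintype.card F * (Finset.univ.filter (fun v : Fin n → F =>
        qf M v = c ∧ polar (qf M) u v = b0)).card ≤
      (Finset.univ.filter (fun v : Fin n → F => polar (qf M) u v = b0)).card := by
  have h := card_line_aux h2 M u c b0 1 (by
    intro v hv
    have hset : Finset.univ.filter (fun t : F => qf M (v + t • u) = c) =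
        Finset.univ.filter (fun t : F => b0 * t + (qf M v - c) = 0) := by
      ext t
      rw [Finset.mem_filter, Finset.mem_filter, qf_add_smul, polar_comm (qf M) v u, hv, hu]
      constructor
      · rintro ⟨h, h'⟩
        exact ⟨h, by linear_combination h'⟩
      · rintro ⟨h, h'⟩
        exact ⟨h, by linear_combination h'⟩
    rw [hset]
    exact card_lin_roots_le _ _ hb0)
  rw [one_mul] at h
  exact h

end Cfsg.Agent.S2333P
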