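import Mathlib
import Cfsg.Prelude.Def_Characters
import Cfsg.Agent.Helper7.S2333Defs
import Cfsg.Agent.Helper7.S2333Basic

/-!
# S2333 piece UNIP: the unipotent substitutions fixing `e₀, e₁` give `q^(2m)` distinct forms
-/

set_option autoImplicit false

namespace Cfsg.Agent.S2333P

open Matrix Cfsg Cfsg.Agent.Helper25

variable {F : Type*} [Field F] {n : ℕ}

/-- extension of a vector by two zero coordinates in front -/
def unipExt {m : ℕ} (α : Fin m → F) : Fin (m + 2) → F :=
  fun j => if h : 2 ≤ j.val then α ⟨j.val - 2, by omega⟩ else 0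

theorem unipExt_zero {m : ℕ} (α : Fin m → F) : unipExt α 0 = 0 := by
  unfold unipExt
  rw [dif_neg (by simp)]

theorem unipExt_one {m : ℕ} (α : Fin m → F) : unipExt α 1 = 0 := by
  unfold unipExt
  rw [dif_neg (by simp)]

theorem unipExt_succ {m : ℕ} (α : Fin m → F) (k : Fin m) :
    unipExt α ⟨k.val + 2, by omega⟩ = α k := by
  unfold unipExt
  rw [dif_pos (by simp)]
  congr 1

/-- the unipotent matrix `e_{k+2} ↦ e_{k+2} + α k e₀ + β k e₁` -/
def unipG {m : ℕ} (α β : Fin m → F) : Matrix (Fin (m + 2)) (Fin (m + 2)) F :=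
  1 + vecMulVec (Pi.single 0 1) (unipExt α) + vecMulVec (Pi.single 1 1) (unipExt β)

theorem unip_vecMulVec_mulVec {m : ℕ} (u v w : Fin (m + 2) → F) :
    vecMulVec u v *ᵥ w = (v ⬝ᵥ w) • u := by
  rw [vecMulVec_mulVec, op_smul_eq_smul]

theorem unipG_mulVec {m : ℕ} (α β : Fin m → F) (x : Fin (m + 2) → F) :
    unipG α β *ᵥ x = x + (unipExt α ⬝ᵥ x) • Pi.single 0 1 + (unipExt β ⬝ᵥ x) • Pi.single 1 1 := by
  unfold unipG
  rw [add_mulVec, add_mulVec, one_mulVec, unip_vecMulVec_mulVec, unip_vecMulVec_mulVec]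

theorem unipG_e0 {m : ℕ} (α β : Fin m → F) :
    unipG α β *ᵥ Pi.single 0 1 = Pi.single 0 1 := by
  rw [unipG_mulVec, dotProduct_single_one, dotProduct_single_one, unipExt_zero, unipExt_zero,
    zero_smul, zero_smul, add_zero, add_zero]

theorem unipG_e1 {m : ℕ} (α β : Fin m → F) :
    unipG α β *ᵥ Pi.single 1 1 = Pi.single 1 1 := by
  rw [unipG_mulVec, dotProduct_single_one, dotProduct_single_one, unipExt_one, unipExt_one,
    zero_smul, zero_smul, add_zero, add_zero]

theorem unipG_ek {m : ℕ} (α β : Fin m → F) (k : Fin m) :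
    unipG α β *ᵥ Pi.single ⟨k.val + 2, by omega⟩ 1 =
      Pi.single ⟨k.val + 2, by omega⟩ 1 + α k • Pi.single 0 1 + β k • Pi.single 1 1 := by
  rw [unipG_mulVec, dotProduct_single_one, dotProduct_single_one, unipExt_succ, unipExt_succ]

theorem unipG_det {m : ℕ} (α β : Fin m → F) : (unipG α β).det ≠ 0 := by
  apply Matrix.det_ne_zero_of_right_inverse (B := unipG (-α) (-β))
  have hneg : ∀ γ : Fin m → F, unipExt (-γ) = -unipExt γ := by
    intro γ
    funext j
    unfold unipExt
    by_cases h : 2 ≤ j.val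
    · rw [Pi.neg_apply, dif_pos h, dif_pos h, Pi.neg_apply]
    · rw [Pi.neg_apply, dif_neg h, dif_neg h, neg_zero]
  have h00 : ∀ γ : Fin m → F, unipExt γ ⬝ᵥ (Pi.single 0 1 : Fin (m + 2) → F) = 0 := by
    intro γ
    rw [dotProduct_single_one, unipExt_zero]
  have h01 : ∀ γ : Fin m → F, unipExt γ ⬝ᵥ (Pi.single 1 1 : Fin (m + 2) → F) = 0 := by
    intro γ
    rw [dotProduct_single_one, unipExt_one]
  apply Matrix.mulVec_injective
  funext x
  rw [← mulVec_mulVec, one_mulVec, unipG_mulVec (-α) (-β), hneg, hneg]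
  obtain ⟨y, hy⟩ : ∃ y : Fin (m + 2) → F, y = x + (-unipExt α ⬝ᵥ x) • Pi.single 0 1 +
      (-unipExt β ⬝ᵥ x) • Pi.single 1 1 := ⟨_, rfl⟩
  rw [← hy, unipG_mulVec α β]
  have ha : unipExt α ⬝ᵥ y = unipExt α ⬝ᵥ x := by
    rw [hy, dotProduct_add, dotProduct_add, dotProduct_smul, dotProduct_smul, h00, h01,
      smul_zero, smul_zero, add_zero, add_zero]
  have hb : unipExt β ⬝ᵥ y = unipExt β ⬝ᵥ x := by
    rw [hy, dotProduct_add, dotProduct_add, dotProduct_smul, dotProduct_smul, h00, h01,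
      smul_zero, smul_zero, add_zero, add_zero]
  rw [ha, hb, hy, neg_dotProduct, neg_dotProduct, neg_smul, neg_smul]
  abel

open Classical in
theorem count_ge_std [Fintype F] (h2 : (2 : F) = 0) (m : ℕ)
    (Φ : Finset ((Fin (m + 2) → F) → F))
    (hstab : ∀ Q ∈ Φ, ∀ A : Matrix (Fin (m + 2)) (Fin (m + 2)) F, A.det ≠ 0 →
      (fun x => Q (A *ᵥ x)) ∈ Φ)
    (M : Matrix (Fin (m + 2)) (Fin (m + 2)) F) (hM : qf M ∈ Φ)
    (hb : polar (qf M) (Pi.single 0 1) (Pi.single 1 1) ≠ 0) :
    Fintype.card F ^ (2 * m) ≤ (Φ.filter (fun Q =>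
      Q (Pi.single 0 1) = qf M (Pi.single 0 1) ∧ Q (Pi.single 1 1) = qf M (Pi.single 1 1) ∧
      polar Q (Pi.single 0 1) (Pi.single 1 1) =
        polar (qf M) (Pi.single 0 1) (Pi.single 1 1))).card := by
  have hcard : Fintype.card F ^ (2 * m) =
      (Finset.univ : Finset ((Fin m → F) × (Fin m → F))).card := by
    rw [Finset.card_univ, Fintype.card_prod, Fintype.card_fun, Fintype.card_fin, two_mul, pow_add]
  rw [hcard]
  apply Finset.card_le_card_of_injOn
    (fun p : (Fin m → F) × (Fin m → F) => fun x => qf M (unipG p.1 p.2 *ᵥ x))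
  · intro p _
    rw [Finset.mem_coe, Finset.mem_filter]
    refine ⟨hstab _ hM _ (unipG_det p.1 p.2), ?_, ?_, ?_⟩
    · show qf M (unipG p.1 p.2 *ᵥ Pi.single 0 1) = _
      rw [unipG_e0]
    · show qf M (unipG p.1 p.2 *ᵥ Pi.single 1 1) = _
      rw [unipG_e1]
    · rw [polar_comp, unipG_e0, unipG_e1]
  · intro p _ p' _ hpp'
    have hpol : ∀ x y, polar (qf M) (unipG p.1 p.2 *ᵥ x) (unipG p.1 p.2 *ᵥ y) =
        polar (qf M) (unipG p'.1 p'.2 *ᵥ x) (unipG p'.1 p'.2 *ᵥ y) := by
      intro x y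
      rw [← polar_comp, ← polar_comp]
      exact congrFun (congrFun (congrArg polar hpp') x) y
    have hb' : polar (qf M) (Pi.single 1 1) (Pi.single 0 1) ≠ 0 := by
      rw [polar_comm]; exact hb
    apply Prod.ext
    · funext k
      have := hpol (Pi.single ⟨k.val + 2, by omega⟩ 1) (Pi.single 1 1)
      rw [unipG_e1, unipG_e1, unipG_ek, unipG_ek] at this
      simp only [polar_add_left, polar_smul_left, polar_self h2, mul_zero, add_zero] at this
      have h3 : p.1 k * polar (qf M) (Pi.single 0 1) (Pi.single 1 1) =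
          p'.1 k * polar (qf M) (Pi.single 0 1) (Pi.single 1 1) := by
        linear_combination this
      exact mul_right_cancel₀ hb h3
    · funext k
      have := hpol (Pi.single ⟨k.val + 2, by omega⟩ 1) (Pi.single 0 1)
      rw [unipG_e0, unipG_e0, unipG_ek, unipG_ek] at this
      simp only [polar_add_left, polar_smul_left, polar_self h2, mul_zero, add_zero] at this
      have h3 : p.2 k * polar (qf M) (Pi.single 1 1) (Pi.single 0 1) =
          p'.2 k * polar (qf M) (Pi.single 1 1) (Pi.single 0 1) := by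
        linear_combination this
      exact mul_right_cancel₀ hb' h3

end Cfsg.Agent.S2333P
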