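import Mathlib
import Cfsg.Agent.Helper7.S2333Defs
import Cfsg.Agent.Helper7.S2333Basic
import Cfsg.Agent.Helper16.S2333PAIRS
import Cfsg.Agent.Helper16.S2333EXT
import Cfsg.Agent.Helper16.S2333SING
import Cfsg.Agent.Helper16.S2333NA
import Cfsg.Agent.Helper7.S2333UNIP
import Cfsg.Agent.Helper7.S2333HPLANE
import Cfsg.Agent.Helper7.S2333LINE

/-!
# S2333: the orbit bound for quadratic forms in characteristic 2 (assembly)
-/

set_option autoImplicit false

namespace Cfsg.Agent.S2333P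

open Matrix

variable {F : Type*} [Field F]

/-- the relation "the form `Q` takes the values `a, c, b0` on the pair `(u, v)`" -/
def RelQ {n : ℕ} (a c b0 : F) (Q : (Fin n → F) → F) (u v : Fin n → F) : Prop :=
  Q u = a ∧ Q v = c ∧ polar Q u v = b0

open Classical in
/-- transport of the standard count to an arbitrary independent pair -/
theorem count_ge [Fintype F] (h2 : (2 : F) = 0) (m : ℕ) (Φ : Finset ((Fin (m + 2) → F) → F))
    (hq : ∀ Q ∈ Φ, ∃ M : Matrix (Fin (m + 2)) (Fin (m + 2)) F, Q = qf M)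
    (hstab : ∀ Q ∈ Φ, ∀ A : Matrix (Fin (m + 2)) (Fin (m + 2)) F, A.det ≠ 0 →
      (fun x => Q (A *ᵥ x)) ∈ Φ)
    (Q₀ : (Fin (m + 2) → F) → F) (hQ₀ : Q₀ ∈ Φ) (u₀ v₀ : Fin (m + 2) → F)
    (hb : polar Q₀ u₀ v₀ ≠ 0) (u v : Fin (m + 2) → F) (hu : u ≠ 0) (hv : ∀ t : F, v ≠ t • u) :
    Fintype.card F ^ (2 * m) ≤
      (Φ.filter (fun Q => RelQ (Q₀ u₀) (Q₀ v₀) (polar Q₀ u₀ v₀) Q u v)).card := by
  obtain ⟨M₀, rfl⟩ := hq Q₀ hQ₀
  -- `(u₀, v₀)` is an independent pair
  have hu₀ : u₀ ≠ 0 := by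
    rintro rfl
    exact hb (polar_zero_left M₀ v₀)
  have hv₀ : ∀ t : F, v₀ ≠ t • u₀ := by
    rintro t rfl
    apply hb
    rw [polar_smul_right, polar_self h2, mul_zero]
  obtain ⟨B₀, hB₀, hB₀0, hB₀1⟩ := exists_basis_matrix m u₀ v₀ hu₀ hv₀
  obtain ⟨B, hB, hB0, hB1⟩ := exists_basis_matrix m u v hu hv
  -- the standard form
  have hM₁ : qf (B₀ᵀ * M₀ * B₀) ∈ Φ := by
    have := hstab _ hQ₀ B₀ hB₀
    have e : (fun x => qf M₀ (B₀ *ᵥ x)) = qf (B₀ᵀ * M₀ * B₀) := by
      funext x
      rw [qf_comp]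
    rwa [e] at this
  have e0 : qf (B₀ᵀ * M₀ * B₀) (Pi.single 0 1) = qf M₀ u₀ := by rw [qf_comp, hB₀0]
  have e1 : qf (B₀ᵀ * M₀ * B₀) (Pi.single 1 1) = qf M₀ v₀ := by rw [qf_comp, hB₀1]
  have e01 : polar (qf (B₀ᵀ * M₀ * B₀)) (Pi.single 0 1) (Pi.single 1 1) = polar (qf M₀) u₀ v₀ := by
    unfold polar
    rw [qf_comp, qf_comp, qf_comp, mulVec_add, hB₀0, hB₀1]
  have hstd := count_ge_std h2 m Φ hstab (B₀ᵀ * M₀ * B₀) hM₁ (by rw [e01]; exact hb)
  rw [e0, e1, e01] at hstd
  refine le_trans hstd ?_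
  -- transport along `B⁻¹`
  have hBu : IsUnit B.det := isUnit_iff_ne_zero.mpr hB
  have hBinv : (B⁻¹).det ≠ 0 := by
    rw [Matrix.det_nonsing_inv, Ring.inverse_eq_inv']
    exact inv_ne_zero hB
  have hiu : B⁻¹ *ᵥ u = Pi.single 0 1 := by
    rw [← hB0, mulVec_mulVec, Matrix.nonsing_inv_mul B hBu, one_mulVec]
  have hiv : B⁻¹ *ᵥ v = Pi.single 1 1 := by
    rw [← hB1, mulVec_mulVec, Matrix.nonsing_inv_mul B hBu, one_mulVec]
  apply Finset.card_le_card_of_injOn (fun Q => fun x => Q (B⁻¹ *ᵥ x))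
  · intro Q hQ
    rw [Finset.mem_coe, Finset.mem_filter] at hQ ⊢
    obtain ⟨hQΦ, h0, h1, h01⟩ := hQ
    refine ⟨hstab Q hQΦ _ hBinv, ?_, ?_, ?_⟩
    · show Q (B⁻¹ *ᵥ u) = _
      rw [hiu, h0]
    · show Q (B⁻¹ *ᵥ v) = _
      rw [hiv, h1]
    · rw [polar_comp, hiu, hiv, h01]
  · intro Q _ Q' _ hQQ'
    funext x
    have := congrFun hQQ' (B *ᵥ x)
    simp only [mulVec_mulVec, Matrix.nonsing_inv_mul B hBu, one_mulVec] at this
    exact this

/-- splitting the count of pairs as a sum over the first component -/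
theorem card_pairs_eq_sum {V : Type*} [Fintype V] [DecidableEq V] (P : V → Prop)
    (R : V → V → Prop) [DecidablePred P] [∀ u, DecidablePred (R u)]
    [DecidablePred (fun p : V × V => P p.1 ∧ R p.1 p.2)] :
    (Finset.univ.filter (fun p : V × V => P p.1 ∧ R p.1 p.2)).card =
      ∑ u ∈ Finset.univ.filter P, (Finset.univ.filter (fun v => R u v)).card := by
  rw [Finset.card_filter, ← Finset.univ_product_univ, Finset.sum_product, Finset.sum_filter]
  refine Finset.sum_congr rfl fun u _ => ?_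
  by_cases hP : P u
  · rw [if_pos hP, Finset.card_filter]
    refine Finset.sum_congr rfl fun v _ => ?_
    simp only [hP, true_and]
  · rw [if_neg hP]
    apply Finset.sum_eq_zero
    intro v _
    simp only [hP, false_and, if_false]

open Classical in
/-- case H: the number of hyperbolic pairs of a quadratic form -/
theorem card_rel_le_H [Fintype F] (h2 : (2 : F) = 0) (m : ℕ)
    (M : Matrix (Fin (m + 2)) (Fin (m + 2)) F) :
    (Finset.univ.filter (fun p : (Fin (m + 2) → F) × (Fin (m + 2) → F) =>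
      RelQ 0 0 1 (qf M) p.1 p.2)).card ≤
      2 * Fintype.card F * Fintype.card F ^ (2 * m) := by
  have hq0 : 0 < Fintype.card F := Fintype.card_pos
  have hsplit : (Finset.univ.filter (fun p : (Fin (m + 2) → F) × (Fin (m + 2) → F) =>
      RelQ 0 0 1 (qf M) p.1 p.2)) = Finset.univ.filter
        (fun p : (Fin (m + 2) → F) × (Fin (m + 2) → F) =>
          qf M p.1 = 0 ∧ (qf M p.2 = 0 ∧ polar (qf M) p.1 p.2 = 1)) := by
    ext p
    rw [Finset.mem_filter, Finset.mem_filter]
    exact Iff.rfl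
  rw [hsplit,
    card_pairs_eq_sum (fun u => qf M u = 0) (fun u v => qf M v = 0 ∧ polar (qf M) u v = 1)]
  -- each inner count is at most `q^m`
  have hin : ∀ u : Fin (m + 2) → F, qf M u = 0 →
      (Finset.univ.filter (fun v => qf M v = 0 ∧ polar (qf M) u v = 1)).card ≤
        Fintype.card F ^ m := by
    intro u hu
    have h1 := card_line_le_sing h2 M u hu 0 1 one_ne_zero
    have h3 := card_polar_eq_le (m + 2) (by omega) M u 1 one_ne_zero
    have h4 : Fintype.card F * (Finset.univ.filter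
        (fun v => qf M v = 0 ∧ polar (qf M) u v = 1)).card ≤ Fintype.card F * Fintype.card F ^ m := by
      refine le_trans h1 (le_trans h3 ?_)
      rw [show m + 2 - 1 = m + 1 by omega, pow_succ, mul_comm]
    exact Nat.le_of_mul_le_mul_left h4 hq0
  by_cases hex : ∃ w, qf M w ≠ 0
  · obtain ⟨w, hw⟩ := hex
    have hs := card_sing_le (m + 2) (by omega) M w hw
    rw [show m + 2 - 1 = m + 1 by omega] at hs
    calc ∑ u ∈ Finset.univ.filter (fun u => qf M u = 0),
          (Finset.univ.filter (fun v => qf M v = 0 ∧ polar (qf M) u v = 1)).card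
        ≤ ∑ _u ∈ Finset.univ.filter (fun u => qf M u = 0), Fintype.card F ^ m := by
          apply Finset.sum_le_sum
          intro u hu
          exact hin u (Finset.mem_filter.mp hu).2
      _ = (Finset.univ.filter (fun u => qf M u = 0)).card * Fintype.card F ^ m := by
          rw [Finset.sum_const, smul_eq_mul]
      _ ≤ 2 * Fintype.card F ^ (m + 1) * Fintype.card F ^ m := Nat.mul_le_mul_right _ hs
      _ = 2 * Fintype.card F * Fintype.card F ^ (2 * m) := by ring
  · -- the form vanishes identically: no pairs at all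
    have hall : ∀ w, qf M w = 0 := by
      intro w
      by_contra h
      exact hex ⟨w, h⟩
    have : ∀ u, (Finset.univ.filter (fun v => qf M v = 0 ∧ polar (qf M) u v = 1)).card = 0 := by
      intro u
      rw [Finset.card_eq_zero, Finset.filter_eq_empty_iff]
      rintro v - ⟨-, h⟩
      unfold polar at h
      rw [hall, hall, hall, sub_zero, sub_zero] at h
      exact zero_ne_one h
    simp only [this, Finset.sum_const_zero, Nat.zero_le]

open Classical in
/-- case E: the number of pairs with prescribed values, when all singular vectors are in the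
radical -/
theorem card_rel_le_E [Fintype F] (h2 : (2 : F) = 0) (m : ℕ)
    (M : Matrix (Fin (m + 2)) (Fin (m + 2)) F)
    (hE : ∀ u, qf M u = 0 → ∀ v, polar (qf M) u v = 0) (a c b0 : F) (hb0 : b0 ≠ 0) :
    (Finset.univ.filter (fun p : (Fin (m + 2) → F) × (Fin (m + 2) → F) =>
      RelQ a c b0 (qf M) p.1 p.2)).card ≤
      2 * (Fintype.card F + 1) * Fintype.card F ^ (2 * m) := by
  have hq0 : 0 < Fintype.card F := Fintype.card_pos
  have hsplit : (Finset.univ.filter (fun p : (Fin (m + 2) → F) × (Fin (m + 2) → F) =>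
      RelQ a c b0 (qf M) p.1 p.2)) = Finset.univ.filter
        (fun p : (Fin (m + 2) → F) × (Fin (m + 2) → F) =>
          qf M p.1 = a ∧ (qf M p.2 = c ∧ polar (qf M) p.1 p.2 = b0)) := by
    ext p
    rw [Finset.mem_filter, Finset.mem_filter]
    exact Iff.rfl
  rw [hsplit,
    card_pairs_eq_sum (fun u => qf M u = a) (fun u v => qf M v = c ∧ polar (qf M) u v = b0)]
  have hin : ∀ u : Fin (m + 2) → F,
      (Finset.univ.filter (fun v => qf M v = c ∧ polar (qf M) u v = b0)).card ≤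
        2 * Fintype.card F ^ m := by
    intro u
    have h1 := card_line_le h2 M u c b0 hb0
    have h3 := card_polar_eq_le (m + 2) (by omega) M u b0 hb0
    have h4 : Fintype.card F * (Finset.univ.filter
        (fun v => qf M v = c ∧ polar (qf M) u v = b0)).card ≤
          Fintype.card F * (2 * Fintype.card F ^ m) := by
      refine le_trans h1 (le_trans (Nat.mul_le_mul_left 2 h3) ?_)
      rw [show m + 2 - 1 = m + 1 by omega, pow_succ]
      apply le_of_eq
      ring
    exact Nat.le_of_mul_le_mul_left h4 hq0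
  by_cases hex : ∃ p : (Fin (m + 2) → F) × (Fin (m + 2) → F),
      qf M p.1 = a ∧ qf M p.2 = c ∧ polar (qf M) p.1 p.2 = b0
  · obtain ⟨⟨u₀, v₀⟩, hu₀, -, hb⟩ := hex
    have ha : a ≠ 0 := by
      rintro rfl
      exact hb0 (hb ▸ hE u₀ hu₀ v₀)
    have hs := card_value_le h2 (m + 2) (by omega) M hE u₀ v₀ (by rw [hb]; exact hb0) a ha
    rw [show m + 2 - 2 = m by omega] at hs
    calc ∑ u ∈ Finset.univ.filter (fun u => qf M u = a),
          (Finset.univ.filter (fun v => qf M v = c ∧ polar (qf M) u v = b0)).card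
        ≤ ∑ _u ∈ Finset.univ.filter (fun u => qf M u = a), 2 * Fintype.card F ^ m :=
          Finset.sum_le_sum fun u _ => hin u
      _ = (Finset.univ.filter (fun u => qf M u = a)).card * (2 * Fintype.card F ^ m) := by
          rw [Finset.sum_const, smul_eq_mul]
      _ ≤ (Fintype.card F + 1) * Fintype.card F ^ m * (2 * Fintype.card F ^ m) :=
          Nat.mul_le_mul_right _ hs
      _ = 2 * (Fintype.card F + 1) * Fintype.card F ^ (2 * m) := by ring
  · have : ∀ u ∈ Finset.univ.filter (fun u : Fin (m + 2) → F => qf M u = a),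
        (Finset.univ.filter (fun v => qf M v = c ∧ polar (qf M) u v = b0)).card = 0 := by
      intro u hu
      rw [Finset.card_eq_zero, Finset.filter_eq_empty_iff]
      rintro v - ⟨h1, h2'⟩
      exact hex ⟨(u, v), (Finset.mem_filter.mp hu).2, h1, h2'⟩
    rw [Finset.sum_eq_zero this]
    exact Nat.zero_le _

open Classical in
/-- the double counting -/
theorem double_count {V X : Type*} [Fintype V] (Φ : Finset X) (P : Finset (V × V))
    (R : X → V → V → Prop) (L B : ℕ)
    (hL : ∀ p ∈ P, L ≤ (Φ.filter (fun Q => R Q p.1 p.2)).card)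
    (hB : ∀ Q ∈ Φ, (Finset.univ.filter (fun p : V × V => R Q p.1 p.2)).card ≤ B) :
    P.card * L ≤ Φ.card * B := by
  calc P.card * L = ∑ _p ∈ P, L := by rw [Finset.sum_const, smul_eq_mul]
    _ ≤ ∑ p ∈ P, (Φ.filter (fun Q => R Q p.1 p.2)).card := Finset.sum_le_sum hL
    _ = ∑ p ∈ P, ∑ Q ∈ Φ, if R Q p.1 p.2 then 1 else 0 := by
        refine Finset.sum_congr rfl fun p _ => ?_
        rw [Finset.card_filter]
    _ = ∑ Q ∈ Φ, ∑ p ∈ P, if R Q p.1 p.2 then 1 else 0 := Finset.sum_comm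
    _ ≤ ∑ Q ∈ Φ, ∑ p : V × V, if R Q p.1 p.2 then 1 else 0 := by
        refine Finset.sum_le_sum fun Q _ => ?_
        exact Finset.sum_le_sum_of_subset (Finset.subset_univ P)
    _ = ∑ Q ∈ Φ, (Finset.univ.filter (fun p : V × V => R Q p.1 p.2)).card := by
        refine Finset.sum_congr rfl fun Q _ => ?_
        rw [Finset.card_filter]
    _ ≤ ∑ _Q ∈ Φ, B := Finset.sum_le_sum hB
    _ = Φ.card * B := by rw [Finset.sum_const, smul_eq_mul]

open Classical in
/-- **the orbit bound**: a `GL`-stable set of quadratic forms in characteristic `2` containing a form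
with nonzero polar form has at least `(q^n - 1)(q^n - q)/(2(q+1))` elements -/
theorem orbit_bound [Fintype F] (h2 : (2 : F) = 0) (m : ℕ) (Φ : Finset ((Fin (m + 2) → F) → F))
    (hq : ∀ Q ∈ Φ, ∃ M : Matrix (Fin (m + 2)) (Fin (m + 2)) F, Q = qf M)
    (hstab : ∀ Q ∈ Φ, ∀ A : Matrix (Fin (m + 2)) (Fin (m + 2)) F, A.det ≠ 0 →
      (fun x => Q (A *ᵥ x)) ∈ Φ)
    (hne : ∃ Q ∈ Φ, ∃ x y, polar Q x y ≠ 0) :
    (Fintype.card F ^ (m + 2) - 1) * (Fintype.card F ^ (m + 2) - Fintype.card F) ≤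
      2 * (Fintype.card F + 1) * Φ.card := by
  have hq0 : 0 < Fintype.card F := Fintype.card_pos
  have hqm : 0 < Fintype.card F ^ (2 * m) := pow_pos hq0 _
  obtain ⟨Q₀, hQ₀, x, y, hxy⟩ := hne
  obtain ⟨M₀, rfl⟩ := hq _ hQ₀
  rw [← card_pairs (F := F) (m + 2)]
  set P := Finset.univ.filter (fun p : (Fin (m + 2) → F) × (Fin (m + 2) → F) =>
      p.1 ≠ 0 ∧ ∀ t : F, p.2 ≠ t • p.1) with hP
  by_cases hE : ∀ u, qf M₀ u = 0 → ∀ v, polar (qf M₀) u v = 0
  · -- case E
    set Φ' := Φ.filter (fun Q => ∀ u, Q u = 0 → ∀ v, polar Q u v = 0) with hΦ'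
    have hq' : ∀ Q ∈ Φ', ∃ M : Matrix (Fin (m + 2)) (Fin (m + 2)) F, Q = qf M :=
      fun Q hQ => hq Q (Finset.mem_filter.mp hQ).1
    have hstab' : ∀ Q ∈ Φ', ∀ A : Matrix (Fin (m + 2)) (Fin (m + 2)) F, A.det ≠ 0 →
        (fun x => Q (A *ᵥ x)) ∈ Φ' := by
      intro Q hQ A hA
      rw [hΦ', Finset.mem_filter] at hQ ⊢
      refine ⟨hstab Q hQ.1 A hA, ?_⟩
      intro u hu v
      rw [polar_comp]
      exact hQ.2 _ hu _
    have hQ₀' : qf M₀ ∈ Φ' := Finset.mem_filter.mpr ⟨hQ₀, hE⟩
    have key := double_count Φ' P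
      (fun Q u v => RelQ (qf M₀ x) (qf M₀ y) (polar (qf M₀) x y) Q u v)
      (Fintype.card F ^ (2 * m)) (2 * (Fintype.card F + 1) * Fintype.card F ^ (2 * m))
      (by
        intro p hp
        rw [hP, Finset.mem_filter] at hp
        exact count_ge h2 m Φ' hq' hstab' (qf M₀) hQ₀' x y hxy p.1 p.2 hp.2.1 hp.2.2)
      (by
        intro Q hQ
        obtain ⟨M, rfl⟩ := hq' Q hQ
        exact card_rel_le_E h2 m M (Finset.mem_filter.mp hQ).2 _ _ _ hxy)
    have h3 : P.card * Fintype.card F ^ (2 * m) ≤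
        (2 * (Fintype.card F + 1) * Φ.card) * Fintype.card F ^ (2 * m) := by
      refine le_trans key ?_
      have : Φ'.card ≤ Φ.card := Finset.card_le_card (Finset.filter_subset _ _)
      calc Φ'.card * (2 * (Fintype.card F + 1) * Fintype.card F ^ (2 * m))
          ≤ Φ.card * (2 * (Fintype.card F + 1) * Fintype.card F ^ (2 * m)) :=
            Nat.mul_le_mul_right _ this
        _ = (2 * (Fintype.card F + 1) * Φ.card) * Fintype.card F ^ (2 * m) := by ring
    exact Nat.le_of_mul_le_mul_right h3 hqm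
  · -- case H
    have hex : ∃ u, qf M₀ u = 0 ∧ ∃ v, polar (qf M₀) u v ≠ 0 := by
      by_contra hcon
      apply hE
      intro u hu v
      by_contra hv
      exact hcon ⟨u, hu, v, hv⟩
    obtain ⟨u, hu, v, hv⟩ := hex
    obtain ⟨v', hv'⟩ : ∃ v' : Fin (m + 2) → F, v' = (polar (qf M₀) u v)⁻¹ • v := ⟨_, rfl⟩
    have hp1 : polar (qf M₀) u v' = 1 := by
      rw [hv', polar_smul_right, inv_mul_cancel₀ hv]
    obtain ⟨v'', hv''⟩ : ∃ v'' : Fin (m + 2) → F, v'' = v' + qf M₀ v' • u := ⟨_, rfl⟩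
    have hq'' : qf M₀ v'' = 0 := by
      rw [hv'', qf_add_smul, hu, mul_zero, add_zero, polar_comm, hp1, mul_one, ← two_mul, h2,
        zero_mul]
    have hp'' : polar (qf M₀) u v'' = 1 := by
      rw [hv'', polar_add_right, polar_smul_right, polar_self h2, mul_zero, add_zero, hp1]
    have key := double_count Φ P
      (fun Q u v => RelQ 0 0 1 Q u v)
      (Fintype.card F ^ (2 * m)) (2 * Fintype.card F * Fintype.card F ^ (2 * m))
      (by
        intro p hp
        rw [hP, Finset.mem_filter] at hp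
        have := count_ge h2 m Φ hq hstab (qf M₀) hQ₀ u v'' (by rw [hp'']; exact one_ne_zero)
          p.1 p.2 hp.2.1 hp.2.2
        rwa [hu, hq'', hp''] at this)
      (by
        intro Q hQ
        obtain ⟨M, rfl⟩ := hq Q hQ
        exact card_rel_le_H h2 m M)
    have h3 : P.card * Fintype.card F ^ (2 * m) ≤
        (2 * (Fintype.card F + 1) * Φ.card) * Fintype.card F ^ (2 * m) := by
      refine le_trans key ?_
      calc Φ.card * (2 * Fintype.card F * Fintype.card F ^ (2 * m))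
          = (2 * Fintype.card F * Φ.card) * Fintype.card F ^ (2 * m) := by ring
        _ ≤ (2 * (Fintype.card F + 1) * Φ.card) * Fintype.card F ^ (2 * m) := by
            apply Nat.mul_le_mul_right
            apply Nat.mul_le_mul_right
            omega
    exact Nat.le_of_mul_le_mul_right h3 hqm

end Cfsg.Agent.S2333P
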