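import Mathlib
import Cfsg.Prelude.Def_Characters
import Cfsg.Agent.Helper7.S2333Defs
import Cfsg.Agent.Helper7.S2333Basic
import Cfsg.Agent.Helper7.S2333UNIP
import Cfsg.Agent.Helper12.WGDefs
import Cfsg.Agent.Helper13.WGGapDefs

/-!
# S2524, chapter GAP, piece GAP-UNIP: the unipotent substitutions fixing `e₀, e₁` give `q^(2m)`
distinct forms (any characteristic)
-/

set_option autoImplicit false

namespace Cfsg.Agent.S2524P

open Matrix Cfsg Cfsg.Agent.S2333P

variable {F : Type*} [Field F] [Fintype F]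

/-- **GAP-UNIP**: the unipotent substitutions fixing `e₀, e₁` give `q^(2m)` distinct forms
(any characteristic; generalises helper7's `count_ge_std`) -/
theorem gap_count_ge_std (m : ℕ) (Φ : Finset ((Fin (m + 2) → F) → F))
    (hstab : ∀ Q ∈ Φ, ∀ A : Matrix (Fin (m + 2)) (Fin (m + 2)) F, A.det ≠ 0 →
      (fun x => Q (A *ᵥ x)) ∈ Φ)
    (M : Matrix (Fin (m + 2)) (Fin (m + 2)) F) (hM : qf M ∈ Φ)
    (hb : 4 * qf M (Pi.single 0 1) * qf M (Pi.single 1 1) -
      (polar (qf M) (Pi.single 0 1) (Pi.single 1 1)) ^ 2 ≠ 0) :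
    Fintype.card F ^ (2 * m) ≤ (open Classical in Φ.filter (fun Q =>
      Q (Pi.single 0 1) = qf M (Pi.single 0 1) ∧ Q (Pi.single 1 1) = qf M (Pi.single 1 1) ∧
      polar Q (Pi.single 0 1) (Pi.single 1 1) =
        polar (qf M) (Pi.single 0 1) (Pi.single 1 1))).card := by
  classical
  have hcard : Fintype.card F ^ (2 * m) =
      (Finset.univ : Finset ((Fin m → F) × (Fin m → F))).card := by
    rw [Finset.card_univ, Fintype.card_prod, Fintype.card_fun, Fintype.card_fin, two_mul, pow_add]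
  rw [hcard]
  apply Finset.card_le_card_of_injOn
    (fun p : (Fin m → F) × (Fin m → F) => fun x => qf M (unipG p.1 p.2 *ᵥ x))
  · intro p _
    rw [Finset.mem_coe, Finset.mem_filter]
    refine ⟨hstab _ hM _ (unipG_det p.1 p.2), ?_, ?_, ?_⟩
    · show qf M (unipG p.1 p.2 *ᵥ Pi.single 0 1) = _
      rw [unipG_e0]
    · show qf M (unipG p.1 p.2 *ᵥ Pi.single 1 1) = _
      rw [unipG_e1]
    · rw [polar_comp, unipG_e0, unipG_e1]
  · intro p _ p' _ hpp'
    have hpol : ∀ x y, polar (qf M) (unipG p.1 p.2 *ᵥ x) (unipG p.1 p.2 *ᵥ y) =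
        polar (qf M) (unipG p'.1 p'.2 *ᵥ x) (unipG p'.1 p'.2 *ᵥ y) := by
      intro x y
      rw [← polar_comp, ← polar_comp]
      exact congrFun (congrFun (congrArg polar hpp') x) y
    obtain ⟨a, ha⟩ : ∃ a : F, a = qf M (Pi.single 0 1) := ⟨_, rfl⟩
    obtain ⟨c, hc⟩ : ∃ c : F, c = qf M (Pi.single 1 1) := ⟨_, rfl⟩
    obtain ⟨b, hbdef⟩ : ∃ b : F, b = polar (qf M) (Pi.single 0 1) (Pi.single 1 1) := ⟨_, rfl⟩
    have hb10 : polar (qf M) (Pi.single 1 1) (Pi.single 0 1) = b := by
      rw [polar_comm, hbdef]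
    have h00 : polar (qf M) (Pi.single 0 1) (Pi.single 0 1) = 2 * a := by
      rw [gap_polar_self, ha]
    have h11 : polar (qf M) (Pi.single 1 1) (Pi.single 1 1) = 2 * c := by
      rw [gap_polar_self, hc]
    rw [← ha, ← hc, ← hbdef] at hb
    have hdisc : b ^ 2 - 4 * a * c ≠ 0 := by
      intro h
      apply hb
      linear_combination -h
    have key : ∀ k : Fin m, p.1 k = p'.1 k ∧ p.2 k = p'.2 k := by
      intro k
      have e1 := hpol (Pi.single ⟨k.val + 2, by omega⟩ 1) (Pi.single 1 1)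
      rw [unipG_e1, unipG_e1, unipG_ek, unipG_ek] at e1
      simp only [polar_add_left, polar_smul_left, h11, ← hbdef] at e1
      have e0 := hpol (Pi.single ⟨k.val + 2, by omega⟩ 1) (Pi.single 0 1)
      rw [unipG_e0, unipG_e0, unipG_ek, unipG_ek] at e0
      simp only [polar_add_left, polar_smul_left, h00, hb10] at e0
      have hα : (b ^ 2 - 4 * a * c) * (p.1 k - p'.1 k) = 0 := by
        linear_combination b * e1 - 2 * c * e0
      have hβ : (b ^ 2 - 4 * a * c) * (p.2 k - p'.2 k) = 0 := by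
        linear_combination b * e0 - 2 * a * e1
      refine ⟨?_, ?_⟩
      · rcases mul_eq_zero.1 hα with h | h
        · exact absurd h hdisc
        · exact sub_eq_zero.1 h
      · rcases mul_eq_zero.1 hβ with h | h
        · exact absurd h hdisc
        · exact sub_eq_zero.1 h
    apply Prod.ext
    · funext k; exact (key k).1
    · funext k; exact (key k).2

end Cfsg.Agent.S2524P
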