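import Mathlib
import Cfsg.Prelude.Def_GeometricClasses
import Cfsg.Prelude.Def_Classical
import Cfsg.Prelude.Def_LieClassical
import Cfsg.Agent.Helper6.S5992Defs

/-! S5992 piece ORTHSYM: the orthogonal complement of a nondegenerate subspace `U` inside a
nondegenerate subspace `M` of a quadratic space. -/

set_option autoImplicit false
open scoped MatrixGroups
universe u

namespace Cfsg.Agent.S5992P

open Cfsg.Agent.Helper2.SympInvol Cfsg.Agent.Helper2.SympUnits Cfsg.Agent.S5961P Cfsg.Agent.S2614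
  Cfsg.Agent.S5955P

/-- ORTHSYM -/
theorem orth_compl_sym {F V : Type*} [Field F] [AddCommGroup V] [Module F V]
    [FiniteDimensional F V] (Q : QuadraticForm F V) (M U : Submodule F V) (hUM : U ≤ M)
    (hM : Nondeg (PB Q) M) (hU : Nondeg (PB Q) U) :
    ∃ U' : Submodule F V, U' ≤ M ∧ Nondeg (PB Q) U' ∧ Orth (PB Q) U U' ∧ U ⊔ U' = M ∧
      Disjoint U U' ∧ Module.finrank F U + Module.finrank F U' = Module.finrank F M ∧
      (∀ y : Module.End F V, (∀ v, Q (y v) = Q v) → Function.Injective y → U.map y ≤ U →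
        M.map y ≤ M → U'.map y ≤ U') := by
  have hrefl : (PB Q).IsRefl := by
    intro u v h
    rw [PB_comm]
    exact h
  have hmemO : ∀ x, x ∈ (PB Q).orthogonal U ↔ ∀ u ∈ U, PB Q u x = 0 := fun x =>
    LinearMap.BilinForm.mem_orthogonal_iff
  have hdisj0 : Disjoint U ((PB Q).orthogonal U) := by
    rw [Submodule.disjoint_def]
    intro x hx1 hx2
    by_contra hx0
    obtain ⟨v, hv, hne⟩ := hU x hx1 hx0
    apply hne
    rw [PB_comm]
    exact (hmemO x).mp hx2 v hv
  have hcompl : IsCompl U ((PB Q).orthogonal U) :=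
    (LinearMap.BilinForm.isCompl_orthogonal_iff_disjoint hrefl).mpr hdisj0
  have hsup : U ⊔ (M ⊓ (PB Q).orthogonal U) = M := by
    rw [inf_comm, ← sup_inf_assoc_of_le _ hUM, hcompl.sup_eq_top, top_inf_eq]
  have hdisj : Disjoint U (M ⊓ (PB Q).orthogonal U) := hdisj0.mono_right inf_le_right
  have ho : Orth (PB Q) U (M ⊓ (PB Q).orthogonal U) := fun u hu x hx => (hmemO x).mp hx.2 u hu
  refine ⟨M ⊓ (PB Q).orthogonal U, inf_le_left, ?_, ho, hsup, hdisj, ?_, ?_⟩
  · intro m hm hm0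
    obtain ⟨v, hv, hne⟩ := hM m hm.1 hm0
    have hv' : v ∈ U ⊔ (M ⊓ (PB Q).orthogonal U) := by rw [hsup]; exact hv
    obtain ⟨u, hu, w, hw, rfl⟩ := Submodule.mem_sup.mp hv'
    refine ⟨w, hw, ?_⟩
    rw [map_add, PB_comm Q m u, ho u hu m hm, zero_add] at hne
    exact hne
  · have := Submodule.finrank_sup_add_finrank_inf_eq U (M ⊓ (PB Q).orthogonal U)
    rw [hsup, hdisj.eq_bot, finrank_bot, add_zero] at this
    exact this.symm
  · intro y hyQ hyinj hyU hyM
    have hUeq : U.map y = U := by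
      apply Submodule.eq_of_le_of_finrank_eq hyU
      exact (Submodule.equivMapOfInjective y hyinj U).finrank_eq.symm
    rintro _ ⟨x, hx, rfl⟩
    refine ⟨hyM ⟨x, hx.1, rfl⟩, ?_⟩
    apply (hmemO _).mpr
    intro u hu
    rw [← hUeq] at hu
    obtain ⟨u', hu', rfl⟩ := hu
    rw [PB_isom Q hyQ]
    exact (hmemO x).mp hx.2 u' hu'

end Cfsg.Agent.S5992P
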