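import Mathlib
import Cfsg.Agent.Helper13.PGDefs

set_option autoImplicit false

/-!
# S2490 piece FPF: fixed-point-free action

An `r`-group `R` normalizing an `s`-group `Q` (`r ≠ s` primes) in a group without elements of
order `r * s` acts semiregularly on `Q ∖ 1`, so `|R| ∣ |Q| - 1`.
-/

open Cfsg.Agent.Helper13.PG MulAction

namespace Cfsg.Agent.Helper7.PG

variable {G : Type*} [Group G]

/-- A nontrivial element of prime power order `p ^ k` has a power of order `p`. -/
theorem exists_pow_orderOf_eq_prime {H : Type*} [Group H] {p : ℕ} (hp : p.Prime) (g : H)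
    (hg : g ≠ 1) (h : ∃ k : ℕ, orderOf g = p ^ k) : ∃ n : ℕ, orderOf (g ^ n) = p := by
  obtain ⟨k, hk⟩ := h
  rcases k with _ | j
  · exfalso
    rw [pow_zero, orderOf_eq_one_iff] at hk
    exact hg hk
  · refine ⟨p ^ j, ?_⟩
    rw [orderOf_pow_of_dvd (pow_ne_zero j hp.ne_zero) (by rw [hk]; exact pow_dvd_pow p (Nat.le_succ j)),
      hk, pow_succ]
    exact Nat.mul_div_cancel_left p (pow_pos hp.pos j)

/-- The conjugation action of `R` on the nontrivial elements of `Q`, when `R` normalizes `Q`. -/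
@[reducible] def conjActNe (R Q : Subgroup G) (h : R ≤ Subgroup.normalizer (Q : Set G)) :
    MulAction ↥R {u : ↥Q // u ≠ 1} where
  smul y u := ⟨⟨(y : G) * (u.1 : G) * (y : G)⁻¹,
      (Subgroup.mem_normalizer_iff.mp (h y.2) (u.1 : G)).mp u.1.2⟩, by
    intro hc
    apply u.2
    have h1 : (y : G) * (u.1 : G) * (y : G)⁻¹ = 1 := congrArg Subtype.val hc
    have h2 : (u.1 : G) = 1 := by
      have h3 : (u.1 : G) = (y : G)⁻¹ * ((y : G) * (u.1 : G) * (y : G)⁻¹) * (y : G) := by group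
      rw [h3, h1]; group
    exact Subtype.ext h2⟩
  one_smul u := by
    apply Subtype.ext; apply Subtype.ext
    change ((1 : ↥R) : G) * (u.1 : G) * ((1 : ↥R) : G)⁻¹ = (u.1 : G)
    simp
  mul_smul y z u := by
    apply Subtype.ext; apply Subtype.ext
    change ((y * z : ↥R) : G) * (u.1 : G) * ((y * z : ↥R) : G)⁻¹
      = (y : G) * ((z : G) * (u.1 : G) * (z : G)⁻¹) * (y : G)⁻¹
    simp only [Subgroup.coe_mul]
    group

theorem l1 [Finite G] : L1 G := by
  intro r s hr hs hrs R Q hR hQ hRQ hno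
  have : Fact r.Prime := ⟨hr⟩
  have : Fact s.Prime := ⟨hs⟩
  let act : MulAction ↥R {u : ↥Q // u ≠ 1} := conjActNe R Q hRQ
  have hsmul : ∀ (y : ↥R) (u : {u : ↥Q // u ≠ 1}),
      (((y • u : {u : ↥Q // u ≠ 1}).1 : ↥Q) : G) = (y : G) * (u.1 : G) * (y : G)⁻¹ := fun _ _ => rfl
  -- all stabilizers are trivial
  have hstab : ∀ u : {u : ↥Q // u ≠ 1}, MulAction.stabilizer ↥R u = ⊥ := by
    intro u
    rw [eq_bot_iff]
    intro y hy
    rw [Subgroup.mem_bot]
    by_contra hy1
    have hfix : y • u = u := MulAction.mem_stabilizer_iff.mp hy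
    have hcomm : (y : G) * (u.1 : G) = (u.1 : G) * (y : G) := by
      have h1 := hsmul y u
      rw [hfix] at h1
      calc (y : G) * (u.1 : G) = ((y : G) * (u.1 : G) * (y : G)⁻¹) * (y : G) := by group
        _ = (u.1 : G) * (y : G) := by rw [← h1]
    -- suitable powers
    have hyG1 : (y : G) ≠ 1 := fun h => hy1 (Subtype.ext h)
    have huG1 : ((u.1 : ↥Q) : G) ≠ 1 := fun h => u.2 (Subtype.ext h)
    have hyord : ∃ k : ℕ, orderOf (y : G) = r ^ k := by
      obtain ⟨k, hk⟩ := (IsPGroup.iff_orderOf.mp hR) y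
      exact ⟨k, by rw [← hk, Subgroup.orderOf_coe]⟩
    have huord : ∃ k : ℕ, orderOf ((u.1 : ↥Q) : G) = s ^ k := by
      obtain ⟨k, hk⟩ := (IsPGroup.iff_orderOf.mp hQ) u.1
      exact ⟨k, by rw [← hk, Subgroup.orderOf_coe]⟩
    obtain ⟨n, hn⟩ := exists_pow_orderOf_eq_prime hr (y : G) hyG1 hyord
    obtain ⟨m, hm⟩ := exists_pow_orderOf_eq_prime hs ((u.1 : ↥Q) : G) huG1 huord
    have hc : Commute ((y : G) ^ n) (((u.1 : ↥Q) : G) ^ m) :=
      (Commute.pow_pow (show Commute (y : G) ((u.1 : ↥Q) : G) from hcomm) n m)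
    have hcop : Nat.Coprime (orderOf ((y : G) ^ n)) (orderOf (((u.1 : ↥Q) : G) ^ m)) := by
      rw [hn, hm]
      exact (Nat.coprime_primes hr hs).mpr hrs
    have hord := hc.orderOf_mul_eq_mul_orderOf_of_coprime hcop
    rw [hn, hm] at hord
    exact hno _ hord
  have e := MulAction.selfEquivOrbitsQuotientProd hstab
  have hcard : Nat.card {u : ↥Q // u ≠ 1}
      = Nat.card (Quotient (MulAction.orbitRel ↥R {u : ↥Q // u ≠ 1})) * Nat.card ↥R := by
    rw [Nat.card_congr e, Nat.card_prod]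
  have hQ1 : Nat.card ↥Q = Nat.card {u : ↥Q // u ≠ 1} + 1 := by
    classical
    rw [← Nat.card_congr (Equiv.optionSubtypeNe (1 : ↥Q)), Finite.card_option]
  rw [hQ1, Nat.add_sub_cancel, hcard]
  exact Dvd.intro_left _ rfl

end Cfsg.Agent.Helper7.PG
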