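import Mathlib
import Cfsg.Agent.Helper13.PGDefs

set_option autoImplicit false

/-!
# S2490 piece SYLN: the number of Sylow 11-subgroups of a group of order 7920
-/

open Cfsg.Agent.Helper13.PG MulAction

namespace Cfsg.Agent.Helper7.PG

variable {G : Type*} [Group G]

/-- Pure arithmetic: a divisor of `720` congruent to `1` mod `11` is `1`, `12`, `45` or `144`. -/
theorem arith_div_720 (n : ℕ) (hd : n ∣ 720) (hm : n % 11 = 1) :
    n = 1 ∨ n = 12 ∨ n = 45 ∨ n = 144 := by
  have hle : n ≤ 720 := Nat.le_of_dvd (by norm_num) hd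
  obtain ⟨k, rfl⟩ : ∃ k, n = 11 * k + 1 := ⟨n / 11, by omega⟩
  have hk : k ≤ 65 := by omega
  interval_cases k <;> omega

/-- The `11`-part of `7920` is `11`. -/
theorem factorization_7920_eleven : (7920 : ℕ).factorization 11 = 1 := by
  have h7920 : (7920 : ℕ) = 11 * 720 := by norm_num
  rw [h7920, Nat.factorization_mul (by norm_num) (by norm_num)]
  have h1 : (11 : ℕ).factorization 11 = 1 := Nat.Prime.factorization_self (by norm_num)
  have h2 : (720 : ℕ).factorization 11 = 0 :=
    Nat.factorization_eq_zero_of_not_dvd (by norm_num)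
  simp [Finsupp.add_apply, h1, h2]

theorem card_sylow_eleven [Finite G] (hord : Nat.card G = 7920) :
    Nat.card (Sylow 11 G) = 1 ∨ Nat.card (Sylow 11 G) = 12 ∨ Nat.card (Sylow 11 G) = 45 ∨
      Nat.card (Sylow 11 G) = 144 := by
  have : Fact (Nat.Prime 11) := ⟨by norm_num⟩
  have hmod : Nat.card (Sylow 11 G) ≡ 1 [MOD 11] := card_sylow_modEq_one 11 G
  obtain ⟨P⟩ : Nonempty (Sylow 11 G) := inferInstance
  have hdvd : Nat.card (Sylow 11 G) ∣ (P : Subgroup G).index := P.card_dvd_index
  have hcardP : Nat.card (P : Subgroup G) = 11 ^ (Nat.card G).factorization 11 :=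
    P.card_eq_multiplicity
  rw [hord, factorization_7920_eleven, pow_one] at hcardP
  have hidx : (P : Subgroup G).index = 720 := by
    have h := (P : Subgroup G).card_mul_index
    rw [hcardP, hord] at h
    omega
  rw [hidx] at hdvd
  exact arith_div_720 _ hdvd hmod

end Cfsg.Agent.Helper7.PG
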