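import Mathlib
import Cfsg.Agent.Helper29.S2264Defs

/-! S2264 piece LCMPLUS (helper7): bounds for `lcm_{d ∈ D} (q^d - 1)`. -/

set_option autoImplicit false

namespace Cfsg.Agent.S2264P

namespace LCMPLUS

/-- `c_d = (q^d - 1)/(q - 1)` -/
def cc (q d : ℕ) : ℕ := (q ^ d - 1) / (q - 1)

theorem mul_cc (q d : ℕ) : (q - 1) * cc q d = q ^ d - 1 := by
  unfold cc
  apply Nat.mul_div_cancel'
  have := Nat.sub_dvd_pow_sub_pow q 1 d
  rwa [one_pow] at this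

theorem cc_le (q d : ℕ) : cc q d ≤ q ^ d := by
  unfold cc
  exact (Nat.div_le_self _ _).trans (Nat.sub_le _ _)

theorem cc_pos (q d : ℕ) (hq : 2 ≤ q) (hd : 1 ≤ d) : 0 < cc q d := by
  unfold cc
  apply Nat.div_pos _ (by omega)
  have : q ^ 1 ≤ q ^ d := Nat.pow_le_pow_right (by omega) hd
  rw [pow_one] at this
  omega

theorem lcm_dvd (q : ℕ) (D : Finset ℕ) :
    D.lcm (fun d => q ^ d - 1) ∣ (q - 1) * ∏ d ∈ D, cc q d := by
  classical
  induction D using Finset.induction_on with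
  | empty => simp
  | insert a s ha ih =>
    rw [Finset.lcm_insert, Finset.prod_insert ha]
    apply Nat.lcm_dvd
    · rw [← mul_assoc, mul_cc]
      exact Dvd.intro _ rfl
    · refine ih.trans ?_
      rw [mul_left_comm]
      exact Dvd.intro_left _ rfl

theorem prod_cc_le (q : ℕ) (D : Finset ℕ) : ∏ d ∈ D, cc q d ≤ q ^ D.sum id := by
  rw [← Finset.prod_pow_eq_pow_sum]
  exact Finset.prod_le_prod' (fun d _ => cc_le q d)

theorem prod_cc_pos (q : ℕ) (hq : 2 ≤ q) (D : Finset ℕ) (hD : ∀ d ∈ D, 1 ≤ d) :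
    0 < ∏ d ∈ D, cc q d :=
  Finset.prod_pos (fun d hd => cc_pos q d hq (hD d hd))

end LCMPLUS

open LCMPLUS in
theorem lcm_plus_bound (q : ℕ) (hq : 2 ≤ q) (D : Finset ℕ) (hD : ∀ d ∈ D, 1 ≤ d)
    (hne : D.Nonempty) : (q - 1) * D.lcm (fun d => q ^ d - 1) ≤ q ^ (D.sum id + 1) := by
  classical
  obtain ⟨d0, hd0⟩ := hne
  have hle : D.lcm (fun d => q ^ d - 1) ≤ (q - 1) * ∏ d ∈ D, cc q d :=
    Nat.le_of_dvd (Nat.mul_pos (by omega) (prod_cc_pos q hq D hD)) (lcm_dvd q D)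
  have hprod : ∏ d ∈ D, cc q d = cc q d0 * ∏ d ∈ D.erase d0, cc q d :=
    (Finset.mul_prod_erase D _ hd0).symm
  have hsum : D.sum id = d0 + (D.erase d0).sum id := (Finset.add_sum_erase D id hd0).symm
  have h1 := prod_cc_le q (D.erase d0)
  have h2 := mul_cc q d0
  calc (q - 1) * D.lcm (fun d => q ^ d - 1)
      ≤ (q - 1) * ((q - 1) * ∏ d ∈ D, cc q d) := Nat.mul_le_mul_left _ hle
    _ = (q - 1) * ((q - 1) * cc q d0) * ∏ d ∈ D.erase d0, cc q d := by rw [hprod]; ring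
    _ = (q - 1) * (q ^ d0 - 1) * ∏ d ∈ D.erase d0, cc q d := by rw [h2]
    _ ≤ (q * q ^ d0) * q ^ (D.erase d0).sum id := by
        apply Nat.mul_le_mul _ h1
        exact Nat.mul_le_mul (Nat.sub_le _ _) (Nat.sub_le _ _)
    _ = q ^ (D.sum id + 1) := by rw [hsum]; ring

open LCMPLUS in
theorem lcm_plus_le (q : ℕ) (hq : 2 ≤ q) (D : Finset ℕ) (hD : ∀ d ∈ D, 1 ≤ d) :
    D.lcm (fun d => q ^ d - 1) ≤ q ^ D.sum id := by
  classical
  rcases D.eq_empty_or_nonempty with rfl | ⟨d0, hd0⟩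
  · simp
  have hle : D.lcm (fun d => q ^ d - 1) ≤ (q - 1) * ∏ d ∈ D, cc q d :=
    Nat.le_of_dvd (Nat.mul_pos (by omega) (prod_cc_pos q hq D hD)) (lcm_dvd q D)
  have hprod : ∏ d ∈ D, cc q d = cc q d0 * ∏ d ∈ D.erase d0, cc q d :=
    (Finset.mul_prod_erase D _ hd0).symm
  have hsum : D.sum id = d0 + (D.erase d0).sum id := (Finset.add_sum_erase D id hd0).symm
  have h1 := prod_cc_le q (D.erase d0)
  have h2 := mul_cc q d0
  calc D.lcm (fun d => q ^ d - 1)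
      ≤ (q - 1) * ∏ d ∈ D, cc q d := hle
    _ = ((q - 1) * cc q d0) * ∏ d ∈ D.erase d0, cc q d := by rw [hprod]; ring
    _ = (q ^ d0 - 1) * ∏ d ∈ D.erase d0, cc q d := by rw [h2]
    _ ≤ q ^ d0 * q ^ (D.erase d0).sum id := Nat.mul_le_mul (Nat.sub_le _ _) h1
    _ = q ^ D.sum id := by rw [hsum]; ring

end Cfsg.Agent.S2264P
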