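import Cfsg.Agent.Helper7.FieldPSL7
import Cfsg.Agent.S0755

/-!
# Field automorphisms of `PSL_n(F)`, part 8 (helper7)

The standard graph-field automorphism `ψ = φ_σ ι`, the classification of Hermitian matrices over
a finite field, and conjugacy in the coset `Inndiag · ψ`.
-/

set_option autoImplicit false
set_option linter.unusedSectionVars false
set_option linter.unusedVariables false

namespace Cfsg.Agent.Helper7.FieldPSL

open Matrix Cfsg.Agent.Helper7.GraphPSL Cfsg.Agent.Helper7.AutPSL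

variable {F : Type*} [Field F] {n : ℕ}

/-- the standard graph-field automorphism -/
noncomputable def psiGF (σ : F ≃+* F) : MulAut (Matrix.ProjectiveSpecialLinearGroup (Fin n) F) :=
  fieldPSL σ * iotaT

/-- `g ↦ σ(g)⁻ᵀ` -/
def starGL (σ : F ≃+* F) : GL (Fin n) F →* GL (Fin n) F := (sGL σ).comp invTGL

/-- `g ↦ σ(g)ᵀ`, the conjugate transpose -/
def ctGL (σ : F ≃+* F) (g : GL (Fin n) F) : GL (Fin n) F := sGL σ (gT g)

theorem ctGL_coe (σ : F ≃+* F) (g : GL (Fin n) F) :
    ((ctGL σ g : GL (Fin n) F) : Matrix (Fin n) (Fin n) F)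
      = ((g : Matrix (Fin n) (Fin n) F).map σ)ᵀ := by
  unfold ctGL
  rw [sGL_coe, gT_coe, Matrix.transpose_map]

theorem starGL_eq_inv (σ : F ≃+* F) (g : GL (Fin n) F) : starGL σ g = (ctGL σ g)⁻¹ := by
  show sGL σ (invTGL g) = (sGL σ (gT g))⁻¹
  rw [invTGL_eq_inv_gT, map_inv]

theorem psiGF_mul_cGL (σ : F ≃+* F) (g : GL (Fin n) F) :
    (psiGF σ : MulAut (Matrix.ProjectiveSpecialLinearGroup (Fin n) F)) * cGL g
      = cGL (starGL σ g) * psiGF σ := by
  unfold psiGF
  rw [mul_assoc, iotaT_mul_cGL, ← mul_assoc, fieldPSL_mul_cGL', mul_assoc]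
  rfl

theorem psiGF_mul_self (σ : F ≃+* F) :
    (psiGF σ : MulAut (Matrix.ProjectiveSpecialLinearGroup (Fin n) F)) * psiGF σ
      = fieldPSL (σ * σ) := by
  unfold psiGF
  rw [mul_assoc, ← mul_assoc iotaT, iotaT_fieldPSL, mul_assoc, iotaT_mul_self, mul_one,
    ← fieldHom_apply, ← fieldHom_apply, ← map_mul]

theorem cGL_mul_psiGF_sq (σ : F ≃+* F) (g : GL (Fin n) F) :
    (cGL g * psiGF σ : MulAut (Matrix.ProjectiveSpecialLinearGroup (Fin n) F)) ^ 2
      = cGL (g * starGL σ g) * fieldPSL (σ * σ) := by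
  rw [pow_two, map_mul, ← psiGF_mul_self]
  calc cGL g * psiGF σ * (cGL g * psiGF σ)
      = cGL g * (psiGF σ * cGL g) * psiGF σ := by group
    _ = cGL g * (cGL (starGL σ g) * psiGF σ) * psiGF σ := by rw [psiGF_mul_cGL]
    _ = _ := by group

/-- conjugating `ψ` by an inner-diagonal automorphism -/
theorem cGL_conj_psiGF (σ : F ≃+* F) (B : GL (Fin n) F) :
    (cGL B * psiGF σ * (cGL B)⁻¹ : MulAut (Matrix.ProjectiveSpecialLinearGroup (Fin n) F))
      = cGL (B * ctGL σ B) * psiGF σ := by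
  have key : (psiGF σ : MulAut (Matrix.ProjectiveSpecialLinearGroup (Fin n) F)) * (cGL B)⁻¹
      = (cGL (starGL σ B))⁻¹ * psiGF σ := by
    rw [eq_inv_mul_iff_mul_eq, ← mul_assoc, ← psiGF_mul_cGL, mul_assoc, mul_inv_cancel, mul_one]
  rw [mul_assoc, key, starGL_eq_inv, map_inv, inv_inv, map_mul, mul_assoc]

/-- **classification of Hermitian matrices over a finite field** -/
theorem exists_herm_factor [Finite F] (σ : F ≃+* F) (hσ : σ ≠ 1) (hσ2 : ∀ a, σ (σ a) = a)
    (h hi : Matrix (Fin n) (Fin n) F) (hh : (h.map σ)ᵀ = h) (h1 : h * hi = 1) :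
    ∃ P : Matrix (Fin n) (Fin n) F, IsUnit P ∧ P * (P.map σ)ᵀ = h := by
  classical
  have h2 : hi * h = 1 := mul_eq_one_comm.1 h1
  -- `hi` is Hermitian
  have hhi : (hi.map σ)ᵀ = hi := by
    have e1 : ((h * hi).map σ)ᵀ = 1 := by
      rw [h1]
      ext a b
      simp only [Matrix.transpose_apply, Matrix.map_apply, Matrix.one_apply]
      by_cases hab : a = b
      · subst hab; simp
      · rw [if_neg hab, if_neg (Ne.symm hab), map_zero]
    have e2 : ((h * hi).map σ)ᵀ = (hi.map σ)ᵀ * (h.map σ)ᵀ := by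
      rw [← Matrix.transpose_mul]
      congr 1
      ext a b
      simp only [Matrix.map_apply, Matrix.mul_apply, map_sum, map_mul]
    rw [e2, hh] at e1
    calc (hi.map σ)ᵀ = (hi.map σ)ᵀ * (h * hi) := by rw [h1, Matrix.mul_one]
      _ = ((hi.map σ)ᵀ * h) * hi := by rw [Matrix.mul_assoc]
      _ = hi := by rw [e1, Matrix.one_mul]
  have hentry : ∀ a b, σ (hi a b) = hi b a := by
    intro a b
    have := congrFun (congrFun hhi b) a
    simpa only [Matrix.transpose_apply, Matrix.map_apply] using this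
  -- the sesquilinear form
  let B : (Fin n → F) →ₛₗ[(σ : F →+* F)] (Fin n → F) →ₗ[F] F :=
    LinearMap.mk₂'ₛₗ (σ : F →+* F) (RingHom.id F) (fun u v => vmap σ u ⬝ᵥ (hi *ᵥ v))
      (by intro u u' v; rw [vmap_add, add_dotProduct])
      (by intro c u v; rw [vmap_smul, smul_dotProduct]; rfl)
      (by intro u v v'; rw [Matrix.mulVec_add, dotProduct_add])
      (by intro c u v; rw [Matrix.mulVec_smul, dotProduct_smul]; rfl)
  have hBapp : ∀ u v, B u v = vmap σ u ⬝ᵥ (hi *ᵥ v) := fun u v => rfl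
  have hS : B.IsSymm := by
    refine ⟨fun u v => ?_⟩
    rw [hBapp, hBapp]
    simp only [dotProduct, Matrix.mulVec, vmap, RingHom.coe_coe, map_sum, map_mul, hσ2,
      Finset.mul_sum, hentry]
    rw [Finset.sum_comm]
    apply Finset.sum_congr rfl
    intro a _
    apply Finset.sum_congr rfl
    intro b _
    ring
  have hsep : B.SeparatingRight := by
    intro v hv
    have e1 : hi *ᵥ v = 0 := by
      funext a
      have := hv (Pi.single a 1)
      rw [hBapp] at this
      have e2 : vmap σ (Pi.single a (1 : F)) = Pi.single a 1 := by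
        funext k
        unfold vmap
        by_cases hk : k = a
        · subst hk; simp
        · simp [hk]
      rw [e2, single_one_dotProduct] at this
      exact this
    have : v = h *ᵥ (hi *ᵥ v) := by
      rw [Matrix.mulVec_mulVec, h1, Matrix.one_mulVec]
    rw [this, e1, Matrix.mulVec_zero]
  have hσ' : (σ : F →+* F) ≠ RingHom.id F := by
    intro h0
    apply hσ
    ext a
    exact RingHom.congr_fun h0 a
  obtain ⟨b, hb⟩ := Cfsg.Agent.S0755.aux (σ : F →+* F) hσ' hσ2 n B hS hsep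
    (Module.finrank_fin_fun F)
  let P : Matrix (Fin n) (Fin n) F := Matrix.of fun i k => b k i
  have hP : (P.map σ)ᵀ * hi * P = 1 := by
    ext k l
    have := hb k l
    rw [hBapp] at this
    rw [Matrix.one_apply, ← this, Matrix.mul_assoc, Matrix.mul_apply]
    simp only [dotProduct, vmap]
    apply Finset.sum_congr rfl
    intro a _
    congr 1
  have hP' : P * ((P.map σ)ᵀ * hi) = 1 := mul_eq_one_comm.1 hP
  refine ⟨P, ⟨⟨P, (P.map σ)ᵀ * hi, hP', hP⟩, rfl⟩, ?_⟩
  calc P * (P.map σ)ᵀ = P * (P.map σ)ᵀ * (hi * h) := by rw [h2, Matrix.mul_one]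
    _ = (P * ((P.map σ)ᵀ * hi)) * h := by simp only [Matrix.mul_assoc]
    _ = h := by rw [hP', Matrix.one_mul]

end Cfsg.Agent.Helper7.FieldPSL
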