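import Cfsg.Agent.Helper7.GraphPSU12
import Cfsg.Agent.Helper2.SU2

/-!
# Graph automorphisms of `PSU_n`, part 13 (helper7)

Existence of the descent data; symmetric-or-skew for related matrices; the final transfer
statements used by S2706, S2707, S2708, S2710.
-/

set_option autoImplicit false
set_option linter.unusedSectionVars false

namespace Cfsg.Agent.Helper7.GraphPSU

open Matrix
open Cfsg.Agent.Helper7.GraphPSL (gT gT_coe gT_mul gT_inv gT_gT graphAut)

/-- existence of the descent data for a field with `q ^ 2` elements and a field with `q`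
elements -/
theorem exists_UDesc {F : Type*} [Field F] [Fintype F] {q : ℕ} (hF : Fintype.card F = q ^ 2)
    {F₀ : Type*} [Field F₀] [Fintype F₀] (hF₀ : Fintype.card F₀ = q) :
    Nonempty (UDesc F q F₀) := by
  classical
  obtain ⟨ι, hι⟩ := Cfsg.Agent.Helper2.SU2.exists_embedding hF hF₀
  obtain ⟨t, ht⟩ := Cfsg.Agent.Helper2.SU2.exists_not_mem_K hF
  set σ : F →+* F := Cfsg.Agent.Helper2.Herm.cj hF with hσ
  have hσ2 : ∀ x, σ (σ x) = x := Cfsg.Agent.Helper2.Herm.cj_cj hF
  let bar : F ≃+* F := RingEquiv.ofRingHom σ σ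
    (by ext x; exact hσ2 x) (by ext x; exact hσ2 x)
  have hbar : ∀ x, bar x = x ^ q := fun x => rfl
  -- the fixed points are exactly the image of `ι`
  have hfix : ∀ y : F, bar y = y → ∃ x, ι x = y := by
    intro y hy
    have hsub : Set.range ι ⊆ ((Cfsg.Agent.Helper2.Herm.K hF : AddSubgroup F) : Set F) := by
      rintro _ ⟨x, rfl⟩
      exact hι x
    have hcardK : Nat.card ↥(Cfsg.Agent.Helper2.Herm.K hF) = q := by
      rw [Nat.card_eq_fintype_card]
      convert Cfsg.Agent.Helper2.Herm.card_K hF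
    have hcardR : (Set.range ι).ncard = q := by
      rw [Set.ncard_range_of_injective ι.injective, Nat.card_eq_fintype_card, hF₀]
    have heq := Set.eq_of_subset_of_ncard_le hsub (by
      rw [hcardR, ← Nat.card_coe_set_eq]
      exact hcardK.le) (Set.toFinite _)
    have : y ∈ ((Cfsg.Agent.Helper2.Herm.K hF : AddSubgroup F) : Set F) := hy
    rw [← heq] at this
    exact this
  exact ⟨{ bar := bar, bar_apply := hbar, bar_bar := hσ2, bar_ne := ⟨t, ht⟩, j := ι,
           bar_j := hι, exists_j := hfix }⟩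

variable {F : Type*} [Field F] {n q : ℕ} {F₀ : Type*} [Field F₀] (E : UDesc F q F₀)

/-- a matrix related to a graph automorphism is symmetric or skew -/
theorem rel_symm_or_skew [NeZero n] {γ : MulAut (Cfsg.PSU n F q)} {A₀ : GL (Fin n) F₀}
    (hr : Rel E γ A₀) :
    (A₀ : Matrix (Fin n) (Fin n) F₀)ᵀ = (A₀ : Matrix (Fin n) (Fin n) F₀) ∨
      (A₀ : Matrix (Fin n) (Fin n) F₀)ᵀ = -(A₀ : Matrix (Fin n) (Fin n) F₀) := by
  set D := E.toUData with hD
  obtain ⟨a, ε, -, -, hA⟩ := hr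
  have h1 : gT (gT a * barGL D a) = barGL D (gT a * barGL D a) := by
    rw [gT_mul, gT_gT, map_mul, barGL_gT, barGL_barGL]
  rw [hA, gT_scalarGL_mul, barGL_scalarGL_mul, barGL_jGL, ← jGL_gT] at h1
  have h2 : jGL E (gT A₀)
      = scalarGL (ε⁻¹ * Units.map (E.bar : F →* F) ε) * jGL E A₀ := by
    rw [scalarGL_mul, scalarGL_inv]
    calc jGL E (gT A₀) = (scalarGL ε)⁻¹ * (scalarGL ε * jGL E (gT A₀)) := by group
      _ = (scalarGL ε)⁻¹ * (scalarGL (Units.map (E.bar : F →* F) ε) * jGL E A₀) := by rw [h1]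
      _ = _ := by group
  obtain ⟨c, hc⟩ := real_scalar E _ _ _ h2
  have h3 : A₀ = scalarGL (c * c) * A₀ := by
    have := congrArg gT hc
    rw [gT_gT, gT_mul, gT_scalarGL, hc, ← scalarGL_comm, ← mul_assoc, ← scalarGL_mul] at this
    exact this
  have h4 : (scalarGL (c * c) : GL (Fin n) F₀) = scalarGL 1 := by
    rw [scalarGL_one]
    calc scalarGL (c * c) = (scalarGL (c * c) * A₀) * A₀⁻¹ := by group
      _ = A₀ * A₀⁻¹ := by rw [← h3]
      _ = 1 := mul_inv_cancel A₀
  have h5 : (c : F₀) * c = 1 := by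
    have := congrArg Units.val (scalarGL_injective h4)
    rwa [Units.val_mul, Units.val_one] at this
  have h6 : (c : F₀) = 1 ∨ (c : F₀) = -1 := by
    have : ((c : F₀) - 1) * ((c : F₀) + 1) = 0 := by linear_combination h5
    rcases mul_eq_zero.mp this with h | h
    · left; linear_combination h
    · right; linear_combination h
  have h7 := congrArg Units.val hc
  rw [gT_coe, Units.val_mul, scalarGL_coe, Matrix.smul_mul, Matrix.one_mul] at h7
  rcases h6 with h | h
  · left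
    rw [h7, h, one_smul]
  · right
    rw [h7, h, neg_smul, one_smul]

/-- a related matrix gives an involutory graph automorphism of `PSL_n(F₀)` -/
theorem rel_graphAut [NeZero n] (hn : 3 ≤ n) {γ : MulAut (Cfsg.PSU n F q)} {A₀ : GL (Fin n) F₀}
    (hr : Rel E γ A₀) :
    Cfsg.IsGraphAutClassPSL (graphAut A₀) ∧ orderOf (graphAut A₀) = 2 :=
  ⟨(Cfsg.Agent.Helper7.GraphPSL.isGraphAutClassPSL_iff hn _).2 ⟨A₀, rfl⟩,
    (Cfsg.Agent.Helper7.GraphPSL.orderOf_graphAut_eq_two_iff hn A₀).2 (rel_symm_or_skew E hr)⟩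

/-- **T2**: the centralizers of related graph automorphisms are isomorphic -/
theorem centralizer_equiv_of_rel [Finite F] (hn : 3 ≤ n) {γ : MulAut (Cfsg.PSU n F q)}
    {A₀ : GL (Fin n) F₀} (hr : Rel E γ A₀) :
    Nonempty (↥(Cfsg.inndiagPSU n F q ⊓ Subgroup.centralizer {γ})
      ≃* ↥(Cfsg.inndiagPSL n F₀ ⊓ Subgroup.centralizer {graphAut A₀})) := by
  obtain ⟨e1⟩ := centralizer_PSU_equiv E hn hr
  obtain ⟨e2⟩ := centralizer_PSL_equiv A₀
  exact ⟨e1.trans e2.symm⟩

/-- every involutory graph automorphism of `PSL_n(F₀)` is related to one of `PSU_n(q)` -/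
theorem exists_rel_of_graphClassPSL [Finite F] (hn : 3 ≤ n)
    (γ' : MulAut (Matrix.ProjectiveSpecialLinearGroup (Fin n) F₀))
    (hγ' : Cfsg.IsGraphAutClassPSL γ') (h2 : orderOf γ' = 2) :
    ∃ (γ : MulAut (Cfsg.PSU n F q)) (A₀ : GL (Fin n) F₀), γ' = graphAut A₀ ∧
      Cfsg.IsGraphAutClassPSU γ ∧ orderOf γ = 2 ∧ Rel E γ A₀ := by
  obtain ⟨A₀, rfl⟩ := (Cfsg.Agent.Helper7.GraphPSL.isGraphAutClassPSL_iff hn _).1 hγ'
  have hs := (Cfsg.Agent.Helper7.GraphPSL.orderOf_graphAut_eq_two_iff hn A₀).1 h2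
  obtain ⟨γ, h1, h2, h3⟩ := exists_rel_of_symm_or_skew E hn A₀ hs
  exact ⟨γ, A₀, rfl, h1, h2, h3⟩

end Cfsg.Agent.Helper7.GraphPSU
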