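import Cfsg.Agent.Helper7.FieldPSL9
import Cfsg.Agent.Helper7.GraphPSU13

/-!
# Field automorphisms of `PSL_n(F)`, part 10 (helper7)

Involutory graph-field automorphisms: the involution of `F` is the `q₀`-th power map, the number
of fixed units, and `Aut`-conjugates of the standard graph-field involution are `Inndiag`-conjugate.
-/

set_option autoImplicit false
set_option linter.unusedSectionVars false
set_option linter.unusedVariables false

namespace Cfsg.Agent.Helper7.FieldPSL

open Matrix Cfsg.Agent.Helper7.GraphPSL Cfsg.Agent.Helper7.AutPSL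
open Cfsg.Agent.Helper7.GraphPSU (UData)

variable {F : Type*} [Field F] {n : ℕ}

/-- the involution `x ↦ x ^ q` of a field with `q ^ 2` elements -/
theorem exists_UData [Fintype F] {q : ℕ} (hF : Fintype.card F = q ^ 2) : Nonempty (UData F q) := by
  classical
  obtain ⟨t, ht⟩ := Cfsg.Agent.Helper2.SU2.exists_not_mem_K hF
  set σ : F →+* F := Cfsg.Agent.Helper2.Herm.cj hF with hσ
  have hσ2 : ∀ x, σ (σ x) = x := Cfsg.Agent.Helper2.Herm.cj_cj hF
  let bar : F ≃+* F := RingEquiv.ofRingHom σ σ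
    (by ext x; exact hσ2 x) (by ext x; exact hσ2 x)
  have hbar : ∀ x, bar x = x ^ q := fun x => rfl
  exact ⟨{ bar := bar, bar_apply := hbar, bar_bar := hσ2, bar_ne := ⟨t, ht⟩ }⟩

/-- an involution of the field with `p ^ f` elements: `f` is even and the involution is the
`p ^ (f / 2)`-th power map -/
theorem exists_UData_of_invol [Fintype F] {p f : ℕ} [Fact p.Prime] (hf : 1 ≤ f)
    (hF : Fintype.card F = p ^ f) (σ : F ≃+* F) (hσ : σ ≠ 1) (hσ2 : ∀ a, σ (σ a) = a) :
    Even f ∧ ∃ D : UData F (p ^ (f / 2)), D.bar = σ := by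
  have hord := orderOf_eq_two_of_invol σ hσ hσ2
  have h2 : 2 ∣ f := by
    rw [← hord]
    exact orderOf_dvd hf hF σ
  refine ⟨even_iff_two_dvd.2 h2, ?_⟩
  have hF' : Fintype.card F = (p ^ (f / 2)) ^ 2 := by
    rw [← pow_mul, Nat.div_mul_cancel h2, hF]
  obtain ⟨D⟩ := exists_UData hF'
  refine ⟨D, ?_⟩
  exact Cfsg.Agent.Helper7.GraphPSU.invol_unique D.bar σ D.bar_bar hσ2
    (Cfsg.Agent.Helper7.GraphPSU.bar_ne_refl D) hσ

/-- the number of units fixed by `σ` -/
theorem card_fixU_of_FDesc {F₀ : Type*} [Field F₀] [Fintype F₀] (E : FDesc F F₀) :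
    Nat.card (fixU E.σ) = Fintype.card F₀ - 1 := by
  classical
  have hinj : Function.Injective (Units.map (E.j : F₀ →* F)) :=
    Units.map_injective E.j.injective
  have hr : (Units.map (E.j : F₀ →* F)).range = fixU E.σ := by
    ext u
    rw [mem_fixU]
    constructor
    · rintro ⟨d, rfl⟩
      exact E.fix_j _
    · intro hu
      obtain ⟨x, hx⟩ := E.exists_j _ hu
      have hx0 : x ≠ 0 := by
        intro h0
        rw [h0, map_zero] at hx
        exact u.ne_zero hx.symm
      exact ⟨Units.mk0 x hx0, Units.ext hx⟩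
  rw [← hr, ← Nat.card_congr (MonoidHom.ofInjective hinj).toEquiv, Nat.card_eq_fintype_card,
    Fintype.card_units]

theorem card_fixU [Fintype F] {p f : ℕ} [Fact p.Prime] (hF : Fintype.card F = p ^ f)
    (σ : F ≃+* F) : Nat.card (fixU σ) = p ^ (f / orderOf σ) - 1 := by
  classical
  -- a field with `p ^ (f / orderOf σ)` elements
  have hpos : 0 < p ^ (f / orderOf σ) := pow_pos (Fact.out : p.Prime).pos _
  by_cases h0 : f / orderOf σ = 0
  · -- degenerate: then the count is `0`, impossible for a group unless ... handle directly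
    exfalso
    have hr : 0 < orderOf σ := orderOf_pos_ringAut σ
    have hf0 : f ≠ 0 → False := by
      intro hf
      have hdvd : orderOf σ ∣ f := orderOf_dvd (Nat.pos_of_ne_zero hf) hF σ
      obtain ⟨k, hk⟩ := hdvd
      rw [hk, Nat.mul_div_cancel_left _ hr] at h0
      rw [h0, mul_zero] at hk
      exact hf hk
    by_cases hf : f = 0
    · rw [hf, pow_zero] at hF
      have : Fintype.card F ≠ 1 := Fintype.one_lt_card.ne'
      exact this hF
    · exact hf0 hf
  · let F₀ := GaloisField p (f / orderOf σ)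
    have : Fintype F₀ := Fintype.ofFinite _
    have hF₀ : Fintype.card F₀ = p ^ (f / orderOf σ) := by
      rw [← Nat.card_eq_fintype_card]
      exact GaloisField.card p _ h0
    obtain ⟨E, hE⟩ := exists_FDesc (F₀ := F₀) hF σ hF₀
    have h1 := card_fixU_of_FDesc E
    rw [hE, hF₀] at h1
    exact h1

/-- `Aut`-conjugates of the standard graph-field automorphism are `Inndiag`-conjugate to it -/
theorem isConjUnder_psiGF [Fintype F] {p f : ℕ} [Fact p.Prime] (hF : Fintype.card F = p ^ f)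
    (hf : 1 ≤ f) (hn : 3 ≤ n) (σ : F ≃+* F)
    (a : MulAut (Matrix.ProjectiveSpecialLinearGroup (Fin n) F)) :
    Cfsg.IsConjUnder (Cfsg.inndiagPSL n F) (psiGF σ) (a * psiGF σ * a⁻¹) := by
  have hchar : CharP F p := charP_of_card_eq_prime_pow hF
  have hcomm1 : ∀ τ : F ≃+* F, (fieldPSL τ : MulAut (Matrix.ProjectiveSpecialLinearGroup (Fin n) F))
      * psiGF σ = psiGF σ * fieldPSL τ := by
    intro τ
    unfold psiGF
    have hab : (fieldPSL τ : MulAut (Matrix.ProjectiveSpecialLinearGroup (Fin n) F)) * fieldPSL σ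
        = fieldPSL σ * fieldPSL τ := by
      rw [← fieldHom_apply, ← fieldHom_apply, ← map_mul, ← map_mul]
      congr 1
      obtain ⟨e⟩ := exists_ringAut_equiv (F := F) hF
      apply e.injective
      rw [map_mul, map_mul, mul_comm]
    rw [← mul_assoc, hab, mul_assoc, mul_assoc, iotaT_fieldPSL]
  have hcomm2 : (iotaT : MulAut (Matrix.ProjectiveSpecialLinearGroup (Fin n) F)) * psiGF σ
      = psiGF σ * iotaT := by
    unfold psiGF
    rw [← mul_assoc, iotaT_fieldPSL]
  obtain ⟨g, τ, ha | ha⟩ := aut_decomp p hn a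
  · refine ⟨cGL g, by rw [inndiagPSL_eq_range]; exact ⟨g, rfl⟩, ?_⟩
    rw [ha]
    calc cGL g * fieldPSL τ * psiGF σ * (cGL g * fieldPSL τ)⁻¹
        = cGL g * (fieldPSL τ * psiGF σ) * (fieldPSL τ)⁻¹ * (cGL g)⁻¹ := by group
      _ = cGL g * (psiGF σ * fieldPSL τ) * (fieldPSL τ)⁻¹ * (cGL g)⁻¹ := by rw [hcomm1]
      _ = _ := by group
  · refine ⟨cGL g, by rw [inndiagPSL_eq_range]; exact ⟨g, rfl⟩, ?_⟩
    rw [ha]
    calc cGL g * fieldPSL τ * iotaT * psiGF σ * (cGL g * fieldPSL τ * iotaT)⁻¹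
        = cGL g * fieldPSL τ * (iotaT * psiGF σ) * iotaT⁻¹ * (fieldPSL τ)⁻¹ * (cGL g)⁻¹ := by
          group
      _ = cGL g * (fieldPSL τ * psiGF σ) * (fieldPSL τ)⁻¹ * (cGL g)⁻¹ := by
          rw [hcomm2]; group
      _ = cGL g * (psiGF σ * fieldPSL τ) * (fieldPSL τ)⁻¹ * (cGL g)⁻¹ := by rw [hcomm1]
      _ = _ := by group

end Cfsg.Agent.Helper7.FieldPSL
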