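import Cfsg.Agent.Helper7.AutPSL12
import Cfsg.Agent.Helper11.PSL2AutI

/-!
# Automorphisms of `PSL_n(F)`, part 13 (helper7)

The case `n = 2` (from helper11's `PSL2Aut` library) and the final decomposition theorem for
all `n ≥ 2`.
-/

set_option autoImplicit false
set_option linter.unusedSectionVars false
set_option linter.unusedVariables false

namespace Cfsg.Agent.Helper7.AutPSL

open Matrix Cfsg.Agent.Helper2.RootSLn Cfsg.Agent.Helper7.GraphPSL
open Cfsg.Agent.Helper11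

variable {F : Type*} [Field F]

theorem uS_eq_xs (x : F) : PSL2Aut.uS x = xs (0 : Fin 2) 1 (by decide) x := by
  apply PSL2Aut.sl2_ext <;> simp [PSL2Aut.uS_coe, xs_coe]

theorem vS_eq_xs (y : F) : PSL2Aut.vS y = xs (1 : Fin 2) 0 (by decide) y := by
  apply PSL2Aut.sl2_ext <;> simp [PSL2Aut.vS_coe, xs_coe]

theorem uL_eq_xb (x : F) : PSL2Aut.uL x = xb (0 : Fin 2) 1 (by decide) x := by
  unfold PSL2Aut.uL xb
  rw [uS_eq_xs]
  rfl

theorem vL_eq_xb (y : F) : PSL2Aut.vL y = xb (1 : Fin 2) 0 (by decide) y := by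
  unfold PSL2Aut.vL xb
  rw [vS_eq_xs]
  rfl

/-- **the automorphisms of `PSL_2(F)`** -/
theorem aut_decomp_two [Fintype F] {p f : ℕ} [Fact p.Prime] (hf : 1 ≤ f)
    (hF : Fintype.card F = p ^ f) (h4 : 4 ≤ Fintype.card F)
    (α : MulAut (Matrix.ProjectiveSpecialLinearGroup (Fin 2) F)) :
    ∃ (g : GL (Fin 2) F) (σ : F ≃+* F), α = cGL g * fieldPSL σ := by
  have hchar : CharP F p := charP_of_card_eq_prime_pow hF
  let _ : Algebra (ZMod p) F := ZMod.algebra F p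
  have hK : ∀ (σ : F ≃+* F) (k : ZMod p), σ (algebraMap (ZMod p) F k) = algebraMap (ZMod p) F k := by
    intro σ k
    exact RingHom.congr_fun
      (Subsingleton.elim ((σ : F →+* F).comp (algebraMap (ZMod p) F)) (algebraMap (ZMod p) F)) k
  have hcardU : Nat.card Fˣ = Fintype.card F - 1 := by
    rw [Nat.card_units, Nat.card_eq_fintype_card]
  obtain ⟨a₀, ha₀⟩ : ∃ a₀ : Fˣ, a₀ ≠ 1 := by
    have : Nontrivial Fˣ := by
      rw [← Finite.one_lt_card_iff_nontrivial, hcardU]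
      omega
    exact exists_ne 1
  obtain ⟨x, hx⟩ := PSL2Aut.exists_norm hf hF α
  obtain ⟨c, γ, hcγ⟩ := PSL2Aut.decomp (K := ZMod p) hK a₀ ha₀ _ hx
  obtain ⟨s, rfl⟩ := pr_surjective x
  set d : Fin 2 → Fˣ := ![c, 1] with hd
  refine ⟨(Matrix.SpecialLinearGroup.toGL s)⁻¹ * dgl d, (γ : F ≃+* F), ?_⟩
  have h1 : α = (MulAut.conj (pr s))⁻¹ * (PSL2Aut.diagAut c * PSL2Aut.fieldAut γ) := by
    rw [← hcγ, ← mul_assoc, inv_mul_cancel, one_mul]
  rw [h1, map_mul, map_inv, conj_eq_cGL, mul_assoc]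
  congr 1
  apply aut_ext_xb (le_refl 2)
  intro i j hij a
  rw [MulAut.mul_apply, MulAut.mul_apply, fieldPSL_xb, cGL_dgl_xb]
  fin_cases i <;> fin_cases j
  · exact absurd rfl hij
  · show (PSL2Aut.diagAut c) ((PSL2Aut.fieldAut γ) (xb (0 : Fin 2) 1 hij a)) = _
    rw [← uL_eq_xb, PSL2Aut.fieldAut_uL, PSL2Aut.diagAut_uL, uL_eq_xb]
    congr 1
    simp [hd]
  · show (PSL2Aut.diagAut c) ((PSL2Aut.fieldAut γ) (xb (1 : Fin 2) 0 hij a)) = _
    rw [← vL_eq_xb, PSL2Aut.fieldAut_vL, PSL2Aut.diagAut_vL, vL_eq_xb]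
    congr 1
    simp [hd]
    ring
  · exact absurd rfl hij

/-- **the automorphisms of `PSL_n(F)`**, all `n ≥ 2` -/
theorem aut_decomp_all [Fintype F] {p f : ℕ} [Fact p.Prime] (hF : Fintype.card F = p ^ f)
    (hf : 1 ≤ f) {n : ℕ} (hn : 2 ≤ n) (hs : n = 2 → 4 ≤ Fintype.card F)
    (α : MulAut (Matrix.ProjectiveSpecialLinearGroup (Fin n) F)) :
    ∃ (g : GL (Fin n) F) (σ : F ≃+* F),
      α = cGL g * fieldPSL σ ∨ (3 ≤ n ∧ α = cGL g * fieldPSL σ * iotaT) := by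
  have hchar : CharP F p := charP_of_card_eq_prime_pow hF
  rcases Nat.lt_or_ge n 3 with h | h
  · have h2 : n = 2 := by omega
    subst h2
    obtain ⟨g, σ, hg⟩ := aut_decomp_two hf hF (hs rfl) α
    exact ⟨g, σ, Or.inl hg⟩
  · obtain ⟨g, σ, hg | hg⟩ := aut_decomp p h α
    · exact ⟨g, σ, Or.inl hg⟩
    · exact ⟨g, σ, Or.inr ⟨h, hg⟩⟩

end Cfsg.Agent.Helper7.AutPSL
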