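import Cfsg.Agent.Helper7.AutPSL17

/-!
# Automorphisms of `PSL_n(F)`, part 18 (helper7)

The order of `Aut(PSL_n(F))`.
-/

set_option autoImplicit false
set_option linter.unusedSectionVars false
set_option linter.unusedVariables false

namespace Cfsg.Agent.Helper7.AutPSL

open Matrix Cfsg.Agent.Helper2.RootSLn Cfsg.Agent.Helper7.GraphPSL

variable {n : ℕ} {F : Type*} [Field F]

/-- a counting lemma: `G = N · θ(H)` with `θ(H) ∩ N = 1` (in the strong sense) -/
theorem card_eq_of_decomp {G H : Type*} [Group G] [Group H] (N : Subgroup G) (θ : H →* G)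
    (h1 : ∀ x, θ x ∈ N → x = 1) (h2 : ∀ α : G, ∃ a ∈ N, ∃ x, α = a * θ x) :
    Nat.card G = Nat.card N * Nat.card H := by
  rw [← Nat.card_prod]
  symm
  apply Nat.card_congr
  refine Equiv.ofBijective (fun y : N × H => (y.1 : G) * θ y.2) ⟨?_, ?_⟩
  · rintro ⟨a, x⟩ ⟨b, y⟩ h
    simp only at h
    have h3 : θ (x * y⁻¹) ∈ N := by
      have : θ (x * y⁻¹) = (a : G)⁻¹ * b := by
        rw [map_mul, map_inv, mul_inv_eq_iff_eq_mul, mul_assoc, eq_inv_mul_iff_mul_eq, h]
      rw [this]
      exact N.mul_mem (N.inv_mem a.2) b.2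
    have h4 := h1 _ h3
    have hxy : x = y := by rwa [mul_inv_eq_one] at h4
    subst hxy
    have : (a : G) = b := mul_right_cancel h
    exact Prod.ext (Subtype.ext this) rfl
  · intro α
    obtain ⟨a, ha, x, rfl⟩ := h2 α
    exact ⟨(⟨a, ha⟩, x), rfl⟩

/-- the inner-diagonal group is `PGL_n(F)` -/
theorem card_range_cGL :
    Nat.card (cGL : GL (Fin n) F →* MulAut (Matrix.ProjectiveSpecialLinearGroup (Fin n) F)).range
      = Nat.card (Matrix.ProjGenLinGroup (Fin n) F) := by
  have e := QuotientGroup.quotientKerEquivRange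
    (cGL : GL (Fin n) F →* MulAut (Matrix.ProjectiveSpecialLinearGroup (Fin n) F))
  rw [← Nat.card_congr e.toEquiv]
  have hk : (cGL : GL (Fin n) F →* MulAut (Matrix.ProjectiveSpecialLinearGroup (Fin n) F)).ker
      = Subgroup.center (GL (Fin n) F) := by
    rw [ker_cGL, Matrix.GeneralLinearGroup.center_eq_range_scalar]
    ext g
    rw [Cfsg.Geo.mem_scalars_iff, MonoidHom.mem_range]
    constructor
    · rintro ⟨c, hc⟩
      refine ⟨c, Units.ext ?_⟩
      rw [hc]
      simp [Matrix.smul_one_eq_diagonal]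
    · rintro ⟨c, rfl⟩
      refine ⟨c, ?_⟩
      simp [Matrix.smul_one_eq_diagonal]
  unfold Matrix.ProjGenLinGroup
  rw [hk]

/-- the case `n = 2`: an inner-diagonal automorphism which is a field automorphism is trivial -/
theorem sigma_eq_one_of_eq_cGL_two {σ : F ≃+* F} {g : GL (Fin 2) F}
    (h : (fieldPSL σ : MulAut (Matrix.ProjectiveSpecialLinearGroup (Fin 2) F)) = cGL g) :
    σ = 1 := by
  have h01 : (0 : Fin 2) ≠ 1 := by decide
  have key : ∀ x : F, ∃ r : F,
      (1 + Matrix.single (0 : Fin 2) 1 (σ x)) * (g : Matrix (Fin 2) (Fin 2) F)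
      = r • ((g : Matrix (Fin 2) (Fin 2) F) * (1 + Matrix.single (0 : Fin 2) 1 x)) := by
    intro x
    have e1 : cGL g (xb 0 1 h01 x) = xb 0 1 h01 (σ x) := by rw [← h, fieldPSL_xb]
    have e2 : cGL g (xb 0 1 h01 x) = pr (conjSL g (xs 0 1 h01 x)) := rfl
    rw [e2] at e1
    obtain ⟨r, hr⟩ := (pr_eq_iff _ _).1 e1
    refine ⟨r, ?_⟩
    rw [xs_coe, conjSL_coe, xs_coe] at hr
    rw [hr, Matrix.smul_mul, Matrix.mul_assoc, ← Units.val_mul, inv_mul_cancel, Units.val_one,
      Matrix.mul_one]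
  set M : Matrix (Fin 2) (Fin 2) F := (g : Matrix (Fin 2) (Fin 2) F) with hM
  have hdet : M 0 0 * M 1 1 - M 0 1 * M 1 0 ≠ 0 := by
    rw [← Matrix.det_fin_two]
    have := (Matrix.isUnit_iff_isUnit_det M).1 ⟨g, rfl⟩
    exact this.ne_zero
  have entries : ∀ x : F, ∃ r : F, M 0 0 + σ x * M 1 0 = r * M 0 0 ∧
      M 0 1 + σ x * M 1 1 = r * (M 0 0 * x + M 0 1) ∧ M 1 0 = r * M 1 0 ∧
      M 1 1 = r * (M 1 0 * x + M 1 1) := by
    intro x
    obtain ⟨r, hr⟩ := key x
    refine ⟨r, ?_, ?_, ?_, ?_⟩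
    · have := congrFun (congrFun hr 0) 0
      simpa [Matrix.mul_apply, Fin.sum_univ_two, Matrix.add_apply, Matrix.one_apply,
        Matrix.single_apply] using this
    · have := congrFun (congrFun hr 0) 1
      simpa [Matrix.mul_apply, Fin.sum_univ_two, Matrix.add_apply, Matrix.one_apply,
        Matrix.single_apply, add_comm] using this
    · have := congrFun (congrFun hr 1) 0
      simpa [Matrix.mul_apply, Fin.sum_univ_two, Matrix.add_apply, Matrix.one_apply,
        Matrix.single_apply] using this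
    · have := congrFun (congrFun hr 1) 1
      simpa [Matrix.mul_apply, Fin.sum_univ_two, Matrix.add_apply, Matrix.one_apply,
        Matrix.single_apply, add_comm] using this
  obtain ⟨r1, e1, e2, e3, e4⟩ := entries 1
  rw [map_one, one_mul] at e1 e2
  rw [mul_one] at e2 e4
  have hc : M 1 0 = 0 := by
    by_contra hc
    have hr1 : r1 = 1 := by
      have : (r1 - 1) * M 1 0 = 0 := by linear_combination -e3
      rcases mul_eq_zero.1 this with h' | h'
      · linear_combination h'
      · exact absurd h' hc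
    rw [hr1, one_mul] at e1
    exact hc (by linear_combination e1)
  rw [hc, mul_zero, sub_zero] at hdet
  have ha : M 0 0 ≠ 0 := left_ne_zero_of_mul hdet
  have hd : M 1 1 ≠ 0 := right_ne_zero_of_mul hdet
  have hr1 : r1 = 1 := by
    rw [hc, add_zero] at e1
    have : (r1 - 1) * M 0 0 = 0 := by linear_combination -e1
    rcases mul_eq_zero.1 this with h' | h'
    · linear_combination h'
    · exact absurd h' ha
  have had : M 0 0 = M 1 1 := by
    rw [hr1, one_mul] at e2
    linear_combination -e2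
  ext x
  rw [RingAut.one_apply]
  obtain ⟨r, f1, f2, f3, f4⟩ := entries x
  rw [hc, mul_zero, add_zero] at f1
  have hr : r = 1 := by
    have : (r - 1) * M 0 0 = 0 := by linear_combination -f1
    rcases mul_eq_zero.1 this with h' | h'
    · linear_combination h'
    · exact absurd h' ha
  rw [hr, one_mul, had] at f2
  have : (σ x - x) * M 1 1 = 0 := by linear_combination f2
  rcases mul_eq_zero.1 this with h' | h'
  · linear_combination h'
  · exact absurd h' hd

theorem card_ringAut [Fintype F] {p f : ℕ} [Fact p.Prime] (hf : 1 ≤ f)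
    (hF : Fintype.card F = p ^ f) : Nat.card (F ≃+* F) = f := by
  obtain ⟨e⟩ := exists_ringAut_equiv (F := F) hF
  have : NeZero f := ⟨by omega⟩
  rw [Nat.card_congr e.toEquiv, Nat.card_eq_fintype_card, Fintype.card_multiplicative, ZMod.card]

/-- **the order of `Aut(PSL_n(F))`** -/
theorem card_aut_psl [Fintype F] {p f : ℕ} [Fact p.Prime] (hf : 1 ≤ f)
    (hF : Fintype.card F = p ^ f) (hn : 2 ≤ n) (h2 : n = 2 → 4 ≤ p ^ f) :
    Nat.card (MulAut (Matrix.ProjectiveSpecialLinearGroup (Fin n) F))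
      = (if n = 2 then 1 else 2) * f * Nat.card (Matrix.ProjGenLinGroup (Fin n) F) := by
  have hchar : CharP F p := charP_of_card_eq_prime_pow hF
  rcases Nat.lt_or_ge n 3 with h | h
  · have hn2 : n = 2 := by omega
    subst hn2
    rw [if_pos rfl, one_mul, ← card_range_cGL, ← card_ringAut hf hF, mul_comm]
    apply card_eq_of_decomp _ fieldHom
    · rintro σ ⟨g, hg⟩
      rw [fieldHom_apply] at hg
      exact sigma_eq_one_of_eq_cGL_two hg.symm
    · intro α
      obtain ⟨g, σ, hg⟩ := aut_decomp_two hf hF (by rw [hF]; exact h2 rfl) α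
      exact ⟨cGL g, ⟨g, rfl⟩, σ, hg⟩
  · rw [if_neg (by omega), ← card_range_cGL, ← card_ringAut hf hF, mul_comm]
    have hc : 2 * Nat.card (F ≃+* F)
        = Nat.card ((F ≃+* F) × Multiplicative (ZMod 2)) := by
      rw [Nat.card_prod, mul_comm]
      congr 1
      rw [Nat.card_eq_fintype_card, Fintype.card_multiplicative, ZMod.card]
    rw [hc]
    apply card_eq_of_decomp _ thetaHom
    · intro x hx
      exact thetaHom_mem_range_cGL p h x hx
    · intro α
      obtain ⟨g, σ, hα | hα⟩ := aut_decomp p h α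
      · refine ⟨cGL g, ⟨g, rfl⟩, (σ, 1), ?_⟩
        rw [thetaHom_apply, hα, map_one, mul_one]
      · refine ⟨cGL g, ⟨g, rfl⟩, (σ, Multiplicative.ofAdd (1 : ZMod 2)), ?_⟩
        rw [thetaHom_apply, hα, iotaHom_one, mul_assoc]

end Cfsg.Agent.Helper7.AutPSL
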