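import Mathlib
import Cfsg.Agent.Helper5.S0999Defs

/-!
# S0999, piece PERF: a non-cyclic simple group is perfect
-/

set_option autoImplicit false

namespace Cfsg.Agent.S0999P

open scoped commutatorElement

universe u

variable {G : Type u} [Group G] [Finite G]

/-- PERF: a non-cyclic simple group is perfect. -/
theorem perfect_of_simple [IsSimpleGroup G] (hG : ¬ IsCyclic G) : commutator G = ⊤ := by
  rcases IsSimpleGroup.eq_bot_or_eq_top_of_normal (commutator G) inferInstance with h | h
  · exfalso
    apply hG
    have hcomm : ∀ a b : G, a * b = b * a := by
      intro a b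
      have hmem : ⁅a, b⁆ ∈ commutator G :=
        Subgroup.commutator_mem_commutator (Subgroup.mem_top a) (Subgroup.mem_top b)
      rw [h, Subgroup.mem_bot] at hmem
      exact commutatorElement_eq_one_iff_mul_comm.mp hmem
    let _ : CommGroup G := { (inferInstance : Group G) with mul_comm := hcomm }
    exact IsSimpleGroup.isCyclic
  · exact h

end Cfsg.Agent.S0999P
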