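import Mathlib
import Cfsg.Prelude.Def_Characters
import Cfsg.Prelude.Def_Blocks
import Cfsg.Agent.Helper24.Abelian
import Cfsg.Agent.Helper24.Linear
import Cfsg.Agent.Helper8.D1Base
import Cfsg.Agent.Helper8.D1Conj
import Cfsg.Agent.Helper20.S4705BLKDefs
import Cfsg.Agent.Helper26.S4705CCH
import Cfsg.Agent.Helper23.ClassProduct

set_option autoImplicit false

/-!
# S4705, piece BLK, sub-piece BLKF2: a constituent `μ θ` of `χ|_C` determines the central
character of `χ`.
-/

namespace Cfsg.Agent.Helper7.S4705BLKF2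

open Cfsg Cfsg.Agent.Helper24 Cfsg.Agent.Helper8.D1
open scoped ComplexConjugate

universe u

variable {G : Type u} [Group G] [Finite G]

/-- a sum over a finite group is invariant under left translation -/
theorem sum_translate {X : Type*} [Group X] [Fintype X] (z : X) (f : X → ℂ) :
    ∑ c : X, f (z * c) = ∑ c : X, f c :=
  Fintype.sum_equiv (Equiv.mulLeft z) _ _ (fun _ => rfl)

end Cfsg.Agent.Helper7.S4705BLKF2

namespace Cfsg.Agent.S4705P

open Cfsg Cfsg.Agent.Helper24 Cfsg.Agent.Helper8.D1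
open scoped ComplexConjugate

universe u

variable {G : Type u} [Group G] [Finite G]

/-! ### BLKF2: a constituent `μ θ` of `χ|_C` determines the central character of `χ` -/
theorem blk_over_of_mult_ne_zero (p : ℕ) [Fact p.Prime] (P : Sylow p G)
    (hZreg : ∀ z ∈ Subgroup.center G, ¬ p ∣ orderOf z)
    (θ : IrrCharacter (Subgroup.centralizer ((P : Subgroup G) : Set G))) (hθ1 : irrDeg θ = 1)
    (μ : Subgroup.centralizer ((P : Subgroup G) : Set G) → ℂ) (hμ : IsPLin p μ)
    (χ : IrrCharacter G)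
    (hne : mult (Subgroup.centralizer ((P : Subgroup G) : Set G))
      (fun c => μ c * (θ : Subgroup.centralizer ((P : Subgroup G) : Set G) → ℂ) c) (χ : G → ℂ) ≠ 0) :
    ∀ z : Subgroup.centralizer ((P : Subgroup G) : Set G), (z : G) ∈ Subgroup.center G →
      (χ : G → ℂ) z = (θ : Subgroup.centralizer ((P : Subgroup G) : Set G) → ℂ) z * (χ : G → ℂ) 1 := by
  classical
  intro z hz
  have : Fintype (Subgroup.centralizer ((P : Subgroup G) : Set G)) := Fintype.ofFinite _
  -- `θ` is a homomorphism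
  have hθone : (θ : Subgroup.centralizer ((P : Subgroup G) : Set G) → ℂ) 1 = 1 :=
    (irrDeg_eq_one_iff θ).mp hθ1
  obtain ⟨φ, hφ⟩ := Cfsg.Agent.Helper23.exists_monoidHom_of_irr_one_eq_one θ hθone
  have hθz : ‖(θ : Subgroup.centralizer ((P : Subgroup G) : Set G) → ℂ) z‖ = 1 := by
    rw [hφ]; exact norm_monoidHom_eq_one φ z
  -- `μ z = 1`
  have hμz : μ z = 1 := by
    apply hμ.reg
    rw [Subgroup.orderOf_mk]
    have := hZreg _ hz
    simpa using this
  have hχ1 : (χ : G → ℂ) 1 ≠ 0 := by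
    rw [irrDeg_spec]
    exact_mod_cast (irrDeg_pos χ).ne'
  rw [mult_eq, classInner] at hne
  have hS : (∑ c : Subgroup.centralizer ((P : Subgroup G) : Set G), (χ : G → ℂ) c *
      conj (μ c * (θ : Subgroup.centralizer ((P : Subgroup G) : Set G) → ℂ) c)) ≠ 0 := by
    intro h0
    apply hne
    rw [h0, mul_zero]
  have htr := Cfsg.Agent.Helper7.S4705BLKF2.sum_translate z
    (fun c : Subgroup.centralizer ((P : Subgroup G) : Set G) => (χ : G → ℂ) c *
      conj (μ c * (θ : Subgroup.centralizer ((P : Subgroup G) : Set G) → ℂ) c))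
  have hterm : ∀ c : Subgroup.centralizer ((P : Subgroup G) : Set G),
      (χ : G → ℂ) ((z * c : Subgroup.centralizer ((P : Subgroup G) : Set G)) : G) *
        conj (μ (z * c) * (θ : Subgroup.centralizer ((P : Subgroup G) : Set G) → ℂ) (z * c)) =
      ((χ : G → ℂ) z / (χ : G → ℂ) 1 *
        conj ((θ : Subgroup.centralizer ((P : Subgroup G) : Set G) → ℂ) z)) *
      ((χ : G → ℂ) c *
        conj (μ c * (θ : Subgroup.centralizer ((P : Subgroup G) : Set G) → ℂ) c)) := by
    intro c
    have h1 := central_mul χ (z : G) hz (c : G)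
    have h2 : (χ : G → ℂ) ((z * c : Subgroup.centralizer ((P : Subgroup G) : Set G)) : G) =
        (χ : G → ℂ) z / (χ : G → ℂ) 1 * (χ : G → ℂ) c := by
      rw [Subgroup.coe_mul]
      field_simp
      linear_combination h1
    have h3 : (θ : Subgroup.centralizer ((P : Subgroup G) : Set G) → ℂ) (z * c) =
        (θ : Subgroup.centralizer ((P : Subgroup G) : Set G) → ℂ) z *
          (θ : Subgroup.centralizer ((P : Subgroup G) : Set G) → ℂ) c := by
      rw [hφ (z * c), map_mul, ← hφ, ← hφ]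
    rw [h2, hμ.mul, hμz, one_mul, h3]
    simp only [map_mul]
    ring
  simp only [hterm] at htr
  rw [← Finset.mul_sum] at htr
  have hone : (χ : G → ℂ) z / (χ : G → ℂ) 1 *
      conj ((θ : Subgroup.centralizer ((P : Subgroup G) : Set G) → ℂ) z) = 1 := by
    have h3 : ((χ : G → ℂ) z / (χ : G → ℂ) 1 *
      conj ((θ : Subgroup.centralizer ((P : Subgroup G) : Set G) → ℂ) z) - 1) *
        (∑ c : Subgroup.centralizer ((P : Subgroup G) : Set G), (χ : G → ℂ) c *
          conj (μ c * (θ : Subgroup.centralizer ((P : Subgroup G) : Set G) → ℂ) c)) = 0 := by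
      rw [sub_mul, one_mul, htr, sub_self]
    rcases mul_eq_zero.mp h3 with h | h
    · exact sub_eq_zero.mp h
    · exact absurd h hS
  have hθθ : (θ : Subgroup.centralizer ((P : Subgroup G) : Set G) → ℂ) z *
      conj ((θ : Subgroup.centralizer ((P : Subgroup G) : Set G) → ℂ) z) = 1 := by
    rw [Complex.mul_conj, Complex.normSq_eq_norm_sq, hθz]
    norm_num
  have : (χ : G → ℂ) z = (χ : G → ℂ) z / (χ : G → ℂ) 1 *
      conj ((θ : Subgroup.centralizer ((P : Subgroup G) : Set G) → ℂ) z) *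
      ((θ : Subgroup.centralizer ((P : Subgroup G) : Set G) → ℂ) z * (χ : G → ℂ) 1) := by
    have h4 : (χ : G → ℂ) z / (χ : G → ℂ) 1 *
      conj ((θ : Subgroup.centralizer ((P : Subgroup G) : Set G) → ℂ) z) *
      ((θ : Subgroup.centralizer ((P : Subgroup G) : Set G) → ℂ) z * (χ : G → ℂ) 1) =
      (χ : G → ℂ) z / (χ : G → ℂ) 1 * (χ : G → ℂ) 1 *
        ((θ : Subgroup.centralizer ((P : Subgroup G) : Set G) → ℂ) z *
        conj ((θ : Subgroup.centralizer ((P : Subgroup G) : Set G) → ℂ) z)) := by ring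
    rw [h4, hθθ, mul_one, div_mul_cancel₀ _ hχ1]
  rw [this, hone, one_mul]

end Cfsg.Agent.S4705P
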