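import Cfsg.Agent.Helper7.GraphPSL7
import Cfsg.Agent.Helper2.RootSLnInv

/-!
# Automorphisms of `PSL_n(F)`, part 1 (helper7)

Transvection elements `tm v φ c = 1 + c • v φᵀ` in `SL_n`, their images in `PSL_n`; the projection
is injective on transvections when `n ≥ 3`; the subgroups `TP v` (all transvections with centre
`v`) and `TH φ` (all transvections with axis `ker φ`).
-/

set_option autoImplicit false
set_option linter.unusedSectionVars false
set_option linter.unusedVariables false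

namespace Cfsg.Agent.Helper7.AutPSL

open Matrix Cfsg.Agent.Helper2.RootSLn Cfsg.Agent.Helper7.GraphPSL

variable {n : ℕ} {F : Type*} [Field F]

/-- the projection `SL_n → PSL_n` -/
noncomputable def pr : Matrix.SpecialLinearGroup (Fin n) F →*
    Matrix.ProjectiveSpecialLinearGroup (Fin n) F :=
  QuotientGroup.mk' _

theorem pr_surjective : Function.Surjective (pr : Matrix.SpecialLinearGroup (Fin n) F →* _) :=
  QuotientGroup.mk'_surjective _

theorem pr_apply (s : Matrix.SpecialLinearGroup (Fin n) F) :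
    pr s = (QuotientGroup.mk s : Matrix.ProjectiveSpecialLinearGroup (Fin n) F) := rfl

theorem pr_eq_iff (s t : Matrix.SpecialLinearGroup (Fin n) F) :
    pr s = pr t ↔ ∃ r : F, (t : Matrix (Fin n) (Fin n) F) = r • (s : Matrix (Fin n) (Fin n) F) := by
  have hsc : ∀ r : F, Matrix.scalar (Fin n) r = r • (1 : Matrix (Fin n) (Fin n) F) := by
    intro r
    rw [Matrix.smul_one_eq_diagonal]
    rfl
  have hss : ((s⁻¹ : Matrix.SpecialLinearGroup (Fin n) F) : Matrix (Fin n) (Fin n) F)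
      * (s : Matrix (Fin n) (Fin n) F) = 1 := by
    rw [← Matrix.SpecialLinearGroup.coe_mul, inv_mul_cancel, Matrix.SpecialLinearGroup.coe_one]
  have hss' : (s : Matrix (Fin n) (Fin n) F)
      * ((s⁻¹ : Matrix.SpecialLinearGroup (Fin n) F) : Matrix (Fin n) (Fin n) F) = 1 := by
    rw [← Matrix.SpecialLinearGroup.coe_mul, mul_inv_cancel, Matrix.SpecialLinearGroup.coe_one]
  rw [pr_apply, pr_apply, QuotientGroup.eq, Matrix.SpecialLinearGroup.mem_center_iff]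
  constructor
  · rintro ⟨r, -, hr⟩
    refine ⟨r, ?_⟩
    have h1 : (t : Matrix (Fin n) (Fin n) F) = (s : Matrix (Fin n) (Fin n) F) *
        ((s⁻¹ * t : Matrix.SpecialLinearGroup (Fin n) F) : Matrix (Fin n) (Fin n) F) := by
      rw [← Matrix.SpecialLinearGroup.coe_mul, mul_inv_cancel_left]
    rw [h1, ← hr, hsc, Matrix.mul_smul, Matrix.mul_one]
  · rintro ⟨r, hr⟩
    refine ⟨r, ?_, ?_⟩
    · have h1 := congrArg Matrix.det hr
      rw [Matrix.det_smul, t.2, s.2, mul_one, Fintype.card_fin] at h1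
      rw [Fintype.card_fin]
      exact h1.symm
    · rw [Matrix.SpecialLinearGroup.coe_mul, hr, Matrix.mul_smul, hss, hsc]

/-- transvection-or-identity elements of `SL_n` -/
def IsTm (g : Matrix.SpecialLinearGroup (Fin n) F) : Prop :=
  ∃ (v φ : Fin n → F) (c : F), φ ⬝ᵥ v = 0 ∧ (g : Matrix (Fin n) (Fin n) F) = tm v φ c

theorem isTm_ts (v φ : Fin n → F) (h : φ ⬝ᵥ v = 0) (c : F) : IsTm (ts v φ h c) :=
  ⟨v, φ, c, h, rfl⟩

theorem isTm_one : IsTm (1 : Matrix.SpecialLinearGroup (Fin n) F) :=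
  ⟨0, 0, 0, by simp, by rw [tm_zero]; rfl⟩

/-- a product of at most two transvections fixes a nonzero vector, so a scalar multiple of it
which is a transvection is equal to it -/
theorem eq_of_smul_eq_tm (hn : 3 ≤ n) {φ φ' w ψ : Fin n → F} {c r : F} {M : Matrix (Fin n) (Fin n) F}
    (hM : ∀ x : Fin n → F, φ ⬝ᵥ x = 0 → φ' ⬝ᵥ x = 0 → M *ᵥ x = x)
    (hwψ : ψ ⬝ᵥ w = 0) (h : tm w ψ c = r • M) : r = 1 := by
  have h3 : 3 ≤ Fintype.card (Fin n) := by rw [Fintype.card_fin]; exact hn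
  obtain ⟨x, hx0, hx1, hx2⟩ := exists_orth h3 φ φ'
  have h1 := congrArg (fun N => N *ᵥ x) h
  simp only [tm_mulVec, Matrix.smul_mulVec, hM x hx1 hx2] at h1
  -- `x + (c * ψ⬝x) • w = r • x`
  by_contra hr
  have h2 : (c * (ψ ⬝ᵥ x)) • w = (r - 1) • x := by
    rw [sub_smul, one_smul, ← h1]
    abel
  have h4 : ψ ⬝ᵥ x = 0 := by
    have h5 := congrArg (fun y => ψ ⬝ᵥ y) h2
    simp only [dotProduct_smul, hwψ, smul_eq_mul, mul_zero] at h5
    rcases mul_eq_zero.1 h5.symm with h6 | h6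
    · exact absurd (by linear_combination h6) hr
    · exact h6
  rw [h4, mul_zero, zero_smul] at h2
  rcases smul_eq_zero.1 h2.symm with h6 | h6
  · exact hr (by linear_combination h6)
  · exact hx0 h6

/-- the projection to `PSL_n` is injective on transvections (`n ≥ 3`) -/
theorem pr_inj_of_isTm (hn : 3 ≤ n) {s t : Matrix.SpecialLinearGroup (Fin n) F} (hs : IsTm s)
    (ht : IsTm t) (h : pr s = pr t) : s = t := by
  obtain ⟨v, φ, c, hvφ, hs⟩ := hs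
  obtain ⟨w, ψ, d, hwψ, ht⟩ := ht
  obtain ⟨r, hr⟩ := (pr_eq_iff s t).1 h
  have hr1 : r = 1 := by
    apply eq_of_smul_eq_tm hn (φ := φ) (φ' := φ) (M := (s : Matrix (Fin n) (Fin n) F)) _ hwψ
      (c := d)
    · rw [← ht, hr]
    · intro x hx _
      rw [hs, tm_mulVec, hx, mul_zero, zero_smul, add_zero]
  apply Subtype.ext
  rw [hr, hr1, one_smul]

/-- all transvections with centre `v` -/
def TP (v : Fin n → F) : Subgroup (Matrix.SpecialLinearGroup (Fin n) F) where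
  carrier := {g | ∃ ψ : Fin n → F, ψ ⬝ᵥ v = 0 ∧ (g : Matrix (Fin n) (Fin n) F) = tm v ψ 1}
  one_mem' := ⟨0, by simp, by simp [tm]⟩
  mul_mem' := by
    rintro a b ⟨ψ, hψ, ha⟩ ⟨ψ', hψ', hb⟩
    refine ⟨ψ + ψ', by rw [add_dotProduct, hψ, hψ', add_zero], ?_⟩
    rw [Matrix.SpecialLinearGroup.coe_mul, ha, hb, tm_mul_tm, hψ, mul_zero, zero_smul, add_zero,
      one_smul, one_smul, tm, one_smul, Matrix.vecMulVec_add, add_assoc]
  inv_mem' := by
    rintro a ⟨ψ, hψ, ha⟩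
    refine ⟨-ψ, by rw [neg_dotProduct, hψ, neg_zero], ?_⟩
    have h1 : a = ts v ψ hψ 1 := Subtype.ext ha
    rw [h1, ts_inv, coe_ts, tm, tm, Matrix.vecMulVec_neg, neg_smul, one_smul, one_smul]

/-- all transvections with axis `ker φ` -/
def TH (φ : Fin n → F) : Subgroup (Matrix.SpecialLinearGroup (Fin n) F) where
  carrier := {g | ∃ w : Fin n → F, φ ⬝ᵥ w = 0 ∧ (g : Matrix (Fin n) (Fin n) F) = tm w φ 1}
  one_mem' := ⟨0, by simp, by simp [tm]⟩
  mul_mem' := by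
    rintro a b ⟨w, hw, ha⟩ ⟨w', hw', hb⟩
    refine ⟨w + w', by rw [dotProduct_add, hw, hw', add_zero], ?_⟩
    rw [Matrix.SpecialLinearGroup.coe_mul, ha, hb, tm_mul_tm, hw', mul_zero, zero_smul, add_zero,
      one_smul, one_smul, tm, one_smul, Matrix.add_vecMulVec, add_assoc]
  inv_mem' := by
    rintro a ⟨w, hw, ha⟩
    refine ⟨-w, by rw [dotProduct_neg, hw, neg_zero], ?_⟩
    have h1 : a = ts w φ hw 1 := Subtype.ext ha
    rw [h1, ts_inv, coe_ts, tm, tm, Matrix.neg_vecMulVec, neg_smul, one_smul, one_smul]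

theorem mem_TP {v : Fin n → F} {g : Matrix.SpecialLinearGroup (Fin n) F} :
    g ∈ TP v ↔ ∃ ψ : Fin n → F, ψ ⬝ᵥ v = 0 ∧ (g : Matrix (Fin n) (Fin n) F) = tm v ψ 1 := Iff.rfl

theorem mem_TH {φ : Fin n → F} {g : Matrix.SpecialLinearGroup (Fin n) F} :
    g ∈ TH φ ↔ ∃ w : Fin n → F, φ ⬝ᵥ w = 0 ∧ (g : Matrix (Fin n) (Fin n) F) = tm w φ 1 := Iff.rfl

theorem isTm_of_mem_TP {v : Fin n → F} {g : Matrix.SpecialLinearGroup (Fin n) F} (hg : g ∈ TP v) :
    IsTm g := by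
  obtain ⟨ψ, hψ, h⟩ := hg
  exact ⟨v, ψ, 1, hψ, h⟩

theorem isTm_of_mem_TH {φ : Fin n → F} {g : Matrix.SpecialLinearGroup (Fin n) F} (hg : g ∈ TH φ) :
    IsTm g := by
  obtain ⟨w, hw, h⟩ := hg
  exact ⟨w, φ, 1, hw, h⟩

theorem tm_smul_eq (v φ : Fin n → F) (c : F) : tm v φ c = tm v (c • φ) 1 := by
  rw [tm, tm, one_smul, Matrix.vecMulVec_smul]

theorem tm_smul_eq' (v φ : Fin n → F) (c : F) : tm v φ c = tm (c • v) φ 1 := by
  rw [tm, tm, one_smul, Matrix.smul_vecMulVec]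

theorem ts_mem_TP {v φ : Fin n → F} (h : φ ⬝ᵥ v = 0) (c : F) : ts v φ h c ∈ TP v :=
  ⟨c • φ, by rw [smul_dotProduct, h, smul_zero], by rw [coe_ts, tm_smul_eq]⟩

theorem ts_mem_TH {v φ : Fin n → F} (h : φ ⬝ᵥ v = 0) (c : F) : ts v φ h c ∈ TH φ :=
  ⟨c • v, by rw [dotProduct_smul, h, smul_zero], by rw [coe_ts, tm_smul_eq']⟩

theorem X_le_TP {v φ : Fin n → F} (h : φ ⬝ᵥ v = 0) : X v φ ≤ TP v := by
  intro g hg
  obtain ⟨c, rfl⟩ := (mem_X h).1 hg
  exact ts_mem_TP h c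

theorem X_le_TH {v φ : Fin n → F} (h : φ ⬝ᵥ v = 0) : X v φ ≤ TH φ := by
  intro g hg
  obtain ⟨c, rfl⟩ := (mem_X h).1 hg
  exact ts_mem_TH h c

/-! ### Rank one matrices -/

theorem smul_of_vecMulVec_eq_left {v ψ w φ : Fin n → F} (h : vecMulVec v ψ = vecMulVec w φ)
    (hv : v ≠ 0) : ∃ a : F, ψ = a • φ := by
  obtain ⟨i, hi⟩ := Function.ne_iff.mp hv
  have hi' : v i ≠ 0 := hi
  refine ⟨w i / v i, ?_⟩
  ext j
  have h1 := congrFun (congrFun h i) j
  simp only [vecMulVec_apply] at h1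
  simp only [Pi.smul_apply, smul_eq_mul]
  field_simp
  linear_combination h1

theorem smul_of_vecMulVec_eq_right {v ψ w φ : Fin n → F} (h : vecMulVec v ψ = vecMulVec w φ)
    (hψ : ψ ≠ 0) : ∃ a : F, v = a • w := by
  obtain ⟨j, hj⟩ := Function.ne_iff.mp hψ
  have hj' : ψ j ≠ 0 := hj
  refine ⟨φ j / ψ j, ?_⟩
  ext i
  have h1 := congrFun (congrFun h i) j
  simp only [vecMulVec_apply] at h1
  simp only [Pi.smul_apply, smul_eq_mul]
  field_simp
  linear_combination h1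

theorem vecMulVec_eq_of_tm_eq {v ψ w φ : Fin n → F} (h : tm v ψ 1 = tm w φ 1) :
    vecMulVec v ψ = vecMulVec w φ := by
  rw [tm, tm, one_smul, one_smul] at h
  exact add_left_cancel h

theorem tm_eq_one_iff {v ψ : Fin n → F} (hv : v ≠ 0) : tm v ψ 1 = 1 ↔ ψ = 0 := by
  constructor
  · intro h
    have h1 : vecMulVec v ψ = vecMulVec v 0 := by
      apply vecMulVec_eq_of_tm_eq
      rw [h, tm, Matrix.vecMulVec_zero, smul_zero, add_zero]
    obtain ⟨a, ha⟩ := smul_of_vecMulVec_eq_left h1 hv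
    rw [ha, smul_zero]
  · rintro rfl
    rw [tm, Matrix.vecMulVec_zero, smul_zero, add_zero]

theorem tm_eq_one_iff' {w φ : Fin n → F} (hφ : φ ≠ 0) : tm w φ 1 = 1 ↔ w = 0 := by
  constructor
  · intro h
    have h1 : vecMulVec w φ = vecMulVec 0 φ := by
      apply vecMulVec_eq_of_tm_eq
      rw [h, tm, Matrix.zero_vecMulVec, smul_zero, add_zero]
    obtain ⟨a, ha⟩ := smul_of_vecMulVec_eq_right h1 hφ
    rw [ha, smul_zero]
  · rintro rfl
    rw [tm, Matrix.zero_vecMulVec, smul_zero, add_zero]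

/-! ### Intersections of the groups `TP`, `TH` in `SL_n` -/

theorem TP_inf_TH {v φ : Fin n → F} (hv : v ≠ 0) (h : φ ⬝ᵥ v = 0) : TP v ⊓ TH φ = X v φ := by
  apply le_antisymm
  · rintro g ⟨⟨ψ, hψ, h1⟩, ⟨w, hw, h2⟩⟩
    obtain ⟨a, ha⟩ := smul_of_vecMulVec_eq_left (vecMulVec_eq_of_tm_eq (h1.symm.trans h2)) hv
    rw [mem_X h]
    refine ⟨a, Subtype.ext ?_⟩
    rw [h1, coe_ts, ha, ← tm_smul_eq]
  · exact le_inf (X_le_TP h) (X_le_TH h)

theorem TP_inf_TH_eq_bot {v φ : Fin n → F} (hv : v ≠ 0) (h : φ ⬝ᵥ v ≠ 0) : TP v ⊓ TH φ = ⊥ := by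
  rw [eq_bot_iff]
  rintro g ⟨⟨ψ, hψ, h1⟩, ⟨w, hw, h2⟩⟩
  obtain ⟨a, ha⟩ := smul_of_vecMulVec_eq_left (vecMulVec_eq_of_tm_eq (h1.symm.trans h2)) hv
  rw [ha, smul_dotProduct, smul_eq_mul] at hψ
  rcases mul_eq_zero.1 hψ with h3 | h3
  · rw [Subgroup.mem_bot]
    apply Subtype.ext
    rw [h1, ha, h3, zero_smul, Matrix.SpecialLinearGroup.coe_one, tm, Matrix.vecMulVec_zero,
      smul_zero, add_zero]
  · exact absurd h3 h

theorem TP_inf_TP_eq_bot {v v' : Fin n → F} (h : ∀ a : F, v ≠ a • v') : TP v ⊓ TP v' = ⊥ := by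
  rw [eq_bot_iff]
  rintro g ⟨⟨ψ, hψ, h1⟩, ⟨ψ', hψ', h2⟩⟩
  rw [Subgroup.mem_bot]
  by_cases hψ0 : ψ = 0
  · apply Subtype.ext
    rw [h1, hψ0, Matrix.SpecialLinearGroup.coe_one, tm, Matrix.vecMulVec_zero,
      smul_zero, add_zero]
  · obtain ⟨a, ha⟩ := smul_of_vecMulVec_eq_right (vecMulVec_eq_of_tm_eq (h1.symm.trans h2)) hψ0
    exact absurd ha (h a)

theorem TH_inf_TH_eq_bot {φ φ' : Fin n → F} (h : ∀ a : F, φ ≠ a • φ') : TH φ ⊓ TH φ' = ⊥ := by
  rw [eq_bot_iff]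
  rintro g ⟨⟨w, hw, h1⟩, ⟨w', hw', h2⟩⟩
  rw [Subgroup.mem_bot]
  by_cases hw0 : w = 0
  · apply Subtype.ext
    rw [h1, hw0, Matrix.SpecialLinearGroup.coe_one, tm, Matrix.zero_vecMulVec,
      smul_zero, add_zero]
  · obtain ⟨a, ha⟩ := smul_of_vecMulVec_eq_left (vecMulVec_eq_of_tm_eq (h1.symm.trans h2)) hw0
    exact absurd ha (h a)

theorem TP_smul {a : F} (ha : a ≠ 0) (v : Fin n → F) : TP (a • v) = TP v := by
  ext g
  constructor
  · rintro ⟨ψ, hψ, h1⟩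
    refine ⟨a • ψ, ?_, ?_⟩
    · rw [dotProduct_smul, smul_eq_mul] at hψ
      rw [smul_dotProduct, smul_eq_mul]
      exact hψ
    · rw [h1, tm, tm, Matrix.smul_vecMulVec, Matrix.vecMulVec_smul]
  · rintro ⟨ψ, hψ, h1⟩
    refine ⟨a⁻¹ • ψ, ?_, ?_⟩
    · rw [smul_dotProduct, dotProduct_smul, hψ, smul_zero, smul_zero]
    · rw [h1, tm, tm, Matrix.smul_vecMulVec, Matrix.vecMulVec_smul, smul_smul a,
        mul_inv_cancel₀ ha, one_smul, one_smul]

theorem TH_smul {a : F} (ha : a ≠ 0) (φ : Fin n → F) : TH (a • φ) = TH φ := by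
  ext g
  constructor
  · rintro ⟨w, hw, h1⟩
    refine ⟨a • w, ?_, ?_⟩
    · rw [smul_dotProduct, smul_eq_mul] at hw
      rw [dotProduct_smul, smul_eq_mul]
      exact hw
    · rw [h1, tm, tm, Matrix.smul_vecMulVec, Matrix.vecMulVec_smul]
  · rintro ⟨w, hw, h1⟩
    refine ⟨a⁻¹ • w, ?_, ?_⟩
    · rw [smul_dotProduct, dotProduct_smul, hw, smul_zero, smul_zero]
    · rw [h1, tm, tm, Matrix.smul_vecMulVec, Matrix.vecMulVec_smul, smul_smul a⁻¹,
        inv_mul_cancel₀ ha, one_smul, one_smul]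

end Cfsg.Agent.Helper7.AutPSL
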