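import Mathlib
import Cfsg.Prelude.Def_PLocal
import Cfsg.Agent.Helper7.Hyperplane
import Cfsg.Agent.Helper7.PPrimeCore
import Cfsg.Agent.Helper19.Cores
import Cfsg.Agent.Lead.ThompsonPQ

set_option autoImplicit false
set_option linter.style.haveILetI false
set_option linter.unusedSectionVars false

/-! # Failure of factorization (KS 9.3): best offenders, the active hyperplane lemma -/

namespace Cfsg.Agent.Helper7

open Subgroup Cfsg
open scoped commutatorElement

variable {G : Type*} [Group G]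

/-- The standing hypotheses of the FF-module structure theorem (without generation). -/
structure FFSetup (p : ℕ) (V H : Subgroup G) : Prop where
  hV : IsElementaryAbelian p V
  hHV : H ≤ normalizer (V : Set G)
  hf : H ⊓ centralizer (V : Set G) = ⊥
  hS1 : centralizer (pPrimeCore p ↥H : Set ↥H) ≤ pPrimeCore p ↥H

/-- `O_{p'}(H)` as a subgroup of the ambient group. -/
abbrev ffQ (p : ℕ) (H : Subgroup G) : Subgroup G := (pPrimeCore p ↥H).map H.subtype

theorem ffQ_le (p : ℕ) (H : Subgroup G) : ffQ p H ≤ H := map_subtype_le _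

theorem le_normalizer_ffQ (p : ℕ) (H : Subgroup G) : H ≤ normalizer (ffQ p H : Set G) := by
  intro h hh
  rw [mem_normalizer_iff]
  have key : ∀ (h : G) (hh : h ∈ H) (q : G), q ∈ ffQ p H → h * q * h⁻¹ ∈ ffQ p H := by
    intro h hh q hq
    obtain ⟨q', hq', rfl⟩ := hq
    haveI : (pPrimeCore p ↥H).Normal := inferInstance
    refine ⟨⟨h, hh⟩ * q' * ⟨h, hh⟩⁻¹, ?_, rfl⟩
    exact (inferInstance : (pPrimeCore p ↥H).Normal).conj_mem q' hq' ⟨h, hh⟩
  intro q
  refine ⟨key h hh q, fun hq => ?_⟩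
  have := key h⁻¹ (H.inv_mem hh) _ hq
  simpa [mul_assoc] using this

theorem ffQ_coprime [Finite G] (p : ℕ) (H : Subgroup G) : (Nat.card (ffQ p H)).Coprime p := by
  have h := Cfsg.Agent.Helper19.pPrimeCore_coprime (G := ↥H) p
  rwa [← Subgroup.card_subtype] at h

theorem FFSetup.centralizer_ffQ_le {p : ℕ} {V H : Subgroup G} (hS : FFSetup p V H) :
    H ⊓ centralizer (ffQ p H : Set G) ≤ ffQ p H := by
  intro x hx
  refine ⟨⟨x, hx.1⟩, hS.hS1 ?_, rfl⟩
  rw [mem_centralizer_iff]
  intro q hq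
  apply Subtype.ext
  exact (mem_centralizer_iff.mp hx.2) q ⟨q, hq, rfl⟩

/-- A `p`-subgroup of `H` centralizing `O_{p'}(H)` is trivial. -/
theorem FFSetup.eq_bot_of_le_centralizer_ffQ [Finite G] {p : ℕ} [hp : Fact p.Prime] {V H : Subgroup G}
    (hS : FFSetup p V H) {A : Subgroup G} (hAH : A ≤ H) (hA : IsPGroup p A)
    (hAQ : A ≤ centralizer (ffQ p H : Set G)) : A = ⊥ := by
  have h1 : A ≤ ffQ p H := (le_inf hAH hAQ).trans hS.centralizer_ffQ_le
  have hcop : (Nat.card A).Coprime (Nat.card (ffQ p H)) := by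
    obtain ⟨k, hk⟩ := hA.exists_card_eq
    rw [hk]
    exact Nat.Coprime.pow_left _ (ffQ_coprime p H).symm
  have := (Subgroup.disjoint_of_coprime_natCard hcop).eq_bot
  rwa [inf_of_le_left h1] at this

theorem IsBestOffenderOn.isElementaryAbelian {p : ℕ} {V H A : Subgroup G}
    (hf : H ⊓ centralizer (V : Set G) = ⊥) (hAH : A ≤ H) (hA : IsBestOffenderOn p V A) :
    IsElementaryAbelian p A := by
  refine ⟨⟨⟨?_⟩⟩, fun a ha => ?_⟩
  · rintro ⟨a, ha⟩ ⟨b, hb⟩
    apply Subtype.ext
    have h1 : ⁅a, b⁆ ∈ H ⊓ centralizer (V : Set G) :=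
      by
      refine ⟨?_, hA.2.1 (commutator_mem_commutator ha hb)⟩
      rw [commutatorElement_def]
      exact H.mul_mem (H.mul_mem (H.mul_mem (hAH ha) (hAH hb)) (H.inv_mem (hAH ha))) (H.inv_mem (hAH hb))
    rw [hf, mem_bot] at h1
    exact (commutatorElement_eq_one_iff_mul_comm.mp h1)
  · have h1 : a ^ p ∈ H ⊓ centralizer (V : Set G) := ⟨H.pow_mem (hAH ha) p, hA.2.2 a ha⟩
    rwa [hf, mem_bot] at h1

theorem IsBestOffenderOn.of_le_of_card_eq {p : ℕ} {V A B : Subgroup G}
    (hA : IsBestOffenderOn p V A) (hBA : B ≤ A)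
    (hcard : Nat.card B * Nat.card ↥(V ⊓ centralizer (B : Set G)) =
      Nat.card A * Nat.card ↥(V ⊓ centralizer (A : Set G))) : IsBestOffenderOn p V B := by
  refine ⟨fun C hCB => ?_, (commutator_mono hBA hBA).trans hA.2.1, fun b hb => hA.2.2 b (hBA hb)⟩
  rw [hcard]
  exact hA.1 C (hCB.trans hBA)

theorem isBestOffenderOn_bot (p : ℕ) (V : Subgroup G) : IsBestOffenderOn p V ⊥ := by
  refine ⟨fun B hB => ?_, ?_, ?_⟩
  · rw [le_bot_iff.mp hB]
  · rw [commutator_bot_left]; exact bot_le
  · intro a ha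
    rw [mem_bot.mp ha, one_pow]; exact one_mem _

/-- If `X` normalizes `W` and `A` centralizes `W` then `[X, A]` centralizes `W`. -/
theorem commutator_le_centralizer_of_le_normalizer {X A W : Subgroup G}
    (hX : X ≤ normalizer (W : Set G)) (hA : A ≤ centralizer (W : Set G)) :
    ⁅X, A⁆ ≤ centralizer (W : Set G) := by
  rw [commutator_le]
  intro x hx a ha
  rw [commutatorElement_def]
  refine mul_mem ?_ (inv_mem (hA ha))
  rw [mem_centralizer_iff]
  intro w hw
  have hw' : x⁻¹ * w * x ∈ W := by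
    have := (mem_normalizer_iff.mp (hX (X.inv_mem hx)) w).1 hw
    simpa using this
  have h1 := (mem_centralizer_iff.mp (hA ha)) _ hw'
  -- `x⁻¹ w x a = a x⁻¹ w x`
  calc w * (x * a * x⁻¹) = x * ((x⁻¹ * w * x) * a) * x⁻¹ := by group
    _ = x * (a * (x⁻¹ * w * x)) * x⁻¹ := by rw [h1]
    _ = x * a * x⁻¹ * w := by group


theorem IsPGroup.mul_card_le_of_lt [Finite G] {p : ℕ} [hp : Fact p.Prime] {C D : Subgroup G}
    (hD : IsPGroup p D) (hCD : C ≤ D) (hne : C ≠ D) : p * Nat.card C ≤ Nat.card D := by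
  have h1 := card_mul_relIndex_of_le hCD
  have h2 : C.relIndex D ≠ 1 := by
    intro h
    exact hne (le_antisymm hCD (relIndex_eq_one.mp h))
  obtain ⟨k, hk⟩ := hD.exists_card_eq
  have hdvd : C.relIndex D ∣ p ^ k := hk ▸ relIndex_dvd_card C D
  obtain ⟨j, _, hj⟩ := (Nat.dvd_prime_pow hp.out).1 hdvd
  have hj1 : j ≠ 0 := by
    rintro rfl
    exact h2 (by simpa using hj)
  have hp_le : p ≤ C.relIndex D := by
    rw [hj]
    calc p = p ^ 1 := (pow_one p).symm
      _ ≤ p ^ j := Nat.pow_le_pow_right hp.out.pos (Nat.one_le_iff_ne_zero.mpr hj1)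
  calc p * Nat.card C = Nat.card C * p := mul_comm _ _
    _ ≤ Nat.card C * C.relIndex D := Nat.mul_le_mul_left _ hp_le
    _ = Nat.card D := h1

/-- Active hyperplane lemma: if `B` is a hyperplane of the best offender `A` such that `A` does not
centralize `C_Q(B)`, then `C_V(A)` has index `p` in `C_V(B)` and `B` is a best offender. -/
theorem FFSetup.active_hyperplane [Finite G] {p : ℕ} [hp : Fact p.Prime] {V H : Subgroup G}
    (hS : FFSetup p V H) {A B : Subgroup G} (hAH : A ≤ H) (hA : IsBestOffenderOn p V A)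
    (hBA : B ≤ A) (hidx : B.relIndex A = p)
    (hact : ¬ A ≤ centralizer ((ffQ p H ⊓ centralizer (B : Set G) : Subgroup G) : Set G)) :
    IsBestOffenderOn p V B ∧
      Nat.card ↥(V ⊓ centralizer (B : Set G)) = p * Nat.card ↥(V ⊓ centralizer (A : Set G)) ∧
      Nat.card B * Nat.card ↥(V ⊓ centralizer (B : Set G)) =
        Nat.card A * Nat.card ↥(V ⊓ centralizer (A : Set G)) := by
  have hAel : IsElementaryAbelian p A := IsBestOffenderOn.isElementaryAbelian hS.hf hAH hA
  have hBel : IsElementaryAbelian p B := IsElementaryAbelian.mono hAel hBA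
  have hVp : IsPGroup p V := IsElementaryAbelian.isPGroup hS.hV
  set X : Subgroup G := ffQ p H ⊓ centralizer (B : Set G) with hX
  have hAcB : A ≤ centralizer (B : Set G) := by
    intro a ha
    rw [mem_centralizer_iff]
    intro b hb
    exact IsElementaryAbelian.commute hAel (hBA hb) ha
  have hAX : A ≤ normalizer (X : Set G) := by
    have h1 : A ≤ normalizer (ffQ p H : Set G) := hAH.trans (le_normalizer_ffQ p H)
    have h2 : A ≤ normalizer ((centralizer (B : Set G) : Subgroup G) : Set G) :=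
      hAcB.trans le_normalizer
    exact (le_inf h1 h2).trans (normalizer_inf_normalizer_le_normalizer_inf _ _)
  set Y : Subgroup G := ⁅X, A⁆ with hY
  have hYX : Y ≤ X := Cfsg.Agent.Lead.commutator_le_of_le_normalizer hAX
  have hY1 : Y ≠ ⊥ := by
    intro h
    apply hact
    rw [hY, commutator_eq_bot_iff_le_centralizer] at h
    exact le_centralizer_iff.mp h
  have hXQ : X ≤ ffQ p H := inf_le_left
  have hXH : X ≤ H := hXQ.trans (ffQ_le p H)
  have hne : ¬ (V ⊓ centralizer (B : Set G) ≤ centralizer (A : Set G)) := by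
    intro hle
    set W : Subgroup G := V ⊓ centralizer (B : Set G) with hW
    have hXW : X ≤ normalizer (W : Set G) := by
      have h1 : X ≤ normalizer (V : Set G) := hXH.trans hS.hHV
      have h2 : X ≤ normalizer ((centralizer (B : Set G) : Subgroup G) : Set G) :=
        (inf_le_right : X ≤ centralizer (B : Set G)).trans le_normalizer
      exact (le_inf h1 h2).trans (normalizer_inf_normalizer_le_normalizer_inf _ _)
    have hAW : A ≤ centralizer (W : Set G) := le_centralizer_iff.mp hle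
    have hYW : Y ≤ centralizer (W : Set G) := commutator_le_centralizer_of_le_normalizer hXW hAW
    have hYcop : (Nat.card Y).Coprime p :=
      Nat.Coprime.coprime_dvd_left (card_dvd_of_le (hYX.trans hXQ)) (ffQ_coprime p H)
    have hBY : B ≤ centralizer (Y : Set G) :=
      le_centralizer_iff.mp (hYX.trans inf_le_right)
    have hYV : Y ≤ centralizer (V : Set G) :=
      Cfsg.Agent.Lead.thompson_PQ p B Y V (IsElementaryAbelian.isPGroup hBel) hYcop hVp hBY
        ((hBA.trans hAH).trans hS.hHV) ((hYX.trans hXH).trans hS.hHV)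
        (le_centralizer_iff.mp hYW)
    apply hY1
    rw [eq_bot_iff, ← hS.hf]
    exact le_inf (hYX.trans hXH) hYV
  have hCle : V ⊓ centralizer (A : Set G) ≤ V ⊓ centralizer (B : Set G) :=
    inf_le_inf_left _ (centralizer_le hBA)
  have hCne : V ⊓ centralizer (A : Set G) ≠ V ⊓ centralizer (B : Set G) := by
    intro h
    apply hne
    rw [← h]
    exact inf_le_right
  have hWp : IsPGroup p ↥(V ⊓ centralizer (B : Set G)) := hVp.to_le inf_le_left
  have h1 : p * Nat.card ↥(V ⊓ centralizer (A : Set G)) ≤ Nat.card ↥(V ⊓ centralizer (B : Set G)) :=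
    IsPGroup.mul_card_le_of_lt hWp hCle hCne
  have h2 := hA.1 B hBA
  have h3 := card_mul_relIndex_of_le hBA
  rw [hidx] at h3
  have hBpos : 0 < Nat.card B := Nat.card_pos
  have h4 : Nat.card ↥(V ⊓ centralizer (B : Set G)) ≤ p * Nat.card ↥(V ⊓ centralizer (A : Set G)) := by
    rw [← h3, mul_assoc] at h2
    exact Nat.le_of_mul_le_mul_left h2 hBpos
  have h5 : Nat.card ↥(V ⊓ centralizer (B : Set G)) = p * Nat.card ↥(V ⊓ centralizer (A : Set G)) :=
    le_antisymm h4 h1
  have h6 : Nat.card B * Nat.card ↥(V ⊓ centralizer (B : Set G)) =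
        Nat.card A * Nat.card ↥(V ⊓ centralizer (A : Set G)) := by
    rw [h5, ← h3, mul_assoc]
  exact ⟨IsBestOffenderOn.of_le_of_card_eq hA hBA h6, h5, h6⟩

/-- A nontrivial best offender has an active hyperplane. -/
theorem FFSetup.exists_active_hyperplane [Finite G] {p : ℕ} [hp : Fact p.Prime] {V H : Subgroup G}
    (hS : FFSetup p V H) {A : Subgroup G} (hAH : A ≤ H) (hA : IsBestOffenderOn p V A)
    (hA1 : A ≠ ⊥) :
    ∃ B : Subgroup G, B ≤ A ∧ B.relIndex A = p ∧
      ¬ A ≤ centralizer ((ffQ p H ⊓ centralizer (B : Set G) : Subgroup G) : Set G) := by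
  have hAel : IsElementaryAbelian p A := IsBestOffenderOn.isElementaryAbelian hS.hf hAH hA
  have hAQ : ¬ A ≤ centralizer (ffQ p H : Set G) := fun h =>
    hA1 (hS.eq_bot_of_le_centralizer_ffQ hAH (IsElementaryAbelian.isPGroup hAel) h)
  have hQp : ¬ p ∣ Nat.card (ffQ p H) := by
    intro h
    have := Nat.Coprime.eq_one_of_dvd (ffQ_coprime p H).symm h
    exact hp.out.one_lt.ne' this
  have hgen := le_iSup_inf_centralizer_hyperplane p _ A (ffQ p H) rfl hAel hQp
    (hAH.trans (le_normalizer_ffQ p H))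
  by_contra hcon
  push Not at hcon
  apply hAQ
  rw [le_centralizer_iff]
  refine hgen.trans (iSup_le ?_)
  rintro ⟨B, hBA, hBidx⟩
  rcases relIndex_eq_one_or_prime_of_le (IsElementaryAbelian.isPGroup hAel) hBidx with h1 | h1
  · -- `B = A`
    have : A ≤ B := relIndex_eq_one.mp h1
    exact inf_le_right.trans (centralizer_le this)
  · exact le_centralizer_iff.mp (hcon B hBA h1)

theorem FFSetup.exists_best_hyperplane [Finite G] {p : ℕ} [hp : Fact p.Prime] {V H : Subgroup G}
    (hS : FFSetup p V H) {A : Subgroup G} (hAH : A ≤ H) (hA : IsBestOffenderOn p V A)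
    (hA1 : A ≠ ⊥) :
    ∃ B : Subgroup G, B ≤ A ∧ B.relIndex A = p ∧ IsBestOffenderOn p V B ∧
      Nat.card ↥(V ⊓ centralizer (B : Set G)) = p * Nat.card ↥(V ⊓ centralizer (A : Set G)) ∧
      Nat.card B * Nat.card ↥(V ⊓ centralizer (B : Set G)) =
        Nat.card A * Nat.card ↥(V ⊓ centralizer (A : Set G)) := by
  obtain ⟨B, hBA, hidx, hact⟩ := hS.exists_active_hyperplane hAH hA hA1
  obtain ⟨h1, h2, h3⟩ := hS.active_hyperplane hAH hA hBA hidx hact
  exact ⟨B, hBA, hidx, h1, h2, h3⟩

/-- KS 9.3.?: `|A| |C_V(A)| = |V|` for every best offender `A ≤ H`. -/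
theorem FFSetup.card_mul_card_centralizer [Finite G] {p : ℕ} [hp : Fact p.Prime] {V H : Subgroup G}
    (hS : FFSetup p V H) : ∀ (n : ℕ) (A : Subgroup G), Nat.card A = n → A ≤ H →
      IsBestOffenderOn p V A →
      Nat.card A * Nat.card ↥(V ⊓ centralizer (A : Set G)) = Nat.card V := by
  intro n
  induction n using Nat.strong_induction_on with
  | _ n ih =>
  intro A hn hAH hA
  by_cases hA1 : A = ⊥
  · subst hA1
    rw [card_bot, one_mul]
    have : V ⊓ centralizer ((⊥ : Subgroup G) : Set G) = V := by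
      rw [inf_eq_left]
      intro v _
      rw [mem_centralizer_iff]
      intro b hb
      have : b = 1 := by simpa using hb
      rw [this, one_mul, mul_one]
    rw [this]
  · obtain ⟨B, hBA, hidx, hB, _, hcard⟩ := hS.exists_best_hyperplane hAH hA hA1
    rw [← hcard]
    have h3 := card_mul_relIndex_of_le hBA
    rw [hidx] at h3
    have hlt : Nat.card B < n := by
      rw [← hn, ← h3]
      have : 0 < Nat.card B := Nat.card_pos
      have := hp.out.one_lt
      nlinarith
    exact ih _ hlt B rfl (hBA.trans hAH) hB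

end Cfsg.Agent.Helper7
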