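import Mathlib
import Cfsg.Prelude.Def_PLocal
import Cfsg.Agent.Helper7.FFModule1
import Cfsg.Agent.Helper10.KMax

set_option autoImplicit false
set_option linter.style.haveILetI false
set_option linter.unusedSectionVars false

/-! # Failure of factorization (KS 9.3): commutators with a cyclic group; minimal offenders -/

namespace Cfsg.Agent.Helper7

open Subgroup Cfsg
open scoped commutatorElement

variable {G : Type*} [Group G]

theorem conj_mem_of_mem_normalizer {V : Subgroup G} {a v : G} (ha : a ∈ normalizer (V : Set G))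
    (hv : v ∈ V) : a * v * a⁻¹ ∈ V := (mem_normalizer_iff.mp ha v).1 hv

theorem conj_inv_mem_of_mem_normalizer {V : Subgroup G} {a v : G} (ha : a ∈ normalizer (V : Set G))
    (hv : v ∈ V) : a⁻¹ * v * a ∈ V := by
  have := (mem_normalizer_iff.mp (inv_mem ha) v).1 hv
  simpa using this

theorem commutatorElement_mem_of_mem_normalizer {V : Subgroup G} {a v : G}
    (ha : a ∈ normalizer (V : Set G)) (hv : v ∈ V) : ⁅v, a⁆ ∈ V := by
  rw [commutatorElement_def]
  have h1 : a * v⁻¹ * a⁻¹ ∈ V := conj_mem_of_mem_normalizer ha (V.inv_mem hv)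
  have : v * a * v⁻¹ * a⁻¹ = v * (a * v⁻¹ * a⁻¹) := by group
  rw [this]
  exact V.mul_mem hv h1

/-- `v ↦ [v, a]` as an endomorphism of an abelian subgroup normalized by `a`. -/
noncomputable def commHom (V : Subgroup G) (hV : ∀ v ∈ V, ∀ w ∈ V, v * w = w * v) (a : G)
    (ha : a ∈ normalizer (V : Set G)) : V →* V :=
  MonoidHom.mk' (fun v => ⟨⁅(v : G), a⁆, commutatorElement_mem_of_mem_normalizer ha v.2⟩) (by
    rintro ⟨v, hv⟩ ⟨w, hw⟩
    apply Subtype.ext
    simp only [Subgroup.coe_mul, commutatorElement_def]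
    -- `v w a w⁻¹ v⁻¹ a⁻¹ = v a v⁻¹ a⁻¹ w a w⁻¹ a⁻¹`
    have h1 : a * w⁻¹ * a⁻¹ ∈ V := conj_mem_of_mem_normalizer ha (V.inv_mem hw)
    have h2 : a * v⁻¹ * a⁻¹ ∈ V := conj_mem_of_mem_normalizer ha (V.inv_mem hv)
    have e1 : v * w * a * (v * w)⁻¹ * a⁻¹ = v * (w * ((a * w⁻¹ * a⁻¹) * (a * v⁻¹ * a⁻¹))) := by
      group
    have e2 : v * a * v⁻¹ * a⁻¹ * (w * a * w⁻¹ * a⁻¹) =
        v * ((a * v⁻¹ * a⁻¹) * (w * (a * w⁻¹ * a⁻¹))) := by group
    rw [e1, e2, hV _ h2 _ (V.mul_mem hw h1), mul_assoc w])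

theorem commHom_apply (V : Subgroup G) (hV : ∀ v ∈ V, ∀ w ∈ V, v * w = w * v) (a : G)
    (ha : a ∈ normalizer (V : Set G)) (v : V) :
    ((commHom V hV a ha v : V) : G) = ⁅(v : G), a⁆ := rfl

theorem commHom_ker (V : Subgroup G) (hV : ∀ v ∈ V, ∀ w ∈ V, v * w = w * v) (a : G)
    (ha : a ∈ normalizer (V : Set G)) :
    (commHom V hV a ha).ker = (V ⊓ centralizer ((zpowers a : Subgroup G) : Set G)).subgroupOf V := by
  ext ⟨v, hv⟩
  rw [MonoidHom.mem_ker, mem_subgroupOf, centralizer_zpowers_eq, mem_inf,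
    mem_centralizer_singleton_iff]
  constructor
  · intro h
    have h1 : ⁅v, a⁆ = 1 := by
      have := congrArg Subtype.val h
      simpa [commHom_apply] using this
    exact ⟨hv, (commutatorElement_eq_one_iff_mul_comm.mp h1)⟩
  · rintro ⟨_, h⟩
    apply Subtype.ext
    rw [commHom_apply]
    exact commutatorElement_eq_one_iff_mul_comm.mpr h

theorem commutator_zpowers_eq_map_range (V : Subgroup G) (hV : ∀ v ∈ V, ∀ w ∈ V, v * w = w * v)
    (a : G) (ha : a ∈ normalizer (V : Set G)) :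
    ⁅V, zpowers a⁆ = (commHom V hV a ha).range.map V.subtype := by
  set I : Subgroup G := (commHom V hV a ha).range.map V.subtype with hI
  have hmemI : ∀ v ∈ V, ⁅v, a⁆ ∈ I := by
    intro v hv
    exact ⟨commHom V hV a ha ⟨v, hv⟩, ⟨⟨v, hv⟩, rfl⟩, rfl⟩
  have hIV : I ≤ V := map_subtype_le _
  apply le_antisymm
  · rw [commutator_comm]
    have haI : a ∈ normalizer (I : Set G) := by
      rw [mem_normalizer_iff]
      have key1 : ∀ w ∈ I, a * w * a⁻¹ ∈ I := by
        rintro w ⟨w', ⟨v, rfl⟩, rfl⟩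
        have : a * ((V.subtype) (commHom V hV a ha v)) * a⁻¹ = ⁅a * (v : G) * a⁻¹, a⁆ := by
          simp only [Subgroup.coe_subtype, commHom_apply, commutatorElement_def]; group
        rw [this]
        exact hmemI _ (conj_mem_of_mem_normalizer ha v.2)
      have key2 : ∀ w ∈ I, a⁻¹ * w * a ∈ I := by
        rintro w ⟨w', ⟨v, rfl⟩, rfl⟩
        have : a⁻¹ * ((V.subtype) (commHom V hV a ha v)) * a = ⁅a⁻¹ * (v : G) * a, a⁆ := by
          simp only [Subgroup.coe_subtype, commHom_apply, commutatorElement_def]; group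
        rw [this]
        exact hmemI _ (conj_inv_mem_of_mem_normalizer ha v.2)
      intro w
      refine ⟨key1 w, fun h => ?_⟩
      have := key2 _ h
      simpa [mul_assoc] using this
    apply Cfsg.Agent.Helper10.commutator_zpowers_le
    · intro g hg w hw
      have hgI : g ∈ normalizer (I : Set G) := (zpowers_le (H := normalizer (I : Set G))).2 haI hg
      exact conj_mem_of_mem_normalizer hgI hw
    · intro y hy
      have : ⁅a, y⁆ = ⁅y, a⁆⁻¹ := (commutatorElement_inv y a).symm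
      rw [this]
      exact I.inv_mem (hmemI y hy)
  · rintro w ⟨w', ⟨v, rfl⟩, rfl⟩
    exact commutator_mem_commutator v.2 (mem_zpowers a)

theorem card_commutator_zpowers_mul [Finite G] (V : Subgroup G)
    (hV : ∀ v ∈ V, ∀ w ∈ V, v * w = w * v) (a : G) (ha : a ∈ normalizer (V : Set G)) :
    Nat.card ↥(⁅V, zpowers a⁆) *
      Nat.card ↥(V ⊓ centralizer ((zpowers a : Subgroup G) : Set G)) = Nat.card V := by
  rw [commutator_zpowers_eq_map_range V hV a ha, Subgroup.card_subtype]
  have h1 : Nat.card (commHom V hV a ha).ker =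
      Nat.card ↥(V ⊓ centralizer ((zpowers a : Subgroup G) : Set G)) := by
    rw [commHom_ker]
    exact Nat.card_congr (subgroupOfEquivOfLe inf_le_left).toEquiv
  rw [← h1, ← Nat.card_congr (QuotientGroup.quotientKerEquivRange (commHom V hV a ha)).toEquiv]
  exact (Subgroup.card_eq_card_quotient_mul_card_subgroup _).symm


theorem inf_centralizer_bot (V : Subgroup G) :
    V ⊓ centralizer ((⊥ : Subgroup G) : Set G) = V := by
  rw [inf_eq_left]
  intro v _
  rw [mem_centralizer_iff]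
  intro b hb
  have : b = 1 := by simpa using hb
  rw [this, one_mul, mul_one]

/-- A subgroup of `H` acting trivially on `V` is trivial. -/
theorem FFSetup.eq_bot_of_commutator_eq_bot {p : ℕ} {V H : Subgroup G} (hS : FFSetup p V H)
    {B : Subgroup G} (hBH : B ≤ H) (h : ⁅V, B⁆ = ⊥) : B = ⊥ := by
  rw [commutator_eq_bot_iff_le_centralizer] at h
  rw [eq_bot_iff, ← hS.hf]
  exact le_inf hBH (le_centralizer_iff.mp h)

theorem FFSetup.commutator_ne_bot {p : ℕ} {V H : Subgroup G} (hS : FFSetup p V H)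
    {B : Subgroup G} (hBH : B ≤ H) (h : B ≠ ⊥) : ⁅V, B⁆ ≠ ⊥ :=
  fun h' => h (hS.eq_bot_of_commutator_eq_bot hBH h')

theorem eq_zpowers_of_card_prime [Finite G] {p : ℕ} [hp : Fact p.Prime] {A : Subgroup G}
    (hA : Nat.card A = p) {a : G} (ha : a ∈ A) (ha1 : a ≠ 1) : zpowers a = A := by
  have hle : zpowers a ≤ A := (zpowers_le (H := A)).2 ha
  have hord : orderOf a ∣ p := by
    rw [← hA]
    have := orderOf_dvd_natCard (⟨a, ha⟩ : A)
    rwa [← Subgroup.orderOf_coe] at this
  have hord' : orderOf a = p := by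
    rcases (Nat.dvd_prime hp.out).1 hord with h | h
    · exact absurd (orderOf_eq_one_iff.mp h) ha1
    · exact h
  apply Subgroup.eq_of_le_of_card_ge hle
  rw [Nat.card_zpowers, hord', hA]

/-- KS 9.3: a minimal nontrivially-acting best offender has order `p`, commutator of order `p` and
fixed points of index `p` (= S0611). -/
theorem FFSetup.minimal_offender [Finite G] {p : ℕ} [hp : Fact p.Prime] {V H : Subgroup G}
    (hS : FFSetup p V H) {A : Subgroup G} (hAH : A ≤ H) (hA : IsBestOffenderOn p V A)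
    (hAV : ⁅V, A⁆ ≠ ⊥)
    (hmin : ∀ B : Subgroup G, B ≤ A → IsBestOffenderOn p V B → ⁅V, B⁆ ≠ ⊥ → B = A) :
    Nat.card A = p ∧ Nat.card ↥(⁅V, A⁆) = p ∧
      (V ⊓ centralizer (A : Set G)).relIndex V = p := by
  have hA1 : A ≠ ⊥ := by
    rintro rfl
    exact hAV (commutator_bot_right V)
  obtain ⟨B, hBA, hidx, hB, hcard, -⟩ := hS.exists_best_hyperplane hAH hA hA1
  have hB1 : B = ⊥ := by
    by_contra hne
    have h1 : ⁅V, B⁆ ≠ ⊥ := hS.commutator_ne_bot (hBA.trans hAH) hne
    have h2 := hmin B hBA hB h1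
    rw [h2, relIndex_self] at hidx
    exact hp.out.one_lt.ne hidx
  subst hB1
  rw [relIndex_bot_left] at hidx
  rw [inf_centralizer_bot] at hcard
  have hrel : (V ⊓ centralizer (A : Set G)).relIndex V = p := by
    have h := card_mul_relIndex_of_le (inf_le_left : V ⊓ centralizer (A : Set G) ≤ V)
    rw [hcard, mul_comm p] at h
    exact Nat.eq_of_mul_eq_mul_left Nat.card_pos h
  refine ⟨hidx, ?_, hrel⟩
  obtain ⟨a, ha, ha1⟩ : ∃ a ∈ A, a ≠ 1 := by
    by_contra hcon
    push Not at hcon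
    exact hA1 ((eq_bot_iff_forall A).2 hcon)
  have hz : zpowers a = A := eq_zpowers_of_card_prime hidx ha ha1
  have hVc : ∀ v ∈ V, ∀ w ∈ V, v * w = w * v := fun v hv w hw =>
    IsElementaryAbelian.commute hS.hV hv hw
  have h := card_commutator_zpowers_mul V hVc a (hS.hHV (hAH ha))
  rw [hz, hcard] at h
  exact Nat.eq_of_mul_eq_mul_right Nat.card_pos h

end Cfsg.Agent.Helper7
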