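import Mathlib
import Cfsg.Prelude.Def_PLocal
import Cfsg.Agent.Helper7.FFModule2
import Cfsg.Agent.Helper17.PrimAb
import Cfsg.Agent.Helper25.TwoSylowSL2
import Cfsg.Agent.Helper10.NormLemmas

set_option autoImplicit false
set_option linter.style.haveILetI false
set_option linter.unusedSectionVars false

/-! # Failure of factorization (KS 9.3): two conjugate minimal offenders generate `SL₂(p)` -/

namespace Cfsg.Agent.Helper7

open Subgroup Cfsg
open scoped commutatorElement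

variable {G : Type*} [Group G]

/-- If `[V, A] ≤ U ≤ V` then `A` normalizes `U`. -/
theorem le_normalizer_of_commutator_le {U V A : Subgroup G} (hUV : U ≤ V) (h : ⁅V, A⁆ ≤ U) :
    A ≤ normalizer (U : Set G) := by
  apply le_normalizer_of_forall_conj_mem
  intro a ha u hu
  have h1 : ⁅a, u⁆ ∈ U := by
    apply h
    rw [commutator_comm]
    exact commutator_mem_commutator ha (hUV hu)
  have : a * u * a⁻¹ = ⁅a, u⁆ * u := by rw [commutatorElement_def]; group
  rw [this]
  exact U.mul_mem h1 hu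

/-- `[V, A ⊔ B] = [V, A] ⊔ [V, B]` when `A` and `B` normalize `V`. -/
theorem commutator_sup_right_eq {V A B : Subgroup G} (hA : A ≤ normalizer (V : Set G))
    (hB : B ≤ normalizer (V : Set G)) : ⁅V, A ⊔ B⁆ = ⁅V, A⁆ ⊔ ⁅V, B⁆ := by
  apply le_antisymm
  · have hAV : ⁅V, A⁆ ≤ V := Cfsg.Agent.Lead.commutator_le_of_le_normalizer hA
    have hBV : ⁅V, B⁆ ≤ V := Cfsg.Agent.Lead.commutator_le_of_le_normalizer hB
    have hUV : ⁅V, A⁆ ⊔ ⁅V, B⁆ ≤ V := sup_le hAV hBV
    have hAU : A ≤ normalizer ((⁅V, A⁆ ⊔ ⁅V, B⁆ : Subgroup G) : Set G) :=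
      le_normalizer_of_commutator_le hUV le_sup_left
    have hBU : B ≤ normalizer ((⁅V, A⁆ ⊔ ⁅V, B⁆ : Subgroup G) : Set G) :=
      le_normalizer_of_commutator_le hUV le_sup_right
    rw [commutator_comm]
    apply Cfsg.Agent.Helper10.commutator_sup_le_of_conj_mem
    · exact forall_conj_mem_of_le_normalizer (sup_le hAU hBU)
    · rw [commutator_comm]; exact le_sup_left
    · rw [commutator_comm]; exact le_sup_right
  · exact sup_le (commutator_mono le_rfl le_sup_left) (commutator_mono le_rfl le_sup_right)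

theorem conj_pow_mul_eq {k u v : G} (hku : k * u = u * k) (h : k * v * k⁻¹ = u * v) (n : ℕ) :
    k ^ n * v * (k ^ n)⁻¹ = u ^ n * v := by
  induction n with
  | zero => simp
  | succ n ih =>
    have hkun : k * u ^ n = u ^ n * k := (Commute.pow_right (show Commute k u from hku) n).eq
    calc k ^ (n + 1) * v * (k ^ (n + 1))⁻¹ = k * (k ^ n * v * (k ^ n)⁻¹) * k⁻¹ := by
          rw [pow_succ']; group
      _ = k * (u ^ n * v) * k⁻¹ := by rw [ih]
      _ = (k * u ^ n) * k⁻¹ * (k * v * k⁻¹) := by group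
      _ = u ^ n * (u * v) := by rw [hkun, h]; group
      _ = u ^ (n + 1) * v := by rw [pow_succ]; group

/-- An element of `E ≤ H` centralizing `[V, E]` has order dividing `p`. -/
theorem FFSetup.pow_eq_one_of_mem_centralizer_commutator {p : ℕ} {V H : Subgroup G}
    (hS : FFSetup p V H) {E : Subgroup G} (hEH : E ≤ H) {k : G} (hkE : k ∈ E)
    (hk : k ∈ centralizer ((⁅V, E⁆ : Subgroup G) : Set G)) : k ^ p = 1 := by
  have h1 : k ^ p ∈ H ⊓ centralizer (V : Set G) := by
    refine ⟨H.pow_mem (hEH hkE) p, ?_⟩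
    show k ^ p ∈ centralizer (V : Set G)
    rw [mem_centralizer_iff]
    intro v hv
    set u : G := ⁅k, v⁆ with hu
    have huU : u ∈ ⁅V, E⁆ := by
      rw [commutator_comm]; exact commutator_mem_commutator hkE hv
    have huV : u ∈ V :=
      Cfsg.Agent.Lead.commutator_le_of_le_normalizer (hEH.trans hS.hHV) huU
    have hku : k * u = u * k := ((mem_centralizer_iff.mp hk) u huU).symm
    have h : k * v * k⁻¹ = u * v := by rw [hu, commutatorElement_def]; group
    have h2 := conj_pow_mul_eq hku h p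
    rw [hS.hV.2 u huV, one_mul] at h2
    calc v * k ^ p = (k ^ p * v * (k ^ p)⁻¹) * k ^ p := by rw [h2]
      _ = k ^ p * v := by group
  rwa [hS.hf, mem_bot] at h1

theorem isPGroup_of_forall_pow_eq_one {p : ℕ} {K : Subgroup G} (h : ∀ k ∈ K, k ^ p = 1) :
    IsPGroup p K := by
  intro k
  refine ⟨1, ?_⟩
  rw [pow_one]
  apply Subtype.ext
  simpa using h k k.2

/-- A subgroup of `Q ⊔ A` of order prime to `|Q|` has order dividing `|A|`. -/
theorem card_dvd_of_le_sup_of_coprime [Finite G] {P Q A : Subgroup G}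
    (hAQ : A ≤ normalizer (Q : Set G)) (hP : P ≤ Q ⊔ A)
    (hcop : (Nat.card P).Coprime (Nat.card Q)) : Nat.card P ∣ Nat.card A := by
  have h1 : Nat.card P ∣ Nat.card (Q ⊔ A : Subgroup G) := card_dvd_of_le hP
  have h2 := Cfsg.Agent.Helper17.card_sup_mul_card_inf Q A hAQ
  have h3 : Nat.card P ∣ Nat.card Q * Nat.card A := by
    rw [← h2]; exact h1.trans (Dvd.intro _ rfl)
  exact hcop.dvd_of_dvd_mul_left h3

/-- A group of order dividing `p ^ 2` is commutative. -/
theorem comm_of_card_dvd_prime_sq {K : Type*} [Group K] [Finite K] {p : ℕ} [hp : Fact p.Prime]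
    (h : Nat.card K ∣ p ^ 2) (a b : K) : a * b = b * a := by
  obtain ⟨j, hj, hc⟩ := (Nat.dvd_prime_pow hp.out).1 h
  interval_cases j
  · rw [pow_zero] at hc
    have := (Nat.card_eq_one_iff_unique.mp hc).1
    rw [Subsingleton.elim a 1, Subsingleton.elim b 1]
  · rw [pow_one] at hc
    haveI : IsCyclic K := isCyclic_of_prime_card hc
    exact (IsCyclic.commGroup (α := K)).mul_comm a b
  · exact (IsPGroup.isMulCommutative_of_card_eq_prime_sq hc).is_comm.comm a b


/-- A group acting faithfully on an elementary abelian subgroup of order `p ^ e` embeds in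
`GL_e(p)`. -/
theorem exists_injective_hom_GL [Finite G] {p e : ℕ} [Fact p.Prime] (U E : Subgroup G)
    (hU : IsElementaryAbelian p U) (hcard : Nat.card U = p ^ e)
    (hEU : E ≤ normalizer (U : Set G)) (hfaith : E ⊓ centralizer (U : Set G) = ⊥) :
    ∃ φ : E →* GL (Fin e) (ZMod p), Function.Injective φ := by
  haveI : (U.subgroupOf (normalizer (U : Set G))).Normal := Subgroup.normal_in_normalizer
  have hab : ∀ a ∈ U.subgroupOf (normalizer (U : Set G)),
      ∀ b ∈ U.subgroupOf (normalizer (U : Set G)), a * b = b * a := by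
    intro a ha b hb
    apply Subtype.ext
    exact IsElementaryAbelian.commute hU (mem_subgroupOf.mp ha) (mem_subgroupOf.mp hb)
  have hexp : ∀ a ∈ U.subgroupOf (normalizer (U : Set G)), a ^ p = 1 := by
    intro a ha
    apply Subtype.ext
    simpa using hU.2 _ (mem_subgroupOf.mp ha)
  have hcard' : Nat.card (U.subgroupOf (normalizer (U : Set G))) = p ^ e := by
    rw [← hcard]
    exact Nat.card_congr (subgroupOfEquivOfLe le_normalizer).toEquiv
  obtain ⟨φ, hφ⟩ := Cfsg.Agent.Helper17.exists_hom_GL_of_elementary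
    (U.subgroupOf (normalizer (U : Set G))) hab p e hexp hcard'
  refine ⟨φ.comp (Subgroup.inclusion hEU), ?_⟩
  rw [injective_iff_map_eq_one]
  intro x hx
  have h1 : Subgroup.inclusion hEU x ∈ φ.ker := hx
  rw [hφ, mem_centralizer_iff] at h1
  have h2 : (x : G) ∈ E ⊓ centralizer (U : Set G) := by
    refine ⟨x.2, ?_⟩
    show (x : G) ∈ centralizer (U : Set G)
    rw [mem_centralizer_iff]
    intro u hu
    have := h1 ⟨u, le_normalizer hu⟩ (by
      rw [SetLike.mem_coe, mem_subgroupOf]; exact hu)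
    exact congrArg Subtype.val this
  rw [hfaith, mem_bot] at h2
  exact Subtype.ext h2

section conj

/-- `A ^ x` as `A.map (conj x)`. -/
theorem card_map_conj (A : Subgroup G) (x : G) :
    Nat.card ↥(A.map (MulAut.conj x).toMonoidHom) = Nat.card A :=
  (Nat.card_congr (A.equivMapOfInjective _ (MulAut.conj x).injective).toEquiv).symm

theorem map_conj_eq_of_mem_normalizer {V : Subgroup G} {x : G} (hx : x ∈ normalizer (V : Set G)) :
    V.map (MulAut.conj x).toMonoidHom = V := by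
  ext v
  constructor
  · rintro ⟨w, hw, rfl⟩
    exact conj_mem_of_mem_normalizer hx hw
  · intro hv
    refine ⟨x⁻¹ * v * x, conj_inv_mem_of_mem_normalizer hx hv, ?_⟩
    simp [MulAut.conj_apply, mul_assoc]

theorem map_conj_le_of_le {A H : Subgroup G} {x : G} (hx : x ∈ H) (hAH : A ≤ H) :
    A.map (MulAut.conj x).toMonoidHom ≤ H := by
  rintro _ ⟨a, ha, rfl⟩
  exact H.mul_mem (H.mul_mem hx (hAH ha)) (H.inv_mem hx)

theorem commutator_map_conj {V : Subgroup G} {x : G} (hx : x ∈ normalizer (V : Set G))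
    (A : Subgroup G) :
    ⁅V, A.map (MulAut.conj x).toMonoidHom⁆ = (⁅V, A⁆).map (MulAut.conj x).toMonoidHom := by
  rw [map_commutator, map_conj_eq_of_mem_normalizer hx]

end conj


theorem isPGroup_of_card_eq_prime {p : ℕ} [hp : Fact p.Prime] {A : Subgroup G}
    (hA : Nat.card A = p) : IsPGroup p A :=
  IsPGroup.of_card (n := 1) (by rw [hA, pow_one])

theorem inf_eq_bot_of_card_prime_of_ne [Finite G] {p : ℕ} [hp : Fact p.Prime] {A B : Subgroup G}
    (hA : Nat.card A = p) (hB : Nat.card B = p) (hne : A ≠ B) : A ⊓ B = ⊥ := by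
  have h1 : Nat.card ↥(A ⊓ B) ∣ p := hA ▸ card_dvd_of_le inf_le_left
  rcases (Nat.dvd_prime hp.out).1 h1 with h | h
  · exact card_eq_one.mp h
  · exfalso
    apply hne
    have h2 : A ⊓ B = A := eq_of_le_of_card_ge inf_le_left (by rw [h, hA])
    have h3 : A ⊓ B = B := eq_of_le_of_card_ge inf_le_right (by rw [h, hB])
    rw [← h2, h3]

/-- A `p`-subgroup `P` of `Q ⊔ A`, `|A| = p`, that contains a subgroup `B` of order `p`, is `B`. -/
theorem FFSetup.eq_of_isPGroup_of_le_sup [Finite G] {p : ℕ} [hp : Fact p.Prime] {V H : Subgroup G}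
    (hS : FFSetup p V H) {A : Subgroup G} (hAH : A ≤ H) (hAp : Nat.card A = p)
    {P B : Subgroup G} (hP : IsPGroup p P) (hPle : P ≤ ffQ p H ⊔ A) (hBP : B ≤ P)
    (hBp : Nat.card B = p) : P = B := by
  have hcop : (Nat.card P).Coprime (Nat.card (ffQ p H)) := by
    obtain ⟨k, hk⟩ := hP.exists_card_eq
    rw [hk]
    exact Nat.Coprime.pow_left _ (ffQ_coprime p H).symm
  have hdvd := card_dvd_of_le_sup_of_coprime (hAH.trans (le_normalizer_ffQ p H)) hPle hcop
  rw [hAp] at hdvd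
  have hle : Nat.card P ≤ Nat.card B := by
    rw [hBp]; exact Nat.le_of_dvd hp.out.pos hdvd
  exact (eq_of_le_of_card_ge hBP hle).symm

/-- A subgroup `E ≤ H ∩ QA` (`|A| = p`) containing two distinct subgroups of order `p` acts
faithfully on `[V, E]`. -/
theorem FFSetup.faithful_on_commutator [Finite G] {p : ℕ} [hp : Fact p.Prime] {V H : Subgroup G}
    (hS : FFSetup p V H) {A E A₁ A₂ : Subgroup G} (hAH : A ≤ H) (hAp : Nat.card A = p)
    (hEH : E ≤ H) (hEQA : E ≤ ffQ p H ⊔ A) (hA₁E : A₁ ≤ E) (hA₂E : A₂ ≤ E)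
    (hA₁p : Nat.card A₁ = p) (hA₂p : Nat.card A₂ = p) (hne : A₁ ≠ A₂) :
    E ⊓ centralizer ((⁅V, E⁆ : Subgroup G) : Set G) = ⊥ := by
  set U : Subgroup G := ⁅V, E⁆ with hU
  set K : Subgroup G := E ⊓ centralizer (U : Set G) with hK
  have hEU : E ≤ normalizer (U : Set G) := Cfsg.Agent.Lead.le_normalizer_commutator_right V E
  have hKp : IsPGroup p K := isPGroup_of_forall_pow_eq_one (fun k hk =>
    hS.pow_eq_one_of_mem_centralizer_commutator hEH hk.1 hk.2)
  have hEK : E ≤ normalizer (K : Set G) :=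
    Cfsg.Agent.Helper10.le_normalizer_inf_of_le le_normalizer
      (Cfsg.Agent.Helper10.le_normalizer_centralizer_of_le hEU)
  have key : ∀ B : Subgroup G, B ≤ E → Nat.card B = p → K ≤ B := by
    intro B hBE hBp
    have hBpg : IsPGroup p B := isPGroup_of_card_eq_prime hBp
    have h1 : IsPGroup p (K ⊔ B : Subgroup G) :=
      IsPGroup.to_sup_of_normal_left' hKp hBpg (hBE.trans hEK)
    have h2 : K ⊔ B ≤ ffQ p H ⊔ A := (sup_le (inf_le_left.trans hEQA) (hBE.trans hEQA))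
    have h3 := hS.eq_of_isPGroup_of_le_sup hAH hAp h1 h2 le_sup_right hBp
    rw [← h3]; exact le_sup_left
  have h12 : A₁ ⊓ A₂ = ⊥ := inf_eq_bot_of_card_prime_of_ne hA₁p hA₂p hne
  rw [eq_bot_iff, ← h12]
  exact le_inf (key A₁ hA₁E hA₁p) (key A₂ hA₂E hA₂p)


/-- A group generated by two distinct subgroups of order `p` and acting faithfully on an
elementary abelian group of order `p ^ 2` is isomorphic to `SL₂(p)`. -/
theorem nonempty_mulEquiv_SL2_of_two_subgroups [Finite G] {p : ℕ} [hp : Fact p.Prime]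
    {U E A₁ A₂ : Subgroup G} (hU : IsElementaryAbelian p U) (hcard : Nat.card U = p ^ 2)
    (hEU : E ≤ normalizer (U : Set G)) (hfaith : E ⊓ centralizer (U : Set G) = ⊥)
    (hE : E = A₁ ⊔ A₂) (hA₁p : Nat.card A₁ = p) (hA₂p : Nat.card A₂ = p) (hne : A₁ ≠ A₂) :
    Nonempty (↥E ≃* Matrix.SpecialLinearGroup (Fin 2) (ZMod p)) := by
  obtain ⟨φ, hφ⟩ := exists_injective_hom_GL U E hU hcard hEU hfaith
  have hA₁E : A₁ ≤ E := hE ▸ le_sup_left
  have hA₂E : A₂ ≤ E := hE ▸ le_sup_right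
  have himg : ∀ B : Subgroup G, B ≤ E → Nat.card B = p →
      ∃ R : Sylow p (GL (Fin 2) (ZMod p)), (R : Subgroup _) = (B.subgroupOf E).map φ := by
    intro B hBE hBp
    have hc1 : Nat.card (B.subgroupOf E) = p := by
      rw [← hBp]; exact Nat.card_congr (subgroupOfEquivOfLe hBE).toEquiv
    have hc2 : Nat.card ((B.subgroupOf E).map φ) = p :=
      ((Nat.card_congr ((B.subgroupOf E).equivMapOfInjective φ hφ).toEquiv).symm).trans hc1
    have hpg : IsPGroup p ((B.subgroupOf E).map φ) := isPGroup_of_card_eq_prime hc2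
    obtain ⟨R, hR⟩ := hpg.exists_le_sylow
    refine ⟨R, ?_⟩
    have hcard := Cfsg.Agent.Helper25.TwoSylow.card_sylow_GL2' p R
    exact (eq_of_le_of_card_ge hR (by rw [hcard, hc2])).symm
  obtain ⟨R₁, hR₁⟩ := himg A₁ hA₁E hA₁p
  obtain ⟨R₂, hR₂⟩ := himg A₂ hA₂E hA₂p
  have hRne : R₁ ≠ R₂ := by
    intro hcon
    apply hne
    have h1 : (A₁.subgroupOf E).map φ = (A₂.subgroupOf E).map φ := by
      rw [← hR₁, ← hR₂, hcon]
    have h2 := Subgroup.map_injective hφ h1
    rw [subgroupOf_inj, inf_of_le_left hA₁E, inf_of_le_left hA₂E] at h2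
    exact h2
  have hsup := Cfsg.Agent.Helper25.TwoSylow.sylow_sup_sylow p R₁ R₂ hRne
  have htop : (A₁.subgroupOf E) ⊔ (A₂.subgroupOf E) = ⊤ := by
    rw [← subgroupOf_sup hA₁E hA₂E, ← hE, subgroupOf_self]
  have hrange : φ.range = Cfsg.Agent.Helper25.TwoSylow.slRange p := by
    rw [MonoidHom.range_eq_map, ← htop, Subgroup.map_sup, ← hR₁, ← hR₂, hsup]
  refine ⟨?_⟩
  exact ((MonoidHom.ofInjective hφ).trans (MulEquiv.subgroupCongr hrange)).trans
    (MonoidHom.ofInjective Matrix.SpecialLinearGroup.toGL_injective).symm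


/-- `(QA)' ≤ Q` when `A` normalizes `Q` and `A' ≤ Q`. -/
theorem commutator_sup_self_le {Q A : Subgroup G} (hAQ : A ≤ normalizer (Q : Set G))
    (hA : ⁅A, A⁆ ≤ Q) : ⁅Q ⊔ A, Q ⊔ A⁆ ≤ Q := by
  have hD : Q ⊔ A ≤ normalizer (Q : Set G) := sup_le le_normalizer hAQ
  have hconj := forall_conj_mem_of_le_normalizer hD
  apply Cfsg.Agent.Helper10.commutator_sup_le_of_conj_mem hconj
  · exact Cfsg.Agent.Lead.commutator_le_of_le_normalizer hD
  · rw [commutator_comm]
    apply Cfsg.Agent.Helper10.commutator_sup_le_of_conj_mem hconj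
    · exact Cfsg.Agent.Lead.commutator_le_of_le_normalizer hAQ
    · exact hA

theorem SL2_zmod_commutator_eq_top {p : ℕ} [hp : Fact p.Prime] (h2 : p ≠ 2) (h3 : p ≠ 3) :
    commutator (Matrix.SpecialLinearGroup (Fin 2) (ZMod p)) = ⊤ := by
  have ha : (2 : ZMod p) ≠ 0 := by
    intro h
    have h' : ((2 : ℕ) : ZMod p) = 0 := by exact_mod_cast h
    rw [ZMod.natCast_eq_zero_iff] at h'
    exact h2 ((Nat.prime_dvd_prime_iff_eq hp.out Nat.prime_two).mp h')
  have hasq : (2 : ZMod p) ^ 2 ≠ 1 := by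
    intro h
    have h' : ((3 : ℕ) : ZMod p) = 0 := by
      have : (2 : ZMod p) ^ 2 - 1 = 0 := by rw [h, sub_self]
      have e : ((3 : ℕ) : ZMod p) = (2 : ZMod p) ^ 2 - 1 := by push_cast; ring
      rw [e, this]
    rw [ZMod.natCast_eq_zero_iff] at h'
    exact h3 ((Nat.prime_dvd_prime_iff_eq hp.out Nat.prime_three).mp h')
  exact Matrix.SL2.commutator_eq_top ha hasq

/-- A subgroup isomorphic to a perfect group is its own commutator subgroup. -/
theorem commutator_self_eq_of_mulEquiv_perfect {E : Subgroup G} {S : Type*} [Group S]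
    (e : ↥E ≃* S) (hS : commutator S = ⊤) : ⁅E, E⁆ = E := by
  have h1 : commutator ↥E = ⊤ := by
    rw [eq_top_iff]
    intro x _
    have hx : e x ∈ commutator S := by rw [hS]; exact mem_top _
    rw [commutator_def] at hx ⊢
    have h2 : Subgroup.map e.symm.toMonoidHom (⁅(⊤ : Subgroup S), (⊤ : Subgroup S)⁆) ≤
        ⁅(⊤ : Subgroup ↥E), (⊤ : Subgroup ↥E)⁆ := by
      rw [map_commutator]
      exact commutator_mono le_top le_top
    have := h2 ⟨e x, hx, rfl⟩
    simpa using this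
  rw [← map_subtype_commutator, h1, ← MonoidHom.range_eq_map, range_subtype]


theorem FFSetup.inf_ffQ_eq_bot [Finite G] {p : ℕ} [hp : Fact p.Prime] {H A : Subgroup G}
    (hA : IsPGroup p A) : A ⊓ ffQ p H = ⊥ := by
  have hcop : (Nat.card A).Coprime (Nat.card (ffQ p H)) := by
    obtain ⟨k, hk⟩ := hA.exists_card_eq
    rw [hk]
    exact Nat.Coprime.pow_left _ (ffQ_coprime p H).symm
  exact (Subgroup.disjoint_of_coprime_natCard hcop).eq_bot

/-- `[x, a] ∈ Q` for `x ∈ Q`, `a ∈ H`. -/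
theorem commutatorElement_mem_ffQ {p : ℕ} {H : Subgroup G} {x a : G} (hx : x ∈ ffQ p H)
    (ha : a ∈ H) : ⁅x, a⁆ ∈ ffQ p H := by
  have h1 : a * x⁻¹ * a⁻¹ ∈ ffQ p H :=
    conj_mem_of_mem_normalizer (le_normalizer_ffQ p H ha) (inv_mem hx)
  have : ⁅x, a⁆ = x * (a * x⁻¹ * a⁻¹) := by rw [commutatorElement_def]; group
  rw [this]
  exact mul_mem hx h1

theorem map_conj_le_ffQ_sup {p : ℕ} {H A : Subgroup G} (hAH : A ≤ H) {x : G}
    (hx : x ∈ ffQ p H) : A.map (MulAut.conj x).toMonoidHom ≤ ffQ p H ⊔ A := by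
  rintro _ ⟨a, ha, rfl⟩
  have h1 : ⁅x, a⁆ ∈ ffQ p H := commutatorElement_mem_ffQ hx (hAH ha)
  have : (MulAut.conj x).toMonoidHom a = ⁅x, a⁆ * a := by
    simp only [MulEquiv.toMonoidHom_eq_coe, MonoidHom.coe_coe, MulAut.conj_apply,
      commutatorElement_def]
    group
  rw [this]
  exact mul_mem (mem_sup_left h1) (mem_sup_right ha)

/-- KS 9.3: a subgroup `A ≤ H` of order `p` with `|[V, A]| = p` and a conjugate `A ^ x`, `x ∈ Q`
not centralizing `A`, generate `SL₂(p)` acting faithfully on the plane `[V, ⟨A, A ^ x⟩]`, and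
`p ≤ 3`. -/
theorem FFSetup.two_conjugates [Finite G] {p : ℕ} [hp : Fact p.Prime] {V H : Subgroup G}
    (hS : FFSetup p V H) {A : Subgroup G} (hAH : A ≤ H) (hAp : Nat.card A = p)
    (hW : Nat.card ↥(⁅V, A⁆) = p) {x : G} (hx : x ∈ ffQ p H)
    (hxA : x ∉ centralizer (A : Set G)) :
    (p = 2 ∨ p = 3) ∧
    Nat.card ↥(⁅V, A ⊔ A.map (MulAut.conj x).toMonoidHom⁆) = p ^ 2 ∧
    (A ⊔ A.map (MulAut.conj x).toMonoidHom) ⊓
      centralizer ((⁅V, A ⊔ A.map (MulAut.conj x).toMonoidHom⁆ : Subgroup G) : Set G) = ⊥ ∧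
    Nonempty (↥(A ⊔ A.map (MulAut.conj x).toMonoidHom) ≃*
      Matrix.SpecialLinearGroup (Fin 2) (ZMod p)) := by
  set A' : Subgroup G := A.map (MulAut.conj x).toMonoidHom with hA'
  set E : Subgroup G := A ⊔ A' with hE
  have hxH : x ∈ H := ffQ_le p H hx
  have hA'H : A' ≤ H := map_conj_le_of_le hxH hAH
  have hEH : E ≤ H := sup_le hAH hA'H
  have hA'p : Nat.card A' = p := (card_map_conj A x).trans hAp
  have hApg : IsPGroup p A := isPGroup_of_card_eq_prime hAp
  have hAQ : A ⊓ ffQ p H = ⊥ := FFSetup.inf_ffQ_eq_bot hApg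
  have hne : A ≠ A' := by
    intro h
    apply hxA
    rw [mem_centralizer_iff]
    intro a ha
    have h1 : ⁅x, a⁆ ∈ ffQ p H := commutatorElement_mem_ffQ hx (hAH ha)
    have h2 : ⁅x, a⁆ ∈ A := by
      have h3 : x * a * x⁻¹ ∈ A' := ⟨a, ha, rfl⟩
      rw [← h] at h3
      rw [commutatorElement_def]
      exact A.mul_mem h3 (A.inv_mem ha)
    have h4 : ⁅x, a⁆ ∈ A ⊓ ffQ p H := ⟨h2, h1⟩
    rw [hAQ, mem_bot] at h4
    exact (commutatorElement_eq_one_iff_mul_comm.mp h4).symm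
  have hEQA : E ≤ ffQ p H ⊔ A := sup_le le_sup_right (map_conj_le_ffQ_sup hAH hx)
  have hfaith : E ⊓ centralizer ((⁅V, E⁆ : Subgroup G) : Set G) = ⊥ :=
    hS.faithful_on_commutator hAH hAp hEH hEQA le_sup_left le_sup_right hAp hA'p hne
  have hxV : x ∈ normalizer (V : Set G) := hS.hHV hxH
  have hW' : Nat.card ↥(⁅V, A'⁆) = p := by
    rw [hA', commutator_map_conj hxV, card_map_conj]; exact hW
  have hU : ⁅V, E⁆ = ⁅V, A⁆ ⊔ ⁅V, A'⁆ :=
    commutator_sup_right_eq (hAH.trans hS.hHV) (hA'H.trans hS.hHV)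
  have hUV : ⁅V, E⁆ ≤ V := Cfsg.Agent.Lead.commutator_le_of_le_normalizer (hEH.trans hS.hHV)
  have hUel : IsElementaryAbelian p (⁅V, E⁆) := IsElementaryAbelian.mono hS.hV hUV
  have hEU : E ≤ normalizer ((⁅V, E⁆ : Subgroup G) : Set G) :=
    Cfsg.Agent.Lead.le_normalizer_commutator_right V E
  have hWne : ⁅V, A⁆ ≠ ⁅V, A'⁆ := by
    intro h
    have hUW : ⁅V, E⁆ = ⁅V, A⁆ := by rw [hU, ← h, sup_idem]
    -- `[V,E] ⊔ A` has order dividing `p ^ 2`, so `A` centralizes `[V, E]`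
    have hAU : A ≤ normalizer ((⁅V, E⁆ : Subgroup G) : Set G) := le_sup_left.trans hEU
    have hc := Cfsg.Agent.Helper17.card_sup_mul_card_inf (⁅V, E⁆) A hAU
    rw [hUW, hW, hAp] at hc
    have hdvd : Nat.card ↥(⁅V, A⁆ ⊔ A) ∣ p ^ 2 := by
      rw [sq, ← hc]; exact Dvd.intro _ rfl
    have hAc : A ≤ centralizer ((⁅V, E⁆ : Subgroup G) : Set G) := by
      intro a ha
      rw [mem_centralizer_iff]
      intro u hu
      rw [hUW] at hu
      have := comm_of_card_dvd_prime_sq hdvd (⟨u, mem_sup_left hu⟩ : ↥(⁅V, A⁆ ⊔ A))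
        ⟨a, mem_sup_right ha⟩
      exact congrArg Subtype.val this
    have hAbot : A ≤ E ⊓ centralizer ((⁅V, E⁆ : Subgroup G) : Set G) := le_inf le_sup_left hAc
    rw [hfaith, le_bot_iff] at hAbot
    rw [hAbot, card_bot] at hAp
    exact hp.out.one_lt.ne hAp
  have hUcard : Nat.card ↥(⁅V, E⁆) = p ^ 2 := by
    have hinf : ⁅V, A⁆ ⊓ ⁅V, A'⁆ = ⊥ := inf_eq_bot_of_card_prime_of_ne hW hW' hWne
    have hnorm : ⁅V, A'⁆ ≤ normalizer ((⁅V, A⁆ : Subgroup G) : Set G) := by
      have h1 : ⁅V, A'⁆ ≤ V := Cfsg.Agent.Lead.commutator_le_of_le_normalizer (hA'H.trans hS.hHV)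
      have h2 : ⁅V, A⁆ ≤ V := Cfsg.Agent.Lead.commutator_le_of_le_normalizer (hAH.trans hS.hHV)
      have h3 : V ≤ centralizer ((⁅V, A⁆ : Subgroup G) : Set G) := by
        intro v hv
        rw [mem_centralizer_iff]
        intro w hw
        exact IsElementaryAbelian.commute hS.hV (h2 hw) hv
      exact (h1.trans h3).trans (centralizer_le_normalizer _)
    have hc := Cfsg.Agent.Helper17.card_sup_mul_card_inf (⁅V, A⁆) (⁅V, A'⁆) hnorm
    rw [hinf, card_bot, mul_one, hW, hW'] at hc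
    rw [hU, hc, sq]
  have hiso : Nonempty (↥E ≃* Matrix.SpecialLinearGroup (Fin 2) (ZMod p)) :=
    nonempty_mulEquiv_SL2_of_two_subgroups hUel hUcard hEU hfaith hE hAp hA'p hne
  refine ⟨?_, hUcard, hfaith, hiso⟩
  by_contra hcon
  push Not at hcon
  obtain ⟨e⟩ := hiso
  have hperf : ⁅E, E⁆ = E :=
    commutator_self_eq_of_mulEquiv_perfect e (SL2_zmod_commutator_eq_top hcon.1 hcon.2)
  have hAcomm : ⁅A, A⁆ ≤ ffQ p H := by
    have : ⁅A, A⁆ = ⊥ := by
      rw [commutator_eq_bot_iff_le_centralizer]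
      intro a ha
      rw [mem_centralizer_iff]
      intro b hb
      have hd : Nat.card A ∣ p ^ 2 := by rw [hAp, sq]; exact Dvd.intro _ rfl
      have := comm_of_card_dvd_prime_sq hd (⟨b, hb⟩ : A) ⟨a, ha⟩
      exact congrArg Subtype.val this
    rw [this]; exact bot_le
  have h1 : ⁅E, E⁆ ≤ ffQ p H :=
    (commutator_mono hEQA hEQA).trans
      (commutator_sup_self_le (hAH.trans (le_normalizer_ffQ p H)) hAcomm)
  rw [hperf] at h1
  have h2 : A ≤ A ⊓ ffQ p H := le_inf le_rfl (le_sup_left.trans h1)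
  rw [hAQ, le_bot_iff] at h2
  rw [h2, card_bot] at hAp
  exact hp.out.one_lt.ne hAp

end Cfsg.Agent.Helper7
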