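import Mathlib
import Cfsg.Prelude.Def_PLocal
import Cfsg.Agent.Helper7.FFModule3
import Cfsg.Agent.Lead.CoprimeAbelian

set_option autoImplicit false
set_option linter.style.haveILetI false
set_option linter.unusedSectionVars false

/-! # Failure of factorization (KS 9.3): the subgroup `[Q, A] A` for a minimal offender `A` -/

namespace Cfsg.Agent.Helper7

open Subgroup Cfsg
open scoped commutatorElement

variable {G : Type*} [Group G]

/-- `A` is a subgroup of order `p` of `H` inducing a transvection on `V`. -/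
structure FFMin (p : ℕ) (V H A : Subgroup G) : Prop where
  hAH : A ≤ H
  hAp : Nat.card A = p
  hW : Nat.card ↥(⁅V, A⁆) = p

theorem FFSetup.ffMin_of_minimal [Finite G] {p : ℕ} [hp : Fact p.Prime] {V H : Subgroup G}
    (hS : FFSetup p V H) {A : Subgroup G} (hAH : A ≤ H) (hA : IsBestOffenderOn p V A)
    (hAV : ⁅V, A⁆ ≠ ⊥)
    (hmin : ∀ B : Subgroup G, B ≤ A → IsBestOffenderOn p V B → ⁅V, B⁆ ≠ ⊥ → B = A) :
    FFMin p V H A := by
  obtain ⟨h1, h2, _⟩ := hS.minimal_offender hAH hA hAV hmin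
  exact ⟨hAH, h1, h2⟩

theorem FFMin.map_conj {p : ℕ} {V H A : Subgroup G} (hA : FFMin p V H A)
    (hHV : H ≤ normalizer (V : Set G)) {x : G} (hx : x ∈ H) :
    FFMin p V H (A.map (MulAut.conj x).toMonoidHom) := by
  refine ⟨map_conj_le_of_le hx hA.hAH, (card_map_conj A x).trans hA.hAp, ?_⟩
  rw [commutator_map_conj (hHV hx), card_map_conj]
  exact hA.hW

theorem map_conj_map_conj (A : Subgroup G) (x y : G) :
    (A.map (MulAut.conj x).toMonoidHom).map (MulAut.conj y).toMonoidHom =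
      A.map (MulAut.conj (y * x)).toMonoidHom := by
  rw [Subgroup.map_map]
  congr 1
  ext g
  simp [MulAut.conj_apply, mul_assoc]

theorem map_conj_one (A : Subgroup G) : A.map (MulAut.conj (1 : G)).toMonoidHom = A := by
  ext g
  simp

theorem map_conj_eq_self_of_mem {A : Subgroup G} {a : G} (ha : a ∈ A) :
    A.map (MulAut.conj a).toMonoidHom = A :=
  map_conj_eq_of_mem_normalizer (le_normalizer ha)

/-- A subgroup of order `p` normalizing a subgroup of order `p` centralizes it. -/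
theorem le_centralizer_of_card_prime [Finite G] {p : ℕ} [hp : Fact p.Prime] {X B : Subgroup G}
    (hX : Nat.card X = p) (hB : Nat.card B = p) (hBX : B ≤ normalizer (X : Set G)) :
    B ≤ centralizer (X : Set G) := by
  have hc := Cfsg.Agent.Helper17.card_sup_mul_card_inf X B hBX
  rw [hX, hB] at hc
  have hdvd : Nat.card ↥(X ⊔ B) ∣ p ^ 2 := by
    rw [sq, ← hc]; exact Dvd.intro _ rfl
  intro b hb
  rw [mem_centralizer_iff]
  intro u hu
  have := comm_of_card_dvd_prime_sq hdvd (⟨u, mem_sup_left hu⟩ : ↥(X ⊔ B)) ⟨b, mem_sup_right hb⟩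
  exact congrArg Subtype.val this

theorem FFMin.le_centralizer_commutator [Finite G] {p : ℕ} [hp : Fact p.Prime]
    {V H A : Subgroup G} (hA : FFMin p V H A) :
    A ≤ centralizer ((⁅V, A⁆ : Subgroup G) : Set G) :=
  le_centralizer_of_card_prime hA.hW hA.hAp (Cfsg.Agent.Lead.le_normalizer_commutator_right V A)

theorem FFMin.ne_bot {p : ℕ} [hp : Fact p.Prime] {V H A : Subgroup G} (hA : FFMin p V H A) :
    A ≠ ⊥ := by
  intro h
  have := hA.hAp
  rw [h, card_bot] at this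
  exact hp.out.one_lt.ne this

/-- Two distinct `Q`-conjugate transvection subgroups have independent centres and generate a
group acting faithfully on the join of the centres. -/
theorem FFSetup.conj_pair [Finite G] {p : ℕ} [hp : Fact p.Prime] {V H : Subgroup G}
    (hS : FFSetup p V H) {B : Subgroup G} (hB : FFMin p V H B) {x : G} (hx : x ∈ ffQ p H)
    (hne : B.map (MulAut.conj x).toMonoidHom ≠ B) :
    ⁅V, B⁆ ⊓ ⁅V, B.map (MulAut.conj x).toMonoidHom⁆ = ⊥ ∧
    (B ⊔ B.map (MulAut.conj x).toMonoidHom) ⊓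
      centralizer ((⁅V, B⁆ ⊔ ⁅V, B.map (MulAut.conj x).toMonoidHom⁆ : Subgroup G) : Set G) = ⊥ := by
  have hxB : x ∉ centralizer (B : Set G) := by
    intro h
    apply hne
    ext g
    constructor
    · rintro ⟨b, hb, rfl⟩
      have : (MulAut.conj x).toMonoidHom b = b := by
        simp only [MulEquiv.toMonoidHom_eq_coe, MonoidHom.coe_coe, MulAut.conj_apply]
        rw [← (mem_centralizer_iff.mp h) b hb]; group
      rw [this]; exact hb
    · intro hg
      refine ⟨g, hg, ?_⟩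
      simp only [MulEquiv.toMonoidHom_eq_coe, MonoidHom.coe_coe, MulAut.conj_apply]
      rw [← (mem_centralizer_iff.mp h) g hg]; group
  obtain ⟨_, h2, h3, _⟩ := hS.two_conjugates hB.hAH hB.hAp hB.hW hx hxB
  have hxH : x ∈ H := ffQ_le p H hx
  have hB' := hB.map_conj hS.hHV hxH
  have hU : ⁅V, B ⊔ B.map (MulAut.conj x).toMonoidHom⁆ =
      ⁅V, B⁆ ⊔ ⁅V, B.map (MulAut.conj x).toMonoidHom⁆ :=
    commutator_sup_right_eq (hB.hAH.trans hS.hHV) (hB'.hAH.trans hS.hHV)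
  rw [hU] at h2 h3
  refine ⟨?_, h3⟩
  by_contra hcon
  have heq : ⁅V, B⁆ = ⁅V, B.map (MulAut.conj x).toMonoidHom⁆ := by
    by_contra hne'
    exact hcon (inf_eq_bot_of_card_prime_of_ne hB.hW hB'.hW hne')
  rw [← heq, sup_idem, hB.hW] at h2
  have := hp.out.one_lt
  nlinarith


/-- The `Q`-conjugates of `A`, `Q = O_{p'}(H)`. -/
def ffConj (p : ℕ) (H A : Subgroup G) : Set (Subgroup G) :=
  {B | ∃ q ∈ ffQ p H, B = A.map (MulAut.conj q).toMonoidHom}

/-- `E_A = [Q, A] A`. -/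
abbrev ffE (p : ℕ) (H A : Subgroup G) : Subgroup G := ⁅ffQ p H, A⁆ ⊔ A

theorem self_mem_ffConj (p : ℕ) (H A : Subgroup G) : A ∈ ffConj p H A :=
  ⟨1, one_mem _, (map_conj_one A).symm⟩

theorem FFMin.of_mem_ffConj {p : ℕ} {V H A B : Subgroup G} (hA : FFMin p V H A)
    (hHV : H ≤ normalizer (V : Set G)) (hB : B ∈ ffConj p H A) : FFMin p V H B := by
  obtain ⟨q, hq, rfl⟩ := hB
  exact hA.map_conj hHV (ffQ_le p H hq)

theorem ffConj_map_conj_of_mem_ffQ {p : ℕ} {H A B : Subgroup G} (hB : B ∈ ffConj p H A) {x : G}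
    (hx : x ∈ ffQ p H) : B.map (MulAut.conj x).toMonoidHom ∈ ffConj p H A := by
  obtain ⟨q, hq, rfl⟩ := hB
  exact ⟨x * q, mul_mem hx hq, map_conj_map_conj A q x⟩

theorem ffConj_map_conj_of_mem {p : ℕ} {H A B : Subgroup G} (hAH : A ≤ H)
    (hB : B ∈ ffConj p H A) {a : G} (ha : a ∈ A) :
    B.map (MulAut.conj a).toMonoidHom ∈ ffConj p H A := by
  obtain ⟨q, hq, rfl⟩ := hB
  refine ⟨a * q * a⁻¹, conj_mem_of_mem_normalizer (le_normalizer_ffQ p H (hAH ha)) hq, ?_⟩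
  rw [map_conj_map_conj]
  have h1 : A.map (MulAut.conj (a * q * a⁻¹)).toMonoidHom =
      (A.map (MulAut.conj a).toMonoidHom).map (MulAut.conj (a * q * a⁻¹)).toMonoidHom := by
    rw [map_conj_eq_self_of_mem ha]
  rw [h1, map_conj_map_conj]
  congr 3
  group

theorem ffConj_map_conj_of_mem_mem {p : ℕ} {H A B B' : Subgroup G} (hAH : A ≤ H)
    (hB : B ∈ ffConj p H A) (hB' : B' ∈ ffConj p H A) {b : G} (hb : b ∈ B) :
    B'.map (MulAut.conj b).toMonoidHom ∈ ffConj p H A := by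
  obtain ⟨q, hq, rfl⟩ := hB
  obtain ⟨a, ha, rfl⟩ := hb
  have h1 := ffConj_map_conj_of_mem_ffQ hB' (inv_mem hq)
  have h2 := ffConj_map_conj_of_mem hAH h1 ha
  have h3 := ffConj_map_conj_of_mem_ffQ h2 hq
  rw [map_conj_map_conj, map_conj_map_conj] at h3
  have : (MulAut.conj q).toMonoidHom a = q * a * q⁻¹ := by
    simp [MulAut.conj_apply]
  rw [this]
  exact h3

theorem FFSetup.ffConj_pair [Finite G] {p : ℕ} [hp : Fact p.Prime] {V H : Subgroup G}
    (hS : FFSetup p V H) {A B B' : Subgroup G} (hA : FFMin p V H A)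
    (hB : B ∈ ffConj p H A) (hB' : B' ∈ ffConj p H A) (hne : B ≠ B') :
    ⁅V, B⁆ ⊓ ⁅V, B'⁆ = ⊥ ∧
    (B ⊔ B') ⊓ centralizer ((⁅V, B⁆ ⊔ ⁅V, B'⁆ : Subgroup G) : Set G) = ⊥ := by
  have hBm : FFMin p V H B := hA.of_mem_ffConj hS.hHV hB
  obtain ⟨q, hq, rfl⟩ := hB
  obtain ⟨q', hq', rfl⟩ := hB'
  have hx : q' * q⁻¹ ∈ ffQ p H := mul_mem hq' (inv_mem hq)
  have e : (A.map (MulAut.conj q).toMonoidHom).map (MulAut.conj (q' * q⁻¹)).toMonoidHom =
      A.map (MulAut.conj q').toMonoidHom := by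
    rw [map_conj_map_conj]
    congr 3
    group
  have := hS.conj_pair hBm hx (by rw [e]; exact hne.symm)
  rwa [e] at this

theorem le_ffE_of_mem_ffConj {p : ℕ} {H A B : Subgroup G} (hB : B ∈ ffConj p H A) :
    B ≤ ffE p H A := by
  obtain ⟨q, hq, rfl⟩ := hB
  rintro _ ⟨a, ha, rfl⟩
  have : (MulAut.conj q).toMonoidHom a = ⁅q, a⁆ * a := by
    simp only [MulEquiv.toMonoidHom_eq_coe, MonoidHom.coe_coe, MulAut.conj_apply,
      commutatorElement_def]
    group
  rw [this]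
  exact mul_mem (mem_sup_left (commutator_mem_commutator hq ha)) (mem_sup_right ha)

theorem ffE_eq_sSup (p : ℕ) (H A : Subgroup G) : ffE p H A = sSup (ffConj p H A) := by
  apply le_antisymm
  · apply sup_le
    · rw [commutator_le]
      intro q hq a ha
      have h0 : A.map (MulAut.conj q).toMonoidHom ∈ ffConj p H A := ⟨q, hq, rfl⟩
      have h1 : q * a * q⁻¹ ∈ sSup (ffConj p H A) :=
        (le_sSup h0) (show q * a * q⁻¹ ∈ A.map (MulAut.conj q).toMonoidHom from ⟨a, ha, rfl⟩)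
      have h2 : a ∈ sSup (ffConj p H A) := (le_sSup (self_mem_ffConj p H A)) ha
      rw [commutatorElement_def]
      exact mul_mem h1 (inv_mem h2)
    · exact le_sSup (self_mem_ffConj p H A)
  · exact sSup_le (fun B hB => le_ffE_of_mem_ffConj hB)

theorem ffE_le {p : ℕ} {H A : Subgroup G} (hAH : A ≤ H) : ffE p H A ≤ H :=
  sup_le ((commutator_mono (ffQ_le p H) hAH).trans (Cfsg.Agent.Helper10.commutator_self_le H)) hAH

theorem ffE_le_sup (p : ℕ) {H A : Subgroup G} (hAH : A ≤ H) : ffE p H A ≤ ffQ p H ⊔ A :=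
  sup_le_sup_right
    (Cfsg.Agent.Lead.commutator_le_of_le_normalizer (hAH.trans (le_normalizer_ffQ p H))) A


theorem exists_mem_ne_one_of_ne_bot {A : Subgroup G} (h : A ≠ ⊥) : ∃ a ∈ A, a ≠ 1 := by
  by_contra hcon
  push Not at hcon
  exact h ((eq_bot_iff_forall A).2 hcon)

/-- The product of an element of the centre of `B` and a nontrivial element of the centre of
`B' ≠ B` is a `B`-conjugate of the latter. -/
theorem FFSetup.mul_eq_conj_of_mem_centers [Finite G] {p : ℕ} [hp : Fact p.Prime]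
    {V H : Subgroup G} (hS : FFSetup p V H) {A B B' : Subgroup G} (hA : FFMin p V H A)
    (hB : B ∈ ffConj p H A) (hB' : B' ∈ ffConj p H A) (hne : B ≠ B') {w w' : G}
    (hw : w ∈ ⁅V, B⁆) (hw' : w' ∈ ⁅V, B'⁆) (hw'1 : w' ≠ 1) :
    ∃ b ∈ B, w * w' = b * w' * b⁻¹ := by
  have hBm : FFMin p V H B := hA.of_mem_ffConj hS.hHV hB
  have hB'm : FFMin p V H B' := hA.of_mem_ffConj hS.hHV hB'
  obtain ⟨-, hfaith⟩ := hS.ffConj_pair hA hB hB' hne
  obtain ⟨b₀, hb₀, hb₀1⟩ := exists_mem_ne_one_of_ne_bot hBm.ne_bot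
  have hBz : zpowers b₀ = B := eq_zpowers_of_card_prime hBm.hAp hb₀ hb₀1
  have hw'V : w' ∈ V :=
    Cfsg.Agent.Lead.commutator_le_of_le_normalizer (hB'm.hAH.trans hS.hHV) hw'
  set w₀ : G := ⁅b₀, w'⁆ with hw₀def
  have hw₀ : w₀ ∈ ⁅V, B⁆ := by
    rw [commutator_comm]; exact commutator_mem_commutator hb₀ hw'V
  have hBc : B ≤ centralizer ((⁅V, B⁆ : Subgroup G) : Set G) := hBm.le_centralizer_commutator
  have hw₀1 : w₀ ≠ 1 := by
    intro h
    have hcomm : b₀ * w' = w' * b₀ := commutatorElement_eq_one_iff_mul_comm.mp h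
    have hz' : zpowers w' = ⁅V, B'⁆ := eq_zpowers_of_card_prime hB'm.hW hw' hw'1
    have h1 : B ≤ centralizer ((⁅V, B'⁆ : Subgroup G) : Set G) := by
      rw [← hBz, ← hz', centralizer_zpowers_eq, zpowers_le, mem_centralizer_singleton_iff]
      exact hcomm
    have h2 : B ≤ centralizer ((⁅V, B⁆ ⊔ ⁅V, B'⁆ : Subgroup G) : Set G) := by
      rw [le_centralizer_iff]
      exact sup_le (le_centralizer_iff.mp hBc) (le_centralizer_iff.mp h1)
    have h3 : B ≤ (B ⊔ B') ⊓ centralizer ((⁅V, B⁆ ⊔ ⁅V, B'⁆ : Subgroup G) : Set G) :=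
      le_inf le_sup_left h2
    rw [hfaith, le_bot_iff] at h3
    exact hBm.ne_bot h3
  have hz : zpowers w₀ = ⁅V, B⁆ := eq_zpowers_of_card_prime hBm.hW hw₀ hw₀1
  have hwz : w ∈ zpowers w₀ := by rw [hz]; exact hw
  rw [← mem_powers_iff_mem_zpowers, Submonoid.mem_powers_iff] at hwz
  obtain ⟨n, hn⟩ := hwz
  have hcomm : b₀ * w₀ = w₀ * b₀ := ((mem_centralizer_iff.mp (hBc hb₀)) w₀ hw₀).symm
  have h : b₀ * w' * b₀⁻¹ = w₀ * w' := by rw [hw₀def, commutatorElement_def]; group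
  have hfin := conj_pow_mul_eq hcomm h n
  rw [hn] at hfin
  exact ⟨b₀ ^ n, B.pow_mem hb₀ n, hfin.symm⟩

/-- The union of the centres `[V, B]`, `B` a `Q`-conjugate of `A`, is a subgroup. -/
def ffCenters (p : ℕ) (V H A : Subgroup G) [Finite G] [Fact p.Prime] (hS : FFSetup p V H)
    (hA : FFMin p V H A) : Subgroup G where
  carrier := {u | ∃ B ∈ ffConj p H A, u ∈ ⁅V, B⁆}
  one_mem' := ⟨A, self_mem_ffConj p H A, one_mem _⟩
  inv_mem' := by
    rintro u ⟨B, hB, hu⟩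
    exact ⟨B, hB, inv_mem hu⟩
  mul_mem' := by
    rintro u u' ⟨B, hB, hu⟩ ⟨B', hB', hu'⟩
    by_cases hne : B = B'
    · subst hne
      exact ⟨B, hB, mul_mem hu hu'⟩
    · by_cases hu'1 : u' = 1
      · rw [hu'1, mul_one]; exact ⟨B, hB, hu⟩
      · obtain ⟨b, hb, hbu⟩ := hS.mul_eq_conj_of_mem_centers hA hB hB' hne hu hu' hu'1
        refine ⟨B'.map (MulAut.conj b).toMonoidHom,
          ffConj_map_conj_of_mem_mem hA.hAH hB hB' hb, ?_⟩
        have hBm : FFMin p V H B := hA.of_mem_ffConj hS.hHV hB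
        rw [commutator_map_conj (hS.hHV (hBm.hAH hb)), hbu]
        exact ⟨u', hu', rfl⟩

theorem mem_ffCenters_iff {p : ℕ} {V H A : Subgroup G} [Finite G] [Fact p.Prime]
    (hS : FFSetup p V H) (hA : FFMin p V H A) {u : G} :
    u ∈ ffCenters p V H A hS hA ↔ ∃ B ∈ ffConj p H A, u ∈ ⁅V, B⁆ := Iff.rfl


theorem commutator_sSup_le {V W : Subgroup G} {𝒮 : Set (Subgroup G)} (hWV : W ≤ V)
    (h : ∀ B ∈ 𝒮, ⁅V, B⁆ ≤ W) : ⁅V, sSup 𝒮⁆ ≤ W := by
  have hN : sSup 𝒮 ≤ normalizer (W : Set G) :=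
    sSup_le (fun B hB => le_normalizer_of_commutator_le hWV (h B hB))
  have hcl : sSup 𝒮 = closure (⋃ i : 𝒮, ((i : Subgroup G) : Set G)) := by
    rw [sSup_eq_iSup', iSup_eq_closure]
  rw [commutator_comm]
  rw [hcl] at hN ⊢
  apply Cfsg.Agent.Helper10.commutator_closure_le
  · exact forall_conj_mem_of_le_normalizer hN
  · intro s hs y hy
    rw [Set.mem_iUnion] at hs
    obtain ⟨⟨B, hB⟩, hsB⟩ := hs
    apply h B hB
    rw [commutator_comm]
    exact commutator_mem_commutator hsB hy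

theorem ffCenters_le {p : ℕ} {V H A : Subgroup G} [Finite G] [Fact p.Prime]
    (hS : FFSetup p V H) (hA : FFMin p V H A) : ffCenters p V H A hS hA ≤ V := by
  rintro u ⟨B, hB, hu⟩
  exact Cfsg.Agent.Lead.commutator_le_of_le_normalizer
    ((hA.of_mem_ffConj hS.hHV hB).hAH.trans hS.hHV) hu

/-- Every element of `[V, E_A]` lies in the centre `[V, B]` of some `Q`-conjugate `B` of `A`. -/
theorem FFSetup.exists_mem_center [Finite G] {p : ℕ} [hp : Fact p.Prime] {V H : Subgroup G}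
    (hS : FFSetup p V H) {A : Subgroup G} (hA : FFMin p V H A) {u : G}
    (hu : u ∈ ⁅V, ffE p H A⁆) : ∃ B ∈ ffConj p H A, u ∈ ⁅V, B⁆ := by
  rw [← mem_ffCenters_iff hS hA]
  have h : ⁅V, ffE p H A⁆ ≤ ffCenters p V H A hS hA := by
    rw [ffE_eq_sSup]
    apply commutator_sSup_le (ffCenters_le hS hA)
    intro B hB u hu
    exact ⟨B, hB, hu⟩
  exact h hu


/-- `A` does not centralize `Q`: some `q ∈ Q` does not centralize `A`. -/
theorem FFSetup.exists_mem_ffQ_not_mem_centralizer [Finite G] {p : ℕ} [hp : Fact p.Prime]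
    {V H : Subgroup G} (hS : FFSetup p V H) {A : Subgroup G} (hA : FFMin p V H A) :
    ∃ q ∈ ffQ p H, q ∉ centralizer (A : Set G) := by
  by_contra hcon
  push Not at hcon
  have h1 : ffQ p H ≤ centralizer (A : Set G) := hcon
  exact hA.ne_bot (hS.eq_bot_of_le_centralizer_ffQ hA.hAH (isPGroup_of_card_eq_prime hA.hAp)
    (le_centralizer_iff.mp h1))

/-- Two members of `ffConj` one of which normalizes the other are equal. -/
theorem FFSetup.eq_of_le_normalizer [Finite G] {p : ℕ} [hp : Fact p.Prime] {V H : Subgroup G}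
    (hS : FFSetup p V H) {A B B' : Subgroup G} (hA : FFMin p V H A) (hB : B ∈ ffConj p H A)
    (hB' : B' ∈ ffConj p H A) (hn : B' ≤ normalizer (B : Set G)) : B = B' := by
  have hBm : FFMin p V H B := hA.of_mem_ffConj hS.hHV hB
  have hB'm : FFMin p V H B' := hA.of_mem_ffConj hS.hHV hB'
  have h1 : IsPGroup p (B ⊔ B' : Subgroup G) :=
    IsPGroup.to_sup_of_normal_left' (isPGroup_of_card_eq_prime hBm.hAp)
      (isPGroup_of_card_eq_prime hB'm.hAp) hn
  have h2 : B ⊔ B' ≤ ffQ p H ⊔ A :=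
    sup_le ((le_ffE_of_mem_ffConj hB).trans (ffE_le_sup p hA.hAH))
      ((le_ffE_of_mem_ffConj hB').trans (ffE_le_sup p hA.hAH))
  have h3 := hS.eq_of_isPGroup_of_le_sup hA.hAH hA.hAp h1 h2 le_sup_left hBm.hAp
  have h4 := hS.eq_of_isPGroup_of_le_sup hA.hAH hA.hAp h1 h2 le_sup_right hB'm.hAp
  rw [← h3, h4]

theorem FFSetup.card_commutator_ffE [Finite G] {p : ℕ} [hp : Fact p.Prime] {V H : Subgroup G}
    (hS : FFSetup p V H) {A : Subgroup G} (hA : FFMin p V H A) :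
    Nat.card ↥(⁅V, ffE p H A⁆) = p ^ 2 := by
  obtain ⟨q₀, hq₀, hq₀A⟩ := hS.exists_mem_ffQ_not_mem_centralizer hA
  obtain ⟨-, hU₀card, -, -⟩ := hS.two_conjugates hA.hAH hA.hAp hA.hW hq₀ hq₀A
  set A' : Subgroup G := A.map (MulAut.conj q₀).toMonoidHom with hA'
  have hA'mem : A' ∈ ffConj p H A := ⟨q₀, hq₀, rfl⟩
  set U : Subgroup G := ⁅V, ffE p H A⁆ with hU
  have hEH : ffE p H A ≤ H := ffE_le hA.hAH
  have hUV : U ≤ V := Cfsg.Agent.Lead.commutator_le_of_le_normalizer (hEH.trans hS.hHV)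
  have hU₀U : ⁅V, A ⊔ A'⁆ ≤ U :=
    commutator_mono le_rfl (sup_le (le_ffE_of_mem_ffConj (self_mem_ffConj p H A))
      (le_ffE_of_mem_ffConj hA'mem))
  by_contra hcard
  have hne : ⁅V, A ⊔ A'⁆ ≠ U := by
    intro h
    rw [h] at hU₀card
    exact hcard hU₀card
  have hUp : IsPGroup p U := (IsElementaryAbelian.isPGroup hS.hV).to_le hUV
  have h3 : p * p ^ 2 ≤ Nat.card U := by
    have := IsPGroup.mul_card_le_of_lt hUp hU₀U hne
    rwa [hU₀card] at this
  obtain ⟨a, ha, ha1⟩ := exists_mem_ne_one_of_ne_bot hA.ne_bot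
  have hAz : zpowers a = A := eq_zpowers_of_card_prime hA.hAp ha ha1
  have haU : a ∈ normalizer (U : Set G) :=
    Cfsg.Agent.Lead.le_normalizer_commutator_right V (ffE p H A) (mem_sup_right ha)
  have hUc : ∀ v ∈ U, ∀ w ∈ U, v * w = w * v := fun v hv w hw =>
    IsElementaryAbelian.commute hS.hV (hUV hv) (hUV hw)
  have h4 := card_commutator_zpowers_mul U hUc a haU
  rw [hAz] at h4
  have h5 : Nat.card ↥(⁅U, A⁆) ≤ p := by
    rw [← hA.hW]
    exact Nat.le_of_dvd Nat.card_pos (card_dvd_of_le (commutator_mono hUV le_rfl))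
  have h6 : p ^ 2 ≤ Nat.card ↥(U ⊓ centralizer (A : Set G)) := by
    have h7 : p * p ^ 2 ≤ p * Nat.card ↥(U ⊓ centralizer (A : Set G)) := by
      calc p * p ^ 2 ≤ Nat.card U := h3
        _ = Nat.card ↥(⁅U, A⁆) * Nat.card ↥(U ⊓ centralizer (A : Set G)) := h4.symm
        _ ≤ p * Nat.card ↥(U ⊓ centralizer (A : Set G)) := Nat.mul_le_mul_right _ h5
    exact Nat.le_of_mul_le_mul_left h7 hp.out.pos
  have h8 : ¬ (U ⊓ centralizer (A : Set G) ≤ ⁅V, A⁆) := by
    intro hle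
    have h9 := Nat.le_of_dvd Nat.card_pos (card_dvd_of_le hle)
    rw [hA.hW] at h9
    have := hp.out.one_lt
    nlinarith
  obtain ⟨u, huC, huW⟩ := SetLike.not_le_iff_exists.mp h8
  obtain ⟨B, hB, huB⟩ := hS.exists_mem_center hA huC.1
  have hBA : B ≠ A := by
    rintro rfl
    exact huW huB
  have hu1 : u ≠ 1 := by
    rintro rfl
    exact huW (one_mem _)
  have hBa : B.map (MulAut.conj a).toMonoidHom ∈ ffConj p H A :=
    ffConj_map_conj_of_mem hA.hAH hB ha
  have hua : a * u * a⁻¹ = u := by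
    have := (mem_centralizer_iff.mp huC.2) a ha
    rw [this]; group
  have huBa : u ∈ ⁅V, B.map (MulAut.conj a).toMonoidHom⁆ := by
    rw [commutator_map_conj (hS.hHV (hA.hAH ha))]
    exact ⟨u, huB, hua⟩
  have hBeq : B = B.map (MulAut.conj a).toMonoidHom := by
    by_contra hne'
    obtain ⟨hinf, -⟩ := hS.ffConj_pair hA hB hBa hne'
    have : u ∈ ⁅V, B⁆ ⊓ ⁅V, B.map (MulAut.conj a).toMonoidHom⁆ := ⟨huB, huBa⟩
    rw [hinf, mem_bot] at this
    exact hu1 this
  have haB : a ∈ normalizer (B : Set G) :=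
    Cfsg.Agent.Helper14.mem_normalizer_iff_map_cj.mpr hBeq.symm
  have hAB : A ≤ normalizer (B : Set G) := by
    rw [← hAz]; exact (zpowers_le (H := normalizer (B : Set G))).2 haB
  exact hBA (hS.eq_of_le_normalizer hA hB (self_mem_ffConj p H A) hAB)

end Cfsg.Agent.Helper7
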