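import Mathlib
import Cfsg.Prelude.Def_PLocal
import Cfsg.Agent.Helper7.FFModule4
import Cfsg.Agent.Helper2.SLCard

set_option autoImplicit false
set_option linter.style.haveILetI false
set_option linter.unusedSectionVars false

/-! # Failure of factorization (KS 9.3): `E_A = [Q, A] A ≅ SL₂(p)` and `V = [V, E_A] × C_V(E_A)` -/

namespace Cfsg.Agent.Helper7

open Subgroup Cfsg
open scoped commutatorElement

variable {G : Type*} [Group G]

/-- `|SL₂(p)| = p (p² - 1)`. -/
theorem card_SL2_zmod (p : ℕ) [hp : Fact p.Prime] :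
    Nat.card (Matrix.SpecialLinearGroup (Fin 2) (ZMod p)) = p * (p ^ 2 - 1) := by
  have h1 := Cfsg.Agent.Helper2.card_SL_mul_card_units (ι := Fin 2) (F := ZMod p)
  have h2 : Nat.card (GL (Fin 2) (ZMod p)) = (p ^ 2 - 1) * (p ^ 2 - p) := by
    have := Matrix.card_GL_field (𝔽 := ZMod p) 2
    rw [this, Fin.prod_univ_two]
    simp [ZMod.card]
  have h3 : Nat.card (ZMod p)ˣ = p - 1 := by
    have := Cfsg.Agent.Helper2.card_units_field (F := ZMod p)
    rw [this, ZMod.card]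
  rw [h2, h3] at h1
  have hp2 := hp.out.two_le
  have h4 : p ^ 2 - p = p * (p - 1) := by
    rw [Nat.mul_sub, mul_one, sq]
  rw [h4, ← mul_assoc] at h1
  have hpos : 0 < p - 1 := by omega
  have := Nat.eq_of_mul_eq_mul_right hpos h1
  rw [this, mul_comm]

/-- A group generated by a family of subgroups of order `p` (two of them distinct) and acting
faithfully on an elementary abelian group of order `p ^ 2` is isomorphic to `SL₂(p)`. -/
theorem nonempty_mulEquiv_SL2_of_family [Finite G] {p : ℕ} [hp : Fact p.Prime]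
    {U E : Subgroup G} {𝒮 : Set (Subgroup G)} (hU : IsElementaryAbelian p U)
    (hcard : Nat.card U = p ^ 2)
    (hEU : E ≤ normalizer (U : Set G)) (hfaith : E ⊓ centralizer (U : Set G) = ⊥)
    (hE : E = sSup 𝒮) (h𝒮 : ∀ B ∈ 𝒮, Nat.card B = p) {A₁ A₂ : Subgroup G} (h₁ : A₁ ∈ 𝒮)
    (h₂ : A₂ ∈ 𝒮) (hne : A₁ ≠ A₂) :
    Nonempty (↥E ≃* Matrix.SpecialLinearGroup (Fin 2) (ZMod p)) := by
  obtain ⟨φ, hφ⟩ := exists_injective_hom_GL U E hU hcard hEU hfaith
  have hle : ∀ B ∈ 𝒮, B ≤ E := fun B hB => hE ▸ le_sSup hB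
  have hA₁E : A₁ ≤ E := hle A₁ h₁
  have hA₂E : A₂ ≤ E := hle A₂ h₂
  have himg : ∀ B : Subgroup G, B ≤ E → Nat.card B = p →
      ∃ R : Sylow p (GL (Fin 2) (ZMod p)), (R : Subgroup _) = (B.subgroupOf E).map φ := by
    intro B hBE hBp
    have hc1 : Nat.card (B.subgroupOf E) = p := by
      rw [← hBp]; exact Nat.card_congr (subgroupOfEquivOfLe hBE).toEquiv
    have hc2 : Nat.card ((B.subgroupOf E).map φ) = p :=
      ((Nat.card_congr ((B.subgroupOf E).equivMapOfInjective φ hφ).toEquiv).symm).trans hc1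
    have hpg : IsPGroup p ((B.subgroupOf E).map φ) := isPGroup_of_card_eq_prime hc2
    obtain ⟨R, hR⟩ := hpg.exists_le_sylow
    refine ⟨R, ?_⟩
    have hcard := Cfsg.Agent.Helper25.TwoSylow.card_sylow_GL2' p R
    exact (eq_of_le_of_card_ge hR (by rw [hcard, hc2])).symm
  obtain ⟨R₁, hR₁⟩ := himg A₁ hA₁E (h𝒮 A₁ h₁)
  obtain ⟨R₂, hR₂⟩ := himg A₂ hA₂E (h𝒮 A₂ h₂)
  have hRne : R₁ ≠ R₂ := by
    intro hcon
    apply hne
    have h1 : (A₁.subgroupOf E).map φ = (A₂.subgroupOf E).map φ := by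
      rw [← hR₁, ← hR₂, hcon]
    have h2 := Subgroup.map_injective hφ h1
    rw [subgroupOf_inj, inf_of_le_left hA₁E, inf_of_le_left hA₂E] at h2
    exact h2
  have hsup := Cfsg.Agent.Helper25.TwoSylow.sylow_sup_sylow p R₁ R₂ hRne
  have hge : Cfsg.Agent.Helper25.TwoSylow.slRange p ≤ φ.range := by
    rw [← hsup, hR₁, hR₂]
    exact sup_le (map_le_range _ _) (map_le_range _ _)
  have hle' : φ.range ≤ Cfsg.Agent.Helper25.TwoSylow.slRange p := by
    have hM : E ≤ ((Cfsg.Agent.Helper25.TwoSylow.slRange p).comap φ).map E.subtype := by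
      refine le_trans hE.le ?_
      apply sSup_le
      intro B hB b hb
      refine ⟨⟨b, hle B hB hb⟩, ?_, rfl⟩
      rw [SetLike.mem_coe, mem_comap]
      apply Cfsg.Agent.Helper25.TwoSylow.mem_slRange_of_det
      apply Cfsg.Agent.Helper25.TwoSylow.det_eq_one_of_pow p (k := 1)
      rw [pow_one, ← map_pow]
      have hbp : b ^ p = 1 := by
        have := pow_card_eq_one' (G := ↥B) (x := ⟨b, hb⟩)
        rw [h𝒮 B hB] at this
        exact congrArg Subtype.val this
      have : (⟨b, hle B hB hb⟩ : ↥E) ^ p = 1 := Subtype.ext (by simpa using hbp)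
      rw [this, map_one]
    rintro _ ⟨e, rfl⟩
    obtain ⟨e', he', hee'⟩ := hM e.2
    have : e' = e := Subtype.ext hee'
    rw [← this]
    exact he'
  have hrange : φ.range = Cfsg.Agent.Helper25.TwoSylow.slRange p := le_antisymm hle' hge
  refine ⟨?_⟩
  exact ((MonoidHom.ofInjective hφ).trans (MulEquiv.subgroupCongr hrange)).trans
    (MonoidHom.ofInjective Matrix.SpecialLinearGroup.toGL_injective).symm


theorem FFSetup.map_conj_ne_of_not_mem_centralizer [Finite G] {p : ℕ} [hp : Fact p.Prime]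
    {V H : Subgroup G} (hS : FFSetup p V H) {A : Subgroup G} (hA : FFMin p V H A) {x : G}
    (hx : x ∈ ffQ p H) (hxA : x ∉ centralizer (A : Set G)) :
    A ≠ A.map (MulAut.conj x).toMonoidHom := by
  intro h
  obtain ⟨-, h2, -, -⟩ := hS.two_conjugates hA.hAH hA.hAp hA.hW hx hxA
  rw [← h, sup_idem, hA.hW] at h2
  have := hp.out.one_lt
  nlinarith

/-- `E_A` acts faithfully on `[V, E_A]`. -/
theorem FFSetup.ffE_faithful [Finite G] {p : ℕ} [hp : Fact p.Prime] {V H : Subgroup G}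
    (hS : FFSetup p V H) {A : Subgroup G} (hA : FFMin p V H A) :
    ffE p H A ⊓ centralizer ((⁅V, ffE p H A⁆ : Subgroup G) : Set G) = ⊥ := by
  obtain ⟨q₀, hq₀, hq₀A⟩ := hS.exists_mem_ffQ_not_mem_centralizer hA
  have hne := hS.map_conj_ne_of_not_mem_centralizer hA hq₀ hq₀A
  have hA' : A.map (MulAut.conj q₀).toMonoidHom ∈ ffConj p H A := ⟨q₀, hq₀, rfl⟩
  exact hS.faithful_on_commutator hA.hAH hA.hAp (ffE_le hA.hAH) (ffE_le_sup p hA.hAH)
    (le_ffE_of_mem_ffConj (self_mem_ffConj p H A)) (le_ffE_of_mem_ffConj hA') hA.hAp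
    (hA.of_mem_ffConj hS.hHV hA').hAp hne

theorem FFSetup.ffE_mulEquiv [Finite G] {p : ℕ} [hp : Fact p.Prime] {V H : Subgroup G}
    (hS : FFSetup p V H) {A : Subgroup G} (hA : FFMin p V H A) :
    (p = 2 ∨ p = 3) ∧
      Nonempty (↥(ffE p H A) ≃* Matrix.SpecialLinearGroup (Fin 2) (ZMod p)) := by
  obtain ⟨q₀, hq₀, hq₀A⟩ := hS.exists_mem_ffQ_not_mem_centralizer hA
  have hne := hS.map_conj_ne_of_not_mem_centralizer hA hq₀ hq₀A
  have hA' : A.map (MulAut.conj q₀).toMonoidHom ∈ ffConj p H A := ⟨q₀, hq₀, rfl⟩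
  obtain ⟨h23, -, -, -⟩ := hS.two_conjugates hA.hAH hA.hAp hA.hW hq₀ hq₀A
  refine ⟨h23, ?_⟩
  have hEH : ffE p H A ≤ H := ffE_le hA.hAH
  have hUV : ⁅V, ffE p H A⁆ ≤ V :=
    Cfsg.Agent.Lead.commutator_le_of_le_normalizer (hEH.trans hS.hHV)
  exact nonempty_mulEquiv_SL2_of_family (IsElementaryAbelian.mono hS.hV hUV)
    (hS.card_commutator_ffE hA) (Cfsg.Agent.Lead.le_normalizer_commutator_right V _)
    (hS.ffE_faithful hA) (ffE_eq_sSup p H A)
    (fun B hB => (hA.of_mem_ffConj hS.hHV hB).hAp) (self_mem_ffConj p H A) hA' hne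

theorem le_normalizer_commutator_ffQ (p : ℕ) {H A : Subgroup G} (hAH : A ≤ H) :
    H ⊓ normalizer (A : Set G) ≤ normalizer ((⁅ffQ p H, A⁆ : Subgroup G) : Set G) := by
  intro h hh
  rw [Cfsg.Agent.Helper14.mem_normalizer_iff_map_cj, map_commutator]
  have h1 := Cfsg.Agent.Helper14.mem_normalizer_iff_map_cj.mp (le_normalizer_ffQ p H hh.1)
  have h2 := Cfsg.Agent.Helper14.mem_normalizer_iff_map_cj.mp hh.2
  rw [h1, h2]

/-- `Q` normalizes `[Q, A]`. -/
theorem ffQ_le_normalizer_commutator (p : ℕ) (H A : Subgroup G) :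
    ffQ p H ≤ normalizer ((⁅ffQ p H, A⁆ : Subgroup G) : Set G) :=
  Cfsg.Agent.Lead.le_normalizer_commutator_left _ _

theorem FFSetup.commutator_ffQ_ne_bot [Finite G] {p : ℕ} [hp : Fact p.Prime] {V H : Subgroup G}
    (hS : FFSetup p V H) {A : Subgroup G} (hA : FFMin p V H A) : ⁅ffQ p H, A⁆ ≠ ⊥ := by
  intro h
  rw [commutator_eq_bot_iff_le_centralizer] at h
  obtain ⟨q₀, hq₀, hq₀A⟩ := hS.exists_mem_ffQ_not_mem_centralizer hA
  exact hq₀A (h hq₀)

/-- `C_V([Q, A])` is centralized by `A`. -/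
theorem FFSetup.inf_centralizer_commutator_le [Finite G] {p : ℕ} [hp : Fact p.Prime]
    {V H : Subgroup G} (hS : FFSetup p V H) {A : Subgroup G} (hA : FFMin p V H A) :
    V ⊓ centralizer ((⁅ffQ p H, A⁆ : Subgroup G) : Set G) ≤ centralizer (A : Set G) := by
  set L : Subgroup G := ⁅ffQ p H, A⁆ with hL
  set X : Subgroup G := V ⊓ centralizer (L : Set G) with hX
  have hAL : A ≤ normalizer (L : Set G) := Cfsg.Agent.Lead.le_normalizer_commutator_right _ _
  have hAX : A ≤ normalizer (X : Set G) :=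
    Cfsg.Agent.Helper10.le_normalizer_inf_of_le (hA.hAH.trans hS.hHV)
      (Cfsg.Agent.Helper10.le_normalizer_centralizer_of_le hAL)
  rw [← commutator_eq_bot_iff_le_centralizer]
  by_contra hne
  have h1 : ⁅X, A⁆ ≤ ⁅V, A⁆ := commutator_mono inf_le_left le_rfl
  have h2 : ⁅X, A⁆ ≤ X := Cfsg.Agent.Lead.commutator_le_of_le_normalizer hAX
  have h3 : ⁅X, A⁆ = ⁅V, A⁆ := by
    have hd : Nat.card ↥(⁅X, A⁆) ∣ p := hA.hW ▸ card_dvd_of_le h1
    rcases (Nat.dvd_prime hp.out).1 hd with h | h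
    · exact absurd (card_eq_one.mp h) hne
    · exact eq_of_le_of_card_ge h1 (by rw [h, hA.hW])
  have hWL : L ≤ centralizer ((⁅V, A⁆ : Subgroup G) : Set G) := by
    rw [le_centralizer_iff, ← h3]
    exact h2.trans inf_le_right
  -- `L` centralizes every centre, hence `[V, E]`
  have hLU : L ≤ centralizer ((⁅V, ffE p H A⁆ : Subgroup G) : Set G) := by
    intro l hl
    rw [mem_centralizer_iff]
    intro u hu
    obtain ⟨B, ⟨q, hq, rfl⟩, huB⟩ := hS.exists_mem_center hA hu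
    rw [commutator_map_conj (hS.hHV (ffQ_le p H hq))] at huB
    obtain ⟨w, hw, rfl⟩ := huB
    have hl' : q⁻¹ * l * q ∈ L :=
      conj_inv_mem_of_mem_normalizer (ffQ_le_normalizer_commutator p H A hq) hl
    have hc := (mem_centralizer_iff.mp (hWL hl')) w hw
    simp only [MulEquiv.toMonoidHom_eq_coe, MonoidHom.coe_coe, MulAut.conj_apply]
    calc q * w * q⁻¹ * l = q * (w * (q⁻¹ * l * q)) * q⁻¹ := by group
      _ = q * ((q⁻¹ * l * q) * w) * q⁻¹ := by rw [hc]
      _ = l * (q * w * q⁻¹) := by group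
  have hLbot : L ≤ ffE p H A ⊓ centralizer ((⁅V, ffE p H A⁆ : Subgroup G) : Set G) :=
    le_inf le_sup_left hLU
  rw [hS.ffE_faithful hA, le_bot_iff] at hLbot
  exact hS.commutator_ffQ_ne_bot hA hLbot

theorem centralizer_sup_eq (A B : Subgroup G) :
    centralizer ((A ⊔ B : Subgroup G) : Set G) = centralizer (A : Set G) ⊓ centralizer (B : Set G) := by
  apply le_antisymm
  · exact le_inf (centralizer_le (le_sup_left : A ≤ A ⊔ B)) (centralizer_le (le_sup_right : B ≤ A ⊔ B))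
  · rw [le_centralizer_iff]
    exact sup_le (le_centralizer_iff.mp inf_le_left) (le_centralizer_iff.mp inf_le_right)

/-- `V = [V, E_A] × C_V(E_A)`, with `[V, E_A] = [V, [Q, A]]` and `C_V(E_A) = C_V([Q, A])`. -/
theorem FFSetup.ffE_decomp [Finite G] {p : ℕ} [hp : Fact p.Prime] {V H : Subgroup G}
    (hS : FFSetup p V H) {A : Subgroup G} (hA : FFMin p V H A) :
    ⁅V, ffE p H A⁆ = ⁅V, ⁅ffQ p H, A⁆⁆ ∧
    V ⊓ centralizer ((ffE p H A : Subgroup G) : Set G) =
      V ⊓ centralizer ((⁅ffQ p H, A⁆ : Subgroup G) : Set G) ∧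
    ⁅V, ffE p H A⁆ ⊓ (V ⊓ centralizer ((ffE p H A : Subgroup G) : Set G)) = ⊥ ∧
    ⁅V, ffE p H A⁆ ⊔ (V ⊓ centralizer ((ffE p H A : Subgroup G) : Set G)) = V := by
  set L : Subgroup G := ⁅ffQ p H, A⁆ with hL
  haveI : IsMulCommutative V := hS.hV.1
  have hLQ : L ≤ ffQ p H :=
    Cfsg.Agent.Lead.commutator_le_of_le_normalizer (hA.hAH.trans (le_normalizer_ffQ p H))
  have hLH : L ≤ H := hLQ.trans (ffQ_le p H)
  have hLV : L ≤ normalizer (V : Set G) := hLH.trans hS.hHV
  have hcop : (Nat.card L).Coprime (Nat.card V) := by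
    obtain ⟨k, hk⟩ := (IsElementaryAbelian.isPGroup hS.hV).exists_card_eq
    rw [hk]
    exact Nat.Coprime.pow_right _
      (Nat.Coprime.coprime_dvd_left (card_dvd_of_le hLQ) (ffQ_coprime p H))
  obtain ⟨hd1, hd2⟩ := Cfsg.Agent.Lead.coprime_abelian_decomp L V hLV hcop
  have hC : V ⊓ centralizer ((ffE p H A : Subgroup G) : Set G) = V ⊓ centralizer (L : Set G) := by
    apply le_antisymm
    · exact inf_le_inf_left _ (centralizer_le (le_sup_left : L ≤ ffE p H A))
    · rw [centralizer_sup_eq]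
      exact le_inf inf_le_left (le_inf inf_le_right (hS.inf_centralizer_commutator_le hA))
  have hEH : ffE p H A ≤ H := ffE_le hA.hAH
  have hEL : ffE p H A ≤ normalizer (L : Set G) :=
    sup_le le_normalizer (Cfsg.Agent.Lead.le_normalizer_commutator_right _ _)
  have hEK : ffE p H A ≤ normalizer ((⁅V, L⁆ : Subgroup G) : Set G) :=
    Cfsg.Agent.Helper10.le_normalizer_commutator_of_le (hEH.trans hS.hHV) hEL
  have hKV : ⁅V, L⁆ ≤ V := Cfsg.Agent.Lead.commutator_le_of_le_normalizer hLV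
  have hU : ⁅V, ffE p H A⁆ = ⁅V, L⁆ := by
    apply le_antisymm
    · have hVdec : V = (V ⊓ centralizer (L : Set G)) ⊔ ⁅V, L⁆ := hd2.symm
      have : ⁅(V ⊓ centralizer (L : Set G)) ⊔ ⁅V, L⁆, ffE p H A⁆ ≤ ⁅V, L⁆ := by
        apply Cfsg.Agent.Helper10.commutator_sup_le_of_conj_mem
        · rw [← hVdec]
          intro g hg w hw
          have : g * w = w * g := IsElementaryAbelian.commute hS.hV hg (hKV hw)
          rw [this, mul_inv_cancel_right]
          exact hw
        · have : ⁅V ⊓ centralizer (L : Set G), ffE p H A⁆ = ⊥ := by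
            rw [commutator_eq_bot_iff_le_centralizer, ← hC]
            exact inf_le_right
          rw [this]; exact bot_le
        · exact Cfsg.Agent.Lead.commutator_le_of_le_normalizer hEK
      rwa [← hVdec] at this
    · exact commutator_mono le_rfl le_sup_left
  refine ⟨hU, hC, ?_, ?_⟩
  · rw [hU, hC, inf_comm]; exact hd1
  · rw [hU, hC, sup_comm]; exact hd2


theorem FFSetup.commutator_ffQ_le [Finite G] {p : ℕ} {H A : Subgroup G} (hAH : A ≤ H) :
    ⁅ffQ p H, A⁆ ≤ ffQ p H :=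
  Cfsg.Agent.Lead.commutator_le_of_le_normalizer (hAH.trans (le_normalizer_ffQ p H))

theorem FFSetup.commutator_ffQ_inf [Finite G] {p : ℕ} [hp : Fact p.Prime] {V H : Subgroup G}
    {A : Subgroup G} (hA : FFMin p V H A) : ⁅ffQ p H, A⁆ ⊓ A = ⊥ := by
  have h := FFSetup.inf_ffQ_eq_bot (H := H) (isPGroup_of_card_eq_prime hA.hAp)
  rw [eq_bot_iff, ← h, inf_comm]
  exact inf_le_inf_left _ (FFSetup.commutator_ffQ_le hA.hAH)

/-- `|[Q, A]| = p² - 1`. -/
theorem FFSetup.card_commutator_ffQ [Finite G] {p : ℕ} [hp : Fact p.Prime] {V H : Subgroup G}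
    (hS : FFSetup p V H) {A : Subgroup G} (hA : FFMin p V H A) :
    Nat.card ↥(⁅ffQ p H, A⁆) = p ^ 2 - 1 := by
  obtain ⟨-, ⟨e⟩⟩ := hS.ffE_mulEquiv hA
  have h1 : Nat.card ↥(ffE p H A) = p * (p ^ 2 - 1) := by
    rw [Nat.card_congr e.toEquiv, card_SL2_zmod]
  have h2 := Cfsg.Agent.Helper17.card_sup_mul_card_inf (⁅ffQ p H, A⁆) A
    (Cfsg.Agent.Lead.le_normalizer_commutator_right _ _)
  rw [FFSetup.commutator_ffQ_inf hA, card_bot, mul_one, hA.hAp] at h2
  rw [h2, mul_comm] at h1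
  exact Nat.eq_of_mul_eq_mul_left hp.out.pos h1

/-- KS 9.3: `[Q, A]` is a `3`-group (`p = 2`) or a nonabelian `2`-group (`p = 3`) (= S0614). -/
theorem FFSetup.commutator_ffQ_structure [Finite G] {p : ℕ} [hp : Fact p.Prime]
    {V H : Subgroup G} (hS : FFSetup p V H) {A : Subgroup G} (hA : FFMin p V H A) :
    (p = 2 ∧ IsPGroup 3 ↥(⁅ffQ p H, A⁆)) ∨
    (p = 3 ∧ IsPGroup 2 ↥(⁅ffQ p H, A⁆) ∧ ¬ IsMulCommutative ↥(⁅ffQ p H, A⁆)) := by
  obtain ⟨h23, ⟨e⟩⟩ := hS.ffE_mulEquiv hA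
  have hcard := hS.card_commutator_ffQ hA
  set L : Subgroup G := ⁅ffQ p H, A⁆ with hL
  rcases h23 with rfl | rfl
  · left
    refine ⟨rfl, ?_⟩
    haveI : Fact (Nat.Prime 3) := ⟨Nat.prime_three⟩
    exact IsPGroup.of_card (n := 1) (by rw [hcard]; norm_num)
  · right
    haveI : Fact (Nat.Prime 2) := ⟨Nat.prime_two⟩
    have hL2 : IsPGroup 2 L := IsPGroup.of_card (n := 3) (by rw [hcard]; norm_num)
    refine ⟨rfl, hL2, ?_⟩
    intro hcomm
    haveI : IsMulCommutative L := hcomm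
    -- `C_L(A) = 1`
    have hAL : A ≤ normalizer (L : Set G) := Cfsg.Agent.Lead.le_normalizer_commutator_right _ _
    have hcop : (Nat.card A).Coprime (Nat.card L) := by
      rw [hA.hAp, hcard]; norm_num
    obtain ⟨hd1, -⟩ := Cfsg.Agent.Lead.coprime_abelian_decomp A L hAL hcop
    have hAsolv : Group.IsSolvable A := by
      haveI : IsCyclic A := isCyclic_of_prime_card hA.hAp
      have : ∀ a b : A, a * b = b * a := fun a b => (IsCyclic.commGroup (α := A)).mul_comm a b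
      exact Group.isSolvable_of_comm this
    have hcopQ : (Nat.card A).Coprime (Nat.card (ffQ 3 H)) := by
      rw [hA.hAp]; exact (ffQ_coprime 3 H).symm
    have hLL : ⁅L, A⁆ = L :=
      Cfsg.Agent.Lead.coprime_commutator_commutator A (ffQ 3 H)
        (hA.hAH.trans (le_normalizer_ffQ 3 H)) hcopQ (Or.inl hAsolv)
    rw [hLL, inf_assoc, inf_comm (centralizer (A : Set G)) L, ← inf_assoc, inf_idem] at hd1
    -- a central involution of `E`
    have hcen : Nat.card (center ↥(ffE 3 H A)) = 2 := by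
      rw [Nat.card_congr (centerCongr e).toEquiv, Cfsg.Agent.Helper2.card_center_SL 2 (by norm_num)]
      have : Nat.card (ZMod 3)ˣ = 2 := by
        rw [Cfsg.Agent.Helper2.card_units_field, ZMod.card]
      rw [this]; rfl
    obtain ⟨z, hz, hz1⟩ : ∃ z ∈ center ↥(ffE 3 H A), z ≠ 1 := by
      apply exists_mem_ne_one_of_ne_bot
      intro h
      rw [h, card_bot] at hcen
      norm_num at hcen
    have hzA : (z : G) ∈ centralizer (A : Set G) := by
      rw [mem_centralizer_iff]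
      intro a ha
      have := (mem_center_iff.mp hz) ⟨a, mem_sup_right ha⟩
      exact congrArg Subtype.val this
    have hz2 : (z : G) ^ 2 = 1 := by
      have h1 : (⟨z, hz⟩ : center ↥(ffE 3 H A)) ^ 2 = 1 := by
        rw [← hcen]; exact pow_card_eq_one'
      have := congrArg (fun x : center ↥(ffE 3 H A) => ((x : ↥(ffE 3 H A)) : G)) h1
      simpa using this
    -- `z ∈ L`
    have hzL : (z : G) ∈ L := by
      have hzN : zpowers (z : G) ≤ normalizer (L : Set G) := by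
        rw [zpowers_le]
        exact (sup_le le_normalizer hAL : ffE 3 H A ≤ normalizer (L : Set G)) z.2
      have hzp : IsPGroup 2 (zpowers (z : G)) := by
        apply isPGroup_of_forall_pow_eq_one
        intro k hk
        obtain ⟨n, rfl⟩ := mem_zpowers_iff.mp hk
        rw [← zpow_natCast, ← zpow_mul, mul_comm, zpow_mul, zpow_natCast, hz2, one_zpow]
      have hP : IsPGroup 2 (zpowers (z : G) ⊔ L : Subgroup G) :=
        IsPGroup.to_sup_of_normal_right' hzp hL2 hzN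
      have hPE : zpowers (z : G) ⊔ L ≤ ffE 3 H A :=
        sup_le ((zpowers_le (H := ffE 3 H A)).2 z.2) le_sup_left
      have hEcard : Nat.card ↥(ffE 3 H A) = 24 := by
        rw [Nat.card_congr e.toEquiv, card_SL2_zmod]; norm_num
      obtain ⟨k, hk⟩ := hP.exists_card_eq
      have hdvd : 2 ^ k ∣ 24 := by
        rw [← hk, ← hEcard]; exact card_dvd_of_le hPE
      have hk3 : k ≤ 3 := by
        by_contra hcon
        push Not at hcon
        have : 2 ^ 4 ∣ 24 := (pow_dvd_pow 2 hcon).trans hdvd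
        norm_num at this
      have hle : Nat.card ↥(zpowers (z : G) ⊔ L) ≤ Nat.card L := by
        rw [hk, hcard]
        calc 2 ^ k ≤ 2 ^ 3 := Nat.pow_le_pow_right (by norm_num) hk3
          _ = 3 ^ 2 - 1 := by norm_num
      have heq : L = zpowers (z : G) ⊔ L := eq_of_le_of_card_ge le_sup_right hle
      rw [heq]
      exact mem_sup_left (mem_zpowers _)
    have : (z : G) ∈ L ⊓ centralizer (A : Set G) := ⟨hzL, hzA⟩
    rw [hd1, mem_bot] at this
    apply hz1
    exact Subtype.ext this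

end Cfsg.Agent.Helper7
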