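import Mathlib
import Cfsg.Prelude.Def_PLocal
import Cfsg.Agent.Helper7.Hyperplane

set_option autoImplicit false
set_option linter.style.haveILetI false
set_option linter.unusedSectionVars false

/-! # The semidirect product `V ⋊ G/C_G(V)` for a normal subgroup `V`: a faithful model of the
action of `G` on `V` -/

namespace Cfsg.Agent.Helper7

open Subgroup Cfsg
open scoped commutatorElement

variable {G : Type*} [Group G] (V : Subgroup G) [V.Normal]

/-- The action of `G / C_G(V)` on `V`. -/
noncomputable def ffAct : G ⧸ centralizer (V : Set G) →* MulAut ↥V :=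
  QuotientGroup.lift (centralizer (V : Set G)) (MulAut.conjNormal (H := V)) (by
    intro g hg
    ext v
    rw [MulAut.conjNormal_apply, MulAut.one_apply]
    have := (mem_centralizer_iff.mp hg) (v : G) v.2
    rw [← this]; group)

/-- The semidirect product `V ⋊ G/C_G(V)`. -/
abbrev FFGamma := ↥V ⋊[ffAct V] (G ⧸ centralizer (V : Set G))

/-- `G → V ⋊ G/C_G(V)`. -/
noncomputable def ffIota : G →* FFGamma V :=
  SemidirectProduct.inr.comp (QuotientGroup.mk' (centralizer (V : Set G)))

/-- `V → V ⋊ G/C_G(V)`. -/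
noncomputable def ffInl : ↥V →* FFGamma V := SemidirectProduct.inl

instance [Finite G] : Finite (FFGamma V) :=
  Finite.of_equiv _ (SemidirectProduct.equivProd (φ := ffAct V)).symm

theorem ffIota_conj (g : G) (v : ↥V) :
    ffIota V g * ffInl V v * (ffIota V g)⁻¹ =
      ffInl V ⟨g * v * g⁻¹, Subgroup.Normal.conj_mem inferInstance (v : G) v.2 g⟩ := by
  unfold ffIota ffInl
  rw [MonoidHom.comp_apply, ← map_inv, ← SemidirectProduct.inl_aut]
  congr 1

theorem ffInl_injective : Function.Injective (ffInl V) := SemidirectProduct.inl_injective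

theorem ffIota_eq_one_iff (g : G) : ffIota V g = 1 ↔ g ∈ centralizer (V : Set G) := by
  unfold ffIota
  rw [MonoidHom.comp_apply, map_eq_one_iff _ SemidirectProduct.inr_injective,
    QuotientGroup.mk'_apply, QuotientGroup.eq_one_iff]

theorem ffIota_ker : (ffIota V).ker = centralizer (V : Set G) := by
  ext g
  rw [MonoidHom.mem_ker, ffIota_eq_one_iff]

/-- The image of `V`. -/
noncomputable def ffV : Subgroup (FFGamma V) := (ffInl V).range

instance ffV_normal : (ffV V).Normal := by
  unfold ffV ffInl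
  rw [SemidirectProduct.range_inl_eq_ker_rightHom]
  infer_instance

theorem ffIota_mem_centralizer_iff (g : G) :
    ffIota V g ∈ centralizer (ffV V : Set (FFGamma V)) ↔ g ∈ centralizer (V : Set G) := by
  constructor
  · intro h
    rw [mem_centralizer_iff]
    intro v hv
    have h1 := (mem_centralizer_iff.mp h) (ffInl V ⟨v, hv⟩) ⟨⟨v, hv⟩, rfl⟩
    have h2 := ffIota_conj V g ⟨v, hv⟩
    rw [← h1, mul_inv_cancel_right] at h2
    have h3 := ffInl_injective V h2
    have h4 : v = g * v * g⁻¹ := congrArg Subtype.val h3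
    calc v * g = (g * v * g⁻¹) * g := by rw [← h4]
      _ = g * v := by group
  · intro h
    rw [(ffIota_eq_one_iff V g).mpr h]
    exact one_mem _

theorem map_ffIota_inf_centralizer (K : Subgroup G) :
    K.map (ffIota V) ⊓ centralizer (ffV V : Set (FFGamma V)) = ⊥ := by
  rw [eq_bot_iff]
  rintro _ ⟨⟨k, hk, rfl⟩, h2⟩
  rw [mem_bot]
  exact (ffIota_eq_one_iff V k).mpr ((ffIota_mem_centralizer_iff V k).mp h2)

theorem ffInl_mem_centralizer_map_iff (K : Subgroup G) (v : ↥V) :
    ffInl V v ∈ centralizer ((K.map (ffIota V) : Subgroup (FFGamma V)) : Set (FFGamma V)) ↔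
      (v : G) ∈ centralizer (K : Set G) := by
  constructor
  · intro h
    rw [mem_centralizer_iff]
    intro k hk
    have h1 := (mem_centralizer_iff.mp h) (ffIota V k) ⟨k, hk, rfl⟩
    have h2 := ffIota_conj V k v
    rw [h1, mul_inv_cancel_right] at h2
    have h3 := ffInl_injective V h2
    have h4 : (v : G) = k * v * k⁻¹ := congrArg Subtype.val h3
    calc k * (v : G) = (k * v * k⁻¹) * k := by group
      _ = v * k := by rw [← h4]
  · intro h
    rw [mem_centralizer_iff]
    rintro _ ⟨k, hk, rfl⟩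
    have h1 := (mem_centralizer_iff.mp h) k hk
    have h2 := ffIota_conj V k v
    have h3 : (⟨k * v * k⁻¹, Subgroup.Normal.conj_mem inferInstance (v : G) v.2 k⟩ : ↥V) = v := by
      apply Subtype.ext
      show k * v * k⁻¹ = v
      rw [h1]; group
    rw [h3] at h2
    calc ffIota V k * ffInl V v = (ffIota V k * ffInl V v * (ffIota V k)⁻¹) * ffIota V k := by group
      _ = ffInl V v * ffIota V k := by rw [h2]

/-- `C_{V'}(K') ≅ C_V(K)`. -/
theorem card_ffV_inf_centralizer_map [Finite G] (K : Subgroup G) :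
    Nat.card ↥(ffV V ⊓ centralizer ((K.map (ffIota V) : Subgroup (FFGamma V)) : Set (FFGamma V))) =
      Nat.card ↥(V ⊓ centralizer (K : Set G)) := by
  have h : ffV V ⊓ centralizer ((K.map (ffIota V) : Subgroup (FFGamma V)) : Set (FFGamma V)) =
      ((V ⊓ centralizer (K : Set G)).subgroupOf V).map (ffInl V) := by
    ext x
    constructor
    · rintro ⟨⟨v, rfl⟩, h2⟩
      refine ⟨v, ?_, rfl⟩
      rw [SetLike.mem_coe, mem_subgroupOf]
      exact ⟨v.2, (ffInl_mem_centralizer_map_iff V K v).mp h2⟩
    · rintro ⟨v, hv, rfl⟩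
      rw [SetLike.mem_coe, mem_subgroupOf] at hv
      exact ⟨⟨v, rfl⟩, (ffInl_mem_centralizer_map_iff V K v).mpr hv.2⟩
  rw [h, Subgroup.card_map_of_injective (ffInl_injective V)]
  exact Nat.card_congr (subgroupOfEquivOfLe inf_le_left).toEquiv

theorem card_ffV : Nat.card (ffV V) = Nat.card V := by
  unfold ffV
  exact (Nat.card_congr (MonoidHom.ofInjective (ffInl_injective V)).toEquiv).symm

theorem ffV_isElementaryAbelian {p : ℕ} (hV : IsElementaryAbelian p V) :
    IsElementaryAbelian p (ffV V) := by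
  refine ⟨⟨⟨?_⟩⟩, ?_⟩
  · rintro ⟨_, ⟨v, rfl⟩⟩ ⟨_, ⟨w, rfl⟩⟩
    apply Subtype.ext
    show ffInl V v * ffInl V w = ffInl V w * ffInl V v
    rw [← map_mul, ← map_mul]
    congr 1
    apply Subtype.ext
    exact IsElementaryAbelian.commute hV v.2 w.2
  · rintro _ ⟨v, rfl⟩
    rw [← map_pow]
    have : v ^ p = 1 := Subtype.ext (by simpa using hV.2 v v.2)
    rw [this, map_one]

/-- `|K'| · |K ∩ C| = |K|`. -/
theorem card_map_ffIota_mul [Finite G] (K : Subgroup G) :
    Nat.card ↥(K.map (ffIota V)) * Nat.card ↥(K ⊓ centralizer (V : Set G)) = Nat.card K := by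
  have h1 : K.map (ffIota V) = ((ffIota V).comp K.subtype).range := by
    rw [MonoidHom.range_eq_map, ← Subgroup.map_map, ← MonoidHom.range_eq_map, range_subtype]
  have h2 : ((ffIota V).comp K.subtype).ker = (centralizer (V : Set G)).subgroupOf K := by
    ext k
    rw [MonoidHom.mem_ker, MonoidHom.comp_apply, mem_subgroupOf, ← ffIota_eq_one_iff]
    rfl
  have h3 : Nat.card ↥(K ⊓ centralizer (V : Set G)) =
      Nat.card ((centralizer (V : Set G)).subgroupOf K) := by
    rw [inf_comm]
    exact (Nat.card_congr (subgroupOfEquivOfLe (inf_le_right : centralizer (V : Set G) ⊓ K ≤ K)).toEquiv).symm.trans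
      (by rw [inf_subgroupOf_right])
  rw [h1, h3, ← h2,
    ← Nat.card_congr (QuotientGroup.quotientKerEquivRange ((ffIota V).comp K.subtype)).toEquiv]
  exact (Subgroup.card_eq_card_quotient_mul_card_subgroup _).symm


theorem le_comap_ffIota (B' : Subgroup (FFGamma V)) :
    centralizer (V : Set G) ≤ B'.comap (ffIota V) := by
  intro c hc
  rw [mem_comap, (ffIota_eq_one_iff V c).mpr hc]
  exact one_mem _

theorem map_inf_comap_ffIota {A : Subgroup G} {B' : Subgroup (FFGamma V)}
    (hB' : B' ≤ A.map (ffIota V)) : (A ⊓ B'.comap (ffIota V)).map (ffIota V) = B' := by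
  apply le_antisymm
  · rintro _ ⟨a, ⟨_, ha⟩, rfl⟩
    exact ha
  · intro b hb
    obtain ⟨a, ha, rfl⟩ := hB' hb
    exact ⟨a, ⟨ha, hb⟩, rfl⟩

/-- Best offenders on `V` in `G` map to best offenders on the image of `V` in `V ⋊ G/C_G(V)`. -/
theorem isBestOffenderOn_map_ffIota [Finite G] {p : ℕ} {A : Subgroup G}
    (hA : IsBestOffenderOn p V A) : IsBestOffenderOn p (ffV V) (A.map (ffIota V)) := by
  refine ⟨?_, ?_, ?_⟩
  · intro B' hB'
    set B : Subgroup G := A ⊓ B'.comap (ffIota V) with hB
    have hBA : B ≤ A := inf_le_left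
    have hBmap : B.map (ffIota V) = B' := map_inf_comap_ffIota V hB'
    have hBC : B ⊓ centralizer (V : Set G) = A ⊓ centralizer (V : Set G) := by
      rw [hB, inf_assoc, inf_of_le_right (le_comap_ffIota V B')]
    have h1 := card_map_ffIota_mul V B
    have h2 := card_map_ffIota_mul V A
    have h3 := card_ffV_inf_centralizer_map V B
    have h4 := card_ffV_inf_centralizer_map V A
    rw [hBmap] at h1 h3
    rw [hBC] at h1
    have h5 := hA.1 B hBA
    rw [h3, h4]
    have hpos : 0 < Nat.card ↥(A ⊓ centralizer (V : Set G)) := Nat.card_pos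
    apply Nat.le_of_mul_le_mul_right _ hpos
    calc Nat.card B' * Nat.card ↥(V ⊓ centralizer (B : Set G)) *
          Nat.card ↥(A ⊓ centralizer (V : Set G))
        = (Nat.card B' * Nat.card ↥(A ⊓ centralizer (V : Set G))) *
          Nat.card ↥(V ⊓ centralizer (B : Set G)) := by ring
      _ = Nat.card B * Nat.card ↥(V ⊓ centralizer (B : Set G)) := by rw [h1]
      _ ≤ Nat.card A * Nat.card ↥(V ⊓ centralizer (A : Set G)) := h5
      _ = (Nat.card ↥(A.map (ffIota V)) * Nat.card ↥(A ⊓ centralizer (V : Set G))) *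
          Nat.card ↥(V ⊓ centralizer (A : Set G)) := by rw [h2]
      _ = Nat.card ↥(A.map (ffIota V)) * Nat.card ↥(V ⊓ centralizer (A : Set G)) *
          Nat.card ↥(A ⊓ centralizer (V : Set G)) := by ring
  · have h : ⁅A.map (ffIota V), A.map (ffIota V)⁆ = ⊥ := by
      rw [← map_commutator, eq_bot_iff]
      rintro _ ⟨x, hx, rfl⟩
      rw [mem_bot]
      exact (ffIota_eq_one_iff V x).mpr (hA.2.1 hx)
    rw [h]; exact bot_le
  · rintro _ ⟨a, ha, rfl⟩
    rw [← map_pow, (ffIota_eq_one_iff V (a ^ p)).mpr (hA.2.2 a ha)]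
    exact one_mem _


/-- Pulling back a subgroup `E'` of the image of `K`, normalized by that image, to `G`. -/
theorem exists_pullback_ffIota {K : Subgroup G} {E' : Subgroup (FFGamma V)}
    (hE'K : E' ≤ K.map (ffIota V))
    (hKE' : K.map (ffIota V) ≤ normalizer (E' : Set (FFGamma V))) {S : Type*} [Group S]
    (e : ↥E' ≃* S) :
    ∃ E : Subgroup G, centralizer (V : Set G) ≤ E ∧ E ≤ K ⊔ centralizer (V : Set G) ∧
      K ⊔ centralizer (V : Set G) ≤ normalizer (E : Set G) ∧
      ∃ _ : ((centralizer (V : Set G)).subgroupOf E).Normal,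
        Nonempty ((↥E ⧸ (centralizer (V : Set G)).subgroupOf E) ≃* S) := by
  refine ⟨E'.comap (ffIota V), le_comap_ffIota V E', ?_, ?_, inferInstance, ?_⟩
  · calc E'.comap (ffIota V) ≤ (K.map (ffIota V)).comap (ffIota V) := comap_mono hE'K
      _ = K ⊔ centralizer (V : Set G) := by rw [comap_map_eq, ffIota_ker]
  · have h1 : (K ⊔ centralizer (V : Set G)).map (ffIota V) = K.map (ffIota V) := by
      rw [Subgroup.map_sup]
      have : (centralizer (V : Set G)).map (ffIota V) = ⊥ := by
        rw [eq_bot_iff]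
        rintro _ ⟨c, hc, rfl⟩
        rw [mem_bot]
        exact (ffIota_eq_one_iff V c).mpr hc
      rw [this, sup_bot_eq]
    intro g hg
    have h2 : ffIota V g ∈ normalizer (E' : Set (FFGamma V)) :=
      hKE' (h1 ▸ mem_map_of_mem _ hg)
    exact Subgroup.le_normalizer_comap (ffIota V) (mem_comap.mpr h2)
  · set f : ↥(E'.comap (ffIota V)) →* ↥E' := (ffIota V).subgroupComap E' with hf
    have hsurj : Function.Surjective f := by
      rintro ⟨x, hx⟩
      obtain ⟨k, _, rfl⟩ := hE'K hx
      exact ⟨⟨k, hx⟩, rfl⟩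
    have hker : f.ker = (centralizer (V : Set G)).subgroupOf (E'.comap (ffIota V)) := by
      ext ⟨x, hx⟩
      rw [MonoidHom.mem_ker, mem_subgroupOf, ← ffIota_eq_one_iff]
      constructor
      · intro h
        exact congrArg Subtype.val h
      · intro h
        exact Subtype.ext h
    exact ⟨((QuotientGroup.quotientMulEquivOfEq hker.symm).trans
      (QuotientGroup.quotientKerEquivOfSurjective f hsurj)).trans e⟩

end Cfsg.Agent.Helper7
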