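import Mathlib
import Cfsg.Prelude.Def_PLocal
import Cfsg.Agent.Helper7.FFModule2

set_option autoImplicit false
set_option linter.style.haveILetI false
set_option linter.unusedSectionVars false

/-! # Failure of factorization (KS 9.3): best offenders are products of minimal offenders -/

namespace Cfsg.Agent.Helper7

open Subgroup Cfsg
open scoped commutatorElement

variable {G : Type*} [Group G]

/-- A minimal nontrivially-acting best offender. -/
def IsMinOffender (p : ℕ) (V B : Subgroup G) : Prop :=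
  IsBestOffenderOn p V B ∧ ⁅V, B⁆ ≠ ⊥ ∧
    ∀ C : Subgroup G, C ≤ B → IsBestOffenderOn p V C → ⁅V, C⁆ ≠ ⊥ → C = B

theorem eq_bot_or_eq_of_le_of_card_prime [Finite G] {p : ℕ} [hp : Fact p.Prime] {A C : Subgroup G}
    (hA : Nat.card A = p) (hCA : C ≤ A) : C = ⊥ ∨ C = A := by
  have h1 : Nat.card C ∣ p := hA ▸ card_dvd_of_le hCA
  rcases (Nat.dvd_prime hp.out).1 h1 with h | h
  · left; exact card_eq_one.mp h
  · right; exact eq_of_le_of_card_ge hCA (by rw [h, hA])

/-- A best offender of order `p` in `H` is a minimal offender. -/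
theorem FFSetup.isMinOffender_of_card_prime [Finite G] {p : ℕ} [hp : Fact p.Prime]
    {V H : Subgroup G} (hS : FFSetup p V H) {A : Subgroup G} (hAH : A ≤ H)
    (hA : IsBestOffenderOn p V A) (hAp : Nat.card A = p) : IsMinOffender p V A := by
  have hA1 : A ≠ ⊥ := by
    intro h
    rw [h, card_bot] at hAp
    exact hp.out.one_lt.ne hAp
  refine ⟨hA, hS.commutator_ne_bot hAH hA1, ?_⟩
  intro C hCA _ hC
  rcases eq_bot_or_eq_of_le_of_card_prime hAp hCA with h | h
  · exfalso
    apply hC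
    rw [h]
    exact commutator_bot_right V
  · exact h

/-- Two distinct hyperplanes of an elementary abelian group generate it. -/
theorem sup_eq_of_relIndex_eq_prime [Finite G] {p : ℕ} [hp : Fact p.Prime] {A B₀ B₁ : Subgroup G}
    (h₀ : B₀ ≤ A) (h₁ : B₁ ≤ A) (hi₀ : B₀.relIndex A = p)
    (hi₁ : B₁.relIndex A = p) (hne : B₁ ≠ B₀) : B₀ ⊔ B₁ = A := by
  have hc₀ := card_mul_relIndex_of_le h₀
  have hc₁ := card_mul_relIndex_of_le h₁
  rw [hi₀] at hc₀
  rw [hi₁] at hc₁
  have hcard : Nat.card B₀ = Nat.card B₁ := by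
    apply Nat.eq_of_mul_eq_mul_right hp.out.pos
    rw [hc₀, hc₁]
  have hlt : B₀ < B₀ ⊔ B₁ := by
    refine lt_of_le_of_ne le_sup_left ?_
    intro h
    have h1 : B₁ ≤ B₀ := by rw [h]; exact le_sup_right
    exact hne (eq_of_le_of_card_ge h1 hcard.le)
  have hle : B₀ ⊔ B₁ ≤ A := sup_le h₀ h₁
  -- index of `B₀` in `B₀ ⊔ B₁` divides `p` and is not `1`
  have h2 := relIndex_mul_relIndex B₀ (B₀ ⊔ B₁) A le_sup_left hle
  rw [hi₀] at h2
  have h3 : B₀.relIndex (B₀ ⊔ B₁) ≠ 1 := by
    intro h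
    exact (not_le_of_gt hlt) (relIndex_eq_one.mp h)
  have h4 : B₀.relIndex (B₀ ⊔ B₁) = p := by
    have : B₀.relIndex (B₀ ⊔ B₁) ∣ p := Dvd.intro _ h2
    rcases (Nat.dvd_prime hp.out).1 this with h | h
    · exact absurd h h3
    · exact h
  rw [h4] at h2
  have h5 : (B₀ ⊔ B₁).relIndex A = 1 := by
    have hpos := hp.out.pos
    have : p * (B₀ ⊔ B₁).relIndex A = p * 1 := by rw [h2, mul_one]
    exact Nat.eq_of_mul_eq_mul_left hpos this
  exact le_antisymm hle (relIndex_eq_one.mp h5)

/-- KS 9.3: every best offender in `H` is generated by minimal offenders. -/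
theorem FFSetup.le_sSup_minOffender [Finite G] {p : ℕ} [hp : Fact p.Prime] {V H : Subgroup G}
    (hS : FFSetup p V H) : ∀ (n : ℕ) (A : Subgroup G), Nat.card A = n → A ≤ H →
      IsBestOffenderOn p V A → A ≤ sSup {B : Subgroup G | B ≤ A ∧ IsMinOffender p V B} := by
  intro n
  induction n using Nat.strong_induction_on with
  | _ n ih =>
  intro A hn hAH hA
  by_cases hA1 : A = ⊥
  · rw [hA1]; exact bot_le
  have hAel : IsElementaryAbelian p A := IsBestOffenderOn.isElementaryAbelian hS.hf hAH hA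
  obtain ⟨B₀, hB₀A, hB₀i, hB₀act⟩ := hS.exists_active_hyperplane hAH hA hA1
  have hmono : ∀ B : Subgroup G, B ≤ A →
      sSup {C : Subgroup G | C ≤ B ∧ IsMinOffender p V C} ≤
        sSup {C : Subgroup G | C ≤ A ∧ IsMinOffender p V C} := by
    intro B hBA
    apply sSup_le_sSup
    rintro C ⟨hCB, hC⟩
    exact ⟨hCB.trans hBA, hC⟩
  have hIH : ∀ B : Subgroup G, B ≤ A → B.relIndex A = p →
      ¬ A ≤ centralizer ((ffQ p H ⊓ centralizer (B : Set G) : Subgroup G) : Set G) →
      B ≤ sSup {C : Subgroup G | C ≤ A ∧ IsMinOffender p V C} := by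
    intro B hBA hBi hBact
    obtain ⟨hBbo, -, -⟩ := hS.active_hyperplane hAH hA hBA hBi hBact
    have h3 := card_mul_relIndex_of_le hBA
    rw [hBi] at h3
    have hlt : Nat.card B < n := by
      rw [← hn, ← h3]
      have : 0 < Nat.card B := Nat.card_pos
      have := hp.out.one_lt
      nlinarith
    exact (ih _ hlt B rfl (hBA.trans hAH) hBbo).trans (hmono B hBA)
  by_cases hex : ∃ B₁ : Subgroup G, B₁ ≤ A ∧ B₁.relIndex A = p ∧
      ¬ A ≤ centralizer ((ffQ p H ⊓ centralizer (B₁ : Set G) : Subgroup G) : Set G) ∧ B₁ ≠ B₀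
  · obtain ⟨B₁, hB₁A, hB₁i, hB₁act, hne⟩ := hex
    have hsup := sup_eq_of_relIndex_eq_prime hB₀A hB₁A hB₀i hB₁i hne
    calc A = B₀ ⊔ B₁ := hsup.symm
      _ ≤ _ := sup_le (hIH B₀ hB₀A hB₀i hB₀act) (hIH B₁ hB₁A hB₁i hB₁act)
  · push Not at hex
    -- `B₀` centralizes `Q`
    have hQp : ¬ p ∣ Nat.card (ffQ p H) := by
      intro h
      have := Nat.Coprime.eq_one_of_dvd (ffQ_coprime p H).symm h
      exact hp.out.one_lt.ne' this
    have hgen := le_iSup_inf_centralizer_hyperplane p _ A (ffQ p H) rfl hAel hQp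
      (hAH.trans (le_normalizer_ffQ p H))
    have hQB₀ : ffQ p H ≤ centralizer (B₀ : Set G) := by
      refine hgen.trans (iSup_le ?_)
      rintro ⟨B, hBA, hBidx⟩
      rcases relIndex_eq_one_or_prime_of_le (IsElementaryAbelian.isPGroup hAel) hBidx with h1 | h1
      · have hAB : A ≤ B := relIndex_eq_one.mp h1
        exact inf_le_right.trans (centralizer_le (hB₀A.trans hAB))
      · by_cases hact : A ≤ centralizer ((ffQ p H ⊓ centralizer (B : Set G) : Subgroup G) : Set G)
        · exact (le_centralizer_iff.mp hact).trans (centralizer_le hB₀A)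
        · have := hex B hBA h1 hact
          show ffQ p H ⊓ centralizer (B : Set G) ≤ centralizer (B₀ : Set G)
          rw [this]
          exact inf_le_right
    have hB₀bot : B₀ = ⊥ :=
      hS.eq_bot_of_le_centralizer_ffQ (hB₀A.trans hAH)
        (IsElementaryAbelian.isPGroup (IsElementaryAbelian.mono hAel hB₀A))
        (le_centralizer_iff.mp hQB₀)
    rw [hB₀bot, relIndex_bot_left] at hB₀i
    exact le_sSup ⟨le_rfl, hS.isMinOffender_of_card_prime hAH hA hB₀i⟩


/-- From a generating set of subgroups of order `p` one can extract an independent generating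
family. -/
theorem exists_indep_subfamily [Finite G] {p : ℕ} [hp : Fact p.Prime] {A : Subgroup G}
    (𝒯₀ : Set (Subgroup G)) (hcard : ∀ B ∈ 𝒯₀, Nat.card B = p) (hA : sSup 𝒯₀ = A) :
    ∃ (k : ℕ) (B : Fin k → Subgroup G), (∀ i, B i ∈ 𝒯₀) ∧ iSupIndep B ∧ ⨆ i, B i = A := by
  classical
  have hfin : 𝒯₀.Finite := Set.toFinite _
  have hex : ∃ n, ∃ s : Finset (Subgroup G), (↑s ⊆ 𝒯₀) ∧
      sSup (↑s : Set (Subgroup G)) = A ∧ s.card = n :=
    ⟨_, hfin.toFinset, by simp, by simpa using hA, rfl⟩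
  obtain ⟨s, hs𝒯, hsA, hsn⟩ := Nat.find_spec hex
  have hmin : ∀ s' : Finset (Subgroup G), (↑s' ⊆ 𝒯₀) → sSup (↑s' : Set (Subgroup G)) = A →
      s.card ≤ s'.card := fun s' h1 h2 => hsn ▸ Nat.find_min' hex ⟨s', h1, h2, rfl⟩
  let e : Fin s.card ≃ s := s.equivFin.symm
  refine ⟨s.card, fun i => ((e i : s) : Subgroup G), ?_, ?_, ?_⟩
  · intro i
    exact hs𝒯 (e i).2
  · rw [iSupIndep_def]
    intro i
    rw [disjoint_iff]
    by_contra hne
    have hBi : Nat.card ((e i : s) : Subgroup G) = p := hcard _ (hs𝒯 (e i).2)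
    rcases eq_bot_or_eq_of_le_of_card_prime hBi
      (inf_le_left : ((e i : s) : Subgroup G) ⊓ (⨆ j, ⨆ (_ : j ≠ i), ((e j : s) : Subgroup G)) ≤ _)
      with h | h
    · exact hne h
    · have hle : ((e i : s) : Subgroup G) ≤ ⨆ j, ⨆ (_ : j ≠ i), ((e j : s) : Subgroup G) := by
        rw [← h]; exact inf_le_right
      have hX : (⨆ j, ⨆ (_ : j ≠ i), ((e j : s) : Subgroup G)) ≤
          sSup (↑(s.erase ((e i : s) : Subgroup G)) : Set (Subgroup G)) := by
        refine iSup₂_le (fun j hj => le_sSup ?_)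
        rw [Finset.mem_coe, Finset.mem_erase]
        refine ⟨fun hcon => hj (e.injective (Subtype.ext hcon)), (e j).2⟩
      have hs' : sSup (↑(s.erase ((e i : s) : Subgroup G)) : Set (Subgroup G)) = A := by
        apply le_antisymm
        · rw [← hsA]
          exact sSup_le_sSup (Finset.coe_subset.mpr (Finset.erase_subset _ _))
        · rw [← hsA]
          apply sSup_le
          intro C hC
          by_cases hCi : C = ((e i : s) : Subgroup G)
          · rw [hCi]; exact hle.trans hX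
          · exact le_sSup (by
              rw [Finset.mem_coe, Finset.mem_erase]; exact ⟨hCi, hC⟩)
      have h1 := hmin (s.erase ((e i : s) : Subgroup G))
        ((Finset.coe_subset.mpr (Finset.erase_subset _ _)).trans hs𝒯) hs'
      rw [Finset.card_erase_of_mem (e i).2] at h1
      have : 0 < s.card := i.pos
      omega
  · rw [← hsA, sSup_eq_iSup']
    exact e.iSup_comp (g := fun x : s => (x : Subgroup G))

/-- KS 9.3: a nontrivial best offender in `H` is the direct product of minimal offenders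
(= S0612). -/
theorem FFSetup.exists_minOffender_decomp [Finite G] {p : ℕ} [hp : Fact p.Prime]
    {V H : Subgroup G} (hS : FFSetup p V H) {A : Subgroup G} (hAH : A ≤ H)
    (hA : IsBestOffenderOn p V A) :
    ∃ (k : ℕ) (B : Fin k → Subgroup G), (∀ i, B i ≤ A ∧ IsMinOffender p V (B i)) ∧
      iSupIndep B ∧ ⨆ i, B i = A := by
  have hgen := hS.le_sSup_minOffender _ A rfl hAH hA
  have hA' : sSup {B : Subgroup G | B ≤ A ∧ IsMinOffender p V B} = A :=
    le_antisymm (sSup_le (fun B hB => hB.1)) hgen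
  have hcard : ∀ B ∈ {B : Subgroup G | B ≤ A ∧ IsMinOffender p V B}, Nat.card B = p := by
    rintro B ⟨hBA, hB⟩
    exact (hS.minimal_offender (hBA.trans hAH) hB.1 hB.2.1 hB.2.2).1
  obtain ⟨k, B, hB, hind, hsup⟩ := exists_indep_subfamily _ hcard hA'
  exact ⟨k, B, hB, hind, hsup⟩

end Cfsg.Agent.Helper7
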