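import Mathlib
import Cfsg.Prelude.Def_PLocal
import Cfsg.Agent.Helper7.FFModule5
import Cfsg.Agent.Helper7.Layer

set_option autoImplicit false
set_option linter.style.haveILetI false
set_option linter.unusedSectionVars false

/-! # Failure of factorization (KS 9.3): the subgroups `E_A` pairwise coincide or commute -/

namespace Cfsg.Agent.Helper7

open Subgroup Cfsg
open scoped commutatorElement

variable {G : Type*} [Group G]

theorem ffQ_le_normalizer_commutator_right (p : ℕ) {V H : Subgroup G}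
    (hHV : H ≤ normalizer (V : Set G)) (A : Subgroup G) :
    ffQ p H ≤ normalizer ((⁅V, ⁅ffQ p H, A⁆⁆ : Subgroup G) : Set G) :=
  Cfsg.Agent.Helper10.le_normalizer_commutator_of_le ((ffQ_le p H).trans hHV)
    (ffQ_le_normalizer_commutator p H A)

/-- `[V, E_A]` is an irreducible `Q`-module. -/
theorem FFSetup.commutator_ffE_irreducible [Finite G] {p : ℕ} [hp : Fact p.Prime]
    {V H : Subgroup G} (hS : FFSetup p V H) {A : Subgroup G} (hA : FFMin p V H A)
    {P : Subgroup G} (hPU : P ≤ ⁅V, ffE p H A⁆) (hQP : ffQ p H ≤ normalizer (P : Set G))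
    (hP1 : P ≠ ⊥) : P = ⁅V, ffE p H A⁆ := by
  obtain ⟨u, huP, hu1⟩ := exists_mem_ne_one_of_ne_bot hP1
  obtain ⟨B, hB, huB⟩ := hS.exists_mem_center hA (hPU huP)
  have hBm : FFMin p V H B := hA.of_mem_ffConj hS.hHV hB
  have hz : zpowers u = ⁅V, B⁆ := eq_zpowers_of_card_prime hBm.hW huB hu1
  have hBP : ⁅V, B⁆ ≤ P := by rw [← hz]; exact (zpowers_le (H := P)).2 huP
  obtain ⟨q, hq, hqB⟩ := hS.exists_mem_ffQ_not_mem_centralizer hBm
  obtain ⟨-, hcard, -, -⟩ := hS.two_conjugates hBm.hAH hBm.hAp hBm.hW hq hqB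
  have hqH : q ∈ H := ffQ_le p H hq
  have hB'm := hBm.map_conj hS.hHV hqH
  rw [commutator_sup_right_eq (hBm.hAH.trans hS.hHV) (hB'm.hAH.trans hS.hHV)] at hcard
  have hB'P : ⁅V, B.map (MulAut.conj q).toMonoidHom⁆ ≤ P := by
    rw [commutator_map_conj (hS.hHV hqH)]
    rintro _ ⟨w, hw, rfl⟩
    exact conj_mem_of_mem_normalizer (hQP hq) (hBP hw)
  have hle : ⁅V, B⁆ ⊔ ⁅V, B.map (MulAut.conj q).toMonoidHom⁆ ≤ P := sup_le hBP hB'P
  have hcP : p ^ 2 ≤ Nat.card P := by
    rw [← hcard]; exact Nat.le_of_dvd Nat.card_pos (card_dvd_of_le hle)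
  exact eq_of_le_of_card_ge hPU (by rw [hS.card_commutator_ffE hA]; exact hcP)

/-- `[Q, B]` normalizes `[Q, A]`. -/
theorem commutator_ffQ_le_normalizer {p : ℕ} {H A B : Subgroup G} (hBH : B ≤ H) :
    ⁅ffQ p H, B⁆ ≤ normalizer ((⁅ffQ p H, A⁆ : Subgroup G) : Set G) :=
  (Cfsg.Agent.Lead.commutator_le_of_le_normalizer (hBH.trans (le_normalizer_ffQ p H))).trans
    (ffQ_le_normalizer_commutator p H A)

/-- If the planes differ then `[Q, B]` centralizes `[V, E_A]`. -/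
theorem FFSetup.commutator_ffQ_le_centralizer [Finite G] {p : ℕ} [hp : Fact p.Prime]
    {V H : Subgroup G} (hS : FFSetup p V H) {A B : Subgroup G} (hA : FFMin p V H A)
    (hB : FFMin p V H B) (hne : ⁅V, ffE p H A⁆ ≠ ⁅V, ffE p H B⁆) :
    ⁅ffQ p H, B⁆ ≤ centralizer ((⁅V, ffE p H A⁆ : Subgroup G) : Set G) := by
  set LA : Subgroup G := ⁅ffQ p H, A⁆ with hLA
  set LB : Subgroup G := ⁅ffQ p H, B⁆ with hLB
  obtain ⟨hUA, -, -, -⟩ := hS.ffE_decomp hA
  obtain ⟨hUB, -, -, -⟩ := hS.ffE_decomp hB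
  set UA : Subgroup G := ⁅V, ffE p H A⁆ with hUAdef
  have hLBQ : LB ≤ ffQ p H := FFSetup.commutator_ffQ_le hB.hAH
  have hQUA : ffQ p H ≤ normalizer (UA : Set G) := by
    rw [hUA]; exact ffQ_le_normalizer_commutator_right p hS.hHV A
  have hLBUA : LB ≤ normalizer (UA : Set G) := hLBQ.trans hQUA
  -- `P := [U_A, L_B]` is `Q`-invariant
  have hQLB : ffQ p H ≤ normalizer (LB : Set G) := ffQ_le_normalizer_commutator p H B
  have hQP : ffQ p H ≤ normalizer ((⁅UA, LB⁆ : Subgroup G) : Set G) :=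
    Cfsg.Agent.Helper10.le_normalizer_commutator_of_le hQUA hQLB
  have hPU : ⁅UA, LB⁆ ≤ UA := Cfsg.Agent.Lead.commutator_le_of_le_normalizer hLBUA
  rw [← commutator_eq_bot_iff_le_centralizer, commutator_comm]
  by_contra hP1
  have hPeq := hS.commutator_ffE_irreducible hA hPU hQP hP1
  -- then `U_A ≤ U_B`
  have hUAV : UA ≤ V :=
    Cfsg.Agent.Lead.commutator_le_of_le_normalizer ((ffE_le hA.hAH).trans hS.hHV)
  have hle : UA ≤ ⁅V, ffE p H B⁆ := by
    rw [hUB]
    calc UA = ⁅UA, LB⁆ := hPeq.symm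
      _ ≤ ⁅V, LB⁆ := commutator_mono hUAV le_rfl
  apply hne
  exact eq_of_le_of_card_ge hle (by rw [hS.card_commutator_ffE hA, hS.card_commutator_ffE hB])


theorem conj_eq_self_of_commute {V : Subgroup G} (hV : ∀ v ∈ V, ∀ w ∈ V, v * w = w * v)
    {W : Subgroup G} (hWV : W ≤ V) : ∀ g ∈ V, ∀ w ∈ W, g * w * g⁻¹ ∈ W := by
  intro g hg w hw
  rw [hV g hg w (hWV hw), mul_inv_cancel_right]
  exact hw

/-- If the planes differ then `[V, E_B] ≤ C_V(E_A)`. -/
theorem FFSetup.commutator_ffE_le_of_ne [Finite G] {p : ℕ} [hp : Fact p.Prime]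
    {V H : Subgroup G} (hS : FFSetup p V H) {A B : Subgroup G} (hA : FFMin p V H A)
    (hB : FFMin p V H B) (hne : ⁅V, ffE p H A⁆ ≠ ⁅V, ffE p H B⁆) :
    ⁅V, ffE p H B⁆ ≤ V ⊓ centralizer ((ffE p H A : Subgroup G) : Set G) := by
  have hLB := hS.commutator_ffQ_le_centralizer hA hB hne
  obtain ⟨-, hCA, -, hVA⟩ := hS.ffE_decomp hA
  obtain ⟨hUB, -, -, -⟩ := hS.ffE_decomp hB
  have hVc : ∀ v ∈ V, ∀ w ∈ V, v * w = w * v := fun v hv w hw =>
    IsElementaryAbelian.commute hS.hV hv hw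
  have hLBV : ⁅ffQ p H, B⁆ ≤ normalizer (V : Set G) :=
    ((FFSetup.commutator_ffQ_le hB.hAH).trans (ffQ_le p H)).trans hS.hHV
  have hLBCA : ⁅ffQ p H, B⁆ ≤
      normalizer ((V ⊓ centralizer ((ffE p H A : Subgroup G) : Set G) : Subgroup G) : Set G) := by
    rw [hCA]
    exact Cfsg.Agent.Helper10.le_normalizer_inf_of_le hLBV
      (Cfsg.Agent.Helper10.le_normalizer_centralizer_of_le
        (commutator_ffQ_le_normalizer hB.hAH))
  rw [hUB]
  have key : ⁅⁅V, ffE p H A⁆ ⊔ (V ⊓ centralizer ((ffE p H A : Subgroup G) : Set G)),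
      ⁅ffQ p H, B⁆⁆ ≤ V ⊓ centralizer ((ffE p H A : Subgroup G) : Set G) := by
    apply Cfsg.Agent.Helper10.commutator_sup_le_of_conj_mem
    · rw [hVA]
      exact conj_eq_self_of_commute hVc inf_le_left
    · have : ⁅⁅V, ffE p H A⁆, ⁅ffQ p H, B⁆⁆ = ⊥ := by
        rw [commutator_eq_bot_iff_le_centralizer]
        exact le_centralizer_iff.mp hLB
      rw [this]; exact bot_le
    · exact Cfsg.Agent.Lead.commutator_le_of_le_normalizer hLBCA
  rwa [hVA] at key

/-- If the planes differ then `E_A` and `E_B` commute. -/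
theorem FFSetup.ffE_commute_of_ne [Finite G] {p : ℕ} [hp : Fact p.Prime]
    {V H : Subgroup G} (hS : FFSetup p V H) {A B : Subgroup G} (hA : FFMin p V H A)
    (hB : FFMin p V H B) (hne : ⁅V, ffE p H A⁆ ≠ ⁅V, ffE p H B⁆) :
    ⁅ffE p H A, ffE p H B⁆ = ⊥ := by
  set EA : Subgroup G := ffE p H A with hEA
  set EB : Subgroup G := ffE p H B with hEB
  have hBA : ⁅V, EB⁆ ≤ V ⊓ centralizer (EA : Set G) := hS.commutator_ffE_le_of_ne hA hB hne
  have hAB : ⁅V, EA⁆ ≤ V ⊓ centralizer (EB : Set G) := hS.commutator_ffE_le_of_ne hB hA hne.symm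
  obtain ⟨-, -, -, hVA⟩ := hS.ffE_decomp hA
  obtain ⟨-, -, -, hVB⟩ := hS.ffE_decomp hB
  have hEAH : EA ≤ H := ffE_le hA.hAH
  have hEBH : EB ≤ H := ffE_le hB.hAH
  -- `[E_A, E_B]` centralizes `U_A`, `U_B` and `C_A ∩ C_B`
  have h1 : ⁅EA, EB⁆ ≤ centralizer ((⁅V, EA⁆ : Subgroup G) : Set G) :=
    commutator_le_centralizer_of_le_normalizer
      (Cfsg.Agent.Lead.le_normalizer_commutator_right V EA)
      (le_centralizer_iff.mp (hAB.trans inf_le_right))
  have h2 : ⁅EA, EB⁆ ≤ centralizer ((⁅V, EB⁆ : Subgroup G) : Set G) := by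
    rw [commutator_comm]
    exact commutator_le_centralizer_of_le_normalizer
      (Cfsg.Agent.Lead.le_normalizer_commutator_right V EB)
      (le_centralizer_iff.mp (hBA.trans inf_le_right))
  have h3 : ⁅EA, EB⁆ ≤ centralizer
      ((centralizer (EA : Set G) ⊓ centralizer (EB : Set G) : Subgroup G) : Set G) := by
    have hA' : EA ≤ centralizer
        ((centralizer (EA : Set G) ⊓ centralizer (EB : Set G) : Subgroup G) : Set G) :=
      le_centralizer_iff.mp inf_le_left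
    have hB' : EB ≤ centralizer
        ((centralizer (EA : Set G) ⊓ centralizer (EB : Set G) : Subgroup G) : Set G) :=
      le_centralizer_iff.mp inf_le_right
    rw [commutator_le]
    intro x hx y hy
    rw [commutatorElement_def]
    exact mul_mem (mul_mem (mul_mem (hA' hx) (hB' hy)) (inv_mem (hA' hx))) (inv_mem (hB' hy))
  have hcomm : ⁅EA, EB⁆ ≤ H ⊓ centralizer (V : Set G) := by
    refine le_inf ((commutator_mono hEAH hEBH).trans
      (Cfsg.Agent.Helper10.commutator_self_le H)) ?_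
    intro g hg
    rw [mem_centralizer_iff]
    intro v hv
    -- decompose `v = u * (u' * c')`
    have hVc : ∀ v ∈ V, ∀ w ∈ V, v * w = w * v := fun v hv w hw =>
      IsElementaryAbelian.commute hS.hV hv hw
    have hn1 : V ⊓ centralizer (EA : Set G) ≤ normalizer ((⁅V, EA⁆ : Subgroup G) : Set G) :=
      le_normalizer_of_forall_conj_mem (fun b hb u hu =>
        conj_eq_self_of_commute hVc
          (Cfsg.Agent.Lead.commutator_le_of_le_normalizer (hEAH.trans hS.hHV)) b hb.1 u hu)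
    have hn2 : V ⊓ centralizer (EB : Set G) ≤ normalizer ((⁅V, EB⁆ : Subgroup G) : Set G) :=
      le_normalizer_of_forall_conj_mem (fun b hb u hu =>
        conj_eq_self_of_commute hVc
          (Cfsg.Agent.Lead.commutator_le_of_le_normalizer (hEBH.trans hS.hHV)) b hb.1 u hu)
    have hv' : v ∈ V := hv
    rw [← hVA, mem_sup_of_le_normalizer hn1] at hv'
    obtain ⟨u, hu, c, hc, rfl⟩ := hv'
    have hcV : c ∈ V := hc.1
    rw [← hVB, mem_sup_of_le_normalizer hn2] at hcV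
    obtain ⟨u', hu', c', hc', rfl⟩ := hcV
    have hc'A : c' ∈ centralizer (EA : Set G) := by
      have h4 : u' ∈ centralizer (EA : Set G) := (hBA hu').2
      have : c' = u'⁻¹ * (u' * c') := by group
      rw [this]
      exact mul_mem (inv_mem h4) hc.2
    have e1 := (mem_centralizer_iff.mp (h1 hg)) u hu
    have e2 := (mem_centralizer_iff.mp (h2 hg)) u' hu'
    have e3 := (mem_centralizer_iff.mp (h3 hg)) c' ⟨hc'A, hc'.2⟩
    calc u * (u' * c') * g = u * (u' * (c' * g)) := by group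
      _ = u * (u' * (g * c')) := by rw [e3]
      _ = u * ((u' * g) * c') := by group
      _ = u * ((g * u') * c') := by rw [e2]
      _ = (u * g) * (u' * c') := by group
      _ = (g * u) * (u' * c') := by rw [e1]
      _ = g * (u * (u' * c')) := by group
  rw [hS.hf] at hcomm
  exact le_bot_iff.mp hcomm


/-- If the planes coincide then so do the fixed-point complements. -/
theorem FFSetup.inf_centralizer_ffE_le_of_eq [Finite G] {p : ℕ} [hp : Fact p.Prime]
    {V H : Subgroup G} (hS : FFSetup p V H) {A B : Subgroup G} (hA : FFMin p V H A)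
    (hB : FFMin p V H B) (heq : ⁅V, ffE p H A⁆ = ⁅V, ffE p H B⁆) :
    V ⊓ centralizer ((ffE p H A : Subgroup G) : Set G) ≤
      V ⊓ centralizer ((ffE p H B : Subgroup G) : Set G) := by
  obtain ⟨-, hCA, hdA, -⟩ := hS.ffE_decomp hA
  obtain ⟨hUB, hCB, -, -⟩ := hS.ffE_decomp hB
  have hLBV : ⁅ffQ p H, B⁆ ≤ normalizer (V : Set G) :=
    ((FFSetup.commutator_ffQ_le hB.hAH).trans (ffQ_le p H)).trans hS.hHV
  have hLBCA : ⁅ffQ p H, B⁆ ≤
      normalizer ((V ⊓ centralizer ((ffE p H A : Subgroup G) : Set G) : Subgroup G) : Set G) := by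
    rw [hCA]
    exact Cfsg.Agent.Helper10.le_normalizer_inf_of_le hLBV
      (Cfsg.Agent.Helper10.le_normalizer_centralizer_of_le
        (commutator_ffQ_le_normalizer hB.hAH))
  have h1 : ⁅V ⊓ centralizer ((ffE p H A : Subgroup G) : Set G), ⁅ffQ p H, B⁆⁆ = ⊥ := by
    rw [eq_bot_iff, ← hdA, heq, hUB]
    exact le_inf (commutator_mono inf_le_left le_rfl)
      (Cfsg.Agent.Lead.commutator_le_of_le_normalizer hLBCA)
  rw [commutator_eq_bot_iff_le_centralizer] at h1
  rw [hCB]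
  exact le_inf inf_le_left h1

/-- If the planes coincide then `E_A = E_B`. -/
theorem FFSetup.ffE_eq_of_commutator_eq [Finite G] {p : ℕ} [hp : Fact p.Prime]
    {V H : Subgroup G} (hS : FFSetup p V H) {A B : Subgroup G} (hA : FFMin p V H A)
    (hB : FFMin p V H B) (heq : ⁅V, ffE p H A⁆ = ⁅V, ffE p H B⁆) :
    ffE p H A = ffE p H B := by
  set EA : Subgroup G := ffE p H A with hEA
  set EB : Subgroup G := ffE p H B with hEB
  have hC : V ⊓ centralizer (EA : Set G) = V ⊓ centralizer (EB : Set G) :=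
    le_antisymm (hS.inf_centralizer_ffE_le_of_eq hA hB heq)
      (hS.inf_centralizer_ffE_le_of_eq hB hA heq.symm)
  obtain ⟨-, -, -, hVA⟩ := hS.ffE_decomp hA
  have hEAH : EA ≤ H := ffE_le hA.hAH
  have hEBH : EB ≤ H := ffE_le hB.hAH
  have hTH : EA ⊔ EB ≤ H := sup_le hEAH hEBH
  have hUT : ⁅V, EA ⊔ EB⁆ = ⁅V, EA⁆ := by
    rw [commutator_sup_right_eq (hEAH.trans hS.hHV) (hEBH.trans hS.hHV), ← heq, sup_idem]
  have hfaith : (EA ⊔ EB) ⊓ centralizer ((⁅V, EA⁆ : Subgroup G) : Set G) = ⊥ := by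
    rw [eq_bot_iff, ← hS.hf]
    refine le_inf (inf_le_left.trans hTH) ?_
    have hTC : EA ⊔ EB ≤ centralizer ((V ⊓ centralizer (EA : Set G) : Subgroup G) : Set G) := by
      apply sup_le
      · exact le_centralizer_iff.mp inf_le_right
      · rw [hC]; exact le_centralizer_iff.mp inf_le_right
    have : (EA ⊔ EB) ⊓ centralizer ((⁅V, EA⁆ : Subgroup G) : Set G) ≤
        centralizer ((⁅V, EA⁆ ⊔ (V ⊓ centralizer (EA : Set G)) : Subgroup G) : Set G) := by
      rw [centralizer_sup_eq]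
      exact le_inf inf_le_right (inf_le_left.trans hTC)
    rwa [hVA] at this
  obtain ⟨q₀, hq₀, hq₀A⟩ := hS.exists_mem_ffQ_not_mem_centralizer hA
  have hne := hS.map_conj_ne_of_not_mem_centralizer hA hq₀ hq₀A
  have hA' : A.map (MulAut.conj q₀).toMonoidHom ∈ ffConj p H A := ⟨q₀, hq₀, rfl⟩
  have hUV : ⁅V, EA⁆ ≤ V := Cfsg.Agent.Lead.commutator_le_of_le_normalizer (hEAH.trans hS.hHV)
  have hTU : EA ⊔ EB ≤ normalizer ((⁅V, EA⁆ : Subgroup G) : Set G) := by
    rw [← hUT]; exact Cfsg.Agent.Lead.le_normalizer_commutator_right V _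
  have hTsup : EA ⊔ EB = sSup (ffConj p H A ∪ ffConj p H B) := by
    rw [sSup_union, ← ffE_eq_sSup, ← ffE_eq_sSup]
  obtain ⟨eT⟩ := nonempty_mulEquiv_SL2_of_family (IsElementaryAbelian.mono hS.hV hUV)
    (hS.card_commutator_ffE hA) hTU hfaith hTsup
    (fun C hC => by
      rcases hC with hC | hC
      · exact (hA.of_mem_ffConj hS.hHV hC).hAp
      · exact (hB.of_mem_ffConj hS.hHV hC).hAp)
    (Or.inl (self_mem_ffConj p H A)) (Or.inl hA') hne
  obtain ⟨-, ⟨eA⟩⟩ := hS.ffE_mulEquiv hA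
  obtain ⟨-, ⟨eB⟩⟩ := hS.ffE_mulEquiv hB
  have hcT : Nat.card ↥(EA ⊔ EB) = Nat.card EA := by
    rw [Nat.card_congr eT.toEquiv, Nat.card_congr eA.toEquiv]
  have hcT' : Nat.card ↥(EA ⊔ EB) = Nat.card EB := by
    rw [Nat.card_congr eT.toEquiv, Nat.card_congr eB.toEquiv]
  have h1 : EA = EA ⊔ EB := eq_of_le_of_card_ge le_sup_left hcT.le
  have h2 : EB = EA ⊔ EB := eq_of_le_of_card_ge le_sup_right hcT'.le
  rw [h1, ← h2]

end Cfsg.Agent.Helper7
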