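import Mathlib
import Cfsg.Prelude.Def_PLocal
import Cfsg.Agent.Helper7.FFModule6
import Cfsg.Agent.Helper7.FFModule7

set_option autoImplicit false
set_option linter.style.haveILetI false
set_option linter.unusedSectionVars false

/-! # Failure of factorization (KS 9.3): `H = E_A × C_H([V, E_A])` -/

namespace Cfsg.Agent.Helper7

open Subgroup Cfsg
open scoped commutatorElement

variable {G : Type*} [Group G]

theorem IsMinOffender.ffMin [Finite G] {p : ℕ} [hp : Fact p.Prime] {V H : Subgroup G}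
    (hS : FFSetup p V H) {B : Subgroup G} (hBH : B ≤ H) (hB : IsMinOffender p V B) :
    FFMin p V H B := hS.ffMin_of_minimal hBH hB.1 hB.2.1 hB.2.2

/-- `H` is generated by its minimal offenders. -/
theorem FFSetup.le_sSup_minOffender_top [Finite G] {p : ℕ} [hp : Fact p.Prime] {V H : Subgroup G}
    (hS : FFSetup p V H)
    (hS3 : H = ⨆ A : {A : Subgroup G // A ≤ H ∧ IsBestOffenderOn p V A}, (A : Subgroup G)) :
    H ≤ sSup {B : Subgroup G | B ≤ H ∧ IsMinOffender p V B} := by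
  have h : (⨆ A : {A : Subgroup G // A ≤ H ∧ IsBestOffenderOn p V A}, (A : Subgroup G)) ≤
      sSup {B : Subgroup G | B ≤ H ∧ IsMinOffender p V B} := by
    apply iSup_le
    rintro ⟨A, hAH, hA⟩
    refine (hS.le_sSup_minOffender _ A rfl hAH hA).trans ?_
    apply sSup_le_sSup
    rintro B ⟨hBA, hB⟩
    exact ⟨hBA.trans hAH, hB⟩
  exact hS3.le.trans h

/-- The product of the `E_B` whose plane differs from that of `E_A`. -/
def ffCompl (p : ℕ) (V H A : Subgroup G) : Subgroup G :=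
  sSup {E' : Subgroup G | ∃ B : Subgroup G, B ≤ H ∧ IsMinOffender p V B ∧ E' = ffE p H B ∧
    ⁅V, ffE p H B⁆ ≠ ⁅V, ffE p H A⁆}

theorem FFSetup.ffCompl_le [Finite G] {p : ℕ} [hp : Fact p.Prime] {V H : Subgroup G}
    (hS : FFSetup p V H) {A : Subgroup G} (hA : FFMin p V H A) :
    ffCompl p V H A ≤ H ⊓ centralizer ((⁅V, ffE p H A⁆ : Subgroup G) : Set G) := by
  apply sSup_le
  rintro E' ⟨B, hBH, hB, rfl, hne⟩
  have hBm : FFMin p V H B := hB.ffMin hS hBH
  refine le_inf (ffE_le hBH) ?_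
  exact le_centralizer_iff.mp ((hS.commutator_ffE_le_of_ne hBm hA hne).trans inf_le_right)

theorem FFSetup.ffCompl_le_centralizer [Finite G] {p : ℕ} [hp : Fact p.Prime] {V H : Subgroup G}
    (hS : FFSetup p V H) {A : Subgroup G} (hA : FFMin p V H A) :
    ffCompl p V H A ≤ centralizer ((ffE p H A : Subgroup G) : Set G) := by
  apply sSup_le
  rintro E' ⟨B, hBH, hB, rfl, hne⟩
  have hBm : FFMin p V H B := hB.ffMin hS hBH
  rw [← commutator_eq_bot_iff_le_centralizer]
  exact hS.ffE_commute_of_ne hBm hA hne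

theorem FFSetup.le_ffE_sup_ffCompl [Finite G] {p : ℕ} [hp : Fact p.Prime] {V H : Subgroup G}
    (hS : FFSetup p V H)
    (hS3 : H = ⨆ A : {A : Subgroup G // A ≤ H ∧ IsBestOffenderOn p V A}, (A : Subgroup G))
    {A : Subgroup G} (hA : FFMin p V H A) : H ≤ ffE p H A ⊔ ffCompl p V H A := by
  refine (hS.le_sSup_minOffender_top hS3).trans (sSup_le ?_)
  rintro B ⟨hBH, hB⟩
  have hBm : FFMin p V H B := hB.ffMin hS hBH
  have hBE : B ≤ ffE p H B := le_sup_right
  by_cases heq : ⁅V, ffE p H B⁆ = ⁅V, ffE p H A⁆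
  · rw [hS.ffE_eq_of_commutator_eq hBm hA heq] at hBE
    exact hBE.trans le_sup_left
  · have hmem : ffE p H B ∈ {E' : Subgroup G | ∃ B : Subgroup G, B ≤ H ∧ IsMinOffender p V B ∧
        E' = ffE p H B ∧ ⁅V, ffE p H B⁆ ≠ ⁅V, ffE p H A⁆} := ⟨B, hBH, hB, rfl, heq⟩
    exact hBE.trans ((le_sSup hmem).trans le_sup_right)

/-- KS 9.3 (= S0616, second half): `H = E_A × F` with `F = C_H([V, E_A])`, and
`[V, F] ≤ C_V(E_A)`. -/
theorem FFSetup.ffE_direct_factor [Finite G] {p : ℕ} [hp : Fact p.Prime] {V H : Subgroup G}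
    (hS : FFSetup p V H)
    (hS3 : H = ⨆ A : {A : Subgroup G // A ≤ H ∧ IsBestOffenderOn p V A}, (A : Subgroup G))
    {A : Subgroup G} (hA : FFMin p V H A) :
    ⁅ffE p H A, H ⊓ centralizer ((⁅V, ffE p H A⁆ : Subgroup G) : Set G)⁆ = ⊥ ∧
    ffE p H A ⊓ (H ⊓ centralizer ((⁅V, ffE p H A⁆ : Subgroup G) : Set G)) = ⊥ ∧
    ffE p H A ⊔ (H ⊓ centralizer ((⁅V, ffE p H A⁆ : Subgroup G) : Set G)) = H ∧
    ⁅V, H ⊓ centralizer ((⁅V, ffE p H A⁆ : Subgroup G) : Set G)⁆ ≤
      V ⊓ centralizer ((ffE p H A : Subgroup G) : Set G) ∧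
    H ⊓ centralizer ((⁅V, ffE p H A⁆ : Subgroup G) : Set G) = ffCompl p V H A := by
  set E : Subgroup G := ffE p H A with hE
  set F : Subgroup G := H ⊓ centralizer ((⁅V, E⁆ : Subgroup G) : Set G) with hF
  have hEH : E ≤ H := ffE_le hA.hAH
  have hF'F : ffCompl p V H A ≤ F := hS.ffCompl_le hA
  have hF'C : ffCompl p V H A ≤ centralizer (E : Set G) := hS.ffCompl_le_centralizer hA
  have hHle : H ≤ E ⊔ ffCompl p V H A := hS.le_ffE_sup_ffCompl hS3 hA
  have hinf : E ⊓ F = ⊥ := by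
    rw [eq_bot_iff, ← hS.ffE_faithful hA]
    exact inf_le_inf_left _ inf_le_right
  have hsup : E ⊔ F = H :=
    le_antisymm (sup_le hEH inf_le_left) (hHle.trans (sup_le_sup_left hF'F E))
  have hFF' : F ≤ ffCompl p V H A := by
    intro f hf
    have hf' : f ∈ E ⊔ ffCompl p V H A := hHle hf.1
    rw [mem_sup_of_le_normalizer (hF'C.trans (centralizer_le_normalizer _))] at hf'
    obtain ⟨e, he, f', hf', rfl⟩ := hf'
    have heF : e ∈ F := by
      have : e = (e * f') * f'⁻¹ := by group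
      rw [this]
      exact mul_mem hf (inv_mem (hF'F hf'))
    have : e ∈ E ⊓ F := ⟨he, heF⟩
    rw [hinf, mem_bot] at this
    rw [this, one_mul]
    exact hf'
  have hFC : F ≤ centralizer (E : Set G) := hFF'.trans hF'C
  have hcomm : ⁅E, F⁆ = ⊥ := by
    rw [commutator_eq_bot_iff_le_centralizer]
    exact le_centralizer_iff.mp hFC
  refine ⟨hcomm, hinf, hsup, ?_, le_antisymm hFF' hF'F⟩
  -- `[V, F] ≤ C_V(E)`
  obtain ⟨-, -, -, hVA⟩ := hS.ffE_decomp hA
  have hVc : ∀ v ∈ V, ∀ w ∈ V, v * w = w * v := fun v hv w hw =>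
    IsElementaryAbelian.commute hS.hV hv hw
  have hFV : F ≤ normalizer (V : Set G) := inf_le_left.trans hS.hHV
  have hFCA : F ≤ normalizer ((V ⊓ centralizer (E : Set G) : Subgroup G) : Set G) :=
    Cfsg.Agent.Helper10.le_normalizer_inf_of_le hFV
      (Cfsg.Agent.Helper10.le_normalizer_centralizer_of_le
        (hFC.trans (centralizer_le_normalizer _)))
  have key : ⁅⁅V, E⁆ ⊔ (V ⊓ centralizer (E : Set G)), F⁆ ≤ V ⊓ centralizer (E : Set G) := by
    apply Cfsg.Agent.Helper10.commutator_sup_le_of_conj_mem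
    · rw [hVA]
      exact conj_eq_self_of_commute hVc inf_le_left
    · have : ⁅⁅V, E⁆, F⁆ = ⊥ := by
        rw [commutator_eq_bot_iff_le_centralizer]
        exact le_centralizer_iff.mp inf_le_right
      rw [this]; exact bot_le
    · exact Cfsg.Agent.Lead.commutator_le_of_le_normalizer hFCA
  rwa [hVA] at key

end Cfsg.Agent.Helper7
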