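import Mathlib
import Cfsg.Prelude.Def_PLocal
import Cfsg.Agent.Helper7.FFModule8

set_option autoImplicit false
set_option linter.style.haveILetI false
set_option linter.unusedSectionVars false

/-! # Failure of factorization (KS 9.3): the structure theorem -/

namespace Cfsg.Agent.Helper7

open Subgroup Cfsg
open scoped commutatorElement

variable {G : Type*} [Group G]

theorem FFSetup.exists_minOffender [Finite G] {p : ℕ} [hp : Fact p.Prime] {V H : Subgroup G}
    (hS : FFSetup p V H)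
    (hS3 : H = ⨆ A : {A : Subgroup G // A ≤ H ∧ IsBestOffenderOn p V A}, (A : Subgroup G))
    (hH1 : H ≠ ⊥) : ∃ B : Subgroup G, B ≤ H ∧ IsMinOffender p V B := by
  by_contra hcon
  push Not at hcon
  have h := hS.le_sSup_minOffender_top hS3
  have hempty : {B : Subgroup G | B ≤ H ∧ IsMinOffender p V B} = ∅ := by
    ext B
    simp only [Set.mem_setOf_eq, Set.mem_empty_iff_false, iff_false, not_and]
    exact hcon B
  rw [hempty, sSup_empty, le_bot_iff] at h
  exact hH1 h

/-- KS 9.3 structure theorem (= S0617), for an arbitrary predicate `P` describing the factors. -/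
theorem FFSetup.structure_theorem [Finite G] {p : ℕ} [hp : Fact p.Prime] {V H : Subgroup G}
    (hS : FFSetup p V H)
    (hS3 : H = ⨆ A : {A : Subgroup G // A ≤ H ∧ IsBestOffenderOn p V A}, (A : Subgroup G))
    (hH1 : H ≠ ⊥) (P : Subgroup G → Prop)
    (hP : ∀ E : Subgroup G, P E ↔ ∃ A : Subgroup G, A ≤ H ∧ IsMinOffender p V A ∧ E = ffE p H A) :
    (p = 2 ∨ p = 3) ∧
    (∀ E : {E : Subgroup G // P E}, H ≤ normalizer ((E : Subgroup G) : Set G) ∧
      Nonempty (↥(E : Subgroup G) ≃* Matrix.SpecialLinearGroup (Fin 2) (ZMod p)) ∧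
      Nat.card ↥(⁅V, (E : Subgroup G)⁆) = p ^ 2) ∧
    iSupIndep (fun E : {E : Subgroup G // P E} => (E : Subgroup G)) ∧
    (⨆ E : {E : Subgroup G // P E}, (E : Subgroup G)) = H ∧
    iSupIndep (fun o : Option {E : Subgroup G // P E} =>
      o.elim (V ⊓ centralizer (H : Set G)) (fun E => ⁅V, (E : Subgroup G)⁆)) ∧
    (V ⊓ centralizer (H : Set G)) ⊔ (⨆ E : {E : Subgroup G // P E}, ⁅V, (E : Subgroup G)⁆) = V := by
  have hVc : ∀ v ∈ V, ∀ w ∈ V, v * w = w * v := fun v hv w hw =>
    IsElementaryAbelian.commute hS.hV hv hw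
  -- data attached to a factor
  have hdata : ∀ E : {E : Subgroup G // P E}, ∃ A : Subgroup G, FFMin p V H A ∧
      IsMinOffender p V A ∧ (E : Subgroup G) = ffE p H A := by
    rintro ⟨E, hE⟩
    obtain ⟨A, hAH, hA, rfl⟩ := (hP E).mp hE
    exact ⟨A, hA.ffMin hS hAH, hA, rfl⟩
  have hmk : ∀ A : Subgroup G, A ≤ H → IsMinOffender p V A → P (ffE p H A) :=
    fun A hAH hA => (hP _).mpr ⟨A, hAH, hA, rfl⟩
  -- distinct factors have distinct planes
  have hplane : ∀ E E' : {E : Subgroup G // P E}, E' ≠ E →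
      ∀ A A' : Subgroup G, FFMin p V H A → FFMin p V H A' → (E : Subgroup G) = ffE p H A →
      (E' : Subgroup G) = ffE p H A' → ⁅V, ffE p H A'⁆ ≠ ⁅V, ffE p H A⁆ := by
    intro E E' hne A A' hA hA' hE hE' heq
    apply hne
    apply Subtype.ext
    rw [hE, hE']
    exact hS.ffE_eq_of_commutator_eq hA' hA heq
  obtain ⟨B₀, hB₀H, hB₀⟩ := hS.exists_minOffender hS3 hH1
  have h23 : p = 2 ∨ p = 3 := (hS.ffE_mulEquiv (hB₀.ffMin hS hB₀H)).1
  refine ⟨h23, ?_, ?_, ?_, ?_, ?_⟩
  · intro E
    obtain ⟨A, hA, -, hE⟩ := hdata E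
    rw [hE]
    refine ⟨?_, (hS.ffE_mulEquiv hA).2, hS.card_commutator_ffE hA⟩
    obtain ⟨hc1, -, hc3, -, -⟩ := hS.ffE_direct_factor hS3 hA
    refine le_trans hc3.ge ?_
    refine sup_le le_normalizer ?_
    rw [commutator_eq_bot_iff_le_centralizer] at hc1
    exact (le_centralizer_iff.mp hc1).trans (centralizer_le_normalizer _)
  · rw [iSupIndep_def]
    intro E
    obtain ⟨A, hA, -, hE⟩ := hdata E
    obtain ⟨-, hc2, -, -, -⟩ := hS.ffE_direct_factor hS3 hA
    rw [disjoint_iff, eq_bot_iff, ← hc2, hE]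
    refine inf_le_inf_left _ (iSup₂_le ?_)
    intro E' hne
    obtain ⟨A', hA', -, hE'⟩ := hdata E'
    have hne' := hplane E E' hne A A' hA hA' hE hE'
    rw [hE']
    refine le_inf (ffE_le hA'.hAH) ?_
    exact le_centralizer_iff.mp ((hS.commutator_ffE_le_of_ne hA' hA hne').trans inf_le_right)
  · apply le_antisymm
    · apply iSup_le
      intro E
      obtain ⟨A, hA, -, hE⟩ := hdata E
      rw [hE]; exact ffE_le hA.hAH
    · refine (hS.le_sSup_minOffender_top hS3).trans (sSup_le ?_)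
      rintro B ⟨hBH, hB⟩
      have h1 : B ≤ ffE p H B := le_sup_right
      exact h1.trans (le_iSup (fun E : {E : Subgroup G // P E} => (E : Subgroup G))
        ⟨ffE p H B, hmk B hBH hB⟩)
  · rw [iSupIndep_def]
    haveI : IsMulCommutative V := hS.hV.1
    rintro (_ | E)
    · -- `none`
      show Disjoint (V ⊓ centralizer (H : Set G)) _
      have hQV : ffQ p H ≤ normalizer (V : Set G) := (ffQ_le p H).trans hS.hHV
      have hcop : (Nat.card (ffQ p H)).Coprime (Nat.card V) := by
        obtain ⟨k, hk⟩ := (IsElementaryAbelian.isPGroup hS.hV).exists_card_eq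
        rw [hk]
        exact Nat.Coprime.pow_right _ (ffQ_coprime p H)
      obtain ⟨hd1, -⟩ := Cfsg.Agent.Lead.coprime_abelian_decomp (ffQ p H) V hQV hcop
      rw [disjoint_iff, eq_bot_iff, ← hd1]
      refine inf_le_inf (inf_le_inf_left _ (centralizer_le (ffQ_le p H))) (iSup₂_le ?_)
      rintro (_ | E') hne
      · exact absurd rfl hne
      · obtain ⟨A', hA', -, hE'⟩ := hdata E'
        show ⁅V, (E' : Subgroup G)⁆ ≤ ⁅V, ffQ p H⁆
        rw [hE', (hS.ffE_decomp hA').1]
        exact commutator_mono le_rfl (FFSetup.commutator_ffQ_le hA'.hAH)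
    · obtain ⟨A, hA, -, hE⟩ := hdata E
      show Disjoint ⁅V, (E : Subgroup G)⁆ _
      obtain ⟨-, -, hd1, -⟩ := hS.ffE_decomp hA
      rw [disjoint_iff, eq_bot_iff, ← hd1, hE]
      refine inf_le_inf_left _ (iSup₂_le ?_)
      rintro (_ | E') hne
      · show V ⊓ centralizer (H : Set G) ≤ V ⊓ centralizer ((ffE p H A : Subgroup G) : Set G)
        exact inf_le_inf_left _ (centralizer_le (ffE_le hA.hAH))
      · obtain ⟨A', hA', -, hE'⟩ := hdata E'
        have hne2 : E' ≠ E := fun h => hne (by rw [h])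
        have hne' := hplane E E' hne2 A A' hA hA' hE hE'
        show ⁅V, (E' : Subgroup G)⁆ ≤ V ⊓ centralizer ((ffE p H A : Subgroup G) : Set G)
        rw [hE']
        exact hS.commutator_ffE_le_of_ne hA hA' hne'.symm
  · haveI : IsMulCommutative V := hS.hV.1
    apply le_antisymm
    · refine sup_le inf_le_left (iSup_le ?_)
      intro E
      obtain ⟨A, hA, -, hE⟩ := hdata E
      rw [hE]
      exact Cfsg.Agent.Lead.commutator_le_of_le_normalizer ((ffE_le hA.hAH).trans hS.hHV)
    · -- coprime action of `Q' = ⟨[Q, A]⟩`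
      set Q' : Subgroup G := sSup {L : Subgroup G | ∃ A : Subgroup G, A ≤ H ∧
        IsMinOffender p V A ∧ L = ⁅ffQ p H, A⁆} with hQ'
      have hQ'Q : Q' ≤ ffQ p H := by
        apply sSup_le
        rintro L ⟨A, hAH, -, rfl⟩
        exact FFSetup.commutator_ffQ_le hAH
      have hQ'V : Q' ≤ normalizer (V : Set G) := (hQ'Q.trans (ffQ_le p H)).trans hS.hHV
      have hcop : (Nat.card Q').Coprime (Nat.card V) := by
        obtain ⟨k, hk⟩ := (IsElementaryAbelian.isPGroup hS.hV).exists_card_eq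
        rw [hk]
        exact Nat.Coprime.pow_right _
          (Nat.Coprime.coprime_dvd_left (card_dvd_of_le hQ'Q) (ffQ_coprime p H))
      obtain ⟨-, hd2⟩ := Cfsg.Agent.Lead.coprime_abelian_decomp Q' V hQ'V hcop
      have hW : (⨆ E : {E : Subgroup G // P E}, ⁅V, (E : Subgroup G)⁆) ≤ V := by
        apply iSup_le
        intro E
        obtain ⟨A, hA, -, hE⟩ := hdata E
        rw [hE]
        exact Cfsg.Agent.Lead.commutator_le_of_le_normalizer ((ffE_le hA.hAH).trans hS.hHV)
      have h1 : ⁅V, Q'⁆ ≤ ⨆ E : {E : Subgroup G // P E}, ⁅V, (E : Subgroup G)⁆ := by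
        apply commutator_sSup_le hW
        rintro L ⟨A, hAH, hA, rfl⟩
        rw [← (hS.ffE_decomp (hA.ffMin hS hAH)).1]
        exact le_iSup (fun E : {E : Subgroup G // P E} => ⁅V, (E : Subgroup G)⁆)
          ⟨ffE p H A, hmk A hAH hA⟩
      have h2 : V ⊓ centralizer (Q' : Set G) ≤ V ⊓ centralizer (H : Set G) := by
        refine le_inf inf_le_left ?_
        rw [le_centralizer_iff]
        refine (hS.le_sSup_minOffender_top hS3).trans (sSup_le ?_)
        rintro B ⟨hBH, hB⟩
        have hBm := hB.ffMin hS hBH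
        have h3 : V ⊓ centralizer (Q' : Set G) ≤
            V ⊓ centralizer ((⁅ffQ p H, B⁆ : Subgroup G) : Set G) := by
          have hmem : ⁅ffQ p H, B⁆ ∈ {L : Subgroup G | ∃ A : Subgroup G, A ≤ H ∧
              IsMinOffender p V A ∧ L = ⁅ffQ p H, A⁆} := ⟨B, hBH, hB, rfl⟩
          have hle : ⁅ffQ p H, B⁆ ≤ Q' := le_sSup hmem
          exact inf_le_inf_left _ (centralizer_le hle)
        rw [← (hS.ffE_decomp hBm).2.1] at h3
        have h4 : ffE p H B ≤ centralizer ((V ⊓ centralizer (Q' : Set G) : Subgroup G) : Set G) :=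
          le_centralizer_iff.mp (h3.trans inf_le_right)
        exact (le_sup_right : B ≤ ffE p H B).trans h4
      calc V = (V ⊓ centralizer (Q' : Set G)) ⊔ ⁅V, Q'⁆ := hd2.symm
        _ ≤ _ := sup_le_sup h2 h1

end Cfsg.Agent.Helper7
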