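import Mathlib
import Cfsg.Prelude.Def_PLocal
import Cfsg.Agent.Helper7.FFModule9
import Cfsg.Agent.Helper7.FFBridge
import Cfsg.Agent.Helper7.HallHigmanDual
import Cfsg.Agent.S0600
import Cfsg.Agent.S0601
import Cfsg.Agent.S0602
import Cfsg.Agent.S0606
import Cfsg.Agent.S0608

set_option autoImplicit false
set_option linter.style.haveILetI false
set_option linter.unusedSectionVars false

/-! # Failure of Thompson factorization in `p`-solvable groups (KS 9.3.10) -/

namespace Cfsg.Agent.Helper7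

open Subgroup Cfsg
open scoped commutatorElement

variable {G : Type*} [Group G]

theorem FFSetup.le_normalizer_ffE [Finite G] {p : ℕ} [hp : Fact p.Prime] {V H : Subgroup G}
    (hS : FFSetup p V H)
    (hS3 : H = ⨆ A : {A : Subgroup G // A ≤ H ∧ IsBestOffenderOn p V A}, (A : Subgroup G))
    {A : Subgroup G} (hA : FFMin p V H A) : H ≤ normalizer ((ffE p H A : Subgroup G) : Set G) := by
  obtain ⟨hc1, -, hc3, -, -⟩ := hS.ffE_direct_factor hS3 hA
  refine le_trans hc3.ge ?_
  refine sup_le le_normalizer ?_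
  rw [commutator_eq_bot_iff_le_centralizer] at hc1
  exact (le_centralizer_iff.mp hc1).trans (centralizer_le_normalizer _)

/-- The subgroup generated by the `Ω₁(Z(S))`, `S` Sylow. -/
abbrev omegaZ (p : ℕ) (G : Type*) [Group G] : Subgroup G :=
  ⨆ S : Sylow p G, Cfsg.omegaOne p ((S : Subgroup G) ⊓ centralizer ((S : Subgroup G) : Set G))

theorem omegaZ_eq_iSup_inf (p : ℕ) (G : Type*) [Group G] :
    omegaZ p G = ⨆ S : Sylow p G, omegaZ p G ⊓ centralizer ((S : Subgroup G) : Set G) := by
  apply le_antisymm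
  · apply iSup_le
    intro S
    refine le_trans ?_ (le_iSup (fun S : Sylow p G =>
      omegaZ p G ⊓ centralizer ((S : Subgroup G) : Set G)) S)
    refine le_inf (le_iSup (fun S : Sylow p G => Cfsg.omegaOne p
      ((S : Subgroup G) ⊓ centralizer ((S : Subgroup G) : Set G))) S) ?_
    unfold Cfsg.omegaOne
    rw [closure_le]
    intro x hx
    exact hx.1.2
  · exact iSup_le (fun S => inf_le_left)

/-- KS 9.3.10 (= S0618): if Thompson factorization fails in a `p`-solvable group with
`O_{p'}(G) = 1` then `p ≤ 3` and `J(G)C/C` has a normal subgroup `≅ SL₂(p)`, `C = C_G(⟨Ω₁Z(S)⟩)`. -/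
theorem thompson_factorization_failure [Finite G] {p : ℕ} [hp : Fact p.Prime]
    (hsep : Cfsg.IsPSolvable p G) (hO : Cfsg.pPrimeCore p G = ⊥)
    (hnf : ¬ Cfsg.IsThompsonFactorizable p G) :
    (p = 2 ∨ p = 3) ∧ ∃ E : Subgroup G,
      centralizer (omegaZ p G : Set G) ≤ E ∧
      E ≤ Cfsg.thompsonSubgroup p G ⊔ centralizer (omegaZ p G : Set G) ∧
      Cfsg.thompsonSubgroup p G ⊔ centralizer (omegaZ p G : Set G) ≤ normalizer (E : Set G) ∧
      ∃ _ : ((centralizer (omegaZ p G : Set G)).subgroupOf E).Normal,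
        Nonempty ((↥E ⧸ (centralizer (omegaZ p G : Set G)).subgroupOf E) ≃*
          Matrix.SpecialLinearGroup (Fin 2) (ZMod p)) := by
  have hc := Cfsg.Agent.Helper23.centralizer_pCore_le_of_isPSolvable hsep hO
  obtain ⟨hVn, hVel, -⟩ := Cfsg.Agent.S0601.result hc
  have hJ : ¬ Cfsg.thompsonSubgroup p G ≤ centralizer (omegaZ p G : Set G) :=
    fun h => hnf ((Cfsg.Agent.S0608.result hO).mpr h)
  haveI : (omegaZ p G).Normal := hVn
  set Vg : Subgroup G := omegaZ p G with hVg
  set J : Subgroup G := Cfsg.thompsonSubgroup p G with hJdef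
  set H' : Subgroup (FFGamma Vg) := J.map (ffIota Vg) with hH'
  have hOp : Cfsg.pCore p (G ⧸ centralizer (Vg : Set G)) = ⊥ :=
    Cfsg.Agent.S0600.result Vg hVel (omegaZ_eq_iSup_inf p G)
  -- (S1) for the image of `J`
  have hS1 : centralizer (Cfsg.pPrimeCore p ↥H' : Set ↥H') ≤ Cfsg.pPrimeCore p ↥H' := by
    set Jb : Subgroup (G ⧸ centralizer (Vg : Set G)) :=
      J.map (QuotientGroup.mk' (centralizer (Vg : Set G))) with hJb
    have hJn : J.Normal := by
      haveI : (Cfsg.thompsonSubgroup p G).Characteristic :=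
        (Cfsg.Agent.S0602.result (G := G) (p := p)).1
      infer_instance
    have hJbn : Jb.Normal :=
      Subgroup.Normal.map hJn _ (QuotientGroup.mk'_surjective _)
    have hsolv : Cfsg.IsPSolvable p ↥Jb :=
      Cfsg.Agent.Helper21.PSolv.isPSolvable_subgroup hp.out
        (Cfsg.Agent.Lead.isPSolvable_quotient hsep _) Jb
    have hOpJ : Cfsg.pCore p ↥Jb = ⊥ := by
      have hsub : ((Cfsg.pCore p ↥Jb).map Jb.subtype).IsSubnormal :=
        Subgroup.IsSubnormal.trans' (Subgroup.Normal.isSubnormal inferInstance)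
          (Subgroup.Normal.isSubnormal hJbn)
      have hpg : IsPGroup p ↥((Cfsg.pCore p ↥Jb).map Jb.subtype) :=
        (Cfsg.Agent.Helper19.pCore_isPGroup p).map _
      have hle := Cfsg.Agent.Helper14.le_pCore_of_isSubnormal hsub hpg
      rw [hOp, le_bot_iff] at hle
      exact (Subgroup.map_eq_bot_iff_of_injective _ Jb.subtype_injective).mp hle
    have h0 := centralizer_pPrimeCore_le_of_isPSolvable hsolv hOpJ
    have hmap : Jb.map SemidirectProduct.inr = H' := by
      rw [hH', hJb, Subgroup.map_map]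
      rfl
    exact centralizer_pPrimeCore_le_of_mulEquiv
      ((Jb.equivMapOfInjective _ SemidirectProduct.inr_injective).trans
        (MulEquiv.subgroupCongr hmap)) h0
  have hS : FFSetup p (ffV Vg) H' :=
    ⟨ffV_isElementaryAbelian Vg hVel, by
      rw [normalizer_eq_top_iff.mpr (inferInstance : (ffV Vg).Normal)]; exact le_top,
      map_ffIota_inf_centralizer Vg J, hS1⟩
  have hS3 : H' = ⨆ A : {A : Subgroup (FFGamma Vg) // A ≤ H' ∧
      IsBestOffenderOn p (ffV Vg) A}, (A : Subgroup (FFGamma Vg)) := by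
    apply le_antisymm
    · rw [hH', map_le_iff_le_comap, hJdef]
      unfold Cfsg.thompsonSubgroup
      apply sSup_le
      intro A hA
      rw [← map_le_iff_le_comap]
      have hAJ : A ≤ J := le_sSup hA
      exact le_iSup (fun A : {A : Subgroup (FFGamma Vg) // A ≤ H' ∧
        IsBestOffenderOn p (ffV Vg) A} => (A : Subgroup (FFGamma Vg)))
        ⟨A.map (ffIota Vg), map_mono hAJ,
          isBestOffenderOn_map_ffIota Vg (Cfsg.Agent.S0606.result Vg hVel A hA)⟩
    · exact iSup_le (fun A => A.2.1)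
  have hH1 : H' ≠ ⊥ := by
    intro h
    apply hJ
    rw [← ffIota_ker Vg]
    intro j hj
    rw [MonoidHom.mem_ker]
    have : ffIota Vg j ∈ H' := ⟨j, hj, rfl⟩
    rwa [h, mem_bot] at this
  obtain ⟨B₀, hB₀H, hB₀⟩ := hS.exists_minOffender hS3 hH1
  have hB₀m := hB₀.ffMin hS hB₀H
  obtain ⟨h23, ⟨e⟩⟩ := hS.ffE_mulEquiv hB₀m
  refine ⟨h23, ?_⟩
  exact exists_pullback_ffIota Vg (ffE_le hB₀H) (hS.le_normalizer_ffE hS3 hB₀m) e

end Cfsg.Agent.Helper7
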