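import Mathlib
import Cfsg.Agent.Helper13.S5072BASEA

/-! S5072 piece BASE2 (helper7): adapted bases of two singular lines with vanishing Gram
determinant. -/

set_option autoImplicit false
set_option linter.unusedSectionVars false

namespace Cfsg.Agent.S5072P

open Matrix Cfsg Cfsg.Agent.Helper28.Sg Cfsg.Agent.Helper28.Spin Cfsg.Agent.Helper28.QPlus
  Cfsg.Agent.Helper28.IsoTransport

variable {F : Type*} [Field F] {m : ℕ}

namespace BASE2

/-- a vector of the line `⟨p, r⟩` orthogonal to `u` and `w`, completed to a basis -/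
theorem rowker (p r u w : Vm (m + 3) F)
    (hd : B (QfPlus (m + 3) F) p u * B (QfPlus (m + 3) F) r w
      - B (QfPlus (m + 3) F) p w * B (QfPlus (m + 3) F) r u = 0) :
    ∃ α β γ δ : F, α * δ - β * γ ≠ 0 ∧
      B (QfPlus (m + 3) F) (α • p + β • r) u = 0 ∧ B (QfPlus (m + 3) F) (α • p + β • r) w = 0 := by
  simp only [B] at hd ⊢
  by_cases ha : QuadraticMap.polar (⇑(QfPlus (m + 3) F)) p u = 0
  · by_cases hb : QuadraticMap.polar (⇑(QfPlus (m + 3) F)) p w = 0
    · refine ⟨1, 0, 0, 1, by norm_num, ?_, ?_⟩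
      · simp only [QuadraticMap.polar_add_left, QuadraticMap.polar_smul_left, smul_eq_mul, ha]
        ring
      · simp only [QuadraticMap.polar_add_left, QuadraticMap.polar_smul_left, smul_eq_mul, hb]
        ring
    · refine ⟨-QuadraticMap.polar (⇑(QfPlus (m + 3) F)) r w,
        QuadraticMap.polar (⇑(QfPlus (m + 3) F)) p w, 1, 0, ?_, ?_, ?_⟩
      · intro h0
        apply hb
        linear_combination -h0
      · simp only [QuadraticMap.polar_add_left, QuadraticMap.polar_smul_left, smul_eq_mul]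
        linear_combination -hd
      · simp only [QuadraticMap.polar_add_left, QuadraticMap.polar_smul_left, smul_eq_mul]
        ring
  · refine ⟨-QuadraticMap.polar (⇑(QfPlus (m + 3) F)) r u,
      QuadraticMap.polar (⇑(QfPlus (m + 3) F)) p u, 1, 0, ?_, ?_, ?_⟩
    · intro h0
      apply ha
      linear_combination -h0
    · simp only [QuadraticMap.polar_add_left, QuadraticMap.polar_smul_left, smul_eq_mul]
      ring
    · simp only [QuadraticMap.polar_add_left, QuadraticMap.polar_smul_left, smul_eq_mul]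
      linear_combination hd

end BASE2

theorem exists_adapted {p r p' r' : Vm (m + 3) F} (h : SP p r) (h' : SP p' r')
    (hd : Dt p r p' r' = 0) :
    ∃ x y x' y' : Vm (m + 3) F, SP x y ∧ SP x' y' ∧ TT x y = TT p r ∧ TT x' y' = TT p' r' ∧
      B (QfPlus (m + 3) F) x x' = 0 ∧ B (QfPlus (m + 3) F) x y' = 0 ∧
      B (QfPlus (m + 3) F) y x' = 0 := by
  unfold Dt at hd
  have hd' : B (QfPlus (m + 3) F) p' p * B (QfPlus (m + 3) F) r' r
      - B (QfPlus (m + 3) F) p' r * B (QfPlus (m + 3) F) r' p = 0 := by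
    rw [B_comm _ p' p, B_comm _ r' r, B_comm _ p' r, B_comm _ r' p]
    linear_combination hd
  obtain ⟨α, β, γ, δ, hdet, hx1, hx2⟩ := BASE2.rowker p r p' r' hd
  obtain ⟨α', β', γ', δ', hdet', hx1', hx2'⟩ := BASE2.rowker p' r' p r hd'
  refine ⟨α • p + β • r, γ • p + δ • r, α' • p' + β' • r', γ' • p' + δ' • r',
    h.lin α β γ δ hdet, h'.lin α' β' γ' δ' hdet', TT_lin p r α β γ δ hdet,
    TT_lin p' r' α' β' γ' δ' hdet', ?_, ?_, ?_⟩
  · simp only [B] at hx1 hx2 ⊢
    rw [QuadraticMap.polar_add_right, QuadraticMap.polar_smul_right,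
      QuadraticMap.polar_smul_right, hx1, hx2]
    simp
  · simp only [B] at hx1 hx2 ⊢
    rw [QuadraticMap.polar_add_right, QuadraticMap.polar_smul_right,
      QuadraticMap.polar_smul_right, hx1, hx2]
    simp
  · rw [B_comm]
    simp only [B] at hx1' hx2' ⊢
    rw [QuadraticMap.polar_add_right, QuadraticMap.polar_smul_right,
      QuadraticMap.polar_smul_right, hx1', hx2']
    simp

end Cfsg.Agent.S5072P
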