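import Mathlib
import Cfsg.Agent.Helper13.S5072Defs

/-!
# S5072, piece CO: two singular lines through a common point have a common opposite line

For singular pairs `SP x y`, `SP x y'` there is a singular pair `SP u w` with
`Dt x y u w ≠ 0` and `Dt x y' u w ≠ 0`.
-/

set_option autoImplicit false
set_option linter.unusedSectionVars false
set_option linter.unusedSimpArgs false

namespace Cfsg.Agent.S5072P

open Matrix Cfsg Cfsg.Agent.Helper28.Sg Cfsg.Agent.Helper28.Spin Cfsg.Agent.Helper28.QPlus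
  Cfsg.Agent.Helper28.IsoTransport

namespace CO

variable {F : Type*} [Field F] {ι : Type} [Fintype ι] [DecidableEq ι]
  {Q : QuadraticForm F (ι → F)}

theorem Q_sub (x y : ι → F) : Q (x - y) = Q x + Q y - B Q x y := by
  have h : x - y = x + (-1 : F) • y := by module
  rw [h, Cfsg.Agent.Helper28.Sg.Q_add, Cfsg.Agent.Helper28.Sg.Q_smul]
  simp only [B, QuadraticMap.polar_smul_right, smul_eq_mul]
  ring

/-- the image of a frame under an isometry -/
noncomputable def mapFrame (fr : Frame3 Q) (g : ↥(Cfsg.isometryGroup F ⇑Q)) : Frame3 Q where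
  e i := mt Q g *ᵥ fr.e i
  f i := mt Q g *ᵥ fr.f i
  Qe i := by rw [Cfsg.Agent.Helper28.Spin.isom_apply, fr.Qe]
  Qf i := by rw [Cfsg.Agent.Helper28.Spin.isom_apply, fr.Qf]
  Bee i j := by
    have h := B_isom Q g (fr.e i) (fr.e j)
    simp only [B] at h
    rw [h, fr.Bee]
  Bff i j := by
    have h := B_isom Q g (fr.f i) (fr.f j)
    simp only [B] at h
    rw [h, fr.Bff]
  Bef i j := by
    have h := B_isom Q g (fr.e i) (fr.f j)
    simp only [B] at h
    rw [h, fr.Bef]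

/-- Step 1, the easy part of the algebra: the vector `t` -/
theorem step_t (fr : Frame3 Q) (y' : ι → F) (hy' : Q y' = 0) (hx : B Q (fr.e 0) y' = 0)
    (hc : B Q (fr.f 1) y' = 0) :
    Q (y' - (B Q y' (fr.f 0)) • fr.e 0 - (B Q y' (fr.e 1)) • fr.f 1) = 0 ∧
    B Q (y' - (B Q y' (fr.f 0)) • fr.e 0 - (B Q y' (fr.e 1)) • fr.f 1) (fr.e 0) = 0 ∧
    B Q (y' - (B Q y' (fr.f 0)) • fr.e 0 - (B Q y' (fr.e 1)) • fr.f 1) (fr.f 0) = 0 ∧
    B Q (y' - (B Q y' (fr.f 0)) • fr.e 0 - (B Q y' (fr.e 1)) • fr.f 1) (fr.e 1) = 0 ∧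
    B Q (y' - (B Q y' (fr.f 0)) • fr.e 0 - (B Q y' (fr.e 1)) • fr.f 1) (fr.f 1) = 0 := by
  have hx' : QuadraticMap.polar (⇑Q) y' (fr.e 0) = 0 := by
    rw [QuadraticMap.polar_comm]; exact hx
  have hc' : QuadraticMap.polar (⇑Q) y' (fr.f 1) = 0 := by
    rw [QuadraticMap.polar_comm]; exact hc
  refine ⟨?_, ?_, ?_, ?_, ?_⟩
  · rw [Q_sub, Q_sub, Cfsg.Agent.Helper28.Sg.Q_smul, Cfsg.Agent.Helper28.Sg.Q_smul, hy', fr.Qe,
      fr.Qf]
    simp only [B, QuadraticMap.polar_sub_left, QuadraticMap.polar_smul_left,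
      QuadraticMap.polar_smul_right, smul_eq_mul, fr.Bef, fr.Bfe, fr.Bee, fr.Bff, hx', hc']
    simp
  all_goals
    simp only [B, QuadraticMap.polar_sub_left, QuadraticMap.polar_smul_left,
      QuadraticMap.polar_smul_right, smul_eq_mul, fr.Bef, fr.Bfe, fr.Bee, fr.Bff, hx', hc']
    simp

/-- the vector `e₁ + f₁ + e₂ - f₂` is singular -/
theorem Q_w1 (fr : Frame3 Q) : Q (fr.e 1 + fr.f 1 + fr.e 2 - fr.f 2) = 0 := by
  rw [Q_sub, Cfsg.Agent.Helper28.Sg.Q_add, Cfsg.Agent.Helper28.Sg.Q_add, fr.Qe, fr.Qe, fr.Qf,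
    fr.Qf]
  simp only [B, QuadraticMap.polar_add_left, fr.Bef, fr.Bfe, fr.Bee, fr.Bff]
  simp

/-- a vector orthogonal to two hyperbolic pairs of the frame which still pairs with `t` -/
theorem exists_orth_ne (hQ : (QuadraticMap.polarBilin Q).Nondegenerate) (fr : Frame3 Q)
    {t : ι → F} (ht0 : t ≠ 0)
    (h1 : B Q t (fr.e 0) = 0) (h2 : B Q t (fr.f 0) = 0) (h3 : B Q t (fr.e 1) = 0)
    (h4 : B Q t (fr.f 1) = 0) :
    ∃ v, B Q t v ≠ 0 ∧ B Q v (fr.e 0) = 0 ∧ B Q v (fr.e 1) = 0 ∧ B Q v (fr.f 1) = 0 := by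
  have : ∃ w, B Q t w ≠ 0 := by
    by_contra hcon
    push Not at hcon
    exact ht0 (hQ.1 t hcon)
  obtain ⟨v₀, hv₀⟩ := this
  simp only [B] at h1 h2 h3 h4
  refine ⟨v₀ - B Q v₀ (fr.f 0) • fr.e 0 - B Q v₀ (fr.e 0) • fr.f 0 - B Q v₀ (fr.f 1) • fr.e 1
    - B Q v₀ (fr.e 1) • fr.f 1, ?_, ?_, ?_, ?_⟩
  · simp only [B, QuadraticMap.polar_sub_right, QuadraticMap.polar_smul_right, smul_eq_mul,
      h1, h2, h3, h4, mul_zero, sub_zero]
    exact hv₀
  all_goals
    simp only [B, QuadraticMap.polar_sub_left, QuadraticMap.polar_smul_left,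
      QuadraticMap.polar_smul_right, smul_eq_mul, fr.Bef, fr.Bfe, fr.Bee, fr.Bff]
    simp

/-- a singular partner of the singular vector `t` inside the span of `t` and `v` -/
theorem singular_partner {t v : ι → F} (ht : Q t = 0) (hv : B Q t v ≠ 0) :
    Q ((B Q t v)⁻¹ • (v - ((B Q t v)⁻¹ * Q v) • t)) = 0 ∧
    B Q ((B Q t v)⁻¹ • (v - ((B Q t v)⁻¹ * Q v) • t)) t = 1 ∧
    ∀ z, B Q t z = 0 → B Q v z = 0 → B Q ((B Q t v)⁻¹ • (v - ((B Q t v)⁻¹ * Q v) • t)) z = 0 := by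
  have htt : QuadraticMap.polar (⇑Q) t t = 0 := B_self_of_singular Q ht
  have hvt : QuadraticMap.polar (⇑Q) v t = QuadraticMap.polar (⇑Q) t v :=
    QuadraticMap.polar_comm _ _ _
  refine ⟨?_, ?_, ?_⟩
  · rw [Cfsg.Agent.Helper28.Sg.Q_smul, Q_sub, Cfsg.Agent.Helper28.Sg.Q_smul, ht]
    simp only [B, QuadraticMap.polar_smul_right, smul_eq_mul, hvt]
    simp only [B] at hv
    field_simp
    ring
  · simp only [B, QuadraticMap.polar_sub_left, QuadraticMap.polar_smul_left, smul_eq_mul, htt, hvt]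
    simp only [B] at hv
    field_simp
    ring
  · intro z hz1 hz2
    simp only [B] at hz1 hz2
    simp only [B, QuadraticMap.polar_sub_left, QuadraticMap.polar_smul_left, smul_eq_mul, hz1, hz2]
    simp

/-- Step 1: a singular vector `w ⊥ e₀` pairing with `e₁` and with `y'` -/
theorem exists_w (hQ : (QuadraticMap.polarBilin Q).Nondegenerate) (fr : Frame3 Q)
    {y' : ι → F} (hy' : Q y' = 0) (hx : B Q (fr.e 0) y' = 0) (hind : Indep (fr.e 0) y') :
    ∃ w, Q w = 0 ∧ B Q (fr.e 0) w = 0 ∧ B Q (fr.e 1) w ≠ 0 ∧ B Q y' w ≠ 0 := by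
  by_cases hc : B Q (fr.f 1) y' = 0
  · obtain ⟨hQt, ht1, ht2, ht3, ht4⟩ := step_t fr y' hy' hx hc
    obtain ⟨t, htdef⟩ : ∃ t, t = y' - (B Q y' (fr.f 0)) • fr.e 0 - (B Q y' (fr.e 1)) • fr.f 1 :=
      ⟨_, rfl⟩
    rw [← htdef] at hQt ht1 ht2 ht3 ht4
    have hy'eq : y' = t + (B Q y' (fr.f 0)) • fr.e 0 + (B Q y' (fr.e 1)) • fr.f 1 := by
      rw [htdef]; module
    by_cases ht0 : t = 0
    · -- `y' = a e₀ + b f₁`, `b ≠ 0`
      have hb : B Q y' (fr.e 1) ≠ 0 := by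
        intro hb
        rw [ht0, hb, zero_smul, add_zero, zero_add] at hy'eq
        have := hind (B Q y' (fr.f 0)) (-1) (by rw [neg_smul, one_smul, ← hy'eq]; simp)
        exact one_ne_zero (neg_eq_zero.1 this.2)
      refine ⟨fr.e 1 + fr.f 1 + fr.e 2 - fr.f 2, Q_w1 fr, ?_, ?_, ?_⟩
      · simp only [B, QuadraticMap.polar_add_right, QuadraticMap.polar_sub_right, fr.Bef, fr.Bfe,
          fr.Bee, fr.Bff]
        simp
      · simp only [B, QuadraticMap.polar_add_right, QuadraticMap.polar_sub_right, fr.Bef, fr.Bfe,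
          fr.Bee, fr.Bff]
        simp
      · rw [ht0, zero_add] at hy'eq
        have h5 : B Q y' (fr.e 1 + fr.f 1 + fr.e 2 - fr.f 2) = B Q y' (fr.e 1) := by
          conv_lhs => rw [hy'eq]
          simp only [B, QuadraticMap.polar_add_right, QuadraticMap.polar_sub_right,
            QuadraticMap.polar_add_left, QuadraticMap.polar_smul_left, smul_eq_mul, fr.Bef, fr.Bfe,
            fr.Bee, fr.Bff]
          simp
        rw [h5]; exact hb
    · obtain ⟨v, hv, hv1, hv3, hv4⟩ := exists_orth_ne hQ fr ht0 ht1 ht2 ht3 ht4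
      obtain ⟨hQs, hst, hsz⟩ := singular_partner hQt hv
      obtain ⟨s, hsdef⟩ : ∃ s, s = (B Q t v)⁻¹ • (v - ((B Q t v)⁻¹ * Q v) • t) := ⟨_, rfl⟩
      rw [← hsdef] at hQs hst hsz
      have hs1 : B Q s (fr.e 0) = 0 := hsz _ ht1 hv1
      have hs3 : B Q s (fr.e 1) = 0 := hsz _ ht3 hv3
      have hs4 : B Q s (fr.f 1) = 0 := hsz _ ht4 hv4
      simp only [B] at hs1 hs3 hs4 hst
      have hs1' : QuadraticMap.polar (⇑Q) (fr.e 0) s = 0 := by
        rw [QuadraticMap.polar_comm]; exact hs1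
      have hs3' : QuadraticMap.polar (⇑Q) (fr.e 1) s = 0 := by
        rw [QuadraticMap.polar_comm]; exact hs3
      have hs4' : QuadraticMap.polar (⇑Q) (fr.f 1) s = 0 := by
        rw [QuadraticMap.polar_comm]; exact hs4
      have hst' : QuadraticMap.polar (⇑Q) t s = 1 := by
        rw [QuadraticMap.polar_comm]; exact hst
      simp only [B] at ht1 ht2 ht3 ht4
      refine ⟨fr.f 1 + s, ?_, ?_, ?_, ?_⟩
      · rw [Cfsg.Agent.Helper28.Sg.Q_add, fr.Qf, hQs]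
        simp only [B, hs4']
        simp
      · simp only [B, QuadraticMap.polar_add_right, fr.Bef, hs1']
        simp
      · simp only [B, QuadraticMap.polar_add_right, fr.Bef, hs3']
        simp
      · have h5 : B Q y' (fr.f 1 + s) = 1 := by
          conv_lhs => rw [hy'eq]
          simp only [B, QuadraticMap.polar_add_right, QuadraticMap.polar_add_left,
            QuadraticMap.polar_smul_left, smul_eq_mul, fr.Bef, fr.Bfe, fr.Bee, fr.Bff, hs1', hs4',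
            hst', ht4]
          simp
        rw [h5]; exact one_ne_zero
  · refine ⟨fr.f 1, fr.Qf 1, ?_, ?_, ?_⟩
    · simp only [B, fr.Bef]; simp
    · simp only [B, fr.Bef]; simp
    · rw [B_comm]; exact hc

/-- Step 2: the second vector `u = f₀ + λ e₁` -/
theorem exists_u (fr : Frame3 Q) {w : ι → F} (h1 : B Q (fr.e 1) w ≠ 0) :
    ∃ u, Q u = 0 ∧ B Q u w = 0 ∧ B Q (fr.e 0) u = 1 ∧ B Q (fr.e 1) u = 0 := by
  refine ⟨fr.f 0 + (-(B Q (fr.f 0) w) / B Q (fr.e 1) w) • fr.e 1, ?_, ?_, ?_, ?_⟩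
  · rw [Cfsg.Agent.Helper28.Sg.Q_add, Cfsg.Agent.Helper28.Sg.Q_smul, fr.Qf, fr.Qe]
    simp only [B, QuadraticMap.polar_smul_right, smul_eq_mul, fr.Bfe]
    simp
  · simp only [B, QuadraticMap.polar_add_left, QuadraticMap.polar_smul_left, smul_eq_mul]
    simp only [B] at h1
    field_simp
    ring
  · simp only [B, QuadraticMap.polar_add_right, QuadraticMap.polar_smul_right, smul_eq_mul,
      fr.Bef, fr.Bee]
    simp
  · simp only [B, QuadraticMap.polar_add_right, QuadraticMap.polar_smul_right, smul_eq_mul,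
      fr.Bef, fr.Bee]
    simp

/-- the generic statement -/
theorem core (hQ : (QuadraticMap.polarBilin Q).Nondegenerate) (fr : Frame3 Q)
    {y' : ι → F} (hy' : Q y' = 0) (hx : B Q (fr.e 0) y' = 0) (hind : Indep (fr.e 0) y') :
    ∃ u w, Q u = 0 ∧ Q w = 0 ∧ B Q u w = 0 ∧ Indep u w ∧ B Q (fr.e 0) u = 1 ∧
      B Q (fr.e 0) w = 0 ∧ B Q (fr.e 1) u = 0 ∧ B Q (fr.e 1) w ≠ 0 ∧ B Q y' w ≠ 0 := by
  obtain ⟨w, hQw, hw0, hw1, hwy⟩ := exists_w hQ fr hy' hx hind
  obtain ⟨u, hQu, huw, hu0, hu1⟩ := exists_u fr hw1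
  refine ⟨u, w, hQu, hQw, huw, ?_, hu0, hw0, hu1, hw1, hwy⟩
  intro a b hab
  have h1 := congrArg (fun z => B Q (fr.e 0) z) hab
  simp only [B, QuadraticMap.polar_add_right, QuadraticMap.polar_smul_right, smul_eq_mul,
    QuadraticMap.polar_zero_right] at h1
  simp only [B] at hu0 hw0
  rw [hu0, hw0, mul_one, mul_zero, add_zero] at h1
  subst h1
  rw [zero_smul, zero_add] at hab
  rcases smul_eq_zero.1 hab with h | h
  · exact ⟨rfl, h⟩
  · exfalso
    apply hw1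
    rw [h]
    simp [B]

end CO

variable {F : Type*} [Field F] {m : ℕ}

theorem exists_common_opp {x y y' : Vm (m + 3) F} (h : SP x y) (h' : SP x y') :
    ∃ u w : Vm (m + 3) F, SP u w ∧ Dt x y u w ≠ 0 ∧ Dt x y' u w ≠ 0 := by
  obtain ⟨g, hga, hgb⟩ := witt_pair (nondegP m) (fr3 m) x y h.ind
  rw [h.qp, zero_smul, add_zero] at hga
  rw [h.qr, h.pr, zero_smul, zero_smul, add_zero, add_zero] at hgb
  obtain ⟨fr, hfr⟩ : ∃ fr : Frame3 (QfPlus (m + 3) F), fr = CO.mapFrame (fr3 m) g := ⟨_, rfl⟩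
  have he0 : fr.e 0 = x := by rw [hfr]; exact hga
  have he1 : fr.e 1 = y := by rw [hfr]; exact hgb
  obtain ⟨u, w, hQu, hQw, huw, hind, hu0, hw0, hu1, hw1, hwy⟩ :=
    CO.core (nondegP m) fr h'.qr (by rw [he0]; exact h'.pr) (by rw [he0]; exact h'.ind)
  rw [he0] at hu0 hw0
  rw [he1] at hu1 hw1
  refine ⟨u, w, ⟨hind, hQu, hQw, huw⟩, ?_, ?_⟩
  · unfold Dt
    rw [hu0, hw0, hu1]
    simpa using hw1
  · unfold Dt
    rw [hu0, hw0]
    simpa using hwy

end Cfsg.Agent.S5072P
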