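import Mathlib
import Cfsg.Agent.Helper4.SUnModel
import Cfsg.Agent.Helper16.SUnSPOW

set_option autoImplicit false

/-!
# S2282 piece P3 (CAYLEY): the geometric sum `GS`, the Cayley transform `Up` and its inverse
-/

namespace Cfsg.Agent.Helper7.SUn

open Matrix Cfsg.Agent.Helper4.SUn

variable {K : Type*} [Field K] (σ : K →+* K) (k : ℕ)

theorem GS_eq_geom (ν : K) :
    GS k ν = ∑ t ∈ Finset.range (2 * k + 5),
      (ν • (SS k : Matrix (Fin (2 * k + 5)) (Fin (2 * k + 5)) K)) ^ t := by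
  unfold GS
  refine Finset.sum_congr rfl fun t _ => ?_
  rw [smul_pow]

theorem smul_SS_pow_top (ν : K) :
    (ν • (SS k : Matrix (Fin (2 * k + 5)) (Fin (2 * k + 5)) K)) ^ (2 * k + 5) = 0 := by
  rw [smul_pow, Cfsg.Agent.Helper16.SUn.SS_pow_eq_zero k (2 * k + 5) (by omega), smul_zero]

theorem GS_mul (ν : K) :
    (1 - ν • (SS k : Matrix (Fin (2 * k + 5)) (Fin (2 * k + 5)) K)) * GS k ν = 1 := by
  rw [GS_eq_geom, mul_neg_geom_sum, smul_SS_pow_top, sub_zero]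

theorem mul_GS (ν : K) :
    GS k ν * (1 - ν • (SS k : Matrix (Fin (2 * k + 5)) (Fin (2 * k + 5)) K)) = 1 := by
  rw [GS_eq_geom, geom_sum_mul_neg, smul_SS_pow_top, sub_zero]

theorem SS_comm_GS (ν : K) :
    Commute (SS k : Matrix (Fin (2 * k + 5)) (Fin (2 * k + 5)) K) (GS k ν) := by
  unfold GS
  refine Commute.sum_right _ _ _ fun t _ => ?_
  exact Commute.smul_right (Commute.pow_right (Commute.refl _) t) _

theorem BB_eq (μ : K) :
    BB k μ = 1 - (-μ) • (SS k : Matrix (Fin (2 * k + 5)) (Fin (2 * k + 5)) K) := by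
  unfold BB
  rw [neg_smul, sub_neg_eq_add]

theorem Up_mul_Upinv (μ : K) : Up σ k μ * Upinv σ k μ = 1 := by
  unfold Up Upinv
  calc BB k μ * GS k (σ μ) * (AA σ k μ * GS k (-μ))
      = BB k μ * (GS k (σ μ) * AA σ k μ) * GS k (-μ) := by
        simp only [mul_assoc]
    _ = BB k μ * GS k (-μ) := by
        unfold AA
        rw [mul_GS, mul_one]
    _ = 1 := by
        rw [BB_eq, GS_mul]

theorem Upinv_mul_Up (μ : K) : Upinv σ k μ * Up σ k μ = 1 := by
  unfold Up Upinv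
  calc AA σ k μ * GS k (-μ) * (BB k μ * GS k (σ μ))
      = AA σ k μ * (GS k (-μ) * BB k μ) * GS k (σ μ) := by
        simp only [mul_assoc]
    _ = AA σ k μ * GS k (σ μ) := by
        rw [BB_eq, mul_GS, mul_one]
    _ = 1 := by
        unfold AA
        rw [GS_mul]

theorem Up_mul_AA (μ : K) : Up σ k μ * AA σ k μ = BB k μ := by
  unfold Up
  rw [mul_assoc]
  unfold AA
  rw [mul_GS, mul_one]

theorem Up_sub_one {μ : K} (hμ : μ + σ μ = 1) : Up σ k μ - 1 = SS k * GS k (σ μ) := by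
  have h1 : (1 : Matrix (Fin (2 * k + 5)) (Fin (2 * k + 5)) K) = AA σ k μ * GS k (σ μ) := by
    unfold AA
    rw [GS_mul]
  have h2 : BB k μ - AA σ k μ = (SS k : Matrix (Fin (2 * k + 5)) (Fin (2 * k + 5)) K) := by
    unfold BB AA
    have : (1 + μ • (SS k : Matrix (Fin (2 * k + 5)) (Fin (2 * k + 5)) K)) - (1 - σ μ • SS k)
        = (μ + σ μ) • SS k := by
      rw [add_smul]
      abel
    rw [this, hμ, one_smul]
  unfold Up
  calc BB k μ * GS k (σ μ) - 1
      = BB k μ * GS k (σ μ) - AA σ k μ * GS k (σ μ) := by rw [← h1]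
    _ = (BB k μ - AA σ k μ) * GS k (σ μ) := by rw [sub_mul]
    _ = SS k * GS k (σ μ) := by rw [h2]

theorem SS_top_mul_GS (ν : K) :
    (SS k : Matrix (Fin (2 * k + 5)) (Fin (2 * k + 5)) K) ^ (2 * k + 2) * GS k ν
      = (SS k) ^ (2 * k + 2) := by
  -- `GS = 1 + ν • SS * GS`
  have hG : GS k ν = 1 + (ν • (SS k : Matrix (Fin (2 * k + 5)) (Fin (2 * k + 5)) K)) * GS k ν := by
    have h := GS_mul k ν
    rw [sub_mul, one_mul] at h
    rw [← h]
    abel
  have h0 : (SS k : Matrix (Fin (2 * k + 5)) (Fin (2 * k + 5)) K) ^ (2 * k + 2) *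
      ((ν • (SS k : Matrix (Fin (2 * k + 5)) (Fin (2 * k + 5)) K)) * GS k ν) = 0 := by
    rw [← mul_assoc, mul_smul_comm, ← pow_succ,
      Cfsg.Agent.Helper16.SUn.SS_pow_eq_zero k (2 * k + 2 + 1) (by omega), smul_zero, zero_mul]
  nth_rewrite 1 [hG]
  rw [mul_add, mul_one, h0, add_zero]

theorem SS_top_mul_GS_pow (ν : K) (m : ℕ) :
    (SS k : Matrix (Fin (2 * k + 5)) (Fin (2 * k + 5)) K) ^ (2 * k + 2) * GS k ν ^ m
      = (SS k) ^ (2 * k + 2) := by
  induction m with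
  | zero => rw [pow_zero, mul_one]
  | succ m ih => rw [pow_succ (GS k ν) m, ← mul_assoc, ih, SS_top_mul_GS]

theorem Up_sub_one_pow_top {μ : K} (hμ : μ + σ μ = 1) :
    (Up σ k μ - 1) ^ (2 * k + 2) = Matrix.single (i1 k) (iB k) 1 := by
  rw [Up_sub_one σ k hμ, (SS_comm_GS k (σ μ)).mul_pow, SS_top_mul_GS_pow,
    Cfsg.Agent.Helper16.SUn.SS_pow_top]

end Cfsg.Agent.Helper7.SUn
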