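import Mathlib
import Cfsg.Agent.Helper4.SUnModel

set_option autoImplicit false

/-!
# S2282 piece P6 (CORNER): the root element `X1` and the corner element `KkG`
-/

namespace Cfsg.Agent.Helper7.SUn

open Matrix Cfsg.Agent.Helper4.SUn

variable {K : Type*} [Field K] (σ : K →+* K) (k : ℕ)

theorem eps_apply (i j : Fin (2 * k + 5)) :
    (ε k i : Fin (2 * k + 5) → K) j = if j = i then 1 else 0 := by
  unfold ε
  rw [Pi.single_apply]

theorem i0_ne_i1 : i0 k ≠ i1 k := by
  intro h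
  have := congrArg Fin.val h
  simp only [i0_val, i1_val] at this
  omega

theorem i0_ne_iB : i0 k ≠ iB k := by
  intro h
  have := congrArg Fin.val h
  simp only [i0_val, iB_val] at this
  omega

theorem i0_ne_iL : i0 k ≠ iL k := by
  intro h
  have := congrArg Fin.val h
  simp only [i0_val, iL_val] at this
  omega

theorem i1_ne_iB : i1 k ≠ iB k := by
  intro h
  have := congrArg Fin.val h
  simp only [i1_val, iB_val] at this
  omega

theorem i1_ne_iL : i1 k ≠ iL k := by
  intro h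
  have := congrArg Fin.val h
  simp only [i1_val, iL_val] at this
  omega

theorem iB_ne_iL : iB k ≠ iL k := by
  intro h
  have := congrArg Fin.val h
  simp only [iB_val, iL_val] at this
  omega

theorem X1_mulVec (a : K) (v : Fin (2 * k + 5) → K) :
    X1 σ k a *ᵥ v = v + (a * v (i1 k)) • ε k (i0 k) + (σ a * v (iL k)) • ε k (iB k) := by
  unfold X1 ε
  rw [add_mulVec, add_mulVec, one_mulVec, single_mulVec_eq, single_mulVec_eq]

theorem X1inv_mulVec (a : K) (v : Fin (2 * k + 5) → K) :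
    X1inv σ k a *ᵥ v = v - (a * v (i1 k)) • ε k (i0 k) - (σ a * v (iL k)) • ε k (iB k) := by
  unfold X1inv ε
  rw [sub_mulVec, sub_mulVec, one_mulVec, single_mulVec_eq, single_mulVec_eq]

theorem KkG_mulVec (s t : K) (v : Fin (2 * k + 5) → K) :
    KkG k s t *ᵥ v = v - v (i0 k) • ε k (i0 k) - v (i1 k) • ε k (i1 k) - v (iB k) • ε k (iB k)
      - v (iL k) • ε k (iL k)
      - v (i0 k) • ε k (iB k) - (s * v (i0 k)) • ε k (iL k) + v (i1 k) • ε k (iL k)
      - v (iB k) • ε k (i0 k) - (t * v (iB k)) • ε k (i1 k) + v (iL k) • ε k (i1 k) := by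
  unfold KkG ε
  simp only [add_mulVec, sub_mulVec, one_mulVec, single_mulVec_eq, one_mul, neg_mul, neg_smul,
    ← sub_eq_add_neg]

/-- the coordinates of `X1 *ᵥ v` -/
theorem X1_mulVec_apply (a : K) (v : Fin (2 * k + 5) → K) (i : Fin (2 * k + 5)) :
    (X1 σ k a *ᵥ v) i = v i + (if i = i0 k then a * v (i1 k) else 0)
      + (if i = iB k then σ a * v (iL k) else 0) := by
  rw [X1_mulVec]
  simp only [Pi.add_apply, Pi.smul_apply, smul_eq_mul, eps_apply, mul_ite, mul_one, mul_zero]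

theorem X1inv_mulVec_apply (a : K) (v : Fin (2 * k + 5) → K) (i : Fin (2 * k + 5)) :
    (X1inv σ k a *ᵥ v) i = v i - (if i = i0 k then a * v (i1 k) else 0)
      - (if i = iB k then σ a * v (iL k) else 0) := by
  rw [X1inv_mulVec]
  simp only [Pi.sub_apply, Pi.smul_apply, smul_eq_mul, eps_apply, mul_ite, mul_one, mul_zero]

theorem X1_mul_X1inv (a : K) : X1 σ k a * X1inv σ k a = 1 := by
  rw [Matrix.ext_iff_mulVec]
  intro v
  rw [← mulVec_mulVec, one_mulVec]
  ext i
  rw [X1_mulVec_apply, X1inv_mulVec_apply, X1inv_mulVec_apply, X1inv_mulVec_apply]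
  simp only [(i0_ne_i1 k).symm, (i1_ne_iB k), (i0_ne_iL k).symm, (iB_ne_iL k).symm, if_false,
    sub_zero]
  ring

theorem X1inv_mul_X1 (a : K) : X1inv σ k a * X1 σ k a = 1 := by
  rw [Matrix.ext_iff_mulVec]
  intro v
  rw [← mulVec_mulVec, one_mulVec]
  ext i
  rw [X1inv_mulVec_apply, X1_mulVec_apply, X1_mulVec_apply, X1_mulVec_apply]
  simp only [(i0_ne_i1 k).symm, (i1_ne_iB k), (i0_ne_iL k).symm, (iB_ne_iL k).symm, if_false,
    add_zero]
  ring

/-- the coordinates of `KkG *ᵥ v` -/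
theorem KkG_mulVec_apply (s t : K) (v : Fin (2 * k + 5) → K) (i : Fin (2 * k + 5)) :
    (KkG k s t *ᵥ v) i =
      if i = i0 k then -v (iB k)
      else if i = i1 k then v (iL k) - t * v (iB k)
      else if i = iB k then -v (i0 k)
      else if i = iL k then v (i1 k) - s * v (i0 k)
      else v i := by
  rw [KkG_mulVec]
  simp only [Pi.add_apply, Pi.sub_apply, Pi.smul_apply, smul_eq_mul, eps_apply, mul_ite, mul_one,
    mul_zero]
  by_cases h0 : i = i0 k
  · subst h0
    simp only [i0_ne_i1 k, i0_ne_iB k, i0_ne_iL k, if_true, if_false]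
    ring
  by_cases h1 : i = i1 k
  · subst h1
    simp only [(i0_ne_i1 k).symm, i1_ne_iB k, i1_ne_iL k, if_true, if_false]
    ring
  by_cases hB : i = iB k
  · subst hB
    simp only [(i0_ne_iB k).symm, (i1_ne_iB k).symm, iB_ne_iL k, if_true, if_false]
    ring
  by_cases hL : i = iL k
  · subst hL
    simp only [(i0_ne_iL k).symm, (i1_ne_iL k).symm, (iB_ne_iL k).symm, if_true, if_false]
    ring
  simp only [h0, h1, hB, hL, if_false]
  ring

theorem KkG_mulVec_i0 (s t : K) (v : Fin (2 * k + 5) → K) :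
    (KkG k s t *ᵥ v) (i0 k) = -v (iB k) := by
  rw [KkG_mulVec_apply, if_pos rfl]

theorem KkG_mulVec_i1 (s t : K) (v : Fin (2 * k + 5) → K) :
    (KkG k s t *ᵥ v) (i1 k) = v (iL k) - t * v (iB k) := by
  rw [KkG_mulVec_apply, if_neg (i0_ne_i1 k).symm, if_pos rfl]

theorem KkG_mulVec_iB (s t : K) (v : Fin (2 * k + 5) → K) :
    (KkG k s t *ᵥ v) (iB k) = -v (i0 k) := by
  rw [KkG_mulVec_apply, if_neg (i0_ne_iB k).symm, if_neg (i1_ne_iB k).symm, if_pos rfl]

theorem KkG_mulVec_iL (s t : K) (v : Fin (2 * k + 5) → K) :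
    (KkG k s t *ᵥ v) (iL k) = v (i1 k) - s * v (i0 k) := by
  rw [KkG_mulVec_apply, if_neg (i0_ne_iL k).symm, if_neg (i1_ne_iL k).symm,
    if_neg (iB_ne_iL k).symm, if_pos rfl]

theorem KkG_mulVec_of_ne (s t : K) (v : Fin (2 * k + 5) → K) (i : Fin (2 * k + 5))
    (h0 : i ≠ i0 k) (h1 : i ≠ i1 k) (hB : i ≠ iB k) (hL : i ≠ iL k) :
    (KkG k s t *ᵥ v) i = v i := by
  rw [KkG_mulVec_apply, if_neg h0, if_neg h1, if_neg hB, if_neg hL]

theorem KkG_mul (s t : K) :
    KkG k s t * KkG k t s = (1 : Matrix (Fin (2 * k + 5)) (Fin (2 * k + 5)) K) := by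
  rw [Matrix.ext_iff_mulVec]
  intro v
  rw [← mulVec_mulVec, one_mulVec]
  ext i
  by_cases h0 : i = i0 k
  · subst h0
    rw [KkG_mulVec_i0, KkG_mulVec_iB, neg_neg]
  by_cases h1 : i = i1 k
  · subst h1
    rw [KkG_mulVec_i1, KkG_mulVec_iL, KkG_mulVec_iB]
    ring
  by_cases hB : i = iB k
  · subst hB
    rw [KkG_mulVec_iB, KkG_mulVec_i0, neg_neg]
  by_cases hL : i = iL k
  · subst hL
    rw [KkG_mulVec_iL, KkG_mulVec_i1, KkG_mulVec_i0]
    ring
  rw [KkG_mulVec_of_ne k s t _ i h0 h1 hB hL, KkG_mulVec_of_ne k t s _ i h0 h1 hB hL]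

theorem rev_i0 : (i0 k).rev = iL k := by
  apply Fin.ext
  rw [Fin.val_rev]
  simp only [i0_val, iL_val]
  omega

theorem rev_i1 : (i1 k).rev = iB k := by
  apply Fin.ext
  rw [Fin.val_rev]
  simp only [i1_val, iB_val]
  omega

theorem rev_iB : (iB k).rev = i1 k := by
  apply Fin.ext
  rw [Fin.val_rev]
  simp only [i1_val, iB_val]
  omega

theorem rev_iL : (iL k).rev = i0 k := by
  apply Fin.ext
  rw [Fin.val_rev]
  simp only [i0_val, iL_val]
  omega

/-- a sum of a function supported on the four corner indices -/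
theorem sum_corner {M : Type*} [AddCommMonoid M] (f : Fin (2 * k + 5) → M)
    (hf : ∀ i, i ≠ i0 k → i ≠ i1 k → i ≠ iB k → i ≠ iL k → f i = 0) :
    ∑ i, f i = f (i0 k) + f (i1 k) + f (iB k) + f (iL k) := by
  classical
  have hs : ∑ i ∈ ({i0 k, i1 k, iB k, iL k} : Finset (Fin (2 * k + 5))), f i = ∑ i, f i := by
    apply Finset.sum_subset (Finset.subset_univ _)
    intro i _ hi
    simp only [Finset.mem_insert, Finset.mem_singleton, not_or] at hi
    exact hf i hi.1 hi.2.1 hi.2.2.1 hi.2.2.2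
  rw [← hs, Finset.sum_insert, Finset.sum_insert, Finset.sum_insert, Finset.sum_singleton]
  · simp only [add_assoc]
  · simp only [Finset.mem_singleton]
    exact iB_ne_iL k
  · simp only [Finset.mem_insert, Finset.mem_singleton, not_or]
    exact ⟨i1_ne_iB k, i1_ne_iL k⟩
  · simp only [Finset.mem_insert, Finset.mem_singleton, not_or]
    exact ⟨i0_ne_i1 k, i0_ne_iB k, i0_ne_iL k⟩

/-- a matrix that only changes the corner coordinates and preserves the corner part of the form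
preserves the form -/
theorem presJ_of_corner (M : Matrix (Fin (2 * k + 5)) (Fin (2 * k + 5)) K)
    (hmid : ∀ (v : Fin (2 * k + 5) → K) (i : Fin (2 * k + 5)),
      i ≠ i0 k → i ≠ i1 k → i ≠ iB k → i ≠ iL k → (M *ᵥ v) i = v i)
    (hcor : ∀ x y : Fin (2 * k + 5) → K,
      (M *ᵥ x) (i0 k) * σ ((M *ᵥ y) (iL k)) - (M *ᵥ x) (i1 k) * σ ((M *ᵥ y) (iB k))
        - (M *ᵥ x) (iB k) * σ ((M *ᵥ y) (i1 k)) + (M *ᵥ x) (iL k) * σ ((M *ᵥ y) (i0 k))
      = x (i0 k) * σ (y (iL k)) - x (i1 k) * σ (y (iB k))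
        - x (iB k) * σ (y (i1 k)) + x (iL k) * σ (y (i0 k))) :
    PresJ σ k M := by
  intro x y
  rw [← sub_eq_zero]
  unfold hJ
  rw [← Finset.sum_sub_distrib, sum_corner]
  · have hB : (-1 : K) ^ (2 * k + 3) = -1 := Odd.neg_one_pow ⟨k + 1, by ring⟩
    have hL : (-1 : K) ^ (2 * k + 4) = 1 := Even.neg_one_pow ⟨k + 2, by ring⟩
    simp only [rev_i0, rev_i1, rev_iB, rev_iL, i0_val, i1_val, iB_val, iL_val, pow_zero, pow_one,
      hB, hL]
    linear_combination hcor x y
  · intro i h0 h1 hB hL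
    have r0 : i.rev ≠ i0 k := by
      intro h
      apply hL
      rw [← Fin.rev_rev i, h, rev_i0]
    have r1 : i.rev ≠ i1 k := by
      intro h
      apply hB
      rw [← Fin.rev_rev i, h, rev_i1]
    have rB : i.rev ≠ iB k := by
      intro h
      apply h1
      rw [← Fin.rev_rev i, h, rev_iB]
    have rL : i.rev ≠ iL k := by
      intro h
      apply h0
      rw [← Fin.rev_rev i, h, rev_iL]
    rw [hmid x i h0 h1 hB hL, hmid y i.rev r0 r1 rB rL, sub_self]

theorem X1_presJ (hσ2 : ∀ x, σ (σ x) = x) (a : K) : PresJ σ k (X1 σ k a) := by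
  apply presJ_of_corner
  · intro v i h0 h1 hB hL
    rw [X1_mulVec_apply, if_neg h0, if_neg hB, add_zero, add_zero]
  · intro x y
    simp only [X1_mulVec_apply, if_true, (i0_ne_i1 k).symm, (i0_ne_iB k), (i0_ne_iB k).symm,
      (i0_ne_iL k).symm, (i1_ne_iB k), (iB_ne_iL k).symm, if_false, add_zero, map_add, map_mul, hσ2]
    ring

theorem KkG_presJ (hσ2 : ∀ x, σ (σ x) = x) (s : K) : PresJ σ k (KkG k s (σ s)) := by
  apply presJ_of_corner
  · intro v i h0 h1 hB hL
    exact KkG_mulVec_of_ne k s (σ s) v i h0 h1 hB hL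
  · intro x y
    simp only [KkG_mulVec_i0, KkG_mulVec_i1, KkG_mulVec_iB, KkG_mulVec_iL, map_sub, map_mul,
      map_neg, hσ2]
    ring

theorem X1_eq_transvection (a : K) :
    X1 σ k a = transvection (i0 k) (i1 k) a * transvection (iB k) (iL k) (σ a) := by
  unfold X1 transvection
  rw [add_mul, one_mul, mul_add, mul_one, single_mul_single_of_ne _ _ _ _ (i1_ne_iB k), add_zero,
    add_right_comm]

theorem X1_det (a : K) : (X1 σ k a).det = 1 := by
  rw [X1_eq_transvection, det_mul, det_transvection_of_ne _ _ (i0_ne_i1 k),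
    det_transvection_of_ne _ _ (iB_ne_iL k), one_mul]

/-- the determinant of `1 - u uᵀ` -/
theorem det_one_sub_vecMulVec {n : Type*} [Fintype n] [DecidableEq n] (u : n → K) :
    (1 - Matrix.vecMulVec u u).det = 1 - u ⬝ᵥ u := by
  rw [Matrix.vecMulVec_eq Unit, det_one_sub_mul_comm, det_unique, Matrix.sub_apply,
    Matrix.one_apply_eq, Matrix.replicateRow_mul_replicateCol_apply]

theorem one_sub_vecMulVec_mulVec {n : Type*} [Fintype n] [DecidableEq n] (u v : n → K) :
    (1 - Matrix.vecMulVec u u) *ᵥ v = v - (u ⬝ᵥ v) • u := by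
  rw [sub_mulVec, one_mulVec, vecMulVec_mulVec, op_smul_eq_smul]

theorem eps_dotProduct (i : Fin (2 * k + 5)) (v : Fin (2 * k + 5) → K) :
    (ε k i : Fin (2 * k + 5) → K) ⬝ᵥ v = v i := by
  unfold ε
  rw [single_dotProduct, one_mul]

theorem transvection_mulVec_apply (i j : Fin (2 * k + 5)) (c : K) (v : Fin (2 * k + 5) → K)
    (l : Fin (2 * k + 5)) :
    (transvection i j c *ᵥ v) l = v l + (if l = i then c * v j else 0) := by
  unfold transvection
  rw [add_mulVec, one_mulVec, single_mulVec_eq]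
  simp only [Pi.add_apply, Pi.smul_apply, smul_eq_mul, Pi.single_apply, mul_ite, mul_one, mul_zero]

/-- the reflection `ε_0 ↦ -ε_B`, `ε_B ↦ -ε_0` -/
def RA : Matrix (Fin (2 * k + 5)) (Fin (2 * k + 5)) K :=
  1 - Matrix.vecMulVec (ε k (i0 k) + ε k (iB k)) (ε k (i0 k) + ε k (iB k))

/-- the reflection `ε_1 ↦ ε_L`, `ε_L ↦ ε_1` -/
def RB : Matrix (Fin (2 * k + 5)) (Fin (2 * k + 5)) K :=
  1 - Matrix.vecMulVec (ε k (i1 k) - ε k (iL k)) (ε k (i1 k) - ε k (iL k))

theorem RA_det : (RA k : Matrix (Fin (2 * k + 5)) (Fin (2 * k + 5)) K).det = -1 := by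
  unfold RA
  rw [det_one_sub_vecMulVec, add_dotProduct, eps_dotProduct, eps_dotProduct]
  simp only [Pi.add_apply, eps_apply, if_true, (i0_ne_iB k), (i0_ne_iB k).symm, if_false]
  ring

theorem RB_det : (RB k : Matrix (Fin (2 * k + 5)) (Fin (2 * k + 5)) K).det = -1 := by
  unfold RB
  rw [det_one_sub_vecMulVec, sub_dotProduct, eps_dotProduct, eps_dotProduct]
  simp only [Pi.sub_apply, eps_apply, if_true, (i1_ne_iL k), (i1_ne_iL k).symm, if_false]
  ring

theorem RA_mulVec_apply (v : Fin (2 * k + 5) → K) (i : Fin (2 * k + 5)) :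
    (RA k *ᵥ v) i = v i - (v (i0 k) + v (iB k)) *
      ((if i = i0 k then 1 else 0) + (if i = iB k then 1 else 0)) := by
  unfold RA
  rw [one_sub_vecMulVec_mulVec, add_dotProduct, eps_dotProduct, eps_dotProduct]
  simp only [Pi.sub_apply, Pi.smul_apply, Pi.add_apply, smul_eq_mul, eps_apply]

theorem RB_mulVec_apply (v : Fin (2 * k + 5) → K) (i : Fin (2 * k + 5)) :
    (RB k *ᵥ v) i = v i - (v (i1 k) - v (iL k)) *
      ((if i = i1 k then 1 else 0) - (if i = iL k then 1 else 0)) := by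
  unfold RB
  rw [one_sub_vecMulVec_mulVec, sub_dotProduct, eps_dotProduct, eps_dotProduct]
  simp only [Pi.sub_apply, Pi.smul_apply, smul_eq_mul, eps_apply]

theorem KkG_eq_prod (s t : K) :
    (KkG k s t : Matrix (Fin (2 * k + 5)) (Fin (2 * k + 5)) K) =
      RA k * (RB k * (transvection (i1 k) (i0 k) (-s) * transvection (iL k) (iB k) (-t))) := by
  rw [Matrix.ext_iff_mulVec]
  intro v
  rw [← mulVec_mulVec, ← mulVec_mulVec, ← mulVec_mulVec]
  ext i
  rw [KkG_mulVec_apply, RA_mulVec_apply]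
  simp only [RB_mulVec_apply, transvection_mulVec_apply, i0_ne_i1 k,
    i0_ne_iL k, (i1_ne_iB k).symm,
    i1_ne_iL k, (i1_ne_iL k).symm, iB_ne_iL k, if_true, if_false]
  by_cases h0 : i = i0 k
  · subst h0
    simp only [i0_ne_i1 k, i0_ne_iB k, i0_ne_iL k, if_true, if_false]
    ring
  by_cases h1 : i = i1 k
  · subst h1
    simp only [(i0_ne_i1 k).symm, i1_ne_iB k, i1_ne_iL k, if_true, if_false]
    ring
  by_cases hB : i = iB k
  · subst hB
    simp only [(i0_ne_iB k).symm, (i1_ne_iB k).symm, iB_ne_iL k, if_true, if_false]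
    ring
  by_cases hL : i = iL k
  · subst hL
    simp only [(i0_ne_iL k).symm, (i1_ne_iL k).symm, (iB_ne_iL k).symm, if_true, if_false]
    ring
  simp only [h0, h1, hB, hL, if_false]
  ring

theorem KkG_det (s t : K) :
    (KkG k s t : Matrix (Fin (2 * k + 5)) (Fin (2 * k + 5)) K).det = 1 := by
  rw [KkG_eq_prod, det_mul, det_mul, det_mul, RA_det, RB_det,
    det_transvection_of_ne _ _ (i0_ne_i1 k).symm, det_transvection_of_ne _ _ (iB_ne_iL k).symm]
  ring

end Cfsg.Agent.Helper7.SUn
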