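import Mathlib
import Cfsg.Agent.Helper7.K2M.Defs2
import Cfsg.Agent.Helper4.K2MQB
import Cfsg.Agent.Helper3.K2MRACT
import Cfsg.Agent.Helper27.K2MINVBase

set_option autoImplicit false
set_option linter.unusedSectionVars false
set_option linter.unusedVariables false

/-! # S5694, `k = 2` minus blocks, chapter INV: piece INV-SWAPSUPP -/

namespace Cfsg.Agent.K2M

open Matrix Cfsg.Agent.OC2P Cfsg.Agent.Helper28.Sg Cfsg.Agent.Helper28.Spin
  Cfsg.Agent.Helper12.OrthGen

variable {F : Type*} [Field F] [Fintype F] {t : ℕ} {Q : QuadraticForm F (Fin t × Fin 2 → F)}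
  {q : QuadraticForm F (Fin 2 → F)}

omit [Fintype F] in
/-- a vector lying in two different blocks is zero -/
theorem SWAPSUPP.aux_two {x : Fin t × Fin 2 → F} {l l' : Fin t} (h : l' ≠ l)
    (h1 : x ∈ Dblk F t 2 l) (h2 : x ∈ Dblk F t 2 l') : x = 0 := by
  apply QB.ext
  intro i
  rw [QB.bproj_zero]
  by_cases hi : i = l
  · subst hi
    exact (QB.mem_Dblk_iff.mp h2) i (Ne.symm h)
  · exact (QB.mem_Dblk_iff.mp h1) i hi

theorem SWAPSUPP.main (bm : BM Q q) {e e' : Fin t × Fin 2 → F} (he : Q e ≠ 0) (he' : Q e' ≠ 0)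
    (σ : Equiv.Perm (Fin t))
    (hσ : ∀ (i : Fin t) (y : Fin 2 → F),
      mt Q (reflO Q e he * reflO Q e' he') *ᵥ binj i y ∈ Dblk F t 2 (σ i))
    {l : Fin t} (hl : σ l ≠ l) (a b : F) :
    ∃ y : Fin 2 → F,
      mt Q (reflO Q e he * reflO Q e' he') *ᵥ binj l y - binj l y = a • e + b • e' := by
  classical
  set φ : (Fin 2 → F) → (Fin 2 → F) := fun y => ![B Q e (binj l y), B Q e' (binj l y)] with hφ
  have hφsub : ∀ y y', φ (y - y') = φ y - φ y' := by
    intro y y'
    funext j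
    fin_cases j
    · show QuadraticMap.polar ⇑Q e (binj l (y - y')) =
        QuadraticMap.polar ⇑Q e (binj l y) - QuadraticMap.polar ⇑Q e (binj l y')
      rw [QB.binj_sub, QuadraticMap.polar_sub_right]
    · show QuadraticMap.polar ⇑Q e' (binj l (y - y')) =
        QuadraticMap.polar ⇑Q e' (binj l y) - QuadraticMap.polar ⇑Q e' (binj l y')
      rw [QB.binj_sub, QuadraticMap.polar_sub_right]
  have hker : ∀ y, φ y = 0 → y = 0 := by
    intro y hy
    have h1 : B Q e (binj l y) = 0 := congrFun hy 0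
    have h2 : B Q e' (binj l y) = 0 := congrFun hy 1
    have hfix := RR.fix e e' he he' h1 h2
    have hmem := hσ l y
    rw [hfix] at hmem
    have := SWAPSUPP.aux_two hl (binj_mem l y) hmem
    exact QB.binj_eq_zero.mp this
  have hinj : Function.Injective φ := by
    intro y y' h
    have : φ (y - y') = 0 := by rw [hφsub, h, sub_self]
    exact sub_eq_zero.mp (hker _ this)
  have hsurj : Function.Surjective φ := Finite.injective_iff_surjective.mp hinj
  obtain ⟨y, hy⟩ := hsurj ![-(a * Q e) - b * B Q e e', -(b * Q e')]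
  have h1 : B Q e (binj l y) = -(a * Q e) - b * B Q e e' := congrFun hy 0
  have h2 : B Q e' (binj l y) = -(b * Q e') := congrFun hy 1
  refine ⟨y, ?_⟩
  rw [RR.mulVec, h1, h2]
  have c1 : (Q e')⁻¹ * -(b * Q e') = -b := by field_simp
  have c2 : (Q e)⁻¹ * (-(a * Q e) - b * B Q e e' - -b * B Q e e') = -a := by
    field_simp; ring
  rw [c1, c2]
  module

theorem SWAPSUPP.supp (bm : BM Q q) {e e' : Fin t × Fin 2 → F} (he : Q e ≠ 0) (he' : Q e' ≠ 0)
    (σ : Equiv.Perm (Fin t))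
    (hσ : ∀ (i : Fin t) (y : Fin 2 → F),
      mt Q (reflO Q e he * reflO Q e' he') *ᵥ binj i y ∈ Dblk F t 2 (σ i))
    {l : Fin t} (hl : σ l ≠ l) {k : Fin t} (hk : k ≠ l) (hk' : k ≠ σ l) :
    bproj k e = 0 ∧ bproj k e' = 0 := by
  have key : ∀ a b : F, bproj k (a • e + b • e') = 0 := by
    intro a b
    obtain ⟨y, hy⟩ := SWAPSUPP.main bm he he' σ hσ hl a b
    rw [← hy, QB.bproj_sub, (QB.mem_Dblk_iff.mp (hσ l y)) k hk', bproj_binj_ne hk, sub_zero]
  constructor
  · have := key 1 0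
    rwa [one_smul, zero_smul, add_zero] at this
  · have := key 0 1
    rwa [one_smul, zero_smul, zero_add] at this

theorem SWAPSUPP.inter (bm : BM Q q) {e e' : Fin t × Fin 2 → F} (he : Q e ≠ 0) (he' : Q e' ≠ 0)
    (σ : Equiv.Perm (Fin t))
    (hσ : ∀ (i : Fin t) (y : Fin 2 → F),
      mt Q (reflO Q e he * reflO Q e' he') *ᵥ binj i y ∈ Dblk F t 2 (σ i))
    {l : Fin t} (hl : σ l ≠ l) {a b : F}
    (h : a • e + b • e' ∈ Dblk F t 2 l ∨ a • e + b • e' ∈ Dblk F t 2 (σ l)) :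
    a • e + b • e' = 0 := by
  obtain ⟨y, hy⟩ := SWAPSUPP.main bm he he' σ hσ hl a b
  have hgw := hσ l y
  -- it suffices to show `y = 0`
  suffices hy0 : y = 0 by
    rw [← hy, hy0, QB.binj_zero, Matrix.mulVec_zero, sub_zero]
  rcases h with h | h
  · -- component `σ l` of `r` vanishes
    have h1 : bproj (σ l) (a • e + b • e') = 0 := (QB.mem_Dblk_iff.mp h) (σ l) hl
    rw [← hy, QB.bproj_sub, bproj_binj_ne hl, sub_zero] at h1
    have h2 : mt Q (reflO Q e he * reflO Q e' he') *ᵥ binj l y = 0 := by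
      rw [QB.mem_Dblk_iff'.mp hgw, h1, QB.binj_zero]
    have h3 := mt_inv_mulVec Q (reflO Q e he * reflO Q e' he') (binj l y)
    rw [h2, Matrix.mulVec_zero] at h3
    exact QB.binj_eq_zero.mp h3.symm
  · have h1 : bproj l (a • e + b • e') = 0 := (QB.mem_Dblk_iff.mp h) l (Ne.symm hl)
    rw [← hy, QB.bproj_sub, (QB.mem_Dblk_iff.mp hgw) l (Ne.symm hl), bproj_binj, zero_sub,
      neg_eq_zero] at h1
    exact h1

end Cfsg.Agent.K2M
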