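import Mathlib
import Cfsg.Agent.Helper7.K2M.Defs2
import Cfsg.Agent.Helper4.K2MQB
import Cfsg.Agent.Helper3.K2MRACT
import Cfsg.Agent.Helper27.K2MINVBase
import Cfsg.Agent.Helper7.K2MINVSWAPSUPP

set_option autoImplicit false
set_option linter.unusedSectionVars false
set_option linter.unusedVariables false

/-! # S5694, `k = 2` minus blocks, chapter INV: piece INV-ROTFIXA -/

namespace Cfsg.Agent.K2M

open Matrix Cfsg.Agent.OC2P Cfsg.Agent.Helper28.Sg Cfsg.Agent.Helper28.Spin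
  Cfsg.Agent.Helper12.OrthGen

variable {F : Type*} [Field F] [Fintype F] {t : ℕ} {Q : QuadraticForm F (Fin t × Fin 2 → F)}
  {q : QuadraticForm F (Fin 2 → F)}

theorem ROTFIXA.main (bm : BM Q q) {e e' : Fin t × Fin 2 → F} (he : Q e ≠ 0) (he' : Q e' ≠ 0)
    (σ : Equiv.Perm (Fin t))
    (hσ : ∀ (i : Fin t) (y : Fin 2 → F),
      mt Q (reflO Q e he * reflO Q e' he') *ᵥ binj i y ∈ Dblk F t 2 (σ i))
    {l : Fin t} (hl : σ l ≠ l) :
    mt Q (reflO Q e he * reflO Q e' he') *ᵥ (mt Q (reflO Q e he * reflO Q e' he') *ᵥ e) = e := by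
  classical
  set g := reflO Q e he * reflO Q e' he' with hg
  have hsupp : ∀ k, k ≠ l → k ≠ σ l → bproj k e = 0 ∧ bproj k e' = 0 :=
    fun k hk hk' => SWAPSUPP.supp bm he he' σ hσ hl hk hk'
  -- `σ` fixes the other blocks
  have hσk : ∀ k, k ≠ l → k ≠ σ l → σ k = k := by
    intro k hk hk'
    by_contra hne
    obtain ⟨h1, h2⟩ := hsupp k hk hk'
    set y₀ : Fin 2 → F := fun _ => 1 with hy₀
    have hfix : mt Q g *ᵥ binj k y₀ = binj k y₀ := by
      apply RR.fix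
      · rw [QB.B_binj_right bm, h1, QuadraticMap.polar_zero_left]
      · rw [QB.B_binj_right bm, h2, QuadraticMap.polar_zero_left]
    have hmem := hσ k y₀
    rw [hfix] at hmem
    have h0 := SWAPSUPP.aux_two hne (binj_mem k y₀) hmem
    have h0' := QB.binj_eq_zero.mp h0
    have := congrFun h0' 0
    simp [hy₀] at this
  -- `σ (σ l) = l`
  have hσσ : σ (σ l) = l := by
    by_contra hne
    have h1 : σ (σ l) ≠ σ l := fun h => hl (σ.injective h)
    have h2 := hσk (σ (σ l)) hne h1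
    exact h1 (σ.injective h2)
  -- `g² = 1` on `D_l`
  have hsq_l : ∀ y : Fin 2 → F, mt Q g *ᵥ (mt Q g *ᵥ binj l y) = binj l y := by
    intro y
    obtain ⟨a₁, b₁, h1⟩ := RR.sub_mem e e' he he' (binj l y)
    obtain ⟨a₂, b₂, h2⟩ := RR.sub_mem e e' he he' (mt Q g *ᵥ binj l y)
    have hsum : mt Q g *ᵥ (mt Q g *ᵥ binj l y) - binj l y = (a₁ + a₂) • e + (b₁ + b₂) • e' := by
      have : mt Q g *ᵥ (mt Q g *ᵥ binj l y) - binj l y =
          (mt Q g *ᵥ (mt Q g *ᵥ binj l y) - mt Q g *ᵥ binj l y) +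
            (mt Q g *ᵥ binj l y - binj l y) := by abel
      rw [this, h1, h2]; module
    have hmem1 : mt Q g *ᵥ (mt Q g *ᵥ binj l y) ∈ Dblk F t 2 l := by
      have hgw := hσ l y
      rw [QB.mem_Dblk_iff'] at hgw
      rw [hgw]
      have := hσ (σ l) (bproj (σ l) (mt Q g *ᵥ binj l y))
      rwa [hσσ] at this
    have hmem : (a₁ + a₂) • e + (b₁ + b₂) • e' ∈ Dblk F t 2 l := by
      rw [← hsum]
      exact (Dblk F t 2 l).sub_mem hmem1 (binj_mem l y)
    have h0 := SWAPSUPP.inter bm he he' σ hσ hl (Or.inl hmem)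
    rw [h0] at hsum
    exact sub_eq_zero.mp hsum
  -- `g² = 1` on `D_{σ l}`
  have hsq_l' : ∀ y : Fin 2 → F, mt Q g *ᵥ (mt Q g *ᵥ binj (σ l) y) = binj (σ l) y := by
    intro y
    obtain ⟨a₁, b₁, h1⟩ := RR.sub_mem e e' he he' (binj (σ l) y)
    obtain ⟨a₂, b₂, h2⟩ := RR.sub_mem e e' he he' (mt Q g *ᵥ binj (σ l) y)
    have hsum : mt Q g *ᵥ (mt Q g *ᵥ binj (σ l) y) - binj (σ l) y =
        (a₁ + a₂) • e + (b₁ + b₂) • e' := by
      have : mt Q g *ᵥ (mt Q g *ᵥ binj (σ l) y) - binj (σ l) y =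
          (mt Q g *ᵥ (mt Q g *ᵥ binj (σ l) y) - mt Q g *ᵥ binj (σ l) y) +
            (mt Q g *ᵥ binj (σ l) y - binj (σ l) y) := by abel
      rw [this, h1, h2]; module
    have hmem1 : mt Q g *ᵥ (mt Q g *ᵥ binj (σ l) y) ∈ Dblk F t 2 (σ l) := by
      have hgw := hσ (σ l) y
      rw [hσσ, QB.mem_Dblk_iff'] at hgw
      rw [hgw]
      exact hσ l _
    have hmem : (a₁ + a₂) • e + (b₁ + b₂) • e' ∈ Dblk F t 2 (σ l) := by
      rw [← hsum]
      exact (Dblk F t 2 (σ l)).sub_mem hmem1 (binj_mem (σ l) y)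
    have h0 := SWAPSUPP.inter bm he he' σ hσ hl (Or.inr hmem)
    rw [h0] at hsum
    exact sub_eq_zero.mp hsum
  -- decomposition of `e`
  have hdec : e = binj l (bproj l e) + binj (σ l) (bproj (σ l) e) := by
    apply QB.ext
    intro k
    rw [QB.bproj_add]
    by_cases hk : k = l
    · subst hk
      rw [bproj_binj, bproj_binj_ne (Ne.symm hl), add_zero]
    · by_cases hk' : k = σ l
      · rw [hk', bproj_binj, bproj_binj_ne hl, zero_add]
      · rw [bproj_binj_ne hk, bproj_binj_ne hk', add_zero]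
        exact (hsupp k hk hk').1
  conv_lhs => rw [hdec]
  rw [Matrix.mulVec_add, Matrix.mulVec_add, hsq_l, hsq_l']
  exact hdec.symm

end Cfsg.Agent.K2M
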