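import Mathlib
import Cfsg.Agent.Helper7.K2M.Defs2
import Cfsg.Agent.Helper3.K2MRACT
import Cfsg.Agent.Helper27.K2MPERM
import Cfsg.Agent.Helper4.K2MQB
import Cfsg.Agent.Helper19.K2MUNIV
import Cfsg.Agent.Helper19.K2MOMEGA
import Cfsg.Agent.Helper16.K2MSPAIR
import Cfsg.Agent.Helper22.K2MTHREE
import Cfsg.Agent.Helper3.K2MSCHANGEB
import Cfsg.Agent.Helper7.K2MSMOVE

set_option autoImplicit false
set_option linter.unusedSectionVars false
set_option linter.unusedVariables false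

/-! # S5694, `k = 2` minus blocks, chapter SIEGEL: piece S-PAIRK -/

namespace Cfsg.Agent.K2M

open Matrix Cfsg.Agent.OC2P Cfsg.Agent.Helper28.Sg Cfsg.Agent.Helper28.Spin
  Cfsg.Agent.Helper12.OrthGen

variable {F : Type*} [Field F] [Fintype F] {t : ℕ} {Q : QuadraticForm F (Fin t × Fin 2 → F)}
  {q : QuadraticForm F (Fin 2 → F)}

omit [Fintype F] in
/-- a reflection fixes the vectors orthogonal to its centre -/
theorem SPAIRK.aux_fix (v : Fin t × Fin 2 → F) (hv : Q v ≠ 0) {x : Fin t × Fin 2 → F}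
    (h : B Q v x = 0) : mt Q (reflO Q v hv) *ᵥ x = x := by
  rw [RACT.mulVec, h, mul_zero, zero_smul, sub_zero]

omit [Fintype F] in
/-- a reflection on a vector with `B v x = 1` -/
theorem SPAIRK.aux_one (v : Fin t × Fin 2 → F) (hv : Q v ≠ 0) {x : Fin t × Fin 2 → F}
    (h : B Q v x = 1) : mt Q (reflO Q v hv) *ᵥ x = x - (Q v)⁻¹ • v := by
  rw [RACT.mulVec, h, mul_one]

omit [Fintype F] in
theorem SPAIRK.aux_polar_ne (bm : BM Q q) {a d : Fin 2 → F}
    (h : QuadraticMap.polar ⇑q a d = 1) : q d ≠ 0 := by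
  intro h0
  have := bm.aniso d h0
  rw [this, QuadraticMap.polar_zero_right] at h
  exact zero_ne_one h

theorem SPAIRK.main (bm : BM Q q) (ht : 3 ≤ t) {H : Subgroup (OG Q)} (hH : HasMO H)
    {a : Fin t × Fin 2 → F} (ha : InA H a) {i j k p : Fin t} (hij : i ≠ j) (hik : i ≠ k) (hjk : j ≠ k)
    (hi : bproj i a ≠ 0) (hj : bproj j a ≠ 0) (hk : bproj k a ≠ 0) (hp : bproj p a = 0) :
    SiegOut H := by
  classical
  obtain ⟨yb, ha', hb, hqb, hab⟩ := SCHANGEB.main bm ht hH ha k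
  obtain ⟨di, dj, hdi, hdj, hdd⟩ := SPAIR.main bm hi hj
  have hdi0 : q di ≠ 0 := SPAIRK.aux_polar_ne bm hdi
  have hdj0 : q dj ≠ 0 := SPAIRK.aux_polar_ne bm hdj
  obtain ⟨y, hy⟩ := UNIV.main bm hdi0
  obtain ⟨y', hy'⟩ := UNIV.main bm hdj0
  have hpi : p ≠ i := by rintro rfl; exact hi hp
  have hpj : p ≠ j := by rintro rfl; exact hj hp
  have hpk : p ≠ k := by rintro rfl; exact hk hp
  have hQxi : Q (binj i di) ≠ 0 := by rw [QB.Q_binj bm]; exact hdi0
  have hQxj : Q (binj j dj) ≠ 0 := by rw [QB.Q_binj bm]; exact hdj0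
  have hQy : Q (binj p y) ≠ 0 := by rw [QB.Q_binj bm, hy]; exact hdi0
  have hQy' : Q (binj p y') ≠ 0 := by rw [QB.Q_binj bm, hy']; exact hdj0
  have hm1 : reflO Q (binj i di) hQxi * reflO Q (binj p y) hQy ∈ H :=
    OMEGA.pair_mem bm ht hH i p di y hQxi hQy ⟨q di, by rw [hy]⟩
  have hm2 : reflO Q (binj j dj) hQxj * reflO Q (binj p y') hQy' ∈ H :=
    OMEGA.pair_mem bm ht hH j p dj y' hQxj hQy' ⟨q dj, by rw [hy']⟩
  have hm : reflO Q (binj i di) hQxi * reflO Q (binj p y) hQy *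
      (reflO Q (binj j dj) hQxj * reflO Q (binj p y') hQy') ∈ H := H.mul_mem hm1 hm2
  -- the values of `B`
  have hBxia : B Q (binj i di) a = 1 := by
    rw [QB.B_binj_left bm, QuadraticMap.polar_comm]; exact hdi
  have hBxja : B Q (binj j dj) a = 1 := by
    rw [QB.B_binj_left bm, QuadraticMap.polar_comm]; exact hdj
  have hBya : B Q (binj p y) a = 0 := by
    rw [QB.B_binj_left bm, hp, QuadraticMap.polar_zero_right]
  have hBy'a : B Q (binj p y') a = 0 := by
    rw [QB.B_binj_left bm, hp, QuadraticMap.polar_zero_right]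
  -- `m b = b`
  have hmb : mt Q (reflO Q (binj i di) hQxi * reflO Q (binj p y) hQy *
      (reflO Q (binj j dj) hQxj * reflO Q (binj p y') hQy')) *ᵥ binj k yb = binj k yb := by
    rw [mt_mul_mulVec, mt_mul_mulVec, mt_mul_mulVec,
      SPAIRK.aux_fix _ hQy' (QB.B_binj_binj_ne bm hpk _ _),
      SPAIRK.aux_fix _ hQxj (QB.B_binj_binj_ne bm hjk _ _),
      SPAIRK.aux_fix _ hQy (QB.B_binj_binj_ne bm hpk _ _),
      SPAIRK.aux_fix _ hQxi (QB.B_binj_binj_ne bm hik _ _)]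
  -- `m a`
  have hma : mt Q (reflO Q (binj i di) hQxi * reflO Q (binj p y) hQy *
      (reflO Q (binj j dj) hQxj * reflO Q (binj p y') hQy')) *ᵥ a =
      a - (Q (binj j dj))⁻¹ • binj j dj - (Q (binj i di))⁻¹ • binj i di := by
    rw [mt_mul_mulVec, mt_mul_mulVec, mt_mul_mulVec, SPAIRK.aux_fix _ hQy' hBy'a,
      SPAIRK.aux_one _ hQxj hBxja]
    have h1 : B Q (binj p y) (a - (Q (binj j dj))⁻¹ • binj j dj) = 0 := by
      show QuadraticMap.polar ⇑Q _ _ = 0
      rw [QuadraticMap.polar_sub_right, QuadraticMap.polar_smul_right]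
      have e1 : QuadraticMap.polar ⇑Q (binj p y) a = 0 := hBya
      have e2 : QuadraticMap.polar ⇑Q (binj p y) (binj j dj) = 0 := QB.B_binj_binj_ne bm hpj _ _
      rw [e1, e2, smul_zero, sub_zero]
    have h2 : B Q (binj i di) (a - (Q (binj j dj))⁻¹ • binj j dj) = 1 := by
      show QuadraticMap.polar ⇑Q _ _ = 1
      rw [QuadraticMap.polar_sub_right, QuadraticMap.polar_smul_right]
      have e1 : QuadraticMap.polar ⇑Q (binj i di) a = 1 := hBxia
      have e2 : QuadraticMap.polar ⇑Q (binj i di) (binj j dj) = 0 := QB.B_binj_binj_ne bm hij _ _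
      rw [e1, e2, smul_zero, sub_zero]
    rw [SPAIRK.aux_fix _ hQy h1, SPAIRK.aux_one _ hQxi h2]
  set m := reflO Q (binj i di) hQxi * reflO Q (binj p y) hQy *
      (reflO Q (binj j dj) hQxj * reflO Q (binj p y') hQy') with hmdef
  have hQma : Q (mt Q m *ᵥ a) = Q a := Q_isom m a
  have hQma' : Q (mt Q m *ᵥ a) ≠ 0 := by rw [hQma]; exact ha'
  have hrel := SMOVE.main ha' hb hab hm hmb hQma'
  have hzeq : a - mt Q m *ᵥ a = (q di)⁻¹ • binj i di + (q dj)⁻¹ • binj j dj := by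
    rw [hma, QB.Q_binj bm, QB.Q_binj bm]; abel
  have hz : Q (a - mt Q m *ᵥ a) = 0 := by
    rw [hzeq, Q_add, Q_smul, Q_smul, QB.Q_binj bm, QB.Q_binj bm]
    have e : B Q ((q di)⁻¹ • binj i di) ((q dj)⁻¹ • binj j dj) = 0 := by
      show QuadraticMap.polar ⇑Q _ _ = 0
      rw [QuadraticMap.polar_smul_left, QuadraticMap.polar_smul_right]
      have e2 : QuadraticMap.polar ⇑Q (binj i di) (binj j dj) = 0 := QB.B_binj_binj_ne bm hij _ _
      rw [e2, smul_zero, smul_zero]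
    rw [e, hdd]
    field_simp
    ring
  have hw := STOSIEG.main ha' hQma' hQma hz hrel
  refine ⟨a - mt Q m *ᵥ a, (-(Q a)⁻¹) • a, hz, {i, j}, k, ?_, ?_, ?_, ?_, hw, ?_⟩
  · intro h0
    have h1 : bproj i (a - mt Q m *ᵥ a) = 0 := by rw [h0]; rfl
    rw [hzeq, QB.bproj_add, QB.bproj_smul, QB.bproj_smul, bproj_binj,
      bproj_binj_ne hij, smul_zero, add_zero] at h1
    have hdi1 : di = 0 := by
      rcases smul_eq_zero.mp h1 with h | h
      · exact absurd h (inv_ne_zero hdi0)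
      · exact h
    rw [hdi1, QuadraticMap.polar_zero_right] at hdi
    exact zero_ne_one hdi
  · calc ({i, j} : Finset (Fin t)).card ≤ 2 := Finset.card_le_two
      _ ≤ 4 := by norm_num
  · intro l hl
    rw [Finset.mem_insert, Finset.mem_singleton, not_or] at hl
    rw [hzeq, QB.bproj_add, QB.bproj_smul, QB.bproj_smul, bproj_binj_ne hl.1, bproj_binj_ne hl.2,
      smul_zero, smul_zero, add_zero]
  · rw [Finset.mem_insert, Finset.mem_singleton, not_or]
    exact ⟨Ne.symm hik, Ne.symm hjk⟩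
  · rw [QB.bproj_smul]
    exact smul_ne_zero (neg_ne_zero.mpr (inv_ne_zero ha')) hk

end Cfsg.Agent.K2M
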