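import Mathlib
import Cfsg.Agent.Helper7.K2M.Defs2
import Cfsg.Agent.Helper3.K2MRACT
import Cfsg.Agent.Helper27.K2MPERM
import Cfsg.Agent.Helper4.K2MQB
import Cfsg.Agent.Helper19.K2MUNIV
import Cfsg.Agent.Helper19.K2MOMEGA
import Cfsg.Agent.Helper16.K2MSPAIR
import Cfsg.Agent.Helper22.K2MTHREE
import Cfsg.Agent.Helper3.K2MSCHANGEB
import Cfsg.Agent.Helper7.K2MSMOVE
import Cfsg.Agent.Helper7.K2MSPAIRK

set_option autoImplicit false
set_option linter.unusedSectionVars false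
set_option linter.unusedVariables false

/-! # S5694, `k = 2` minus blocks, chapter SIEGEL: piece S-ADD23 -/

namespace Cfsg.Agent.K2M

open Matrix Cfsg.Agent.OC2P Cfsg.Agent.Helper28.Sg Cfsg.Agent.Helper28.Spin
  Cfsg.Agent.Helper12.OrthGen

variable {F : Type*} [Field F] [Fintype F] {t : ℕ} {Q : QuadraticForm F (Fin t × Fin 2 → F)}
  {q : QuadraticForm F (Fin 2 → F)}

omit [Fintype F] in
/-- an independent pair spans the plane -/
theorem SADD23.aux_span {y y' : Fin 2 → F} (h : Indep2 (F := F) y y') (v : Fin 2 → F) :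
    ∃ α β : F, v = α • y + β • y' := by
  have hli : LinearIndependent F ![y, y'] := LinearIndependent.pair_iff.mpr h
  have hcard : Fintype.card (Fin 2) = Module.finrank F (Fin 2 → F) := by
    rw [Module.finrank_fin_fun, Fintype.card_fin]
  let b := basisOfLinearIndependentOfCardEqFinrank hli hcard
  refine ⟨b.repr v 0, b.repr v 1, ?_⟩
  have h1 := b.sum_repr v
  rw [Fin.sum_univ_two] at h1
  have e0 : b 0 = y := by
    simp [b, coe_basisOfLinearIndependentOfCardEqFinrank]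
  have e1 : b 1 = y' := by
    simp [b, coe_basisOfLinearIndependentOfCardEqFinrank]
  rw [e0, e1] at h1
  exact h1.symm

omit [Fintype F] in
/-- two independent vectors cannot both be orthogonal to a nonzero vector -/
theorem SADD23.aux_not_both_perp (bm : BM Q q) {y y' a : Fin 2 → F} (h : Indep2 (F := F) y y')
    (ha : a ≠ 0) (h1 : QuadraticMap.polar ⇑q y a = 0) (h2 : QuadraticMap.polar ⇑q y' a = 0) :
    False := by
  obtain ⟨e, he⟩ := QB.exists_polar_ne bm ha
  obtain ⟨α, β, hαβ⟩ := SADD23.aux_span h e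
  rw [hαβ, QuadraticMap.polar_add_right, QuadraticMap.polar_smul_right,
    QuadraticMap.polar_smul_right, QuadraticMap.polar_comm ⇑q a y, QuadraticMap.polar_comm ⇑q a y',
    h1, h2, smul_zero, smul_zero, add_zero] at he
  exact zero_ne_one he

omit [Fintype F] in
/-- two independent vectors cannot both be multiples of one vector -/
theorem SADD23.aux_not_both_par {y y' a : Fin 2 → F} (h : Indep2 (F := F) y y')
    (h1 : ¬ Indep2 (F := F) y a) (h2 : ¬ Indep2 (F := F) y' a) (ha : a ≠ 0) : False := by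
  unfold Indep2 at h1 h2
  push Not at h1 h2
  obtain ⟨α, β, e1, hne1⟩ := h1
  obtain ⟨α', β', e2, hne2⟩ := h2
  -- `α ≠ 0` and `α' ≠ 0` since `a ≠ 0`
  have hα : α ≠ 0 := by
    intro h0
    have hβ : β ≠ 0 := hne1 h0
    rw [h0, zero_smul, zero_add] at e1
    exact ha ((smul_eq_zero.mp e1).resolve_left hβ)
  have hα' : α' ≠ 0 := by
    intro h0
    have hβ : β' ≠ 0 := hne2 h0
    rw [h0, zero_smul, zero_add] at e2
    exact ha ((smul_eq_zero.mp e2).resolve_left hβ)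
  -- `β' α y - β α' y' = 0`
  have key : (β' * α) • y + (-(β * α')) • y' = 0 := by
    have e1' : α • y = -(β • a) := eq_neg_of_add_eq_zero_left e1
    have e2' : α' • y' = -(β' • a) := eq_neg_of_add_eq_zero_left e2
    rw [mul_smul, e1', neg_smul, mul_smul, e2']
    simp only [smul_neg, neg_neg]
    rw [smul_smul, smul_smul, mul_comm β' β]
    abel
  obtain ⟨k1, k2⟩ := h _ _ key
  -- so `β' = 0` and `β = 0`
  have hβ' : β' = 0 := (mul_eq_zero.mp k1).resolve_right hα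
  have hβ : β = 0 := (mul_eq_zero.mp (neg_eq_zero.mp k2)).resolve_right hα'
  rw [hβ, zero_smul, add_zero] at e1
  have hy0 : y = 0 := (smul_eq_zero.mp e1).resolve_left hα
  have := h 1 0 (by rw [hy0, smul_zero, zero_smul, add_zero])
  exact one_ne_zero this.1

/-- the choice of `c` -/
theorem SADD23.aux_choose (bm : BM Q q) (hF : Fintype.card F ≠ 3) {c₀ : F} (hc₀ : c₀ ≠ 0)
    {a : Fin 2 → F} (ha : a ≠ 0) :
    ∃ c : Fin 2 → F, q c = c₀ ∧ Indep2 (F := F) c a ∧ QuadraticMap.polar ⇑q c a ≠ 0 := by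
  obtain ⟨y₁, y₂, y₃, h1, h2, h3, h12, h13, h23⟩ := THREE.main bm hF hc₀
  by_contra hcon
  push Not at hcon
  -- each `y_s` is parallel or orthogonal to `a`
  have b1 := hcon y₁ h1
  have b2 := hcon y₂ h2
  have b3 := hcon y₃ h3
  by_cases p1 : Indep2 (F := F) y₁ a
  · have o1 := b1 p1
    by_cases p2 : Indep2 (F := F) y₂ a
    · exact SADD23.aux_not_both_perp bm h12 ha o1 (b2 p2)
    · by_cases p3 : Indep2 (F := F) y₃ a
      · exact SADD23.aux_not_both_perp bm h13 ha o1 (b3 p3)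
      · exact SADD23.aux_not_both_par h23 p2 p3 ha
  · by_cases p2 : Indep2 (F := F) y₂ a
    · by_cases p3 : Indep2 (F := F) y₃ a
      · exact SADD23.aux_not_both_perp bm h23 ha (b2 p2) (b3 p3)
      · exact SADD23.aux_not_both_par h13 p1 p3 ha
    · exact SADD23.aux_not_both_par h12 p1 p2 ha


omit [Fintype F] in
/-- a block reflection on a vector of its block -/
theorem SADD23.aux_refl_same (bm : BM Q q) (j : Fin t) (y x : Fin 2 → F) (hv : Q (binj j y) ≠ 0) :
    mt Q (reflO Q (binj j y) hv) *ᵥ binj j x = binj j (r2 q y x) := by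
  apply QB.ext
  intro l
  by_cases hl : l = j
  · subst hl
    rw [RACT.bproj_same bm, bproj_binj, bproj_binj]
  · rw [RACT.bproj_ne bm hl, bproj_binj_ne hl, bproj_binj_ne hl]

/-- the element moving `binj i ai` to `binj j c` and `binj j aj` into block `k` -/
theorem SADD23.aux_move (bm : BM Q q) (ht : 3 ≤ t) {H : Subgroup (OG Q)} (hH : HasMO H)
    {i j k : Fin t} (hij : i ≠ j) (hik : i ≠ k) (hjk : j ≠ k) {ai aj c : Fin 2 → F}
    (hc : q c = q ai) (haj : aj ≠ 0) :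
    ∃ g ∈ H, StabD Q g ∧ ∃ c' : Fin 2 → F, c' ≠ 0 ∧ mt Q g *ᵥ binj i ai = binj j c ∧
      mt Q g *ᵥ binj j aj = binj k c' := by
  obtain ⟨g₀, hg₀H, hg₀S, hg₀⟩ := PERM.cycle3 bm hH hij hik hjk
  have e1 : ∀ y : Fin 2 → F, mt Q g₀ *ᵥ binj i y = binj j y := by
    intro y
    rw [hg₀, Equiv.swap_apply_of_ne_of_ne hij hik, Equiv.swap_apply_left]
  have e2 : ∀ y : Fin 2 → F, mt Q g₀ *ᵥ binj j y = binj k y := by
    intro y
    rw [hg₀, Equiv.swap_apply_left, Equiv.swap_apply_of_ne_of_ne (Ne.symm hik) (Ne.symm hjk)]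
  by_cases hca : c = ai
  · exact ⟨g₀, hg₀H, hg₀S, aj, haj, by rw [e1, hca], e2 aj⟩
  · have hy₀ : c - ai ≠ 0 := sub_ne_zero.mpr hca
    have hqy₀ : q (c - ai) ≠ 0 := fun h => hy₀ (bm.aniso _ h)
    obtain ⟨y', hy'⟩ := UNIV.main bm hqy₀
    have hy'0 : y' ≠ 0 := by
      rintro rfl
      rw [QuadraticMap.map_zero] at hy'
      exact hqy₀ hy'.symm
    have hQ1 : Q (binj j (c - ai)) ≠ 0 := by rw [QB.Q_binj bm]; exact hqy₀
    have hQ2 : Q (binj k y') ≠ 0 := by rw [QB.Q_binj bm, hy']; exact hqy₀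
    have hρ : reflO Q (binj j (c - ai)) hQ1 * reflO Q (binj k y') hQ2 ∈ H :=
      OMEGA.pair_mem bm ht hH j k (c - ai) y' hQ1 hQ2 ⟨q (c - ai), by rw [hy']⟩
    have hρS : StabD Q (reflO Q (binj j (c - ai)) hQ1 * reflO Q (binj k y') hQ2) :=
      STAB.mul (STAB.reflO bm _ _ _) (STAB.reflO bm _ _ _)
    refine ⟨reflO Q (binj j (c - ai)) hQ1 * reflO Q (binj k y') hQ2 * g₀,
      H.mul_mem hρ hg₀H, STAB.mul hρS hg₀S, r2 q y' aj, ?_, ?_, ?_⟩
    · intro h0
      have := RACT.q_r2 bm hy'0 aj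
      rw [h0, QuadraticMap.map_zero] at this
      exact haj (bm.aniso _ this.symm)
    · rw [mt_mul_mulVec, e1, mt_mul_mulVec,
        SPAIRK.aux_fix _ hQ2 (QB.B_binj_binj_ne bm (Ne.symm hjk) _ _),
        SADD23.aux_refl_same bm, RACT.r2_move bm hc hca]
    · rw [mt_mul_mulVec, e2, mt_mul_mulVec, SADD23.aux_refl_same bm,
        SPAIRK.aux_fix _ hQ1 (QB.B_binj_binj_ne bm hjk _ _)]

omit [Fintype F] in
/-- conjugating a relation `r_x r_b ∈ H` by `m ∈ H` fixing `b` -/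
theorem SADD23.aux_conj {H : Subgroup (OG Q)} {x b : Fin t × Fin 2 → F} (hx : Q x ≠ 0) (hb : Q b ≠ 0)
    (hxb : reflO Q x hx * reflO Q b hb ∈ H) {m : OG Q} (hm : m ∈ H) (hmb : mt Q m *ᵥ b = b)
    (hmx : Q (mt Q m *ᵥ x) ≠ 0) : reflO Q (mt Q m *ᵥ x) hmx * reflO Q b hb ∈ H := by
  have hmb' : Q (mt Q m *ᵥ b) ≠ 0 := by rw [hmb]; exact hb
  have h1 : reflO Q (mt Q m *ᵥ x) hmx * reflO Q (mt Q m *ᵥ b) hmb' ∈ H := by
    rw [reflO_conj Q m x hx hmx, reflO_conj Q m b hb hmb']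
    have : m * reflO Q x hx * m⁻¹ * (m * reflO Q b hb * m⁻¹) =
        m * (reflO Q x hx * reflO Q b hb) * m⁻¹ := by group
    rw [this]
    exact H.mul_mem (H.mul_mem hm hxb) (H.inv_mem hm)
  have h2 : reflO Q (mt Q m *ᵥ b) hmb' = reflO Q b hb := reflO_congr' hmb hmb' hb
  rw [h2] at h1
  exact h1


theorem SADD23.main (bm : BM Q q) (ht : 4 ≤ t) (hF : Fintype.card F ≠ 3) {H : Subgroup (OG Q)}
    (hH : HasMO H) {a : Fin t × Fin 2 → F} (ha : InA H a) {i j : Fin t} (hij : i ≠ j)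
    (hi : bproj i a ≠ 0) (hj : bproj j a ≠ 0) (h0 : ∀ m, m ≠ i → m ≠ j → bproj m a = 0) :
    ∃ (a' : Fin t × Fin 2 → F) (i' j' k' p' : Fin t), InA H a' ∧ i' ≠ j' ∧ i' ≠ k' ∧ j' ≠ k' ∧
      bproj i' a' ≠ 0 ∧ bproj j' a' ≠ 0 ∧ bproj k' a' ≠ 0 ∧ bproj p' a' = 0 := by
  classical
  obtain ⟨k, hki, hkj, -⟩ := PERM.aux_exists_ne ht i j i
  obtain ⟨n, hni, hnj, hnk⟩ := PERM.aux_exists_ne ht i j k
  have hadec : a = binj i (bproj i a) + binj j (bproj j a) := by
    apply QB.ext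
    intro l
    rw [QB.bproj_add]
    by_cases hli : l = i
    · subst hli
      rw [bproj_binj, bproj_binj_ne hij, add_zero]
    · by_cases hlj : l = j
      · subst hlj
        rw [bproj_binj, bproj_binj_ne (Ne.symm hij), zero_add]
      · rw [bproj_binj_ne hli, bproj_binj_ne hlj, add_zero]
        exact h0 l hli hlj
  have hqai : q (bproj i a) ≠ 0 := fun h => hi (bm.aniso _ h)
  obtain ⟨c, hc, hcind, hcpol⟩ := SADD23.aux_choose bm hF hqai hj
  obtain ⟨g, hgH, hgS, c', hc'0, hg1, hg2⟩ :=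
    SADD23.aux_move bm (by omega) hH hij (Ne.symm hki) (Ne.symm hkj) hc hj
  have ha₂ : mt Q g *ᵥ a = binj j c + binj k c' := by
    conv_lhs => rw [hadec]
    rw [Matrix.mulVec_add, hg1, hg2]
  have hA₂ : InA H (binj j c + binj k c') := by
    rw [← ha₂]; exact SCHANGEB.conj bm ha hgH hgS
  have hQeq : Q (binj j c + binj k c') = Q a := by rw [← ha₂]; exact Q_isom g a
  obtain ⟨y₁, hQa, hb₁, hqy₁, hrel₁⟩ := SCHANGEB.main bm (by omega) hH ha n
  obtain ⟨y₂, hQa₂, hb₂, hqy₂, hrel₂⟩ := SCHANGEB.main bm (by omega) hH hA₂ n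
  have hrot : reflO Q (binj n y₁) hb₁ * reflO Q (binj n y₂) hb₂ ∈ H :=
    OMEGA.rot_mem bm (by omega) hH n y₁ y₂ hb₁ hb₂ ⟨Q a, by rw [hqy₁, hqy₂, hQeq]⟩
  have hψ : reflO Q a hQa * reflO Q (binj j c + binj k c') hQa₂ ∈ H := by
    have h11 := reflO_mul_self Q (binj n y₁) hb₁
    have h22 := reflO_mul_self Q (binj n y₂) hb₂
    have e : reflO Q a hQa * reflO Q (binj j c + binj k c') hQa₂ =
        (reflO Q a hQa * reflO Q (binj n y₁) hb₁) *
          (reflO Q (binj n y₁) hb₁ * reflO Q (binj n y₂) hb₂) *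
          (reflO Q (binj j c + binj k c') hQa₂ * reflO Q (binj n y₂) hb₂)⁻¹ := by
      rw [_root_.mul_inv_rev, reflO_inv, reflO_inv]
      have : reflO Q a hQa * reflO Q (binj n y₁) hb₁ *
          (reflO Q (binj n y₁) hb₁ * reflO Q (binj n y₂) hb₂) *
          (reflO Q (binj n y₂) hb₂ * reflO Q (binj j c + binj k c') hQa₂) =
          reflO Q a hQa * (reflO Q (binj n y₁) hb₁ * reflO Q (binj n y₁) hb₁) *
          (reflO Q (binj n y₂) hb₂ * reflO Q (binj n y₂) hb₂) *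
          reflO Q (binj j c + binj k c') hQa₂ := by group
      rw [this, h11, h22, mul_one, mul_one]
    rw [e]
    exact H.mul_mem (H.mul_mem hrel₁ hrot) (H.inv_mem hrel₂)
  -- components of `a` and `a₂`
  have hak : bproj k a = 0 := h0 k hki hkj
  have han : bproj n a = 0 := h0 n hni hnj
  have ha₂n : bproj n (binj j c + binj k c') = 0 := by
    rw [QB.bproj_add, bproj_binj_ne hnj, bproj_binj_ne hnk, add_zero]
  -- `ψ` fixes `binj n y₂`
  have hB1 : B Q a (binj n y₂) = 0 := by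
    rw [QB.B_binj_right bm, han, QuadraticMap.polar_zero_left]
  have hB2 : B Q (binj j c + binj k c') (binj n y₂) = 0 := by
    rw [QB.B_binj_right bm, ha₂n, QuadraticMap.polar_zero_left]
  have hψb : mt Q (reflO Q a hQa * reflO Q (binj j c + binj k c') hQa₂) *ᵥ binj n y₂ =
      binj n y₂ := by
    rw [mt_mul_mulVec, SPAIRK.aux_fix _ hQa₂ hB2, SPAIRK.aux_fix _ hQa hB1]
  have hQa' : Q (mt Q (reflO Q a hQa * reflO Q (binj j c + binj k c') hQa₂) *ᵥ
      (binj j c + binj k c')) ≠ 0 := by rw [Q_isom]; exact hQa₂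
  have hrel' := SADD23.aux_conj hQa₂ hb₂ hrel₂ hψ hψb hQa'
  -- the formula for `a'`
  have hBaa₂ : B Q a (binj j c + binj k c') = QuadraticMap.polar ⇑q (bproj j a) c := by
    show QuadraticMap.polar ⇑Q a (binj j c + binj k c') = _
    rw [QuadraticMap.polar_add_right]
    have e1 : QuadraticMap.polar ⇑Q a (binj j c) = QuadraticMap.polar ⇑q (bproj j a) c :=
      QB.B_binj_right bm j c a
    have e2 : QuadraticMap.polar ⇑Q a (binj k c') = QuadraticMap.polar ⇑q (bproj k a) c' :=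
      QB.B_binj_right bm k c' a
    rw [e1, e2, hak, QuadraticMap.polar_zero_left, add_zero]
  have hform : mt Q (reflO Q a hQa * reflO Q (binj j c + binj k c') hQa₂) *ᵥ
      (binj j c + binj k c') =
      ((Q a)⁻¹ * QuadraticMap.polar ⇑q (bproj j a) c) • a - (binj j c + binj k c') := by
    rw [mt_mul_mulVec]
    have e1 : mt Q (reflO Q (binj j c + binj k c') hQa₂) *ᵥ (binj j c + binj k c') =
        -(binj j c + binj k c') := by
      rw [RACT.mulVec, B_self]
      have : (Q (binj j c + binj k c'))⁻¹ * (2 * Q (binj j c + binj k c')) = 2 := by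
        field_simp
      rw [this, two_smul]; abel
    rw [e1, RACT.mulVec, B_neg_right, hBaa₂, mul_neg, neg_smul]; abel
  have hβ : (Q a)⁻¹ * QuadraticMap.polar ⇑q (bproj j a) c ≠ 0 := by
    refine mul_ne_zero (inv_ne_zero hQa) ?_
    rw [QuadraticMap.polar_comm]; exact hcpol
  refine ⟨_, i, j, k, n, ⟨binj n y₂, hQa', hb₂, ⟨n, binj_mem n y₂⟩, ?_, hrel'⟩, hij, Ne.symm hki,
    Ne.symm hkj, ?_, ?_, ?_, ?_⟩
  · rw [Q_isom, QB.Q_binj bm, hqy₂]
  · rw [hform, QB.bproj_sub, QB.bproj_smul, QB.bproj_add, bproj_binj_ne hij,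
      bproj_binj_ne (Ne.symm hki), add_zero, sub_zero]
    exact smul_ne_zero hβ hi
  · rw [hform, QB.bproj_sub, QB.bproj_smul, QB.bproj_add, bproj_binj,
      bproj_binj_ne (Ne.symm hkj), add_zero]
    intro h
    have h' : (-1 : F) • c + ((Q a)⁻¹ * QuadraticMap.polar ⇑q (bproj j a) c) • bproj j a = 0 := by
      rw [neg_one_smul, neg_add_eq_sub]; exact h
    have := (hcind _ _ h').1
    exact one_ne_zero (neg_eq_zero.mp this)
  · rw [hform, QB.bproj_sub, QB.bproj_smul, QB.bproj_add, bproj_binj_ne hkj, bproj_binj, hak,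
      smul_zero, zero_add, zero_sub]
    exact neg_ne_zero.mpr hc'0
  · rw [hform, QB.bproj_sub, QB.bproj_smul, han, ha₂n, smul_zero, sub_zero]

end Cfsg.Agent.K2M
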