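import Mathlib
import Cfsg.Agent.Helper7.K2M.Defs2
import Cfsg.Agent.Helper7.K2MSPAIRK
import Cfsg.Agent.Helper7.K2MSADD23
import Cfsg.Agent.Helper23.K2MSSUPP
import Cfsg.Agent.Helper23.K2MSFOUR
import Cfsg.Agent.Helper4.K2MSENTRY

set_option autoImplicit false
set_option linter.unusedSectionVars false
set_option linter.unusedVariables false

/-! # S5694, `k = 2` minus blocks: chapter SIEGEL, assembly -/

namespace Cfsg.Agent.K2M

open Matrix Cfsg.Agent.OC2P Cfsg.Agent.Helper28.Sg Cfsg.Agent.Helper28.Spin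
  Cfsg.Agent.Helper12.OrthGen

variable {F : Type*} [Field F] [Fintype F] {t : ℕ} {Q : QuadraticForm F (Fin t × Fin 2 → F)}
  {q : QuadraticForm F (Fin 2 → F)}

/-- from `InA` with three nonzero components (and any number of others) -/
theorem SIEGEL.of_three (bm : BM Q q) (ht : 7 ≤ t) {H : Subgroup (OG Q)} (hH : HasMO H)
    {a : Fin t × Fin 2 → F} (ha : InA H a) {i j k : Fin t} (hij : i ≠ j) (hik : i ≠ k) (hjk : j ≠ k)
    (hi : bproj i a ≠ 0) (hj : bproj j a ≠ 0) (hk : bproj k a ≠ 0) : SiegOut H := by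
  classical
  by_cases hz : ∃ p, bproj p a = 0
  · obtain ⟨p, hp⟩ := hz
    exact SPAIRK.main bm (by omega) hH ha hij hik hjk hi hj hk hp
  · push Not at hz
    have hcard : 5 ≤ Fintype.card (Fin t) := by rw [Fintype.card_fin]; omega
    obtain ⟨e⟩ := Function.Embedding.nonempty_of_card_le (α := Fin 5) (β := Fin t)
      (by rw [Fintype.card_fin]; exact hcard)
    exact SFOUR.main bm (by omega) hH ha e e.injective (fun s => hz (e s))

theorem SIEGEL.main (bm : BM Q q) (ht : 7 ≤ t) (hF : Fintype.card F ≠ 3) {H : Subgroup (OG Q)}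
    (hH : HasMO H) (hP : ¬ PropP H) : SiegOut H := by
  classical
  obtain ⟨a, ha, hab⟩ := SENTRY.main bm (by omega) hF hH hP
  obtain ⟨i, j, hij, hi, hj⟩ := SSUPP.main (by omega) hab
  by_cases h3 : ∃ k, k ≠ i ∧ k ≠ j ∧ bproj k a ≠ 0
  · obtain ⟨k, hki, hkj, hk⟩ := h3
    exact SIEGEL.of_three bm ht hH ha hij (Ne.symm hki) (Ne.symm hkj) hi hj hk
  · push Not at h3
    obtain ⟨a', i', j', k', p', ha', h1, h2, h3', h4, h5, h6, h7⟩ :=
      SADD23.main bm (by omega) hF hH ha hij hi hj (fun m hmi hmj => h3 m hmi hmj)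
    exact SIEGEL.of_three bm ht hH ha' h1 h2 h3' h4 h5 h6

end Cfsg.Agent.K2M
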