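import Mathlib
import Cfsg.Prelude.Def_LieClassical
import Cfsg.Agent.Helper2.UnitaryForm

/-!
# S2481 (class number of SU_n(q)), Hermitian chapter: shared definitions

`st σ N`      : the ring endomorphism `a ↦ (σ a)(X^(N-1))` of `F[X]`; if `g^N = 1` is an isometry of
                the Hermitian form then `h (a(g) u) v = h u ((st a)(g) v)`.
`pdual σ p`   : the (monic) dual polynomial `σ(p(0))⁻¹ · reverse (σ p)`.
`IsIsom n q g`: the endomorphism `g` of `F^n` preserves `hermForm n F q`.
`HermFrame`   : a Hermitian frame of the isometry `g` on the subspace `W`: generators `v i` of cyclic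
                `F[g]`-submodules with annihilators `p i ^ e i`, pairwise orthogonal except for the
                pairs `(i, dual i)`, which are nondegenerately paired.
-/

set_option autoImplicit false

namespace Cfsg.Agent.S2481P

open Polynomial

universe u

/-- the ring endomorphism `a ↦ (σ a)(X^(N-1))` of `F[X]`. -/
noncomputable def st {F : Type*} [Field F] (σ : F →+* F) (N : ℕ) : F[X] →+* F[X] :=
  (Polynomial.compRingHom (X ^ (N - 1))).comp (Polynomial.mapRingHom σ)

/-- the dual polynomial `σ(p(0))⁻¹ · reverse (σ p)`. -/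
noncomputable def pdual {F : Type*} [Field F] (σ : F →+* F) (p : F[X]) : F[X] :=
  C (σ (p.coeff 0))⁻¹ * (p.map σ).reverse

/-- the endomorphism `g` of `F^n` preserves the standard Hermitian form. -/
def IsIsom {F : Type*} [Field F] (n q : ℕ) (g : Module.End F (Fin n → F)) : Prop :=
  ∀ u v, Cfsg.hermForm n F q (g u) (g v) = Cfsg.hermForm n F q u v

/-- the type conditions on a family `(p i, e i)` with a duality `dual` on the index set. -/
structure IsTypeData {F : Type*} [Field F] (σ : F →+* F) {ι : Type*} (p : ι → F[X]) (e : ι → ℕ)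
    (dual : ι → ι) : Prop where
  monic : ∀ i, (p i).Monic
  irred : ∀ i, Irreducible (p i)
  ne_X : ∀ i, p i ≠ X
  one_le : ∀ i, 1 ≤ e i
  dual_dual : ∀ i, dual (dual i) = i
  e_dual : ∀ i, e (dual i) = e i
  p_dual : ∀ i, p (dual i) = pdual σ (p i)
  fix_iff : ∀ i, dual i = i ↔ pdual σ (p i) = p i

/-- a Hermitian frame of `g` on the subspace `W`. -/
structure HermFrame {F : Type*} [Field F] (n q : ℕ) (g : Module.End F (Fin n → F))
    (W : Submodule F (Fin n → F)) {ι : Type*} (p : ι → F[X]) (e : ι → ℕ) (dual : ι → ι)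
    (v : ι → (Fin n → F)) : Prop where
  ann : ∀ i, aeval g (p i ^ e i) (v i) = 0
  orth : ∀ i j, j ≠ dual i → ∀ a b : F[X],
    Cfsg.hermForm n F q (aeval g a (v i)) (aeval g b (v j)) = 0
  nondeg : ∀ i, ∃ c : F[X],
    Cfsg.hermForm n F q (aeval g (c * p i ^ (e i - 1)) (v i)) (v (dual i)) ≠ 0
  span : Submodule.span F {x | ∃ i, ∃ a : F[X], x = aeval g a (v i)} = W

/-- `h` is nondegenerate on the subspace `W`. -/
def NondegOn {F : Type*} [Field F] (n q : ℕ) (W : Submodule F (Fin n → F)) : Prop :=
  ∀ x ∈ W, (∀ y ∈ W, Cfsg.hermForm n F q x y = 0) → x = 0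

/-- the orthogonal complement of `W` (vectors `x` with `h x w = 0` for all `w ∈ W`). -/
def perp {F : Type*} [Field F] (n q : ℕ) (W : Submodule F (Fin n → F)) : Set (Fin n → F) :=
  {x | ∀ w ∈ W, Cfsg.hermForm n F q x w = 0}

/-- the functional `c ↦ h (c(g) v) w`. -/
noncomputable def gramFun {F : Type*} [Field F] (n q : ℕ) (g : Module.End F (Fin n → F))
    (v w : Fin n → F) (c : F[X]) : F :=
  Cfsg.hermForm n F q (aeval g c v) w

/-- the functional `c ↦ h (c(g) v) w`, as a linear map. -/
noncomputable def gramLin {F : Type*} [Field F] (n q : ℕ) (g : Module.End F (Fin n → F))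
    (v w : Fin n → F) : F[X] →ₗ[F] F where
  toFun c := gramFun n q g v w c
  map_add' a b := by
    simp only [gramFun, map_add, LinearMap.add_apply]
    simp [Cfsg.hermForm, add_mul, Finset.sum_add_distrib]
  map_smul' c a := by
    simp only [gramFun, map_smul, LinearMap.smul_apply, RingHom.id_apply, smul_eq_mul]
    simp [Cfsg.hermForm, Finset.mul_sum, mul_assoc]

theorem gramLin_apply {F : Type*} [Field F] (n q : ℕ) (g : Module.End F (Fin n → F))
    (v w : Fin n → F) (c : F[X]) :
    gramLin n q g v w c = Cfsg.hermForm n F q (aeval g c v) w := rfl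

end Cfsg.Agent.S2481P
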