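import Mathlib
import Cfsg.Agent.Helper7.S2481Defs

/-!
# S2481, Hermitian chapter, piece PDUAL: the dual polynomial
-/

set_option autoImplicit false

namespace Cfsg.Agent.S2481P

open Polynomial

namespace PDUAL

variable {F : Type*} [Field F] (σ : F →+* F)

theorem map_coeff_zero_ne (p : F[X]) (h0 : p.coeff 0 ≠ 0) : (p.map σ).coeff 0 ≠ 0 := by
  rw [coeff_map]
  exact (map_ne_zero σ).2 h0

theorem ntd_map (p : F[X]) (h0 : p.coeff 0 ≠ 0) : (p.map σ).natTrailingDegree = 0 :=
  natTrailingDegree_eq_zero.2 (Or.inr (map_coeff_zero_ne σ p h0))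

theorem reverse_reverse_of (f : F[X]) (h0 : f.coeff 0 ≠ 0) : f.reverse.reverse = f := by
  have h1 : f.natTrailingDegree = 0 := natTrailingDegree_eq_zero.2 (Or.inr h0)
  have h2 : f.mirror = f.reverse := by rw [mirror, h1, pow_zero, mul_one]
  have h3 : f.reverse.mirror = f.reverse.reverse := by
    rw [mirror, natTrailingDegree_reverse, pow_zero, mul_one]
  rw [← h3, ← h2, mirror_mirror]

theorem pdual_natDegree (p : F[X]) (h0 : p.coeff 0 ≠ 0) :
    (pdual σ p).natDegree = p.natDegree := by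
  unfold pdual
  have hc : (σ (p.coeff 0))⁻¹ ≠ 0 := inv_ne_zero ((map_ne_zero σ).2 h0)
  rw [natDegree_C_mul hc, reverse_natDegree, ntd_map σ p h0, Nat.sub_zero,
    natDegree_map]

theorem pdual_monic (p : F[X]) (hp : p.Monic) (h0 : p.coeff 0 ≠ 0) : (pdual σ p).Monic := by
  unfold pdual Monic
  rw [leadingCoeff_mul, leadingCoeff_C, reverse_leadingCoeff, trailingCoeff, ntd_map σ p h0,
    coeff_map]
  exact inv_mul_cancel₀ ((map_ne_zero σ).2 h0)

theorem pdual_coeff_zero (p : F[X]) (hp : p.Monic) (h0 : p.coeff 0 ≠ 0) :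
    (pdual σ p).coeff 0 = (σ (p.coeff 0))⁻¹ := by
  unfold pdual
  rw [coeff_C_mul, coeff_zero_reverse, (hp.map σ).leadingCoeff, mul_one]

theorem reverse_C_mul' (c : F) (hc : c ≠ 0) (f : F[X]) :
    (C c * f).reverse = C c * f.reverse := by
  rw [reverse_mul_of_domain]
  congr 1
  rw [reverse, natDegree_C, reflect_C, pow_zero, mul_one]

theorem reverse_map' (f : F[X]) : (f.map σ).reverse = f.reverse.map σ := by
  rw [reverse, reverse, natDegree_map, reflect_map]

theorem pdual_pdual (hσ : ∀ x, σ (σ x) = x) (p : F[X]) (hp : p.Monic) (h0 : p.coeff 0 ≠ 0) :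
    pdual σ (pdual σ p) = p := by
  have hc0 : σ (p.coeff 0) ≠ 0 := (map_ne_zero σ).2 h0
  have h1 : (pdual σ p).coeff 0 = (σ (p.coeff 0))⁻¹ := pdual_coeff_zero σ p hp h0
  have h2 : pdual σ (pdual σ p) = C (σ ((pdual σ p).coeff 0))⁻¹ * ((pdual σ p).map σ).reverse :=
    rfl
  rw [h2, h1, map_inv₀ σ, hσ, inv_inv]
  have h3 : (pdual σ p).map σ = C (p.coeff 0)⁻¹ * (p.reverse) := by
    unfold pdual
    rw [Polynomial.map_mul, map_C, map_inv₀ σ, hσ, reverse_map', Polynomial.map_map]
    have : σ.comp σ = RingHom.id F := RingHom.ext hσ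
    rw [this, Polynomial.map_id]
  rw [h3, reverse_C_mul' _ (inv_ne_zero h0), reverse_reverse_of p h0, ← mul_assoc, ← C_mul,
    mul_inv_cancel₀ h0, C_1, one_mul]

theorem pdual_mul (a b : F[X]) : pdual σ (a * b) = pdual σ a * pdual σ b := by
  unfold pdual
  rw [Polynomial.map_mul, reverse_mul_of_domain, mul_coeff_zero, map_mul, mul_inv, C_mul]
  ring

theorem pdual_one : pdual σ (1 : F[X]) = 1 := by
  unfold pdual
  rw [Polynomial.map_one, coeff_one_zero, map_one, inv_one, C_1, one_mul]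
  have : (1 : F[X]) = C 1 := C_1.symm
  rw [this, reverse_C]

/-- a monic irreducible polynomial different from `X` has nonzero constant term -/
theorem coeff_zero_ne_zero (p : F[X]) (hp : p.Monic) (hirr : Irreducible p) (hX : p ≠ X) :
    p.coeff 0 ≠ 0 := by
  intro h0
  have hdvd : X ∣ p := X_dvd_iff.2 h0
  obtain ⟨c, hc⟩ := hdvd
  rcases hirr.isUnit_or_isUnit hc with h | h
  · exact not_isUnit_X h
  · obtain ⟨u, hu0, hu⟩ := (Polynomial.isUnit_iff).1 h
    apply hX
    have h1 : p = C u * X := by rw [hc, ← hu, mul_comm]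
    have h2 : p.leadingCoeff = u := by
      rw [h1, leadingCoeff_mul, leadingCoeff_C, leadingCoeff_X, mul_one]
    rw [hp.leadingCoeff] at h2
    rw [h1, ← h2, C_1, one_mul]

theorem pdual_ne_X (p : F[X]) (hp : p.Monic) (h0 : p.coeff 0 ≠ 0) : pdual σ p ≠ X := by
  intro h
  have h1 := pdual_coeff_zero σ p hp h0
  rw [h, coeff_X_zero] at h1
  exact inv_ne_zero ((map_ne_zero σ).2 h0) h1.symm

theorem pdual_irreducible (hσ : ∀ x, σ (σ x) = x) (p : F[X]) (hp : p.Monic) (h0 : p.coeff 0 ≠ 0)
    (hirr : Irreducible p) : Irreducible (pdual σ p) := by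
  have hd := pdual_natDegree σ p h0
  have hdeg : 0 < p.natDegree := hirr.natDegree_pos
  refine ⟨?_, ?_⟩
  · intro hu
    have := natDegree_eq_zero_of_isUnit hu
    omega
  · intro a b hab
    -- apply `pdual` again
    have h1 : p = pdual σ a * pdual σ b := by
      rw [← pdual_mul, ← hab, pdual_pdual σ hσ p hp h0]
    have ha0 : a.coeff 0 ≠ 0 := by
      intro h
      have : (pdual σ p).coeff 0 = 0 := by rw [hab, mul_coeff_zero, h, zero_mul]
      rw [pdual_coeff_zero σ p hp h0] at this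
      exact inv_ne_zero ((map_ne_zero σ).2 h0) this
    have hb0 : b.coeff 0 ≠ 0 := by
      intro h
      have : (pdual σ p).coeff 0 = 0 := by rw [hab, mul_coeff_zero, h, mul_zero]
      rw [pdual_coeff_zero σ p hp h0] at this
      exact inv_ne_zero ((map_ne_zero σ).2 h0) this
    rcases hirr.isUnit_or_isUnit h1 with h | h
    · left
      have hda : (pdual σ a).natDegree = 0 := natDegree_eq_zero_of_isUnit h
      rw [pdual_natDegree σ a ha0] at hda
      have ha_ne : a ≠ 0 := by
        rintro rfl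
        exact ha0 (coeff_zero 0)
      rw [natDegree_eq_zero] at hda
      obtain ⟨c, rfl⟩ := hda
      have hc : c ≠ 0 := by
        rintro rfl
        exact ha_ne C_0
      exact isUnit_C.2 (isUnit_iff_ne_zero.2 hc)
    · right
      have hdb : (pdual σ b).natDegree = 0 := natDegree_eq_zero_of_isUnit h
      rw [pdual_natDegree σ b hb0] at hdb
      have hb_ne : b ≠ 0 := by
        rintro rfl
        exact hb0 (coeff_zero 0)
      rw [natDegree_eq_zero] at hdb
      obtain ⟨c, rfl⟩ := hdb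
      have hc : c ≠ 0 := by
        rintro rfl
        exact hb_ne C_0
      exact isUnit_C.2 (isUnit_iff_ne_zero.2 hc)

end PDUAL

end Cfsg.Agent.S2481P
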