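import Mathlib
import Cfsg.Agent.Helper7.S2481Defs

/-!
# S2481, Hermitian chapter, piece STBASIC: basic properties of `st`
-/

set_option autoImplicit false

namespace Cfsg.Agent.S2481P

open Polynomial

namespace STBASIC

theorem st_apply {F : Type*} [Field F] (σ : F →+* F) (N : ℕ) (a : F[X]) :
    st σ N a = (a.map σ).comp (X ^ (N - 1)) := rfl

theorem st_C {F : Type*} [Field F] (σ : F →+* F) (N : ℕ) (c : F) : st σ N (C c) = C (σ c) := by
  rw [st_apply, map_C, C_comp]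

theorem st_X {F : Type*} [Field F] (σ : F →+* F) (N : ℕ) : st σ N X = X ^ (N - 1) := by
  rw [st_apply, map_X, X_comp]

/-- `X * st X ≡ 1` -/
theorem X_mul_st_X {F : Type*} [Field F] (σ : F →+* F) (N : ℕ) (hN : 0 < N) :
    (X ^ N - 1 : F[X]) ∣ X * st σ N X - 1 := by
  rw [st_X, ← pow_succ', Nat.sub_add_cancel hN]

/-- `X^N - 1 ∣ a.comp u - a.comp w` when `X^N - 1 ∣ u - w` -/
theorem dvd_comp_sub {F : Type*} [Field F] (m a u w : F[X]) (h : m ∣ u - w) :
    m ∣ a.comp u - a.comp w := by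
  induction a using Polynomial.induction_on' with
  | add a b iha ihb =>
    rw [add_comp, add_comp, add_sub_add_comm]
    exact dvd_add iha ihb
  | monomial k c =>
    rw [monomial_comp, monomial_comp, ← mul_sub]
    exact Dvd.dvd.mul_left (h.trans (sub_dvd_pow_sub_pow u w k)) _

/-- `st` is an involution modulo `X^N - 1` -/
theorem st_st {F : Type*} [Field F] (σ : F →+* F) (hσ : ∀ x, σ (σ x) = x) (N : ℕ) (hN : 0 < N)
    (a : F[X]) : (X ^ N - 1 : F[X]) ∣ st σ N (st σ N a) - a := by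
  have h1 : st σ N (st σ N a) = a.comp ((X ^ (N - 1)) ^ (N - 1)) := by
    rw [st_apply, st_apply, Polynomial.map_comp, Polynomial.map_map, Polynomial.map_pow, map_X,
      comp_assoc, X_pow_comp]
    have : σ.comp σ = RingHom.id F := RingHom.ext hσ
    rw [this, Polynomial.map_id]
  rw [h1]
  have h2 : a.comp ((X ^ (N - 1)) ^ (N - 1)) - a =
      a.comp ((X ^ (N - 1)) ^ (N - 1)) - a.comp X := by rw [comp_X]
  rw [h2]
  apply dvd_comp_sub
  rw [← pow_mul]
  -- (N-1)^2 = N*(N-2) + 1 for N ≥ 1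
  obtain ⟨k, rfl⟩ : ∃ k, N = k + 1 := ⟨N - 1, by omega⟩
  have hk1 : k + 1 - 1 = k := Nat.add_sub_cancel k 1
  rw [hk1]
  rcases k with _ | k
  · rw [Nat.zero_mul, pow_zero, zero_add, pow_one]
    exact ⟨-1, by ring⟩
  · have hk : (k + 1) * (k + 1) = (k + 1 + 1) * k + 1 := by ring
    have h3 : (X : F[X]) ^ ((k + 1) * (k + 1)) - X = (((X : F[X]) ^ (k + 1 + 1)) ^ k - 1) * X := by
      rw [hk, pow_succ, pow_mul]
      ring
    rw [h3]
    refine Dvd.dvd.mul_right ?_ _
    have := sub_dvd_pow_sub_pow ((X : F[X]) ^ (k + 1 + 1)) 1 k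
    rwa [one_pow] at this

/-- `st` preserves the ideal `(X^N - 1)` -/
theorem st_dvd {F : Type*} [Field F] (σ : F →+* F) (N : ℕ) (hN : 0 < N) (a : F[X])
    (h : (X ^ N - 1 : F[X]) ∣ a) : (X ^ N - 1 : F[X]) ∣ st σ N a := by
  obtain ⟨b, rfl⟩ := h
  rw [map_mul]
  refine Dvd.dvd.mul_right ?_ _
  rw [map_sub, map_pow, st_X, map_one, ← pow_mul, mul_comm, pow_mul]
  have := sub_dvd_pow_sub_pow ((X : F[X]) ^ N) 1 (N - 1)
  simpa using this

/-- evaluation of `st a` at an endomorphism -/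
theorem aeval_st {F : Type*} [Field F] (σ : F →+* F) (N : ℕ) {V : Type*} [AddCommGroup V]
    [Module F V] (g : Module.End F V) (a : F[X]) :
    aeval g (st σ N a) = aeval (g ^ (N - 1)) (a.map σ) := by
  rw [st_apply, aeval_comp, map_pow, aeval_X]

/-- if `X^N - 1 ∣ a` and `g^N = 1` then `a(g) = 0` -/
theorem aeval_eq_zero_of_dvd {F : Type*} [Field F] (N : ℕ) {V : Type*} [AddCommGroup V]
    [Module F V] (g : Module.End F V) (hg : g ^ N = 1) (a : F[X]) (h : (X ^ N - 1 : F[X]) ∣ a) :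
    aeval g a = 0 := by
  obtain ⟨b, rfl⟩ := h
  rw [map_mul, map_sub, map_pow, aeval_X, map_one, hg, sub_self, zero_mul]

end STBASIC

end Cfsg.Agent.S2481P
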