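import Mathlib
import Cfsg.Agent.Helper7.S2481Defs
import Cfsg.Agent.Helper7.S2481STBASIC
import Cfsg.Agent.Helper7.S2481PDUAL

/-!
# S2481, Hermitian chapter, piece DUALST: `X^d * st p ≡ σ(p(0)) * pdual p (mod X^N - 1)`
-/

set_option autoImplicit false

namespace Cfsg.Agent.S2481P

open Polynomial

namespace DUALST

/-- `X^N - 1 ∣ X^(k*N) - 1` -/
theorem dvd_pow_mul_sub_one {F : Type*} [Field F] (N k : ℕ) :
    (X ^ N - 1 : F[X]) ∣ X ^ (k * N) - 1 := by
  rw [mul_comm, pow_mul]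
  have := sub_dvd_pow_sub_pow ((X : F[X]) ^ N) 1 k
  rwa [one_pow] at this

theorem reflect_sum' {F : Type*} [Field F] {ι : Type*} (s : Finset ι) (f : ι → F[X]) (D : ℕ) :
    reflect D (∑ k ∈ s, f k) = ∑ k ∈ s, reflect D (f k) := by
  classical
  induction s using Finset.induction_on with
  | empty => simp
  | insert a s ha ih => rw [Finset.sum_insert ha, Finset.sum_insert ha, reflect_add, ih]

/-- the reflected version for an arbitrary degree bound -/
theorem reflect_dvd {F : Type*} [Field F] (N : ℕ) (hN : 0 < N) (D : ℕ) (P : F[X])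
    (hP : P.natDegree ≤ D) :
    (X ^ N - 1 : F[X]) ∣ X ^ D * P.comp (X ^ (N - 1)) - reflect D P := by
  have hsum : P = ∑ k ∈ Finset.range (D + 1), C (P.coeff k) * X ^ k :=
    P.as_sum_range_C_mul_X_pow' (by omega)
  have h1 : X ^ D * P.comp (X ^ (N - 1)) - reflect D P =
      ∑ k ∈ Finset.range (D + 1), C (P.coeff k) *
        (X ^ D * (X ^ (N - 1)) ^ k - X ^ (revAt D k)) := by
    conv_lhs => rw [hsum]
    rw [Polynomial.sum_comp, Finset.mul_sum, reflect_sum', ← Finset.sum_sub_distrib]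
    refine Finset.sum_congr rfl (fun k _ => ?_)
    rw [reflect_C_mul_X_pow, mul_comp, C_comp, X_pow_comp]
    ring
  rw [h1]
  refine Finset.dvd_sum (fun k hk => ?_)
  refine Dvd.dvd.mul_left ?_ _
  have hk' : k ≤ D := by
    have := Finset.mem_range.1 hk
    omega
  rw [revAt_le hk', ← pow_mul, ← pow_add]
  have h2 : D + (N - 1) * k = (D - k) + k * N := by
    obtain ⟨m, rfl⟩ : ∃ m, N = m + 1 := ⟨N - 1, by omega⟩
    have : m + 1 - 1 = m := Nat.add_sub_cancel m 1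
    rw [this]
    have h3 : D = (D - k) + k := by omega
    conv_lhs => rw [h3]
    ring
  rw [h2, pow_add]
  have h4 : (X : F[X]) ^ (D - k) * X ^ (k * N) - X ^ (D - k) = X ^ (D - k) * (X ^ (k * N) - 1) := by
    ring
  rw [h4]
  exact Dvd.dvd.mul_left (dvd_pow_mul_sub_one N k) _

theorem st_pdual {F : Type*} [Field F] (σ : F →+* F) (N : ℕ) (hN : 0 < N) (p : F[X])
    (h0 : p.coeff 0 ≠ 0) :
    (X ^ N - 1 : F[X]) ∣ X ^ p.natDegree * st σ N p - C (σ (p.coeff 0)) * pdual σ p := by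
  have hc : σ (p.coeff 0) ≠ 0 := (map_ne_zero σ).2 h0
  have h1 : C (σ (p.coeff 0)) * pdual σ p = (p.map σ).reverse := by
    unfold pdual
    rw [← mul_assoc, ← C_mul, mul_inv_cancel₀ hc, C_1, one_mul]
  rw [h1, STBASIC.st_apply, reverse, natDegree_map]
  exact reflect_dvd N hN p.natDegree (p.map σ) (by rw [natDegree_map])

/-- consequence: a polynomial `w` with `st p ≡ w * pdual p (mod X^N - 1)` and `w` invertible
modulo `X^N - 1` -/
theorem exists_unit_mul {F : Type*} [Field F] (σ : F →+* F) (N : ℕ) (hN : 0 < N) (p : F[X])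
    (h0 : p.coeff 0 ≠ 0) :
    ∃ w w' : F[X], (X ^ N - 1 : F[X]) ∣ w * w' - 1 ∧
      (X ^ N - 1 : F[X]) ∣ st σ N p - w * pdual σ p := by
  have hc : σ (p.coeff 0) ≠ 0 := (map_ne_zero σ).2 h0
  set d := p.natDegree with hd
  have hdN : d ≤ d * N := Nat.le_mul_of_pos_right d hN
  refine ⟨C (σ (p.coeff 0)) * X ^ (d * N - d), C (σ (p.coeff 0))⁻¹ * X ^ d, ?_, ?_⟩
  · have h1 : C (σ (p.coeff 0)) * X ^ (d * N - d) * (C (σ (p.coeff 0))⁻¹ * X ^ d) - 1 =
        (X : F[X]) ^ (d * N) - 1 := by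
      have h2 : C (σ (p.coeff 0)) * X ^ (d * N - d) * (C (σ (p.coeff 0))⁻¹ * X ^ d) =
          (C (σ (p.coeff 0)) * C (σ (p.coeff 0))⁻¹) * ((X : F[X]) ^ (d * N - d) * X ^ d) := by ring
      rw [h2, ← C_mul, mul_inv_cancel₀ hc, C_1, one_mul, ← pow_add, Nat.sub_add_cancel hdN]
    rw [h1]
    exact dvd_pow_mul_sub_one N d
  · have h1 := st_pdual σ N hN p h0
    have h2 : st σ N p - C (σ (p.coeff 0)) * X ^ (d * N - d) * pdual σ p =
        X ^ (d * N - d) * (X ^ d * st σ N p - C (σ (p.coeff 0)) * pdual σ p) -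
          (X ^ (d * N) - 1) * st σ N p := by
      have h3 : (X : F[X]) ^ (d * N) = X ^ (d * N - d) * X ^ d := by
        rw [← pow_add, Nat.sub_add_cancel hdN]
      rw [h3]
      ring
    rw [h2]
    exact dvd_sub (Dvd.dvd.mul_left h1 _) (Dvd.dvd.mul_right (dvd_pow_mul_sub_one N d) _)

theorem pdual_pow {F : Type*} [Field F] (σ : F →+* F) (p : F[X]) (k : ℕ) :
    pdual σ (p ^ k) = pdual σ p ^ k := by
  induction k with
  | zero => rw [pow_zero, pow_zero, PDUAL.pdual_one]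
  | succ k ih => rw [pow_succ, pow_succ, PDUAL.pdual_mul, ih]

theorem pdual_X_pow_sub_one {F : Type*} [Field F] (σ : F →+* F) (N : ℕ) (hN : 0 < N) :
    pdual σ (X ^ N - 1 : F[X]) = X ^ N - 1 := by
  unfold pdual
  have h1 : (X ^ N - 1 : F[X]).map σ = X ^ N - 1 := by
    rw [Polynomial.map_sub, Polynomial.map_pow, map_X, Polynomial.map_one]
  have h2 : (X ^ N - 1 : F[X]).coeff 0 = -1 := by
    rw [coeff_sub, coeff_X_pow, coeff_one_zero, if_neg (by omega)]
    ring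
  have h3 : (X ^ N - 1 : F[X]).natDegree = N := by
    have := natDegree_X_pow_sub_C (R := F) (n := N) (r := 1)
    rwa [C_1] at this
  rw [h1, h2, reverse, h3, reflect_sub, reflect_monomial, revAt_le le_rfl, Nat.sub_self, pow_zero,
    reflect_one]
  have h4 : (σ (-1) : F)⁻¹ = -1 := by
    rw [map_neg, map_one, inv_neg, inv_one]
  rw [h4]
  simp

/-- if `p ∣ X^N - 1` then `pdual p ∣ X^N - 1` -/
theorem pdual_dvd {F : Type*} [Field F] (σ : F →+* F) (N : ℕ) (hN : 0 < N) (p : F[X])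
    (hp : p.Monic) (h0 : p.coeff 0 ≠ 0) (k : ℕ) (hpN : p ^ k ∣ X ^ N - 1) :
    pdual σ p ^ k ∣ X ^ N - 1 := by
  obtain ⟨m, hm⟩ := hpN
  have := congrArg (pdual σ) hm
  rw [pdual_X_pow_sub_one σ N hN, PDUAL.pdual_mul, pdual_pow] at this
  exact ⟨_, this⟩

/-- if `p ∣ X^N - 1` then `pdual p ^ k ∣ st (p ^ k)` -/
theorem pdual_dvd_st {F : Type*} [Field F] (σ : F →+* F) (N : ℕ) (hN : 0 < N) (p : F[X])
    (hp : p.Monic) (h0 : p.coeff 0 ≠ 0) (k : ℕ) (hpN : p ^ k ∣ X ^ N - 1) :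
    pdual σ p ^ k ∣ st σ N (p ^ k) := by
  rcases Nat.eq_zero_or_pos k with rfl | hk
  · rw [pow_zero]
    exact one_dvd _
  rw [map_pow]
  apply pow_dvd_pow_of_dvd
  have hp1 : p ∣ X ^ N - 1 := (dvd_pow_self p (by omega)).trans hpN
  have hd1 : pdual σ p ∣ X ^ N - 1 := by
    have := pdual_dvd σ N hN p hp h0 1 (by rwa [pow_one])
    rwa [pow_one] at this
  have h1 := st_pdual σ N hN p h0
  have h2 : pdual σ p ∣ X ^ p.natDegree * st σ N p := by
    have h3 : X ^ p.natDegree * st σ N p =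
        (X ^ p.natDegree * st σ N p - C (σ (p.coeff 0)) * pdual σ p) +
          C (σ (p.coeff 0)) * pdual σ p := by ring
    rw [h3]
    exact dvd_add (hd1.trans h1) (Dvd.intro_left _ rfl)
  have hcop : IsCoprime (pdual σ p) (X ^ p.natDegree) := by
    apply IsCoprime.pow_right
    apply IsCoprime.symm
    rw [(irreducible_X (R := F)).coprime_iff_not_dvd]
    rw [X_dvd_iff, PDUAL.pdual_coeff_zero σ p hp h0]
    exact inv_ne_zero ((map_ne_zero σ).2 h0)
  exact hcop.dvd_of_dvd_mul_left h2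

end DUALST

end Cfsg.Agent.S2481P
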