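import Mathlib
import Cfsg.Agent.Helper7.S2481Defs
import Cfsg.Agent.Helper7.S2481STBASIC
import Cfsg.Agent.Helper10.S2481SOCLE
import Cfsg.Agent.Helper21.S2481ADJ

/-!
# S2481, Hermitian chapter, piece FRAMEKER: kernel, independence, nondegeneracy and invariance
for a Hermitian frame
-/

set_option autoImplicit false

namespace Cfsg.Agent.S2481P

open Polynomial
open Cfsg.Agent.Helper2.Herm (cj cj_cj hf_sum_left hf_zero_left)

namespace FRAMEKER

variable {F : Type*} [Field F] [Fintype F] {n q : ℕ}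

/-- the Gram functional of the `i`-th generator is nondegenerate modulo `p i ^ e i` -/
theorem tau_nondeg (hF : Fintype.card F = q ^ 2)
    (g : Module.End F (Fin n → F))
    {ι : Type*} (p : ι → F[X]) (e : ι → ℕ) (dual : ι → ι) (v : ι → (Fin n → F))
    (W : Submodule F (Fin n → F)) (htd : IsTypeData (cj hF) p e dual)
    (hfr : HermFrame n q g W p e dual v) (i : ι) :
    ∀ a, ¬ p i ^ e i ∣ a → ∃ b, gramLin n q g (v i) (v (dual i)) (a * b) ≠ 0 := by
  obtain ⟨c₀, hc₀⟩ := hfr.nondeg i
  refine SOCLE.socle_nondeg (p i) (htd.monic i) (htd.irred i) (e i) (htd.one_le i)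
    (gramLin n q g (v i) (v (dual i))) ?_ c₀ ?_
  · intro a
    rw [gramLin_apply, mul_comm, map_mul, Module.End.mul_apply, hfr.ann i, map_zero]
    exact hf_zero_left _
  · rw [gramLin_apply]
    exact hc₀

theorem frame_ker (hF : Fintype.card F = q ^ 2) (N : ℕ) (hN : 0 < N)
    (g : Module.End F (Fin n → F)) (hg : IsIsom n q g) (hgN : g ^ N = 1)
    {ι : Type*} [Fintype ι] (p : ι → F[X]) (e : ι → ℕ) (dual : ι → ι) (v : ι → (Fin n → F))
    (W : Submodule F (Fin n → F)) (htd : IsTypeData (cj hF) p e dual)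
    (hfr : HermFrame n q g W p e dual v) (i : ι) (a : F[X]) (ha : aeval g a (v i) = 0) :
    p i ^ e i ∣ a := by
  by_contra h
  obtain ⟨b, hb⟩ := tau_nondeg hF g p e dual v W htd hfr i a h
  apply hb
  rw [gramLin_apply, mul_comm, map_mul, Module.End.mul_apply, ha, map_zero]
  exact hf_zero_left _

theorem dual_injective {F : Type*} [Field F] (σ : F →+* F) {ι : Type*} (p : ι → F[X])
    (e : ι → ℕ) (dual : ι → ι) (htd : IsTypeData σ p e dual) : Function.Injective dual := by
  intro i j hij
  have := congrArg dual hij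
  rwa [htd.dual_dual, htd.dual_dual] at this

theorem frame_indep (hF : Fintype.card F = q ^ 2) (N : ℕ) (hN : 0 < N)
    (g : Module.End F (Fin n → F)) (hg : IsIsom n q g) (hgN : g ^ N = 1)
    {ι : Type*} [Fintype ι] (p : ι → F[X]) (e : ι → ℕ) (dual : ι → ι) (v : ι → (Fin n → F))
    (W : Submodule F (Fin n → F)) (htd : IsTypeData (cj hF) p e dual)
    (hfr : HermFrame n q g W p e dual v) (a : ι → F[X])
    (ha : ∀ i, ∀ b : F[X],
      Cfsg.hermForm n F q (∑ j, aeval g (a j) (v j)) (aeval g b (v i)) = 0) :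
    ∀ i, p i ^ e i ∣ a i := by
  classical
  intro i0
  by_contra h
  obtain ⟨b', hb'⟩ := tau_nondeg hF g p e dual v W htd hfr i0 (a i0) h
  apply hb'
  have h1 := ha (dual i0) (st (cj hF) N b')
  rw [hf_sum_left, Finset.sum_eq_single i0] at h1
  · rw [ADJ.adj_both hF N hN g hg hgN] at h1
    have h2 := STBASIC.aeval_eq_zero_of_dvd N g hgN _
      (STBASIC.st_st (cj hF) (cj_cj hF) N hN b')
    rw [map_sub, sub_eq_zero] at h2
    rw [gramLin_apply, mul_comm, map_mul, ← h2, ← map_mul]
    exact h1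
  · intro j _ hj
    refine hfr.orth j (dual i0) ?_ _ _
    intro hd
    exact hj (dual_injective (cj hF) p e dual htd hd).symm
  · intro hni
    exact absurd (Finset.mem_univ i0) hni

theorem frame_mem (g : Module.End F (Fin n → F))
    {ι : Type*} [Fintype ι] (p : ι → F[X]) (e : ι → ℕ) (dual : ι → ι) (v : ι → (Fin n → F))
    (W : Submodule F (Fin n → F)) (hfr : HermFrame n q g W p e dual v) (x : Fin n → F) :
    x ∈ W ↔ ∃ a : ι → F[X], x = ∑ j, aeval g (a j) (v j) := by
  classical
  constructor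
  · intro hx
    rw [← hfr.span] at hx
    induction hx using Submodule.span_induction with
    | mem x hx =>
      obtain ⟨i, a, rfl⟩ := hx
      refine ⟨fun j => if j = i then a else 0, ?_⟩
      rw [Finset.sum_eq_single i]
      · simp
      · intro j _ hj
        simp [hj]
      · intro hni
        exact absurd (Finset.mem_univ i) hni
    | zero =>
      refine ⟨fun _ => 0, ?_⟩
      simp
    | add x y _ _ hx hy =>
      obtain ⟨a, rfl⟩ := hx
      obtain ⟨b, rfl⟩ := hy
      refine ⟨fun j => a j + b j, ?_⟩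
      rw [← Finset.sum_add_distrib]
      refine Finset.sum_congr rfl (fun j _ => ?_)
      rw [map_add, LinearMap.add_apply]
    | smul c x _ hx =>
      obtain ⟨a, rfl⟩ := hx
      refine ⟨fun j => C c * a j, ?_⟩
      rw [Finset.smul_sum]
      refine Finset.sum_congr rfl (fun j _ => ?_)
      rw [map_mul, aeval_C, Module.End.mul_apply]
      rfl
  · rintro ⟨a, rfl⟩
    rw [← hfr.span]
    refine Submodule.sum_mem _ (fun j _ => ?_)
    exact Submodule.subset_span ⟨j, a j, rfl⟩

theorem frame_nondeg (hF : Fintype.card F = q ^ 2) (N : ℕ) (hN : 0 < N)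
    (g : Module.End F (Fin n → F)) (hg : IsIsom n q g) (hgN : g ^ N = 1)
    {ι : Type*} [Fintype ι] (p : ι → F[X]) (e : ι → ℕ) (dual : ι → ι) (v : ι → (Fin n → F))
    (W : Submodule F (Fin n → F)) (htd : IsTypeData (cj hF) p e dual)
    (hfr : HermFrame n q g W p e dual v) : NondegOn n q W := by
  intro x hx hxy
  obtain ⟨a, rfl⟩ := (frame_mem g p e dual v W hfr x).1 hx
  have h1 := frame_indep hF N hN g hg hgN p e dual v W htd hfr a (by
    intro i b
    apply hxy
    rw [← hfr.span]
    exact Submodule.subset_span ⟨i, b, rfl⟩)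
  refine Finset.sum_eq_zero (fun j _ => ?_)
  obtain ⟨m, hm⟩ := h1 j
  rw [hm, mul_comm, map_mul, Module.End.mul_apply, hfr.ann j, map_zero]

theorem frame_inv (g : Module.End F (Fin n → F))
    {ι : Type*} [Fintype ι] (p : ι → F[X]) (e : ι → ℕ) (dual : ι → ι) (v : ι → (Fin n → F))
    (W : Submodule F (Fin n → F)) (hfr : HermFrame n q g W p e dual v) :
    ∀ x ∈ W, g x ∈ W := by
  intro x hx
  obtain ⟨a, rfl⟩ := (frame_mem g p e dual v W hfr x).1 hx
  rw [map_sum]
  rw [← hfr.span]
  refine Submodule.sum_mem _ (fun j _ => ?_)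
  refine Submodule.subset_span ⟨j, X * a j, ?_⟩
  rw [map_mul, aeval_X, Module.End.mul_apply]

end FRAMEKER

end Cfsg.Agent.S2481P
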