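import Mathlib
import Cfsg.Agent.Helper7.S2481Defs

/-!
# S2481, Hermitian chapter, piece CONJLIN (reduced): adjusting the generators of a frame by units
keeps the spanning property
-/

set_option autoImplicit false

namespace Cfsg.Agent.S2481P

open Polynomial
open Cfsg.Agent.Helper2.Herm (cj)

namespace CONJLIN

variable {F : Type*} [Field F] [Fintype F] {n q : ℕ}

/-- the family `y i (g) (v i)` still spans when the `y i` are units modulo `p i` -/
theorem span_adjust (hF : Fintype.card F = q ^ 2)
    (g : Module.End F (Fin n → F))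
    {ι : Type*} [Fintype ι] (p : ι → F[X]) (e : ι → ℕ) (dual : ι → ι)
    (v : ι → (Fin n → F)) (htd : IsTypeData (cj hF) p e dual)
    (hfr : HermFrame n q g ⊤ p e dual v) (y : ι → F[X]) (hy : ∀ i, ¬ p i ∣ y i) :
    Submodule.span F {x | ∃ i, ∃ a : F[X], x = aeval g a (aeval g (y i) (v i))} = ⊤ := by
  rw [eq_top_iff, ← hfr.span, Submodule.span_le]
  rintro x ⟨i, a, rfl⟩
  have hcop : IsCoprime (y i) (p i ^ e i) := by
    apply IsCoprime.pow_right
    apply IsCoprime.symm
    exact ((htd.irred i).coprime_iff_not_dvd).2 (hy i)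
  obtain ⟨a', b', hab⟩ := hcop
  have h1 : aeval g a (v i) = aeval g (a * a') (aeval g (y i) (v i)) := by
    have h2 : aeval g (a * (a' * y i + b' * p i ^ e i)) (v i) = aeval g a (v i) := by
      rw [hab, mul_one]
    rw [← h2, mul_add, map_add, LinearMap.add_apply]
    have h3 : aeval g (a * (b' * p i ^ e i)) (v i) = 0 := by
      rw [← mul_assoc, map_mul, Module.End.mul_apply, hfr.ann i, map_zero]
    rw [h3, add_zero, ← mul_assoc, map_mul, Module.End.mul_apply]
  rw [h1]
  exact Submodule.subset_span ⟨i, a * a', rfl⟩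

end CONJLIN

end Cfsg.Agent.S2481P
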