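import Mathlib
import Cfsg.Agent.Helper7.S2481Defs
import Cfsg.Agent.Helper14.SLk.Defs
import Cfsg.Agent.Helper16.S2479DETSUM
import Cfsg.Agent.Helper25.S2481EXT
import Cfsg.Agent.Helper4.S2481DIRECT
import Cfsg.Agent.Helper21.S2481ADJ
import Cfsg.Agent.Helper7.S2481CONJLIN

/-!
# S2481, Hermitian chapter, piece CENTZ

Multiplying the generators of a frame by unitary polynomials gives an isometry commuting with `g`
whose determinant is the product of the block determinants.
-/

set_option autoImplicit false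

namespace Cfsg.Agent.S2481P

open Polynomial DirectSum
open Cfsg.Agent.Helper2.Herm (cj cj_cj)
open Cfsg.Agent.S2479P (mulDet det_mapRange)

universe u

namespace CENTZ

variable {F : Type u} [Field F] [Fintype F] {n q : ℕ}

/-- a linear map commuting with `g` commutes with polynomials in `g` -/
theorem comm_aeval (g : Module.End F (Fin n → F)) (z : Module.End F (Fin n → F))
    (hz : ∀ x, z (g x) = g (z x)) (a : F[X]) : ∀ x, z (aeval g a x) = aeval g a (z x) := by
  induction a using Polynomial.induction_on with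
  | C c =>
    intro x
    rw [aeval_C]
    exact map_smul z c x
  | add a b iha ihb =>
    intro x
    rw [map_add, LinearMap.add_apply, LinearMap.add_apply, map_add, iha, ihb]
  | monomial k c ih =>
    intro x
    have h1 : C c * X ^ (k + 1) = X * (C c * X ^ k) := by ring
    rw [h1, map_mul, aeval_X, Module.End.mul_apply, Module.End.mul_apply, hz, ih]

theorem exists_z (hF : Fintype.card F = q ^ 2) (N : ℕ) (hN : 0 < N)
    (g : Module.End F (Fin n → F)) (hg : IsIsom n q g) (hgN : g ^ N = 1)
    {ι : Type u} [Fintype ι] [DecidableEq ι] (p : ι → F[X]) (e : ι → ℕ) (dual : ι → ι)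
    (v : ι → (Fin n → F)) (htd : IsTypeData (cj hF) p e dual)
    (hfr : HermFrame n q g ⊤ p e dual v) (f : ι → F[X])
    (hf : ∀ i, p i ^ e i ∣ st (cj hF) N (f (dual i)) * f i - 1) :
    ∃ z : (Fin n → F) ≃ₗ[F] (Fin n → F),
      (∀ x y, Cfsg.hermForm n F q (z x) (z y) = Cfsg.hermForm n F q x y) ∧
      (∀ x, z (g x) = g (z x)) ∧
      LinearMap.det (z : (Fin n → F) →ₗ[F] (Fin n → F)) = ∏ i, mulDet (p i ^ e i) (f i) := by
  -- the `f i` are units modulo `p i`
  have hfu : ∀ i, ¬ p i ∣ f i := by
    intro i hdvd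
    have h1 : p i ∣ st (cj hF) N (f (dual i)) * f i - 1 :=
      (dvd_pow_self (p i) (by have := htd.one_le i; omega)).trans (hf i)
    have h2 : p i ∣ 1 := by
      have h3 : (1 : F[X]) = st (cj hF) N (f (dual i)) * f i -
          (st (cj hF) N (f (dual i)) * f i - 1) := by ring
      rw [h3]
      exact dvd_sub (Dvd.dvd.mul_left hdvd _) h1
    exact (htd.irred i).not_isUnit (isUnit_of_dvd_one h2)
  have hspan' := CONJLIN.span_adjust hF g p e dual v htd hfr f hfu
  have hcomp : ∀ i (a : F[X]), aeval g a (aeval g (f i) (v i)) = aeval g (a * f i) (v i) := by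
    intro i a
    rw [map_mul, Module.End.mul_apply]
  have hgram : ∀ i j (a b : F[X]),
      Cfsg.hermForm n F q (aeval g a (v i)) (aeval g b (v j)) =
        Cfsg.hermForm n F q (aeval g a (aeval g (f i) (v i)))
          (aeval g b (aeval g (f j) (v j))) := by
    intro i j a b
    rw [hcomp, hcomp]
    by_cases hj : j = dual i
    · subst hj
      rw [ADJ.adj_both hF N hN g hg hgN, ADJ.adj_both hF N hN g hg hgN]
      obtain ⟨m, hm⟩ := hf i
      have h1 : st (cj hF) N (b * f (dual i)) * (a * f i) =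
          st (cj hF) N b * a + st (cj hF) N b * a * m * p i ^ e i := by
        rw [map_mul]
        have : st (cj hF) N (f (dual i)) * f i = 1 + p i ^ e i * m := by
          rw [← hm]; ring
        calc st (cj hF) N b * st (cj hF) N (f (dual i)) * (a * f i)
            = st (cj hF) N b * a * (st (cj hF) N (f (dual i)) * f i) := by ring
          _ = _ := by rw [this]; ring
      rw [h1, map_add, LinearMap.add_apply]
      have h2 : aeval g (st (cj hF) N b * a * m * p i ^ e i) (v i) = 0 := by
        rw [map_mul, Module.End.mul_apply, hfr.ann i, map_zero]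
      rw [h2, add_zero]
    · rw [hfr.orth i j hj, hfr.orth i j hj]
  obtain ⟨S, hS, hSg, hSv⟩ := EXT.exists_isometry hF g g v
    (fun i => aeval g (f i) (v i)) hfr.span hspan' hgram
  refine ⟨S, hS, hSg, ?_⟩
  -- the determinant
  obtain ⟨-, Φ, hΦ⟩ := DIRECT.frame_decomp hF N hN g hg hgN p e dual v htd hfr
  have hmonic : ∀ i, (p i ^ e i).Monic := fun i => (htd.monic i).pow (e i)
  have hfin : ∀ i, Module.Finite F (F[X] ⧸ Submodule.span F[X] {p i ^ e i}) :=
    fun i => (hmonic i).finite_adjoinRoot
  have hfree : ∀ i, Module.Free F (F[X] ⧸ Submodule.span F[X] {p i ^ e i}) :=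
    fun i => Module.Free.of_divisionRing F _
  let ψF : (⨁ i, F[X] ⧸ Submodule.span F[X] {p i ^ e i}) →ₗ[F]
      ⨁ i, F[X] ⧸ Submodule.span F[X] {p i ^ e i} :=
    DFinsupp.mapRange.linearMap
      (fun i => (LinearMap.lsmul F[X] (F[X] ⧸ Submodule.span F[X] {p i ^ e i})
        (f i)).restrictScalars F)
  -- the `F`-linear equivalence `V ≃ ⨁`
  let Θ : (Fin n → F) ≃ₗ[F] ⨁ i, F[X] ⧸ Submodule.span F[X] {p i ^ e i} :=
    (Module.AEval'.of g).trans (Φ.restrictScalars F)
  have hΘ : ∀ i (a : F[X]), Θ (aeval g a (v i)) =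
      DirectSum.lof F[X] ι (fun i => F[X] ⧸ Submodule.span F[X] {p i ^ e i}) i
        (Submodule.Quotient.mk a) := fun i a => hΦ i a
  have hconj : ∀ x, Θ (S x) = ψF (Θ x) := by
    intro x
    have hx : x ∈ (⊤ : Submodule F (Fin n → F)) := Submodule.mem_top
    rw [← hfr.span] at hx
    induction hx using Submodule.span_induction with
    | mem x hx =>
      obtain ⟨i, a, rfl⟩ := hx
      have h0 : S (aeval g a (v i)) = aeval g a (S (v i)) :=
        comm_aeval g S.toLinearMap hSg a (v i)
      have h1 : S (aeval g a (v i)) = aeval g (a * f i) (v i) := by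
        rw [h0, hSv i, hcomp]
      rw [h1, hΘ, hΘ]
      have hlof : ∀ (i : ι) (x : F[X] ⧸ Submodule.span F[X] {p i ^ e i}),
          DirectSum.lof F[X] ι (fun i => F[X] ⧸ Submodule.span F[X] {p i ^ e i}) i x =
            DFinsupp.single i x := fun i x => rfl
      rw [hlof, hlof]
      show _ = DFinsupp.mapRange.linearMap _ (DFinsupp.single i _)
      rw [DFinsupp.mapRange.linearMap_apply, DFinsupp.mapRange_single]
      congr 1
      show _ = f i • (Submodule.Quotient.mk a : F[X] ⧸ Submodule.span F[X] {p i ^ e i})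
      rw [← Submodule.Quotient.mk_smul, smul_eq_mul, mul_comm]
    | zero => simp
    | add x y _ _ hx hy =>
      rw [map_add S, map_add Θ, map_add Θ, hx, hy]
      exact (ψF.map_add _ _).symm
    | smul c x _ hx =>
      rw [map_smul S, map_smul Θ, map_smul Θ, hx]
      exact (ψF.map_smul _ _).symm
  have hdet : LinearMap.det (S : (Fin n → F) →ₗ[F] (Fin n → F)) =
      LinearMap.det (M := ⨁ i, F[X] ⧸ Submodule.span F[X] {p i ^ e i}) ψF := by
    have h1 : (S : (Fin n → F) →ₗ[F] (Fin n → F)) =
        (Θ.symm : _ →ₗ[F] _) ∘ₗ ψF ∘ₗ (Θ : _ →ₗ[F] _) := by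
      refine LinearMap.ext (fun x => ?_)
      show S x = Θ.symm (ψF (Θ x))
      rw [← hconj, LinearEquiv.symm_apply_apply]
    rw [h1]
    have := LinearMap.det_conj (M := ⨁ i, F[X] ⧸ Submodule.span F[X] {p i ^ e i}) ψF Θ.symm
    rw [← this]
    rfl
  rw [hdet]
  exact det_mapRange (R := F) (fun i => F[X] ⧸ Submodule.span F[X] {p i ^ e i})
    (fun i => (LinearMap.lsmul F[X] (F[X] ⧸ Submodule.span F[X] {p i ^ e i})
      (f i)).restrictScalars F)

end CENTZ

end Cfsg.Agent.S2481P
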