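import Mathlib
import Cfsg.Agent.Helper7.S2481Defs
import Cfsg.Agent.Helper26.S2481CENTF
import Cfsg.Agent.Helper7.S2481CENTZ
import Cfsg.Agent.Helper21.S2481GUISOM
import Cfsg.Agent.Helper7.S2481FRAMEKER

/-!
# S2481, Hermitian chapter, piece CENT (assembly)

Elements of the centralizer in `GU` with prescribed determinant.
-/

set_option autoImplicit false

namespace Cfsg.Agent.S2481P

open Polynomial DirectSum
open Cfsg.Agent.Helper2.Herm (cj)

universe u

namespace CENT

variable {F : Type u} [Field F] [Fintype F] {n q : ℕ}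

theorem exists_centralizing_unitary (hF : Fintype.card F = q ^ 2)
    (g : Matrix.GeneralLinearGroup (Fin n) F) (hg : g ∈ Cfsg.GU n F q)
    {ι : Type u} [Fintype ι] (p : ι → F[X]) (e : ι → ℕ) (dual : ι → ι)
    (v : ι → (Fin n → F)) (htd : IsTypeData (cj hF) p e dual)
    (hfr : HermFrame n q (Matrix.toLin' (g : Matrix (Fin n) (Fin n) F)) ⊤ p e dual v)
    (i0 : ι) (c : Fˣ) (hc : c ^ (q + 1) = 1) :
    ∃ z : Matrix.GeneralLinearGroup (Fin n) F, z ∈ Cfsg.GU n F q ∧ Commute z g ∧
      Matrix.GeneralLinearGroup.det z = c ^ e i0 := by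
  classical
  set gl := Matrix.toLin' (g : Matrix (Fin n) (Fin n) F) with hgl
  set N := Nat.card (Matrix.GeneralLinearGroup (Fin n) F) with hNdef
  have hN : 0 < N := GUISOM.card_GL_pos
  have hiso : IsIsom n q gl := (GUISOM.mem_GU_iff g).1 hg
  have hgN : gl ^ N = 1 := GUISOM.toLin'_pow_card g
  have hpN : ∀ i, p i ^ e i ∣ X ^ N - 1 := by
    intro i
    refine FRAMEKER.frame_ker hF N hN gl hiso hgN p e dual v ⊤ htd hfr i _ ?_
    rw [map_sub, map_pow, aeval_X, map_one, hgN, sub_self]
    rfl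
  have hc' : (c : F) ^ (q + 1) = 1 := by
    have := congrArg Units.val hc
    simpa using this
  obtain ⟨f, hf, hprod⟩ := CENTF.exists_f hF N hN p e dual htd hpN i0 (c : F) hc'
  obtain ⟨z, hziso, hzg, hzdet⟩ := CENTZ.exists_z hF N hN gl hiso hgN p e dual v htd hfr f hf
  obtain ⟨zz, hzz, hzzS⟩ := GUISOM.exists_GU_of_isometry z hziso
  refine ⟨zz, hzz, ?_, ?_⟩
  · have hmat : (zz : Matrix (Fin n) (Fin n) F) * (g : Matrix (Fin n) (Fin n) F) =
        (g : Matrix (Fin n) (Fin n) F) * (zz : Matrix (Fin n) (Fin n) F) := by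
      apply Matrix.toLin'.injective
      rw [Matrix.toLin'_mul, Matrix.toLin'_mul, hzzS]
      refine LinearMap.ext (fun w => ?_)
      simp only [LinearMap.comp_apply, LinearEquiv.coe_coe]
      exact hzg w
    show zz * g = g * zz
    apply Units.ext
    exact hmat
  · apply Units.ext
    rw [Matrix.GeneralLinearGroup.val_det_apply, ← LinearMap.det_toLin', hzzS, hzdet, hprod]
    simp

end CENT

end Cfsg.Agent.S2481P
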