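import Mathlib
import Cfsg.Agent.Helper7.S2481Defs
import Cfsg.Agent.Helper7.S2481PDUAL
import Cfsg.Agent.Helper10.S2481MAXEXP
import Cfsg.Agent.Helper21.S2481NONISO
import Cfsg.Agent.Helper21.S2481HYPPAIR
import Cfsg.Agent.Helper21.S2481BLOCKA
import Cfsg.Agent.Helper21.S2481BLOCKB

/-!
# S2481, Hermitian chapter, piece BLOCK (assembly)

A nonzero invariant nondegenerate subspace contains a block (a one-vector frame in the self-dual
case, a hyperbolic pair otherwise).
-/

set_option autoImplicit false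

namespace Cfsg.Agent.S2481P

open Polynomial
open Cfsg.Agent.Helper2.Herm (cj cj_cj)

universe u

namespace BLOCK

variable {F : Type u} [Field F] [Fintype F] {n q : ℕ}

/-- an invariant subspace is invariant under polynomials in `g` -/
theorem aeval_mem (g : Module.End F (Fin n → F)) (W : Submodule F (Fin n → F))
    (hinv : ∀ x ∈ W, g x ∈ W) (a : F[X]) : ∀ x ∈ W, aeval g a x ∈ W := by
  induction a using Polynomial.induction_on with
  | C c =>
    intro x hx
    rw [aeval_C]
    exact W.smul_mem c hx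
  | add a b iha ihb =>
    intro x hx
    rw [map_add]
    exact W.add_mem (iha x hx) (ihb x hx)
  | monomial k c ih =>
    intro x hx
    have : aeval g (C c * X ^ (k + 1)) x = g (aeval g (C c * X ^ k) x) := by
      have h1 : C c * X ^ (k + 1) = X * (C c * X ^ k) := by ring
      rw [h1, map_mul, aeval_X]
      rfl
    rw [this]
    exact hinv _ (ih x hx)

theorem exists_block (hF : Fintype.card F = q ^ 2) (N : ℕ) (hN : 0 < N)
    (g : Module.End F (Fin n → F)) (hg : IsIsom n q g) (hgN : g ^ N = 1)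
    (W : Submodule F (Fin n → F)) (hW : W ≠ ⊥) (hinv : ∀ x ∈ W, g x ∈ W)
    (hnd : NondegOn n q W) :
    ∃ (ι : Type u) (_ : Fintype ι) (p : ι → F[X]) (e : ι → ℕ) (dual : ι → ι)
      (v : ι → (Fin n → F)) (W₁ : Submodule F (Fin n → F)),
      Nonempty ι ∧ W₁ ≤ W ∧ IsTypeData (cj hF) p e dual ∧ HermFrame n q g W₁ p e dual v := by
  obtain ⟨p, e, hp, hirr, hpX, he, hu, hmax⟩ :=
    MAXEXP.exists_max_exponent N hN g hgN W hW hinv
  have hp0 : p.coeff 0 ≠ 0 := PDUAL.coeff_zero_ne_zero p hp hirr hpX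
  by_cases hsd : pdual (cj hF) p = p
  · obtain ⟨v, hvW, hv, hv'⟩ := NONISO.exists_nonisotropic hF N hN g hg hgN W hinv hnd p hp hirr
      hpX hsd e he hu (fun x hx k => hmax p hp hirr x hx k)
    obtain ⟨htd, hfr⟩ := BLOCKA.frame_of_nonisotropic hF g p hp hirr hpX hsd e he v hv hv'
    refine ⟨PUnit.{u+1}, inferInstance, _, _, _, _, _, ⟨PUnit.unit⟩, ?_, htd, hfr⟩
    rw [Submodule.span_le]
    rintro x ⟨a, rfl⟩
    exact aeval_mem g W hinv a v hvW
  · have hdm : (pdual (cj hF) p).Monic := PDUAL.pdual_monic (cj hF) p hp hp0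
    have hdi : Irreducible (pdual (cj hF) p) :=
      PDUAL.pdual_irreducible (cj hF) (cj_cj hF) p hp hp0 hirr
    obtain ⟨u, huW, v, hvW, hu', hv', huv⟩ := HYPPAIR.exists_hyp_pair hF N hN g hg hgN W hinv hnd
      p hp hirr hpX e he hu (fun x hx k => hmax _ hdm hdi x hx k)
    obtain ⟨htd, hfr⟩ := BLOCKB.frame_of_hyp_pair hF N hN g hg hgN p hp hirr hpX hsd e he u v
      hu' hv' huv
    refine ⟨ULift.{u} Bool, inferInstance, _, _, _, _, _, ⟨⟨true⟩⟩, ?_, htd, hfr⟩
    refine sup_le ?_ ?_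
    · rw [Submodule.span_le]
      rintro x ⟨a, rfl⟩
      exact aeval_mem g W hinv a u huW
    · rw [Submodule.span_le]
      rintro x ⟨a, rfl⟩
      exact aeval_mem g W hinv a v hvW

end BLOCK

end Cfsg.Agent.S2481P
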