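import Mathlib
import Cfsg.Agent.Helper7.S2481Defs
import Cfsg.Agent.Helper25.S2481COMPL
import Cfsg.Agent.Helper21.S2481GLUE
import Cfsg.Agent.Helper7.S2481FRAMEKER
import Cfsg.Agent.Helper7.S2481BLOCK

/-!
# S2481, Hermitian chapter, piece FRAMEIND (assembly)

Every isometry of finite order has a Hermitian frame on the whole space: grow a frame by
splitting off blocks from the orthogonal complement.
-/

set_option autoImplicit false

namespace Cfsg.Agent.S2481P

open Polynomial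
open Cfsg.Agent.Helper2.Herm (cj cj_cj hf_symm)

universe u

namespace FRAMEIND

variable {F : Type u} [Field F] [Fintype F] {n q : ℕ}

/-- the empty frame on the zero subspace -/
theorem empty_frame (hF : Fintype.card F = q ^ 2) (g : Module.End F (Fin n → F)) :
    IsTypeData (cj hF) (fun i : PEmpty.{u+1} => i.elim) (fun i => i.elim) (fun i => i) ∧
    HermFrame n q g ⊥ (fun i : PEmpty.{u+1} => i.elim) (fun i => i.elim) (fun i => i)
      (fun i => i.elim) := by
  refine ⟨⟨fun i => i.elim, fun i => i.elim, fun i => i.elim, fun i => i.elim, fun i => i.elim,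
    fun i => i.elim, fun i => i.elim, fun i => i.elim⟩,
    ⟨fun i => i.elim, fun i => i.elim, fun i => i.elim, ?_⟩⟩
  rw [Submodule.span_eq_bot]
  rintro x ⟨i, _⟩
  exact i.elim

/-- one growth step -/
theorem step (hF : Fintype.card F = q ^ 2) (N : ℕ) (hN : 0 < N)
    (g : Module.End F (Fin n → F)) (hg : IsIsom n q g) (hgN : g ^ N = 1)
    {ι : Type u} [Fintype ι] (p : ι → F[X]) (e : ι → ℕ) (dual : ι → ι)
    (v : ι → (Fin n → F)) (W₁ : Submodule F (Fin n → F))
    (htd : IsTypeData (cj hF) p e dual) (hfr : HermFrame n q g W₁ p e dual v) (hne : W₁ ≠ ⊤) :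
    ∃ (ι' : Type u) (_ : Fintype ι') (p' : ι' → F[X]) (e' : ι' → ℕ) (dual' : ι' → ι')
      (v' : ι' → (Fin n → F)) (W₁' : Submodule F (Fin n → F)),
      IsTypeData (cj hF) p' e' dual' ∧ HermFrame n q g W₁' p' e' dual' v' ∧ W₁ < W₁' := by
  have hnd₁ : NondegOn n q W₁ := FRAMEKER.frame_nondeg hF N hN g hg hgN p e dual v W₁ htd hfr
  have hinv₁ : ∀ x ∈ W₁, g x ∈ W₁ := FRAMEKER.frame_inv g p e dual v W₁ hfr
  obtain ⟨W₂, hW₂, hsup, hinf, hnd₂⟩ := COMPL.exists_compl hF W₁ hnd₁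
  have hinv₂ : ∀ x ∈ W₂, g x ∈ W₂ := COMPL.compl_invariant hF N hN g hg hgN W₁ W₂ hinv₁ hW₂
  have hW₂ne : W₂ ≠ ⊥ := by
    intro h
    rw [h, sup_bot_eq] at hsup
    exact hne hsup
  obtain ⟨ιb, fb, pb, eb, dualb, vb, Wb, hneb, hWb, htdb, hfrb⟩ :=
    BLOCK.exists_block hF N hN g hg hgN W₂ hW₂ne hinv₂ hnd₂
  have horth : ∀ x ∈ W₁, ∀ y ∈ Wb, Cfsg.hermForm n F q x y = 0 := by
    intro x hx y hy
    have h1 := (hW₂ y).1 (hWb hy) x hx
    rw [← hf_symm hF, h1, map_zero]
  obtain ⟨htd', hfr'⟩ := GLUE.glue hF g p e dual v W₁ pb eb dualb vb Wb htd htdb hfr hfrb horth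
  refine ⟨ι ⊕ ιb, inferInstance, _, _, _, _, _, htd', hfr', ?_⟩
  -- strictness
  obtain ⟨i⟩ := hneb
  obtain ⟨c, hc⟩ := hfrb.nondeg i
  have hvi : vb i ∈ Wb := by
    rw [← hfrb.span]
    refine Submodule.subset_span ⟨i, 1, ?_⟩
    simp
  have hvi0 : vb i ≠ 0 := by
    intro h0
    apply hc
    rw [h0, map_zero]
    exact Cfsg.Agent.Helper2.Herm.hf_zero_left _
  refine lt_of_le_of_ne le_sup_left ?_
  intro heq
  have h1 : vb i ∈ W₁ := by
    rw [heq]
    exact Submodule.mem_sup_right hvi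
  have h2 : vb i ∈ W₁ ⊓ W₂ := ⟨h1, hWb hvi⟩
  rw [hinf] at h2
  exact hvi0 ((Submodule.mem_bot F).1 h2)

theorem aux (hF : Fintype.card F = q ^ 2) (N : ℕ) (hN : 0 < N)
    (g : Module.End F (Fin n → F)) (hg : IsIsom n q g) (hgN : g ^ N = 1) :
    ∀ k : ℕ, ∀ (ι : Type u) (_ : Fintype ι) (p : ι → F[X]) (e : ι → ℕ) (dual : ι → ι)
      (v : ι → (Fin n → F)) (W₁ : Submodule F (Fin n → F)),
      IsTypeData (cj hF) p e dual → HermFrame n q g W₁ p e dual v →
      Module.finrank F W₁ + k = n →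
      ∃ (ι : Type u) (_ : Fintype ι) (p : ι → F[X]) (e : ι → ℕ) (dual : ι → ι)
        (v : ι → (Fin n → F)),
        IsTypeData (cj hF) p e dual ∧ HermFrame n q g ⊤ p e dual v := by
  intro k
  induction k using Nat.strong_induction_on with
  | _ k ih =>
    intro ι fι p e dual v W₁ htd hfr hk
    by_cases htop : W₁ = ⊤
    · subst htop
      exact ⟨ι, fι, p, e, dual, v, htd, hfr⟩
    · obtain ⟨ι', fι', p', e', dual', v', W₁', htd', hfr', hlt⟩ :=
        step hF N hN g hg hgN p e dual v W₁ htd hfr htop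
      have h1 : Module.finrank F W₁ < Module.finrank F W₁' :=
        Submodule.finrank_lt_finrank_of_lt hlt
      have h2 : Module.finrank F W₁' ≤ n := by
        have := Submodule.finrank_le W₁'
        simpa using this
      exact ih (n - Module.finrank F W₁') (by omega) ι' fι' p' e' dual' v' W₁' htd' hfr'
        (by omega)

theorem exists_frame (hF : Fintype.card F = q ^ 2) (N : ℕ) (hN : 0 < N)
    (g : Module.End F (Fin n → F)) (hg : IsIsom n q g) (hgN : g ^ N = 1) :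
    ∃ (ι : Type u) (_ : Fintype ι) (p : ι → F[X]) (e : ι → ℕ) (dual : ι → ι)
      (v : ι → (Fin n → F)),
      IsTypeData (cj hF) p e dual ∧ HermFrame n q g ⊤ p e dual v := by
  obtain ⟨htd, hfr⟩ := empty_frame hF g
  refine aux hF N hN g hg hgN n PEmpty.{u+1} inferInstance _ _ _ _ ⊥ htd hfr ?_
  simp

end FRAMEIND

end Cfsg.Agent.S2481P
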