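import Mathlib
import Cfsg.Agent.Helper7.S2481Defs
import Cfsg.Agent.Helper4.S2481DIRECT
import Cfsg.Agent.Helper21.S2481GUISOM
import Cfsg.Agent.Helper7.S2481FRAMEIND

/-!
# S2481, Hermitian chapter, piece DECOMP (assembly): the group-level decomposition theorem
-/

set_option autoImplicit false

namespace Cfsg.Agent.S2481P

open Polynomial DirectSum
open Cfsg.Agent.Helper2.Herm (cj)

universe u

namespace DECOMP

variable {F : Type u} [Field F] [Fintype F] {n q : ℕ}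

theorem exists_herm_decomp (hF : Fintype.card F = q ^ 2)
    (g : Matrix.GeneralLinearGroup (Fin n) F) (hg : g ∈ Cfsg.GU n F q) :
    ∃ (ι : Type u) (_ : Fintype ι) (p : ι → F[X]) (e : ι → ℕ) (dual : ι → ι)
      (v : ι → (Fin n → F)),
      IsTypeData (cj hF) p e dual ∧
      HermFrame n q (Matrix.toLin' (g : Matrix (Fin n) (Fin n) F)) ⊤ p e dual v ∧
      ∑ i, e i * (p i).natDegree = n ∧
      Nonempty (Module.AEval' (Matrix.toLin' (g : Matrix (Fin n) (Fin n) F)) ≃ₗ[F[X]]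
        ⨁ i, F[X] ⧸ Submodule.span F[X] {p i ^ e i}) := by
  classical
  have hiso := (GUISOM.mem_GU_iff g).1 hg
  obtain ⟨ι, fι, p, e, dual, v, htd, hfr⟩ :=
    FRAMEIND.exists_frame hF _ GUISOM.card_GL_pos _ hiso (GUISOM.toLin'_pow_card g)
  obtain ⟨hsum, Φ, -⟩ :=
    DIRECT.frame_decomp hF _ GUISOM.card_GL_pos _ hiso (GUISOM.toLin'_pow_card g) p e dual v
      htd hfr
  exact ⟨ι, fι, p, e, dual, v, htd, hfr, hsum, ⟨Φ⟩⟩

end DECOMP

end Cfsg.Agent.S2481P
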