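import Mathlib
import Cfsg.Agent.Helper7.S2481Defs
import Cfsg.Agent.Helper7.S2481PDUAL

/-!
# S2481, Hermitian chapter, piece SDTUPLE: the tuple of a Hermitian decomposition is self-dual
-/

set_option autoImplicit false

namespace Cfsg.Agent.S2481P

open Polynomial

namespace SDTUPLE

theorem pdual_prod {F : Type*} [Field F] (σ : F →+* F) {ι : Type*} (s : Finset ι)
    (f : ι → F[X]) : pdual σ (∏ i ∈ s, f i) = ∏ i ∈ s, pdual σ (f i) := by
  classical
  induction s using Finset.induction_on with
  | empty => rw [Finset.prod_empty, Finset.prod_empty, PDUAL.pdual_one]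
  | insert a s ha ih =>
    rw [Finset.prod_insert ha, Finset.prod_insert ha, PDUAL.pdual_mul, ih]

theorem prod_selfdual {F : Type*} [Field F] (σ : F →+* F) (hσ : ∀ x, σ (σ x) = x)
    {ι : Type*} [Fintype ι] (p : ι → F[X]) (e : ι → ℕ) (dual : ι → ι)
    (htd : IsTypeData σ p e dual) (m : ℕ) :
    pdual σ (∏ i with e i = m, p i) = ∏ i with e i = m, p i := by
  rw [pdual_prod]
  refine Finset.prod_bij (fun i _ => dual i) ?_ ?_ ?_ ?_
  · intro i hi
    rw [Finset.mem_filter] at hi ⊢
    exact ⟨Finset.mem_univ _, by rw [htd.e_dual]; exact hi.2⟩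
  · intro i _ j _ hij
    have := congrArg dual hij
    rwa [htd.dual_dual, htd.dual_dual] at this
  · intro j hj
    rw [Finset.mem_filter] at hj
    refine ⟨dual j, ?_, htd.dual_dual j⟩
    rw [Finset.mem_filter]
    exact ⟨Finset.mem_univ _, by rw [htd.e_dual]; exact hj.2⟩
  · intro i _
    exact (htd.p_dual i).symm

end SDTUPLE

end Cfsg.Agent.S2481P
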