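import Mathlib
import Cfsg.Prelude.Def_LocalStructure
import Cfsg.Agent.Helper14.Conj
import Cfsg.Agent.Helper14.PCore

/-!
# S2863 (MSS: non-`p`-elements of `L ∈ 𝔏_G(Y_M)` act fixed-point-freely on `O_p(L)/C_{Y_M}(L)`): definitions (board `s2863pieces`)

Blueprint: `departures/helper7_S2863_blueprint.md`.  Everything is internal to an ambient finite group `G`;
`L, Y, A, C` are subgroups (`A = O_p(L)`, `C = Y ∩ C_G(L)`).

* `cjs g Z = Z.map (cj g)` : the conjugate `g Z g⁻¹`.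
* `Fixes C g a` : `g a g⁻¹ a⁻¹ ∈ C` ("`g` fixes `a` modulo `C`").
* `FHyp p L Y A C` : what `IsInFrakL` gives, in ambient form.
* `QMap L A π` : `π : ↥L →* X` is surjective with kernel `A` (so `X ≅ L/A`); `im π Z` the image of `Z ⊓ L`.
-/

set_option autoImplicit false

namespace Cfsg.Agent.S2863P

open Cfsg
open Cfsg.Agent.Helper14 (cj)

variable {G : Type*} [Group G]

/-- the conjugate `g Z g⁻¹`. -/
abbrev cjs (g : G) (Z : Subgroup G) : Subgroup G := Z.map (cj g)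

/-- `g` fixes `a` modulo `C`. -/
def Fixes (C : Subgroup G) (g a : G) : Prop := g * a * g⁻¹ * a⁻¹ ∈ C

/-- the ambient hypotheses (`A = O_p(L)`, `C = C_Y(L)`, `Y` abelian, `A = ⟨(Y ∩ A)^L⟩`, `A ≤ N(Y)`, `⟨Y,Y^l⟩ = L` for `l ∈ L ∖ N(Y)`,
`N_L(YA) = N_L(Y)`). -/
structure FHyp (p : ℕ) (L Y A C : Subgroup G) : Prop where
  hA : A = pCoreOf p L
  hC : C = Y ⊓ Subgroup.centralizer (L : Set G)
  hYL : Y ≤ L
  hYab : ∀ x ∈ Y, ∀ y ∈ Y, x * y = y * x
  hYp : IsPGroup p ↥Y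
  hAY : A ≤ Subgroup.normalizer (Y : Set G)
  /-- `A` is the normal closure in `L` of `Y ∩ A` -/
  hcl : ∀ P : Subgroup G, L ≤ Subgroup.normalizer (P : Set G) → Y ⊓ A ≤ P → A ≤ P
  hgen : ∀ l ∈ L, l ∉ Subgroup.normalizer (Y : Set G) → Y ⊔ cjs l Y = L
  hNYA : ∀ l ∈ L, cjs l (Y ⊔ A) = Y ⊔ A → l ∈ Subgroup.normalizer (Y : Set G)
  hfar : ∃ l ∈ L, l ∉ Subgroup.normalizer (Y : Set G)

/-- `π` presents `X` as `L/A`. -/
structure QMap {X : Type*} [Group X] (L A : Subgroup G) (π : ↥L →* X) : Prop where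
  surj : Function.Surjective π
  ker : π.ker = A.subgroupOf L

/-- the image in `X` of (the part in `L` of) `Z`. -/
def im {X : Type*} [Group X] {L : Subgroup G} (π : ↥L →* X) (Z : Subgroup G) : Subgroup X :=
  (Z.subgroupOf L).map π

end Cfsg.Agent.S2863P
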