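import Mathlib
import Cfsg.Agent.Helper7.S2863Defs

/-! Board `s2863pieces`, row GB: basic consequences of `FHyp` and the calculus of `Fixes`. -/

set_option autoImplicit false
set_option linter.unusedVariables false
set_option linter.unusedSectionVars false

namespace Cfsg.Agent.S2863P

open Cfsg
open Cfsg.Agent.Helper14 (cj)
open Subgroup

variable {G : Type*} [Group G] [Finite G] {p : ℕ} [Fact p.Prime]
variable {L Y A C : Subgroup G}

namespace FHyp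

theorem hAL (h : FHyp p L Y A C) : A ≤ L := h.hA ▸ Cfsg.Agent.Helper14.pCoreOf_le p L

theorem hAp (h : FHyp p L Y A C) : IsPGroup p ↥A := h.hA ▸ Cfsg.Agent.Helper14.pCoreOf_isPGroup p L

theorem hLA (h : FHyp p L Y A C) : L ≤ normalizer (A : Set G) :=
  h.hA ▸ Cfsg.Agent.Helper14.le_normalizer_pCoreOf p L

theorem hCY (h : FHyp p L Y A C) : C ≤ Y := h.hC ▸ inf_le_left

theorem hCL (h : FHyp p L Y A C) : C ≤ L := h.hCY.trans h.hYL

/-- `C` is centralised by `L`. -/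
theorem comm_C (h : FHyp p L Y A C) {c g : G} (hc : c ∈ C) (hg : g ∈ L) : g * c = c * g := by
  have hc' : c ∈ Y ⊓ centralizer (L : Set G) := h.hC ▸ hc
  exact Subgroup.mem_centralizer_iff.mp hc'.2 g hg

theorem conj_C (h : FHyp p L Y A C) {c g : G} (hc : c ∈ C) (hg : g ∈ L) : g * c * g⁻¹ = c := by
  rw [h.comm_C hc hg, mul_inv_cancel_right]

theorem hLC (h : FHyp p L Y A C) : L ≤ normalizer (C : Set G) := by
  intro g hg
  rw [Subgroup.mem_normalizer_iff]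
  intro c
  constructor
  · intro hc
    rw [h.conj_C hc hg]; exact hc
  · intro hc
    have h1 := h.conj_C hc (L.inv_mem hg)
    have e : g⁻¹ * (g * c * g⁻¹) * g⁻¹⁻¹ = c := by group
    rw [e] at h1
    rw [h1]
    exact hc

theorem mem_C_iff (h : FHyp p L Y A C) {c : G} : c ∈ C ↔ c ∈ Y ∧ ∀ g ∈ L, g * c = c * g := by
  constructor
  · intro hc
    exact ⟨h.hCY hc, fun g hg => h.comm_C hc hg⟩
  · rintro ⟨h1, h2⟩
    rw [h.hC]
    exact ⟨h1, Subgroup.mem_centralizer_iff.mpr h2⟩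

/-- `C ≤ A` : a central `p`-subgroup of `L` lies in `O_p(L)`. -/
theorem hCA (h : FHyp p L Y A C) : C ≤ A := by
  rw [h.hA]
  exact Cfsg.Agent.Helper14.le_pCoreOf p h.hCL h.hLC (h.hYp.to_le h.hCY)

theorem hCY0 (h : FHyp p L Y A C) : C ≤ Y ⊓ A := le_inf h.hCY h.hCA

theorem conj_mem_A (h : FHyp p L Y A C) {g a : G} (hg : g ∈ L) (ha : a ∈ A) : g * a * g⁻¹ ∈ A :=
  (Subgroup.mem_normalizer_iff.mp (h.hLA hg) a).mp ha

theorem cjs_A (h : FHyp p L Y A C) {g : G} (hg : g ∈ L) : cjs g A = A :=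
  Cfsg.Agent.Helper14.mem_normalizer_iff_map_cj.mp (h.hLA hg)

theorem cjs_C (h : FHyp p L Y A C) {g : G} (hg : g ∈ L) : cjs g C = C :=
  Cfsg.Agent.Helper14.mem_normalizer_iff_map_cj.mp (h.hLC hg)

theorem cjs_L {g : G} (hg : g ∈ L) : cjs g L = L := Cfsg.Agent.Helper14.map_cj_eq_self_of_mem hg

/-- `[y,a] ∈ Y ∩ A` for `y ∈ Y`, `a ∈ A`. -/
theorem comm_YA (h : FHyp p L Y A C) {y a : G} (hy : y ∈ Y) (ha : a ∈ A) : y * a * y⁻¹ * a⁻¹ ∈ Y ⊓ A := by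
  constructor
  · have h1 : a * y⁻¹ * a⁻¹ ∈ Y := (Subgroup.mem_normalizer_iff.mp (h.hAY ha) y⁻¹).mp (Y.inv_mem hy)
    have e : y * a * y⁻¹ * a⁻¹ = y * (a * y⁻¹ * a⁻¹) := by group
    rw [e]; exact Y.mul_mem hy h1
  · exact A.mul_mem (h.conj_mem_A (h.hYL hy) ha) (A.inv_mem ha)

/-- `[a,y] ∈ Y ∩ A`. -/
theorem comm_AY (h : FHyp p L Y A C) {y a : G} (hy : y ∈ Y) (ha : a ∈ A) : a * y * a⁻¹ * y⁻¹ ∈ Y ⊓ A := by
  have h1 := (Y ⊓ A).inv_mem (h.comm_YA hy ha)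
  have e : (y * a * y⁻¹ * a⁻¹)⁻¹ = a * y * a⁻¹ * y⁻¹ := by group
  rwa [e] at h1

theorem cjs_inf (x : G) (P Q : Subgroup G) : cjs x (P ⊓ Q) = cjs x P ⊓ cjs x Q :=
  Cfsg.Agent.Helper14.map_cj_inf P Q x

theorem cjs_cjs (x y : G) (P : Subgroup G) : cjs x (cjs y P) = cjs (x * y) P :=
  Cfsg.Agent.Helper14.map_cj_mul P x y

theorem cjs_normalizer (x : G) (P : Subgroup G) :
    cjs x (normalizer (P : Set G)) = normalizer ((cjs x P : Subgroup G) : Set G) :=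
  Cfsg.Agent.Helper14.map_cj_normalizer P x

theorem mem_cjs {x g : G} {P : Subgroup G} : g ∈ cjs x P ↔ x⁻¹ * g * x ∈ P :=
  Cfsg.Agent.Helper14.mem_map_cj x g

/-- membership of `x y x⁻¹`-type elements: `x ∈ N(cjs g Y) ↔ g⁻¹ x g ∈ N(Y)`. -/
theorem mem_normalizer_cjs {x g : G} {P : Subgroup G} :
    x ∈ normalizer ((cjs g P : Subgroup G) : Set G) ↔ g⁻¹ * x * g ∈ normalizer (P : Set G) := by
  rw [← cjs_normalizer, mem_cjs]

/-- the hypotheses are invariant under conjugation by `x ∈ L`. -/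
theorem conj (h : FHyp p L Y A C) {x : G} (hx : x ∈ L) : FHyp p L (cjs x Y) A C := by
  have hxi : x⁻¹ ∈ L := L.inv_mem hx
  have key : ∀ {g : G}, g ∈ L → x⁻¹ * g * x ∈ L := fun hg => L.mul_mem (L.mul_mem hxi hg) hx
  refine ⟨h.hA, ?_, ?_, ?_, ?_, ?_, ?_, ?_, ?_, ?_⟩
  · -- `C = cjs x Y ⊓ C(L)`
    ext c
    constructor
    · intro hc
      refine ⟨mem_cjs.mpr ?_, (h.hC ▸ hc : c ∈ Y ⊓ centralizer (L : Set G)).2⟩
      have := h.conj_C hc hxi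
      rw [inv_inv] at this
      rw [this]; exact h.hCY hc
    · rintro ⟨h1, h2⟩
      have h3 : x⁻¹ * c * x ∈ Y := mem_cjs.mp h1
      have h4 : x⁻¹ * c * x = c := by
        have := Subgroup.mem_centralizer_iff.mp h2 x⁻¹ hxi
        rw [this]; group
      rw [h4] at h3
      rw [h.hC]; exact ⟨h3, h2⟩
  · rintro _ ⟨y, hy, rfl⟩
    exact L.mul_mem (L.mul_mem hx (h.hYL hy)) hxi
  · rintro _ ⟨y, hy, rfl⟩ _ ⟨z, hz, rfl⟩
    simp only [Cfsg.Agent.Helper14.cj_apply]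
    have := h.hYab y hy z hz
    calc x * y * x⁻¹ * (x * z * x⁻¹) = x * (y * z) * x⁻¹ := by group
      _ = x * (z * y) * x⁻¹ := by rw [this]
      _ = x * z * x⁻¹ * (x * y * x⁻¹) := by group
  · exact h.hYp.map (cj x)
  · -- `A ≤ N(cjs x Y)`
    intro a ha
    rw [mem_normalizer_cjs]
    apply h.hAY
    have := h.conj_mem_A hxi ha
    rwa [inv_inv] at this
  · -- normal closure
    intro P hLP hP
    apply h.hcl P hLP
    have h1 : cjs x (Y ⊓ A) ≤ P := by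
      rw [cjs_inf, h.cjs_A hx]; exact hP
    have h2 : cjs x⁻¹ (cjs x (Y ⊓ A)) ≤ cjs x⁻¹ P := Subgroup.map_mono h1
    rw [cjs_cjs, inv_mul_cancel] at h2
    have h3 : cjs (1 : G) (Y ⊓ A) = Y ⊓ A := Cfsg.Agent.Helper14.map_cj_one _
    rw [h3] at h2
    have h4 : cjs x⁻¹ P = P := Cfsg.Agent.Helper14.mem_normalizer_iff_map_cj.mp (hLP hxi)
    rwa [h4] at h2
  · -- generation
    intro l hl hl0
    have hl' : x⁻¹ * l * x ∉ normalizer (Y : Set G) := fun hc => hl0 (mem_normalizer_cjs.mpr hc)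
    have h1 := h.hgen _ (key hl) hl'
    have h2 : cjs x (Y ⊔ cjs (x⁻¹ * l * x) Y) = cjs x L := by rw [h1]
    rw [cjs_L hx] at h2
    unfold cjs at h2 ⊢
    rw [Subgroup.map_sup, Cfsg.Agent.Helper14.map_cj_mul] at h2
    rw [Cfsg.Agent.Helper14.map_cj_mul]
    have e : x * (x⁻¹ * l * x) = l * x := by group
    rw [e] at h2
    exact h2
  · -- `N_L(cjs x Y ⊔ A)`
    intro l hl hfix
    rw [mem_normalizer_cjs]
    apply h.hNYA _ (key hl)
    have h1 : cjs x (Y ⊔ A) = cjs x Y ⊔ A := by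
      unfold cjs; rw [Subgroup.map_sup]; exact congrArg _ (h.cjs_A hx)
    rw [← h1, cjs_cjs] at hfix
    have h2 : cjs x⁻¹ (cjs (l * x) (Y ⊔ A)) = cjs x⁻¹ (cjs x (Y ⊔ A)) := by rw [hfix]
    rw [cjs_cjs, cjs_cjs, inv_mul_cancel] at h2
    have h3 : cjs (1 : G) (Y ⊔ A) = Y ⊔ A := Cfsg.Agent.Helper14.map_cj_one _
    rw [h3] at h2
    have e : x⁻¹ * (l * x) = x⁻¹ * l * x := by group
    rwa [e] at h2
  · obtain ⟨l, hl, hl0⟩ := h.hfar
    refine ⟨x * l * x⁻¹, L.mul_mem (L.mul_mem hx hl) hxi, ?_⟩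
    rw [mem_normalizer_cjs]
    have e : x⁻¹ * (x * l * x⁻¹) * x = l := by group
    rwa [e]

end FHyp

/-! ### calculus of `Fixes` -/

theorem fixes_iff {C : Subgroup G} {g a : G} : Fixes C g a ↔ g * a * g⁻¹ * a⁻¹ ∈ C := Iff.rfl

/-- `Fixes` in the form `g a g⁻¹ = c a` with `c ∈ C`. -/
theorem fixes_iff_exists {C : Subgroup G} {g a : G} : Fixes C g a ↔ ∃ c ∈ C, g * a * g⁻¹ = c * a := by
  constructor
  · intro h
    exact ⟨g * a * g⁻¹ * a⁻¹, h, by group⟩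
  · rintro ⟨c, hc, he⟩
    unfold Fixes
    rw [he]; simpa using hc

theorem fixes_of_mem_C (h : FHyp p L Y A C) {g c : G} (hg : g ∈ L) (hc : c ∈ C) : Fixes C g c := by
  unfold Fixes
  rw [h.conj_C hc hg, mul_inv_cancel]
  exact C.one_mem

theorem fixes_one_left {C : Subgroup G} (a : G) : Fixes C 1 a := by
  unfold Fixes; simp

/-- products in the acting element. -/
theorem fixes_mul_left (h : FHyp p L Y A C) {g g' a : G} (hg : g ∈ L) (h1 : Fixes C g a) (h2 : Fixes C g' a) :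
    Fixes C (g * g') a := by
  obtain ⟨c1, hc1, e1⟩ := fixes_iff_exists.mp h1
  obtain ⟨c2, hc2, e2⟩ := fixes_iff_exists.mp h2
  apply fixes_iff_exists.mpr
  refine ⟨c2 * c1, C.mul_mem hc2 hc1, ?_⟩
  calc g * g' * a * (g * g')⁻¹ = g * (g' * a * g'⁻¹) * g⁻¹ := by group
    _ = g * (c2 * a) * g⁻¹ := by rw [e2]
    _ = (g * c2 * g⁻¹) * (g * a * g⁻¹) := by group
    _ = c2 * (c1 * a) := by rw [h.conj_C hc2 hg, e1]
    _ = c2 * c1 * a := by group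

theorem fixes_inv_left (h : FHyp p L Y A C) {g a : G} (hg : g ∈ L) (h1 : Fixes C g a) : Fixes C g⁻¹ a := by
  obtain ⟨c1, hc1, e1⟩ := fixes_iff_exists.mp h1
  apply fixes_iff_exists.mpr
  refine ⟨c1⁻¹, C.inv_mem hc1, ?_⟩
  have hgi : g⁻¹ ∈ L := L.inv_mem hg
  have e2 : a = g⁻¹ * (c1 * a) * g := by rw [← e1]; group
  calc g⁻¹ * a * g⁻¹⁻¹ = g⁻¹ * a * g := by rw [inv_inv]
    _ = (g⁻¹ * c1⁻¹ * g⁻¹⁻¹) * (g⁻¹ * (c1 * a) * g) := by group
    _ = c1⁻¹ * a := by rw [h.conj_C (C.inv_mem hc1) hgi, ← e2]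

theorem fixes_pow_left (h : FHyp p L Y A C) {g a : G} (hg : g ∈ L) (h1 : Fixes C g a) (k : ℕ) :
    Fixes C (g ^ k) a := by
  induction k with
  | zero => rw [pow_zero]; exact fixes_one_left a
  | succ k ih => rw [pow_succ]; exact fixes_mul_left h (L.pow_mem hg k) ih h1

/-- conjugation. -/
theorem fixes_conj (h : FHyp p L Y A C) {g a x : G} (hx : x ∈ L) (h1 : Fixes C g a) :
    Fixes C (x * g * x⁻¹) (x * a * x⁻¹) := by
  unfold Fixes at h1 ⊢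
  have e : x * g * x⁻¹ * (x * a * x⁻¹) * (x * g * x⁻¹)⁻¹ * (x * a * x⁻¹)⁻¹ = x * (g * a * g⁻¹ * a⁻¹) * x⁻¹ := by
    group
  rw [e, h.conj_C h1 hx]
  exact h1

end Cfsg.Agent.S2863P
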