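import Mathlib
import Cfsg.Agent.Helper7.S2863Defs
import Cfsg.Agent.Helper7.S2863Basic
import Cfsg.Agent.Helper14.PReduced2
import Cfsg.Agent.Helper14.S2862L
import Cfsg.Agent.Helper14.Asym8

/-! Board `s2863pieces`, row TOP1 : the ambient hypotheses `FHyp` from `IsInFrakL`. -/

set_option autoImplicit false

namespace Cfsg.Agent.S2863P

open Cfsg
open Cfsg.Agent.Helper14 (cj)
open Subgroup

variable {G : Type*} [Group G] [Finite G] {p : ℕ} [Fact p.Prime]
variable {L : Subgroup G}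

/-- a conjugate of a subgroup of `K` by an element of `K` lies in `K`. -/
theorem TOP1_aux_cjs_le {K Z : Subgroup G} {g : G} (hg : g ∈ K) (hZ : Z ≤ K) : cjs g Z ≤ K :=
  Cfsg.Agent.Helper14.Zip.map_cj_le_of_mem hg hZ

/-- if `cjs g Z ≤ Z` (finite) then `g` normalises `Z`. -/
theorem TOP1_aux_mem_normalizer_of_cjs_le {Z : Subgroup G} {g : G} (h : cjs g Z ≤ Z) :
    g ∈ normalizer (Z : Set G) := by
  rw [Cfsg.Agent.Helper14.mem_normalizer_iff_map_cj]
  have hcard : Nat.card ↥(cjs g Z) = Nat.card ↥Z := Cfsg.Agent.Helper14.Zip.card_map_cj g Z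
  exact Subgroup.eq_of_le_of_card_ge h hcard.ge

/-- the normal-closure condition in ambient form. -/
theorem TOP1_aux_hcl {Y0 A : Subgroup G} (hY0L : Y0 ≤ L)
    (hcl : A = (Subgroup.normalClosure ((Y0.subgroupOf L : Subgroup ↥L) : Set ↥L)).map L.subtype)
    (P : Subgroup G) (hLP : L ≤ normalizer (P : Set G)) (hY0P : Y0 ≤ P) : A ≤ P := by
  rw [hcl, Cfsg.Agent.Helper14.map_normalClosure_subgroupOf hY0L]
  refine iSup_le fun x => ?_
  rintro _ ⟨y, hy, rfl⟩
  have hx := hLP x.2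
  rw [Subgroup.mem_normalizer_iff] at hx
  exact (hx y).1 (hY0P hy)

/-- the normal closure of `Y` in `L` is `L`, in ambient form. -/
theorem TOP1_aux_ncl {Y : Subgroup G} (hYL : Y ≤ L)
    (hcl : Subgroup.normalClosure ((Y.subgroupOf L : Subgroup ↥L) : Set ↥L) = ⊤)
    (P : Subgroup G) (hLP : L ≤ normalizer (P : Set G)) (hYP : Y ≤ P) : L ≤ P := by
  have h1 : (Subgroup.normalClosure ((Y.subgroupOf L : Subgroup ↥L) : Set ↥L)).map L.subtype = L := by
    rw [hcl, ← MonoidHom.range_eq_map, Subgroup.range_subtype]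
  rw [Cfsg.Agent.Helper14.map_normalClosure_subgroupOf hYL] at h1
  rw [← h1]
  refine iSup_le fun x => ?_
  rintro _ ⟨y, hy, rfl⟩
  have hx := hLP x.2
  rw [Subgroup.mem_normalizer_iff] at hx
  exact (hx y).1 (hYP hy)

/-- TOP1, abstract core. -/
theorem TOP1_aux_core {Y A C : Subgroup G}
    (hA : A = pCoreOf p L) (hC : C = Y ⊓ centralizer (L : Set G))
    (hYL : Y ≤ L) (hYel : IsElementaryAbelian p Y)
    (hcl : A = (Subgroup.normalClosure (((Y ⊓ A).subgroupOf L : Subgroup ↥L) : Set ↥L)).map L.subtype)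
    (hAY : A ≤ normalizer (Y : Set G))
    (hncl : Subgroup.normalClosure ((Y.subgroupOf L : Subgroup ↥L) : Set ↥L) = ⊤)
    (h6a : L ⊓ normalizer (Y : Set G) < L)
    (h6b : ∀ X : Subgroup G, Y ≤ X → X < L → X ≤ L ⊓ normalizer (Y : Set G)) :
    FHyp p L Y A C := by
  have hAL : A ≤ L := hA ▸ Cfsg.Agent.Helper14.pCoreOf_le p L
  have hLA : L ≤ normalizer (A : Set G) := hA ▸ Cfsg.Agent.Helper14.le_normalizer_pCoreOf p L
  set L0 := L ⊓ normalizer (Y : Set G) with hL0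
  have hYL0 : Y ≤ L0 := le_inf hYL le_normalizer
  -- `L0` is a maximal subgroup
  have hmax : Cfsg.Agent.Helper14.Zip.IsMaxSub L0 L := by
    refine ⟨h6a, fun X hX hXL => le_antisymm (h6b X (hYL0.trans hX) hXL) hX⟩
  -- no proper subgroup containing `Y` is normal in `L`... : `L0` is not normal in `L`
  have hL0n : ¬ L ≤ normalizer (L0 : Set G) := fun hn =>
    h6a.ne (le_antisymm inf_le_left (TOP1_aux_ncl hYL hncl L0 hn hYL0))
  -- far elements exist
  have hfar : ∃ l ∈ L, l ∉ normalizer (Y : Set G) := by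
    by_contra hcon
    apply h6a.ne
    refine le_antisymm inf_le_left (fun l hl => ⟨hl, ?_⟩)
    by_contra hl0
    exact hcon ⟨l, hl, hl0⟩
  -- a subgroup `N` with `Y ≤ N ≤ L`, `N ≠ L` lies in `L0`
  have hsub : ∀ N : Subgroup G, Y ≤ N → N ≤ L → N ≠ L → N ≤ L0 := fun N hYN hNL hne =>
    h6b N hYN (lt_of_le_of_ne hNL hne)
  refine ⟨hA, hC, hYL, ?_, Cfsg.Agent.Helper14.isPGroup_of_isElementaryAbelian hYel, hAY, ?_, ?_, ?_, hfar⟩
  · -- `Y` abelian
    intro x hx y hy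
    obtain ⟨⟨⟨hc⟩⟩, -⟩ := hYel
    have := hc ⟨x, hx⟩ ⟨y, hy⟩
    exact congrArg Subtype.val this
  · -- hcl
    intro P hLP hP
    exact TOP1_aux_hcl (inf_le_left.trans hYL) hcl P hLP hP
  · -- hgen
    intro l hl hl0
    by_contra hne
    have hYl : cjs l Y ≤ L := TOP1_aux_cjs_le hl hYL
    have hX : Y ⊔ cjs l Y ≤ L0 := hsub _ le_sup_left (sup_le hYL hYl) hne
    -- `K = cjs l⁻¹ L0` is maximal and contains `Y`
    have hK : Cfsg.Agent.Helper14.Zip.IsMaxSub (cjs l⁻¹ L0) L :=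
      Cfsg.Agent.Helper14.Zip.isMaxSub_map_cj hmax (L.inv_mem hl)
    have hYK : Y ≤ cjs l⁻¹ L0 := by
      have h1 : cjs l Y ≤ L0 := le_sup_right.trans hX
      exact (Cfsg.Agent.Helper14.map_cj_le_iff Y L0 l).1 h1
    have hKL0 : cjs l⁻¹ L0 = L0 := le_antisymm (h6b _ hYK hK.1) (by
      have := hK.2 L0 ?_ h6a
      · exact this.le
      · exact h6b _ hYK hK.1)
    -- so `l⁻¹ ∈ N_L(L0) =: N0`
    have hlN : l⁻¹ ∈ L ⊓ normalizer (L0 : Set G) :=
      ⟨L.inv_mem hl, Cfsg.Agent.Helper14.mem_normalizer_iff_map_cj.2 hKL0⟩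
    have hN0 : L ⊓ normalizer (L0 : Set G) ≤ L0 := by
      refine hsub _ (le_inf hYL (hYL0.trans le_normalizer)) inf_le_left ?_
      intro hN
      apply hL0n
      rw [← hN]
      exact inf_le_right
    have hl' : l⁻¹ ∈ normalizer (Y : Set G) := (hN0 hlN).2
    exact hl0 (by simpa using (normalizer (Y : Set G)).inv_mem hl')
  · -- hNYA
    intro l hl hlYA
    have hYA : Y ⊔ A ≤ L0 := sup_le hYL0 (le_inf hAL hAY)
    have hN1 : L ⊓ normalizer ((Y ⊔ A : Subgroup G) : Set G) ≤ L0 := by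
      refine hsub _ (le_inf hYL (le_sup_left.trans le_normalizer)) inf_le_left ?_
      intro hN
      have h1 : L ≤ normalizer ((Y ⊔ A : Subgroup G) : Set G) := by
        rw [← hN]; exact inf_le_right
      have h2 : L ≤ Y ⊔ A := TOP1_aux_ncl hYL hncl _ h1 le_sup_left
      exact h6a.ne (le_antisymm inf_le_left (h2.trans hYA))
    have : l ∈ L ⊓ normalizer ((Y ⊔ A : Subgroup G) : Set G) :=
      ⟨hl, Cfsg.Agent.Helper14.mem_normalizer_iff_map_cj.2 hlYA⟩
    exact (hN1 this).2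

/-- TOP1 : the ambient hypotheses from `IsInFrakL`. -/
theorem exists_FHyp {M : Subgroup G} (hL : Cfsg.IsInFrakL p M L) :
    FHyp p L (largestPReducedOf p M) (pCoreOf p L)
      (largestPReducedOf p M ⊓ Subgroup.centralizer ((L : Subgroup G) : Set G)) := by
  obtain ⟨hYL, hcl, hAY, hmin, -, ⟨h6a, h6b⟩, -⟩ := hL
  exact TOP1_aux_core rfl rfl hYL (Cfsg.Agent.Helper14.largestPReducedOf_isPReducedIn M).2.2.1 hcl hAY hmin.1 h6a h6b

end Cfsg.Agent.S2863P
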