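import Mathlib
import Cfsg.Agent.Helper7.S2863Defs
import Cfsg.Agent.Helper7.S2863Basic
import Cfsg.Agent.Helper7.S2863TOP1
import Cfsg.Agent.Helper14.S2863Defs

/-! Board `s2863pieces` (route B), rows GEN, NYA : from `LHyp p Y L` to the ambient hypotheses `FHyp`, `L = ⟨Y, Y^g⟩`,
`N_L(Y A) ≤ N(Y)`. -/

set_option autoImplicit false

namespace Cfsg.Agent.S2863P

open Cfsg
open Cfsg.Agent.Helper14 (cj)
open Subgroup

variable {G : Type*} [Group G] [Finite G] {p : ℕ} [Fact p.Prime]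
variable {Y L : Subgroup G}

/-- as `TOP1_aux_core`, with `Y` an abelian `p`-group. -/
theorem GEN_aux_core {Y A C : Subgroup G}
    (hA : A = pCoreOf p L) (hC : C = Y ⊓ centralizer (L : Set G))
    (hYL : Y ≤ L) (hYab : ∀ x ∈ Y, ∀ y ∈ Y, x * y = y * x) (hYp : IsPGroup p ↥Y)
    (hcl : A = (Subgroup.normalClosure (((Y ⊓ A).subgroupOf L : Subgroup ↥L) : Set ↥L)).map L.subtype)
    (hAY : A ≤ normalizer (Y : Set G))
    (hncl : Subgroup.normalClosure ((Y.subgroupOf L : Subgroup ↥L) : Set ↥L) = ⊤)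
    (h6a : L ⊓ normalizer (Y : Set G) < L)
    (h6b : ∀ X : Subgroup G, Y ≤ X → X < L → X ≤ L ⊓ normalizer (Y : Set G)) :
    FHyp p L Y A C := by
  have hAL : A ≤ L := hA ▸ Cfsg.Agent.Helper14.pCoreOf_le p L
  have hLA : L ≤ normalizer (A : Set G) := hA ▸ Cfsg.Agent.Helper14.le_normalizer_pCoreOf p L
  set L0 := L ⊓ normalizer (Y : Set G) with hL0
  have hYL0 : Y ≤ L0 := le_inf hYL le_normalizer
  have hmax : Cfsg.Agent.Helper14.Zip.IsMaxSub L0 L := by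
    refine ⟨h6a, fun X hX hXL => le_antisymm (h6b X (hYL0.trans hX) hXL) hX⟩
  have hL0n : ¬ L ≤ normalizer (L0 : Set G) := fun hn =>
    h6a.ne (le_antisymm inf_le_left (TOP1_aux_ncl hYL hncl L0 hn hYL0))
  have hfar : ∃ l ∈ L, l ∉ normalizer (Y : Set G) := by
    by_contra hcon
    apply h6a.ne
    refine le_antisymm inf_le_left (fun l hl => ⟨hl, ?_⟩)
    by_contra hl0
    exact hcon ⟨l, hl, hl0⟩
  have hsub : ∀ N : Subgroup G, Y ≤ N → N ≤ L → N ≠ L → N ≤ L0 := fun N hYN hNL hne =>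
    h6b N hYN (lt_of_le_of_ne hNL hne)
  refine ⟨hA, hC, hYL, hYab, hYp, hAY, ?_, ?_, ?_, hfar⟩
  · intro P hLP hP
    exact TOP1_aux_hcl (inf_le_left.trans hYL) hcl P hLP hP
  · intro l hl hl0
    by_contra hne
    have hYl : cjs l Y ≤ L := TOP1_aux_cjs_le hl hYL
    have hX : Y ⊔ cjs l Y ≤ L0 := hsub _ le_sup_left (sup_le hYL hYl) hne
    have hK : Cfsg.Agent.Helper14.Zip.IsMaxSub (cjs l⁻¹ L0) L :=
      Cfsg.Agent.Helper14.Zip.isMaxSub_map_cj hmax (L.inv_mem hl)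
    have hYK : Y ≤ cjs l⁻¹ L0 := by
      have h1 : cjs l Y ≤ L0 := le_sup_right.trans hX
      exact (Cfsg.Agent.Helper14.map_cj_le_iff Y L0 l).1 h1
    have hKL0 : cjs l⁻¹ L0 = L0 := le_antisymm (h6b _ hYK hK.1) (by
      have := hK.2 L0 ?_ h6a
      · exact this.le
      · exact h6b _ hYK hK.1)
    have hlN : l⁻¹ ∈ L ⊓ normalizer (L0 : Set G) :=
      ⟨L.inv_mem hl, Cfsg.Agent.Helper14.mem_normalizer_iff_map_cj.2 hKL0⟩
    have hN0 : L ⊓ normalizer (L0 : Set G) ≤ L0 := by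
      refine hsub _ (le_inf hYL (hYL0.trans le_normalizer)) inf_le_left ?_
      intro hN
      apply hL0n
      rw [← hN]
      exact inf_le_right
    have hl' : l⁻¹ ∈ normalizer (Y : Set G) := (hN0 hlN).2
    exact hl0 (by simpa using (normalizer (Y : Set G)).inv_mem hl')
  · intro l hl hlYA
    have hYA : Y ⊔ A ≤ L0 := sup_le hYL0 (le_inf hAL hAY)
    have hN1 : L ⊓ normalizer ((Y ⊔ A : Subgroup G) : Set G) ≤ L0 := by
      refine hsub _ (le_inf hYL (le_sup_left.trans le_normalizer)) inf_le_left ?_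
      intro hN
      have h1 : L ≤ normalizer ((Y ⊔ A : Subgroup G) : Set G) := by
        rw [← hN]; exact inf_le_right
      have h2 : L ≤ Y ⊔ A := TOP1_aux_ncl hYL hncl _ h1 le_sup_left
      exact h6a.ne (le_antisymm inf_le_left (h2.trans hYA))
    have : l ∈ L ⊓ normalizer ((Y ⊔ A : Subgroup G) : Set G) :=
      ⟨hl, Cfsg.Agent.Helper14.mem_normalizer_iff_map_cj.2 hlYA⟩
    exact (hN1 this).2

/-- `LHyp` gives the ambient hypotheses `FHyp` (so the whole `FHyp` API of `Helper7.S2863Basic` is available). -/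
theorem GEN_aux_toFHyp (H : LHyp p Y L) :
    FHyp p L Y (pCoreOf p L) (Y ⊓ centralizer (L : Set G)) :=
  GEN_aux_core rfl rfl H.hYL H.comm H.hYp H.hcl H.hA H.hgen H.hlt H.hmax

/-- GEN : `L = ⟨Y, Y^g⟩` for `g ∈ L ∖ N(Y)`. -/
theorem LHyp.gen (H : LHyp p Y L) {g : G} (hg : g ∈ L) (hgN : g ∉ normalizer (Y : Set G)) :
    Y ⊔ Y.map (cj g) = L :=
  (GEN_aux_toFHyp H).hgen g hg hgN

/-- NYA : `N_L(Y A) ≤ N(Y)`. -/
theorem LHyp.mem_normalizer_of_conj (H : LHyp p Y L) {l : G} (hl : l ∈ L)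
    (h : ∀ y ∈ Y, l * y * l⁻¹ ∈ Y ⊔ pCoreOf p L) : l ∈ normalizer (Y : Set G) := by
  have F := GEN_aux_toFHyp H
  refine F.hNYA l hl ?_
  have h1 : cjs l (Y ⊔ pCoreOf p L) ≤ Y ⊔ pCoreOf p L := by
    show (Y ⊔ pCoreOf p L).map (cj l) ≤ _
    rw [Subgroup.map_sup]
    refine sup_le ?_ ?_
    · rintro _ ⟨y, hy, rfl⟩
      exact h y hy
    · have : cjs l (pCoreOf p L) = pCoreOf p L := F.cjs_A hl
      exact this.le.trans le_sup_right
  exact Cfsg.Agent.Helper14.mem_normalizer_iff_map_cj.1 (TOP1_aux_mem_normalizer_of_cjs_le h1)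

end Cfsg.Agent.S2863P
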