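import Mathlib
import Cfsg.Agent.Helper7.S2863GEN

/-! Board `s2863pieces` (route B), rows PAIRC, PAIRPROD : `W ⊓ W^g = C_Y(L)` and `A = W W^g` for `g ∈ L ∖ N(Y)`
(`W = Y ⊓ A`, `A = O_p(L)`). -/

set_option autoImplicit false

namespace Cfsg.Agent.S2863P

open Cfsg
open Cfsg.Agent.Helper14 (cj)
open Subgroup

variable {G : Type*} [Group G] [Finite G] {p : ℕ} [Fact p.Prime]
variable {Y L : Subgroup G}

/-- PAIRC, `FHyp` form : `Y ⊓ A ⊓ (Y^l ⊓ A) = C`. -/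
theorem PAIRC_aux_core {A C : Subgroup G} (h : FHyp p L Y A C) {l : G} (hl : l ∈ L)
    (hl0 : l ∉ normalizer (Y : Set G)) : Y ⊓ A ⊓ (cjs l Y ⊓ A) = C := by
  have hgen := h.hgen l hl hl0
  have hl' := h.conj hl
  apply le_antisymm
  · rintro x ⟨⟨hxY, hxA⟩, ⟨hxYl, -⟩⟩
    rw [h.hC]
    refine ⟨hxY, ?_⟩
    -- the centraliser of `x` contains `Y` and `Y^l`
    have h1 : Y ≤ centralizer ({x} : Set G) := by
      intro y hy
      rw [Subgroup.mem_centralizer_iff]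
      intro z hz
      rw [Set.mem_singleton_iff] at hz
      subst hz
      exact h.hYab z hxY y hy
    have h2 : cjs l Y ≤ centralizer ({x} : Set G) := by
      intro y hy
      rw [Subgroup.mem_centralizer_iff]
      intro z hz
      rw [Set.mem_singleton_iff] at hz
      subst hz
      exact hl'.hYab z hxYl y hy
    have h3 : L ≤ centralizer ({x} : Set G) := by
      rw [← hgen]; exact sup_le h1 h2
    show x ∈ centralizer (L : Set G)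
    rw [Subgroup.mem_centralizer_iff]
    intro g hg
    have := Subgroup.mem_centralizer_iff.mp (h3 hg) x (Set.mem_singleton x)
    exact this.symm
  · intro c hc
    refine ⟨⟨h.hCY hc, h.hCA hc⟩, ⟨hl'.hCY hc, h.hCA hc⟩⟩

/-- PAIRC : `W ⊓ W^g = C_Y(L)`. -/
theorem LHyp.inf_eq (H : LHyp p Y L) {g : G} (hg : g ∈ L) (hgN : g ∉ normalizer (Y : Set G)) :
    Y ⊓ pCoreOf p L ⊓ (Y.map (cj g) ⊓ pCoreOf p L) = Y ⊓ centralizer (L : Set G) :=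
  PAIRC_aux_core (GEN_aux_toFHyp H) hg hgN

/-- `Y1` normalises `(Y1 ⊓ A) ⊔ (Y2 ⊓ A)` when `[Y1, A] ≤ Y1 ⊓ A` and `Y1` is abelian, normalising `A`. -/
theorem PAIRPROD_aux_norm {Y1 Y2 A : Subgroup G}
    (hc : ∀ y ∈ Y1, ∀ a ∈ A, y * a * y⁻¹ * a⁻¹ ∈ Y1 ⊓ A)
    (hn : ∀ y ∈ Y1, ∀ a ∈ A, y * a * y⁻¹ ∈ A) :
    Y1 ≤ normalizer (((Y1 ⊓ A) ⊔ (Y2 ⊓ A) : Subgroup G) : Set G) := by
  apply Cfsg.Agent.Helper14.le_normalizer_of_map_cj_le
  intro y hy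
  rw [Subgroup.map_sup]
  refine sup_le ?_ ?_
  · rintro _ ⟨u, ⟨huY, huA⟩, rfl⟩
    apply Subgroup.mem_sup_left
    exact ⟨Y1.mul_mem (Y1.mul_mem hy huY) (Y1.inv_mem hy), hn y hy u huA⟩
  · rintro _ ⟨v, ⟨hvY, hvA⟩, rfl⟩
    have e : cj y v = (y * v * y⁻¹ * v⁻¹) * v := by
      simp
    rw [e]
    exact Subgroup.mul_mem _ (Subgroup.mem_sup_left (hc y hy v hvA)) (Subgroup.mem_sup_right ⟨hvY, hvA⟩)

/-- PAIRPROD, `FHyp` form : `A ≤ (Y ⊓ A) ⊔ (Y^l ⊓ A)`. -/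
theorem PAIRPROD_aux_core {A C : Subgroup G} (h : FHyp p L Y A C) {l : G} (hl : l ∈ L)
    (hl0 : l ∉ normalizer (Y : Set G)) : A ≤ (Y ⊓ A) ⊔ (cjs l Y ⊓ A) := by
  have hgen := h.hgen l hl hl0
  have hl' := h.conj hl
  have h1 : Y ≤ normalizer (((Y ⊓ A) ⊔ (cjs l Y ⊓ A) : Subgroup G) : Set G) :=
    PAIRPROD_aux_norm (fun y hy a ha => h.comm_YA hy ha) (fun y hy a ha => h.conj_mem_A (h.hYL hy) ha)
  have h2 : cjs l Y ≤ normalizer (((Y ⊓ A) ⊔ (cjs l Y ⊓ A) : Subgroup G) : Set G) := by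
    have := PAIRPROD_aux_norm (Y1 := cjs l Y) (Y2 := Y) (A := A)
      (fun y hy a ha => hl'.comm_YA hy ha) (fun y hy a ha => hl'.conj_mem_A (hl'.hYL hy) ha)
    rwa [sup_comm] at this
  have h3 : L ≤ normalizer (((Y ⊓ A) ⊔ (cjs l Y ⊓ A) : Subgroup G) : Set G) := by
    rw [← hgen]; exact sup_le h1 h2
  exact h.hcl _ h3 le_sup_left

/-- PAIRPROD : `A = W W^g`. -/
theorem LHyp.prod (H : LHyp p Y L) {g : G} (hg : g ∈ L) (hgN : g ∉ normalizer (Y : Set G)) :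
    pCoreOf p L ≤ (Y ⊓ pCoreOf p L) ⊔ (Y.map (cj g) ⊓ pCoreOf p L) :=
  PAIRPROD_aux_core (GEN_aux_toFHyp H) hg hgN

end Cfsg.Agent.S2863P
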