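import Mathlib
import Cfsg.Agent.Helper7.S2863Defs
import Cfsg.Agent.Helper12.BorelUnip

/-!
# S2863: second definitions file (board `s2863pieces`)

* `fixSub A C g` : the subgroup of the `a ∈ A` fixed by `g` modulo `C`.
* `lMat b` : the lower unitriangular element of `SL₂(F)` (`Helper12.uMat` is the upper one), `lowSL F` their subgroup.
* `InvHyp Yb` : the hypotheses on `X = L/A`, `Yb = YA/A` of the involution argument (`p = 2`).
-/

set_option autoImplicit false

namespace Cfsg.Agent.S2863P

open Cfsg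
open Cfsg.Agent.Helper14 (cj)

variable {G : Type*} [Group G]

/-- the elements of `A` fixed by `g` modulo `C` (generated subgroup; see row `mem_fixSub`). -/
def fixSub (A C : Subgroup G) (g : G) : Subgroup G := Subgroup.closure {a | a ∈ A ∧ Fixes C g a}

/-- the lower unitriangular element. -/
def lMat {F : Type*} [Field F] (b : F) : Matrix.SpecialLinearGroup (Fin 2) F :=
  ⟨!![1, 0; b, 1], by simp [Matrix.det_fin_two_of]⟩

/-- the lower unitriangular subgroup of `SL₂(F)`. -/
def lowSL (F : Type*) [Field F] : Subgroup (Matrix.SpecialLinearGroup (Fin 2) F) where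
  carrier := {g | (g : Matrix (Fin 2) (Fin 2) F) 0 1 = 0 ∧ (g : Matrix (Fin 2) (Fin 2) F) 0 0 = 1}
  one_mem' := by simp
  mul_mem' := by
    rintro a b ⟨ha1, ha2⟩ ⟨hb1, hb2⟩
    simp only [Set.mem_ofPred_eq, Matrix.SpecialLinearGroup.coe_mul, Matrix.mul_apply,
      Fin.sum_univ_two]
    rw [ha1, ha2, hb1, hb2]
    simp
  inv_mem' := by
    rintro a ⟨ha1, ha2⟩
    have hdet := a.2
    rw [Matrix.det_fin_two, ha1, ha2] at hdet
    simp only [Set.mem_ofPred_eq, Matrix.SpecialLinearGroup.coe_inv, Matrix.adjugate_fin_two,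
      Matrix.of_apply, Matrix.cons_val', Matrix.cons_val_zero, Matrix.cons_val_one,
      Matrix.cons_val_fin_one]
    refine ⟨by rw [ha1, neg_zero], ?_⟩
    linear_combination hdet

/-- hypotheses of the involution argument on `X = L/A`, `Yb = YA/A` (`p = 2`). -/
structure InvHyp {X : Type*} [Group X] (Yb : Subgroup X) : Prop where
  /-- every involution lies in a conjugate of `Yb` -/
  conjInv : ∀ n : X, orderOf n = 2 → ∃ x : X, x⁻¹ * n * x ∈ Yb
  /-- centralisers of the involutions of `Yb` are `2`-groups -/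
  cent : ∀ n ∈ Yb, n ≠ 1 → IsPGroup 2 ↥(Subgroup.centralizer ({n} : Set X))
  /-- every nontrivial element of odd order is normalised by an involution -/
  real : ∀ h : X, h ≠ 1 → Odd (orderOf h) → ∃ n : X, orderOf n = 2 ∧ n * h * n⁻¹ ∈ Subgroup.zpowers h
  /-- (TR) -/
  tr : ∀ t ∈ Yb, t ≠ 1 → ∀ x : X, Yb.map (MulAut.conj x).toMonoidHom ≠ Yb →
    ∃ n ∈ Subgroup.closure ({t} ∪ ((Yb.map (MulAut.conj x).toMonoidHom : Subgroup X) : Set X)),
      (Yb.map (MulAut.conj x).toMonoidHom).map (MulAut.conj n).toMonoidHom = Yb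

end Cfsg.Agent.S2863P
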