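import Mathlib
import Cfsg.Agent.Helper6.S2861Defs
import Cfsg.Agent.Helper11.SzMax
import Cfsg.Agent.Helper2.SzSylow2

/-!
# S2861, piece SZ: the case `X = Sz(q)`, `q ≥ 8`

`Nb = N(P)` for a Sylow 2-subgroup `P ≥ Yb`, and every nontrivial elementary abelian 2-subgroup
normalised by `N(P)` is `Z(P)` (for `P = Q = {T a b}` it is `{T 0 c}`, by the action of the torus).
-/

set_option autoImplicit false

namespace Cfsg.Agent.S2861P

open Cfsg Cfsg.Agent.Helper2.SzO Subgroup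

variable {F : Type*} [Field F] [Fintype F] {m : ℕ}

/-- The torus normalises `Q`. -/
theorem SZ.aux_Dz_mem_normalizer (hF : Fintype.card F = 2 ^ (2 * m + 1)) (k : Fˣ) :
    Dz hF k ∈ normalizer ((Qz hF : Subgroup (Cfsg.Sz F m)) : Set (Cfsg.Sz F m)) := by
  rw [mem_normalizer_iff]
  intro h
  constructor
  · rintro ⟨a, b, rfl⟩
    rw [Dz_mul_Tz]
    exact Tz_mem_Qz hF _ _
  · intro hh
    obtain ⟨a, b, hab⟩ := hh
    have e : h = Dz hF k⁻¹ * Tz hF a b * (Dz hF k⁻¹)⁻¹ := by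
      rw [← hab, ← Dz_inv]
      group
    rw [e, Dz_mul_Tz]
    exact Tz_mem_Qz hF _ _

/-- An elementary abelian 2-subgroup is a 2-group. -/
theorem SZ.aux_isPGroup {X : Type*} [Group X] {W : Subgroup X} (hW : Cfsg.IsElementaryAbelian 2 W) :
    IsPGroup 2 ↥W := by
  intro w
  refine ⟨1, ?_⟩
  rw [pow_one]
  exact Subtype.ext (hW.2 w.1 w.2)

/-- The core claim for `P = Q`. -/
theorem SZ.aux_claimQ (hm : 1 ≤ m) (hF : Fintype.card F = 2 ^ (2 * m + 1))
    (W : Subgroup (Cfsg.Sz F m)) (hW : Cfsg.IsElementaryAbelian 2 W) (hne : W ≠ ⊥)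
    (hN : normalizer ((Qz hF : Subgroup (Cfsg.Sz F m)) : Set (Cfsg.Sz F m)) ≤
      normalizer (W : Set (Cfsg.Sz F m))) (x : Cfsg.Sz F m) :
    x ∈ W ↔ ∃ c : F, x = Tz hF 0 c := by
  have hfact : Fact (Nat.Prime 2) := ⟨Nat.prime_two⟩
  have hW2 : IsPGroup 2 ↥W := SZ.aux_isPGroup hW
  have hQ2 : IsPGroup 2 ↥(Qz (m := m) hF) := by
    rw [← QSylow_coe hF hm]
    exact (QSylow hF hm).isPGroup'
  have hsup : IsPGroup 2 ↥(Qz hF ⊔ W) :=
    IsPGroup.to_sup_of_normal_right' hQ2 hW2 (le_normalizer.trans hN)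
  have heq : Qz hF ⊔ W = Qz hF := by
    have := (QSylow hF hm).is_maximal' hsup (by rw [QSylow_coe]; exact le_sup_left)
    rw [this, QSylow_coe]
  have hWQ : W ≤ Qz hF := by
    rw [← heq]
    exact le_sup_right
  have hsub : ∀ w ∈ W, ∃ c : F, w = Tz hF 0 c := by
    intro w hw
    obtain ⟨a, b, rfl⟩ := hWQ hw
    have h2 : Tz hF a b ^ 2 = 1 := hW.2 _ hw
    have h3 := tq_sq hF a b
    have h4 : Tz hF a b ^ 2 = Tz hF 0 (a ^ sg m * a) := congrArg Subtype.val h3
    rw [h4, ← Tz_one hF] at h2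
    obtain ⟨-, h5⟩ := Tz_injective hF h2
    have ha : a = 0 := by
      rcases mul_eq_zero.1 h5 with h | h
      · exact (pow_eq_zero_iff sg_ne_zero).1 h
      · exact h
    exact ⟨b, by rw [ha]⟩
  obtain ⟨⟨w, hw⟩, hw1⟩ := (ne_bot_iff_exists_ne_one).1 hne
  obtain ⟨c0, rfl⟩ := hsub w hw
  have hc0 : c0 ≠ 0 := by
    intro h
    apply hw1
    apply Subtype.ext
    show Tz hF 0 c0 = 1
    rw [h, Tz_one]
  constructor
  · exact hsub x
  · rintro ⟨c, rfl⟩
    by_cases hc : c = 0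
    · rw [hc, Tz_one]
      exact W.one_mem
    · obtain ⟨k, hk⟩ := exists_pow_sg_succ hF (Units.mk0 (c / c0) (div_ne_zero hc hc0))
      have hkn := hN (SZ.aux_Dz_mem_normalizer hF k)
      have h1 := (mem_normalizer_iff.1 hkn (Tz hF 0 c0)).1 hw
      rw [Dz_mul_Tz] at h1
      have hk' : (k : F) ^ (sg m + 1) = c / c0 := by
        have := congrArg Units.val hk
        simpa using this
      have e1 : (k : F) * 0 = 0 := mul_zero _
      have e2 : (k : F) ^ (sg m + 1) * c0 = c := by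
        rw [hk']
        field_simp
      rw [e1, e2] at h1
      exact h1


/-- The core claim for a general Sylow 2-subgroup: two nontrivial elementary abelian 2-subgroups normalised
by `N(P)` coincide. -/
theorem SZ.aux_claimP (hm : 1 ≤ m) (hF : Fintype.card F = 2 ^ (2 * m + 1))
    (P : Sylow 2 (Cfsg.Sz F m)) (W W' : Subgroup (Cfsg.Sz F m))
    (hW : Cfsg.IsElementaryAbelian 2 W) (hne : W ≠ ⊥)
    (hN : normalizer ((P : Subgroup (Cfsg.Sz F m)) : Set (Cfsg.Sz F m)) ≤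
      normalizer (W : Set (Cfsg.Sz F m)))
    (hW' : Cfsg.IsElementaryAbelian 2 W') (hne' : W' ≠ ⊥)
    (hN' : normalizer ((P : Subgroup (Cfsg.Sz F m)) : Set (Cfsg.Sz F m)) ≤
      normalizer (W' : Set (Cfsg.Sz F m))) : W = W' := by
  have hfact : Fact (Nat.Prime 2) := ⟨Nat.prime_two⟩
  obtain ⟨g, hg⟩ := MulAction.exists_smul_eq (Cfsg.Sz F m) (QSylow hF hm) P
  have hP : (P : Subgroup (Cfsg.Sz F m)) = (Qz hF).map (MulAut.conj g).toMonoidHom := by
    rw [← hg, Sylow.coe_subgroup_smul, QSylow_coe, Subgroup.pointwise_smul_def]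
    rfl
  have hNP : (normalizer ((Qz hF : Subgroup (Cfsg.Sz F m)) : Set (Cfsg.Sz F m))).map
      (MulAut.conj g).toMonoidHom =
      normalizer ((P : Subgroup (Cfsg.Sz F m)) : Set (Cfsg.Sz F m)) := by
    rw [hP]
    exact map_equiv_normalizer_eq (Qz hF) (MulAut.conj g)
  -- the conditions of `claimQ` for the pull-back of a subgroup
  have key : ∀ V : Subgroup (Cfsg.Sz F m), Cfsg.IsElementaryAbelian 2 V → V ≠ ⊥ →
      normalizer ((P : Subgroup (Cfsg.Sz F m)) : Set (Cfsg.Sz F m)) ≤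
        normalizer (V : Set (Cfsg.Sz F m)) →
      ∀ x, x ∈ V.comap (MulAut.conj g).toMonoidHom ↔ ∃ c : F, x = Tz hF 0 c := by
    intro V hV hVne hVN
    apply SZ.aux_claimQ hm hF
    · -- elementary abelian
      refine ⟨⟨⟨fun a b => ?_⟩⟩, ?_⟩
      · have h1 := hV.1.is_comm.comm ⟨(MulAut.conj g) a.1, a.2⟩ ⟨(MulAut.conj g) b.1, b.2⟩
        have h2 : (MulAut.conj g) a.1 * (MulAut.conj g) b.1 =
            (MulAut.conj g) b.1 * (MulAut.conj g) a.1 := congrArg Subtype.val h1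
        rw [← map_mul, ← map_mul] at h2
        exact Subtype.ext ((MulAut.conj g).injective h2)
      · intro a ha
        have h1 : ((MulAut.conj g) a) ^ 2 = 1 := hV.2 _ ha
        rw [← map_pow] at h1
        exact (MulAut.conj g).injective (h1.trans (map_one _).symm)
    · -- nontrivial
      obtain ⟨⟨w, hw⟩, hw1⟩ := (ne_bot_iff_exists_ne_one).1 hVne
      intro hbot
      have hmem : (MulAut.conj g).symm w ∈ V.comap (MulAut.conj g).toMonoidHom := by
        rw [mem_comap]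
        show (MulAut.conj g) ((MulAut.conj g).symm w) ∈ V
        rw [MulEquiv.apply_symm_apply]
        exact hw
      rw [hbot, mem_bot] at hmem
      apply hw1
      apply Subtype.ext
      show w = 1
      have := congrArg (MulAut.conj g) hmem
      rwa [MulEquiv.apply_symm_apply, map_one] at this
    · -- normalised by `N(Q)`
      intro n hn
      have hn' : (MulAut.conj g) n ∈ normalizer (V : Set (Cfsg.Sz F m)) := by
        apply hVN
        rw [← hNP]
        exact mem_map_of_mem _ hn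
      rw [mem_normalizer_iff] at hn' ⊢
      intro x
      rw [mem_comap, mem_comap]
      have := hn' ((MulAut.conj g) x)
      show (MulAut.conj g) x ∈ V ↔ (MulAut.conj g) (n * x * n⁻¹) ∈ V
      rw [map_mul, map_mul, map_inv]
      exact this
  have h1 := key W hW hne hN
  have h2 := key W' hW' hne' hN'
  have h3 : W.comap (MulAut.conj g).toMonoidHom = W'.comap (MulAut.conj g).toMonoidHom := by
    ext x
    rw [h1 x, h2 x]
  exact comap_injective (f := (MulAut.conj g).toMonoidHom) (MulAut.conj g).surjective h3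

/-- Piece SZ of S2861. -/
theorem SZ {F : Type*} [Field F] [Fintype F] {m : ℕ} (hm : 1 ≤ m)
    (hF : Fintype.card F = 2 ^ (2 * m + 1)) (Yb Nb : Subgroup ↥(Cfsg.Sz F m)) (h : Hyp Yb Nb)
    (hY : Cfsg.IsElementaryAbelian 2 Yb) : Concl 2 Yb Nb := by
  have hfact : Fact (Nat.Prime 2) := ⟨Nat.prime_two⟩
  have hY2 : IsPGroup 2 ↥Yb := SZ.aux_isPGroup hY
  obtain ⟨P, hYP⟩ := hY2.exists_le_sylow
  obtain ⟨hco, huniq⟩ := Cfsg.Agent.Helper11.SzMax.normalizer_sylow_maximal hF hm P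
  have hPtop : (P : Subgroup (Cfsg.Sz F m)) ≠ ⊤ := by
    intro htop
    apply hco.1
    rw [eq_top_iff, ← htop]
    exact le_normalizer
  have hPN : (P : Subgroup (Cfsg.Sz F m)) ≤ Nb := h.max _ hYP hPtop
  obtain ⟨M, hM, hNM⟩ := (eq_top_or_exists_le_coatom Nb).resolve_left h.ne_top
  have hMN : M = normalizer ((P : Subgroup (Cfsg.Sz F m)) : Set (Cfsg.Sz F m)) :=
    huniq M hM (hPN.trans hNM)
  have hNPle : normalizer ((P : Subgroup (Cfsg.Sz F m)) : Set (Cfsg.Sz F m)) ≤ Nb :=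
    h.max _ (hYP.trans le_normalizer) hco.1
  have hNb : Nb = normalizer ((P : Subgroup (Cfsg.Sz F m)) : Set (Cfsg.Sz F m)) :=
    le_antisymm (hMN ▸ hNM) hNPle
  have hYne : Yb ≠ ⊥ := by
    intro h0
    have hgen := h.gen
    rw [h0, normalClosure_eq_self] at hgen
    apply h.ne_top
    rw [eq_top_iff, ← hgen]
    exact bot_le
  intro V _ hNV hVe hVne
  exact SZ.aux_claimP hm hF P V Yb hVe hVne (hNb ▸ hNV) hY hYne (hNb ▸ h.norm)

end Cfsg.Agent.S2861P
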