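import Cfsg.Agent.Helper7.AutPSL4

/-!
# Automorphisms of `PSL_n(F)`, part 5 (helper7)

Elementary root elements `xs i j a = 1 + a E_ij`; the centre of the unitriangular group `USL` is
the root group `X e_first e_last`; the same in `PSL_n`.
-/

set_option autoImplicit false
set_option linter.unusedSectionVars false
set_option linter.unusedVariables false

namespace Cfsg.Agent.Helper7.AutPSL

open Matrix Cfsg.Agent.Helper2.RootSLn Cfsg.Agent.Helper7.GraphPSL

variable {n : ℕ} {F : Type*} [Field F]

theorem single_dot_single_of_ne {i j : Fin n} (hij : i ≠ j) :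
    (Pi.single j 1 : Fin n → F) ⬝ᵥ (Pi.single i 1 : Fin n → F) = 0 := by
  rw [single_dot_single, if_neg hij.symm]

/-- the elementary root element `1 + a E_ij` of `SL_n` -/
def xs (i j : Fin n) (hij : i ≠ j) (a : F) : Matrix.SpecialLinearGroup (Fin n) F :=
  ts (Pi.single i 1) (Pi.single j 1) (single_dot_single_of_ne hij) a

theorem xs_coe (i j : Fin n) (hij : i ≠ j) (a : F) :
    ((xs i j hij a : Matrix.SpecialLinearGroup (Fin n) F) : Matrix (Fin n) (Fin n) F)
      = 1 + Matrix.single i j a := by
  unfold xs
  rw [coe_ts, ← transvection_eq_tm, Matrix.transvection]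

theorem xs_mem_X (i j : Fin n) (hij : i ≠ j) (a : F) :
    xs i j hij a ∈ X (Pi.single i 1 : Fin n → F) (Pi.single j 1) :=
  ts_mem_X _ a

theorem xs_mem_USL {i j : Fin n} (hij : i < j) (a : F) : xs i j hij.ne a ∈ USL n F := by
  rw [mem_USL, xs_coe]
  constructor
  · intro k l hkl
    have hkl' : l < k := hkl
    rw [Matrix.add_apply, Matrix.one_apply_ne hkl'.ne', zero_add, Matrix.single_apply_of_ne]
    rintro ⟨rfl, rfl⟩
    exact lt_asymm hij hkl'
  · intro k
    rw [Matrix.add_apply, Matrix.one_apply_eq, Matrix.single_apply_of_ne, add_zero]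
    rintro ⟨rfl, rfl⟩
    exact lt_irrefl _ hij

section center

variable (i0 il : Fin n) (h0 : ∀ j : Fin n, i0 ≤ j) (hl : ∀ j : Fin n, j ≤ il) (hne : i0 ≠ il)

include h0 hl hne in
theorem X_le_USL : X (Pi.single i0 1 : Fin n → F) (Pi.single il 1) ≤ USL n F := by
  intro g hg
  obtain ⟨c, rfl⟩ := (mem_X (single_dot_single_of_ne hne)).1 hg
  exact xs_mem_USL (lt_of_le_of_ne (h0 il) hne) c

include h0 hl hne in
/-- the root group `X e_first e_last` is central in `USL` -/
theorem X_le_centralizer_USL :
    X (Pi.single i0 1 : Fin n → F) (Pi.single il 1) ≤ Subgroup.centralizer (USL n F : Set _) := by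
  intro g hg
  obtain ⟨c, rfl⟩ := (mem_X (single_dot_single_of_ne hne)).1 hg
  rw [Subgroup.mem_centralizer_iff]
  intro u hu
  have hu' : u ∈ USL n F := hu
  apply Subtype.ext
  change ((u * xs i0 il hne c : Matrix.SpecialLinearGroup (Fin n) F) : Matrix (Fin n) (Fin n) F)
    = ((xs i0 il hne c * u : Matrix.SpecialLinearGroup (Fin n) F) : Matrix (Fin n) (Fin n) F)
  rw [Matrix.SpecialLinearGroup.coe_mul, Matrix.SpecialLinearGroup.coe_mul, xs_coe, Matrix.mul_add,
    Matrix.add_mul, Matrix.mul_one, Matrix.one_mul]
  congr 1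
  ext k l
  by_cases hk : k = i0
  · subst hk
    rw [Matrix.single_mul_apply_same]
    by_cases hl' : l = il
    · subst hl'
      rw [Matrix.mul_single_apply_same, (mem_USL.1 hu').2, (mem_USL.1 hu').2]
      ring
    · rw [Matrix.mul_single_apply_of_ne (hbj := hl'), USL_apply_of_lt hu' (lt_of_le_of_ne (hl l) hl'),
        mul_zero]
  · rw [Matrix.single_mul_apply_of_ne (h := hk)]
    by_cases hl' : l = il
    · subst hl'
      rw [Matrix.mul_single_apply_same,
        USL_apply_of_lt hu' (lt_of_le_of_ne (h0 k) (Ne.symm hk)), zero_mul]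
    · rw [Matrix.mul_single_apply_of_ne (hbj := hl')]

include h0 hl hne in
/-- the centre of `USL` is the root group `X e_first e_last` -/
theorem USL_inf_centralizer :
    USL n F ⊓ Subgroup.centralizer (USL n F : Set _)
      = X (Pi.single i0 1 : Fin n → F) (Pi.single il 1) := by
  apply le_antisymm
  · rintro z ⟨hz, hzc⟩
    have hz' : z ∈ USL n F := hz
    have hzc' : z ∈ Subgroup.centralizer (USL n F : Set _) := hzc
    rw [Subgroup.mem_centralizer_iff] at hzc'
    -- commutation with an elementary root element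
    have key : ∀ (i j : Fin n) (hij : i < j),
        (z : Matrix (Fin n) (Fin n) F) * Matrix.single i j (1 : F)
          = Matrix.single i j (1 : F) * (z : Matrix (Fin n) (Fin n) F) := by
      intro i j hij
      have h1 := congrArg Subtype.val (hzc' _ (xs_mem_USL hij (1 : F)))
      change ((xs i j hij.ne 1 * z : Matrix.SpecialLinearGroup (Fin n) F) : Matrix (Fin n) (Fin n) F)
        = ((z * xs i j hij.ne 1 : Matrix.SpecialLinearGroup (Fin n) F) : Matrix (Fin n) (Fin n) F)
        at h1
      rw [Matrix.SpecialLinearGroup.coe_mul, Matrix.SpecialLinearGroup.coe_mul, xs_coe,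
        Matrix.mul_add, Matrix.add_mul, Matrix.mul_one, Matrix.one_mul] at h1
      exact (add_left_cancel h1).symm
    -- columns other than the last are trivial off the diagonal
    have hcol : ∀ k i : Fin n, i ≠ il → k ≠ i → (z : Matrix (Fin n) (Fin n) F) k i = 0 := by
      intro k i hi hk
      have h1 := congrFun (congrFun (key i il (lt_of_le_of_ne (hl i) hi)) k) il
      rw [Matrix.mul_single_apply_same, Matrix.single_mul_apply_of_ne (h := hk), mul_one] at h1
      exact h1
    -- rows other than the first are trivial off the diagonal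
    have hrow : ∀ j l : Fin n, j ≠ i0 → l ≠ j → (z : Matrix (Fin n) (Fin n) F) j l = 0 := by
      intro j l hj hl'
      have h1 := congrFun (congrFun (key i0 j (lt_of_le_of_ne (h0 j) (Ne.symm hj))) i0) l
      rw [Matrix.mul_single_apply_of_ne (hbj := hl'), Matrix.single_mul_apply_same, one_mul] at h1
      exact h1.symm
    rw [mem_X (single_dot_single_of_ne hne)]
    refine ⟨(z : Matrix (Fin n) (Fin n) F) i0 il, ?_⟩
    apply Subtype.ext
    change (z : Matrix (Fin n) (Fin n) F) = ((xs i0 il hne _ : Matrix.SpecialLinearGroup (Fin n) F) :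
      Matrix (Fin n) (Fin n) F)
    rw [xs_coe]
    ext k l
    rw [Matrix.add_apply]
    by_cases hkl : k = l
    · subst hkl
      rw [(mem_USL.1 hz').2, Matrix.one_apply_eq, Matrix.single_apply_of_ne, add_zero]
      rintro ⟨rfl, rfl⟩
      exact hne rfl
    · rw [Matrix.one_apply_ne hkl, zero_add]
      by_cases hl' : l = il
      · by_cases hk : k = i0
        · subst hl' hk
          rw [Matrix.single_apply_same]
        · rw [hrow k l hk (Ne.symm hkl), Matrix.single_apply_of_ne]
          rintro ⟨rfl, -⟩
          exact hk rfl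
      · rw [hcol k l hl' hkl, Matrix.single_apply_of_ne]
        rintro ⟨-, rfl⟩
        exact hl' rfl
  · exact le_inf (X_le_USL i0 il h0 hl hne) (X_le_centralizer_USL i0 il h0 hl hne)

end center

end Cfsg.Agent.Helper7.AutPSL
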