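import Mathlib
import Cfsg.Prelude.Def_GeometricClasses

set_option autoImplicit false
set_option linter.unusedSectionVars false
set_option linter.style.haveILetI false

/-! Membership in the subfield subgroup `GL_n(F₀) · scalars` of `SL_n(F)`. -/

namespace Cfsg.Agent.Helper7.SubF

open Matrix Cfsg.Geo

variable {F : Type*} [Field F] {n : ℕ}

/-- membership in the subfield group (no change of basis). -/
theorem mem_subfieldSubgroup_one_iff (F₀ : Subfield F) (g : GL (Fin n) F) :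
    g ∈ subfieldSubgroup F₀ (1 : GL (Fin n) F) ↔
      ∃ (g₀ : GL (Fin n) F₀) (μ : Fˣ),
        (g : Matrix (Fin n) (Fin n) F) =
          (μ : F) • (g₀ : Matrix (Fin n) (Fin n) F₀).map F₀.subtype := by
  have h1 : (MulAut.conj (1 : GL (Fin n) F)).toMonoidHom = MonoidHom.id _ := by
    ext x : 1
    simp
  rw [subfieldSubgroup, h1, Subgroup.map_id, ← SetLike.mem_coe, Subgroup.mul_normal, Set.mem_mul]
  constructor
  · rintro ⟨a, ⟨g₀, rfl⟩, b, hb, rfl⟩
    obtain ⟨μ, hμ⟩ := (mem_scalars_iff b).1 hb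
    refine ⟨g₀, μ, ?_⟩
    rw [Units.val_mul, hμ, Matrix.mul_smul, Matrix.mul_one]
    rfl
  · rintro ⟨g₀, μ, h⟩
    refine ⟨Matrix.GeneralLinearGroup.map F₀.subtype g₀, ⟨g₀, rfl⟩,
      Units.map (Matrix.scalar (Fin n) : F →+* Matrix (Fin n) (Fin n) F).toMonoidHom μ,
      ⟨μ, rfl⟩, ?_⟩
    apply Units.ext
    rw [Units.val_mul, h]
    show (g₀ : Matrix (Fin n) (Fin n) F₀).map F₀.subtype * Matrix.scalar (Fin n) (μ : F) = _
    rw [Matrix.scalar_apply, ← Matrix.smul_one_eq_diagonal, Matrix.mul_smul, Matrix.mul_one]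

/-- membership in the subfield-type subgroup of `SL_n(F)`, matrix form. -/
theorem mem_subfieldH_of (F₀ : Subfield F) (g : Matrix.SpecialLinearGroup (Fin n) F)
    (M₀ : Matrix (Fin n) (Fin n) F₀) (μ : F) (hμ : μ ≠ 0)
    (h : (g : Matrix (Fin n) (Fin n) F) = μ • M₀.map F₀.subtype) :
    g ∈ (subfieldSubgroup F₀ (1 : GL (Fin n) F)).comap
      (Matrix.SpecialLinearGroup.toGL : Matrix.SpecialLinearGroup (Fin n) F →* GL (Fin n) F) := by
  rw [Subgroup.mem_comap, mem_subfieldSubgroup_one_iff]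
  have hdet : (μ • M₀.map F₀.subtype).det = 1 := by rw [← h]; exact g.2
  rw [Matrix.det_smul, ← RingHom.mapMatrix_apply, ← RingHom.map_det] at hdet
  have hd0 : M₀.det ≠ 0 := by
    intro h0
    rw [h0, map_zero, mul_zero] at hdet
    exact zero_ne_one hdet
  refine ⟨Matrix.GeneralLinearGroup.mkOfDetNeZero M₀ hd0, Units.mk0 μ hμ, ?_⟩
  rw [Matrix.SpecialLinearGroup.coe_GL_coe_matrix, h]
  rfl

/-- membership in the subfield-type subgroup of `SL_n(F)`, matrix form (converse). -/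
theorem exists_of_mem_subfieldH (F₀ : Subfield F) (g : Matrix.SpecialLinearGroup (Fin n) F)
    (h : g ∈ (subfieldSubgroup F₀ (1 : GL (Fin n) F)).comap
      (Matrix.SpecialLinearGroup.toGL : Matrix.SpecialLinearGroup (Fin n) F →* GL (Fin n) F)) :
    ∃ (M₀ : Matrix (Fin n) (Fin n) F₀) (μ : F), μ ≠ 0 ∧
      (g : Matrix (Fin n) (Fin n) F) = μ • M₀.map F₀.subtype := by
  rw [Subgroup.mem_comap, mem_subfieldSubgroup_one_iff] at h
  obtain ⟨g₀, μ, h1⟩ := h
  exact ⟨g₀, μ, μ.ne_zero, h1⟩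

end Cfsg.Agent.Helper7.SubF
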