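import Mathlib
import Cfsg.Prelude.Def_PLocal
import Cfsg.Agent.Helper7.FFThompson
import Cfsg.Agent.Helper26.Thompson

set_option autoImplicit false
set_option linter.style.haveILetI false
set_option linter.unusedSectionVars false

/-! # `[Ω₁(Z(J(C_G(V)))), J(G)] ≤ V` in `p`-solvable groups (KS 9.3) -/

namespace Cfsg.Agent.Helper7

open Subgroup Cfsg
open scoped commutatorElement

variable {G : Type*} [Group G]

/-- The image of `J(G)` in `V ⋊ G/C_G(V)` satisfies the FF-module standing hypotheses. -/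
theorem ffSetup_thompson [Finite G] {p : ℕ} [hp : Fact p.Prime] (hsep : Cfsg.IsPSolvable p G)
    (V : Subgroup G) [V.Normal] (hVel : IsElementaryAbelian p V)
    (hOp : Cfsg.pCore p (G ⧸ centralizer (V : Set G)) = ⊥) :
    FFSetup p (ffV V) ((Cfsg.thompsonSubgroup p G).map (ffIota V)) := by
  set J : Subgroup G := Cfsg.thompsonSubgroup p G with hJdef
  set H' : Subgroup (FFGamma V) := J.map (ffIota V) with hH'
  have hS1 : centralizer (Cfsg.pPrimeCore p ↥H' : Set ↥H') ≤ Cfsg.pPrimeCore p ↥H' := by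
    set Jb : Subgroup (G ⧸ centralizer (V : Set G)) :=
      J.map (QuotientGroup.mk' (centralizer (V : Set G))) with hJb
    have hJn : J.Normal := by
      haveI : (Cfsg.thompsonSubgroup p G).Characteristic :=
        Cfsg.Agent.Helper26.thompsonSubgroup_characteristic p
      infer_instance
    have hJbn : Jb.Normal :=
      Subgroup.Normal.map hJn _ (QuotientGroup.mk'_surjective _)
    have hsolv : Cfsg.IsPSolvable p ↥Jb :=
      Cfsg.Agent.Helper21.PSolv.isPSolvable_subgroup hp.out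
        (Cfsg.Agent.Lead.isPSolvable_quotient hsep _) Jb
    have hOpJ : Cfsg.pCore p ↥Jb = ⊥ := by
      have hsub : ((Cfsg.pCore p ↥Jb).map Jb.subtype).IsSubnormal :=
        Subgroup.IsSubnormal.trans' (Subgroup.Normal.isSubnormal inferInstance)
          (Subgroup.Normal.isSubnormal hJbn)
      have hpg : IsPGroup p ↥((Cfsg.pCore p ↥Jb).map Jb.subtype) :=
        (Cfsg.Agent.Helper19.pCore_isPGroup p).map _
      have hle := Cfsg.Agent.Helper14.le_pCore_of_isSubnormal hsub hpg
      rw [hOp, le_bot_iff] at hle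
      exact (Subgroup.map_eq_bot_iff_of_injective _ Jb.subtype_injective).mp hle
    have h0 := centralizer_pPrimeCore_le_of_isPSolvable hsolv hOpJ
    have hmap : Jb.map SemidirectProduct.inr = H' := by
      rw [hH', hJb, Subgroup.map_map]
      rfl
    exact centralizer_pPrimeCore_le_of_mulEquiv
      ((Jb.equivMapOfInjective _ SemidirectProduct.inr_injective).trans
        (MulEquiv.subgroupCongr hmap)) h0
  exact ⟨ffV_isElementaryAbelian V hVel, by
      rw [normalizer_eq_top_iff.mpr (inferInstance : (ffV V).Normal)]; exact le_top,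
      map_ffIota_inf_centralizer V J, hS1⟩

/-- The image of `J(G)` is generated by best offenders. -/
theorem thompson_map_eq_iSup [Finite G] {p : ℕ} [hp : Fact p.Prime]
    (V : Subgroup G) [V.Normal] (hVel : IsElementaryAbelian p V) :
    (Cfsg.thompsonSubgroup p G).map (ffIota V) =
      ⨆ A : {A : Subgroup (FFGamma V) // A ≤ (Cfsg.thompsonSubgroup p G).map (ffIota V) ∧
        IsBestOffenderOn p (ffV V) A}, (A : Subgroup (FFGamma V)) := by
  apply le_antisymm
  · rw [map_le_iff_le_comap]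
    unfold Cfsg.thompsonSubgroup
    apply sSup_le
    intro A hA
    rw [← map_le_iff_le_comap]
    have hAJ : A ≤ sSup (Cfsg.maxElementaryAbelianSubgroups p G) := le_sSup hA
    exact le_iSup (fun A : {A : Subgroup (FFGamma V) //
        A ≤ (sSup (Cfsg.maxElementaryAbelianSubgroups p G)).map (ffIota V) ∧
        IsBestOffenderOn p (ffV V) A} => (A : Subgroup (FFGamma V)))
      ⟨A.map (ffIota V), map_mono hAJ,
        isBestOffenderOn_map_ffIota V (Cfsg.Agent.S0606.result V hVel A hA)⟩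
  · exact iSup_le (fun A => A.2.1)

/-- No over-offenders: `|A| |C_V(A)| = |V| |C_A(V)|` for `A ∈ 𝒜(G)`. -/
theorem card_mul_of_mem_maxElementaryAbelian [Finite G] {p : ℕ} [hp : Fact p.Prime]
    (hsep : Cfsg.IsPSolvable p G)
    (V : Subgroup G) [V.Normal] (hVel : IsElementaryAbelian p V)
    (hOp : Cfsg.pCore p (G ⧸ centralizer (V : Set G)) = ⊥) {A : Subgroup G}
    (hA : A ∈ Cfsg.maxElementaryAbelianSubgroups p G) :
    Nat.card A * Nat.card ↥(V ⊓ centralizer (A : Set G)) =
      Nat.card V * Nat.card ↥(A ⊓ centralizer (V : Set G)) := by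
  have hS := ffSetup_thompson hsep V hVel hOp
  have hAJ : A ≤ Cfsg.thompsonSubgroup p G := le_sSup hA
  have hbo := isBestOffenderOn_map_ffIota V (Cfsg.Agent.S0606.result V hVel A hA)
  have h1 := hS.card_mul_card_centralizer _ _ rfl (map_mono hAJ) hbo
  rw [card_ffV_inf_centralizer_map, card_ffV] at h1
  have h2 := card_map_ffIota_mul V A
  calc Nat.card A * Nat.card ↥(V ⊓ centralizer (A : Set G))
      = (Nat.card ↥(A.map (ffIota V)) * Nat.card ↥(A ⊓ centralizer (V : Set G))) *
          Nat.card ↥(V ⊓ centralizer (A : Set G)) := by rw [h2]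
    _ = (Nat.card ↥(A.map (ffIota V)) * Nat.card ↥(V ⊓ centralizer (A : Set G))) *
          Nat.card ↥(A ⊓ centralizer (V : Set G)) := by ring
    _ = Nat.card V * Nat.card ↥(A ⊓ centralizer (V : Set G)) := by rw [h1]

/-- `V · C_A(V) ∈ 𝒜(G)` for `A ∈ 𝒜(G)`. -/
theorem sup_inf_centralizer_mem_maxElementaryAbelian [Finite G] {p : ℕ} [hp : Fact p.Prime]
    (hsep : Cfsg.IsPSolvable p G)
    (V : Subgroup G) [V.Normal] (hVel : IsElementaryAbelian p V)
    (hOp : Cfsg.pCore p (G ⧸ centralizer (V : Set G)) = ⊥) {A : Subgroup G}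
    (hA : A ∈ Cfsg.maxElementaryAbelianSubgroups p G) :
    V ⊔ (A ⊓ centralizer (V : Set G)) ∈ Cfsg.maxElementaryAbelianSubgroups p G := by
  have hel : IsElementaryAbelian p (V ⊔ (A ⊓ centralizer (V : Set G))) := by
    apply Cfsg.Agent.Helper26.isElementaryAbelian_sup hVel
      (Cfsg.Agent.Helper26.isElementaryAbelian_of_le hA.1 inf_le_left)
    intro v hv c hc
    exact ((mem_centralizer_iff.mp hc.2) v hv)
  refine ⟨hel, fun B hB => (hA.2 B hB).trans ?_⟩
  have h1 := card_mul_of_mem_maxElementaryAbelian hsep V hVel hOp hA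
  have hN : A ⊓ centralizer (V : Set G) ≤ normalizer (V : Set G) := by
    rw [normalizer_eq_top_iff.mpr (inferInstance : V.Normal)]; exact le_top
  have h2 := Cfsg.Agent.Helper17.card_sup_mul_card_inf V (A ⊓ centralizer (V : Set G)) hN
  have hAc : A ≤ centralizer (A : Set G) := by
    intro a ha
    rw [mem_centralizer_iff]
    intro b hb
    exact Cfsg.Agent.Helper26.isElementaryAbelian_commute hA.1 hb ha
  have h3 : Nat.card ↥(V ⊓ (A ⊓ centralizer (V : Set G))) ≤
      Nat.card ↥(V ⊓ centralizer (A : Set G)) :=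
    card_le_of_le (inf_le_inf_left V (inf_le_left.trans hAc))
  have hpos : 0 < Nat.card ↥(V ⊓ (A ⊓ centralizer (V : Set G))) := Nat.card_pos
  have h4 : Nat.card A * Nat.card ↥(V ⊓ (A ⊓ centralizer (V : Set G))) ≤
      Nat.card ↥(V ⊔ (A ⊓ centralizer (V : Set G))) *
        Nat.card ↥(V ⊓ (A ⊓ centralizer (V : Set G))) := by
    rw [h2, ← h1]
    exact Nat.mul_le_mul_left _ h3
  exact Nat.le_of_mul_le_mul_right h4 hpos

/-- KS 9.3: `[Ω₁(Z(J(C_G(V)))), J(G)] ≤ V` (= S0619). -/
theorem omegaOne_centerThompson_commutator_le [Finite G] {p : ℕ} [hp : Fact p.Prime]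
    (hsep : Cfsg.IsPSolvable p G)
    (V : Subgroup G) [V.Normal] (hVel : IsElementaryAbelian p V)
    (hOp : Cfsg.pCore p (G ⧸ centralizer (V : Set G)) = ⊥) :
    ⁅Cfsg.omegaOne p (Cfsg.centerThompsonOf p (centralizer (V : Set G))),
      Cfsg.thompsonSubgroup p G⁆ ≤ V := by
  set C : Subgroup G := centralizer (V : Set G) with hC
  have hVn : ∀ g : G, ∀ w ∈ V, g * w * g⁻¹ ∈ V :=
    fun g w hw => Subgroup.Normal.conj_mem inferInstance w hw g
  have hVC : V ≤ C := by
    intro v hv
    rw [hC, mem_centralizer_iff]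
    intro w hw
    exact Cfsg.Agent.Helper26.isElementaryAbelian_commute hVel hw hv
  -- key: for `A ∈ 𝒜(G)`, `Ω₁(Z(J(C))) ≤ V (A ∩ C)`
  have key : ∀ A ∈ Cfsg.maxElementaryAbelianSubgroups p G,
      Cfsg.omegaOne p (Cfsg.centerThompsonOf p C) ≤ V ⊔ (A ⊓ C) := by
    intro A hA
    have hA' := sup_inf_centralizer_mem_maxElementaryAbelian hsep V hVel hOp hA
    have hA'C : V ⊔ (A ⊓ C) ≤ C := sup_le hVC inf_le_right
    have hA'J := Cfsg.Agent.Helper26.le_thompsonSubgroupOf hA' hA'C
    unfold Cfsg.omegaOne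
    rw [closure_le]
    rintro x ⟨hx1, hx2⟩
    apply Cfsg.Agent.Helper26.mem_of_mem_maxElementaryAbelianSubgroups_of_commute hA' hx2
    intro a ha
    have hxc : x ∈ centralizer (Cfsg.thompsonSubgroupOf p C : Set G) := hx1.2
    exact (mem_centralizer_iff.mp hxc) a (hA'J ha)
  rw [commutator_comm]
  unfold Cfsg.thompsonSubgroup
  rw [sSup_eq_iSup', iSup_eq_closure]
  apply Cfsg.Agent.Helper10.commutator_closure_le (fun g _ w hw => hVn g w hw)
  intro s hs y hy
  rw [Set.mem_iUnion] at hs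
  obtain ⟨⟨A, hA⟩, hsA⟩ := hs
  have hsA' : s ∈ A := hsA
  have hy' := key A hA hy
  -- `[A, V (A ∩ C)] ≤ V`
  have hcomm : ⁅V ⊔ (A ⊓ C), A⁆ ≤ V := by
    apply Cfsg.Agent.Helper10.commutator_sup_le_of_conj_mem (fun g _ w hw => hVn g w hw)
    · exact Subgroup.commutator_le_left V A
    · have : ⁅A ⊓ C, A⁆ = ⊥ := by
        rw [eq_bot_iff, commutator_le]
        intro a ha b hb
        rw [mem_bot, commutatorElement_eq_one_iff_mul_comm]
        exact Cfsg.Agent.Helper26.isElementaryAbelian_commute hA.1 ha.1 hb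
      rw [this]
      exact bot_le
  have h5 : ⁅y, s⁆ ∈ V := hcomm (commutator_mem_commutator hy' hsA')
  have h6 : ⁅s, y⁆ = ⁅y, s⁆⁻¹ := (commutatorElement_inv y s).symm
  rw [h6]
  exact inv_mem h5

end Cfsg.Agent.Helper7
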