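import Mathlib

set_option autoImplicit false
set_option linter.style.haveILetI false
set_option linter.unusedSectionVars false

/-! # Diagonal homomorphism for a regularly permuted commuting family of conjugates -/

namespace Cfsg.Agent.Helper7

open Subgroup

variable {Γ : Type*} [Group Γ]

/-- Let `X`, `P` be subgroups of `Γ` such that for every `x ∈ X` not centralizing `P` the conjugate
`x P x⁻¹` commutes elementwise with `P`.  Then there is a homomorphism `δ : P → Γ` (the product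
of the distinct `X`-conjugates) with values centralized by `X`. -/
theorem exists_diagHom [Finite Γ] (X P : Subgroup Γ)
    (hcomm : ∀ x ∈ X, x ∉ centralizer (P : Set Γ) → ∀ g ∈ P, ∀ h ∈ P,
      Commute (x * g * x⁻¹) h) :
    ∃ δ : ↥P →* Γ,
      (∀ g, δ g ∈ centralizer (X : Set Γ)) ∧
      (∀ R : Subgroup Γ, X ≤ normalizer (R : Set Γ) → ∀ g : ↥P, (g : Γ) ∈ R → δ g ∈ R) ∧
      (∀ g : ↥P, ∃ f : Γ, f ∈ centralizer (P : Set Γ) ∧ δ g = g * f) := by
  classical
  obtain ⟨X₁, hX₁⟩ : ∃ X₁ : Subgroup ↥X, ∀ x : ↥X, x ∈ X₁ ↔ (x : Γ) ∈ centralizer (P : Set Γ) :=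
    ⟨(centralizer (P : Set Γ)).subgroupOf X, fun x => mem_subgroupOf⟩
  haveI : Fintype (↥X ⧸ X₁) := Fintype.ofFinite _
  let r : ↥X ⧸ X₁ → Γ := fun c => ((Quotient.out c : ↥X) : Γ)
  have hrX : ∀ c, r c ∈ X := fun c => (Quotient.out c : ↥X).2
  let ϕ : ↥X ⧸ X₁ → (↥P →* Γ) := fun c => (MulAut.conj (r c)).toMonoidHom.comp P.subtype
  have hϕ : ∀ c (g : ↥P), ϕ c g = r c * g * (r c)⁻¹ := fun c g => rfl
  -- distinct cosets give commuting conjugates
  have hpair : Pairwise fun c c' : ↥X ⧸ X₁ => ∀ x y : ↥P, Commute (ϕ c x) (ϕ c' y) := by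
    intro c c' hne x y
    have hz : (Quotient.out c' : ↥X)⁻¹ * (Quotient.out c : ↥X) ∉ X₁ := by
      intro h
      apply hne
      have : (QuotientGroup.mk (Quotient.out c') : ↥X ⧸ X₁) = QuotientGroup.mk (Quotient.out c) :=
        QuotientGroup.eq.mpr h
      rw [QuotientGroup.out_eq', QuotientGroup.out_eq'] at this
      exact this.symm
    have hz' : (r c')⁻¹ * r c ∉ centralizer (P : Set Γ) := by
      intro h
      apply hz
      rw [hX₁]
      simpa using h
    have h1 := hcomm ((r c')⁻¹ * r c) (mul_mem (inv_mem (hrX c')) (hrX c)) hz' x x.2 y y.2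
    have h2 : Commute (r c' * ((r c')⁻¹ * r c * (x : Γ) * ((r c')⁻¹ * r c)⁻¹) * (r c')⁻¹)
        (r c' * (y : Γ) * (r c')⁻¹) := by
      have := h1.map (MulAut.conj (r c')).toMonoidHom
      simpa [MulAut.conj_apply] using this
    have e : r c' * ((r c')⁻¹ * r c * (x : Γ) * ((r c')⁻¹ * r c)⁻¹) * (r c')⁻¹ =
        r c * (x : Γ) * (r c)⁻¹ := by group
    rw [e] at h2
    rw [hϕ, hϕ]
    exact h2
  let Δ : (↥X ⧸ X₁ → ↥P) →* Γ := MonoidHom.noncommPiCoprod ϕ hpair
  let dg : ↥P →* (↥X ⧸ X₁ → ↥P) := MonoidHom.pi (fun _ => MonoidHom.id ↥P)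
  have hdg : ∀ g c, dg g c = g := fun g c => rfl
  -- equivariance
  have hequiv : ∀ (y : ↥X) (c : ↥X ⧸ X₁) (g : ↥P),
      ϕ (y • c) g = (y : Γ) * ϕ c g * (y : Γ)⁻¹ := by
    intro y c g
    have h1 : (QuotientGroup.mk (y * Quotient.out c) : ↥X ⧸ X₁) =
        QuotientGroup.mk (Quotient.out (y • c)) := by
      rw [QuotientGroup.out_eq']
      have : (QuotientGroup.mk (y * Quotient.out c) : ↥X ⧸ X₁) =
          y • (QuotientGroup.mk (Quotient.out c) : ↥X ⧸ X₁) := rfl
      rw [this, QuotientGroup.out_eq']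
    have h2 : (y * Quotient.out c)⁻¹ * Quotient.out (y • c) ∈ X₁ := QuotientGroup.eq.mp h1
    rw [hX₁] at h2
    set s : Γ := (((y * Quotient.out c)⁻¹ * Quotient.out (y • c) : ↥X) : Γ) with hs
    have hs' : r (y • c) = (y : Γ) * r c * s := by
      rw [hs]
      simp only [Subgroup.coe_mul, Subgroup.coe_inv, r]
      group
    have hsg : s * (g : Γ) * s⁻¹ = g := by
      have := (mem_centralizer_iff.mp h2) (g : Γ) g.2
      rw [← this, mul_inv_cancel_right]
    rw [hϕ, hϕ, hs']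
    calc (y : Γ) * r c * s * (g : Γ) * ((y : Γ) * r c * s)⁻¹
        = (y : Γ) * (r c * (s * (g : Γ) * s⁻¹) * (r c)⁻¹) * (y : Γ)⁻¹ := by group
      _ = (y : Γ) * (r c * (g : Γ) * (r c)⁻¹) * (y : Γ)⁻¹ := by rw [hsg]
  let T : ↥X → ((↥X ⧸ X₁ → ↥P) →* (↥X ⧸ X₁ → ↥P)) := fun y =>
    MonoidHom.pi (fun c' => Pi.evalMonoidHom (fun _ : ↥X ⧸ X₁ => ↥P) (y⁻¹ • c'))
  have hT : ∀ y f c', T y f c' = f (y⁻¹ • c') := fun y f c' => rfl
  have hinv : ∀ y : ↥X, (MulAut.conj (y : Γ)).toMonoidHom.comp Δ = Δ.comp (T y) := by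
    intro y
    apply MonoidHom.pi_ext
    intro c g
    have h1 : T y (Pi.mulSingle c g) = Pi.mulSingle (y • c) g := by
      funext c'
      rw [hT, Pi.mulSingle_apply, Pi.mulSingle_apply]
      by_cases h : c' = y • c
      · rw [if_pos h, if_pos (by rw [h, inv_smul_smul])]
      · rw [if_neg h, if_neg (by
          intro h'
          apply h
          rw [← h', smul_inv_smul])]
    rw [MonoidHom.comp_apply, MonoidHom.comp_apply, h1]
    change (MulAut.conj (y : Γ)).toMonoidHom (MonoidHom.noncommPiCoprod ϕ hpair (Pi.mulSingle c g)) =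
      MonoidHom.noncommPiCoprod ϕ hpair (Pi.mulSingle (y • c) g)
    rw [MonoidHom.noncommPiCoprod_mulSingle, MonoidHom.noncommPiCoprod_mulSingle, hequiv]
    rfl
  refine ⟨Δ.comp dg, ?_, ?_, ?_⟩
  · intro g
    rw [mem_centralizer_iff]
    intro y hy
    have h1 := DFunLike.congr_fun (hinv ⟨y, hy⟩) (dg g)
    rw [MonoidHom.comp_apply, MonoidHom.comp_apply] at h1
    have h2 : T ⟨y, hy⟩ (dg g) = dg g := by
      funext c'
      rw [hT, hdg, hdg]
    rw [h2] at h1
    have h3 : y * Δ (dg g) * y⁻¹ = Δ (dg g) := h1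
    rw [MonoidHom.comp_apply]
    calc y * Δ (dg g) = y * Δ (dg g) * y⁻¹ * y := by group
      _ = Δ (dg g) * y := by rw [h3]
  · intro R hR g hg
    rw [MonoidHom.comp_apply]
    change MonoidHom.noncommPiCoprod ϕ hpair (dg g) ∈ R
    rw [MonoidHom.noncommPiCoprod_apply]
    apply Subgroup.noncommProd_mem
    intro c _
    rw [hdg, hϕ]
    exact (mem_normalizer_iff.mp (hR (hrX c)) _).mp hg
  · intro g
    set c₀ : ↥X ⧸ X₁ := QuotientGroup.mk 1 with hc₀
    have hr₀ : r c₀ ∈ centralizer (P : Set Γ) := by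
      have h1 : (QuotientGroup.mk (1 : ↥X) : ↥X ⧸ X₁) = QuotientGroup.mk (Quotient.out c₀) := by
        rw [QuotientGroup.out_eq']
      have h2 := QuotientGroup.eq.mp h1
      rw [inv_one, one_mul, hX₁] at h2
      exact h2
    have hϕ₀ : ∀ g : ↥P, ϕ c₀ g = g := by
      intro g
      rw [hϕ]
      have := (mem_centralizer_iff.mp hr₀) (g : Γ) g.2
      rw [← this, mul_inv_cancel_right]
    set g' : ↥X ⧸ X₁ → ↥P := Function.update (dg g) c₀ 1 with hg'
    have hsplit : dg g = Pi.mulSingle c₀ g * g' := by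
      funext c
      rw [Pi.mul_apply, Pi.mulSingle_apply, hg', Function.update_apply, hdg]
      by_cases h : c = c₀
      · rw [if_pos h, if_pos h, mul_one]
      · rw [if_neg h, if_neg h, one_mul]
    refine ⟨Δ g', ?_, ?_⟩
    · rw [mem_centralizer_iff]
      intro h hh
      have hh' : h ∈ P := hh
      change h * MonoidHom.noncommPiCoprod ϕ hpair g' = MonoidHom.noncommPiCoprod ϕ hpair g' * h
      rw [MonoidHom.noncommPiCoprod_apply]
      apply Finset.noncommProd_commute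
      intro c _
      by_cases hc : c = c₀
      · rw [hc, hg', Function.update_self, map_one]
        exact Commute.one_right h
      · have := hpair (Ne.symm hc) ⟨h, hh'⟩ (g' c)
        rw [hϕ₀] at this
        exact this
    · rw [MonoidHom.comp_apply, hsplit, map_mul]
      change MonoidHom.noncommPiCoprod ϕ hpair (Pi.mulSingle c₀ g) * _ = _
      rw [MonoidHom.noncommPiCoprod_mulSingle, hϕ₀]

end Cfsg.Agent.Helper7
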