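import Mathlib
import Cfsg.Prelude.Def_PLocal
import Cfsg.Agent.Helper7.FFModule9
import Cfsg.Agent.Helper7.PPrimeCore
import Cfsg.Agent.Helper7.DiagHom
import Cfsg.Agent.Helper7.FFThompson

set_option autoImplicit false
set_option linter.style.haveILetI false
set_option linter.unusedSectionVars false

/-! # Coprime operator groups on FF-modules (KS 9.3, abstract part) -/

namespace Cfsg.Agent.Helper7

open Subgroup Cfsg
open scoped commutatorElement

variable {G : Type*} [Group G]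

/-- `O_{p'}(H)` is normalized by `N_G(H)`. -/
theorem map_conj_ffQ [Finite G] (p : ℕ) {H : Subgroup G} {x : G}
    (hx : x ∈ normalizer (H : Set G)) :
    (ffQ p H).map (MulAut.conj x).toMonoidHom = ffQ p H := by
  have hle : ∀ y ∈ normalizer (H : Set G),
      (ffQ p H).map (MulAut.conj y).toMonoidHom ≤ ffQ p H := by
    intro y hy
    set Q' : Subgroup G := (ffQ p H).map (MulAut.conj y).toMonoidHom with hQ'
    have hQ'H : Q' ≤ H :=
      calc Q' ≤ H.map (MulAut.conj y).toMonoidHom := map_mono (ffQ_le p H)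
        _ = H := map_conj_eq_of_mem_normalizer hy
    have hn : (Q'.subgroupOf H).Normal := by
      have : H ≤ normalizer (Q' : Set G) := by
        intro h hh
        rw [mem_normalizer_iff_map_conj_eq', hQ', map_conj_map_conj]
        have e : h * y = y * (y⁻¹ * h * y) := by group
        have hh' : y⁻¹ * h * y ∈ H := conj_inv_mem_of_mem_normalizer hy hh
        rw [e, ← map_conj_map_conj,
          map_conj_eq_of_mem_normalizer (le_normalizer_ffQ p H hh')]
      exact (normal_subgroupOf_iff_le_normalizer hQ'H).mpr this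
    have hc : (Nat.card (Q'.subgroupOf H)).Coprime p := by
      rw [Nat.card_congr (subgroupOfEquivOfLe hQ'H).toEquiv, hQ', card_map_conj]
      exact ffQ_coprime p H
    have h1 : Q'.subgroupOf H ≤ pPrimeCore p ↥H := le_pPrimeCore hn hc
    intro g hg
    exact ⟨⟨g, hQ'H hg⟩, h1 (mem_subgroupOf.mpr hg), rfl⟩
  apply le_antisymm (hle x hx)
  have h2 := hle x⁻¹ (inv_mem hx)
  have h3 := map_mono (f := (MulAut.conj x).toMonoidHom) h2
  rw [map_conj_map_conj, mul_inv_cancel, map_conj_one] at h3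
  exact h3

theorem ffE_map_conj [Finite G] (p : ℕ) {H : Subgroup G} {x : G}
    (hx : x ∈ normalizer (H : Set G)) (A : Subgroup G) :
    (ffE p H A).map (MulAut.conj x).toMonoidHom = ffE p H (A.map (MulAut.conj x).toMonoidHom) := by
  unfold ffE
  rw [Subgroup.map_sup, map_commutator, map_conj_ffQ p hx]

theorem FFMin.map_conj' {p : ℕ} {V H A : Subgroup G} (hA : FFMin p V H A) {x : G}
    (hxV : x ∈ normalizer (V : Set G)) (hxH : x ∈ normalizer (H : Set G)) :
    FFMin p V H (A.map (MulAut.conj x).toMonoidHom) := by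
  refine ⟨?_, (card_map_conj A x).trans hA.hAp, ?_⟩
  · rw [← map_conj_eq_of_mem_normalizer hxH]
    exact map_mono hA.hAH
  · rw [commutator_map_conj hxV, card_map_conj]
    exact hA.hW

theorem card_GL2_zmod (p : ℕ) [hp : Fact p.Prime] :
    Nat.card (GL (Fin 2) (ZMod p)) = (p ^ 2 - 1) * (p ^ 2 - p) := by
  rw [Matrix.card_GL_field, ZMod.card]
  simp [Fin.prod_univ_two]

/-- An element of order dividing `q` normalizing `E_B` centralizes `[V, E_B] E_B`, when `q` does not
divide `|H|`. -/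
theorem FFSetup.mem_centralizer_of_normalizes [Finite G] {p q : ℕ} [hp : Fact p.Prime]
    [hq : Fact q.Prime] {V H : Subgroup G} (hS : FFSetup p V H) {B : Subgroup G}
    (hB : FFMin p V H B) (hqH : ¬ q ∣ Nat.card H) {x : G} (hxq : x ^ q = 1)
    (hxV : x ∈ normalizer (V : Set G))
    (hxE : x ∈ normalizer ((ffE p H B : Subgroup G) : Set G)) :
    x ∈ centralizer ((⁅V, ffE p H B⁆ ⊔ ffE p H B : Subgroup G) : Set G) := by
  set E : Subgroup G := ffE p H B with hE
  set W : Subgroup G := ⁅V, E⁆ with hW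
  have hEH : E ≤ H := ffE_le hB.hAH
  have hWV : W ≤ V := Cfsg.Agent.Lead.commutator_le_of_le_normalizer (hEH.trans hS.hHV)
  have hWel : IsElementaryAbelian p W := IsElementaryAbelian.mono hS.hV hWV
  have hWcard : Nat.card W = p ^ 2 := hS.card_commutator_ffE hB
  have hxW : x ∈ normalizer (W : Set G) := by
    rw [mem_normalizer_iff_map_conj_eq', hW, map_commutator,
      map_conj_eq_of_mem_normalizer hxV, map_conj_eq_of_mem_normalizer hxE]
  have hEW : E ≤ normalizer (W : Set G) := Cfsg.Agent.Lead.le_normalizer_commutator_right V E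
  obtain ⟨hp23, ⟨e⟩⟩ := hS.ffE_mulEquiv hB
  have hEcard : Nat.card E = p * (p ^ 2 - 1) := by
    rw [Nat.card_congr e.toEquiv, card_SL2_zmod]
  have hqE : ¬ q ∣ p * (p ^ 2 - 1) := by
    intro h
    apply hqH
    rw [← hEcard] at h
    exact h.trans (card_dvd_of_le hEH)
  -- `x` centralizes `W`
  have hxCW : x ∈ centralizer (W : Set G) := by
    by_contra hcon
    set Y : Subgroup G := zpowers x with hY
    have hx1 : x ≠ 1 := by
      rintro rfl
      exact hcon (one_mem _)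
    have hord : orderOf x = q := by
      have := orderOf_dvd_of_pow_eq_one hxq
      rcases (Nat.dvd_prime hq.out).mp this with h | h
      · exact absurd (orderOf_eq_one_iff.mp h) hx1
      · exact h
    have hYcard : Nat.card Y = q := by rw [hY, Nat.card_zpowers, hord]
    have hYW : Y ≤ normalizer (W : Set G) := (zpowers_le (H := normalizer (W : Set G))).mpr hxW
    have hfaith : Y ⊓ centralizer (W : Set G) = ⊥ := by
      rcases eq_bot_or_eq_of_le_of_card_prime (p := q) hYcard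
        (inf_le_left : Y ⊓ centralizer (W : Set G) ≤ Y) with h | h
      · exact h
      · exfalso
        apply hcon
        have : Y ≤ centralizer (W : Set G) := inf_eq_left.mp h
        exact this (mem_zpowers x)
    obtain ⟨φ, hφ⟩ := exists_injective_hom_GL W Y hWel hWcard hYW hfaith
    have hdvd : q ∣ Nat.card (GL (Fin 2) (ZMod p)) := by
      rw [← hYcard]
      exact Subgroup.card_dvd_of_injective φ hφ
    rw [card_GL2_zmod] at hdvd
    have h1 : p ^ 2 - p = p * (p - 1) := by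
      rw [sq, Nat.mul_sub_one]
    have h2 : p ^ 2 - 1 = (p - 1) * (p + 1) := by
      have : 1 ≤ p := hp.out.one_lt.le
      obtain ⟨k, rfl⟩ : ∃ k, p = k + 1 := ⟨p - 1, by omega⟩
      simp only [Nat.add_sub_cancel]
      have : (k + 1) ^ 2 - 1 = k * (k + 1 + 1) := by
        have : (k + 1) ^ 2 = k * (k + 1 + 1) + 1 := by ring
        omega
      exact this
    rw [h1] at hdvd
    rcases (Nat.Prime.dvd_mul hq.out).mp hdvd with h | h
    · exact hqE (h.trans (Dvd.intro_left _ rfl))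
    · rcases (Nat.Prime.dvd_mul hq.out).mp h with h | h
      · exact hqE (h.trans (Dvd.intro _ rfl))
      · apply hqE
        rw [h2]
        exact dvd_mul_of_dvd_right (h.trans (Dvd.intro _ rfl)) p
  -- hence `x` centralizes `E`
  have hfaithE : E ⊓ centralizer (W : Set G) = ⊥ := hS.ffE_faithful hB
  have hENC : E ≤ normalizer ((centralizer (W : Set G) : Subgroup G) : Set G) :=
    Cfsg.Agent.Helper10.le_normalizer_centralizer_of_le hEW
  have hxCE : x ∈ centralizer (E : Set G) := by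
    rw [mem_centralizer_iff]
    intro e he
    have he' : e ∈ E := he
    have h1 : e * x * e⁻¹ * x⁻¹ ∈ E := by
      have : x * e⁻¹ * x⁻¹ ∈ E := conj_mem_of_mem_normalizer hxE (inv_mem he')
      have e1 : e * x * e⁻¹ * x⁻¹ = e * (x * e⁻¹ * x⁻¹) := by group
      rw [e1]
      exact mul_mem he' this
    have h2 : e * x * e⁻¹ * x⁻¹ ∈ centralizer (W : Set G) :=
      mul_mem (conj_mem_of_mem_normalizer (hENC he') hxCW) (inv_mem hxCW)
    have h3 : e * x * e⁻¹ * x⁻¹ ∈ E ⊓ centralizer (W : Set G) := ⟨h1, h2⟩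
    rw [hfaithE, mem_bot] at h3
    calc e * x = e * x * e⁻¹ * x⁻¹ * (x * e) := by group
      _ = x * e := by rw [h3, one_mul]
  rw [centralizer_sup_eq]
  exact ⟨hxCW, hxCE⟩

/-- The hypothesis of `exists_diagHom` for `P = [V, E_B] E_B`. -/
theorem FFSetup.diag_hyp [Finite G] {p q : ℕ} [hp : Fact p.Prime]
    [hq : Fact q.Prime] {V H X : Subgroup G} (hS : FFSetup p V H) {B : Subgroup G}
    (hB : FFMin p V H B) (hqH : ¬ q ∣ Nat.card H)
    (hXq : IsElementaryAbelian q X)
    (hXV : X ≤ normalizer (V : Set G)) (hXH : X ≤ normalizer (H : Set G)) :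
    ∀ x ∈ X, x ∉ centralizer ((⁅V, ffE p H B⁆ ⊔ ffE p H B : Subgroup G) : Set G) →
      ∀ g ∈ ⁅V, ffE p H B⁆ ⊔ ffE p H B, ∀ h ∈ ⁅V, ffE p H B⁆ ⊔ ffE p H B,
        Commute (x * g * x⁻¹) h := by
  intro x hx hxC g hg h hh
  set E : Subgroup G := ffE p H B with hE
  set B' : Subgroup G := B.map (MulAut.conj x).toMonoidHom with hB'
  have hB'm : FFMin p V H B' := hB.map_conj' (hXV hx) (hXH hx)
  have hE' : E.map (MulAut.conj x).toMonoidHom = ffE p H B' := ffE_map_conj p (hXH hx) B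
  have hne : ⁅V, E⁆ ≠ ⁅V, ffE p H B'⁆ := by
    intro heq
    apply hxC
    have h1 : E = ffE p H B' := hS.ffE_eq_of_commutator_eq hB hB'm heq
    apply hS.mem_centralizer_of_normalizes hB hqH (hXq.2 x hx) (hXV hx)
    rw [mem_normalizer_iff_map_conj_eq', ← hE, hE', ← h1]
  have h1 : ⁅E, ffE p H B'⁆ = ⊥ := hS.ffE_commute_of_ne hB hB'm hne
  have h2 : ⁅V, ffE p H B'⁆ ≤ V ⊓ centralizer (E : Set G) :=
    hS.commutator_ffE_le_of_ne hB hB'm hne
  have h3 : ⁅V, E⁆ ≤ V ⊓ centralizer ((ffE p H B' : Subgroup G) : Set G) :=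
    hS.commutator_ffE_le_of_ne hB'm hB hne.symm
  have hEH : E ≤ H := ffE_le hB.hAH
  have hE'H : ffE p H B' ≤ H := ffE_le hB'm.hAH
  have hWV : ⁅V, E⁆ ≤ V := Cfsg.Agent.Lead.commutator_le_of_le_normalizer (hEH.trans hS.hHV)
  have hW'V : ⁅V, ffE p H B'⁆ ≤ V :=
    Cfsg.Agent.Lead.commutator_le_of_le_normalizer (hE'H.trans hS.hHV)
  -- `P ≤ C(P')`
  have hPP' : ⁅V, E⁆ ⊔ E ≤
      centralizer ((⁅V, ffE p H B'⁆ ⊔ ffE p H B' : Subgroup G) : Set G) := by
    rw [centralizer_sup_eq]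
    apply sup_le
    · refine le_inf ?_ (h3.trans inf_le_right)
      intro w hw
      rw [mem_centralizer_iff]
      intro w' hw'
      exact IsElementaryAbelian.commute hS.hV (hW'V hw') (hWV hw)
    · refine le_inf ?_ ?_
      · rw [le_centralizer_iff]
        exact h2.trans inf_le_right
      · rw [le_centralizer_iff, ← commutator_eq_bot_iff_le_centralizer, commutator_comm]
        exact h1
  have hg' : x * g * x⁻¹ ∈ ⁅V, ffE p H B'⁆ ⊔ ffE p H B' := by
    have : x * g * x⁻¹ ∈ (⁅V, E⁆ ⊔ E).map (MulAut.conj x).toMonoidHom := ⟨g, hg, rfl⟩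
    rw [Subgroup.map_sup, hE', map_commutator, map_conj_eq_of_mem_normalizer (hXV hx), hE'] at this
    exact this
  exact ((mem_centralizer_iff.mp (hPP' hh)) _ hg')

/-- **Fixed plane.** An elementary abelian `q`-group `X` (`q ∤ |H|`) normalizing `V` and `H`
centralizes a copy of `SL₂(p)` in `H` acting faithfully on a plane of `C_V(X)`. -/
theorem FFSetup.exists_fixed_plane [Finite G] {p q : ℕ} [hp : Fact p.Prime]
    [hq : Fact q.Prime] {V H X : Subgroup G} (hS : FFSetup p V H) {B : Subgroup G}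
    (hB : FFMin p V H B) (hqH : ¬ q ∣ Nat.card H)
    (hXq : IsElementaryAbelian q X)
    (hXV : X ≤ normalizer (V : Set G)) (hXH : X ≤ normalizer (H : Set G)) :
    ∃ D W : Subgroup G, D ≤ H ⊓ centralizer (X : Set G) ∧ W ≤ V ⊓ centralizer (X : Set G) ∧
      Nat.card W = p ^ 2 ∧ D ≤ normalizer (W : Set G) ∧ D ⊓ centralizer (W : Set G) = ⊥ ∧
      Nonempty (↥D ≃* Matrix.SpecialLinearGroup (Fin 2) (ZMod p)) := by
  set E : Subgroup G := ffE p H B with hE
  set W₁ : Subgroup G := ⁅V, E⁆ with hW₁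
  obtain ⟨δ, hδ1, hδ2, hδ3⟩ := exists_diagHom X (W₁ ⊔ E) (hS.diag_hyp hB hqH hXq hXV hXH)
  have hEH : E ≤ H := ffE_le hB.hAH
  have hWV : W₁ ≤ V := Cfsg.Agent.Lead.commutator_le_of_le_normalizer (hEH.trans hS.hHV)
  have hEW : E ≤ normalizer (W₁ : Set G) := Cfsg.Agent.Lead.le_normalizer_commutator_right V E
  have hfaithE : E ⊓ centralizer (W₁ : Set G) = ⊥ := hS.ffE_faithful hB
  obtain ⟨-, -, hdec, -⟩ := hS.ffE_decomp hB
  obtain ⟨-, ⟨e⟩⟩ := hS.ffE_mulEquiv hB
  set iE : ↥E →* ↥(W₁ ⊔ E) := inclusion le_sup_right with hiE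
  set iW : ↥W₁ →* ↥(W₁ ⊔ E) := inclusion le_sup_left with hiW
  have hCP : ∀ f : G, f ∈ centralizer ((W₁ ⊔ E : Subgroup G) : Set G) →
      f ∈ centralizer (W₁ : Set G) ∧ f ∈ centralizer (E : Set G) := by
    intro f hf
    rw [centralizer_sup_eq] at hf
    exact hf
  have hinjW : Function.Injective (δ.comp iW) := by
    rw [injective_iff_map_eq_one]
    intro w hw
    obtain ⟨f, hf, hδf⟩ := hδ3 (iW w)
    rw [MonoidHom.comp_apply] at hw
    rw [hw] at hδf
    have hwf : f = (w : G)⁻¹ := by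
      have : ((iW w : ↥(W₁ ⊔ E)) : G) = w := rfl
      rw [this] at hδf
      exact (eq_inv_of_mul_eq_one_right hδf.symm)
    have h1 : (w : G)⁻¹ ∈ W₁ ⊓ (V ⊓ centralizer (E : Set G)) := by
      refine mem_inf.mpr ⟨W₁.inv_mem w.2, mem_inf.mpr ⟨hWV (W₁.inv_mem w.2), ?_⟩⟩
      rw [← hwf]
      exact (hCP f hf).2
    rw [hdec, mem_bot, inv_eq_one] at h1
    exact Subtype.ext h1
  have hinjE : Function.Injective (δ.comp iE) := by
    rw [injective_iff_map_eq_one]
    intro g hg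
    obtain ⟨f, hf, hδf⟩ := hδ3 (iE g)
    rw [MonoidHom.comp_apply] at hg
    rw [hg] at hδf
    have hgf : f = (g : G)⁻¹ := by
      have : ((iE g : ↥(W₁ ⊔ E)) : G) = g := rfl
      rw [this] at hδf
      exact (eq_inv_of_mul_eq_one_right hδf.symm)
    have h1 : (g : G)⁻¹ ∈ E ⊓ centralizer (W₁ : Set G) := by
      refine mem_inf.mpr ⟨E.inv_mem g.2, ?_⟩
      rw [← hgf]
      exact (hCP f hf).1
    rw [hfaithE, mem_bot, inv_eq_one] at h1
    exact Subtype.ext h1
  refine ⟨(δ.comp iE).range, (δ.comp iW).range, ?_, ?_, ?_, ?_, ?_, ?_⟩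
  · rintro _ ⟨g, rfl⟩
    exact ⟨hδ2 H hXH _ (hEH g.2), hδ1 _⟩
  · rintro _ ⟨w, rfl⟩
    exact ⟨hδ2 V hXV _ (hWV w.2), hδ1 _⟩
  · rw [← Nat.card_congr (MonoidHom.ofInjective hinjW).toEquiv]
    exact hS.card_commutator_ffE hB
  · apply le_normalizer_of_forall_conj_mem
    rintro _ ⟨g, rfl⟩ _ ⟨w, rfl⟩
    have hc : (g : G) * (w : G) * (g : G)⁻¹ ∈ W₁ := conj_mem_of_mem_normalizer (hEW g.2) w.2
    refine ⟨⟨(g : G) * (w : G) * (g : G)⁻¹, hc⟩, ?_⟩
    rw [MonoidHom.comp_apply, MonoidHom.comp_apply, MonoidHom.comp_apply, ← map_inv, ← map_mul,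
      ← map_mul]
    congr 1
  · rw [eq_bot_iff]
    rintro _ ⟨⟨g, rfl⟩, hgC'⟩
    have hgC : (δ.comp iE) g ∈ centralizer (((δ.comp iW).range : Subgroup G) : Set G) := hgC'
    rw [mem_bot]
    have hg1 : (g : G) ∈ E ⊓ centralizer (W₁ : Set G) := by
      refine mem_inf.mpr ⟨g.2, ?_⟩
      rw [mem_centralizer_iff]
      intro w hw
      have hw' : w ∈ W₁ := hw
      have hc : (g : G) * w * (g : G)⁻¹ ∈ W₁ := conj_mem_of_mem_normalizer (hEW g.2) hw'
      have h1 : (δ.comp iW) ⟨(g : G) * w * (g : G)⁻¹, hc⟩ = (δ.comp iW) ⟨w, hw'⟩ := by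
        have h2 : (δ.comp iW) ⟨(g : G) * w * (g : G)⁻¹, hc⟩ =
            (δ.comp iE) g * (δ.comp iW) ⟨w, hw'⟩ * ((δ.comp iE) g)⁻¹ := by
          rw [MonoidHom.comp_apply, MonoidHom.comp_apply, MonoidHom.comp_apply, ← map_inv,
            ← map_mul, ← map_mul]
          congr 1
        rw [h2]
        have h3 := (mem_centralizer_iff.mp hgC) ((δ.comp iW) ⟨w, hw'⟩) ⟨⟨w, hw'⟩, rfl⟩
        rw [← h3, mul_inv_cancel_right]
      have h4 := hinjW h1
      have h5 : (g : G) * w * (g : G)⁻¹ = w := congrArg Subtype.val h4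
      calc w * (g : G) = (g : G) * w * (g : G)⁻¹ * (g : G) := by rw [h5]
        _ = (g : G) * w := by group
    rw [hfaithE, mem_bot] at hg1
    have : g = 1 := Subtype.ext hg1
    rw [this, map_one]
  · exact ⟨(MonoidHom.ofInjective hinjE).symm.trans e⟩

/-- Two subgroups of prime order `p` in a group of order not divisible by `p²` are conjugate. -/
theorem exists_conj_eq_of_card_prime {E : Type*} [Group E] [Finite E] {p : ℕ} [hp : Fact p.Prime]
    (hE : ¬ p ^ 2 ∣ Nat.card E) {T B : Subgroup E} (hT : Nat.card T = p) (hB : Nat.card B = p) :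
    ∃ e : E, T.map (MulAut.conj e).toMonoidHom = B := by
  have key : ∀ T : Subgroup E, Nat.card T = p → ∃ P : Sylow p E, (P : Subgroup E) = T := by
    intro T hT
    have hTp : IsPGroup p T := IsPGroup.of_card (n := 1) (by rw [hT, pow_one])
    obtain ⟨P, hTP⟩ := hTp.exists_le_sylow
    refine ⟨P, ?_⟩
    obtain ⟨n, hn⟩ := IsPGroup.iff_card.mp P.isPGroup'
    have hn1 : n ≤ 1 := by
      by_contra hcon
      push Not at hcon
      apply hE
      calc p ^ 2 ∣ p ^ n := pow_dvd_pow p hcon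
        _ = Nat.card (P : Subgroup E) := hn.symm
        _ ∣ Nat.card E := Subgroup.card_subgroup_dvd_card _
    symm
    apply eq_of_le_of_card_ge hTP
    rw [hT, hn]
    calc p ^ n ≤ p ^ 1 := Nat.pow_le_pow_right hp.out.pos hn1
      _ = p := pow_one p
  obtain ⟨P, hP⟩ := key T hT
  obtain ⟨P', hP'⟩ := key B hB
  obtain ⟨e, he⟩ := MulAction.exists_smul_eq E P P'
  refine ⟨e, ?_⟩
  rw [← hP, ← hP', ← he, Sylow.coe_subgroup_smul, map_conj_eq_smul]

/-- If `L` contains the fixed points of `X` on `H` and a nontrivial `p`-subgroup of `E_B`, then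
`E_B ≤ L`. -/
theorem FFSetup.ffE_le_of_fixed [Finite G] {p q : ℕ} [hp : Fact p.Prime]
    [hq : Fact q.Prime] {V H X : Subgroup G} (hS : FFSetup p V H) {B : Subgroup G}
    (hB : FFMin p V H B) (hqH : ¬ q ∣ Nat.card H)
    (hXq : IsElementaryAbelian q X)
    (hXV : X ≤ normalizer (V : Set G)) (hXH : X ≤ normalizer (H : Set G)) {L T : Subgroup G}
    (hCL : H ⊓ centralizer (X : Set G) ≤ L) (hTL : T ≤ L) (hTE : T ≤ ffE p H B) (hT1 : T ≠ ⊥)
    (hTp : IsPGroup p T) : ffE p H B ≤ L := by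
  set E : Subgroup G := ffE p H B with hE
  set W₁ : Subgroup G := ⁅V, E⁆ with hW₁
  obtain ⟨δ, hδ1, hδ2, hδ3⟩ := exists_diagHom X (W₁ ⊔ E) (hS.diag_hyp hB hqH hXq hXV hXH)
  have hEH : E ≤ H := ffE_le hB.hAH
  obtain ⟨-, ⟨e⟩⟩ := hS.ffE_mulEquiv hB
  have hEcard : Nat.card E = p * (p ^ 2 - 1) := by
    rw [Nat.card_congr e.toEquiv, card_SL2_zmod]
  -- `[T, E] ≤ L`
  have hTEL : ⁅T, E⁆ ≤ L := by
    rw [commutator_le]
    intro t ht g hg
    obtain ⟨f, hf, hδf⟩ := hδ3 ⟨g, mem_sup_right hg⟩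
    have hfc : f ∈ centralizer (E : Set G) := by
      rw [centralizer_sup_eq] at hf
      exact hf.2
    have hft : f * t⁻¹ = t⁻¹ * f :=
      ((mem_centralizer_iff.mp hfc) t⁻¹ (inv_mem (hTE ht))).symm
    have hδL : δ ⟨g, mem_sup_right hg⟩ ∈ L :=
      hCL ⟨hδ2 H hXH _ (hEH hg), hδ1 _⟩
    have h1 : ⁅t, g⁆ = ⁅t, δ ⟨g, mem_sup_right hg⟩⁆ := by
      rw [hδf, commutatorElement_def, commutatorElement_def]
      change t * g * t⁻¹ * g⁻¹ = t * (g * f) * t⁻¹ * (g * f)⁻¹
      calc t * g * t⁻¹ * g⁻¹ = t * g * (t⁻¹ * f) * f⁻¹ * g⁻¹ := by group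
        _ = t * g * (f * t⁻¹) * f⁻¹ * g⁻¹ := by rw [hft]
        _ = t * (g * f) * t⁻¹ * (g * f)⁻¹ := by group
    rw [h1]
    exact commutator_mem_commutator (H₁ := L) (H₂ := L) (hTL ht) hδL |>
      (Cfsg.Agent.Helper10.commutator_self_le L ·)
  set N : Subgroup G := T ⊔ ⁅T, E⁆ with hN
  have hNL : N ≤ L := sup_le hTL hTEL
  have hEN : E ≤ normalizer (N : Set G) := by
    have hE2 : E ≤ normalizer ((⁅T, E⁆ : Subgroup G) : Set G) :=
      Cfsg.Agent.Lead.le_normalizer_commutator_right T E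
    apply le_normalizer_of_forall_conj_mem
    intro g hg n hn
    have hsub : N ≤ N.comap (MulAut.conj g).toMonoidHom := by
      rw [hN]
      apply sup_le
      · intro t ht
        rw [mem_comap]
        have : (MulAut.conj g).toMonoidHom t = ⁅g, t⁆ * t := by
          simp only [MulEquiv.toMonoidHom_eq_coe, MonoidHom.coe_coe, MulAut.conj_apply,
            commutatorElement_def]
          group
        rw [this]
        refine mul_mem (mem_sup_right ?_) (mem_sup_left ht)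
        rw [commutator_comm]
        exact commutator_mem_commutator hg ht
      · intro c hc
        rw [mem_comap]
        exact mem_sup_right (conj_mem_of_mem_normalizer (hE2 hg) hc)
    exact hsub hn
  have hpn : ¬ p ∣ p ^ 2 - 1 := by
    intro h
    have h1 : p ∣ p ^ 2 := Dvd.intro_left _ (by ring)
    have h2 : p ∣ p ^ 2 - (p ^ 2 - 1) := Nat.dvd_sub h1 h
    have h3 : p ^ 2 - (p ^ 2 - 1) = 1 := by
      have : 1 ≤ p ^ 2 := Nat.one_le_pow _ _ hp.out.pos
      omega
    rw [h3] at h2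
    exact hp.out.one_lt.ne' (Nat.dvd_one.mp h2)
  -- `|T| = p`
  have hTcard : Nat.card T = p := by
    obtain ⟨n, hn⟩ := IsPGroup.iff_card.mp hTp
    have hd : p ^ n ∣ p * (p ^ 2 - 1) := by
      rw [← hn, ← hEcard]
      exact card_dvd_of_le hTE
    have hcop : Nat.Coprime (p ^ n) (p ^ 2 - 1) :=
      Nat.Coprime.pow_left n ((Nat.Prime.coprime_iff_not_dvd hp.out).mpr hpn)
    have hd' : p ^ n ∣ p ^ 1 := by
      rw [pow_one]
      exact hcop.dvd_of_dvd_mul_right hd
    have hn1 : n ≤ 1 := (Nat.pow_dvd_pow_iff_le_right hp.out.one_lt).mp hd'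
    have hn0 : n ≠ 0 := by
      rintro rfl
      rw [pow_zero] at hn
      exact hT1 (card_eq_one.mp hn)
    have : n = 1 := by omega
    rw [hn, this, pow_one]
  have hE2 : ¬ p ^ 2 ∣ Nat.card ↥E := by
    rw [hEcard]
    intro h
    have h' : p * p ∣ p * (p ^ 2 - 1) := dvd_trans (dvd_of_eq (sq p).symm) h
    exact hpn (Nat.dvd_of_mul_dvd_mul_left hp.out.pos h')
  have hTc : Nat.card (T.subgroupOf E) = p := by
    rw [Nat.card_congr (subgroupOfEquivOfLe hTE).toEquiv, hTcard]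
  have hBE : B ≤ E := le_sup_right
  have hBc : Nat.card (B.subgroupOf E) = p := by
    rw [Nat.card_congr (subgroupOfEquivOfLe hBE).toEquiv, hB.hAp]
  obtain ⟨g, hg⟩ := exists_conj_eq_of_card_prime hE2 hTc hBc
  have hBN : B ≤ N := by
    intro b hb
    have hb' : (⟨b, hBE hb⟩ : ↥E) ∈ B.subgroupOf E := mem_subgroupOf.mpr hb
    rw [← hg] at hb'
    obtain ⟨t, ht, hte⟩ := hb'
    have ht' : (t : G) ∈ T := mem_subgroupOf.mp ht
    have hb2 : b = (g : G) * (t : G) * (g : G)⁻¹ := by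
      have := congrArg Subtype.val hte
      simpa [MulAut.conj_apply] using this.symm
    rw [hb2]
    exact conj_mem_of_mem_normalizer (hEN g.2) (mem_sup_left ht')
  have hQB : ⁅ffQ p H, B⁆ ≤ N := by
    have hBQ : B ≤ normalizer (ffQ p H : Set G) := hB.hAH.trans (le_normalizer_ffQ p H)
    have hcopQ : (Nat.card B).Coprime (Nat.card (ffQ p H)) := by
      rw [hB.hAp]
      exact (ffQ_coprime p H).symm
    have hBsolv : Group.IsSolvable B := by
      haveI : Fact (Nat.card B).Prime := ⟨by rw [hB.hAp]; exact hp.out⟩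
      haveI : IsCyclic B := isCyclic_of_prime_card rfl
      haveI : IsMulCommutative B := ⟨⟨IsCyclic.commGroup.mul_comm⟩⟩
      exact isSolvable_of_comm (fun a b => mul_comm' a b)
    have hcc := Cfsg.Agent.Lead.coprime_commutator_commutator B (ffQ p H) hBQ hcopQ (Or.inl hBsolv)
    rw [← hcc]
    have h1 : ⁅⁅ffQ p H, B⁆, B⁆ ≤ ⁅E, N⁆ := commutator_mono le_sup_left hBN
    have h2 : ⁅E, N⁆ ≤ N := by
      rw [commutator_comm]
      exact Cfsg.Agent.Lead.commutator_le_of_le_normalizer hEN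
    exact h1.trans h2
  exact (sup_le hQB hBN).trans hNL

/-- **Generation.** If `L` contains the fixed points of `X` on `H` and a `p`-subgroup of `H` of
index prime to `p`, then `H ≤ L`. -/
theorem FFSetup.le_of_fixed_of_sylow [Finite G] {p q : ℕ} [hp : Fact p.Prime]
    [hq : Fact q.Prime] {V H X : Subgroup G} (hS : FFSetup p V H)
    (hS3 : H = ⨆ A : {A : Subgroup G // A ≤ H ∧ IsBestOffenderOn p V A}, (A : Subgroup G))
    (hqH : ¬ q ∣ Nat.card H)
    (hXq : IsElementaryAbelian q X)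
    (hXV : X ≤ normalizer (V : Set G)) (hXH : X ≤ normalizer (H : Set G)) {L P : Subgroup G}
    (hCL : H ⊓ centralizer (X : Set G) ≤ L) (hPL : P ≤ L) (hPH : P ≤ H) (hPp : IsPGroup p P)
    (hPi : ¬ p ∣ P.relIndex H) : H ≤ L := by
  refine (hS.le_sSup_minOffender_top hS3).trans (sSup_le ?_)
  rintro B ⟨hBH, hB⟩
  have hBm : FFMin p V H B := hB.ffMin hS hBH
  set E : Subgroup G := ffE p H B with hE
  have hEH : E ≤ H := ffE_le hBH
  have hHE : H ≤ normalizer (E : Set G) := hS.le_normalizer_ffE hS3 hBm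
  obtain ⟨-, ⟨e⟩⟩ := hS.ffE_mulEquiv hBm
  have hEcard : Nat.card E = p * (p ^ 2 - 1) := by
    rw [Nat.card_congr e.toEquiv, card_SL2_zmod]
  have hT1 : P ⊓ E ≠ ⊥ := by
    intro hbot
    have h1 := Cfsg.Agent.Helper17.card_sup_mul_card_inf E P (hPH.trans hHE)
    rw [inf_comm, hbot, card_bot, mul_one] at h1
    have h2 : Nat.card ↥(E ⊔ P) ∣ Nat.card H := card_dvd_of_le (sup_le hEH hPH)
    have h3 : Nat.card (P.subgroupOf H) * P.relIndex H = Nat.card H :=
      (P.subgroupOf H).card_mul_index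
    rw [Nat.card_congr (subgroupOfEquivOfLe hPH).toEquiv] at h3
    rw [h1, ← h3, mul_comm] at h2
    have h4 : Nat.card E ∣ P.relIndex H :=
      Nat.dvd_of_mul_dvd_mul_left Nat.card_pos h2
    apply hPi
    exact (Dvd.intro _ hEcard.symm).trans h4
  have hEL : E ≤ L :=
    hS.ffE_le_of_fixed hBm hqH hXq hXV hXH hCL (inf_le_left.trans hPL) inf_le_right hT1
      (hPp.to_le inf_le_left)
  exact (le_sup_right : B ≤ E).trans hEL

end Cfsg.Agent.Helper7
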