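import Mathlib
import Cfsg.Prelude.Def_PLocal
import Cfsg.Agent.Helper7.FFThompson2
import Cfsg.Agent.Helper7.FFCoprime

set_option autoImplicit false
set_option linter.style.haveILetI false
set_option linter.unusedSectionVars false

/-! # Bridge lemmas for coprime operator groups on `p`-solvable groups (generic part) -/

namespace Cfsg.Agent.Helper7

open Subgroup Cfsg
open scoped commutatorElement

/-- `⟨Ω₁(Z(S)) | S ∈ Syl_p⟩` is characteristic. -/
instance omegaZ_characteristic (p : ℕ) (K : Type*) [Group K] : (omegaZ p K).Characteristic := by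
  rw [characteristic_iff_map_le]
  intro ϕ
  unfold omegaZ
  rw [Subgroup.map_iSup]
  apply iSup_le
  intro S
  refine le_trans ?_ (le_iSup (fun S : Sylow p K => Cfsg.omegaOne p
    ((S : Subgroup K) ⊓ centralizer ((S : Subgroup K) : Set K))) (ϕ • S))
  unfold Cfsg.omegaOne
  rw [MonoidHom.map_closure]
  apply Subgroup.closure_mono
  rintro _ ⟨x, ⟨⟨hxS, hxC⟩, hxp⟩, rfl⟩
  have hS' : ((ϕ • S : Sylow p K) : Subgroup K) = (S : Subgroup K).map ϕ.toMonoidHom := by
    rw [Sylow.pointwise_smul_def]
    rfl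
  refine ⟨?_, ?_⟩
  · rw [hS']
    refine mem_inf.mpr ⟨⟨x, hxS, rfl⟩, ?_⟩
    rw [mem_centralizer_iff]
    rintro _ ⟨s, hs, rfl⟩
    have := (mem_centralizer_iff.mp hxC) s hs
    simp only [MulEquiv.toMonoidHom_eq_coe, MonoidHom.coe_coe]
    rw [← map_mul, ← map_mul, this]
  · simp only [MulEquiv.toMonoidHom_eq_coe, MonoidHom.coe_coe]
    rw [← map_pow, hxp, map_one]

variable {K : Type*} [Group K] {𝔏 : Type*} [Group 𝔏]

/-- The image of a characteristic subgroup under an injective homomorphism with normal range is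
normal. -/
theorem map_normal_of_characteristic (j : K →* 𝔏) (hj : Function.Injective j)
    [hjn : j.range.Normal] (C : Subgroup K) [hC : C.Characteristic] : (C.map j).Normal := by
  constructor
  rintro _ ⟨c, hc, rfl⟩ g
  set e : K ≃* j.range := MonoidHom.ofInjective hj with he
  set α : K ≃* K := e.trans ((MulAut.conjNormal g : MulAut j.range).trans e.symm) with hα
  have h1 : j (α c) = g * j c * g⁻¹ := by
    have h2 : e (α c) = (MulAut.conjNormal g : MulAut j.range) (e c) := by
      rw [hα]
      simp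
    have h3 := congrArg Subtype.val h2
    rw [MulAut.conjNormal_apply] at h3
    exact h3
  rw [← h1]
  refine ⟨α c, ?_, rfl⟩
  have := (characteristic_iff_map_le.mp hC) α
  exact this ⟨c, hc, rfl⟩

theorem mem_centralizer_map_iff {j : K →* 𝔏} (hj : Function.Injective j) (V₀ : Subgroup K)
    (x : K) : j x ∈ centralizer ((V₀.map j : Subgroup 𝔏) : Set 𝔏) ↔
      x ∈ centralizer (V₀ : Set K) := by
  constructor
  · intro h
    rw [mem_centralizer_iff]
    intro v hv
    apply hj
    rw [map_mul, map_mul]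
    exact (mem_centralizer_iff.mp h) (j v) ⟨v, hv, rfl⟩
  · intro h
    rw [mem_centralizer_iff]
    rintro _ ⟨v, hv, rfl⟩
    rw [← map_mul, ← map_mul, (mem_centralizer_iff.mp h) v hv]

theorem map_inf_centralizer_of_injective {j : K →* 𝔏} (hj : Function.Injective j)
    (V₀ B₀ : Subgroup K) :
    (V₀ ⊓ centralizer (B₀ : Set K)).map j =
      V₀.map j ⊓ centralizer ((B₀.map j : Subgroup 𝔏) : Set 𝔏) := by
  ext y
  constructor
  · rintro ⟨v, ⟨hv, hvc⟩, rfl⟩
    exact mem_inf.mpr ⟨⟨v, hv, rfl⟩, (mem_centralizer_map_iff hj B₀ v).mpr hvc⟩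
  · rintro ⟨⟨v, hv, rfl⟩, hc⟩
    exact ⟨v, mem_inf.mpr ⟨hv, (mem_centralizer_map_iff hj B₀ v).mp hc⟩, rfl⟩

theorem card_map_of_injective {j : K →* 𝔏} (hj : Function.Injective j) (A : Subgroup K) :
    Nat.card ↥(A.map j) = Nat.card A :=
  (Nat.card_congr (A.equivMapOfInjective j hj).toEquiv).symm

/-- Best offenders transfer along injective homomorphisms. -/
theorem isBestOffenderOn_map_of_injective {p : ℕ} {j : K →* 𝔏} (hj : Function.Injective j)
    {V₀ A₀ : Subgroup K} (hA : IsBestOffenderOn p V₀ A₀) :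
    IsBestOffenderOn p (V₀.map j) (A₀.map j) := by
  obtain ⟨h1, h2, h3⟩ := hA
  refine ⟨?_, ?_, ?_⟩
  · intro B hB
    have hBr : B ≤ j.range := hB.trans (map_le_range j A₀)
    have hBe : (B.comap j).map j = B := map_comap_eq_self hBr
    have hB₀ : B.comap j ≤ A₀ := by
      intro b hb
      obtain ⟨a, ha, hab⟩ := hB (mem_comap.mp hb)
      rwa [← hj hab]
    have := h1 (B.comap j) hB₀
    rw [← hBe, ← map_inf_centralizer_of_injective hj, ← map_inf_centralizer_of_injective hj,
      card_map_of_injective hj, card_map_of_injective hj, card_map_of_injective hj,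
      card_map_of_injective hj]
    exact this
  · rw [← map_commutator]
    rintro _ ⟨c, hc, rfl⟩
    exact (mem_centralizer_map_iff hj V₀ c).mpr (h2 hc)
  · rintro _ ⟨a, ha, rfl⟩
    rw [← map_pow]
    exact (mem_centralizer_map_iff hj V₀ _).mpr (h3 a ha)

/-- Two homomorphisms with equal kernels have isomorphic ranges. -/
noncomputable def rangeEquivOfKerEq {A B₁ B₂ : Type*} [Group A] [Group B₁] [Group B₂]
    (f₁ : A →* B₁) (f₂ : A →* B₂) (h : f₁.ker = f₂.ker) : f₁.range ≃* f₂.range :=
  (QuotientGroup.quotientKerEquivRange f₁).symm.trans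
    ((QuotientGroup.quotientMulEquivOfEq h).trans (QuotientGroup.quotientKerEquivRange f₂))

end Cfsg.Agent.Helper7
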