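import Mathlib
import Cfsg.Prelude.Def_PLocal
import Cfsg.Agent.Helper26.Replacement
import Cfsg.Agent.Lead.ThompsonPQ
import Cfsg.Agent.Helper7.FFModule1

set_option autoImplicit false
set_option linter.style.haveILetI false
set_option linter.unusedSectionVars false

/-! # Generalized (abelian, not necessarily elementary) offenders: general lemmas -/

namespace Cfsg.Agent.Helper7

open Subgroup Cfsg
open scoped commutatorElement

variable {G : Type*} [Group G]

/-- Quadratic action on a group of exponent two: squares act trivially. -/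
theorem sq_mem_centralizer_of_quadratic {V A : Subgroup G} (hV2 : ∀ v ∈ V, v ^ 2 = 1)
    (hAV : A ≤ normalizer (V : Set G)) (hq : ⁅⁅V, A⁆, A⁆ = ⊥) :
    ∀ a ∈ A, a ^ 2 ∈ centralizer (V : Set G) := by
  intro a ha
  rw [mem_centralizer_iff]
  intro v hv
  -- `c = [v, a] = v a v⁻¹ a⁻¹`
  set c : G := ⁅v, a⁆ with hc
  have hcVA : c ∈ ⁅V, A⁆ := commutator_mem_commutator hv ha
  have hcV : c ∈ V :=
    (Cfsg.Agent.Helper26.commutator_le_of_le_of_le_normalizer le_rfl hAV) hcVA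
  have hca : ⁅c, a⁆ = 1 := by
    have : ⁅c, a⁆ ∈ ⁅⁅V, A⁆, A⁆ := commutator_mem_commutator hcVA ha
    rwa [hq, mem_bot] at this
  have hcomm : c * a = a * c := by
    have h := hca
    rw [commutatorElement_def] at h
    have : c * a * c⁻¹ * a⁻¹ * (a * c) = 1 * (a * c) := by rw [h]
    calc c * a = c * a * c⁻¹ * a⁻¹ * (a * c) := by group
      _ = a * c := by rw [this, one_mul]
  have hc2 : c ^ 2 = 1 := hV2 c hcV
  have hcinv : c⁻¹ = c := by
    rw [inv_eq_iff_mul_eq_one, ← sq, hc2]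
  -- `a v a⁻¹ = c⁻¹ v = c v`
  have h1 : a * v * a⁻¹ = c * v := by
    have : c⁻¹ = a * v * a⁻¹ * v⁻¹ := by
      rw [hc, commutatorElement_def]; group
    calc a * v * a⁻¹ = (a * v * a⁻¹ * v⁻¹) * v := by group
      _ = c⁻¹ * v := by rw [this]
      _ = c * v := by rw [hcinv]
  have hcc : c * c = 1 := by rw [← sq, hc2]
  have h2 : a * (a * v * a⁻¹) * a⁻¹ = v := by
    calc a * (a * v * a⁻¹) * a⁻¹ = a * (c * v) * a⁻¹ := by rw [h1]
      _ = (a * c) * v * a⁻¹ := by group
      _ = (c * a) * v * a⁻¹ := by rw [hcomm]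
      _ = c * (a * v * a⁻¹) := by group
      _ = c * (c * v) := by rw [h1]
      _ = (c * c) * v := by group
      _ = v := by rw [hcc, one_mul]
  rw [pow_two]
  calc v * (a * a) = (a * (a * v * a⁻¹) * a⁻¹) * (a * a) := by rw [h2]
    _ = a * a * v := by group

/-- Nilpotent action: if `V = [V, A] N` for an `A`-invariant `N ≤ V`, then `V = N`. -/
theorem le_of_le_commutator_sup [Finite G] {p : ℕ} [Fact p.Prime] {V A N : Subgroup G}
    (hVab : V ≤ centralizer (V : Set G)) (hVp : IsPGroup p V) (hAp : IsPGroup p A)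
    (hAV : A ≤ normalizer (V : Set G)) (hNV : N ≤ V) (hAN : A ≤ normalizer (N : Set G))
    (h : V ≤ ⁅V, A⁆ ⊔ N) : V ≤ N := by
  obtain ⟨X, -, hXmin⟩ := Finite.exists_le_minimal
    (p := fun X : Subgroup G => X ≤ V ∧ A ≤ normalizer (X : Set G) ∧ V ≤ X ⊔ N)
    (a := V) ⟨le_rfl, hAV, le_sup_left⟩
  obtain ⟨hXV, hAX, hVX⟩ := hXmin.prop
  by_cases hX : X = ⊥
  · rw [hX, bot_sup_eq] at hVX
    exact hVX
  · exfalso
    have hlt := Cfsg.Agent.Lead.commutator_lt_of_isPGroup (hVp.to_le hXV) hAp hAX hX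
    have hYV : ⁅X, A⁆ ≤ V := hlt.le.trans hXV
    have hAY : A ≤ normalizer ((⁅X, A⁆ : Subgroup G) : Set G) := by
      intro a ha
      rw [mem_normalizer_iff]
      have key : ∀ b ∈ A, ∀ y ∈ ⁅X, A⁆, b * y * b⁻¹ ∈ ⁅X, A⁆ := by
        intro b hb y hy
        have hmap : (⁅X, A⁆).map (MulAut.conj b).toMonoidHom ≤ ⁅X, A⁆ := by
          rw [map_commutator]
          apply commutator_mono
          · rintro _ ⟨x, hx, rfl⟩
            exact ((mem_normalizer_iff.mp (hAX hb)) x).mp hx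
          · rintro _ ⟨x, hx, rfl⟩
            exact A.mul_mem (A.mul_mem hb hx) (A.inv_mem hb)
        exact hmap ⟨y, hy, rfl⟩
      intro y
      refine ⟨key a ha y, fun hy => ?_⟩
      have := key a⁻¹ (A.inv_mem ha) _ hy
      simpa [mul_assoc] using this
    have hNA : ⁅N, A⁆ ≤ N := Cfsg.Agent.Helper26.commutator_le_of_le_of_le_normalizer le_rfl hAN
    have hstep : V ≤ ⁅X, A⁆ ⊔ N := by
      refine h.trans (sup_le ?_ le_sup_right)
      calc ⁅V, A⁆ ≤ ⁅X ⊔ N, A⁆ := commutator_mono hVX le_rfl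
        _ = ⁅X, A⁆ ⊔ ⁅N, A⁆ := Cfsg.Agent.Helper26.commutator_sup_eq hVab hAV hXV hNV
        _ ≤ ⁅X, A⁆ ⊔ N := sup_le_sup_left hNA _
    have := hXmin.le_of_le ⟨hYV, hAY, hstep⟩ hlt.le
    exact absurd (le_antisymm hlt.le this) hlt.ne

/-- Timmesfeld replacement, in the form used here: `A* = C_A([V, A])`. -/
theorem fmax_star [Finite G] {V A : Subgroup G}
    (hVab : V ≤ centralizer (V : Set G)) (hAV : A ≤ normalizer (V : Set G))
    (hab : ⁅A, A⁆ ≤ centralizer (V : Set G))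
    (hmax : ∀ B : Subgroup G, B ≤ A → Cfsg.Agent.Helper26.fval V B ≤ Cfsg.Agent.Helper26.fval V A) :
    Cfsg.Agent.Helper26.fval V (A ⊓ centralizer ((⁅V, A⁆ : Subgroup G) : Set G)) =
        Cfsg.Agent.Helper26.fval V A ∧
      V ⊓ centralizer ((A ⊓ centralizer ((⁅V, A⁆ : Subgroup G) : Set G) : Subgroup G) : Set G) =
        ⁅V, A⁆ ⊔ (V ⊓ centralizer (A : Set G)) :=
  Cfsg.Agent.Helper26.replProp_all hVab hAV hab hmax le_rfl

/-- `A* = C_A([V, A])` is a best offender (in the elementary sense) when `V` has exponent two and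
`A` maximizes `|B| |C_V(B)|` among its subgroups. -/
theorem isBestOffenderOn_star [Finite G] {V A : Subgroup G}
    (hV : IsElementaryAbelian 2 V) (hAV : A ≤ normalizer (V : Set G))
    (hab : ⁅A, A⁆ ≤ centralizer (V : Set G))
    (hmax : ∀ B : Subgroup G, B ≤ A → Cfsg.Agent.Helper26.fval V B ≤ Cfsg.Agent.Helper26.fval V A) :
    IsBestOffenderOn 2 V (A ⊓ centralizer ((⁅V, A⁆ : Subgroup G) : Set G)) := by
  have hVab := Cfsg.Agent.Helper26.le_centralizer_of_isElementaryAbelian hV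
  obtain ⟨hf, -⟩ := fmax_star hVab hAV hab hmax
  set B : Subgroup G := A ⊓ centralizer ((⁅V, A⁆ : Subgroup G) : Set G) with hB
  have hBA : B ≤ A := inf_le_left
  refine ⟨?_, (commutator_mono hBA hBA).trans hab, ?_⟩
  · intro D hD
    have h1 := hmax D (hD.trans hBA)
    unfold Cfsg.Agent.Helper26.fval at h1 hf
    rw [hf]
    exact h1
  · have hq : ⁅⁅V, B⁆, B⁆ = ⊥ := by
      rw [eq_bot_iff, commutator_le]
      intro c hc b hb
      have hc' : c ∈ ⁅V, A⁆ := commutator_mono le_rfl hBA hc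
      have hbc : b ∈ centralizer ((⁅V, A⁆ : Subgroup G) : Set G) := (mem_inf.mp hb).2
      rw [mem_bot, commutatorElement_eq_one_iff_commute]
      exact ((mem_centralizer_iff.mp hbc) c hc')
    exact sq_mem_centralizer_of_quadratic hV.2 (hBA.trans hAV) hq

end Cfsg.Agent.Helper7
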