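import Mathlib
import Cfsg.Prelude.Def_PLocal
import Cfsg.Agent.Helper7.GenOff1
import Cfsg.Agent.Helper7.FFCopBridge1
import Cfsg.Agent.Helper10.SolvPSolv
import Cfsg.Agent.Helper10.NormLemmas
import Cfsg.Agent.Helper17.Basic
import Cfsg.Agent.Lead.CoprimeFrattini
import Cfsg.Agent.Helper14.PCore

set_option autoImplicit false
set_option linter.style.haveILetI false
set_option linter.unusedSectionVars false

/-! # Generalized offenders in solvable groups are elementary abelian -/

namespace Cfsg.Agent.Helper7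

open Subgroup Cfsg
open scoped commutatorElement

variable {G : Type*} [Group G]

theorem isBestOffenderOn_map_conj {p : ℕ} {V B : Subgroup G} (hB : IsBestOffenderOn p V B) {x : G}
    (hx : x ∈ normalizer (V : Set G)) :
    IsBestOffenderOn p V (B.map (MulAut.conj x).toMonoidHom) := by
  have h := isBestOffenderOn_map_of_injective (j := (MulAut.conj x).toMonoidHom)
    (MulAut.conj x).injective hB
  rwa [map_conj_eq_of_mem_normalizer hx] at h

theorem map_conj_inv_map_conj_go2 (B : Subgroup G) (x : G) :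
    (B.map (MulAut.conj x).toMonoidHom).map (MulAut.conj x⁻¹).toMonoidHom = B := by
  rw [map_conj_map_conj, inv_mul_cancel, map_conj_one]

theorem map_conj_map_conj_inv_go2 (B : Subgroup G) (x : G) :
    (B.map (MulAut.conj x⁻¹).toMonoidHom).map (MulAut.conj x).toMonoidHom = B := by
  rw [map_conj_map_conj, mul_inv_cancel, map_conj_one]

theorem isMinOffender_map_conj {p : ℕ} {V B : Subgroup G} (hB : IsMinOffender p V B) {x : G}
    (hx : x ∈ normalizer (V : Set G)) :
    IsMinOffender p V (B.map (MulAut.conj x).toMonoidHom) := by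
  obtain ⟨h1, h2, h3⟩ := hB
  have hx' : x⁻¹ ∈ normalizer (V : Set G) := inv_mem hx
  refine ⟨isBestOffenderOn_map_conj h1 hx, ?_, ?_⟩
  · rw [commutator_map_conj hx]
    intro h
    exact h2 ((map_eq_bot_iff_of_injective _ (MulAut.conj x).injective).mp h)
  · intro C hC hCb hCV
    have h4 : C.map (MulAut.conj x⁻¹).toMonoidHom ≤ B := by
      have := map_mono (f := (MulAut.conj x⁻¹).toMonoidHom) hC
      rwa [map_conj_inv_map_conj_go2] at this
    have h5 : ⁅V, C.map (MulAut.conj x⁻¹).toMonoidHom⁆ ≠ ⊥ := by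
      rw [commutator_map_conj hx']
      intro h
      exact hCV ((map_eq_bot_iff_of_injective _ (MulAut.conj x⁻¹).injective).mp h)
    have h6 := h3 _ h4 (isBestOffenderOn_map_conj hCb hx') h5
    rw [← h6, map_conj_map_conj_inv_go2]

/-- A `2`-element normalizing a subgroup `W` of order `4` inside a group of exponent `2` has its
square centralizing `W`. -/
theorem sq_mem_centralizer_of_card_four [Finite G] {W : Subgroup G} (hW2 : ∀ w ∈ W, w ^ 2 = 1)
    (hW4 : Nat.card W = 2 ^ 2) {a : G} (ha : a ∈ normalizer (W : Set G))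
    (ha2 : IsPGroup 2 (zpowers a)) : a ^ 2 ∈ centralizer (W : Set G) := by
  haveI : Fact (Nat.Prime 2) := ⟨Nat.prime_two⟩
  set Z : Subgroup G := zpowers a with hZ
  have hZW : Z ≤ normalizer (W : Set G) := zpowers_le.mpr ha
  have hWp : IsPGroup 2 W := IsPGroup.of_card hW4
  have hq : ⁅⁅W, Z⁆, Z⁆ = ⊥ := by
    by_contra hne
    have hW1 : W ≠ ⊥ := by
      intro h
      rw [h] at hW4
      simp at hW4
    have h1 := Cfsg.Agent.Lead.commutator_lt_of_isPGroup hWp ha2 hZW hW1
    have hZ1 : Z ≤ normalizer ((⁅W, Z⁆ : Subgroup G) : Set G) :=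
      Cfsg.Agent.Helper10.le_normalizer_commutator_of_le hZW le_normalizer
    have hne1 : ⁅W, Z⁆ ≠ ⊥ := by
      intro h
      apply hne
      rw [h, eq_bot_iff, commutator_le]
      intro x hx y _
      rw [mem_bot] at hx
      rw [hx]
      simp
    have h2 := Cfsg.Agent.Lead.commutator_lt_of_isPGroup (hWp.to_le h1.le) ha2 hZ1 hne1
    -- cards: `1 < |[[W,Z],Z]| < |[W,Z]| < 4`, all powers of two
    have c1 : Nat.card ↥(⁅W, Z⁆) < 4 := by
      have hlt : Nat.card ↥(⁅W, Z⁆) < Nat.card W := by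
        apply lt_of_le_of_ne (card_le_of_le h1.le)
        intro h
        exact h1.ne (eq_of_le_of_card_ge h1.le h.ge)
      rw [hW4] at hlt
      exact hlt
    have c2 : Nat.card ↥(⁅⁅W, Z⁆, Z⁆) < Nat.card ↥(⁅W, Z⁆) := by
      apply lt_of_le_of_ne (card_le_of_le h2.le)
      intro h
      exact h2.ne (eq_of_le_of_card_ge h2.le h.ge)
    have d1 : Nat.card ↥(⁅W, Z⁆) ∣ 4 := by
      have := card_dvd_of_le h1.le
      rwa [hW4] at this
    have d2 : Nat.card ↥(⁅⁅W, Z⁆, Z⁆) ∣ Nat.card ↥(⁅W, Z⁆) := card_dvd_of_le h2.le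
    have c3 : 1 < Nat.card ↥(⁅⁅W, Z⁆, Z⁆) := by
      rcases Nat.lt_or_ge 1 (Nat.card ↥(⁅⁅W, Z⁆, Z⁆)) with h | h
      · exact h
      · exfalso
        apply hne
        apply card_eq_one.mp
        have := Nat.card_pos (α := ↥(⁅⁅W, Z⁆, Z⁆))
        omega
    have e1 : Nat.card ↥(⁅W, Z⁆) = 1 ∨ Nat.card ↥(⁅W, Z⁆) = 2 ∨ Nat.card ↥(⁅W, Z⁆) = 4 := by
      have hle := Nat.le_of_dvd (by norm_num) d1
      interval_cases (Nat.card ↥(⁅W, Z⁆)) <;> simp_all
    rcases e1 with e | e | e
    · omega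
    · rw [e] at d2 c2
      omega
    · omega
  exact sq_mem_centralizer_of_quadratic hW2 hZW hq a (mem_zpowers a)

end Cfsg.Agent.Helper7
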