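import Mathlib
import Cfsg.Prelude.Def_PLocal
import Cfsg.Agent.Helper7.GenOff2

set_option autoImplicit false
set_option linter.style.haveILetI false
set_option linter.unusedSectionVars false
set_option maxHeartbeats 800000

/-! # Generalized offenders in solvable groups are elementary abelian: main theorem -/

namespace Cfsg.Agent.Helper7

open Subgroup Cfsg
open scoped commutatorElement

variable {G : Type*} [Group G]

/-- The arithmetic behind "a Sylow subgroup meets every normal subgroup of a normal subgroup in a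
Sylow subgroup". -/
theorem two_dvd_of_card_chain {k a j d e x s r : ℕ} (ha : 0 < a) (hd : 0 < d)
    (hk : Nat.Coprime 2 k) (c2 : s * d = j * a) (c3 : s ∣ k * a) (c4 : r * x = e * d)
    (c5 : r ∣ j) (he : 2 ∣ e) : 2 ∣ x := by
  obtain ⟨m, hm⟩ := c3
  obtain ⟨n, hn⟩ := c5
  have h1 : j * m = k * d := by
    apply Nat.eq_of_mul_eq_mul_left ha
    calc a * (j * m) = (j * a) * m := by ring
      _ = (s * d) * m := by rw [c2]
      _ = (s * m) * d := by ring
      _ = (k * a) * d := by rw [hm]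
      _ = a * (k * d) := by ring
  have h2 : e * (n * m) = k * x := by
    apply Nat.eq_of_mul_eq_mul_left hd
    calc d * (e * (n * m)) = (e * d) * (n * m) := by ring
      _ = (r * x) * (n * m) := by rw [c4]
      _ = (r * n) * m * x := by ring
      _ = j * m * x := by rw [← hn]
      _ = k * d * x := by rw [h1]
      _ = d * (k * x) := by ring
  have h3 : 2 ∣ k * x := by
    rw [← h2]
    exact Dvd.dvd.mul_right he _
  exact hk.dvd_of_dvd_mul_left h3

/-- **Generalized offenders are elementary abelian.**  Let `H` be a solvable group acting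
faithfully on the elementary abelian `2`-group `V` with `C_H(O_{2'}(H)) ≤ O_{2'}(H)`, and `A ≤ H`
an abelian `2`-subgroup maximizing `|B| |C_V(B)|` among its subgroups.  Then `A` has exponent
`2`. -/
theorem sq_eq_one_of_fmax [Finite G] {V H A : Subgroup G} (hS : FFSetup 2 V H)
    (hsolv : Group.IsSolvable ↥H) (hAH : A ≤ H) (hA2 : IsPGroup 2 A)
    (hAc : ∀ a ∈ A, ∀ b ∈ A, a * b = b * a)
    (hmax : ∀ B : Subgroup G, B ≤ A →
      Cfsg.Agent.Helper26.fval V B ≤ Cfsg.Agent.Helper26.fval V A) :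
    ∀ a ∈ A, a ^ 2 = 1 := by
  haveI : Fact (Nat.Prime 2) := ⟨Nat.prime_two⟩
  have hVab := Cfsg.Agent.Helper26.le_centralizer_of_isElementaryAbelian hS.hV
  have hAV : A ≤ normalizer (V : Set G) := hAH.trans hS.hHV
  have hab : ⁅A, A⁆ ≤ centralizer (V : Set G) := by
    have : ⁅A, A⁆ = ⊥ := by
      rw [eq_bot_iff, commutator_le]
      intro a ha b hb
      rw [mem_bot, commutatorElement_eq_one_iff_commute]
      exact hAc a ha b hb
    rw [this]; exact bot_le
  have hVp : IsPGroup 2 V := fun v => ⟨1, Subtype.ext (by simpa using hS.hV.2 v v.2)⟩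
  -- `K = O_{2'}(H)`, `H₀ = K A`
  obtain ⟨K, hK⟩ : ∃ K : Subgroup G, K = ffQ 2 H := ⟨_, rfl⟩
  have hKH : K ≤ H := hK ▸ ffQ_le 2 H
  have hHK : H ≤ normalizer (K : Set G) := hK ▸ le_normalizer_ffQ 2 H
  have hKcop : (Nat.card K).Coprime 2 := hK ▸ ffQ_coprime 2 H
  have hCK : H ⊓ centralizer (K : Set G) ≤ K := hK ▸ hS.centralizer_ffQ_le
  obtain ⟨H₀, hH₀⟩ : ∃ H₀ : Subgroup G, H₀ = K ⊔ A := ⟨_, rfl⟩
  have hKH₀ : K ≤ H₀ := hH₀ ▸ le_sup_left
  have hAH₀ : A ≤ H₀ := hH₀ ▸ le_sup_right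
  have hH₀H : H₀ ≤ H := hH₀ ▸ sup_le hKH hAH
  have hH₀V : H₀ ≤ normalizer (V : Set G) := hH₀H.trans hS.hHV
  -- `J₀`
  obtain ⟨J₀, hJ₀⟩ : ∃ J₀ : Subgroup G, J₀ = ⨆ B : {B : Subgroup G // B ≤ H₀ ∧
      IsBestOffenderOn 2 V B}, (B : Subgroup G) := ⟨_, rfl⟩
  have hleJ₀ : ∀ B : Subgroup G, B ≤ H₀ → IsBestOffenderOn 2 V B → B ≤ J₀ := by
    intro B h1 h2
    rw [hJ₀]
    exact le_iSup (fun B : {B : Subgroup G // B ≤ H₀ ∧ IsBestOffenderOn 2 V B} =>
      (B : Subgroup G)) ⟨B, h1, h2⟩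
  have hJ₀H₀ : J₀ ≤ H₀ := by
    rw [hJ₀]; exact iSup_le (fun B => B.2.1)
  have hJ₀H : J₀ ≤ H := hJ₀H₀.trans hH₀H
  have hH₀J₀ : H₀ ≤ normalizer (J₀ : Set G) := by
    apply Cfsg.Agent.Helper14.le_normalizer_of_map_cj_le
    intro h hh
    rw [hJ₀, Subgroup.map_iSup]
    apply iSup_le
    intro B
    rw [← hJ₀]
    exact hleJ₀ _ (map_conj_le_of_le hh B.2.1) (isBestOffenderOn_map_conj B.2.2 (hH₀V hh))
  -- `A*`
  obtain ⟨As, hAs⟩ : ∃ As : Subgroup G, As = A ⊓ centralizer ((⁅V, A⁆ : Subgroup G) : Set G) :=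
    ⟨_, rfl⟩
  have hAsb : IsBestOffenderOn 2 V As := hAs ▸ isBestOffenderOn_star hS.hV hAV hab hmax
  have hAsJ : As ≤ J₀ := hleJ₀ As (hAs ▸ inf_le_left.trans hAH₀) hAsb
  have hfix : V ⊓ centralizer (As : Set G) = ⁅V, A⁆ ⊔ (V ⊓ centralizer (A : Set G)) :=
    hAs ▸ (fmax_star hVab hAV hab hmax).2
  -- the decomposition
  obtain ⟨U₁, hU₁V, hAU₁, hsqU₁, hVU⟩ : ∃ U₁ : Subgroup G, U₁ ≤ V ∧
      A ≤ normalizer (U₁ : Set G) ∧ (∀ a ∈ A, a ^ 2 ∈ centralizer (U₁ : Set G)) ∧
      V ≤ (V ⊓ centralizer (J₀ : Set G)) ⊔ U₁ := by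
    by_cases hJ : J₀ = ⊥
    · refine ⟨⊥, bot_le, ?_, ?_, ?_⟩
      · rw [normalizer_eq_top_iff.mpr (inferInstance : (⊥ : Subgroup G).Normal)]
        exact le_top
      · intro a _
        rw [mem_centralizer_iff]
        intro h hh
        have : h = 1 := by simpa using hh
        rw [this]; simp
      · rw [sup_bot_eq, hJ]
        intro v hv
        refine mem_inf.mpr ⟨hv, ?_⟩
        rw [mem_centralizer_iff]
        intro h hh
        have : h = 1 := by simpa using hh
        rw [this]; simp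
    · -- `O₂(J₀) = 1`
      have hsolvJ : Group.IsSolvable ↥J₀ :=
        solvable_of_solvable_injective (f := Subgroup.inclusion hJ₀H)
          (Subgroup.inclusion_injective _)
      have hpsJ : Cfsg.IsPSolvable 2 ↥J₀ :=
        Cfsg.Agent.Helper10.isPSolvable_of_isSolvable 2 hsolvJ
      have hO : Cfsg.pCore 2 ↥J₀ = ⊥ := by
        obtain ⟨R, hR⟩ : ∃ R : Subgroup G, R = (Cfsg.pCore 2 ↥J₀).map J₀.subtype := ⟨_, rfl⟩
        have hRJ : R ≤ J₀ := hR ▸ map_subtype_le _
        have hR2 : IsPGroup 2 R := hR ▸ (Cfsg.Agent.Helper14.pCore_isPGroup 2).map _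
        have hH₀R : H₀ ≤ normalizer (R : Set G) := by
          rw [hR]
          exact hH₀J₀.trans
            (Cfsg.Agent.Lead.normalizer_le_normalizer_map_of_characteristic J₀ (Cfsg.pCore 2 ↥J₀))
        have hKR : K ≤ normalizer (R : Set G) := hKH₀.trans hH₀R
        have hRK : R ≤ normalizer (K : Set G) := (hRJ.trans hJ₀H).trans hHK
        have hc1 : ⁅R, K⁆ ≤ R := Cfsg.Agent.Lead.commutator_le_of_le_normalizer hKR
        have hc2 : ⁅R, K⁆ ≤ K := by
          rw [commutator_comm]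
          exact Cfsg.Agent.Lead.commutator_le_of_le_normalizer hRK
        have hRKbot : R ⊓ K = ⊥ := by
          obtain ⟨n, hn⟩ := hR2.exists_card_eq
          apply (Subgroup.disjoint_of_coprime_natCard ?_).eq_bot
          rw [hn]
          exact Nat.Coprime.pow_left n hKcop.symm
        have hRc : R ≤ centralizer (K : Set G) := by
          rw [← commutator_eq_bot_iff_le_centralizer, eq_bot_iff, ← hRKbot]
          exact le_inf hc1 hc2
        have hRK' : R ≤ K := (le_inf (hRJ.trans hJ₀H) hRc).trans hCK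
        have hRbot : R = ⊥ := by
          rw [eq_bot_iff, ← hRKbot]
          exact le_inf le_rfl hRK'
        rw [hR] at hRbot
        exact (map_eq_bot_iff_of_injective _ J₀.subtype_injective).mp hRbot
      have hSJ : FFSetup 2 V J₀ :=
        ⟨hS.hV, hJ₀H.trans hS.hHV, by
          rw [eq_bot_iff, ← hS.hf]; exact inf_le_inf_right _ hJ₀H,
          centralizer_pPrimeCore_le_of_isPSolvable hpsJ hO⟩
      have hS3 : J₀ = ⨆ B : {B : Subgroup G // B ≤ J₀ ∧ IsBestOffenderOn 2 V B},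
          (B : Subgroup G) := by
        apply le_antisymm
        · conv_lhs => rw [hJ₀]
          apply iSup_le
          intro B
          exact le_iSup (fun B : {B : Subgroup G // B ≤ J₀ ∧ IsBestOffenderOn 2 V B} =>
            (B : Subgroup G)) ⟨B.1, hleJ₀ B.1 B.2.1 B.2.2, B.2.2⟩
        · exact iSup_le (fun B => B.2.1)
      obtain ⟨-, hE, hind, hsup, -, hVdec⟩ := hSJ.structure_theorem hS3 hJ
        (fun E => ∃ B : Subgroup G, B ≤ J₀ ∧ IsMinOffender 2 V B ∧ E = ffE 2 J₀ B)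
        (fun E => Iff.rfl)
      -- the Sylow trick
      have hKA : K ⊓ A = ⊥ := by
        obtain ⟨n, hn⟩ := hA2.exists_card_eq
        apply (Subgroup.disjoint_of_coprime_natCard ?_).eq_bot
        rw [hn]
        exact Nat.Coprime.pow_right n hKcop
      have c1 : Nat.card H₀ = Nat.card K * Nat.card A := by
        have := Cfsg.Agent.Helper17.card_sup_mul_card_inf K A (hAH.trans hHK)
        rw [hKA, card_bot, mul_one] at this
        rw [hH₀]; exact this
      have c2 : Nat.card (J₀ ⊔ A : Subgroup G) * Nat.card (J₀ ⊓ A : Subgroup G) =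
          Nat.card J₀ * Nat.card A :=
        Cfsg.Agent.Helper17.card_sup_mul_card_inf J₀ A (hAH₀.trans hH₀J₀)
      have c3 : Nat.card (J₀ ⊔ A : Subgroup G) ∣ Nat.card K * Nat.card A := by
        rw [← c1]
        exact card_dvd_of_le (sup_le hJ₀H₀ hAH₀)
      have hEJ : ∀ E : {E : Subgroup G // ∃ B : Subgroup G, B ≤ J₀ ∧ IsMinOffender 2 V B ∧
          E = ffE 2 J₀ B}, (E : Subgroup G) ≤ J₀ := by
        intro E
        exact (le_iSup (fun E : {E : Subgroup G // ∃ B : Subgroup G, B ≤ J₀ ∧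
          IsMinOffender 2 V B ∧ E = ffE 2 J₀ B} => (E : Subgroup G)) E).trans_eq hsup
      have hEA : ∀ E : {E : Subgroup G // ∃ B : Subgroup G, B ≤ J₀ ∧ IsMinOffender 2 V B ∧
          E = ffE 2 J₀ B}, ∃ t ∈ (E : Subgroup G) ⊓ A, t ≠ 1 := by
        intro E
        obtain ⟨hJE, -, -⟩ := hE E
        have c4 : Nat.card ((E : Subgroup G) ⊔ (J₀ ⊓ A) : Subgroup G) *
            Nat.card ((E : Subgroup G) ⊓ (J₀ ⊓ A) : Subgroup G) =
            Nat.card (E : Subgroup G) * Nat.card (J₀ ⊓ A : Subgroup G) :=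
          Cfsg.Agent.Helper17.card_sup_mul_card_inf (E : Subgroup G) (J₀ ⊓ A)
            (inf_le_left.trans hJE)
        have c5 : Nat.card ((E : Subgroup G) ⊔ (J₀ ⊓ A) : Subgroup G) ∣ Nat.card J₀ :=
          card_dvd_of_le (sup_le (hEJ E) inf_le_left)
        have c6 : 2 ∣ Nat.card (E : Subgroup G) := by
          obtain ⟨B, hBJ, hBmin, hEB⟩ := E.2
          have hB2 : Nat.card B = 2 := (hBmin.ffMin hSJ hBJ).hAp
          have hBE : B ≤ (E : Subgroup G) := by
            rw [hEB]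
            exact le_sup_right
          have hdvd := card_dvd_of_le hBE
          exact (dvd_of_eq hB2.symm).trans hdvd
        have h2 := two_dvd_of_card_chain (Nat.card_pos (α := A))
          (Nat.card_pos (α := (J₀ ⊓ A : Subgroup G))) hKcop.symm c2 c3 c4 c5 c6
        have hne : (E : Subgroup G) ⊓ (J₀ ⊓ A) ≠ ⊥ := by
          intro h
          rw [h, card_bot] at h2
          omega
        obtain ⟨⟨t, ht⟩, ht1⟩ := (Subgroup.ne_bot_iff_exists_ne_one).mp hne
        refine ⟨t, mem_inf.mpr ⟨(mem_inf.mp ht).1, (mem_inf.mp (mem_inf.mp ht).2).2⟩, ?_⟩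
        intro h
        exact ht1 (Subtype.ext h)
      have hAE : ∀ E : {E : Subgroup G // ∃ B : Subgroup G, B ≤ J₀ ∧ IsMinOffender 2 V B ∧
          E = ffE 2 J₀ B}, A ≤ normalizer (((E : Subgroup G)) : Set G) := by
        intro E a ha
        obtain ⟨t, ht, ht1⟩ := hEA E
        have haJ : a ∈ normalizer (J₀ : Set G) := hH₀J₀ (hAH₀ ha)
        obtain ⟨B, hBJ, hBmin, hEB⟩ := E.2
        have hP' : ∃ B' : Subgroup G, B' ≤ J₀ ∧ IsMinOffender 2 V B' ∧
            (E : Subgroup G).map (MulAut.conj a).toMonoidHom = ffE 2 J₀ B' := by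
          refine ⟨B.map (MulAut.conj a).toMonoidHom, ?_, isMinOffender_map_conj hBmin (hAV ha), ?_⟩
          · exact (map_mono hBJ).trans_eq (map_conj_eq_of_mem_normalizer haJ)
          · rw [hEB, ffE_map_conj 2 haJ B]
        rw [mem_normalizer_iff_map_conj_eq]
        by_contra hne
        have hdisj := hind.pairwiseDisjoint (i := ⟨_, hP'⟩) (j := E)
          (fun h => hne (congrArg Subtype.val h))
        have ht' : t ∈ (E : Subgroup G).map (MulAut.conj a).toMonoidHom := by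
          refine ⟨t, (mem_inf.mp ht).1, ?_⟩
          show a * t * a⁻¹ = t
          rw [hAc a ha t (mem_inf.mp ht).2]
          group
        exact ht1 (Subgroup.disjoint_def.mp hdisj ht' (mem_inf.mp ht).1)
      have hEV : ∀ E : {E : Subgroup G // ∃ B : Subgroup G, B ≤ J₀ ∧ IsMinOffender 2 V B ∧
          E = ffE 2 J₀ B}, ⁅V, (E : Subgroup G)⁆ ≤ V := fun E =>
        Cfsg.Agent.Lead.commutator_le_of_le_normalizer ((hEJ E).trans (hJ₀H.trans hS.hHV))
      have hAW : ∀ E : {E : Subgroup G // ∃ B : Subgroup G, B ≤ J₀ ∧ IsMinOffender 2 V B ∧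
          E = ffE 2 J₀ B}, A ≤ normalizer ((⁅V, (E : Subgroup G)⁆ : Subgroup G) : Set G) :=
        fun E => Cfsg.Agent.Helper10.le_normalizer_commutator_of_le hAV (hAE E)
      refine ⟨⨆ E : {E : Subgroup G // ∃ B : Subgroup G, B ≤ J₀ ∧ IsMinOffender 2 V B ∧
          E = ffE 2 J₀ B}, ⁅V, (E : Subgroup G)⁆, iSup_le hEV, ?_, ?_, hVdec.ge⟩
      · apply Cfsg.Agent.Helper14.le_normalizer_of_map_cj_le
        intro a ha
        rw [Subgroup.map_iSup]
        apply iSup_le
        intro E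
        rw [Cfsg.Agent.Helper14.mem_normalizer_iff_map_cj.mp (hAW E ha)]
        exact le_iSup (fun E : {E : Subgroup G // ∃ B : Subgroup G, B ≤ J₀ ∧
          IsMinOffender 2 V B ∧ E = ffE 2 J₀ B} => ⁅V, (E : Subgroup G)⁆) E
      · intro a ha
        have : zpowers (a ^ 2) ≤ centralizer ((⨆ E : {E : Subgroup G // ∃ B : Subgroup G,
            B ≤ J₀ ∧ IsMinOffender 2 V B ∧ E = ffE 2 J₀ B}, ⁅V, (E : Subgroup G)⁆ :
            Subgroup G) : Set G) := by
          rw [le_centralizer_iff]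
          apply iSup_le
          intro E
          rw [← le_centralizer_iff, zpowers_le]
          obtain ⟨-, -, hc4⟩ := hE E
          exact sq_mem_centralizer_of_card_four (fun w hw => hS.hV.2 w (hEV E hw)) hc4
            (hAW E ha) (hA2.to_le (zpowers_le.mpr ha))
        exact this (mem_zpowers _)
  -- endgame
  have h1 : V ⊓ centralizer (J₀ : Set G) ≤ ⁅V, A⁆ ⊔ (V ⊓ centralizer (A : Set G)) := by
    rw [← hfix]
    exact inf_le_inf_left _ (centralizer_le hAsJ)
  have h2 : V ≤ ⁅V, A⁆ ⊔ ((V ⊓ centralizer (A : Set G)) ⊔ U₁) := by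
    refine hVU.trans (sup_le (h1.trans ?_) ?_)
    · exact sup_le le_sup_left (le_sup_left.trans le_sup_right)
    · exact le_sup_right.trans le_sup_right
  have hN : A ≤ normalizer (((V ⊓ centralizer (A : Set G)) ⊔ U₁ : Subgroup G) : Set G) := by
    apply Cfsg.Agent.Helper10.le_normalizer_sup_of_le _ hAU₁
    exact Cfsg.Agent.Helper10.le_normalizer_inf_of_le hAV
      (Cfsg.Agent.Helper10.le_normalizer_centralizer_of_le le_normalizer)
  have h3 : V ≤ (V ⊓ centralizer (A : Set G)) ⊔ U₁ :=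
    le_of_le_commutator_sup hVab hVp hA2 hAV (sup_le inf_le_left hU₁V) hN h2
  intro a ha
  have ha2 : a ^ 2 ∈ A := A.pow_mem ha 2
  have hc : a ^ 2 ∈ centralizer (V : Set G) := by
    have : zpowers (a ^ 2) ≤ centralizer (V : Set G) := by
      rw [le_centralizer_iff]
      refine h3.trans (sup_le ?_ ?_)
      · refine inf_le_right.trans (centralizer_le ?_)
        exact zpowers_le.mpr ha2
      · rw [← le_centralizer_iff, zpowers_le]
        exact hsqU₁ a ha
    exact this (mem_zpowers _)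
  have : a ^ 2 ∈ H ⊓ centralizer (V : Set G) := mem_inf.mpr ⟨hAH ha2, hc⟩
  rw [hS.hf, mem_bot] at this
  exact this

end Cfsg.Agent.Helper7
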