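import Mathlib
import Cfsg.Prelude.Def_PLocal
import Cfsg.Agent.S0044
import Cfsg.Agent.Helper7.GenOff1
import Cfsg.Agent.Helper26.ZJInst
import Cfsg.Agent.Helper26.Thompson
import Cfsg.Agent.Lead.ZJ2
import Cfsg.Agent.Lead.CoprimeAbelian
import Cfsg.Agent.Helper14.PCore
import Cfsg.Agent.Helper14.Conj

set_option autoImplicit false
set_option linter.style.haveILetI false
set_option linter.unusedSectionVars false

/-! # Solvable Thompson factorization: the set-up inside `X` -/

namespace Cfsg.Agent.Helper7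

open Subgroup Cfsg
open scoped commutatorElement Pointwise

variable {X : Type*} [Group X]

/-- The largest normal subgroup centralizing `Z` is the centralizer of the normal closure. -/
theorem normalCore_centralizer_eq (Z : Subgroup X) :
    (centralizer (Z : Set X)).normalCore =
      centralizer ((normalClosure (Z : Set X) : Subgroup X) : Set X) := by
  apply le_antisymm
  · set C : Subgroup X := (centralizer (Z : Set X)).normalCore with hC
    have hCZ : C ≤ centralizer (Z : Set X) := normalCore_le _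
    have hZC : Z ≤ centralizer (C : Set X) := le_centralizer_iff.mp hCZ
    haveI : C.Normal := normalCore_normal _
    have hW : normalClosure (Z : Set X) ≤ centralizer (C : Set X) :=
      normalClosure_le_normal hZC
    exact le_centralizer_iff.mp hW
  · haveI : (normalClosure (Z : Set X)).Normal := normalClosure_normal
    apply normal_le_normalCore.mpr
    exact centralizer_le le_normalClosure

/-- `O_p(G / C_G(V)) = 1` when `V` is generated by the fixed points of the Sylow `p`-subgroups
(no assumption on the structure of `V`). -/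
theorem pCore_quotient_centralizer_eq_bot [Finite X] {p : ℕ} [Fact p.Prime] (V : Subgroup X)
    [V.Normal]
    (hgen : V ≤ ⨆ S : Sylow p X, V ⊓ centralizer ((S : Subgroup X) : Set X)) :
    Cfsg.pCore p (X ⧸ centralizer (V : Set X)) = ⊥ := by
  rw [eq_bot_iff]
  apply sSup_le
  rintro N ⟨hN, hpN⟩
  intro xbar hxbar
  rw [Subgroup.mem_bot]
  obtain ⟨x, rfl⟩ := QuotientGroup.mk_surjective xbar
  rw [QuotientGroup.eq_one_iff]
  have hmk : Function.Surjective (QuotientGroup.mk' (centralizer (V : Set X))) :=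
    QuotientGroup.mk'_surjective _
  have key : V ≤ centralizer ({x} : Set X) := by
    refine hgen.trans ?_
    apply iSup_le
    intro T
    intro v hv
    have hvV : v ∈ V := hv.1
    have hvT : v ∈ centralizer ((T : Subgroup X) : Set X) := hv.2
    have := hN
    have h1 : N ≤ (T.mapSurjective hmk : Sylow p (X ⧸ centralizer (V : Set X))) :=
      hpN.le_sylow_of_normal _
    have h2 : (QuotientGroup.mk x : X ⧸ centralizer (V : Set X)) ∈
        (T : Subgroup X).map (QuotientGroup.mk' (centralizer (V : Set X))) := h1 hxbar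
    obtain ⟨t, ht, htx⟩ := h2
    have h3 : t⁻¹ * x ∈ centralizer (V : Set X) := by
      have : (QuotientGroup.mk t : X ⧸ centralizer (V : Set X)) = QuotientGroup.mk x := htx
      exact QuotientGroup.eq.mp this
    rw [mem_centralizer_iff]
    intro y hy
    have hy' : y = x := hy
    rw [hy']
    have e1 : t * v = v * t := mem_centralizer_iff.mp hvT t ht
    have e2 : v * (t⁻¹ * x) = (t⁻¹ * x) * v := mem_centralizer_iff.mp h3 v hvV
    calc x * v = t * ((t⁻¹ * x) * v) := by group
      _ = t * (v * (t⁻¹ * x)) := by rw [e2]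
      _ = (t * v) * (t⁻¹ * x) := by group
      _ = (v * t) * (t⁻¹ * x) := by rw [e1]
      _ = v * x := by group
  rw [mem_centralizer_iff]
  intro v hv
  have := mem_centralizer_iff.mp (key hv) x rfl
  exact this.symm

/-- The normal closure of `Z(T)` is generated by the fixed points of the Sylow subgroups. -/
theorem normalClosure_center_le_iSup [Finite X] {p : ℕ} [Fact p.Prime] (T : Sylow p X) :
    normalClosure ((((T : Subgroup X) ⊓ centralizer ((T : Subgroup X) : Set X) : Subgroup X)) : Set X) ≤
      ⨆ S : Sylow p X,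
        normalClosure ((((T : Subgroup X) ⊓ centralizer ((T : Subgroup X) : Set X) :
          Subgroup X)) : Set X) ⊓ centralizer ((S : Subgroup X) : Set X) := by
  set Z : Subgroup X := (T : Subgroup X) ⊓ centralizer ((T : Subgroup X) : Set X) with hZ
  set W : Subgroup X := normalClosure (Z : Set X) with hW
  haveI : W.Normal := normalClosure_normal
  conv_lhs => rw [hW]
  unfold normalClosure
  rw [closure_le]
  intro y hy
  rw [Group.mem_conjugatesOfSet_iff] at hy
  obtain ⟨z, hz, hzy⟩ := hy
  rw [isConj_iff] at hzy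
  obtain ⟨g, rfl⟩ := hzy
  have hzW : z ∈ W := le_normalClosure hz
  refine (le_iSup (fun S : Sylow p X => W ⊓ centralizer ((S : Subgroup X) : Set X))
    (MulAut.conj g • T)) ?_
  refine mem_inf.mpr ⟨(inferInstance : W.Normal).conj_mem z hzW g, ?_⟩
  rw [mem_centralizer_iff]
  intro s hs
  have hs' : s ∈ MulAut.conj g • (T : Subgroup X) := hs
  rw [mem_smul_pointwise_iff_exists] at hs'
  obtain ⟨t, ht, rfl⟩ := hs'
  have hzt : t * z = z * t := (mem_centralizer_iff.mp (mem_inf.mp hz).2) t ht
  show g * t * g⁻¹ * (g * z * g⁻¹) = g * z * g⁻¹ * (g * t * g⁻¹)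
  calc g * t * g⁻¹ * (g * z * g⁻¹) = g * (t * z) * g⁻¹ := by group
    _ = g * (z * t) * g⁻¹ := by rw [hzt]
    _ = g * z * g⁻¹ * (g * t * g⁻¹) := by group

/-- An element of odd order centralizing `Ω₁(W)` centralizes the abelian `2`-group `W`. -/
theorem mem_centralizer_of_odd_of_mem_centralizer_omegaOne [Finite X] {W : Subgroup X}
    (hWab : W ≤ centralizer (W : Set X)) (hW2 : IsPGroup 2 W) {y : X}
    (hyW : y ∈ normalizer (W : Set X)) {m : ℕ} (hm : Odd m) (hym : y ^ m = 1)
    (hy : y ∈ centralizer ((Cfsg.omegaOne 2 W : Subgroup X) : Set X)) :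
    y ∈ centralizer (W : Set X) := by
  haveI : Fact (Nat.Prime 2) := ⟨Nat.prime_two⟩
  set Y : Subgroup X := zpowers y with hY
  have hYW : Y ≤ normalizer (W : Set X) := zpowers_le.mpr hyW
  have hYcard : Nat.card Y ∣ m := by
    rw [hY, Nat.card_zpowers]
    exact orderOf_dvd_of_pow_eq_one hym
  obtain ⟨n, hn⟩ := hW2.exists_card_eq
  have hcop : (Nat.card Y).Coprime (Nat.card W) := by
    rw [hn]
    apply Nat.Coprime.pow_right
    exact Nat.Coprime.coprime_dvd_left hYcard (Nat.Coprime.symm (Nat.coprime_two_left.mpr hm))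
  haveI : IsMulCommutative W :=
    ⟨⟨fun a b => Subtype.ext ((mem_centralizer_iff.mp (hWab b.2) a a.2))⟩⟩
  obtain ⟨hd1, hd2⟩ := Cfsg.Agent.Lead.coprime_abelian_decomp Y W hYW hcop
  have hcomm : ⁅W, Y⁆ = ⊥ := by
    by_contra hne
    have hle : ⁅W, Y⁆ ≤ W := Cfsg.Agent.Lead.commutator_le_of_le_normalizer hYW
    have h2 : IsPGroup 2 ↥(⁅W, Y⁆) := hW2.to_le hle
    obtain ⟨k, hk⟩ := h2.exists_card_eq
    have hk0 : k ≠ 0 := by
      intro h
      rw [h, pow_zero] at hk
      exact hne (card_eq_one.mp hk)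
    have hdvd : 2 ∣ Nat.card ↥(⁅W, Y⁆) := by
      rw [hk]; exact dvd_pow_self 2 hk0
    obtain ⟨⟨u, huc⟩, hu⟩ := exists_prime_orderOf_dvd_card' (G := ↥(⁅W, Y⁆)) 2 hdvd
    have hu2 : u ^ 2 = 1 := by
      have := pow_orderOf_eq_one (⟨u, huc⟩ : ↥(⁅W, Y⁆))
      rw [hu] at this
      exact congrArg Subtype.val this
    have hu1 : u ≠ 1 := by
      intro h
      have : (⟨u, huc⟩ : ↥(⁅W, Y⁆)) = 1 := Subtype.ext h
      rw [this, orderOf_one] at hu
      omega
    have huW : u ∈ W := hle huc
    have huV : u ∈ Cfsg.omegaOne 2 W := subset_closure ⟨huW, hu2⟩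
    have hyu : Commute y u := ((mem_centralizer_iff.mp hy) u huV).symm
    have huY : u ∈ centralizer (Y : Set X) := by
      rw [mem_centralizer_iff]
      intro h hh
      obtain ⟨j, rfl⟩ := mem_zpowers_iff.mp hh
      exact (hyu.zpow_left j)
    have : u ∈ (W ⊓ centralizer (Y : Set X)) ⊓ ⁅W, Y⁆ := mem_inf.mpr ⟨mem_inf.mpr ⟨huW, huY⟩, huc⟩
    rw [hd1, mem_bot] at this
    exact hu1 this
  have hWY : W ≤ centralizer (Y : Set X) := commutator_eq_bot_iff_le_centralizer.mp hcomm
  have : Y ≤ centralizer (W : Set X) := le_centralizer_iff.mp hWY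
  exact this (mem_zpowers y)

end Cfsg.Agent.Helper7
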