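import Mathlib
import Cfsg.Prelude.Def_PLocal
import Cfsg.Agent.Helper7.GenOff4
import Cfsg.Agent.Helper17.Basic

set_option autoImplicit false
set_option linter.style.haveILetI false
set_option linter.unusedSectionVars false

/-! # Solvable Thompson factorization: the set-up inside `X`, part 2 -/

namespace Cfsg.Agent.Helper7

open Subgroup Cfsg
open scoped commutatorElement Pointwise

variable {X : Type*} [Group X]

theorem omegaOne_normal (p : ℕ) (K : Subgroup X) [hK : K.Normal] : (Cfsg.omegaOne p K).Normal := by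
  constructor
  intro n hn g
  have h1 := Cfsg.Agent.Helper14.map_cj_omegaOne p K g
  have h2 : K.map (Cfsg.Agent.Helper14.cj g) = K :=
    Cfsg.Agent.Helper14.mem_normalizer_iff_map_cj.mp
      ((normalizer_eq_top_iff.mpr hK) ▸ mem_top g)
  rw [h2] at h1
  rw [← h1]
  exact ⟨n, hn, rfl⟩

theorem omegaOne_isElementaryAbelian (p : ℕ) {W : Subgroup X}
    (hWab : W ≤ centralizer (W : Set X)) : IsElementaryAbelian p (Cfsg.omegaOne p W) := by
  unfold Cfsg.omegaOne
  apply Cfsg.Agent.Helper26.isElementaryAbelian_closure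
  · intro a ha b hb
    exact ((mem_centralizer_iff.mp (hWab hb.1)) a ha.1)
  · intro a ha
    exact ha.2

/-- `C(Ω₁(W)) = C(W)` when `O₂(X / C(W)) = 1`. -/
theorem centralizer_omegaOne_eq [Finite X] {W : Subgroup X} [hWn : W.Normal]
    (hWab : W ≤ centralizer (W : Set X)) (hW2 : IsPGroup 2 W)
    (hO : Cfsg.pCore 2 (X ⧸ centralizer (W : Set X)) = ⊥) :
    centralizer ((Cfsg.omegaOne 2 W : Subgroup X) : Set X) = centralizer (W : Set X) := by
  apply le_antisymm
  · haveI : (Cfsg.omegaOne 2 W).Normal := omegaOne_normal 2 W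
    set C : Subgroup X := centralizer (W : Set X) with hC
    set D : Subgroup X := centralizer ((Cfsg.omegaOne 2 W : Subgroup X) : Set X) with hD
    have hDn : D.Normal := inferInstance
    set Db : Subgroup (X ⧸ C) := D.map (QuotientGroup.mk' C) with hDb
    have hDbn : Db.Normal := Subgroup.Normal.map hDn _ (QuotientGroup.mk'_surjective _)
    have hDb2 : IsPGroup 2 Db := by
      rintro ⟨_, ⟨d, hd, rfl⟩⟩
      have hn0 : orderOf d ≠ 0 := (orderOf_pos d).ne'
      obtain ⟨k, m, hm, hn⟩ := Nat.exists_eq_two_pow_mul_odd hn0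
      refine ⟨k, ?_⟩
      apply Subtype.ext
      show (QuotientGroup.mk' C d) ^ 2 ^ k = 1
      rw [← map_pow, QuotientGroup.mk'_apply, QuotientGroup.eq_one_iff]
      have hym : (d ^ 2 ^ k) ^ m = 1 := by
        rw [← pow_mul, ← hn, pow_orderOf_eq_one]
      exact mem_centralizer_of_odd_of_mem_centralizer_omegaOne hWab hW2
        ((normalizer_eq_top_iff.mpr hWn) ▸ mem_top _) hm hym (D.pow_mem hd _)
    have hle : Db ≤ Cfsg.pCore 2 (X ⧸ C) := Cfsg.Agent.Helper14.le_pCore 2 hDbn hDb2
    rw [hO] at hle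
    intro d hd
    have : QuotientGroup.mk' C d ∈ Db := ⟨d, hd, rfl⟩
    have h1 := hle this
    rw [mem_bot, QuotientGroup.mk'_apply, QuotientGroup.eq_one_iff] at h1
    exact h1
  · exact centralizer_le (Cfsg.Agent.Helper14.omegaOne_le 2 W)

/-- Abelian subgroups of `T` of largest order maximize `|B| |C_V(B)|` among their subgroups, for
every abelian `V ≤ T`. -/
theorem fmax_of_mem_famEl [Finite X] {T V A : Subgroup X} (hVT : V ≤ T)
    (hVab : V ≤ centralizer (V : Set X)) (hA : A ∈ Cfsg.Agent.Helper26.famEl 0 T) :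
    ∀ B : Subgroup X, B ≤ A →
      Cfsg.Agent.Helper26.fval V B ≤ Cfsg.Agent.Helper26.fval V A := by
  intro B hBA
  obtain ⟨hAT, ⟨hAc, -⟩, hAmax⟩ := hA
  set VB : Subgroup X := V ⊓ centralizer (B : Set X) with hVB
  set M : Subgroup X := B ⊔ VB with hM
  have hMT : M ≤ T := sup_le (hBA.trans hAT) (inf_le_left.trans hVT)
  have hBc : B ≤ centralizer (B : Set X) := by
    intro x hx
    rw [mem_centralizer_iff]
    intro y hy
    exact hAc y (hBA hy) x (hBA hx)
  have hMc : M ≤ centralizer (M : Set X) := by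
    rw [hM, Cfsg.Agent.Helper26.centralizer_sup_eq]
    apply sup_le
    · apply le_inf hBc
      rw [le_centralizer_iff]
      exact inf_le_right
    · apply le_inf inf_le_right
      exact inf_le_left.trans (hVab.trans (centralizer_le inf_le_left))
  have hMcard : Nat.card M ≤ Nat.card A := by
    apply hAmax M hMT
    refine ⟨fun x hx y hy => ((mem_centralizer_iff.mp (hMc hy)) x hx), fun _ _ => pow_zero _⟩
  have hprod := Cfsg.Agent.Helper17.card_sup_mul_card_inf B VB
    (inf_le_right.trans (centralizer_le_normalizer _))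
  have hinf : B ⊓ VB ≤ V ⊓ centralizer (A : Set X) := by
    intro x hx
    refine mem_inf.mpr ⟨(mem_inf.mp (mem_inf.mp hx).2).1, ?_⟩
    rw [mem_centralizer_iff]
    intro y hy
    exact hAc y hy x (hBA (mem_inf.mp hx).1)
  unfold Cfsg.Agent.Helper26.fval
  calc Nat.card B * Nat.card VB = Nat.card M * Nat.card (B ⊓ VB : Subgroup X) := hprod.symm
    _ ≤ Nat.card A * Nat.card ↥(V ⊓ centralizer (A : Set X)) :=
      Nat.mul_le_mul hMcard (card_le_of_le hinf)

end Cfsg.Agent.Helper7
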