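import Mathlib
import Cfsg.Prelude.Def_PLocal
import Cfsg.Agent.Helper7.GenOff3
import Cfsg.Agent.Helper7.GenOff5

set_option autoImplicit false
set_option linter.style.haveILetI false
set_option linter.unusedSectionVars false

/-! # Solvable Thompson factorization: passing to `V ⋊ X / C_X(V)` -/

namespace Cfsg.Agent.Helper7

open Subgroup Cfsg
open scoped commutatorElement Pointwise

variable {X : Type*} [Group X]

/-- The `FFSetup` for the image of a normal subgroup `J` in `V ⋊ X / C_X(V)`. -/
theorem ffSetup_map_of_normal [Finite X] {p : ℕ} [hp : Fact p.Prime] (V : Subgroup X) [V.Normal]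
    (hVel : IsElementaryAbelian p V) (hsep : Cfsg.IsPSolvable p X)
    (hOp : Cfsg.pCore p (X ⧸ centralizer (V : Set X)) = ⊥) (J : Subgroup X) [hJn : J.Normal] :
    FFSetup p (ffV V) (J.map (ffIota V)) := by
  set H' : Subgroup (FFGamma V) := J.map (ffIota V) with hH'
  have hS1 : centralizer (Cfsg.pPrimeCore p ↥H' : Set ↥H') ≤ Cfsg.pPrimeCore p ↥H' := by
    set Jb : Subgroup (X ⧸ centralizer (V : Set X)) :=
      J.map (QuotientGroup.mk' (centralizer (V : Set X))) with hJb
    have hJbn : Jb.Normal :=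
      Subgroup.Normal.map hJn _ (QuotientGroup.mk'_surjective _)
    have hsolv : Cfsg.IsPSolvable p ↥Jb :=
      Cfsg.Agent.Helper21.PSolv.isPSolvable_subgroup hp.out
        (Cfsg.Agent.Lead.isPSolvable_quotient hsep _) Jb
    have hOpJ : Cfsg.pCore p ↥Jb = ⊥ := by
      have hsub : ((Cfsg.pCore p ↥Jb).map Jb.subtype).IsSubnormal :=
        Subgroup.IsSubnormal.trans' (Subgroup.Normal.isSubnormal inferInstance)
          (Subgroup.Normal.isSubnormal hJbn)
      have hpg : IsPGroup p ↥((Cfsg.pCore p ↥Jb).map Jb.subtype) :=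
        (Cfsg.Agent.Helper19.pCore_isPGroup p).map _
      have hle := Cfsg.Agent.Helper14.le_pCore_of_isSubnormal hsub hpg
      rw [hOp, le_bot_iff] at hle
      exact (Subgroup.map_eq_bot_iff_of_injective _ Jb.subtype_injective).mp hle
    have h0 := centralizer_pPrimeCore_le_of_isPSolvable hsolv hOpJ
    have hmap : Jb.map SemidirectProduct.inr = H' := by
      rw [hH', hJb, Subgroup.map_map]
      rfl
    exact centralizer_pPrimeCore_le_of_mulEquiv
      ((Jb.equivMapOfInjective _ SemidirectProduct.inr_injective).trans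
        (MulEquiv.subgroupCongr hmap)) h0
  exact ⟨ffV_isElementaryAbelian V hVel, by
      rw [normalizer_eq_top_iff.mpr (inferInstance : (ffV V).Normal)]; exact le_top,
      map_ffIota_inf_centralizer V J, hS1⟩

/-- The image of `X` in `V ⋊ X / C_X(V)` is solvable. -/
theorem isSolvable_map_ffIota [hX : Group.IsSolvable X] (V : Subgroup X) [V.Normal]
    (J : Subgroup X) : Group.IsSolvable ↥(J.map (ffIota V)) := by
  have hJ : Group.IsSolvable ↥J := inferInstance
  have hsurj : Function.Surjective ((ffIota V).subgroupMap J) :=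
    (ffIota V).subgroupMap_surjective J
  exact solvable_of_surjective hsurj

/-- Images of abelian subgroups of largest order of a Sylow `2`-subgroup are best offenders (in
the elementary sense) in `V ⋊ X / C_X(V)`, for solvable `X` with `O₂(X / C_X(V)) = 1`. -/
theorem isBestOffenderOn_map_of_mem_famEl [Finite X] [Group.IsSolvable X] (V : Subgroup X)
    [V.Normal] (hVel : IsElementaryAbelian 2 V)
    (hOp : Cfsg.pCore 2 (X ⧸ centralizer (V : Set X)) = ⊥) {T : Subgroup X} (hT : IsPGroup 2 T)
    (hVT : V ≤ T) {A : Subgroup X} (hA : A ∈ Cfsg.Agent.Helper26.famEl 0 T) :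
    IsBestOffenderOn 2 (ffV V) (A.map (ffIota V)) := by
  haveI : Fact (Nat.Prime 2) := ⟨Nat.prime_two⟩
  have hVab := Cfsg.Agent.Helper26.le_centralizer_of_isElementaryAbelian hVel
  have hmaxX := fmax_of_mem_famEl hVT hVab hA
  have hAc : ∀ x ∈ A, ∀ y ∈ A, x * y = y * x := hA.2.1.1
  have hA0 : IsBestOffenderOn 0 V A := by
    refine ⟨hmaxX, ?_, fun a _ => ?_⟩
    · have : ⁅A, A⁆ = ⊥ := by
        rw [eq_bot_iff, commutator_le]
        intro a ha b hb
        rw [mem_bot, commutatorElement_eq_one_iff_commute]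
        exact hAc a ha b hb
      rw [this]; exact bot_le
    · rw [pow_zero]; exact one_mem _
  have h0 := isBestOffenderOn_map_ffIota V hA0
  have hsep : Cfsg.IsPSolvable 2 X :=
    Cfsg.Agent.Helper10.isPSolvable_of_isSolvable 2 inferInstance
  have hS : FFSetup 2 (ffV V) ((⊤ : Subgroup X).map (ffIota V)) :=
    ffSetup_map_of_normal V hVel hsep hOp ⊤
  have hsq := sq_eq_one_of_fmax hS (isSolvable_map_ffIota V ⊤) (map_mono le_top)
    ((hT.to_le hA.1).map _)
    (by
      rintro _ ⟨a, ha, rfl⟩ _ ⟨b, hb, rfl⟩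
      rw [← map_mul, ← map_mul, hAc a ha b hb])
    h0.1
  exact ⟨h0.1, h0.2.1, fun a ha => by rw [hsq a ha]; exact one_mem _⟩

end Cfsg.Agent.Helper7
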