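import Mathlib

set_option autoImplicit false
set_option linter.style.haveILetI false
set_option linter.unusedSectionVars false

/-! # Internal direct products as pi types -/

namespace Cfsg.Agent.Helper7

open Subgroup

/-- An independent family of subgroups, each normalized by their join, gives an isomorphism of the
join with the product. -/
theorem nonempty_mulEquiv_pi_of_iSupIndep {G : Type*} [Group G] {ι : Type*} [Finite ι]
    (N : ι → Subgroup G) (H : Subgroup G) (hsup : ⨆ i, N i = H) (hind : iSupIndep N)
    (hnorm : ∀ i, H ≤ normalizer ((N i : Subgroup G) : Set G)) :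
    Nonempty (↥H ≃* Π i, ↥(N i)) := by
  classical
  haveI : Fintype ι := Fintype.ofFinite ι
  have hle : ∀ i, N i ≤ H := fun i => hsup ▸ le_iSup N i
  have hcomm : Pairwise fun i j : ι => ∀ x y : G, x ∈ N i → y ∈ N j → Commute x y := by
    intro i j hij x y hx hy
    have hdisj := hind.pairwiseDisjoint hij
    have hxN : x ∈ normalizer ((N j : Subgroup G) : Set G) := hnorm j (hle i hx)
    have hyN : y ∈ normalizer ((N i : Subgroup G) : Set G) := hnorm i (hle j hy)
    have h1 : x * y * x⁻¹ * y⁻¹ ∈ N j :=
      (N j).mul_mem ((mem_normalizer_iff.mp hxN y).mp hy) ((N j).inv_mem hy)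
    have h2 : x * y * x⁻¹ * y⁻¹ ∈ N i := by
      have : x * y * x⁻¹ * y⁻¹ = x * (y * x⁻¹ * y⁻¹) := by group
      rw [this]
      exact (N i).mul_mem hx ((mem_normalizer_iff.mp hyN x⁻¹).mp ((N i).inv_mem hx))
    have h3 : x * y * x⁻¹ * y⁻¹ = 1 := Subgroup.disjoint_def.mp hdisj h2 h1
    show x * y = y * x
    calc x * y = (x * y * x⁻¹ * y⁻¹) * (y * x) := by group
      _ = y * x := by rw [h3, one_mul]
  have hinj := Subgroup.injective_noncommPiCoprod_of_iSupIndep (hcomm := hcomm) hind
  have hrange : (Subgroup.noncommPiCoprod hcomm).range = H := by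
    rw [Subgroup.noncommPiCoprod_range, hsup]
  exact ⟨((MonoidHom.ofInjective hinj).trans (MulEquiv.subgroupCongr hrange)).symm⟩

end Cfsg.Agent.Helper7
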