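import Mathlib

set_option autoImplicit false
set_option linter.style.haveILetI false
set_option linter.unusedSectionVars false

/-! # Nonabelian groups of order six -/

namespace Cfsg.Agent.Helper7

open Subgroup

/-- A nonabelian group of order `6` is isomorphic to the symmetric group of degree `3`. -/
theorem nonempty_mulEquiv_perm_three_of_card_six {E : Type*} [Group E] [Finite E]
    (hcard : Nat.card E = 6) (hna : ∃ a b : E, a * b ≠ b * a) :
    Nonempty (E ≃* Equiv.Perm (Fin 3)) := by
  classical
  haveI : Fact (Nat.Prime 2) := ⟨Nat.prime_two⟩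
  haveI : Fact (Nat.Prime 3) := ⟨Nat.prime_three⟩
  obtain ⟨x, hx⟩ := exists_prime_orderOf_dvd_card' (G := E) 2 (by rw [hcard]; norm_num)
  set P : Subgroup E := zpowers x with hP
  have hPcard : Nat.card P = 2 := by rw [hP, Nat.card_zpowers, hx]
  have hidx : P.index = 3 := by
    have := P.card_mul_index
    rw [hPcard, hcard] at this
    omega
  have hmem : ∀ y ∈ P, y = 1 ∨ y = x := by
    intro y hy
    rw [hP, mem_zpowers_iff_mem_range_orderOf, hx] at hy
    simp only [Finset.mem_image, Finset.mem_range] at hy
    obtain ⟨k, hk, rfl⟩ := hy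
    interval_cases k
    · left; simp
    · right; simp
  have hx1 : x ≠ 1 := by
    intro h
    rw [h, orderOf_one] at hx
    omega
  have hPn : ¬ P.Normal := by
    intro hn
    have hxc : x ∈ center E := by
      rw [mem_center_iff]
      intro g
      have h1 : g * x * g⁻¹ ∈ P := hn.conj_mem x (mem_zpowers x) g
      rcases hmem _ h1 with h | h
      · exfalso
        apply hx1
        have : x = g⁻¹ * (g * x * g⁻¹) * g := by group
        rw [this, h]; group
      · calc g * x = (g * x * g⁻¹) * g := by group
          _ = x * g := by rw [h]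
    have hPc : P ≤ center E := by
      rw [hP, zpowers_le]; exact hxc
    haveI : P.Normal := hn
    haveI : IsCyclic (E ⧸ P) := by
      apply isCyclic_of_prime_card (p := 3)
      rw [← Subgroup.index_eq_card, hidx]
    obtain ⟨a, b, hab⟩ := hna
    have hcomm := (QuotientGroup.mk' P).isMulCommutative_of_isCyclic_of_ker_le_center
      (by rw [QuotientGroup.ker_mk']; exact hPc)
    exact hab (hcomm.is_comm.comm a b)
  set φ : E →* Equiv.Perm (E ⧸ P) := MulAction.toPermHom E (E ⧸ P) with hφ
  have hker : φ.ker = ⊥ := by
    rw [hφ, ← normalCore_eq_ker]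
    have hle : P.normalCore ≤ P := P.normalCore_le
    have hdvd : Nat.card P.normalCore ∣ 2 := hPcard ▸ card_dvd_of_le hle
    rcases (Nat.dvd_prime Nat.prime_two).mp hdvd with h | h
    · exact card_eq_one.mp h
    · exfalso
      apply hPn
      have : P.normalCore = P := eq_of_le_of_card_ge hle (by rw [h, hPcard])
      rw [← this]
      infer_instance
  have hinj : Function.Injective φ := (MonoidHom.ker_eq_bot_iff φ).mp hker
  have hc3 : Nat.card (E ⧸ P) = 3 := by rw [← Subgroup.index_eq_card, hidx]
  haveI : Finite (E ⧸ P) := Nat.finite_of_card_ne_zero (by rw [hc3]; norm_num)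
  have hcardPerm : Nat.card (Equiv.Perm (E ⧸ P)) = 6 := by
    rw [Nat.card_perm, hc3]; rfl
  have hbij : Function.Bijective φ :=
    hinj.bijective_of_nat_card_le (by rw [hcardPerm, hcard])
  have e0 : (E ⧸ P) ≃ Fin 3 := Finite.equivFinOfCardEq hc3
  exact ⟨(MulEquiv.ofBijective φ hbij).trans e0.permCongrHom⟩

theorem nonempty_SL2_zmod_two_mulEquiv_perm :
    Nonempty (Matrix.SpecialLinearGroup (Fin 2) (ZMod 2) ≃* Equiv.Perm (Fin 3)) := by
  apply nonempty_mulEquiv_perm_three_of_card_six
  · rw [Nat.card_eq_fintype_card]
    decide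
  · decide

end Cfsg.Agent.Helper7
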