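import Mathlib
import Cfsg.Prelude.Def_PLocal
import Cfsg.Agent.Helper7.GenOff6
import Cfsg.Agent.Helper7.S3Iso
import Cfsg.Agent.Helper7.PiIso

set_option autoImplicit false
set_option linter.style.haveILetI false
set_option linter.unusedSectionVars false
set_option maxHeartbeats 800000

/-! # Solvable Thompson factorization: the product of symmetric groups -/

namespace Cfsg.Agent.Helper7

open Subgroup Cfsg
open scoped commutatorElement Pointwise

variable {X : Type*} [Group X]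

/-- The normal closure `Y` of `J(T)` (abelian version) satisfies `Y ≤ C_X(V)` or
`Y / C_Y(V) ≅ S₃ × ⋯ × S₃`. -/
theorem solvable_thompson_main [Finite X] [Group.IsSolvable X] (V : Subgroup X) [V.Normal]
    (hVel : IsElementaryAbelian 2 V)
    (hOp : Cfsg.pCore 2 (X ⧸ centralizer (V : Set X)) = ⊥) (T : Sylow 2 X)
    (hVT : V ≤ (T : Subgroup X)) (C' : Subgroup X) (hC' : C' = centralizer (V : Set X))
    (Y : Subgroup X)
    (hY : Y = normalClosure ((Cfsg.thompsonSubgroupAOf (T : Subgroup X) : Subgroup X) : Set X))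
    [hn : (C'.subgroupOf Y).Normal] :
    Y ≤ C' ∨ ∃ n : ℕ, 1 ≤ n ∧
      Nonempty (↥Y ⧸ C'.subgroupOf Y ≃* (Fin n → Equiv.Perm (Fin 3))) := by
  subst hC'
  haveI : Fact (Nat.Prime 2) := ⟨Nat.prime_two⟩
  have hsep : Cfsg.IsPSolvable 2 X :=
    Cfsg.Agent.Helper10.isPSolvable_of_isSolvable 2 inferInstance
  have hYn : Y.Normal := hY ▸ normalClosure_normal
  have hJY : Cfsg.thompsonSubgroupAOf (T : Subgroup X) ≤ Y := hY ▸ le_normalClosure
  obtain ⟨Yb, hYb⟩ : ∃ Yb : Subgroup (FFGamma V), Yb = Y.map (ffIota V) := ⟨_, rfl⟩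
  have hSY : FFSetup 2 (ffV V) Yb := hYb ▸ ffSetup_map_of_normal V hVel hsep hOp Y
  -- `Yb` is normalized by the image of `X`
  have hYbn : ∀ g : X, ffIota V g ∈ normalizer (Yb : Set (FFGamma V)) := by
    intro g
    rw [hYb, mem_normalizer_iff]
    intro y
    constructor
    · rintro ⟨x, hx, rfl⟩
      exact ⟨g * x * g⁻¹, hYn.conj_mem x hx g, by simp⟩
    · rintro ⟨x, hx, hxy⟩
      refine ⟨g⁻¹ * x * g, ?_, ?_⟩
      · have := hYn.conj_mem x hx g⁻¹
        simpa using this
      · have h2 : ffIota V (g⁻¹ * x * g) = (ffIota V g)⁻¹ * ffIota V x * ffIota V g := by simp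
        rw [h2, hxy]; group
  -- generation by best offenders
  have hbest : ∀ A ∈ Cfsg.Agent.Helper26.famEl 0 (T : Subgroup X),
      IsBestOffenderOn 2 (ffV V) (A.map (ffIota V)) := fun A hA =>
    isBestOffenderOn_map_of_mem_famEl V hVel hOp T.isPGroup' hVT hA
  obtain ⟨L, hL⟩ : ∃ L : Subgroup (FFGamma V), L = ⨆ B : {B : Subgroup (FFGamma V) //
      B ≤ Yb ∧ IsBestOffenderOn 2 (ffV V) B}, (B : Subgroup (FFGamma V)) := ⟨_, rfl⟩
  have hleL : ∀ B : Subgroup (FFGamma V), B ≤ Yb → IsBestOffenderOn 2 (ffV V) B → B ≤ L := by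
    intro B h1 h2
    rw [hL]
    exact le_iSup (fun B : {B : Subgroup (FFGamma V) // B ≤ Yb ∧
      IsBestOffenderOn 2 (ffV V) B} => (B : Subgroup (FFGamma V))) ⟨B, h1, h2⟩
  have hLconj : ∀ g : X, L.map (MulAut.conj (ffIota V g)).toMonoidHom ≤ L := by
    intro g
    rw [hL, Subgroup.map_iSup]
    apply iSup_le
    intro B
    rw [← hL]
    apply hleL
    · exact (map_mono B.2.1).trans_eq (map_conj_eq_of_mem_normalizer (hYbn g))
    · apply isBestOffenderOn_map_conj B.2.2
      rw [normalizer_eq_top_iff.mpr (inferInstance : (ffV V).Normal)]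
      exact mem_top _
  have hLn : (L.comap (ffIota V)).Normal := by
    constructor
    intro n hn g
    rw [mem_comap] at hn ⊢
    apply hLconj g
    exact ⟨ffIota V n, hn, by simp [MulAut.conj_apply]⟩
  have hS3 : Yb = ⨆ B : {B : Subgroup (FFGamma V) // B ≤ Yb ∧
      IsBestOffenderOn 2 (ffV V) B}, (B : Subgroup (FFGamma V)) := by
    rw [← hL]
    apply le_antisymm
    · rw [hYb, map_le_iff_le_comap, hY]
      apply normalClosure_le_normal
      intro x hx
      have hx' : x ∈ Cfsg.thompsonSubgroupAOf (T : Subgroup X) := hx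
      rw [Cfsg.Agent.Helper26.thompsonSubgroupAOf_eq] at hx'
      have : sSup (Cfsg.Agent.Helper26.famEl 0 (T : Subgroup X)) ≤ L.comap (ffIota V) := by
        apply sSup_le
        intro A hA
        rw [← map_le_iff_le_comap]
        apply hleL _ _ (hbest A hA)
        rw [hYb]
        apply map_mono
        refine le_trans ?_ hJY
        rw [Cfsg.Agent.Helper26.thompsonSubgroupAOf_eq]
        exact le_sSup hA
      exact this hx'
    · rw [hL]
      exact iSup_le (fun B => B.2.1)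
  by_cases hYb1 : Yb = ⊥
  · left
    rw [hYb, Subgroup.map_eq_bot_iff, ffIota_ker] at hYb1
    exact hYb1
  · right
    obtain ⟨-, hE, hind, hsup, -, -⟩ := hSY.structure_theorem hS3 hYb1
      (fun E => ∃ B : Subgroup (FFGamma V), B ≤ Yb ∧ IsMinOffender 2 (ffV V) B ∧
        E = ffE 2 Yb B) (fun E => Iff.rfl)
    -- the index type
    haveI hfin : Finite {E : Subgroup (FFGamma V) // ∃ B : Subgroup (FFGamma V), B ≤ Yb ∧
        IsMinOffender 2 (ffV V) B ∧ E = ffE 2 Yb B} := inferInstance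
    have hne : Nonempty {E : Subgroup (FFGamma V) // ∃ B : Subgroup (FFGamma V), B ≤ Yb ∧
        IsMinOffender 2 (ffV V) B ∧ E = ffE 2 Yb B} := by
      by_contra hemp
      rw [not_nonempty_iff] at hemp
      apply hYb1
      rw [← hsup]
      exact iSup_of_empty _
    refine ⟨Nat.card {E : Subgroup (FFGamma V) // ∃ B : Subgroup (FFGamma V), B ≤ Yb ∧
        IsMinOffender 2 (ffV V) B ∧ E = ffE 2 Yb B}, Nat.card_pos, ?_⟩
    -- iso 1: `Y / C_Y(V) ≅ Yb`
    set ψ : ↥Y →* FFGamma V := (ffIota V).comp Y.subtype with hψ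
    have hker : ψ.ker = (centralizer (V : Set X)).subgroupOf Y := by
      ext y
      rw [MonoidHom.mem_ker, hψ, MonoidHom.comp_apply, mem_subgroupOf, ffIota_eq_one_iff]
      rfl
    have hrange : ψ.range = Yb := by
      rw [hYb, hψ, MonoidHom.range_eq_map, ← Subgroup.map_map, ← MonoidHom.range_eq_map,
        range_subtype]
    have e1 : ↥Y ⧸ (centralizer (V : Set X)).subgroupOf Y ≃* ↥Yb :=
      ((QuotientGroup.quotientMulEquivOfEq hker.symm).trans
        (QuotientGroup.quotientKerEquivRange ψ)).trans (MulEquiv.subgroupCongr hrange)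
    -- iso 2: `Yb ≅ ∏ E`
    obtain ⟨e2⟩ := nonempty_mulEquiv_pi_of_iSupIndep
      (fun E : {E : Subgroup (FFGamma V) // ∃ B : Subgroup (FFGamma V), B ≤ Yb ∧
        IsMinOffender 2 (ffV V) B ∧ E = ffE 2 Yb B} => (E : Subgroup (FFGamma V)))
      Yb hsup hind (fun E => (hE E).1)
    -- iso 3: factors
    obtain ⟨s3⟩ := nonempty_SL2_zmod_two_mulEquiv_perm
    have e3 : (Π E : {E : Subgroup (FFGamma V) // ∃ B : Subgroup (FFGamma V), B ≤ Yb ∧
        IsMinOffender 2 (ffV V) B ∧ E = ffE 2 Yb B}, ↥(E : Subgroup (FFGamma V))) ≃*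
        ({E : Subgroup (FFGamma V) // ∃ B : Subgroup (FFGamma V), B ≤ Yb ∧
        IsMinOffender 2 (ffV V) B ∧ E = ffE 2 Yb B} → Equiv.Perm (Fin 3)) :=
      MulEquiv.piCongrRight (fun E => ((hE E).2.1.some).trans s3)
    have e4 : ({E : Subgroup (FFGamma V) // ∃ B : Subgroup (FFGamma V), B ≤ Yb ∧
        IsMinOffender 2 (ffV V) B ∧ E = ffE 2 Yb B} → Equiv.Perm (Fin 3)) ≃*
        (Fin (Nat.card {E : Subgroup (FFGamma V) // ∃ B : Subgroup (FFGamma V), B ≤ Yb ∧
        IsMinOffender 2 (ffV V) B ∧ E = ffE 2 Yb B}) → Equiv.Perm (Fin 3)) :=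
      MulEquiv.arrowCongr (Finite.equivFin _) (MulEquiv.refl _)
    exact ⟨((e1.trans e2).trans e3).trans e4⟩

end Cfsg.Agent.Helper7
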