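import Mathlib
import Cfsg.Prelude.Def_Classical
import Cfsg.Agent.Helper8.MatBNDefs
import Cfsg.Agent.Helper8.S2546Defs
import Cfsg.Agent.Helper21.S2549Defs

set_option autoImplicit false
open scoped Matrix

/-!
# S2549, piece QJCOORD: the minus-type form becomes the split form in the new coordinates
-/

namespace Cfsg.Agent.S2549P

open Cfsg.Agent.MatBN

variable {F : Type*} [Field F] {a b : F} {K : Type*} [Field K]

namespace QJCOORD

theorem PMinv_mulVec_inl (E : QExt F a b K) (m : ℕ) (v : Idx m → K) (i : Fin m ⊕ Fin m) :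
    (PMinv E m *ᵥ v) (.inl i) = v (.inl i) := by
  unfold PMinv
  rw [Matrix.mulVec, dotProduct, Fintype.sum_sum_type]
  simp [Matrix.fromBlocks_apply₁₁, Matrix.fromBlocks_apply₁₂, Matrix.one_apply]

theorem PMinv_mulVec_inr (E : QExt F a b K) (m : ℕ) (v : Idx m → K) (k : Fin 2) :
    (PMinv E m *ᵥ v) (.inr k) =
      v (.inr 0) + (if k = 0 then E.θ else E.σ E.θ) * v (.inr 1) := by
  unfold PMinv P2inv
  rw [Matrix.mulVec, dotProduct, Fintype.sum_sum_type]
  fin_cases k <;> simp [Matrix.fromBlocks_apply₂₁, Matrix.fromBlocks_apply₂₂, Fin.sum_univ_two]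

theorem theta_add (E : QExt F a b K) : E.θ + E.σ E.θ = E.inc a := by
  rw [E.hσθ]; ring

theorem theta_mul (E : QExt F a b K) : E.θ * E.σ E.θ = E.inc b := by
  rw [E.hσθ]
  linear_combination -E.hθ

end QJCOORD

/-- the form in the new coordinates -/
theorem QJ_coord (E : QExt F a b K) (m : ℕ) (v : Idx m → K) :
    QJ (2 * m + 2) (fun c => (PMinv E m *ᵥ v) (idx m c)) =
      Cfsg.quadFormMinus m K (E.inc a) (E.inc b) v := by
  unfold QJ Cfsg.quadFormMinus
  have hhalf : (2 * m + 2) / 2 = m + 1 := by omega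
  rw [hhalf, ← Equiv.sum_comp (posE m), Fintype.sum_sum_type, Fintype.sum_sum_type,
    Fin.sum_univ_two]
  have h1 : ∀ i : Fin m, (if ((posE m) (Sum.inl (Sum.inl i))).val < m + 1 then
      (PMinv E m *ᵥ v) (idx m ((posE m) (Sum.inl (Sum.inl i)))) *
        (PMinv E m *ᵥ v) (idx m ((posE m) (Sum.inl (Sum.inl i))).rev) else 0) =
      v (.inl (.inl i)) * v (.inl (.inr i)) := by
    intro i
    have hlt : ((posE m) (Sum.inl (Sum.inl i))).val < m + 1 := by
      show (i : ℕ) < m + 1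
      omega
    have hrev : ((posE m) (Sum.inl (Sum.inl i))).rev = pos m (.inl (.inr i)) := by
      apply Fin.ext
      rw [Fin.val_rev]
      show 2 * m + 2 - ((i : ℕ) + 1) = 2 * m + 1 - i
      omega
    rw [if_pos hlt, hrev]
    show (PMinv E m *ᵥ v) (idx m (pos m _)) * (PMinv E m *ᵥ v) (idx m (pos m _)) = _
    rw [idx_pos, idx_pos, QJCOORD.PMinv_mulVec_inl, QJCOORD.PMinv_mulVec_inl]
  have h2 : ∀ i : Fin m, (if ((posE m) (Sum.inl (Sum.inr i))).val < m + 1 then
      (PMinv E m *ᵥ v) (idx m ((posE m) (Sum.inl (Sum.inr i)))) *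
        (PMinv E m *ᵥ v) (idx m ((posE m) (Sum.inl (Sum.inr i))).rev) else 0) = 0 := by
    intro i
    have hlt : ¬ ((posE m) (Sum.inl (Sum.inr i))).val < m + 1 := by
      show ¬ (2 * m + 1 - (i : ℕ) < m + 1)
      have := i.2
      omega
    rw [if_neg hlt]
  have h3 : (if ((posE m) (Sum.inr 0)).val < m + 1 then
      (PMinv E m *ᵥ v) (idx m ((posE m) (Sum.inr 0))) *
        (PMinv E m *ᵥ v) (idx m ((posE m) (Sum.inr 0)).rev) else 0) =
      v (.inr 0) ^ 2 + E.inc a * v (.inr 0) * v (.inr 1) + E.inc b * v (.inr 1) ^ 2 := by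
    have hlt : ((posE m) (Sum.inr (0 : Fin 2))).val < m + 1 := by
      show m + ((0 : Fin 2) : ℕ) < m + 1
      simp
    have hrev : ((posE m) (Sum.inr (0 : Fin 2))).rev = pos m (.inr 1) := by
      apply Fin.ext
      rw [Fin.val_rev]
      show 2 * m + 2 - (m + ((0 : Fin 2) : ℕ) + 1) = m + ((1 : Fin 2) : ℕ)
      simp
      omega
    rw [if_pos hlt, hrev]
    show (PMinv E m *ᵥ v) (idx m (pos m _)) * (PMinv E m *ᵥ v) (idx m (pos m _)) = _
    rw [idx_pos, idx_pos, QJCOORD.PMinv_mulVec_inr, QJCOORD.PMinv_mulVec_inr]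
    simp only [if_true, show ¬ ((1 : Fin 2) = 0) by decide, if_false]
    rw [← QJCOORD.theta_add E, ← QJCOORD.theta_mul E]
    ring
  have h4 : (if ((posE m) (Sum.inr 1)).val < m + 1 then
      (PMinv E m *ᵥ v) (idx m ((posE m) (Sum.inr 1))) *
        (PMinv E m *ᵥ v) (idx m ((posE m) (Sum.inr 1)).rev) else 0) = 0 := by
    have hlt : ¬ ((posE m) (Sum.inr (1 : Fin 2))).val < m + 1 := by
      show ¬ (m + ((1 : Fin 2) : ℕ) < m + 1)
      simp
    rw [if_neg hlt]
  rw [Finset.sum_congr rfl (fun i _ => h1 i), Finset.sum_congr rfl (fun i _ => h2 i), h3, h4]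
  simp

end Cfsg.Agent.S2549P
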