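import Mathlib
import Cfsg.Prelude.Def_ClassicalGeometry
import Cfsg.Agent.Helper16.S5955Defs

/-!
# S5955, piece AUG1: the augmentation space with the shift is an `IsYSp` without fixed points
-/

set_option autoImplicit false
set_option linter.unusedSectionVars false
open scoped MatrixGroups

universe u

namespace Cfsg.Agent.S5955P

open Polynomial Cfsg.Agent.Helper2.SympInvol Cfsg.Agent.Helper2.SympUnits Cfsg.Agent.S5961P

namespace AUG1

variable {F : Type*} [Field F] (r : ℕ) [Fact r.Prime]

/-- a function invariant under the shift by one is constant -/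
theorem const_of_shift (u : ZMod r → F) (h : ∀ a, u (a + 1) = u a) : ∀ a, u a = u 0 := by
  have key : ∀ n : ℕ, u ((n : ℕ) : ZMod r) = u 0 := by
    intro n
    induction n with
    | zero => simp
    | succ n ih => rw [Nat.cast_succ, h, ih]
  intro a
  have := key a.val
  rwa [ZMod.natCast_zmod_val] at this

/-- a function invariant under the shift by two is constant (`r` odd) -/
theorem const_of_shift_two (hr2 : r ≠ 2) (u : ZMod r → F) (h : ∀ a, u (a + 2) = u a) :
    ∀ a, u a = u 0 := by
  have hrp : r.Prime := Fact.out
  apply const_of_shift r u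
  have key : ∀ (n : ℕ) (a : ZMod r), u (a + ((2 * n : ℕ) : ZMod r)) = u a := by
    intro n
    induction n with
    | zero => intro a; simp
    | succ n ih =>
      intro a
      have e : a + ((2 * (n + 1) : ℕ) : ZMod r) = (a + ((2 * n : ℕ) : ZMod r)) + 2 := by
        push_cast; ring
      rw [e, h, ih]
  intro a
  have hodd : Odd r := hrp.odd_of_ne_two hr2
  obtain ⟨k, hk⟩ := hodd
  have e : ((2 * (k + 1) : ℕ) : ZMod r) = 1 := by
    have : 2 * (k + 1) = r + 1 := by omega
    rw [this, Nat.cast_add, ZMod.natCast_self, zero_add, Nat.cast_one]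
  have := key (k + 1) a
  rwa [e] at this

/-- a constant function of sum zero vanishes -/
theorem eq_zero_of_const {p : ℕ} [Fact p.Prime] [CharP F p] (hrp : r ≠ p) (u : ZMod r → F)
    (hc : ∀ a, u a = u 0) (hs : ∑ a : ZMod r, u a = 0) : u = 0 := by
  have hrp' : r.Prime := Fact.out
  have hpp : p.Prime := Fact.out
  have h1 : ∑ a : ZMod r, u a = (r : F) * u 0 := by
    rw [Finset.sum_congr rfl (fun a _ => hc a), Finset.sum_const, Finset.card_univ, ZMod.card,
      nsmul_eq_mul]
  have hr0 : (r : F) ≠ 0 := by
    intro h0
    rw [CharP.cast_eq_zero_iff F p] at h0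
    exact hrp ((Nat.prime_dvd_prime_iff_eq hpp hrp').1 h0).symm
  rw [h1] at hs
  have hu0 : u 0 = 0 := by
    rcases mul_eq_zero.1 hs with h | h
    · exact absurd h hr0
    · exact h
  funext a
  rw [hc a, hu0]
  rfl

/-- the value of the form against a delta function -/
theorem shiftB_single (u : ZMod r → F) (b : ZMod r) :
    shiftB F r u (Pi.single b 1) = u (b + 1) - u (b - 1) := by
  classical
  rw [shiftB_apply, Finset.sum_sub_distrib]
  have h1 : ∑ a : ZMod r, u (a + 1) * (Pi.single b (1 : F) : ZMod r → F) a = u (b + 1) := by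
    rw [Finset.sum_eq_single b]
    · simp
    · intro a _ hab
      rw [Pi.single_eq_of_ne hab, mul_zero]
    · intro h; exact absurd (Finset.mem_univ b) h
  have h2 : ∑ a : ZMod r, u a * (Pi.single b (1 : F) : ZMod r → F) (a + 1) = u (b - 1) := by
    rw [Finset.sum_eq_single (b - 1)]
    · simp
    · intro a _ hab
      have : a + 1 ≠ b := by
        intro h
        apply hab
        rw [← h]; ring
      rw [Pi.single_eq_of_ne this, mul_zero]
    · intro h; exact absurd (Finset.mem_univ _) h
  rw [h1, h2]

end AUG1

open AUG1 in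
/-- AUG1 -/
theorem aug_isYSp {F : Type*} [Field F] {p : ℕ} [Fact p.Prime] [CharP F p] (r : ℕ)
    [Fact r.Prime] (hr2 : r ≠ 2) (hrp : r ≠ p) :
    IsYSp (augB F r) (augS F r) r ∧ LinearMap.ker (augS F r - 1) = ⊥ ∧
    Module.finrank F (Aug F r) = r - 1 := by
  classical
  have hrp' : r.Prime := Fact.out
  refine ⟨⟨?_, ?_, ?_, ?_⟩, ?_, ?_⟩
  · -- alternating
    intro v
    rw [augB_apply, shiftB_apply]
    apply Finset.sum_eq_zero
    intro a _
    ring
  · -- nondegenerate
    intro u _ hu0
    by_contra hcon
    push Not at hcon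
    apply hu0
    -- the test vectors
    have hmem : ∀ b c : ZMod r,
        (Pi.single b (1 : F) - Pi.single c (1 : F) : ZMod r → F) ∈ Aug F r := by
      intro b c
      rw [mem_Aug]
      simp only [Pi.sub_apply]
      rw [Finset.sum_sub_distrib, Finset.sum_pi_single', Finset.sum_pi_single']
      simp
    have hw : ∀ b c : ZMod r, (u : ZMod r → F) (b + 1) - (u : ZMod r → F) (b - 1) =
        (u : ZMod r → F) (c + 1) - (u : ZMod r → F) (c - 1) := by
      intro b c
      have h := hcon ⟨_, hmem b c⟩ trivial
      rw [augB_apply] at h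
      simp only at h
      rw [map_sub, shiftB_single, shiftB_single] at h
      exact sub_eq_zero.1 h
    -- the common value vanishes
    have hsum : ∑ a : ZMod r, ((u : ZMod r → F) (a + 1) - (u : ZMod r → F) (a - 1)) = 0 := by
      rw [Finset.sum_sub_distrib]
      have e1 : ∑ a : ZMod r, (u : ZMod r → F) (a + 1) = ∑ a : ZMod r, (u : ZMod r → F) a :=
        Fintype.sum_equiv (Equiv.addRight (1 : ZMod r)) _ _ (fun a => rfl)
      have e2 : ∑ a : ZMod r, (u : ZMod r → F) (a - 1) = ∑ a : ZMod r, (u : ZMod r → F) a :=
        Fintype.sum_equiv (Equiv.subRight (1 : ZMod r)) _ _ (fun a => rfl)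
      rw [e1, e2, sub_self]
    have hw0 : ∀ b : ZMod r, (u : ZMod r → F) (b + 1) - (u : ZMod r → F) (b - 1) = 0 := by
      have hc : ∀ a : ZMod r, (fun a : ZMod r => (u : ZMod r → F) (a + 1) -
          (u : ZMod r → F) (a - 1)) a = (fun a : ZMod r => (u : ZMod r → F) (a + 1) -
          (u : ZMod r → F) (a - 1)) 0 := fun a => hw a 0
      have := eq_zero_of_const r hrp _ hc hsum
      intro b
      exact congrFun this b
    have h2 : ∀ a : ZMod r, (u : ZMod r → F) (a + 2) = (u : ZMod r → F) a := by
      intro a
      have := hw0 (a + 1)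
      rw [sub_eq_zero] at this
      have e1 : a + 1 + 1 = a + 2 := by ring
      have e2 : a + 1 - 1 = a := by ring
      rw [e1, e2] at this
      exact this
    have hconst := const_of_shift_two r hr2 _ h2
    have hz := eq_zero_of_const r hrp _ hconst ((mem_Aug F r _).1 u.2)
    exact Subtype.ext hz
  · -- isometry
    intro u v
    rw [augB_apply, augB_apply, shiftB_apply, shiftB_apply]
    simp only [augS_coe, shiftL_apply]
    exact Fintype.sum_equiv (Equiv.addRight (1 : ZMod r)) _ _ (fun a => rfl)
  · -- `S ^ r = 1`
    have key : ∀ (k : ℕ) (u : Aug F r) (a : ZMod r),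
        (((augS F r ^ k) u : Aug F r) : ZMod r → F) a = (u : ZMod r → F) (a + (k : ZMod r)) := by
      intro k
      induction k with
      | zero => intro u a; simp
      | succ k ih =>
        intro u a
        have e : a + ((k + 1 : ℕ) : ZMod r) = a + (k : ZMod r) + 1 := by
          push_cast; ring
        rw [pow_succ, Module.End.mul_apply, ih, augS_coe, shiftL_apply, e]
    apply LinearMap.ext
    intro u
    apply Subtype.ext
    funext a
    rw [key, ZMod.natCast_self, add_zero]
    rfl
  · -- no fixed points
    rw [Submodule.eq_bot_iff]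
    intro u hu
    rw [LinearMap.mem_ker, LinearMap.sub_apply, sub_eq_zero] at hu
    have h1 : ∀ a : ZMod r, (u : ZMod r → F) (a + 1) = (u : ZMod r → F) a := by
      intro a
      have := congrArg (fun w : Aug F r => (w : ZMod r → F) a) hu
      simp only [augS_coe, shiftL_apply] at this
      exact this
    have hconst := const_of_shift r _ h1
    have hz := eq_zero_of_const r hrp _ hconst ((mem_Aug F r _).1 u.2)
    exact Subtype.ext hz
  · -- dimension
    let φ : Module.Dual F (ZMod r → F) := ∑ a : ZMod r, LinearMap.proj a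
    have hφ : ∀ u : ZMod r → F, φ u = ∑ a : ZMod r, u a := by
      intro u
      simp [φ, LinearMap.sum_apply]
    have hker : Aug F r = LinearMap.ker φ := by
      ext u
      rw [mem_Aug, LinearMap.mem_ker, hφ]
    have hφ0 : φ ≠ 0 := by
      intro h
      have := hφ (Pi.single 0 1)
      rw [h, LinearMap.zero_apply, Finset.sum_pi_single'] at this
      simp at this
    have h := Module.Dual.finrank_ker_add_one_of_ne_zero hφ0
    rw [Module.finrank_fintype_fun_eq_card, ZMod.card] at h
    rw [hker]
    omega

end Cfsg.Agent.S5955P
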