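import Mathlib
import Cfsg.Prelude.Def_ClassicalGeometry
import Cfsg.Agent.Helper16.S5955Defs

/-!
# S5955, piece AUGREC: on the augmentation space the kernel of `g(S)` has dimension at most `deg g`
-/

set_option autoImplicit false
set_option linter.unusedSectionVars false
open scoped MatrixGroups

universe u

namespace Cfsg.Agent.S5955P

open Polynomial Cfsg.Agent.Helper2.SympInvol Cfsg.Agent.Helper2.SympUnits Cfsg.Agent.S5961P

namespace AUGREC

variable {F : Type*} [Field F] (r : ℕ) [Fact r.Prime]

/-- powers of the shift -/
theorem pow_apply (k : ℕ) (u : Aug F r) (a : ZMod r) :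
    (((augS F r ^ k) u : Aug F r) : ZMod r → F) a = (u : ZMod r → F) (a + (k : ZMod r)) := by
  induction k generalizing u a with
  | zero => simp
  | succ k ih =>
    have e : a + ((k + 1 : ℕ) : ZMod r) = a + (k : ZMod r) + 1 := by push_cast; ring
    rw [pow_succ, Module.End.mul_apply, ih, augS_coe, shiftL_apply, e]

/-- a polynomial in the shift -/
theorem aeval_apply (g : F[X]) (u : Aug F r) (a : ZMod r) :
    (((aeval (augS F r) g) u : Aug F r) : ZMod r → F) a =
      ∑ k ∈ Finset.range (g.natDegree + 1), g.coeff k * (u : ZMod r → F) (a + (k : ZMod r)) := by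
  rw [aeval_eq_sum_range, LinearMap.sum_apply, Submodule.coe_sum, Finset.sum_apply]
  apply Finset.sum_congr rfl
  intro k _
  rw [LinearMap.smul_apply, Submodule.coe_smul, Pi.smul_apply, pow_apply, smul_eq_mul]

end AUGREC

open AUGREC in
/-- AUGREC -/
theorem aug_rec {F : Type*} [Field F] (r : ℕ) [Fact r.Prime] (g : F[X]) (hg : g.Monic) :
    Module.finrank F (LinearMap.ker (aeval (augS F r) g)) ≤ g.natDegree := by
  classical
  obtain ⟨D, hD⟩ : ∃ D, D = g.natDegree := ⟨_, rfl⟩
  let Ψ : LinearMap.ker (aeval (augS F r) g) →ₗ[F] (Fin D → F) :=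
    { toFun := fun u k => (((u : Aug F r) : ZMod r → F)) (((k : ℕ) : ZMod r))
      map_add' := fun u v => by funext k; simp
      map_smul' := fun c u => by funext k; simp }
  have hΨ : ∀ (u : LinearMap.ker (aeval (augS F r) g)) (k : Fin D),
      Ψ u k = (((u : Aug F r) : ZMod r → F)) (((k : ℕ) : ZMod r)) := fun _ _ => rfl
  have hinj : Function.Injective Ψ := by
    rw [injective_iff_map_eq_zero]
    intro u hu
    have hrec : ∀ a : ZMod r, ∑ k ∈ Finset.range D,
        g.coeff k * ((u : Aug F r) : ZMod r → F) (a + (k : ZMod r)) +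
          ((u : Aug F r) : ZMod r → F) (a + (D : ZMod r)) = 0 := by
      intro a
      have h0 : (aeval (augS F r) g) (u : Aug F r) = 0 := LinearMap.mem_ker.1 u.2
      have h1 := aeval_apply r g (u : Aug F r) a
      rw [h0, ← hD, Finset.sum_range_succ, hD, hg.coeff_natDegree, one_mul] at h1
      rw [hD]
      exact h1.symm
    have hnat : ∀ n : ℕ, ((u : Aug F r) : ZMod r → F) ((n : ℕ) : ZMod r) = 0 := by
      intro n
      induction n using Nat.strong_induction_on with
      | _ n ih =>
        by_cases hn : n < D
        · have := congrFun hu ⟨n, hn⟩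
          rw [hΨ] at this
          exact this
        · push Not at hn
          have h := hrec ((n - D : ℕ) : ZMod r)
          have hs : ∑ k ∈ Finset.range D, g.coeff k *
              ((u : Aug F r) : ZMod r → F) (((n - D : ℕ) : ZMod r) + (k : ZMod r)) = 0 := by
            apply Finset.sum_eq_zero
            intro k hk
            rw [Finset.mem_range] at hk
            have e : ((n - D : ℕ) : ZMod r) + (k : ZMod r) = ((n - D + k : ℕ) : ZMod r) := by
              push_cast; rfl
            rw [e, ih (n - D + k) (by omega), mul_zero]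
          rw [hs, zero_add] at h
          have e : ((n - D : ℕ) : ZMod r) + (D : ZMod r) = ((n : ℕ) : ZMod r) := by
            rw [← Nat.cast_add, Nat.sub_add_cancel hn]
          rw [e] at h
          exact h
    apply Subtype.ext
    apply Subtype.ext
    funext a
    have := hnat a.val
    rw [ZMod.natCast_zmod_val] at this
    rw [this]
    rfl
  have h := LinearMap.finrank_le_finrank_of_injective hinj
  rw [Module.finrank_fin_fun] at h
  rw [← hD]
  exact h

end Cfsg.Agent.S5955P
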