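import Mathlib
import Cfsg.Prelude.Def_GeometricClasses
import Cfsg.Prelude.Def_Classical
import Cfsg.Prelude.Def_LieClassical
import Cfsg.Agent.Helper6.S5992Defs
import Cfsg.Agent.Helper8.S5992DISCBASIS
import Cfsg.Agent.Helper25.S5992RESTRYO
import Cfsg.Agent.Helper6.S5992PLUSDISC

/-! S5992 piece EXC (helper7): a nondegenerate space of dimension at least `e + 1` contains
nondegenerate `e`-subspaces of both types (`e` even). -/

set_option autoImplicit false
open scoped MatrixGroups
universe u

namespace Cfsg.Agent.S5992P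

open Cfsg.Agent.Helper2.SympInvol Cfsg.Agent.Helper2.SympUnits Cfsg.Agent.S5961P Cfsg.Agent.S2614
  Cfsg.Agent.S5955P

namespace EXC

variable {F V : Type*} [Field F] [AddCommGroup V] [Module F V]

/-- an orthogonal basis of a nondegenerate subspace -/
theorem exists_orth_basis [FiniteDimensional F V] (h2 : (2 : F) ≠ 0) (Q : QuadraticForm F V)
    (M : Submodule F V) (hM : Nondeg (PB Q) M) :
    ∃ v : Module.Basis (Fin (Module.finrank F M)) F M,
      (∀ i j, i ≠ j → PB Q (v i : V) (v j : V) = 0) ∧ ∀ i, Q (v i : V) ≠ 0 := by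
  have : Invertible (2 : F) := invertibleOfNonzero h2
  have hsymm : LinearMap.IsSymm (QuadraticMap.polarBilin (Q.comp M.subtype)) :=
    ⟨fun x y => by simp [QuadraticMap.polar_comm]⟩
  obtain ⟨v, hv⟩ := LinearMap.BilinForm.exists_orthogonal_basis hsymm
  have horth : ∀ i j, i ≠ j → PB Q (v i : V) (v j : V) = 0 := by
    intro i j hij
    have := LinearMap.isOrthoᵢ_def.1 hv i j hij
    rw [← restryo_PB]
    exact this
  refine ⟨v, horth, ?_⟩
  intro i h0
  obtain ⟨w, hw, hne⟩ := hM (v i : V) (v i).2 (fun h => v.ne_zero i (Subtype.ext h))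
  apply hne
  have hrep : (⟨w, hw⟩ : M) = ∑ j, v.repr ⟨w, hw⟩ j • v j := (v.sum_repr _).symm
  have hw' : w = ∑ j, v.repr ⟨w, hw⟩ j • (v j : V) := by
    have h := congrArg (M.subtype) hrep
    rw [map_sum] at h
    simpa only [map_smul, Submodule.subtype_apply] using h
  rw [hw', map_sum]
  apply Finset.sum_eq_zero
  intro j _
  rw [map_smul]
  by_cases hij : i = j
  · subst hij
    rw [PB_self, h0]; simp
  · rw [horth i j hij]; simp

/-- a binary diagonal form with nonzero coefficients over a finite field of odd order is universal -/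
theorem exists_rep [Fintype F] (h2 : (2 : F) ≠ 0) (a b t : F) (ha : a ≠ 0) (hb : b ≠ 0) :
    ∃ α β : F, a * α ^ 2 + b * β ^ 2 = t := by
  have hodd : Fintype.card F % 2 = 1 :=
    FiniteField.odd_card_of_char_ne_two (F := F) (by
      intro h
      have : CharP F 2 := by rw [← h]; exact ringChar.charP F
      exact h2 (CharTwo.two_eq_zero))
  have hf : (Polynomial.C a * Polynomial.X ^ 2).degree = 2 :=
    Polynomial.degree_C_mul_X_pow 2 ha
  have hg : (Polynomial.C b * Polynomial.X ^ 2 - Polynomial.C t).degree = 2 := by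
    have hd := Polynomial.degree_C_mul_X_pow 2 hb
    rw [Polynomial.degree_sub_C (by rw [hd]; norm_num), hd]
    rfl
  obtain ⟨α, β, hab⟩ := FiniteField.exists_root_sum_quadratic hf hg hodd
  simp only [Polynomial.eval_mul, Polynomial.eval_C, Polynomial.eval_pow, Polynomial.eval_X,
    Polynomial.eval_sub] at hab
  exact ⟨α, β, by linear_combination hab⟩

/-- there is a nonsquare in a finite field of odd order -/
theorem exists_nonsq [Fintype F] (h2 : (2 : F) ≠ 0) : ∃ ν : F, ν ≠ 0 ∧ ¬ IsSquare ν := by
  have hchar : ringChar F ≠ 2 := by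
    intro h
    have : CharP F 2 := by rw [← h]; exact ringChar.charP F
    exact h2 (CharTwo.two_eq_zero)
  obtain ⟨ν, hν⟩ := FiniteField.exists_nonsquare hchar
  refine ⟨ν, ?_, hν⟩
  rintro rfl
  exact hν ⟨0, by simp⟩

/-- Gram determinant of an orthogonal family -/
theorem gramDet_orth (Q : QuadraticForm F V) {k : ℕ} (b : Fin k → V)
    (horth : ∀ i j, i ≠ j → PB Q (b i) (b j) = 0) :
    gramDet Q b = ∏ i, (2 * Q (b i)) := by
  unfold gramDet
  have : (Matrix.of fun i j : Fin k => QuadraticMap.polar Q (b i) (b j)) =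
      Matrix.diagonal (fun i => 2 * Q (b i)) := by
    ext i j
    rw [Matrix.of_apply]
    by_cases hij : i = j
    · subst hij
      rw [Matrix.diagonal_apply_eq, ← PB_apply, PB_self]
    · rw [Matrix.diagonal_apply_ne _ hij, ← PB_apply, horth i j hij]
  rw [this, Matrix.det_diagonal]

/-- the subspace spanned by an orthogonal family of nonsingular vectors -/
theorem span_orth [FiniteDimensional F V] (h2 : (2 : F) ≠ 0) (Q : QuadraticForm F V) {k : ℕ}
    (b : Fin k → V) (horth : ∀ i j, i ≠ j → PB Q (b i) (b j) = 0) (hns : ∀ i, Q (b i) ≠ 0) :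
    Module.finrank F (Submodule.span F (Set.range b)) = k ∧
    Nondeg (PB Q) (Submodule.span F (Set.range b)) ∧
    (DiscSq Q (Submodule.span F (Set.range b)) ↔
      IsSquare ((-1 : F) ^ (k / 2) * ∏ i, (2 * Q (b i)))) := by
  have hli : LinearIndependent F b := by
    apply LinearMap.linearIndependent_of_isOrthoᵢ (B := PB Q)
    · rw [LinearMap.isOrthoᵢ_def]
      exact horth
    · intro i
      rw [PB_self]
      exact mul_ne_zero h2 (hns i)
  have hb : (fun i => ((Module.Basis.span hli) i : V)) = b := by
    funext i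
    rw [Module.Basis.span_apply hli i]
  have hD := discSq_iff Q (Submodule.span F (Set.range b)) (Module.Basis.span hli)
  rw [hb, gramDet_orth Q b horth] at hD
  refine ⟨?_, ?_, hD.1⟩
  · rw [finrank_span_eq_card hli, Fintype.card_fin]
  · rw [hD.2]
    exact Finset.prod_ne_zero_iff.2 (fun i _ => mul_ne_zero h2 (hns i))

end EXC

open EXC in
/-- EXC -/
theorem exists_sub_ty {F V : Type*} [Field F] [Fintype F] [AddCommGroup V] [Module F V]
    [FiniteDimensional F V] (h2 : (2 : F) ≠ 0) (Q : QuadraticForm F V) (M : Submodule F V)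
    (hM : Nondeg (PB Q) M) (ε : Bool) (e : ℕ) (he : Even e) (hε : ε = false → 2 ≤ e)
    (hle : e + 1 ≤ Module.finrank F M) : ∃ W : Submodule F V, W ≤ M ∧ IsTy Q ε e W := by
  classical
  rcases Nat.eq_zero_or_pos e with he0 | hepos
  · subst he0
    refine ⟨⊥, bot_le, by simp, ?_, ?_⟩
    · intro w hw hw0
      exact absurd ((Submodule.mem_bot F).1 hw) hw0
    · have hεt : ε = true := by
        cases ε
        · exact absurd (hε rfl) (by omega)
        · rfl
      simp [hεt, plus_bot]
  obtain ⟨k, rfl⟩ : ∃ k, e = k + 1 := ⟨e - 1, by omega⟩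
  obtain ⟨v, horth, hns⟩ := exists_orth_basis h2 Q M hM
  have hk1 : k < Module.finrank F M := by omega
  have hk2 : k + 1 < Module.finrank F M := by omega
  set c : F := (-1 : F) ^ ((k + 1) / 2) * ((∏ i : Fin k, (2 * Q (v ⟨i.val, by omega⟩ : V))) * 2)
    with hc
  have hc0 : c ≠ 0 := by
    rw [hc]
    refine mul_ne_zero (pow_ne_zero _ (by simp)) (mul_ne_zero ?_ h2)
    exact Finset.prod_ne_zero_iff.2 (fun i _ => mul_ne_zero h2 (hns _))
  obtain ⟨ν, hν0, hνns⟩ := exists_nonsq (F := F) h2
  set t : F := if ε = true then c else c * ν with ht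
  have ht0 : t ≠ 0 := by
    rw [ht]
    split_ifs
    · exact hc0
    · exact mul_ne_zero hc0 hν0
  have htsq : IsSquare (c * t) ↔ ε = true := by
    rw [ht]
    split_ifs with h
    · simp only [h, iff_true]
      exact ⟨c, rfl⟩
    · refine iff_of_false ?_ h
      rintro ⟨z, hz⟩
      apply hνns
      refine ⟨z / c, ?_⟩
      field_simp
      linear_combination hz
  obtain ⟨α, β, hαβ⟩ := exists_rep h2 (Q (v ⟨k, hk1⟩ : V)) (Q (v ⟨k + 1, hk2⟩ : V)) t
    (hns _) (hns _)
  set w : V := α • (v ⟨k, hk1⟩ : V) + β • (v ⟨k + 1, hk2⟩ : V) with hw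
  have hkne : (⟨k, hk1⟩ : Fin (Module.finrank F M)) ≠ ⟨k + 1, hk2⟩ := by
    intro h
    have := congrArg Fin.val h
    simp at this
  have hQw : Q w = t := by
    rw [hw, QuadraticMap.map_add (⇑Q), QuadraticMap.map_smul, QuadraticMap.map_smul,
      QuadraticMap.polar_smul_left, QuadraticMap.polar_smul_right, ← PB_apply,
      horth _ _ hkne]
    simp only [smul_eq_mul, mul_zero, add_zero]
    linear_combination hαβ
  set b : Fin (k + 1) → V := Fin.snoc (fun i : Fin k => (v ⟨i.val, by omega⟩ : V)) w with hb
  have hbc : ∀ i : Fin k, b (Fin.castSucc i) = (v ⟨i.val, by omega⟩ : V) := by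
    intro i
    rw [hb, Fin.snoc_castSucc]
  have hbl : b (Fin.last k) = w := by
    rw [hb, Fin.snoc_last]
  have hvw : ∀ i : Fin k, PB Q (v ⟨i.val, by omega⟩ : V) w = 0 := by
    intro i
    have h1 : (⟨i.val, by omega⟩ : Fin (Module.finrank F M)) ≠ ⟨k, hk1⟩ := by
      intro h
      have := congrArg Fin.val h
      simp at this
      omega
    have h2' : (⟨i.val, by omega⟩ : Fin (Module.finrank F M)) ≠ ⟨k + 1, hk2⟩ := by
      intro h
      have := congrArg Fin.val h
      simp at this
      omega
    rw [hw, map_add, map_smul, map_smul, horth _ _ h1, horth _ _ h2']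
    simp
  have hborth : ∀ i j, i ≠ j → PB Q (b i) (b j) = 0 := by
    intro i j hij
    induction i using Fin.lastCases with
    | last =>
      induction j using Fin.lastCases with
      | last => exact absurd rfl hij
      | cast j =>
        rw [hbl, hbc, PB_comm]
        exact hvw j
    | cast i =>
      induction j using Fin.lastCases with
      | last =>
        rw [hbl, hbc]
        exact hvw i
      | cast j =>
        rw [hbc, hbc]
        apply horth
        intro h
        apply hij
        have := congrArg Fin.val h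
        simp at this
        exact congrArg Fin.castSucc (Fin.ext this)
  have hbns : ∀ i, Q (b i) ≠ 0 := by
    intro i
    induction i using Fin.lastCases with
    | last => rw [hbl, hQw]; exact ht0
    | cast i => rw [hbc]; exact hns _
  obtain ⟨hfr, hnd, hdisc⟩ := span_orth h2 Q b hborth hbns
  refine ⟨Submodule.span F (Set.range b), ?_, hfr, hnd, ?_⟩
  · rw [Submodule.span_le]
    rintro _ ⟨i, rfl⟩
    induction i using Fin.lastCases with
    | last =>
      rw [hbl, hw]
      exact M.add_mem (M.smul_mem _ (v _).2) (M.smul_mem _ (v _).2)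
    | cast i => rw [hbc]; exact (v _).2
  · rw [plus_iff_discSq h2 Q _ hnd (by rw [hfr]; exact he), hdisc, ← htsq,
      Fin.prod_univ_castSucc, hbl, hQw]
    simp only [hbc]
    rw [hc]
    constructor
    · intro h
      convert h using 1
      ring
    · intro h
      convert h using 1
      ring

end Cfsg.Agent.S5992P
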