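import Mathlib
import Cfsg.Prelude.Def_Local
import Cfsg.Agent.Helper7.PConstrained

set_option autoImplicit false
set_option linter.style.haveILetI false
set_option linter.unusedSectionVars false

/-! # The group `SL(2, 3)` (S1303) -/

namespace Cfsg.Agent.Helper7

open Subgroup Cfsg Matrix

/-- The layer of a solvable group is trivial. -/
theorem layer_eq_bot_of_isSolvable {X : Type*} [Group X] [hs : Group.IsSolvable X] :
    layer X = ⊥ := by
  unfold layer
  rw [sSup_eq_bot]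
  intro K hK
  exfalso
  obtain ⟨-, hperf, hsimple⟩ := hK
  haveI : Nontrivial K := by
    by_contra h
    rw [not_nontrivial_iff_subsingleton] at h
    haveI := hsimple
    haveI : Subsingleton (K ⧸ center K) := Quotient.instSubsingletonQuotient _
    exact not_subsingleton (K ⧸ center K) inferInstance
  have h1 := Group.IsSolvable.commutator_lt_top_of_nontrivial K
  exact h1.ne hperf.commutator_eq_top

/-- The `2 × 2` matrix with the given entries. -/
def mk4 (a b c d : ZMod 3) : Matrix (Fin 2) (Fin 2) (ZMod 3) := !![a, b; c, d]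

theorem sl23_coe_eq (x : SpecialLinearGroup (Fin 2) (ZMod 3)) :
    (x : Matrix (Fin 2) (Fin 2) (ZMod 3)) = mk4 (x 0 0) (x 0 1) (x 1 0) (x 1 1) :=
  Matrix.eta_fin_two _

theorem sl23_det (x : SpecialLinearGroup (Fin 2) (ZMod 3)) :
    x 0 0 * x 1 1 - x 0 1 * x 1 0 = 1 := by
  have := x.det_coe
  rwa [Matrix.det_fin_two] at this

theorem mk4_sq_eq_one : ∀ a b c d : ZMod 3, a * d - b * c = 1 →
    (mk4 a b c d) * (mk4 a b c d) = 1 → (mk4 a b c d = 1 ∨ mk4 a b c d = -1) := by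
  decide

theorem mk4_pow_twelve : ∀ a b c d : ZMod 3, a * d - b * c = 1 →
    ((mk4 a b c d * mk4 a b c d) * (mk4 a b c d * mk4 a b c d)) *
    ((mk4 a b c d * mk4 a b c d) * (mk4 a b c d * mk4 a b c d)) *
    ((mk4 a b c d * mk4 a b c d) * (mk4 a b c d * mk4 a b c d)) = 1 := by
  decide

theorem mk4_comm : ∀ a b c d : ZMod 3, a * d - b * c = 1 →
    mk4 a b c d * mk4 0 1 (-1) 0 = mk4 0 1 (-1) 0 * mk4 a b c d →
    mk4 a b c d * mk4 1 1 1 (-1) = mk4 1 1 1 (-1) * mk4 a b c d →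
    (mk4 a b c d = 1 ∨ mk4 a b c d = -1) := by
  decide

set_option maxRecDepth 100000 in
theorem mk4_closed : ∀ a b c d a' b' c' d' : ZMod 3, a * d - b * c = 1 → a' * d' - b' * c' = 1 →
    (mk4 a b c d * mk4 a b c d) * (mk4 a b c d * mk4 a b c d) = 1 →
    (mk4 a' b' c' d' * mk4 a' b' c' d') * (mk4 a' b' c' d' * mk4 a' b' c' d') = 1 →
    ((mk4 a b c d * mk4 a' b' c' d') * (mk4 a b c d * mk4 a' b' c' d')) *
      ((mk4 a b c d * mk4 a' b' c' d') * (mk4 a b c d * mk4 a' b' c' d')) = 1 := by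
  decide

local notation "SL23" => SpecialLinearGroup (Fin 2) (ZMod 3)

theorem sl23_exists (x : SL23) : ∃ a b c d : ZMod 3, a * d - b * c = 1 ∧
    (x : Matrix (Fin 2) (Fin 2) (ZMod 3)) = mk4 a b c d :=
  ⟨_, _, _, _, sl23_det x, sl23_coe_eq x⟩

theorem sl23_eq_one_iff (x : SL23) : x = 1 ↔ (x : Matrix (Fin 2) (Fin 2) (ZMod 3)) = 1 := by
  rw [← Matrix.SpecialLinearGroup.coe_one]
  exact ⟨fun h => by rw [h], fun h => Subtype.ext h⟩

theorem sl23_pow_four (x : SL23) : x ^ 4 = 1 ↔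
    ((x : Matrix (Fin 2) (Fin 2) (ZMod 3)) * x) * ((x : Matrix (Fin 2) (Fin 2) (ZMod 3)) * x)
      = 1 := by
  have e : x ^ 4 = (x * x) * (x * x) := by simp [pow_succ, mul_assoc]
  rw [e, sl23_eq_one_iff]
  simp only [Matrix.SpecialLinearGroup.coe_mul]

/-- The normal Sylow `2`-subgroup `Q₈` of `SL(2,3)`. -/
def sl23Q : Subgroup SL23 where
  carrier := {x | x ^ 4 = 1}
  one_mem' := one_pow 4
  inv_mem' := by
    intro x hx
    simp only [Set.mem_ofPred_eq] at hx ⊢
    rw [inv_pow, hx, inv_one]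
  mul_mem' := by
    intro x y hx hy
    simp only [Set.mem_ofPred_eq] at hx hy ⊢
    obtain ⟨a, b, c, d, h1, hxm⟩ := sl23_exists x
    obtain ⟨a', b', c', d', h2, hym⟩ := sl23_exists y
    have hx4 := (sl23_pow_four x).1 hx
    have hy4 := (sl23_pow_four y).1 hy
    rw [hxm] at hx4
    rw [hym] at hy4
    apply (sl23_pow_four (x * y)).2
    rw [Matrix.SpecialLinearGroup.coe_mul, hxm, hym]
    exact mk4_closed _ _ _ _ _ _ _ _ h1 h2 hx4 hy4

theorem mem_sl23Q {x : SL23} : x ∈ sl23Q ↔ x ^ 4 = 1 := Iff.rfl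

instance sl23Q_normal : sl23Q.Normal := by
  constructor
  intro x hx g
  rw [mem_sl23Q] at hx ⊢
  rw [conj_pow, hx, mul_one, mul_inv_cancel]

theorem sl23Q_isPGroup : IsPGroup 2 sl23Q := by
  intro g
  refine ⟨2, ?_⟩
  apply Subtype.ext
  rw [Subgroup.coe_pow]
  exact g.2

theorem sl23_pow_twelve (x : SL23) : x ^ 12 = 1 := by
  obtain ⟨a, b, c, d, h1, hxm⟩ := sl23_exists x
  have e : x ^ 12 = ((x * x) * (x * x)) * ((x * x) * (x * x)) * ((x * x) * (x * x)) := by
    simp [pow_succ, mul_assoc]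
  rw [e, sl23_eq_one_iff]
  simp only [Matrix.SpecialLinearGroup.coe_mul]
  rw [hxm]
  exact mk4_pow_twelve _ _ _ _ h1

theorem sl23_quotient_isPGroup : IsPGroup 3 (SL23 ⧸ sl23Q) := by
  intro y
  refine ⟨1, ?_⟩
  induction y using QuotientGroup.induction_on with
  | H x =>
    rw [pow_one, ← QuotientGroup.mk_pow, QuotientGroup.eq_one_iff, mem_sl23Q, ← pow_mul]
    exact sl23_pow_twelve x

instance sl23_isSolvable : Group.IsSolvable SL23 := by
  haveI : Fact (Nat.Prime 2) := ⟨Nat.prime_two⟩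
  haveI : Fact (Nat.Prime 3) := ⟨Nat.prime_three⟩
  haveI : Group.IsNilpotent sl23Q := sl23Q_isPGroup.isNilpotent
  haveI : Group.IsNilpotent (SL23 ⧸ sl23Q) := sl23_quotient_isPGroup.isNilpotent
  refine Group.isSolvable_of_ker_le_range sl23Q.subtype (QuotientGroup.mk' sl23Q) ?_
  rw [QuotientGroup.ker_mk', Subgroup.range_subtype]

theorem sl23_isPConstrained : IsPConstrained 2 SL23 := by
  haveI : Fact (Nat.Prime 2) := ⟨Nat.prime_two⟩
  rw [isPConstrained_iff, pLayer_eq_bot_iff]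
  exact layer_eq_bot_of_isSolvable

theorem mk4_I_det : (mk4 0 1 (-1) 0).det = 1 := by
  rw [mk4, Matrix.det_fin_two_of]; decide

theorem mk4_J_det : (mk4 1 1 1 (-1)).det = 1 := by
  rw [mk4, Matrix.det_fin_two_of]; decide

theorem mk4_U_det : (mk4 1 1 0 1).det = 1 := by
  rw [mk4, Matrix.det_fin_two_of]; decide

/-- An element of order `4`. -/
def sl23I : SL23 := ⟨mk4 0 1 (-1) 0, mk4_I_det⟩

/-- Another element of order `4`. -/
def sl23J : SL23 := ⟨mk4 1 1 1 (-1), mk4_J_det⟩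

/-- An element of order `3`. -/
def sl23U : SL23 := ⟨mk4 1 1 0 1, mk4_U_det⟩

theorem sl23I_mem : sl23I ∈ sl23Q := by
  rw [mem_sl23Q, sl23_pow_four]
  show (mk4 0 1 (-1) 0 * mk4 0 1 (-1) 0) * (mk4 0 1 (-1) 0 * mk4 0 1 (-1) 0) = 1
  decide

theorem sl23J_mem : sl23J ∈ sl23Q := by
  rw [mem_sl23Q, sl23_pow_four]
  show (mk4 1 1 1 (-1) * mk4 1 1 1 (-1)) * (mk4 1 1 1 (-1) * mk4 1 1 1 (-1)) = 1
  decide

theorem sl23_mem_center_of_coe {t : SL23}
    (h : (t : Matrix (Fin 2) (Fin 2) (ZMod 3)) = 1 ∨ (t : Matrix (Fin 2) (Fin 2) (ZMod 3)) = -1) :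
    t ∈ center SL23 := by
  rw [mem_center_iff]
  intro g
  apply Subtype.ext
  rw [Matrix.SpecialLinearGroup.coe_mul, Matrix.SpecialLinearGroup.coe_mul]
  rcases h with h | h
  · rw [h, mul_one, one_mul]
  · rw [h, mul_neg, neg_mul, mul_one, one_mul]

theorem sl23_involution_central (t : SL23) (ht : orderOf t = 2) : t ∈ center SL23 := by
  apply sl23_mem_center_of_coe
  obtain ⟨a, b, c, d, h1, htm⟩ := sl23_exists t
  have h2 : t * t = 1 := by
    have := pow_orderOf_eq_one t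
    rwa [ht, pow_two] at this
  rw [sl23_eq_one_iff, Matrix.SpecialLinearGroup.coe_mul, htm] at h2
  rw [htm]
  exact mk4_sq_eq_one _ _ _ _ h1 h2

theorem sl23_pPrimeCore : pPrimeCore 2 SL23 = ⊥ := by
  unfold pPrimeCore
  rw [sSup_eq_bot]
  rintro N ⟨hN, hcop⟩
  haveI : Fact (Nat.Prime 2) := ⟨Nat.prime_two⟩
  have hdis : Disjoint N sl23Q := by
    apply Subgroup.disjoint_of_coprime_natCard
    obtain ⟨k, hk⟩ := IsPGroup.iff_card.1 sl23Q_isPGroup
    rw [hk]
    exact Nat.Coprime.pow_right _ hcop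
  rw [eq_bot_iff]
  intro x hx
  rw [mem_bot]
  have hI : Commute x sl23I :=
    Subgroup.commute_of_normal_of_disjoint N sl23Q hN sl23Q_normal hdis x sl23I hx sl23I_mem
  have hJ : Commute x sl23J :=
    Subgroup.commute_of_normal_of_disjoint N sl23Q hN sl23Q_normal hdis x sl23J hx sl23J_mem
  obtain ⟨a, b, c, d, h1, hxm⟩ := sl23_exists x
  have hI' : (x : Matrix (Fin 2) (Fin 2) (ZMod 3)) * mk4 0 1 (-1) 0 = mk4 0 1 (-1) 0 * x := by
    have := congrArg (fun y : SL23 => (y : Matrix (Fin 2) (Fin 2) (ZMod 3))) hI.eq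
    simp only [Matrix.SpecialLinearGroup.coe_mul] at this
    exact this
  have hJ' : (x : Matrix (Fin 2) (Fin 2) (ZMod 3)) * mk4 1 1 1 (-1) = mk4 1 1 1 (-1) * x := by
    have := congrArg (fun y : SL23 => (y : Matrix (Fin 2) (Fin 2) (ZMod 3))) hJ.eq
    simp only [Matrix.SpecialLinearGroup.coe_mul] at this
    exact this
  rw [hxm] at hI' hJ'
  rcases mk4_comm _ _ _ _ h1 hI' hJ' with h | h
  · rw [sl23_eq_one_iff, hxm, h]
  · exfalso
    rw [← hxm] at h
    have hx2 : x ^ 2 = 1 := by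
      rw [pow_two, sl23_eq_one_iff, Matrix.SpecialLinearGroup.coe_mul, h, neg_mul_neg, mul_one]
    have hx1 : x ≠ 1 := by
      intro h1'
      rw [sl23_eq_one_iff, h] at h1'
      have := congrFun (congrFun h1' 0) 0
      revert this
      decide
    have hord : orderOf x = 2 := orderOf_eq_prime hx2 hx1
    have hdvd : 2 ∣ Nat.card N := by
      have := orderOf_dvd_natCard (⟨x, hx⟩ : N)
      rw [Subgroup.orderOf_mk x hx] at this
      exact (dvd_of_eq hord.symm).trans this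
    have := Nat.Coprime.eq_one_of_dvd hcop.symm hdvd
    omega

theorem mk4_U_cube : mk4 1 1 0 1 * mk4 1 1 0 1 * mk4 1 1 0 1 = 1 := by decide

theorem mk4_U_ne_one : mk4 1 1 0 1 ≠ 1 := by decide

theorem sl23U_orderOf : orderOf sl23U = 3 := by
  haveI : Fact (Nat.Prime 3) := ⟨Nat.prime_three⟩
  apply orderOf_eq_prime
  · have e : sl23U ^ 3 = sl23U * sl23U * sl23U := by simp [pow_succ]
    rw [e, sl23_eq_one_iff]
    simp only [Matrix.SpecialLinearGroup.coe_mul]
    exact mk4_U_cube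
  · intro h
    rw [sl23_eq_one_iff] at h
    exact mk4_U_ne_one h

theorem sl23_result : IsPConstrained 2 SL23 ∧ pPrimeCore 2 SL23 = ⊥ ∧
    (∀ t : SL23, orderOf t = 2 → t ∈ center SL23) ∧
    ∃ Q : Subgroup SL23, Nat.card Q = 3 ∧ ¬ (Q ≤ pPrimeCore 2 SL23) := by
  refine ⟨sl23_isPConstrained, sl23_pPrimeCore, sl23_involution_central, zpowers sl23U, ?_, ?_⟩
  · rw [Nat.card_zpowers, sl23U_orderOf]
  · rw [sl23_pPrimeCore, le_bot_iff]
    intro h
    have : sl23U ∈ (⊥ : Subgroup SL23) := by rw [← h]; exact mem_zpowers _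
    rw [mem_bot] at this
    have h3 := sl23U_orderOf
    rw [this, orderOf_one] at h3
    omega

end Cfsg.Agent.Helper7
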