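import Mathlib
import Cfsg.Agent.Helper16.H4Defs
namespace Cfsg.Agent.Helper7.H4
open MulAction Cfsg.Agent.Helper16.H4

/-! S4221 piece DC2 (driver helper16): double counting of (commuting pair, 4-tuple) incidences. -/

section Aux

variable {G : Type*} [Group G] {Ω : Type*} [MulAction G Ω]

lemma ne_one_of_pat {π : Equiv.Perm (Fin 4)} {t : G} {y : Fin 4 ↪ Ω} (h : Pat π t y)
    (i : Fin 4) (hi : π i ≠ i) : t ≠ 1 := by
  rintro rfl
  have := h i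
  rw [one_smul] at this
  exact hi (y.injective this).symm

/-- the pairs that occur: commuting elements of square one, mixed, with `s, t, st ≠ 1`. -/
def PP (Ω : Type*) [MulAction G Ω] (p : G × G) : Prop :=
  p.1 * p.1 = 1 ∧ p.2 * p.2 = 1 ∧ p.1 * p.2 = p.2 * p.1 ∧ Mixed Ω p ∧
    p.1 ≠ 1 ∧ p.2 ≠ 1 ∧ p.1 * p.2 ≠ 1

lemma pp_of_N {p : G × G} {y : Fin 4 ↪ Ω} (h : PairPat πA πA' p y) : PP Ω p := by
  obtain ⟨h1, h2, hc, hA, hA'⟩ := h
  refine ⟨h1, h2, hc, ⟨y 0, ?_, ?_⟩, ?_, ?_, ?_⟩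
  · have := hA 0
    rwa [show πA 0 = 0 by decide] at this
  · have := hA' 0
    rw [show πA' 0 = 1 by decide] at this
    rw [this]
    exact fun h => absurd (y.injective h) (by decide)
  · exact ne_one_of_pat hA 2 (by decide)
  · exact ne_one_of_pat hA' 0 (by decide)
  · exact ne_one_of_pat (pat_mul hA hA') 0 (by decide)

lemma pp_of_R {p : G × G} {y : Fin 4 ↪ Ω} (h : PairPat πB πC p y) (hm : Mixed Ω p) :
    PP Ω p := by
  obtain ⟨h1, h2, hc, hB, hC⟩ := h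
  refine ⟨h1, h2, hc, hm, ?_, ?_, ?_⟩
  · exact ne_one_of_pat hB 0 (by decide)
  · exact ne_one_of_pat hC 0 (by decide)
  · exact ne_one_of_pat (pat_mul hB hC) 0 (by decide)

/-- swap the order of summation for the `N`-pattern. -/
def equivN : (Σ y : Fin 4 ↪ Ω, {p : G × G // PairPat πA πA' p y}) ≃
    (Σ p : {p : G × G // PP Ω p}, {y : Fin 4 ↪ Ω // Pat πA p.1.1 y ∧ Pat πA' p.1.2 y}) where
  toFun x := ⟨⟨x.2.1, pp_of_N x.2.2⟩, ⟨x.1, x.2.2.2.2.2⟩⟩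
  invFun x := ⟨x.2.1, ⟨x.1.1, ⟨x.1.2.1, x.1.2.2.1, x.1.2.2.2.1, x.2.2.1, x.2.2.2⟩⟩⟩
  left_inv x := by
    obtain ⟨y, p, hp⟩ := x
    rfl
  right_inv x := by
    obtain ⟨⟨p, hp⟩, y, hy⟩ := x
    rfl

/-- swap the order of summation for the mixed `R`-pattern. -/
def equivR : (Σ y : Fin 4 ↪ Ω, {p : G × G // PairPat πB πC p y ∧ Mixed Ω p}) ≃
    (Σ p : {p : G × G // PP Ω p}, {y : Fin 4 ↪ Ω // Pat πB p.1.1 y ∧ Pat πC p.1.2 y}) where
  toFun x := ⟨⟨x.2.1, pp_of_R x.2.2.1 x.2.2.2⟩, ⟨x.1, x.2.2.1.2.2.2⟩⟩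
  invFun x := ⟨x.2.1, ⟨x.1.1, ⟨⟨x.1.2.1, x.1.2.2.1, x.1.2.2.2.1, x.2.2.1, x.2.2.2⟩,
    x.1.2.2.2.2.1⟩⟩⟩
  left_inv x := by
    obtain ⟨y, p, hp⟩ := x
    rfl
  right_inv x := by
    obtain ⟨⟨p, hp⟩, y, hy⟩ := x
    rfl

end Aux

variable {G : Type*} [Group G] [Finite G] {Ω : Type*} [Finite Ω] [MulAction G Ω]

theorem dc2 (f : ℕ) (hf : f ≤ 3) (huni : ∀ t : G, t ≠ 1 → t * t = 1 → fixN Ω t = f)
    (htup : ∀ p : G × G, p.1 * p.1 = 1 → p.2 * p.2 = 1 → p.1 * p.2 = p.2 * p.1 → Mixed Ω p →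
      fixN Ω p.1 = f → fixN Ω p.2 = f → fixN Ω (p.1 * p.2) = f →
      Nat.card {y : Fin 4 ↪ Ω // Pat πA p.1 y ∧ Pat πA' p.2 y} = 4 ∧
      Nat.card {y : Fin 4 ↪ Ω // Pat πB p.1 y ∧ Pat πC p.2 y} = Nat.card Ω - f - 4)
    (cN cR : ℕ) (hN : ∀ y : Fin 4 ↪ Ω, cnt2 G πA πA' y = cN)
    (hR : ∀ y : Fin 4 ↪ Ω, cnt2m G πB πC y = cR) (h4 : 4 ≤ Nat.card Ω) :
    cN * (Nat.card Ω - f - 4) = 4 * cR := by
  classical
  have := Fintype.ofFinite (Fin 4 ↪ Ω)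
  have := Fintype.ofFinite {p : G × G // PP Ω p}
  -- facts for pairs in PP
  have hP : ∀ p : {p : G × G // PP Ω p},
      Nat.card {y : Fin 4 ↪ Ω // Pat πA p.1.1 y ∧ Pat πA' p.1.2 y} = 4 ∧
      Nat.card {y : Fin 4 ↪ Ω // Pat πB p.1.1 y ∧ Pat πC p.1.2 y} = Nat.card Ω - f - 4 := by
    rintro ⟨p, h1, h2, hc, hm, hn1, hn2, hn3⟩
    have h3 : (p.1 * p.2) * (p.1 * p.2) = 1 := by
      calc (p.1 * p.2) * (p.1 * p.2) = p.1 * (p.2 * p.1) * p.2 := by group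
        _ = p.1 * (p.1 * p.2) * p.2 := by rw [hc]
        _ = (p.1 * p.1) * (p.2 * p.2) := by group
        _ = 1 := by rw [h1, h2, one_mul]
    exact htup p h1 h2 hc hm (huni _ hn1 h1) (huni _ hn2 h2) (huni _ hn3 h3)
  -- first count
  have e1 : Nat.card (Fin 4 ↪ Ω) * cN = Nat.card {p : G × G // PP Ω p} * 4 := by
    have hl : Nat.card (Σ y : Fin 4 ↪ Ω, {p : G × G // PairPat πA πA' p y})
        = Nat.card (Fin 4 ↪ Ω) * cN := by
      rw [Nat.card_sigma]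
      have : ∀ y : Fin 4 ↪ Ω, Nat.card {p : G × G // PairPat πA πA' p y} = cN := hN
      simp only [this, Finset.sum_const, Finset.card_univ, smul_eq_mul,
        Nat.card_eq_fintype_card]
    have hr : Nat.card (Σ p : {p : G × G // PP Ω p},
        {y : Fin 4 ↪ Ω // Pat πA p.1.1 y ∧ Pat πA' p.1.2 y})
        = Nat.card {p : G × G // PP Ω p} * 4 := by
      rw [Nat.card_sigma]
      simp only [fun p => (hP p).1, Finset.sum_const, Finset.card_univ, smul_eq_mul,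
        Nat.card_eq_fintype_card]
    rw [← hl, ← hr]
    exact Nat.card_congr equivN
  have e2 : Nat.card (Fin 4 ↪ Ω) * cR
      = Nat.card {p : G × G // PP Ω p} * (Nat.card Ω - f - 4) := by
    have hl : Nat.card (Σ y : Fin 4 ↪ Ω, {p : G × G // PairPat πB πC p y ∧ Mixed Ω p})
        = Nat.card (Fin 4 ↪ Ω) * cR := by
      rw [Nat.card_sigma]
      have : ∀ y : Fin 4 ↪ Ω, Nat.card {p : G × G // PairPat πB πC p y ∧ Mixed Ω p} = cR := hR
      simp only [this, Finset.sum_const, Finset.card_univ, smul_eq_mul,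
        Nat.card_eq_fintype_card]
    have hr : Nat.card (Σ p : {p : G × G // PP Ω p},
        {y : Fin 4 ↪ Ω // Pat πB p.1.1 y ∧ Pat πC p.1.2 y})
        = Nat.card {p : G × G // PP Ω p} * (Nat.card Ω - f - 4) := by
      rw [Nat.card_sigma]
      simp only [fun p => (hP p).2, Finset.sum_const, Finset.card_univ, smul_eq_mul,
        Nat.card_eq_fintype_card]
    rw [← hl, ← hr]
    exact Nat.card_congr equivR
  -- cancel the number of 4-tuples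
  have hpos : 0 < Nat.card (Fin 4 ↪ Ω) := by
    have : Nonempty (Fin 4 ↪ Ω) := by
      have := Fintype.ofFinite Ω
      apply Function.Embedding.nonempty_of_card_le
      rw [Fintype.card_fin, ← Nat.card_eq_fintype_card]
      exact h4
    exact Nat.card_pos
  apply Nat.eq_of_mul_eq_mul_left hpos
  calc Nat.card (Fin 4 ↪ Ω) * (cN * (Nat.card Ω - f - 4))
      = (Nat.card (Fin 4 ↪ Ω) * cN) * (Nat.card Ω - f - 4) := by ring
    _ = (Nat.card {p : G × G // PP Ω p} * 4) * (Nat.card Ω - f - 4) := by rw [e1]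
    _ = 4 * (Nat.card {p : G × G // PP Ω p} * (Nat.card Ω - f - 4)) := by ring
    _ = 4 * (Nat.card (Fin 4 ↪ Ω) * cR) := by rw [e2]
    _ = Nat.card (Fin 4 ↪ Ω) * (4 * cR) := by ring

end Cfsg.Agent.Helper7.H4
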