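import Mathlib
import Cfsg.Agent.Helper16.H4Defs
namespace Cfsg.Agent.Helper7.H4
open MulAction Cfsg.Agent.Helper16.H4

/-! S4221 piece TUP1 (driver helper16): number of 4-tuples on which an element of square one
acts with pattern `πA` resp. `πB`. -/

section Aux

variable {G : Type*} [Group G] {Ω : Type*} [MulAction G Ω]

/-- a 4-tuple of pairwise distinct points as an embedding. -/
def mk4 (a b c d : Ω) (h : a ≠ b ∧ a ≠ c ∧ a ≠ d ∧ b ≠ c ∧ b ≠ d ∧ c ≠ d) : Fin 4 ↪ Ω :=
  ⟨![a, b, c, d], by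
    obtain ⟨hab, hac, had, hbc, hbd, hcd⟩ := h
    intro i j hij
    fin_cases i <;> fin_cases j <;> first | rfl | (exfalso; simp at hij; tauto)⟩

@[simp] lemma mk4_zero (a b c d : Ω) (h) : mk4 a b c d h 0 = a := rfl
@[simp] lemma mk4_one (a b c d : Ω) (h) : mk4 a b c d h 1 = b := rfl
@[simp] lemma mk4_two (a b c d : Ω) (h) : mk4 a b c d h 2 = c := rfl
@[simp] lemma mk4_three (a b c d : Ω) (h) : mk4 a b c d h 3 = d := rfl

lemma emb4_ext {y y' : Fin 4 ↪ Ω} (h0 : y 0 = y' 0) (h1 : y 1 = y' 1) (h2 : y 2 = y' 2)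
    (h3 : y 3 = y' 3) : y = y' := by
  ext i
  fin_cases i
  exacts [h0, h1, h2, h3]

lemma patA_iff (t : G) (y : Fin 4 ↪ Ω) :
    Pat πA t y ↔ t • y 0 = y 0 ∧ t • y 1 = y 1 ∧ t • y 2 = y 3 ∧ t • y 3 = y 2 := by
  have e0 : πA 0 = 0 := by decide
  have e1 : πA 1 = 1 := by decide
  have e2 : πA 2 = 3 := by decide
  have e3 : πA 3 = 2 := by decide
  constructor
  · intro h
    exact ⟨by have := h 0; rwa [e0] at this, by have := h 1; rwa [e1] at this,
      by have := h 2; rwa [e2] at this, by have := h 3; rwa [e3] at this⟩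
  · rintro ⟨h0, h1, h2, h3⟩ i
    fin_cases i
    · show t • y 0 = y (πA 0); rw [e0]; exact h0
    · show t • y 1 = y (πA 1); rw [e1]; exact h1
    · show t • y 2 = y (πA 2); rw [e2]; exact h2
    · show t • y 3 = y (πA 3); rw [e3]; exact h3

lemma patB_iff (t : G) (y : Fin 4 ↪ Ω) :
    Pat πB t y ↔ t • y 0 = y 1 ∧ t • y 1 = y 0 ∧ t • y 2 = y 3 ∧ t • y 3 = y 2 := by
  have e0 : πB 0 = 1 := by decide
  have e1 : πB 1 = 0 := by decide
  have e2 : πB 2 = 3 := by decide
  have e3 : πB 3 = 2 := by decide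
  constructor
  · intro h
    exact ⟨by have := h 0; rwa [e0] at this, by have := h 1; rwa [e1] at this,
      by have := h 2; rwa [e2] at this, by have := h 3; rwa [e3] at this⟩
  · rintro ⟨h0, h1, h2, h3⟩ i
    fin_cases i
    · show t • y 0 = y (πB 0); rw [e0]; exact h0
    · show t • y 1 = y (πB 1); rw [e1]; exact h1
    · show t • y 2 = y (πB 2); rw [e2]; exact h2
    · show t • y 3 = y (πB 3); rw [e3]; exact h3

/-- fixed points of `t`. -/
abbrev Fx (Ω : Type*) [MulAction G Ω] (t : G) : Type _ := {ω : Ω // t • ω = ω}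
/-- moved points of `t`. -/
abbrev Mv (Ω : Type*) [MulAction G Ω] (t : G) : Type _ := {ω : Ω // t • ω ≠ ω}

lemma card_Mv [Finite Ω] (t : G) : Nat.card (Mv Ω t) = Nat.card Ω - fixN Ω t := by
  classical
  have := Fintype.ofFinite Ω
  unfold fixN
  rw [Nat.card_eq_fintype_card, Nat.card_eq_fintype_card, Nat.card_eq_fintype_card]
  exact Fintype.card_subtype_compl _

lemma card_ne {α : Type*} [Finite α] (a : α) : Nat.card {b : α // b ≠ a} = Nat.card α - 1 := by
  classical
  have := Fintype.ofFinite α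
  rw [Nat.card_eq_fintype_card, Nat.card_eq_fintype_card]
  rw [Fintype.card_subtype_compl (fun b => b = a), Fintype.card_subtype_eq]

lemma card_ne_ne {α : Type*} [Finite α] (a b : α) (hab : a ≠ b) :
    Nat.card {c : α // c ≠ a ∧ c ≠ b} = Nat.card α - 2 := by
  classical
  have := Fintype.ofFinite α
  rw [Nat.card_eq_fintype_card, Nat.card_eq_fintype_card]
  have h1 : Fintype.card {c : α // c ≠ a ∧ c ≠ b} = Fintype.card {c : α // ¬ (c = a ∨ c = b)} := by
    apply Fintype.card_congr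
    exact Equiv.subtypeEquivRight (fun c => by tauto)
  rw [h1, Fintype.card_subtype_compl (fun c => c = a ∨ c = b)]
  congr 1
  rw [Fintype.card_subtype]
  have : (Finset.univ.filter (fun c : α => c = a ∨ c = b)) = {a, b} := by
    ext c; simp
  rw [this, Finset.card_pair hab]

/-- the moved point `t • c`. -/
def tmv (t : G) (c : Mv Ω t) : Mv Ω t :=
  ⟨t • c.1, fun h => c.2 (smul_left_cancel t h)⟩

lemma fx_ne_mv {t : G} (a : Fx Ω t) (c : Mv Ω t) : a.1 ≠ c.1 :=
  fun h => c.2 (h ▸ a.2)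

lemma tt_smul {t : G} (ht : t * t = 1) (ω : Ω) : t • t • ω = ω := by
  rw [← mul_smul, ht, one_smul]

/-- 4-tuples with pattern `πA`: two distinct fixed points and a moved point. -/
def equivA (t : G) (ht : t * t = 1) :
    {y : Fin 4 ↪ Ω // Pat πA t y} ≃ (Σ a : Fx Ω t, Σ _b : {b : Fx Ω t // b ≠ a}, Mv Ω t) where
  toFun y :=
    have hy := (patA_iff t y.1).1 y.2
    ⟨⟨y.1 0, hy.1⟩, ⟨⟨⟨y.1 1, hy.2.1⟩, fun h => by
        have := congrArg Subtype.val h
        simp only at this
        exact absurd (y.1.injective this) (by decide)⟩,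
      ⟨y.1 2, fun h => by
        rw [hy.2.2.1] at h
        exact absurd (y.1.injective h) (by decide)⟩⟩⟩
  invFun x :=
    ⟨mk4 x.1.1 x.2.1.1.1 x.2.2.1 (t • x.2.2.1)
      ⟨fun h => x.2.1.2 (Subtype.ext h.symm), fx_ne_mv _ _, fx_ne_mv x.1 (tmv t x.2.2),
        fx_ne_mv _ _, fx_ne_mv x.2.1.1 (tmv t x.2.2), fun h => x.2.2.2 h.symm⟩,
      (patA_iff t _).2 ⟨x.1.2, x.2.1.1.2, rfl, tt_smul ht _⟩⟩
  left_inv y := by
    have hy := (patA_iff t y.1).1 y.2
    apply Subtype.ext
    apply emb4_ext <;> simp [hy.2.2.1]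
  right_inv x := by
    obtain ⟨a, ⟨b, hb⟩, c⟩ := x
    rfl

/-- 4-tuples with pattern `πB`: a moved point and a moved point outside its orbit. -/
def equivB (t : G) (ht : t * t = 1) :
    {y : Fin 4 ↪ Ω // Pat πB t y} ≃
      (Σ a : Mv Ω t, {c : Mv Ω t // c ≠ a ∧ c ≠ tmv t a}) where
  toFun y :=
    have hy := (patB_iff t y.1).1 y.2
    ⟨⟨y.1 0, fun h => by
        rw [hy.1] at h
        exact absurd (y.1.injective h) (by decide)⟩,
      ⟨⟨y.1 2, fun h => by
        rw [hy.2.2.1] at h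
        exact absurd (y.1.injective h) (by decide)⟩,
       fun h => by
        have := congrArg Subtype.val h
        simp only at this
        exact absurd (y.1.injective this) (by decide),
       fun h => by
        have := congrArg Subtype.val h
        simp only [tmv, hy.1] at this
        exact absurd (y.1.injective this) (by decide)⟩⟩
  invFun x :=
    ⟨mk4 x.1.1 (t • x.1.1) x.2.1.1 (t • x.2.1.1)
      ⟨fun h => x.1.2 h.symm, fun h => x.2.2.1 (Subtype.ext h.symm),
        fun h => x.2.2.2 (Subtype.ext (by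
          show x.2.1.1 = t • x.1.1
          rw [h, tt_smul ht])),
        fun h => x.2.2.2 (Subtype.ext h.symm),
        fun h => x.2.2.1 (Subtype.ext (smul_left_cancel t h).symm),
        fun h => x.2.1.2 h.symm⟩,
      (patB_iff t _).2 ⟨rfl, tt_smul ht _, rfl, tt_smul ht _⟩⟩
  left_inv y := by
    have hy := (patB_iff t y.1).1 y.2
    apply Subtype.ext
    apply emb4_ext <;> simp [hy.1, hy.2.2.1]
  right_inv x := by
    obtain ⟨a, ⟨c, hc⟩⟩ := x
    rfl

end Aux

variable {G : Type*} [Group G] [Finite G] {Ω : Type*} [Finite Ω] [MulAction G Ω]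

theorem card_pat_of_inv (t : G) (ht : t * t = 1) :
    Nat.card {y : Fin 4 ↪ Ω // Pat πA t y}
        = fixN Ω t * (fixN Ω t - 1) * (Nat.card Ω - fixN Ω t) ∧
    Nat.card {y : Fin 4 ↪ Ω // Pat πB t y}
        = (Nat.card Ω - fixN Ω t) * (Nat.card Ω - fixN Ω t - 2) := by
  classical
  constructor
  · rw [Nat.card_congr (equivA t ht)]
    have := Fintype.ofFinite (Fx Ω t)
    rw [Nat.card_sigma]
    have h1 : ∀ a : Fx Ω t, Nat.card (Σ _b : {b : Fx Ω t // b ≠ a}, Mv Ω t)
        = (fixN Ω t - 1) * (Nat.card Ω - fixN Ω t) := by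
      intro a
      have := Fintype.ofFinite {b : Fx Ω t // b ≠ a}
      rw [Nat.card_sigma]
      simp only [Finset.sum_const, Finset.card_univ, smul_eq_mul]
      rw [card_Mv, ← Nat.card_eq_fintype_card, card_ne]
      rfl
    simp only [h1, Finset.sum_const, Finset.card_univ, smul_eq_mul]
    rw [← Nat.card_eq_fintype_card, mul_assoc]
    rfl
  · rw [Nat.card_congr (equivB t ht)]
    have := Fintype.ofFinite (Mv Ω t)
    rw [Nat.card_sigma]
    have h1 : ∀ a : Mv Ω t, Nat.card {c : Mv Ω t // c ≠ a ∧ c ≠ tmv t a}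
        = Nat.card Ω - fixN Ω t - 2 := by
      intro a
      rw [card_ne_ne a (tmv t a) (fun h => a.2 (congrArg Subtype.val h).symm), card_Mv]
    simp only [h1, Finset.sum_const, Finset.card_univ, smul_eq_mul]
    rw [← Nat.card_eq_fintype_card, card_Mv]

end Cfsg.Agent.Helper7.H4
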