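import Mathlib
import Cfsg.Prelude.Def_ClassicalGeometry
import Cfsg.Agent.Helper16.S5955Defs
import Cfsg.Agent.Helper22.S5955MODELBOUND
import Cfsg.Agent.Helper25.S5955TRANSPORT

/-!
# S5955, piece MODEL2: the model element of `Sp(2d, q)` for `i` even
-/

set_option autoImplicit false
set_option linter.unusedSectionVars false
set_option linter.unusedVariables false
open scoped MatrixGroups

universe u

namespace Cfsg.Agent.S5955P

open Polynomial Cfsg.Agent.Helper2.SympInvol Cfsg.Agent.Helper2.SympUnits Cfsg.Agent.S5961P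

namespace MODEL2

/-- the order of `q` modulo `r` is positive -/
theorem orderOf_card_pos {F : Type*} [Field F] [Fintype F] {p : ℕ} [Fact p.Prime]
    [CharP F p] (r : ℕ) [Fact r.Prime] (hrp : r ≠ p) :
    0 < orderOf ((Fintype.card F : ℕ) : ZMod r) := by
  have hrp' : r.Prime := Fact.out
  have hpp : p.Prime := Fact.out
  rw [orderOf_pos_iff]
  have hne : ((Fintype.card F : ℕ) : ZMod r) ≠ 0 := by
    intro h0
    rw [ZMod.natCast_eq_zero_iff] at h0
    obtain ⟨n, -, hn⟩ := FiniteField.card F p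
    rw [hn] at h0
    have := hrp'.dvd_of_dvd_pow h0
    exact hrp ((Nat.prime_dvd_prime_iff_eq hrp' hpp).1 this)
  rw [isOfFinOrder_iff_pow_eq_one]
  exact ⟨r - 1, Nat.sub_pos_of_lt hrp'.one_lt, ZMod.pow_card_sub_one_eq_one hne⟩

/-- the dimension of a preimage under a linear equivalence -/
theorem finrank_comap_equiv {F V V' : Type*} [Field F] [AddCommGroup V] [Module F V]
    [AddCommGroup V'] [Module F V'] (e : V ≃ₗ[F] V') (S : Submodule F V') :
    Module.finrank F ↥(S.comap (e : V →ₗ[F] V')) = Module.finrank F ↥S := by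
  rw [Submodule.comap_equiv_eq_map_symm]
  exact LinearEquiv.finrank_map_eq e.symm S

/-- MODEL2, given the model space of MODELSP -/
theorem of_space {F : Type u} [Field F] [Fintype F] {p : ℕ} [Fact p.Prime]
    [CharP F p] (r : ℕ) [Fact r.Prime] (hr2 : r ≠ 2) (hrp : r ≠ p)
    (hev : Even (orderOf ((Fintype.card F : ℕ) : ZMod r))) (d b κ : ℕ) (hb1 : 1 ≤ b)
    (hκ : Even κ) (hd : κ + orderOf ((Fintype.card F : ℕ) : ZMod r) * b = 2 * d)
    (hb : b ≤ (r - 1) / orderOf ((Fintype.card F : ℕ) : ZMod r) ∨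
      Even (b - (r - 1) / orderOf ((Fintype.card F : ℕ) : ZMod r)))
    (hsp : ∃ (V : Type u) (_ : AddCommGroup V) (_ : Module F V) (_ : FiniteDimensional F V)
      (B : LinearMap.BilinForm F V) (y : Module.End F V),
      IsYSp B y r ∧
      Module.finrank F V = κ + orderOf ((Fintype.card F : ℕ) : ZMod r) * b ∧
      Module.finrank F (LinearMap.ker (y - 1)) = κ ∧
      ∃ g₀ : F[X], g₀.Monic ∧ g₀.natDegree = orderOf ((Fintype.card F : ℕ) : ZMod r) ∧
        (∀ g : F[X], g.Monic → g.natDegree = orderOf ((Fintype.card F : ℕ) : ZMod r) →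
          g ≠ g₀ →
          Module.finrank F ↥(LinearMap.range (y - 1) ⊓ LinearMap.ker (aeval y g)) ≤
            orderOf ((Fintype.card F : ℕ) : ZMod r)) ∧
        Module.finrank F ↥(LinearMap.range (y - 1) ⊓ LinearMap.ker (aeval y g₀)) ≤
          orderOf ((Fintype.card F : ℕ) : ZMod r) *
            (2 * ((b - (r - 1) / orderOf ((Fintype.card F : ℕ) : ZMod r)) / 2) + 1)) :
    ∃ x : Matrix.symplecticGroup (Fin d) F,
      (x : Matrix (Fin d ⊕ Fin d) (Fin d ⊕ Fin d) F) ^ r = 1 ∧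
      (x : Matrix (Fin d ⊕ Fin d) (Fin d ⊕ Fin d) F) ≠ 1 ∧
      Module.finrank F (LinearMap.ker (Matrix.toLin'
        (x : Matrix (Fin d ⊕ Fin d) (Fin d ⊕ Fin d) F) - 1)) = κ ∧
      ∀ W : Submodule F (Fin d ⊕ Fin d → F),
        W.map (Matrix.toLin' (x : Matrix (Fin d ⊕ Fin d) (Fin d ⊕ Fin d) F)) ≤ W →
        (∀ u ∈ W, ∀ v ∈ W, Cfsg.sympForm d F u v = 0) →
        Module.finrank F W ≤ Module.finrank F ↥(W ⊓ LinearMap.ker (Matrix.toLin'
          (x : Matrix (Fin d ⊕ Fin d) (Fin d ⊕ Fin d) F) - 1)) +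
          orderOf ((Fintype.card F : ℕ) : ZMod r) *
            ((b - (r - 1) / orderOf ((Fintype.card F : ℕ) : ZMod r)) / 2) := by
  classical
  have hipos := orderOf_card_pos (F := F) r hrp
  obtain ⟨V, _, _, _, B, y, hY, hfr, hker, g₀, hg₀m, hg₀d, hα, hβ⟩ := hsp
  obtain ⟨x, e, heB, hey⟩ := exists_sp_of_ysp B y r hY d (hfr.trans hd)
  -- the intertwining relation for `x - 1`
  have hcomp : (Matrix.toLin' (x : Matrix (Fin d ⊕ Fin d) (Fin d ⊕ Fin d) F) - 1).comp
      (e : V →ₗ[F] (Fin d ⊕ Fin d → F)) = (e : V →ₗ[F] (Fin d ⊕ Fin d → F)).comp (y - 1) := by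
    apply LinearMap.ext
    intro v
    simp only [LinearMap.comp_apply, LinearMap.sub_apply, LinearEquiv.coe_coe,
      Module.End.one_apply, map_sub]
    rw [hey]
  have hkerx : (LinearMap.ker (Matrix.toLin'
      (x : Matrix (Fin d ⊕ Fin d) (Fin d ⊕ Fin d) F) - 1)).comap
      (e : V →ₗ[F] (Fin d ⊕ Fin d → F)) = LinearMap.ker (y - 1) := by
    rw [← LinearMap.ker_comp, hcomp, LinearMap.ker_comp, LinearEquiv.ker, Submodule.comap_bot]
  have hkerfr : Module.finrank F (LinearMap.ker (Matrix.toLin'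
      (x : Matrix (Fin d ⊕ Fin d) (Fin d ⊕ Fin d) F) - 1)) = κ := by
    rw [← finrank_comap_equiv e, hkerx, hker]
  refine ⟨x, ?_, ?_, hkerfr, ?_⟩
  · -- `x ^ r = 1`
    have hpow : ∀ (k : ℕ) (v : V),
        Matrix.toLin' ((x : Matrix (Fin d ⊕ Fin d) (Fin d ⊕ Fin d) F) ^ k) (e v) =
          e ((y ^ k) v) := by
      intro k
      induction k with
      | zero => intro v; simp
      | succ k ih =>
        intro v
        rw [pow_succ, Matrix.toLin'_mul, LinearMap.comp_apply, ← hey, ih, pow_succ,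
          Module.End.mul_apply]
    apply Matrix.toLin'.injective
    apply LinearMap.ext
    intro w
    obtain ⟨v, rfl⟩ := e.surjective w
    rw [hpow, hY.pow, Matrix.toLin'_one]
    rfl
  · -- `x ≠ 1`
    intro h1
    rw [h1, Matrix.toLin'_one] at hkerfr
    have : (LinearMap.id : (Fin d ⊕ Fin d → F) →ₗ[F] (Fin d ⊕ Fin d → F)) - 1 = 0 := by
      apply LinearMap.ext
      intro v
      simp
    rw [this, LinearMap.ker_zero, finrank_top, Module.finrank_fintype_fun_eq_card,
      Fintype.card_sum, Fintype.card_fin] at hkerfr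
    have : 0 < orderOf ((Fintype.card F : ℕ) : ZMod r) * b := Nat.mul_pos hipos hb1
    omega
  · intro W hWx hWti
    have hW' : (W.comap (e : V →ₗ[F] (Fin d ⊕ Fin d → F))).map y ≤
        W.comap (e : V →ₗ[F] (Fin d ⊕ Fin d → F)) := by
      rintro _ ⟨v, hv, rfl⟩
      rw [Submodule.mem_comap, LinearEquiv.coe_coe, hey]
      exact hWx (Submodule.mem_map_of_mem hv)
    have hti' : Orth B (W.comap (e : V →ₗ[F] (Fin d ⊕ Fin d → F)))
        (W.comap (e : V →ₗ[F] (Fin d ⊕ Fin d → F))) := by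
      intro u hu v hv
      rw [← heB]
      exact hWti _ hu _ hv
    have h := model_bound r hr2 hrp B y hY hev g₀ hg₀m hg₀d
      ((b - (r - 1) / orderOf ((Fintype.card F : ℕ) : ZMod r)) / 2) hα hβ _ hW' hti'
    rw [finrank_comap_equiv e, ← hkerx, ← Submodule.comap_inf, finrank_comap_equiv e] at h
    exact h

end MODEL2

end Cfsg.Agent.S5955P
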