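import Mathlib

set_option autoImplicit false
set_option linter.unusedSectionVars false
set_option linter.style.haveILetI false

/-! Squares in a finite field of odd order and a subfield of odd (resp. even) degree. -/

namespace Cfsg.Agent.Helper7.SubF

variable {F : Type*} [Field F] [Fintype F]

/-- the geometric sum `1 + m + ⋯ + m^(k-1)` has the parity of `k` when `m` is odd. -/
theorem geom_sum_mod_two (m k : ℕ) (hm : m % 2 = 1) :
    (∑ j ∈ Finset.range k, m ^ j) % 2 = k % 2 := by
  rw [Finset.sum_nat_mod]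
  have : ∀ j ∈ Finset.range k, m ^ j % 2 = 1 := by
    intro j _
    rw [Nat.pow_mod, hm, one_pow]
    rfl
  rw [Finset.sum_congr rfl this, Finset.sum_const, Finset.card_range, smul_eq_mul, mul_one]

/-- `q₀^k / 2 = (q₀ / 2) * (1 + q₀ + ⋯ + q₀^(k-1))` for odd `q₀`. -/
theorem pow_div_two (m k : ℕ) (hm : m % 2 = 1) :
    m ^ k / 2 = (m / 2) * ∑ j ∈ Finset.range k, m ^ j := by
  have h1 : m = 2 * (m / 2) + 1 := by omega
  have h2 := geom_sum_mul_add (2 * (m / 2)) k
  rw [← h1] at h2
  rw [← h2]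
  have h3 : (∑ i ∈ Finset.range k, m ^ i) * (2 * (m / 2)) + 1 =
      2 * ((m / 2) * ∑ j ∈ Finset.range k, m ^ j) + 1 := by ring
  rw [h3]
  omega

/-- an element of the subfield `F₀` raised to `|F| / 2`. -/
theorem subfield_pow_half (F₀ : Subfield F) (k : ℕ) (hk : Fintype.card F = Nat.card F₀ ^ k)
    (hodd : Fintype.card F % 2 = 1) (a : F₀) :
    (a : F) ^ (Fintype.card F / 2) =
      (((a ^ (Nat.card F₀ / 2) : F₀) : F)) ^ (∑ j ∈ Finset.range k, Nat.card F₀ ^ j) := by
  have hm : Nat.card F₀ % 2 = 1 := by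
    rcases Nat.even_or_odd (Nat.card F₀) with h | h
    · exfalso
      rcases Nat.eq_zero_or_pos k with rfl | hk0
      · rw [pow_zero] at hk
        have := Fintype.one_lt_card (α := F)
        omega
      · have : Even (Nat.card F₀ ^ k) := (Nat.even_pow.2 ⟨h, hk0.ne'⟩)
        rw [← hk, Nat.even_iff] at this
        omega
    · exact Nat.odd_iff.1 h
  rw [hk, pow_div_two _ _ hm, pow_mul]
  rfl

theorem card_subfield_odd (F₀ : Subfield F) (k : ℕ) (hk : Fintype.card F = Nat.card F₀ ^ k)
    (hodd : Fintype.card F % 2 = 1) : Nat.card F₀ % 2 = 1 := by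
  rcases Nat.even_or_odd (Nat.card F₀) with h | h
  · exfalso
    rcases Nat.eq_zero_or_pos k with rfl | hk0
    · rw [pow_zero] at hk
      have := Fintype.one_lt_card (α := F)
      omega
    · have : Even (Nat.card F₀ ^ k) := (Nat.even_pow.2 ⟨h, hk0.ne'⟩)
      rw [← hk, Nat.even_iff] at this
      omega
  · exact Nat.odd_iff.1 h

/-- quadratic extension: every element of the subfield is a square. -/
theorem isSquare_of_mem_subfield (F₀ : Subfield F) (k : ℕ)
    (hk : Fintype.card F = Nat.card F₀ ^ k) (hodd : Fintype.card F % 2 = 1) (hke : Even k)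
    (a : F₀) : IsSquare (a : F) := by
  classical
  haveI : Fintype F₀ := Fintype.ofFinite F₀
  have hm := card_subfield_odd F₀ k hk hodd
  have hF : ringChar F ≠ 2 := by
    intro h
    rw [FiniteField.even_card_iff_char_two] at h
    omega
  have hF₀ : ringChar F₀ ≠ 2 := by
    intro h
    rw [FiniteField.even_card_iff_char_two, ← Nat.card_eq_fintype_card] at h
    omega
  by_cases ha : a = 0
  · rw [ha, Subfield.coe_zero]
    exact ⟨0, by ring⟩
  have ha' : (a : F) ≠ 0 := fun h => ha (Subtype.ext h)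
  rw [FiniteField.isSquare_iff hF ha', subfield_pow_half F₀ k hk hodd a]
  have hΦ : Even (∑ j ∈ Finset.range k, Nat.card F₀ ^ j) := by
    rw [Nat.even_iff, geom_sum_mod_two _ _ hm]
    exact Nat.even_iff.1 hke
  have h1 := FiniteField.pow_dichotomy hF₀ ha
  rw [← Nat.card_eq_fintype_card] at h1
  rcases h1 with h1 | h1
  · rw [h1, Subfield.coe_one, one_pow]
  · rw [h1, Subfield.coe_neg, Subfield.coe_one, hΦ.neg_one_pow]

/-- odd-degree extension: every nonzero element is a subfield element times a square. -/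
theorem exists_subfield_mul_sq (F₀ : Subfield F) (k : ℕ)
    (hk : Fintype.card F = Nat.card F₀ ^ k) (hodd : Fintype.card F % 2 = 1) (hko : Odd k)
    (a : F) (ha : a ≠ 0) : ∃ (ε : F₀) (s : F), a = (ε : F) * s ^ 2 := by
  classical
  haveI : Fintype F₀ := Fintype.ofFinite F₀
  have hm := card_subfield_odd F₀ k hk hodd
  have hF : ringChar F ≠ 2 := by
    intro h
    rw [FiniteField.even_card_iff_char_two] at h
    omega
  have hF₀ : ringChar F₀ ≠ 2 := by
    intro h
    rw [FiniteField.even_card_iff_char_two, ← Nat.card_eq_fintype_card] at h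
    omega
  by_cases hsq : IsSquare a
  · obtain ⟨s, hs⟩ := hsq
    exact ⟨1, s, by rw [Subfield.coe_one, one_mul, hs, pow_two]⟩
  obtain ⟨a₀, ha₀⟩ := FiniteField.exists_nonsquare hF₀
  have ha₀0 : a₀ ≠ 0 := by
    rintro rfl
    exact ha₀ ⟨0, by ring⟩
  have ha₀' : (a₀ : F) ≠ 0 := fun h => ha₀0 (Subtype.ext h)
  have hΦ : Odd (∑ j ∈ Finset.range k, Nat.card F₀ ^ j) := by
    rw [Nat.odd_iff, geom_sum_mod_two _ _ hm]
    exact Nat.odd_iff.1 hko
  have h1 : a₀ ^ (Nat.card F₀ / 2) = -1 := by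
    have h2 := FiniteField.pow_dichotomy hF₀ ha₀0
    rw [FiniteField.isSquare_iff hF₀ ha₀0] at ha₀
    rw [Nat.card_eq_fintype_card]
    rcases h2 with h2 | h2
    · exact absurd h2 ha₀
    · exact h2
  have h3 : (a₀ : F) ^ (Fintype.card F / 2) = -1 := by
    rw [subfield_pow_half F₀ k hk hodd a₀, h1, Subfield.coe_neg, Subfield.coe_one,
      hΦ.neg_one_pow]
  have h4 : a ^ (Fintype.card F / 2) = -1 := by
    have h2 := FiniteField.pow_dichotomy hF ha
    rw [FiniteField.isSquare_iff hF ha] at hsq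
    rcases h2 with h2 | h2
    · exact absurd h2 hsq
    · exact h2
  have h5 : IsSquare (a / (a₀ : F)) := by
    rw [FiniteField.isSquare_iff hF (div_ne_zero ha ha₀'), div_pow, h3, h4]
    norm_num
  obtain ⟨s, hs⟩ := h5
  refine ⟨a₀, s, ?_⟩
  rw [pow_two, ← hs, mul_div_cancel₀ _ ha₀']

end Cfsg.Agent.Helper7.SubF
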