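import Mathlib
import Cfsg.Prelude.Def_GeometricClasses
import Cfsg.Prelude.Def_Classical
import Cfsg.Prelude.Def_LieClassical
import Cfsg.Agent.Helper6.S5992Defs
import Cfsg.Agent.Helper21.S5981STDODD

/-! S5992 piece STDTRANS: an abstract `IsYO` space of dimension `2d+1` is realised inside the
standard quadratic space `quadFormOdd d F`, up to a scalar. -/

set_option autoImplicit false
open scoped MatrixGroups
universe u

namespace Cfsg.Agent.S5992P

open Cfsg.Agent.Helper2.SympInvol Cfsg.Agent.Helper2.SympUnits Cfsg.Agent.S5961P Cfsg.Agent.S2614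
  Cfsg.Agent.S5955P

namespace STDTRANS

variable {F V : Type*} [Field F] [AddCommGroup V] [Module F V]

/-- the function form of an abstract quadratic form in coordinates is a nondegenerate quadratic
form in the sense of the Prelude -/
theorem isNondegQF {n : ℕ} (Q : QuadraticForm F V) (hnd : Nondeg (PB Q) ⊤)
    (e₀ : V ≃ₗ[F] (Fin n → F)) :
    Cfsg.Geo.IsNondegenerateQuadraticForm (fun x : Fin n → F => Q (e₀.symm x)) := by
  have hpol : ∀ x y : Fin n → F, QuadraticMap.polar (fun x : Fin n → F => Q (e₀.symm x)) x y =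
      QuadraticMap.polar Q (e₀.symm x) (e₀.symm y) := by
    intro x y
    simp only [QuadraticMap.polar, map_add]
  refine ⟨?_, ⟨?_, ?_, ?_, ?_⟩, ?_⟩
  · intro c v
    simp only [map_smul]
    rw [QuadraticMap.map_smul, smul_eq_mul, pow_two]
  · intro x y v
    rw [hpol, hpol, hpol, map_add, QuadraticMap.polar_add_left]
  · intro c x v
    rw [hpol, hpol, map_smul, QuadraticMap.polar_smul_left, smul_eq_mul]
  · intro v x y
    rw [hpol, hpol, hpol, map_add, QuadraticMap.polar_add_right]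
  · intro c v x
    rw [hpol, hpol, map_smul, QuadraticMap.polar_smul_right, smul_eq_mul]
  · intro v hv
    have hv' : e₀.symm v ≠ 0 := by
      intro h
      apply hv
      have := congrArg e₀ h
      rwa [LinearEquiv.apply_symm_apply, map_zero] at this
    obtain ⟨w, -, hw⟩ := hnd (e₀.symm v) trivial hv'
    rw [PB_apply] at hw
    refine ⟨⟨e₀ w, ?_⟩, ⟨e₀ w, ?_⟩⟩
    · rw [hpol, LinearEquiv.symm_apply_apply, QuadraticMap.polar_comm]
      exact hw
    · rw [hpol, LinearEquiv.symm_apply_apply]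
      exact hw

/-- an isometry of a nondegenerate quadratic space is injective -/
theorem injective_of_isom (Q : QuadraticForm F V) (y : Module.End F V)
    (hnd : Nondeg (PB Q) ⊤) (hy : ∀ v, Q (y v) = Q v) : Function.Injective y := by
  rw [← LinearMap.ker_eq_bot, Submodule.eq_bot_iff]
  intro v hv
  by_contra hv0
  obtain ⟨w, -, hw⟩ := hnd v trivial hv0
  apply hw
  rw [← PB_isom Q hy, LinearMap.mem_ker.mp hv, map_zero, LinearMap.zero_apply]

end STDTRANS

open STDTRANS in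
/-- STDTRANS -/
theorem exists_std_of_space {F V : Type*} [Field F] [Fintype F] [AddCommGroup V] [Module F V]
    [FiniteDimensional F V] (h2 : (2 : F) ≠ 0) (Q : QuadraticForm F V) (y : Module.End F V)
    (r : ℕ) (hY : IsYO Q y r) (d : ℕ) (hd : Module.finrank F V = 2 * d + 1) :
    ∃ (x : GL (Unit ⊕ (Fin d ⊕ Fin d)) F) (e : V ≃ₗ[F] (Unit ⊕ (Fin d ⊕ Fin d) → F)) (c : F),
      c ≠ 0 ∧ x ∈ Cfsg.isometryGroup F (Cfsg.quadFormOdd d F) ∧
      (∀ v, Cfsg.quadFormOdd d F (e v) = c * Q v) ∧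
      (∀ v, e (y v) = Matrix.toLin'
        (x : Matrix (Unit ⊕ (Fin d ⊕ Fin d)) (Unit ⊕ (Fin d ⊕ Fin d)) F) (e v)) := by
  classical
  let bas : Module.Basis (Fin (2 * d + 1)) F V := Module.finBasisOfFinrankEq F V hd
  let e₀ : V ≃ₗ[F] (Fin (2 * d + 1) → F) := bas.equivFun
  obtain ⟨c, φ, hc0, hφ⟩ := Cfsg.Agent.S5981P.exists_std_odd h2 (2 * d + 1) d rfl
    (fun x : Fin (2 * d + 1) → F => Q (e₀.symm x)) (isNondegQF Q hY.nondeg e₀)
  let e : V ≃ₗ[F] (Unit ⊕ (Fin d ⊕ Fin d) → F) := e₀.trans φ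
  have heQ : ∀ v, Cfsg.quadFormOdd d F (e v) = c * Q v := by
    intro v
    show Cfsg.quadFormOdd d F (φ (e₀ v)) = c * Q v
    rw [hφ]
    simp only [LinearEquiv.symm_apply_apply]
  -- `y` as a linear equivalence
  have hinj : Function.Injective y := injective_of_isom Q y hY.nondeg hY.isom
  let ye : V ≃ₗ[F] V := LinearEquiv.ofInjectiveEndo y hinj
  have hye : ∀ v, ye v = y v := fun v => rfl
  let ψ : (Unit ⊕ (Fin d ⊕ Fin d) → F) ≃ₗ[F] (Unit ⊕ (Fin d ⊕ Fin d) → F) :=
    (e.symm.trans ye).trans e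
  have hψ : ∀ v, ψ (e v) = e (y v) := by
    intro v
    show e (ye (e.symm (e v))) = e (y v)
    rw [LinearEquiv.symm_apply_apply, hye]
  have h12 : LinearMap.toMatrix' ψ.toLinearMap *
      LinearMap.toMatrix' ψ.symm.toLinearMap = 1 := by
    rw [← LinearMap.toMatrix'_comp, ← LinearMap.toMatrix'_id]
    congr 1
    apply LinearMap.ext
    intro v
    simp
  have h21 : LinearMap.toMatrix' ψ.symm.toLinearMap *
      LinearMap.toMatrix' ψ.toLinearMap = 1 := by
    rw [← LinearMap.toMatrix'_comp, ← LinearMap.toMatrix'_id]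
    congr 1
    apply LinearMap.ext
    intro v
    simp
  let x : GL (Unit ⊕ (Fin d ⊕ Fin d)) F :=
    ⟨LinearMap.toMatrix' ψ.toLinearMap,
      LinearMap.toMatrix' ψ.symm.toLinearMap, h12, h21⟩
  have hx : ∀ u, Matrix.toLin'
      (x : Matrix (Unit ⊕ (Fin d ⊕ Fin d)) (Unit ⊕ (Fin d ⊕ Fin d)) F) u = ψ u := by
    intro u
    show Matrix.toLin' (LinearMap.toMatrix' ψ.toLinearMap) u = ψ u
    rw [Matrix.toLin'_toMatrix']
    rfl
  refine ⟨x, e, c, hc0, ?_, heQ, ?_⟩
  · intro u _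
    show Cfsg.quadFormOdd d F
      (Matrix.mulVec (x : Matrix (Unit ⊕ (Fin d ⊕ Fin d)) (Unit ⊕ (Fin d ⊕ Fin d)) F) u) =
      Cfsg.quadFormOdd d F u
    obtain ⟨v, rfl⟩ := e.surjective u
    rw [← Matrix.toLin'_apply, hx, hψ, heQ, heQ, hY.isom]
  · intro v
    rw [hx, hψ]

end Cfsg.Agent.S5992P
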