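import Mathlib
import Cfsg.Prelude.Def_GeometricClasses
import Cfsg.Prelude.Def_Classical
import Cfsg.Prelude.Def_LieClassical
import Cfsg.Agent.Helper27.S5989Defs

/-! S5989 piece CONJMAT (helper7): transport of an isometry along a linear isometry to a matrix. -/

set_option autoImplicit false
open scoped MatrixGroups
universe u

namespace Cfsg.Agent.S5989P

open Cfsg.Agent.Helper2.SympInvol Cfsg.Agent.Helper2.SympUnits Cfsg.Agent.S5961P
  Cfsg.Agent.S5992P

namespace CONJMAT

variable {F V V' : Type*} [Field F] [AddCommGroup V] [Module F V] [AddCommGroup V'] [Module F V']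

/-- conjugation by a linear equivalence as a ring equivalence of endomorphism rings preserves
kernel dimensions -/
theorem conjRingEquiv_apply' (e : V ≃ₗ[F] V') (f : Module.End F V) (u : V') :
    e.conjRingEquiv f u = e (f (e.symm u)) := rfl

theorem finrank_ker_conj (e : V ≃ₗ[F] V') (f : Module.End F V) :
    Module.finrank F (LinearMap.ker (e.conjRingEquiv f)) =
      Module.finrank F (LinearMap.ker f) := by
  have hk : LinearMap.ker (e.conjRingEquiv f) = (LinearMap.ker f).map (e : V →ₗ[F] V') := by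
    ext u
    simp only [LinearMap.mem_ker, Submodule.mem_map, conjRingEquiv_apply',
      LinearEquiv.coe_coe]
    constructor
    · intro h
      refine ⟨e.symm u, ?_, e.apply_symm_apply u⟩
      have := congrArg e.symm h
      simpa using this
    · rintro ⟨v, hv, rfl⟩
      rw [e.symm_apply_apply, hv, map_zero]
  rw [hk]
  exact LinearEquiv.finrank_map_eq e _

end CONJMAT

open CONJMAT in
/-- CONJMAT -/
theorem exists_matrix_of_conj {F V : Type*} [Field F] [AddCommGroup V] [Module F V]
    [FiniteDimensional F V] (Q : QuadraticForm F V) (y : Module.End F V)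
    (hy : ∀ v, Q (y v) = Q v) (hinj : Function.Injective y) {ι : Type} [Fintype ι]
    [DecidableEq ι] (Q₀ : QuadraticForm F (ι → F)) (e : V ≃ₗ[F] (ι → F))
    (he : ∀ v, Q₀ (e v) = Q v) :
    ∃ x : GL ι F, x ∈ Cfsg.isometryGroup F ⇑Q₀ ∧
      (∀ v, e (y v) = Matrix.toLin' (x : Matrix ι ι F) (e v)) ∧
      (∀ n : ℕ, y ^ n = 1 → x ^ n = 1) ∧
      (∀ j : ℕ, Module.finrank F (LinearMap.ker ((Matrix.toLin' (x : Matrix ι ι F) - 1) ^ j)) =
        Module.finrank F (LinearMap.ker ((y - 1) ^ j))) := by
  classical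
  let ye : V ≃ₗ[F] V := LinearEquiv.ofInjectiveEndo y hinj
  have hye : ∀ v, ye v = y v := fun v => rfl
  let ψ : (ι → F) ≃ₗ[F] (ι → F) := (e.symm.trans ye).trans e
  have hψ : ∀ v, ψ (e v) = e (y v) := by
    intro v
    show e (ye (e.symm (e v))) = e (y v)
    rw [LinearEquiv.symm_apply_apply, hye]
  have hψc : ψ.toLinearMap = e.conjRingEquiv y := by
    apply LinearMap.ext
    intro u
    obtain ⟨v, rfl⟩ := e.surjective u
    rw [LinearEquiv.coe_coe, hψ, conjRingEquiv_apply', e.symm_apply_apply]
  have h12 : LinearMap.toMatrix' ψ.toLinearMap *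
      LinearMap.toMatrix' ψ.symm.toLinearMap = 1 := by
    rw [← LinearMap.toMatrix'_comp, ← LinearMap.toMatrix'_id]
    congr 1
    apply LinearMap.ext
    intro v
    simp
  have h21 : LinearMap.toMatrix' ψ.symm.toLinearMap *
      LinearMap.toMatrix' ψ.toLinearMap = 1 := by
    rw [← LinearMap.toMatrix'_comp, ← LinearMap.toMatrix'_id]
    congr 1
    apply LinearMap.ext
    intro v
    simp
  let x : GL ι F :=
    ⟨LinearMap.toMatrix' ψ.toLinearMap, LinearMap.toMatrix' ψ.symm.toLinearMap, h12, h21⟩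
  have hxl : Matrix.toLin' (x : Matrix ι ι F) = e.conjRingEquiv y := by
    show Matrix.toLin' (LinearMap.toMatrix' ψ.toLinearMap) = e.conjRingEquiv y
    rw [Matrix.toLin'_toMatrix', hψc]
  have hx : ∀ u, Matrix.toLin' (x : Matrix ι ι F) u = ψ u := by
    intro u
    rw [hxl, ← hψc]
    rfl
  refine ⟨x, ?_, ?_, ?_, ?_⟩
  · intro u _
    show Q₀ (Matrix.mulVec (x : Matrix ι ι F) u) = Q₀ u
    obtain ⟨v, rfl⟩ := e.surjective u
    rw [← Matrix.toLin'_apply, hx, hψ, he, he, hy]
  · intro v
    rw [hx, hψ]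
  · intro n hn
    apply Units.ext
    rw [Units.val_pow_eq_pow_val, Units.val_one]
    apply Matrix.toLin'.injective
    rw [Matrix.toLin'_pow, hxl, ← map_pow, hn, map_one, Matrix.toLin'_one]
    rfl
  · intro j
    rw [hxl, ← map_one e.conjRingEquiv, ← map_sub, ← map_pow]
    exact finrank_ker_conj e _

end Cfsg.Agent.S5989P
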