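import Mathlib
import Cfsg.Prelude.Def_GeometricClasses
import Cfsg.Prelude.Def_Classical
import Cfsg.Prelude.Def_LieClassical
import Cfsg.Agent.Helper6.S5992Defs
import Cfsg.Agent.Helper7.OrthUni3
import Cfsg.Agent.Helper28.Spin4
import Cfsg.Agent.Helper6.S5992PLUSDISC

/-! S5992 piece ISOTY: nondegenerate even-dimensional subspaces of the same dimension and type
are isometric. -/

set_option autoImplicit false
open scoped MatrixGroups
universe u

namespace Cfsg.Agent.S5992P

open Cfsg.Agent.Helper2.SympInvol Cfsg.Agent.Helper2.SympUnits Cfsg.Agent.S5961P Cfsg.Agent.S2614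
  Cfsg.Agent.S5955P

namespace ISOTY

open Cfsg.Agent.Helper7.OrthUni

variable {F V : Type*} [Field F] [AddCommGroup V] [Module F V]

/-- the coordinate form of `Q` restricted to `W` w.r.t. a basis of `W` -/
noncomputable def coordQ {n : ℕ} (Q : QuadraticForm F V) (W : Submodule F V)
    (b : Module.Basis (Fin n) F W) : QuadraticForm F (Fin n → F) :=
  (Q.comp W.subtype).comp (b.equivFun.symm : (Fin n → F) →ₗ[F] W)

theorem coordQ_apply {n : ℕ} (Q : QuadraticForm F V) (W : Submodule F V)
    (b : Module.Basis (Fin n) F W) (x : Fin n → F) :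
    coordQ Q W b x = Q ((b.equivFun.symm x : W) : V) := rfl

theorem coordQ_equivFun {n : ℕ} (Q : QuadraticForm F V) (W : Submodule F V)
    (b : Module.Basis (Fin n) F W) (w : W) : coordQ Q W b (b.equivFun w) = Q (w : V) := by
  rw [coordQ_apply, LinearEquiv.symm_apply_apply]

theorem polar_coordQ {n : ℕ} (Q : QuadraticForm F V) (W : Submodule F V)
    (b : Module.Basis (Fin n) F W) (x y : Fin n → F) :
    QuadraticMap.polar (coordQ Q W b) x y =
      QuadraticMap.polar Q ((b.equivFun.symm x : W) : V) ((b.equivFun.symm y : W) : V) := by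
  simp only [QuadraticMap.polar, coordQ_apply, map_add, Submodule.coe_add]

theorem gram_coordQ {n : ℕ} (Q : QuadraticForm F V) (W : Submodule F V)
    (b : Module.Basis (Fin n) F W) :
    (gram (coordQ Q W b)).det = gramDet Q (fun i => (b i : V)) := by
  classical
  unfold gramDet
  congr 1
  ext i j
  rw [gram_apply, polar_coordQ, Matrix.of_apply]
  simp [Module.Basis.equivFun_symm_apply]

theorem nondeg_coordQ {n : ℕ} (Q : QuadraticForm F V) (W : Submodule F V)
    (b : Module.Basis (Fin n) F W) (hW : Nondeg (PB Q) W) :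
    (QuadraticMap.polarBilin (coordQ Q W b)).Nondegenerate := by
  have hl : ∀ x : Fin n → F, (∀ y, QuadraticMap.polar (coordQ Q W b) x y = 0) → x = 0 := by
    intro x hx
    by_contra hx0
    have hx' : ((b.equivFun.symm x : W) : V) ≠ 0 := by
      intro h
      apply hx0
      have h1 : (b.equivFun.symm x : W) = 0 := Subtype.ext h
      have := congrArg b.equivFun h1
      rwa [LinearEquiv.apply_symm_apply, map_zero] at this
    obtain ⟨v, hv, hne⟩ := hW _ (b.equivFun.symm x).2 hx'
    apply hne
    have := hx (b.equivFun ⟨v, hv⟩)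
    rw [polar_coordQ, LinearEquiv.symm_apply_apply] at this
    exact this
  constructor
  · intro x hx
    apply hl
    intro y
    have := hx y
    rwa [QuadraticMap.polarBilin_apply_apply] at this
  · intro x hx
    apply hl
    intro y
    have := hx y
    rwa [QuadraticMap.polarBilin_apply_apply, QuadraticMap.polar_comm] at this

end ISOTY

open ISOTY Cfsg.Agent.Helper7.OrthUni in
/-- ISOTY -/
theorem exists_isometry_of_ty {F V V' : Type*} [Field F] [Fintype F] [AddCommGroup V]
    [Module F V] [FiniteDimensional F V] [AddCommGroup V'] [Module F V'] [FiniteDimensional F V']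
    (h2 : (2 : F) ≠ 0) (Q : QuadraticForm F V) (Q' : QuadraticForm F V') (W : Submodule F V)
    (W' : Submodule F V') (hW : Nondeg (PB Q) W) (hW' : Nondeg (PB Q') W')
    (hdim : Module.finrank F W = Module.finrank F W') (he : Even (Module.finrank F W))
    (hty : Plus Q W ↔ Plus Q' W') :
    ∃ e : W ≃ₗ[F] W', ∀ w : W, Q' ((e w : W') : V') = Q (w : V) := by
  classical
  have he' : Even (Module.finrank F W') := hdim ▸ he
  have hD : DiscSq Q W ↔ DiscSq Q' W' := by
    rw [← plus_iff_discSq h2 Q W hW he, ← plus_iff_discSq h2 Q' W' hW' he', hty]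
  have hss : (-1 : F) ^ (Module.finrank F W / 2) * (-1 : F) ^ (Module.finrank F W' / 2) = 1 := by
    rw [← hdim, ← mul_pow]
    simp
  -- good bases
  obtain ⟨b, b', hsq⟩ : ∃ (b : Module.Basis (Fin (Module.finrank F W)) F W)
      (b' : Module.Basis (Fin (Module.finrank F W')) F W'),
      IsSquare (gramDet Q (fun i => (b i : V)) * gramDet Q' (fun i => (b' i : V'))) := by
    by_cases hd : DiscSq Q W
    · obtain ⟨b, hb⟩ := hd
      obtain ⟨b', hb'⟩ := hD.mp ⟨b, hb⟩
      refine ⟨b, b', ?_⟩
      have h1 := hb.mul hb'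
      have h3 : (-1 : F) ^ (Module.finrank F W / 2) * gramDet Q (fun i => (b i : V)) *
          ((-1 : F) ^ (Module.finrank F W' / 2) * gramDet Q' (fun i => (b' i : V'))) =
          gramDet Q (fun i => (b i : V)) * gramDet Q' (fun i => (b' i : V')) := by
        calc _ = ((-1 : F) ^ (Module.finrank F W / 2) * (-1 : F) ^ (Module.finrank F W' / 2)) *
              (gramDet Q (fun i => (b i : V)) * gramDet Q' (fun i => (b' i : V'))) := by ring
          _ = _ := by rw [hss, one_mul]
      rw [h3] at h1
      exact h1
    · have hd' : ¬ DiscSq Q' W' := fun h => hd (hD.mpr h)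
      let b : Module.Basis (Fin (Module.finrank F W)) F W := Module.finBasis F W
      let b' : Module.Basis (Fin (Module.finrank F W')) F W' := Module.finBasis F W'
      refine ⟨b, b', ?_⟩
      have hns : ¬ IsSquare ((-1 : F) ^ (Module.finrank F W / 2) *
          gramDet Q (fun i => (b i : V))) := fun h => hd ⟨b, h⟩
      have hns' : ¬ IsSquare ((-1 : F) ^ (Module.finrank F W' / 2) *
          gramDet Q' (fun i => (b' i : V'))) := fun h => hd' ⟨b', h⟩
      have hne : (-1 : F) ^ (Module.finrank F W / 2) * gramDet Q (fun i => (b i : V)) ≠ 0 := by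
        intro h0
        apply hns
        rw [h0]
        exact ⟨0, by ring⟩
      have hne' : (-1 : F) ^ (Module.finrank F W' / 2) * gramDet Q' (fun i => (b' i : V')) ≠ 0 := by
        intro h0
        apply hns'
        rw [h0]
        exact ⟨0, by ring⟩
      have h1 : IsSquare (((-1 : F) ^ (Module.finrank F W / 2) * gramDet Q (fun i => (b i : V))) *
          ((-1 : F) ^ (Module.finrank F W' / 2) * gramDet Q' (fun i => (b' i : V')))) := by
        rw [Cfsg.Agent.Helper28.Spin.isSquare_mul_iff h2 hne hne']
        exact ⟨fun h => absurd h hns, fun h => absurd h hns'⟩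
      have h3 : (-1 : F) ^ (Module.finrank F W / 2) * gramDet Q (fun i => (b i : V)) *
          ((-1 : F) ^ (Module.finrank F W' / 2) * gramDet Q' (fun i => (b' i : V'))) =
          gramDet Q (fun i => (b i : V)) * gramDet Q' (fun i => (b' i : V')) := by
        calc _ = ((-1 : F) ^ (Module.finrank F W / 2) * (-1 : F) ^ (Module.finrank F W' / 2)) *
              (gramDet Q (fun i => (b i : V)) * gramDet Q' (fun i => (b' i : V'))) := by ring
          _ = _ := by rw [hss, one_mul]
      rw [h3] at h1
      exact h1
  have hsq' : IsSquare ((gram (coordQ Q W b)).det * (gram (coordQ Q' W' b')).det) := by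
    rw [gram_coordQ, gram_coordQ]
    exact hsq
  obtain ⟨g, hg⟩ := exists_isometry_of_disc h2 (coordQ Q W b) (coordQ Q' W' b')
    (nondeg_coordQ Q W b hW) (nondeg_coordQ Q' W' b' hW')
    (by rw [Fintype.card_fin, Fintype.card_fin, hdim]) hsq'
  refine ⟨(b.equivFun.trans g).trans b'.equivFun.symm, ?_⟩
  intro w
  show Q' ((b'.equivFun.symm (g (b.equivFun w)) : W') : V') = Q (w : V)
  rw [← coordQ_apply, hg, coordQ_equivFun]

end Cfsg.Agent.S5992P
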