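import Mathlib
import Cfsg.Prelude.Def_GeometricClasses
import Cfsg.Prelude.Def_Classical
import Cfsg.Prelude.Def_LieClassical
import Cfsg.Agent.Helper27.S5989Defs
import Cfsg.Agent.Helper7.S5992ISOTY

/-! S5989 piece STDTRANSE (helper7): an even-dimensional nondegenerate quadratic space is isometric
to a coordinate space of the same dimension and type. -/

set_option autoImplicit false
open scoped MatrixGroups
universe u

namespace Cfsg.Agent.S5989P

open Cfsg.Agent.Helper2.SympInvol Cfsg.Agent.Helper2.SympUnits Cfsg.Agent.S5961P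
  Cfsg.Agent.S5992P

/-- STDTRANSE -/
theorem exists_std_of_space_even {F V : Type*} [Field F] [Fintype F] [AddCommGroup V]
    [Module F V] [FiniteDimensional F V] (h2 : (2 : F) ≠ 0) (Q : QuadraticForm F V)
    (hnd : Nondeg (PB Q) ⊤) {ι : Type} [Fintype ι] [DecidableEq ι]
    (Q₀ : QuadraticForm F (ι → F)) (hQ₀ : (QuadraticMap.polarBilin Q₀).Nondegenerate)
    (hdim : Module.finrank F V = Fintype.card ι) (hev : Even (Fintype.card ι))
    (hty : Plus Q ⊤ ↔ Plus Q₀ ⊤) :
    ∃ e : V ≃ₗ[F] (ι → F), ∀ v, Q₀ (e v) = Q v := by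
  have hnd₀ : Nondeg (PB Q₀) ⊤ := nondeg_top_of_nondegenerate Q₀ hQ₀
  have hd : Module.finrank F (⊤ : Submodule F V) = Module.finrank F (⊤ : Submodule F (ι → F)) := by
    rw [finrank_top, finrank_top, hdim, Module.finrank_fintype_fun_eq_card]
  have he : Even (Module.finrank F (⊤ : Submodule F V)) := by
    rw [finrank_top, hdim]; exact hev
  obtain ⟨f, hf⟩ := exists_isometry_of_ty h2 Q Q₀ ⊤ ⊤ hnd hnd₀ hd he hty
  refine ⟨(Submodule.topEquiv.symm.trans f).trans Submodule.topEquiv, ?_⟩
  intro v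
  have := hf (Submodule.topEquiv.symm v)
  simpa using this

end Cfsg.Agent.S5989P
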