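import Mathlib
import Cfsg.Prelude.Def_ClassicalGeometry
import Cfsg.Agent.Helper7.S2676Defs

/-! S2676 piece FRAMEND (helper7): a frame is a basis of its span, which is nondegenerate. -/

set_option autoImplicit false

namespace Cfsg.Agent.S2676P

open Cfsg.Agent.Helper2.SympInvol Cfsg.Agent.Helper2.SympUnits Cfsg.Agent.S5961P Cfsg.Agent.S5956P

namespace FRAMEND

variable {F V : Type*} [Field F] [AddCommGroup V] [Module F V] {ι : Type}
    [Fintype ι] [DecidableEq ι]

/-- the key computation: a combination of frame vectors orthogonal to all frame vectors has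
zero coefficients -/
theorem coeff_eq_zero (B : LinearMap.BilinForm F V) (X : Module.End F V)
    (W : Submodule F V) (a : ι → ℕ) (K : Matrix ι ι F) (g : ι → V)
    (hf : IsFrame B X W a K g) (c : ((j : ι) × Fin (a j)) → F)
    (h : ∀ y, B (∑ x, c x • fvec X a g x) (fvec X a g y) = 0) : ∀ x, c x = 0 := by
  classical
  rintro ⟨j₀, i₀⟩
  obtain ⟨s, hs⟩ : ∃ s, s = a j₀ := ⟨_, rfl⟩
  -- total version of the coefficient in column `i₀`
  set cc : ι → F := fun j => if h : (i₀ : ℕ) < a j then c ⟨j, ⟨i₀, h⟩⟩ else 0 with hcc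
  have hi₀ : (i₀ : ℕ) < s := hs ▸ i₀.2
  have key : ∀ j' : {j // a j = s},
      ∑ j : {j // a j = s}, cc j.1 * K j.1 j'.1 = 0 := by
    rintro ⟨j', hj'⟩
    have hl : s - 1 - (i₀ : ℕ) < a j' := by omega
    have h0 := h ⟨j', ⟨s - 1 - (i₀ : ℕ), hl⟩⟩
    rw [map_sum, LinearMap.sum_apply] at h0
    simp only [map_smul, LinearMap.smul_apply, smul_eq_mul, fvec_mk] at h0
    rw [Fintype.sum_sigma] at h0
    simp only [fvec_mk] at h0
    have hinner : ∀ j : ι, ∑ i : Fin (a j), c ⟨j, i⟩ *
        B ((X ^ (i : ℕ)) (g j)) ((X ^ (s - 1 - (i₀ : ℕ))) (g j')) =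
        if a j = s then (-1) ^ (i₀ : ℕ) * (cc j * K j j') else 0 := by
      intro j
      by_cases hj : a j = s
      · rw [if_pos hj]
        have hij : (i₀ : ℕ) < a j := by omega
        rw [Finset.sum_eq_single (⟨i₀, hij⟩ : Fin (a j))]
        · rw [hf.gram, if_pos (by show (i₀ : ℕ) + (s - 1 - (i₀ : ℕ)) + 1 = a j; omega)]
          simp only [hcc, dif_pos hij]
          ring
        · intro i _ hi
          rw [hf.gram, if_neg, mul_zero]
          intro h'
          apply hi
          apply Fin.ext
          show (i : ℕ) = (i₀ : ℕ)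
          omega
        · intro h'
          exact absurd (Finset.mem_univ _) h'
      · rw [if_neg hj]
        apply Finset.sum_eq_zero
        intro i _
        rw [hf.gram, hf.offdiag j j' (by rw [hj']; exact hj)]
        simp
    simp_rw [hinner] at h0
    rw [← Finset.sum_filter, ← Finset.mul_sum] at h0
    have hne : ((-1 : F)) ^ (i₀ : ℕ) ≠ 0 := pow_ne_zero _ (by simp)
    have h1 := (mul_eq_zero.mp h0).resolve_left hne
    rw [← h1]
    exact (Finset.sum_subtype (Finset.univ.filter fun j => a j = s) (by simp)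
      (fun j => cc j * K j j')).symm
  -- row vector times the invertible block
  have hvec : (fun j : {j // a j = s} => cc j.1) = 0 := by
    apply Matrix.eq_zero_of_vecMul_eq_zero (hf.unit s).ne_zero
    funext j'
    rw [Matrix.vecMul, dotProduct]
    simp only [Matrix.toSquareBlock_def, Matrix.of_apply, Pi.zero_apply]
    exact key j'
  have := congrFun hvec ⟨j₀, hs.symm⟩
  simp only [hcc, Pi.zero_apply] at this
  rw [dif_pos i₀.2] at this
  exact this

end FRAMEND

theorem frame_nondeg {F V : Type*} [Field F] [AddCommGroup V] [Module F V] {ι : Type}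
    [Fintype ι] [DecidableEq ι] (B : LinearMap.BilinForm F V) (X : Module.End F V)
    (W : Submodule F V) (a : ι → ℕ) (K : Matrix ι ι F) (g : ι → V)
    (hf : IsFrame B X W a K g) :
    LinearIndependent F (fvec X a g) ∧ Nondeg B W ∧ Module.finrank F ↥W = ∑ j, a j := by
  have hli : LinearIndependent F (fvec X a g) := by
    rw [Fintype.linearIndependent_iff]
    intro c hc
    apply FRAMEND.coeff_eq_zero B X W a K g hf c
    intro y
    rw [hc]
    simp
  refine ⟨hli, ?_, ?_⟩
  · intro m hm hm0
    by_contra hcon0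
    have hcon : ∀ v ∈ W, B m v = 0 := by
      intro v hv
      by_contra hne
      exact hcon0 ⟨v, hv, hne⟩
    rw [← hf.span] at hm
    obtain ⟨c, rfl⟩ := (Submodule.mem_span_range_iff_exists_fun F).mp hm
    apply hm0
    have hc := FRAMEND.coeff_eq_zero B X W a K g hf c (fun y => hcon _ (by
      rw [← hf.span]
      exact Submodule.subset_span ⟨y, rfl⟩))
    apply Finset.sum_eq_zero
    intro x _
    rw [hc x, zero_smul]
  · rw [← hf.span, finrank_span_eq_card hli, Fintype.card_sigma]
    simp

end Cfsg.Agent.S2676P
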