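import Mathlib
import Cfsg.Prelude.Def_ClassicalGeometry
import Cfsg.Agent.Helper7.S2676Defs

/-! S2676 piece DISCWD (helper7): Gram matrices modulo the radical. -/

set_option autoImplicit false

namespace Cfsg.Agent.S2676P

namespace DISCWD

theorem sum_eq_sum_inj {F : Type*} [Field F] {κ σ : Type*} [Fintype κ] [Fintype σ]
    (inc : σ → κ) (hinc : Function.Injective inc) (f : κ → F)
    (hf : ∀ x, x ∉ Set.range inc → f x = 0) : ∑ x, f x = ∑ u, f (inc u) := by
  classical
  rw [← Finset.sum_image (s := Finset.univ) (g := inc) (f := f) (fun a _ b _ h => hinc h)]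
  symm
  apply Finset.sum_subset (Finset.subset_univ _)
  intro x _ hx
  apply hf
  rintro ⟨u, rfl⟩
  exact hx (Finset.mem_image_of_mem _ (Finset.mem_univ u))

end DISCWD

theorem disc_wd {F V : Type*} [Field F] [AddCommGroup V] [Module F V] {κ σ : Type*}
    [Fintype κ] [Fintype σ] [DecidableEq σ] (β : LinearMap.BilinForm F V) (c : κ → V)
    (inc : σ → κ) (hinc : Function.Injective inc)
    (hzero : ∀ x y, (x ∉ Set.range inc ∨ y ∉ Set.range inc) → β (c x) (c y) = 0)
    (d : σ → V) (hd : ∀ t, d t ∈ Submodule.span F (Set.range c)) :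
    ∃ P : Matrix σ σ F, Matrix.of (fun t t' => β (d t) (d t')) =
      P * Matrix.of (fun x y => β (c (inc x)) (c (inc y))) * P.transpose := by
  have hex : ∀ t, ∃ p : κ → F, ∑ x, p x • c x = d t := fun t =>
    (Submodule.mem_span_range_iff_exists_fun F).mp (hd t)
  choose p hp using hex
  refine ⟨Matrix.of fun t u => p t (inc u), ?_⟩
  ext t t'
  rw [Matrix.of_apply, Matrix.mul_apply]
  simp only [Matrix.mul_apply, Matrix.of_apply, Matrix.transpose_apply]
  rw [← hp t, ← hp t']
  simp only [map_sum, LinearMap.sum_apply, map_smul, LinearMap.smul_apply, smul_eq_mul]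
  rw [DISCWD.sum_eq_sum_inj inc hinc]
  · apply Finset.sum_congr rfl
    intro u _
    rw [DISCWD.sum_eq_sum_inj inc hinc (fun x => p t x * β (c x) (c (inc u)))]
    · rw [mul_comm]
    · intro y hy
      rw [hzero _ _ (Or.inl hy)]
      ring
  · intro y hy
    have : ∑ x, p t x * β (c x) (c y) = 0 := by
      apply Finset.sum_eq_zero
      intro x _
      rw [hzero _ _ (Or.inr hy)]
      ring
    rw [this, mul_zero]

end Cfsg.Agent.S2676P
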