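import Mathlib
import Cfsg.Prelude.Def_ClassicalGeometry
import Cfsg.Agent.Helper7.S2676Defs
import Cfsg.Agent.Helper7.S2676FRAMEND

/-! S2676 piece FRAMEISO (helper7): frames with the same data give an isomorphism. -/

set_option autoImplicit false

namespace Cfsg.Agent.S2676P

open Cfsg.Agent.Helper2.SympInvol Cfsg.Agent.Helper2.SympUnits Cfsg.Agent.S5961P Cfsg.Agent.S5956P

namespace FRAMEISO

variable {F V : Type*} [Field F] [AddCommGroup V] [Module F V] {ι : Type}
    [Fintype ι] [DecidableEq ι]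

/-- the basis given by a frame of the whole space -/
noncomputable def frameBasis (B : LinearMap.BilinForm F V) (X : Module.End F V) (a : ι → ℕ)
    (K : Matrix ι ι F) (g : ι → V) (hf : IsFrame B X ⊤ a K g) :
    Module.Basis ((j : ι) × Fin (a j)) F V :=
  Module.Basis.mk (frame_nondeg B X ⊤ a K g hf).1 (by rw [hf.span])

theorem frameBasis_apply (B : LinearMap.BilinForm F V) (X : Module.End F V) (a : ι → ℕ)
    (K : Matrix ι ι F) (g : ι → V) (hf : IsFrame B X ⊤ a K g) (x : (j : ι) × Fin (a j)) :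
    frameBasis B X a K g hf x = (X ^ (x.2 : ℕ)) (g x.1) := by
  unfold frameBasis
  rw [Module.Basis.mk_apply]
  rfl

end FRAMEISO

open FRAMEISO

theorem frame_iso {F V V' : Type*} [Field F] [AddCommGroup V] [Module F V] [AddCommGroup V']
    [Module F V'] {ι : Type} [Fintype ι] [DecidableEq ι] (B : LinearMap.BilinForm F V)
    (X : Module.End F V) (B' : LinearMap.BilinForm F V') (X' : Module.End F V') (a : ι → ℕ)
    (K : Matrix ι ι F) (g : ι → V) (g' : ι → V') (hf : IsFrame B X ⊤ a K g)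
    (hf' : IsFrame B' X' ⊤ a K g') :
    ∃ φ : V ≃ₗ[F] V', (∀ u v, B' (φ u) (φ v) = B u v) ∧ (∀ v, φ (X v) = X' (φ v)) := by
  set b := frameBasis B X a K g hf with hb
  set b' := frameBasis B' X' a K g' hf' with hb'
  set φ : V ≃ₗ[F] V' := b.equiv b' (Equiv.refl _) with hφ
  have hφb : ∀ x, φ (b x) = b' x := by
    intro x
    rw [hφ, Module.Basis.equiv_apply]
    rfl
  refine ⟨φ, ?_, ?_⟩
  · have hBB : LinearMap.BilinForm.comp B' (φ : V →ₗ[F] V') (φ : V →ₗ[F] V') = B := by
      apply LinearMap.BilinForm.ext_basis b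
      intro x y
      rw [LinearMap.BilinForm.comp_apply]
      show B' (φ (b x)) (φ (b y)) = B (b x) (b y)
      rw [hφb, hφb, hb, hb', frameBasis_apply, frameBasis_apply, frameBasis_apply,
        frameBasis_apply, hf.gram, hf'.gram]
    intro u v
    rw [← hBB, LinearMap.BilinForm.comp_apply]
    rfl
  · have hXX : (φ : V →ₗ[F] V') ∘ₗ X = X' ∘ₗ (φ : V →ₗ[F] V') := by
      apply b.ext
      rintro ⟨j, i⟩
      show φ (X (b ⟨j, i⟩)) = X' (φ (b ⟨j, i⟩))
      rw [hφb, hb, hb', frameBasis_apply, frameBasis_apply]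
      show φ (X ((X ^ (i : ℕ)) (g j))) = X' ((X' ^ (i : ℕ)) (g' j))
      rw [← Module.End.mul_apply, ← Module.End.mul_apply, ← pow_succ', ← pow_succ']
      by_cases hi : (i : ℕ) + 1 < a j
      · have h1 : (X ^ ((i : ℕ) + 1)) (g j) = b ⟨j, ⟨(i : ℕ) + 1, hi⟩⟩ := by
          rw [hb, frameBasis_apply]
        have h2 : (X' ^ ((i : ℕ) + 1)) (g' j) = b' ⟨j, ⟨(i : ℕ) + 1, hi⟩⟩ := by
          rw [hb', frameBasis_apply]
        rw [h1, h2, hφb]
      · have hi' : (i : ℕ) + 1 = a j := by
          have := i.2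
          omega
        rw [hi', hf.kill, hf'.kill, map_zero]
    intro v
    exact LinearMap.congr_fun hXX v

end Cfsg.Agent.S2676P
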