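import Mathlib
import Cfsg.Prelude.Def_ClassicalGeometry
import Cfsg.Agent.Helper7.S2676Defs

/-! S2676 piece SKEW (helper7): basic identities for a skew-adjoint endomorphism. -/

set_option autoImplicit false

namespace Cfsg.Agent.S2676P

theorem skew_pow {F V : Type*} [Field F] [AddCommGroup V] [Module F V]
    (B : LinearMap.BilinForm F V) (X : Module.End F V) (hX : Skew B X) (i : ℕ) (u v : V) :
    B ((X ^ i) u) v = (-1) ^ i * B u ((X ^ i) v) := by
  induction i generalizing u v with
  | zero => simp
  | succ n ih =>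
    have e1 : (X ^ (n + 1)) u = (X ^ n) (X u) := by
      rw [pow_succ, Module.End.mul_apply]
    have e2 : (X ^ (n + 1)) v = X ((X ^ n) v) := by
      rw [pow_succ', Module.End.mul_apply]
    rw [e1, e2, ih, hX, pow_succ]
    ring

namespace SKEW

theorem antisymm {F V : Type*} [Field F] [AddCommGroup V] [Module F V]
    (B : LinearMap.BilinForm F V) (halt : ∀ v, B v v = 0) (u v : V) : B v u = - B u v := by
  have h := halt (u + v)
  rw [map_add, map_add, LinearMap.add_apply, LinearMap.add_apply, halt, halt] at h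
  have : B u v + B v u = 0 := by
    rw [← h]; ring
  exact eq_neg_of_add_eq_zero_right this

end SKEW

theorem pair_swap {F V : Type*} [Field F] [AddCommGroup V] [Module F V]
    (B : LinearMap.BilinForm F V) (halt : ∀ v, B v v = 0) (X : Module.End F V) (hX : Skew B X)
    (k : ℕ) (u v : V) : B v ((X ^ k) u) = (-1) ^ (k + 1) * B u ((X ^ k) v) := by
  rw [SKEW.antisymm B halt ((X ^ k) u) v, skew_pow B X hX, pow_succ]
  ring

theorem pair_self_even {F V : Type*} [Field F] [AddCommGroup V] [Module F V] (h2 : (2 : F) ≠ 0)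
    (B : LinearMap.BilinForm F V) (halt : ∀ v, B v v = 0) (X : Module.End F V) (hX : Skew B X)
    (k : ℕ) (hk : Even k) (v : V) : B v ((X ^ k) v) = 0 := by
  have h := pair_swap B halt X hX k v v
  rw [pow_succ, hk.neg_one_pow] at h
  have h' : (2 : F) * B v ((X ^ k) v) = 0 := by
    linear_combination h
  exact (mul_eq_zero.mp h').resolve_left h2

theorem skew_orthogonal_invariant {F V : Type*} [Field F] [AddCommGroup V] [Module F V]
    (B : LinearMap.BilinForm F V) (X : Module.End F V) (hX : Skew B X) (E : Submodule F V)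
    (hE : ∀ v ∈ E, X v ∈ E) : ∀ v ∈ B.orthogonal E, X v ∈ B.orthogonal E := by
  intro v hv
  rw [LinearMap.BilinForm.mem_orthogonal_iff] at hv ⊢
  intro n hn
  have h1 : B (X n) v = 0 := hv (X n) (hE n hn)
  show B n (X v) = 0
  have h2 := hX n v
  rw [h1] at h2
  exact neg_eq_zero.mp h2.symm

end Cfsg.Agent.S2676P
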