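import Mathlib
import Cfsg.Prelude.Def_ClassicalGeometry
import Cfsg.Agent.Helper7.S2676Defs
import Cfsg.Agent.Helper7.S2676SKEW

/-! S2676 piece FRAMESYMM (helper7): the symmetry of the Gram data of a frame. -/

set_option autoImplicit false

namespace Cfsg.Agent.S2676P

theorem frame_symm {F V : Type*} [Field F] [AddCommGroup V] [Module F V] {ι : Type}
    [Fintype ι] [DecidableEq ι] (B : LinearMap.BilinForm F V) (halt : ∀ v, B v v = 0)
    (X : Module.End F V) (hX : Skew B X) (W : Submodule F V) (a : ι → ℕ) (K : Matrix ι ι F)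
    (g : ι → V) (hf : IsFrame B X W a K g) :
    ∀ j j', K j' j = (-1) ^ (a j) * K j j' := by
  intro j j'
  by_cases h : a j = a j'
  · have hs : a j - 1 + 1 = a j := Nat.sub_add_cancel (hf.pos j)
    have h1 := hf.gram j j' 0 (a j - 1)
    have h2 := hf.gram j' j 0 (a j - 1)
    rw [if_pos (by omega), pow_zero, pow_zero, one_mul] at h1
    rw [if_pos (by omega), pow_zero, pow_zero, one_mul] at h2
    have h3 := pair_swap B halt X hX (a j - 1) (g j) (g j')
    rw [hs] at h3
    simp only [Module.End.one_apply] at h1 h2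
    rw [← h1, ← h2, h3]
  · rw [hf.offdiag j' j (Ne.symm h), hf.offdiag j j' h, mul_zero]

end Cfsg.Agent.S2676P
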