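import Mathlib
import Cfsg.Prelude.Def_ClassicalGeometry
import Cfsg.Agent.Helper7.S2676Defs

/-! S2676 piece REINDEX (helper7): reindexing frames. -/

set_option autoImplicit false

namespace Cfsg.Agent.S2676P

namespace REINDEX

theorem count_map_univ {ι : Type} [Fintype ι] (a : ι → ℕ) (s : ℕ) :
    Multiset.count s (Multiset.map a Finset.univ.val) = Fintype.card {j // a j = s} := by
  classical
  rw [Multiset.count_map, Fintype.card_subtype]
  rw [← Finset.filter_val, Finset.card_def]
  congr 2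
  ext j
  simp [eq_comm]

end REINDEX

theorem exists_equiv_of_map_eq {ι ι' : Type} [Fintype ι] [Fintype ι'] (a : ι → ℕ)
    (a' : ι' → ℕ) (h : Multiset.map a Finset.univ.val = Multiset.map a' Finset.univ.val) :
    ∃ e : ι ≃ ι', ∀ j, a' (e j) = a j := by
  classical
  have hcard : ∀ s : ℕ, Fintype.card {j // a j = s} = Fintype.card {j // a' j = s} := by
    intro s
    rw [← REINDEX.count_map_univ, ← REINDEX.count_map_univ, h]
  let es : ∀ s : ℕ, {j // a j = s} ≃ {j // a' j = s} := fun s => Fintype.equivOfCardEq (hcard s)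
  let e : ι ≃ ι' := ((Equiv.sigmaFiberEquiv a).symm.trans (Equiv.sigmaCongrRight es)).trans
    (Equiv.sigmaFiberEquiv a')
  refine ⟨e, fun j => ?_⟩
  show a' ((es (a j) ⟨j, rfl⟩ : {j' // a' j' = a j}) : ι') = a j
  exact (es (a j) ⟨j, rfl⟩).2

theorem frame_reindex {F V : Type*} [Field F] [AddCommGroup V] [Module F V] {ι ι' : Type}
    [Fintype ι] [DecidableEq ι] [Fintype ι'] [DecidableEq ι'] (B : LinearMap.BilinForm F V)
    (X : Module.End F V) (W : Submodule F V) (a' : ι' → ℕ) (K' : Matrix ι' ι' F) (g' : ι' → V)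
    (hf' : IsFrame B X W a' K' g') (e : ι ≃ ι') :
    IsFrame B X W (a' ∘ e) (K'.submatrix e e) (g' ∘ e) ∧
      ∀ s : ℕ, ((K'.submatrix e e).toSquareBlock (a' ∘ e) s).det =
        (K'.toSquareBlock a' s).det := by
  have hdet : ∀ s : ℕ, ((K'.submatrix e e).toSquareBlock (a' ∘ e) s).det =
      (K'.toSquareBlock a' s).det := by
    intro s
    let E : {j // (a' ∘ e) j = s} ≃ {j' // a' j' = s} :=
      e.subtypeEquiv (fun j => Iff.rfl)
    have hsub : (K'.submatrix e e).toSquareBlock (a' ∘ e) s =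
        (K'.toSquareBlock a' s).submatrix E E := by
      ext x y
      rfl
    rw [hsub, Matrix.det_submatrix_equiv_self]
  refine ⟨?_, hdet⟩
  refine
    { pos := fun j => hf'.pos (e j)
      kill := fun j => hf'.kill (e j)
      gram := fun j j' i l => hf'.gram (e j) (e j') i l
      span := ?_
      offdiag := fun j j' h => hf'.offdiag (e j) (e j') h
      unit := fun s => by rw [hdet s]; exact hf'.unit s }
  have hr : Set.range (fvec X (a' ∘ e) (g' ∘ e)) = Set.range (fvec X a' g') := by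
    ext v
    constructor
    · rintro ⟨⟨j, i⟩, rfl⟩
      exact ⟨⟨e j, i⟩, rfl⟩
    · rintro ⟨⟨j', i⟩, rfl⟩
      obtain ⟨j, rfl⟩ := e.surjective j'
      exact ⟨⟨j, i⟩, rfl⟩
  rw [hr, hf'.span]

end Cfsg.Agent.S2676P
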