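import Mathlib
import Cfsg.Prelude.Def_ClassicalGeometry
import Cfsg.Agent.Helper7.S2676Defs
import Cfsg.Agent.Helper7.S2676FRAMESYMM
import Cfsg.Agent.Helper7.S2676REINDEX
import Cfsg.Agent.Helper7.S2676FRAMEISO
import Cfsg.Agent.Helper24.S2676SYMCONG
import Cfsg.Agent.Helper24.S2676ALTCONG
import Cfsg.Agent.Helper24.S2676BLOCKASM
import Cfsg.Agent.Helper24.S2676REGEN

/-! S2676 piece ISOTYPE (helper7): frames of the same type give isomorphic pairs. -/

set_option autoImplicit false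

namespace Cfsg.Agent.S2676P

open Cfsg.Agent.Helper2.SympInvol Cfsg.Agent.Helper2.SympUnits Cfsg.Agent.S5961P Cfsg.Agent.S5956P

namespace ISOTYPE

variable {F V : Type*} [Field F] [AddCommGroup V] [Module F V] {ι : Type}
    [Fintype ι] [DecidableEq ι]

/-- the blockwise congruences between two frames with the same sizes and square classes -/
theorem exists_block_cong [Fintype F] (h2 : (2 : F) ≠ 0) (a : ι → ℕ) (K K'' : Matrix ι ι F)
    (hsK : ∀ j j', K j' j = (-1) ^ (a j) * K j j')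
    (hsK'' : ∀ j j', K'' j' j = (-1) ^ (a j) * K'' j j')
    (hu : ∀ s : ℕ, IsUnit (K.toSquareBlock a s).det)
    (hu'' : ∀ s : ℕ, IsUnit (K''.toSquareBlock a s).det)
    (hε : ∀ s : ℕ, Even s →
      (IsSquare (K.toSquareBlock a s).det ↔ IsSquare (K''.toSquareBlock a s).det)) (s : ℕ) :
    ∃ Q Q' : Matrix {j // a j = s} {j // a j = s} F, Q' * Q = 1 ∧
      K.toSquareBlock a s = Q * K''.toSquareBlock a s * Q.transpose := by
  rcases Nat.even_or_odd s with hs | hs
  · refine sym_cong h2 _ _ ?_ ?_ (hu s) (hu'' s) (hε s hs)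
    · ext ⟨x, hx⟩ ⟨y, hy⟩
      show K y x = K x y
      rw [hsK x y, hx, hs.neg_one_pow, one_mul]
    · ext ⟨x, hx⟩ ⟨y, hy⟩
      show K'' y x = K'' x y
      rw [hsK'' x y, hx, hs.neg_one_pow, one_mul]
  · have hdiag : ∀ (M : Matrix ι ι F), (∀ j j', M j' j = (-1) ^ (a j) * M j j') →
        ∀ x : {j // a j = s}, M x.1 x.1 = 0 := by
      rintro M hM ⟨x, hx⟩
      have h := hM x x
      rw [hx, hs.neg_one_pow] at h
      have h' : (2 : F) * M x x = 0 := by linear_combination h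
      exact (mul_eq_zero.mp h').resolve_left h2
    refine alt_cong _ _ ?_ ?_ (fun x => hdiag K hsK x) (fun x => hdiag K'' hsK'' x) (hu s)
      (hu'' s)
    · ext ⟨x, hx⟩ ⟨y, hy⟩
      show K y x = -K x y
      rw [hsK x y, hx, hs.neg_one_pow, neg_one_mul]
    · ext ⟨x, hx⟩ ⟨y, hy⟩
      show K'' y x = -K'' x y
      rw [hsK'' x y, hx, hs.neg_one_pow, neg_one_mul]

/-- the case of a common index type and common sizes -/
theorem iso_same_index {V' : Type*} [AddCommGroup V'] [Module F V'] [Fintype F]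
    (h2 : (2 : F) ≠ 0) (B : LinearMap.BilinForm F V)
    (halt : ∀ v, B v v = 0) (X : Module.End F V) (hX : Skew B X)
    (B' : LinearMap.BilinForm F V') (halt' : ∀ v, B' v v = 0) (X' : Module.End F V')
    (hX' : Skew B' X') (a : ι → ℕ) (K : Matrix ι ι F) (g : ι → V)
    (K'' : Matrix ι ι F) (g'' : ι → V') (hf : IsFrame B X ⊤ a K g)
    (hf'' : IsFrame B' X' ⊤ a K'' g'')
    (hε : ∀ s : ℕ, Even s →
      (IsSquare (K.toSquareBlock a s).det ↔ IsSquare (K''.toSquareBlock a s).det)) :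
    ∃ φ : V ≃ₗ[F] V', (∀ u v, B' (φ u) (φ v) = B u v) ∧ (∀ v, φ (X v) = X' (φ v)) := by
  have hsK := frame_symm B halt X hX ⊤ a K g hf
  have hsK'' := frame_symm B' halt' X' hX' ⊤ a K'' g'' hf''
  obtain ⟨Q, Q', hQ, hQ', hK⟩ := block_assemble a K K'' hf.offdiag hf''.offdiag
    (exists_block_cong h2 a K K'' hsK hsK'' hf.unit hf''.unit hε)
  have hf3 := frame_regen B' X' ⊤ a K'' g'' hf'' Q Q' hQ hQ' K hK hf.unit
  exact frame_iso B X B' X' a K g _ hf hf3

end ISOTYPE

open ISOTYPE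

theorem iso_of_same_type {F V V' : Type*} [Field F] [Fintype F] [AddCommGroup V] [Module F V]
    [AddCommGroup V'] [Module F V'] (h2 : (2 : F) ≠ 0) {ι ι' : Type} [Fintype ι]
    [DecidableEq ι] [Fintype ι'] [DecidableEq ι'] (B : LinearMap.BilinForm F V)
    (halt : ∀ v, B v v = 0) (X : Module.End F V) (hX : Skew B X)
    (B' : LinearMap.BilinForm F V') (halt' : ∀ v, B' v v = 0) (X' : Module.End F V')
    (hX' : Skew B' X') (a : ι → ℕ) (K : Matrix ι ι F) (g : ι → V) (a' : ι' → ℕ)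
    (K' : Matrix ι' ι' F) (g' : ι' → V') (hf : IsFrame B X ⊤ a K g)
    (hf' : IsFrame B' X' ⊤ a' K' g')
    (hμ : Multiset.map a Finset.univ.val = Multiset.map a' Finset.univ.val)
    (hε : ∀ s : ℕ, Even s →
      (IsSquare (K.toSquareBlock a s).det ↔ IsSquare (K'.toSquareBlock a' s).det)) :
    ∃ φ : V ≃ₗ[F] V', (∀ u v, B' (φ u) (φ v) = B u v) ∧ (∀ v, φ (X v) = X' (φ v)) := by
  obtain ⟨e, he⟩ := exists_equiv_of_map_eq a a' hμ
  obtain ⟨hf'', hdet⟩ := frame_reindex B' X' ⊤ a' K' g' hf' e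
  have ha : a' ∘ e = a := funext he
  subst ha
  refine iso_same_index h2 B halt X hX B' halt' X' hX' (a' ∘ e) K g (K'.submatrix e e) (g' ∘ e)
    hf hf'' ?_
  intro s hs
  rw [hdet s]
  exact hε s hs

end Cfsg.Agent.S2676P
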