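import Mathlib
import Cfsg.Prelude.Def_ClassicalGeometry
import Cfsg.Agent.Helper7.S2676Defs
import Cfsg.Agent.Helper7.S2676SKEW

/-! S2676 piece BLOCKS (helper7): the frames of a cyclic block and of a hyperbolic pair. -/

set_option autoImplicit false

namespace Cfsg.Agent.S2676P

namespace BLOCKS

variable {F V : Type*} [Field F] [AddCommGroup V] [Module F V]

theorem pair_pow (B : LinearMap.BilinForm F V) (X : Module.End F V) (hX : Skew B X)
    (i l : ℕ) (u v : V) : B ((X ^ i) u) ((X ^ l) v) = (-1) ^ i * B u ((X ^ (i + l)) v) := by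
  rw [skew_pow B X hX, pow_add, Module.End.mul_apply]

/-- determinant of a constant-size block: the full matrix if `e = s`, empty otherwise -/
theorem unit_block_const {ι : Type} [Fintype ι] [DecidableEq ι] (K : Matrix ι ι F) (e : ℕ)
    (hK : IsUnit K.det) (s : ℕ) : IsUnit (K.toSquareBlock (fun _ : ι => e) s).det := by
  by_cases h : e = s
  · have hsub : K.toSquareBlock (fun _ : ι => e) s =
        K.submatrix (Equiv.subtypeUnivEquiv (p := fun _ : ι => e = s) (fun _ => h))
          (Equiv.subtypeUnivEquiv (p := fun _ : ι => e = s) (fun _ => h)) := by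
      ext i j
      rfl
    rw [hsub, Matrix.det_submatrix_equiv_self]
    exact hK
  · have : IsEmpty {j : ι // (fun _ : ι => e) j = s} := ⟨fun x => h x.2⟩
    rw [Matrix.det_isEmpty]
    exact isUnit_one

end BLOCKS

open BLOCKS

theorem block_even {F V : Type*} [Field F] [AddCommGroup V] [Module F V]
    (B : LinearMap.BilinForm F V) (halt : ∀ v, B v v = 0) (X : Module.End F V) (hX : Skew B X)
    (e : ℕ) (he : 0 < e) (w : V) (hw : (X ^ e) w = 0) (c : F) (hc : c ≠ 0)
    (hgram : ∀ k : ℕ, B w ((X ^ k) w) = if k + 1 = e then c else 0) :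
    IsFrame B X (Submodule.span F (Set.range (fvec X (fun _ : Unit => e) (fun _ => w))))
      (fun _ : Unit => e) (Matrix.of fun _ _ => c) (fun _ => w) where
  pos _ := he
  kill _ := hw
  gram j j' i l := by
    rw [pair_pow B X hX, hgram, Matrix.of_apply]
    split_ifs <;> simp
  span := rfl
  offdiag j j' h := absurd rfl h
  unit s := by
    apply unit_block_const
    rw [Matrix.det_unique, Matrix.of_apply]
    exact isUnit_iff_ne_zero.mpr hc

theorem block_odd {F V : Type*} [Field F] [AddCommGroup V] [Module F V]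
    (B : LinearMap.BilinForm F V) (halt : ∀ v, B v v = 0) (X : Module.End F V) (hX : Skew B X)
    (e : ℕ) (he : Odd e) (a b : V) (ha : (X ^ e) a = 0) (hb : (X ^ e) b = 0)
    (haa : ∀ k : ℕ, B a ((X ^ k) a) = 0) (hbb : ∀ k : ℕ, B b ((X ^ k) b) = 0)
    (hab : ∀ k : ℕ, B a ((X ^ k) b) = if k + 1 = e then 1 else 0) :
    IsFrame B X (Submodule.span F (Set.range (fvec X (fun _ : Fin 2 => e) ![a, b])))
      (fun _ : Fin 2 => e) !![0, 1; -1, 0] ![a, b] where
  pos _ := he.pos
  kill j := by
    fin_cases j
    · exact ha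
    · exact hb
  gram j j' i l := by
    fin_cases j <;> fin_cases j'
    · simp only [Fin.zero_eta, Fin.isValue, Matrix.cons_val_zero, Matrix.of_apply,
        Matrix.cons_val', Matrix.cons_val_fin_one]
      rw [pair_pow B X hX, haa]
      simp
    · simp only [Fin.zero_eta, Fin.isValue, Matrix.cons_val_zero, Fin.mk_one, Matrix.cons_val_one,
        Matrix.of_apply, Matrix.cons_val', Matrix.cons_val_fin_one]
      rw [pair_pow B X hX, hab]
      split_ifs <;> simp
    · simp only [Fin.mk_one, Fin.isValue, Matrix.cons_val_one, Fin.zero_eta, Matrix.cons_val_zero,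
        Matrix.of_apply, Matrix.cons_val', Matrix.cons_val_fin_one]
      rw [pair_pow B X hX, pair_swap B halt X hX (i + l) a b, hab]
      split_ifs with h
      · rw [h, he.neg_one_pow]
        ring
      · simp
    · simp only [Fin.mk_one, Fin.isValue, Matrix.cons_val_one, Matrix.of_apply,
        Matrix.cons_val', Matrix.cons_val_fin_one]
      rw [pair_pow B X hX, hbb]
      simp
  span := rfl
  offdiag j j' h := absurd rfl h
  unit s := by
    apply unit_block_const
    rw [Matrix.det_fin_two_of]
    simp

end Cfsg.Agent.S2676P
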