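import Mathlib
import Cfsg.Prelude.Def_ClassicalGeometry
import Cfsg.Agent.Helper7.S2676Defs
import Cfsg.Agent.Helper7.S2676SKEW
import Cfsg.Agent.Helper10.S5961ORTHC

/-! S2676 piece COMPL (helper7): the orthogonal complement of a nondegenerate invariant subspace
inside a nondegenerate invariant subspace. -/

set_option autoImplicit false

namespace Cfsg.Agent.S2676P

open Cfsg.Agent.Helper2.SympInvol Cfsg.Agent.Helper2.SympUnits Cfsg.Agent.S5961P Cfsg.Agent.S5956P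

theorem compl_props {F V : Type*} [Field F] [AddCommGroup V] [Module F V]
    [FiniteDimensional F V] (B : LinearMap.BilinForm F V) (halt : ∀ v, B v v = 0)
    (X : Module.End F V) (hX : Skew B X) (W E : Submodule F V) (hEW : E ≤ W)
    (hW : Nondeg B W) (hE : Nondeg B E) (hWX : ∀ v ∈ W, X v ∈ W) (hEX : ∀ v ∈ E, X v ∈ E) :
    (∀ v ∈ W ⊓ B.orthogonal E, X v ∈ W ⊓ B.orthogonal E) ∧ Nondeg B (W ⊓ B.orthogonal E) ∧
      E ⊔ (W ⊓ B.orthogonal E) = W ∧ Orth B E (W ⊓ B.orthogonal E) ∧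
      Orth B (W ⊓ B.orthogonal E) E ∧
      Module.finrank F ↥(W ⊓ B.orthogonal E) + Module.finrank F ↥E = Module.finrank F ↥W := by
  obtain ⟨hc, hO1, hO2, -, -, -⟩ := orth_compl B halt E hE
  have hsup : E ⊔ (W ⊓ B.orthogonal E) = W := by
    rw [inf_comm, ← sup_inf_assoc_of_le _ hEW, hc.sup_eq_top, top_inf_eq]
  have hO1' : Orth B E (W ⊓ B.orthogonal E) := fun u hu v hv => hO1 u hu v hv.2
  have hO2' : Orth B (W ⊓ B.orthogonal E) E := fun u hu v hv => hO2 u hu.2 v hv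
  refine ⟨?_, ?_, hsup, hO1', hO2', ?_⟩
  · intro v hv
    exact ⟨hWX v hv.1, skew_orthogonal_invariant B X hX E hEX v hv.2⟩
  · intro m hm hm0
    obtain ⟨v, hv, hmv⟩ := hW m hm.1 hm0
    rw [← hsup] at hv
    obtain ⟨e, he, f, hf, rfl⟩ := Submodule.mem_sup.mp hv
    refine ⟨f, hf, ?_⟩
    rw [map_add, hO2' m hm e he, zero_add] at hmv
    exact hmv
  · have h1 := Submodule.finrank_sup_add_finrank_inf_eq E (W ⊓ B.orthogonal E)
    have h2 : E ⊓ (W ⊓ B.orthogonal E) = ⊥ := by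
      apply le_bot_iff.mp
      calc E ⊓ (W ⊓ B.orthogonal E) ≤ E ⊓ B.orthogonal E := inf_le_inf_left _ inf_le_right
        _ = ⊥ := hc.inf_eq_bot
    rw [hsup, h2, finrank_bot] at h1
    omega

end Cfsg.Agent.S2676P
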