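import Mathlib
import Cfsg.Prelude.Def_ClassicalGeometry
import Cfsg.Agent.Helper7.S2676Defs

/-! S2676 piece FRAMESUM (helper7): gluing the frames of two mutually orthogonal subspaces. -/

set_option autoImplicit false

namespace Cfsg.Agent.S2676P

open Cfsg.Agent.Helper2.SympInvol Cfsg.Agent.Helper2.SympUnits Cfsg.Agent.S5961P Cfsg.Agent.S5956P

namespace FRAMESUM

variable {F V : Type*} [Field F] [AddCommGroup V] [Module F V]

/-- all the vectors `X^i g_j` lie in the span of a frame -/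
theorem pow_mem {ι : Type} [Fintype ι] [DecidableEq ι] (B : LinearMap.BilinForm F V)
    (X : Module.End F V) (W : Submodule F V) (a : ι → ℕ) (K : Matrix ι ι F) (g : ι → V)
    (hf : IsFrame B X W a K g) (i : ℕ) (j : ι) : (X ^ i) (g j) ∈ W := by
  by_cases h : i < a j
  · rw [← hf.span]
    exact Submodule.subset_span ⟨⟨j, ⟨i, h⟩⟩, rfl⟩
  · have : i = (i - a j) + a j := by omega
    rw [this, pow_add, Module.End.mul_apply, hf.kill, map_zero]
    exact W.zero_mem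

theorem det_block_sum {ι₁ ι₂ : Type} [Fintype ι₁] [DecidableEq ι₁] [Fintype ι₂] [DecidableEq ι₂]
    (a₁ : ι₁ → ℕ) (K₁ : Matrix ι₁ ι₁ F) (a₂ : ι₂ → ℕ) (K₂ : Matrix ι₂ ι₂ F) (s : ℕ) :
    ((Matrix.fromBlocks K₁ 0 0 K₂).toSquareBlock (Sum.elim a₁ a₂) s).det =
      (K₁.toSquareBlock a₁ s).det * (K₂.toSquareBlock a₂ s).det := by
  let e : {j : ι₁ ⊕ ι₂ // Sum.elim a₁ a₂ j = s} ≃ {j // a₁ j = s} ⊕ {j // a₂ j = s} :=
    Equiv.subtypeSum
  have hsub : (Matrix.fromBlocks K₁ 0 0 K₂).toSquareBlock (Sum.elim a₁ a₂) s =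
      (Matrix.fromBlocks (K₁.toSquareBlock a₁ s) 0 0 (K₂.toSquareBlock a₂ s)).submatrix e e := by
    ext ⟨x, hx⟩ ⟨y, hy⟩
    rcases x with x | x <;> rcases y with y | y <;> rfl
  rw [hsub, Matrix.det_submatrix_equiv_self, Matrix.det_fromBlocks_zero₂₁]

end FRAMESUM

open FRAMESUM

theorem frame_sum {F V : Type*} [Field F] [AddCommGroup V] [Module F V] {ι₁ ι₂ : Type}
    [Fintype ι₁] [DecidableEq ι₁] [Fintype ι₂] [DecidableEq ι₂] (B : LinearMap.BilinForm F V)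
    (X : Module.End F V) (W₁ W₂ : Submodule F V) (hO : Orth B W₁ W₂) (hO' : Orth B W₂ W₁)
    (a₁ : ι₁ → ℕ) (K₁ : Matrix ι₁ ι₁ F) (g₁ : ι₁ → V) (a₂ : ι₂ → ℕ) (K₂ : Matrix ι₂ ι₂ F)
    (g₂ : ι₂ → V) (h₁ : IsFrame B X W₁ a₁ K₁ g₁) (h₂ : IsFrame B X W₂ a₂ K₂ g₂) :
    IsFrame B X (W₁ ⊔ W₂) (Sum.elim a₁ a₂) (Matrix.fromBlocks K₁ 0 0 K₂) (Sum.elim g₁ g₂) where
  pos j := by
    rcases j with j | j
    · exact h₁.pos j
    · exact h₂.pos j
  kill j := by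
    rcases j with j | j
    · exact h₁.kill j
    · exact h₂.kill j
  gram j j' i l := by
    rcases j with j | j <;> rcases j' with j' | j'
    · exact h₁.gram j j' i l
    · show B ((X ^ i) (g₁ j)) ((X ^ l) (g₂ j')) = _
      rw [hO _ (pow_mem B X W₁ a₁ K₁ g₁ h₁ i j) _ (pow_mem B X W₂ a₂ K₂ g₂ h₂ l j')]
      simp
    · show B ((X ^ i) (g₂ j)) ((X ^ l) (g₁ j')) = _
      rw [hO' _ (pow_mem B X W₂ a₂ K₂ g₂ h₂ i j) _ (pow_mem B X W₁ a₁ K₁ g₁ h₁ l j')]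
      simp
    · exact h₂.gram j j' i l
  span := by
    have hr : Set.range (fvec X (Sum.elim a₁ a₂) (Sum.elim g₁ g₂)) =
        Set.range (fvec X a₁ g₁) ∪ Set.range (fvec X a₂ g₂) := by
      ext v
      constructor
      · rintro ⟨⟨j, i⟩, rfl⟩
        rcases j with j | j
        · exact Or.inl ⟨⟨j, i⟩, rfl⟩
        · exact Or.inr ⟨⟨j, i⟩, rfl⟩
      · rintro (⟨⟨j, i⟩, rfl⟩ | ⟨⟨j, i⟩, rfl⟩)
        · exact ⟨⟨Sum.inl j, i⟩, rfl⟩
        · exact ⟨⟨Sum.inr j, i⟩, rfl⟩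
    rw [hr, Submodule.span_union, h₁.span, h₂.span]
  offdiag j j' h := by
    rcases j with j | j <;> rcases j' with j' | j'
    · exact h₁.offdiag j j' h
    · rfl
    · rfl
    · exact h₂.offdiag j j' h
  unit s := by
    rw [det_block_sum]
    exact (h₁.unit s).mul (h₂.unit s)

end Cfsg.Agent.S2676P
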