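import Mathlib
import Cfsg.Prelude.Def_ClassicalGeometry
import Cfsg.Agent.Helper7.S2676Defs
import Cfsg.Agent.Helper7.S2676SKEW

/-! S2676 piece TOPVEC (helper7): vectors on which the top form does not vanish. -/

set_option autoImplicit false

namespace Cfsg.Agent.S2676P

open Cfsg.Agent.Helper2.SympInvol Cfsg.Agent.Helper2.SympUnits Cfsg.Agent.S5961P Cfsg.Agent.S5956P

namespace TOPVEC

theorem pow_mem {F V : Type*} [Field F] [AddCommGroup V] [Module F V] (X : Module.End F V)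
    (W : Submodule F V) (hWX : ∀ v ∈ W, X v ∈ W) (n : ℕ) : ∀ v ∈ W, (X ^ n) v ∈ W := by
  induction n with
  | zero => intro v hv; simpa using hv
  | succ n ih =>
    intro v hv
    rw [pow_succ', Module.End.mul_apply]
    exact hWX _ (ih v hv)

end TOPVEC

theorem exists_top_vectors {F V : Type*} [Field F] [AddCommGroup V] [Module F V]
    (h2 : (2 : F) ≠ 0) (B : LinearMap.BilinForm F V) (halt : ∀ v, B v v = 0)
    (X : Module.End F V) (hX : Skew B X) (W : Submodule F V) (hW : Nondeg B W)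
    (hWX : ∀ v ∈ W, X v ∈ W) (e : ℕ) (he : 0 < e) (hnil : ∀ v ∈ W, (X ^ e) v = 0)
    (hne : ∃ v ∈ W, (X ^ (e - 1)) v ≠ 0) :
    (Even e → ∃ v ∈ W, B v ((X ^ (e - 1)) v) ≠ 0) ∧
      (Odd e → ∃ a ∈ W, ∃ b ∈ W, B a ((X ^ (e - 1)) b) ≠ 0) := by
  obtain ⟨v₀, hv₀, hv₀ne⟩ := hne
  obtain ⟨u, hu, hub⟩ := hW _ (TOPVEC.pow_mem X W hWX (e - 1) v₀ hv₀) hv₀ne
  have huv : B u ((X ^ (e - 1)) v₀) ≠ 0 := by
    rw [SKEW.antisymm B halt]
    exact neg_ne_zero.mpr hub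
  refine ⟨fun hev => ?_, fun _ => ⟨u, hu, v₀, hv₀, huv⟩⟩
  have hsw : B v₀ ((X ^ (e - 1)) u) = B u ((X ^ (e - 1)) v₀) := by
    rw [pair_swap B halt X hX (e - 1) u v₀, Nat.sub_add_cancel he, hev.neg_one_pow, one_mul]
  by_cases h1 : B u ((X ^ (e - 1)) u) = 0
  · by_cases h3 : B v₀ ((X ^ (e - 1)) v₀) = 0
    · refine ⟨u + v₀, W.add_mem hu hv₀, ?_⟩
      rw [map_add, map_add, LinearMap.add_apply, map_add, map_add, h1, h3, hsw]
      intro h
      apply huv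
      have : (2 : F) * B u ((X ^ (e - 1)) v₀) = 0 := by linear_combination h
      exact (mul_eq_zero.mp this).resolve_left h2
    · exact ⟨v₀, hv₀, h3⟩
  · exact ⟨u, hu, h1⟩

end Cfsg.Agent.S2676P
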