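import Mathlib
import Cfsg.Prelude.Def_ClassicalGeometry
import Cfsg.Agent.Helper7.S2676Defs
import Cfsg.Agent.Helper7.S2676SKEW
import Cfsg.Agent.Helper7.S2676TOPVEC
import Cfsg.Agent.Helper7.S2676BLOCKS
import Cfsg.Agent.Helper7.S2676FRAMEND
import Cfsg.Agent.Helper7.S2676COMPL
import Cfsg.Agent.Helper7.S2676FRAMESUM
import Cfsg.Agent.Helper19.S2676NFEVEN
import Cfsg.Agent.Helper19.S2676NFODDB

/-! S2676 piece STRUCT (helper7): existence of frames, by induction on the dimension. -/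

set_option autoImplicit false

namespace Cfsg.Agent.S2676P

open Cfsg.Agent.Helper2.SympInvol Cfsg.Agent.Helper2.SympUnits Cfsg.Agent.S5961P Cfsg.Agent.S5956P

namespace STRUCT

variable {F V : Type*} [Field F] [AddCommGroup V] [Module F V]

/-- the span of a frame is `X`-invariant -/
theorem frame_invariant {ι : Type} [Fintype ι] [DecidableEq ι] (B : LinearMap.BilinForm F V)
    (X : Module.End F V) (W : Submodule F V) (a : ι → ℕ) (K : Matrix ι ι F) (g : ι → V)
    (hf : IsFrame B X W a K g) : ∀ v ∈ W, X v ∈ W := by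
  intro v hv
  rw [← hf.span] at hv
  induction hv using Submodule.span_induction with
  | mem x hx =>
    obtain ⟨⟨j, i⟩, rfl⟩ := hx
    rw [fvec_mk, ← Module.End.mul_apply, ← pow_succ']
    exact FRAMESUM.pow_mem B X W a K g hf _ j
  | zero => rw [map_zero]; exact W.zero_mem
  | add x y _ _ hx hy => rw [map_add]; exact W.add_mem hx hy
  | smul c x _ hx => rw [map_smul]; exact W.smul_mem c hx

/-- the empty frame of the zero subspace -/
theorem frame_bot (B : LinearMap.BilinForm F V) (X : Module.End F V) :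
    IsFrame B X ⊥ (fun _ : Empty => 0) (0 : Matrix Empty Empty F) (fun j => j.elim) where
  pos j := j.elim
  kill j := j.elim
  gram j := j.elim
  span := by
    have : Set.range (fvec X (fun _ : Empty => 0) (fun j => (j.elim : V))) = ∅ := by
      ext v
      simp only [Set.mem_range, Set.mem_empty_iff_false, iff_false]
      rintro ⟨⟨j, _⟩, _⟩
      exact j.elim
    rw [this, Submodule.span_empty]
  offdiag j := j.elim
  unit s := by
    rw [Matrix.det_isEmpty]
    exact isUnit_one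

theorem card_sum_elim {ι₁ ι₂ : Type} [Fintype ι₁] [Fintype ι₂] (a₁ : ι₁ → ℕ) (a₂ : ι₂ → ℕ)
    (s : ℕ) : Fintype.card {j : ι₁ ⊕ ι₂ // Sum.elim a₁ a₂ j = s} =
      Fintype.card {j // a₁ j = s} + Fintype.card {j // a₂ j = s} := by
  rw [← Fintype.card_sum]
  exact Fintype.card_congr Equiv.subtypeSum

/-- the inductive step: split off a block `E` -/
theorem step [FiniteDimensional F V] (B : LinearMap.BilinForm F V) (halt : ∀ v, B v v = 0)
    (X : Module.End F V) (hX : Skew B X) (N : ℕ) (W : Submodule F V) (hW : Nondeg B W)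
    (hWX : ∀ v ∈ W, X v ∈ W) {ι₁ : Type} [Fintype ι₁] [DecidableEq ι₁] [Nonempty ι₁]
    (a₁ : ι₁ → ℕ) (K₁ : Matrix ι₁ ι₁ F) (g₁ : ι₁ → V) (E : Submodule F V)
    (hE : IsFrame B X E a₁ K₁ g₁) (hEW : E ≤ W) (hb₁ : ∀ j, a₁ j ≤ N)
    (hp₁ : ∀ s : ℕ, Odd s → Even (Fintype.card {j // a₁ j = s}))
    (ih : ∀ W' : Submodule F V, Module.finrank F ↥W' < Module.finrank F ↥W → Nondeg B W' →
      (∀ v ∈ W', X v ∈ W') →
      ∃ (ι : Type) (_ : Fintype ι) (_ : DecidableEq ι) (a : ι → ℕ) (K : Matrix ι ι F)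
        (g : ι → V), IsFrame B X W' a K g ∧ (∀ j, a j ≤ N) ∧
          ∀ s : ℕ, Odd s → Even (Fintype.card {j // a j = s})) :
    ∃ (ι : Type) (_ : Fintype ι) (_ : DecidableEq ι) (a : ι → ℕ) (K : Matrix ι ι F)
      (g : ι → V), IsFrame B X W a K g ∧ (∀ j, a j ≤ N) ∧
        ∀ s : ℕ, Odd s → Even (Fintype.card {j // a j = s}) := by
  obtain ⟨-, hEnd, hEdim⟩ := frame_nondeg B X E a₁ K₁ g₁ hE
  have hEX := frame_invariant B X E a₁ K₁ g₁ hE
  obtain ⟨hW'X, hW'nd, hsup, hO, hO', hdim⟩ := compl_props B halt X hX W E hEW hW hEnd hWX hEX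
  have hEpos : 0 < Module.finrank F ↥E := by
    rw [hEdim]
    obtain ⟨j₀⟩ := ‹Nonempty ι₁›
    exact lt_of_lt_of_le (hE.pos j₀) (Finset.single_le_sum (fun _ _ => Nat.zero_le _)
      (Finset.mem_univ j₀))
  obtain ⟨ι', _, _, a', K', g', hf', hb', hp'⟩ := ih (W ⊓ B.orthogonal E) (by omega) hW'nd hW'X
  refine ⟨ι₁ ⊕ ι', inferInstance, inferInstance, Sum.elim a₁ a', Matrix.fromBlocks K₁ 0 0 K',
    Sum.elim g₁ g', ?_, ?_, ?_⟩
  · have := frame_sum B X E (W ⊓ B.orthogonal E) hO hO' a₁ K₁ g₁ a' K' g' hE hf'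
    rwa [hsup] at this
  · rintro (j | j)
    · exact hb₁ j
    · exact hb' j
  · intro s hs
    rw [card_sum_elim]
    exact (hp₁ s hs).add (hp' s hs)

end STRUCT

open STRUCT

theorem exists_frame {F V : Type*} [Field F] [AddCommGroup V] [Module F V]
    [FiniteDimensional F V] (h2 : (2 : F) ≠ 0) (B : LinearMap.BilinForm F V)
    (halt : ∀ v, B v v = 0) (X : Module.End F V) (hX : Skew B X) (N : ℕ) (hN : X ^ N = 0)
    (W : Submodule F V) (hW : Nondeg B W) (hWX : ∀ v ∈ W, X v ∈ W) :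
    ∃ (ι : Type) (_ : Fintype ι) (_ : DecidableEq ι) (a : ι → ℕ) (K : Matrix ι ι F)
      (g : ι → V), IsFrame B X W a K g ∧ (∀ j, a j ≤ N) ∧
        ∀ s : ℕ, Odd s → Even (Fintype.card {j // a j = s}) := by
  induction' hn : Module.finrank F ↥W using Nat.strong_induction_on with n ih generalizing W
  by_cases hbot : W = ⊥
  · subst hbot
    refine ⟨Empty, inferInstance, inferInstance, _, _, _, frame_bot B X, fun j => j.elim, ?_⟩
    intro s _
    simp
  -- the nilpotency index on `W`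
  have hex : ∃ e : ℕ, ∀ v ∈ W, (X ^ e) v = 0 := ⟨N, fun v _ => by rw [hN]; rfl⟩
  classical
  set e := Nat.find hex with he_def
  have hnil : ∀ v ∈ W, (X ^ e) v = 0 := Nat.find_spec hex
  have heN : e ≤ N := Nat.find_min' hex (fun v _ => by rw [hN]; rfl)
  have he0 : 0 < e := by
    rcases Nat.eq_zero_or_pos e with h0 | h0
    · exfalso
      apply hbot
      rw [eq_bot_iff]
      intro v hv
      have := hnil v hv
      rw [h0, pow_zero] at this
      exact (Submodule.mem_bot F).mpr this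
    · exact h0
  have hne : ∃ v ∈ W, (X ^ (e - 1)) v ≠ 0 := by
    by_contra hcon
    have hall : ∀ v ∈ W, (X ^ (e - 1)) v = 0 := by
      intro v hv
      by_contra hv0
      exact hcon ⟨v, hv, hv0⟩
    have := Nat.find_min' hex hall
    omega
  obtain ⟨htopE, htopO⟩ := exists_top_vectors h2 B halt X hX W hW hWX e he0 hnil hne
  have ih' : ∀ W' : Submodule F V, Module.finrank F ↥W' < Module.finrank F ↥W → Nondeg B W' →
      (∀ v ∈ W', X v ∈ W') →
      ∃ (ι : Type) (_ : Fintype ι) (_ : DecidableEq ι) (a : ι → ℕ) (K : Matrix ι ι F)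
        (g : ι → V), IsFrame B X W' a K g ∧ (∀ j, a j ≤ N) ∧
          ∀ s : ℕ, Odd s → Even (Fintype.card {j // a j = s}) := by
    intro W' hlt hnd hinv
    exact ih _ (hn ▸ hlt) W' hnd hinv rfl
  have hpowW : ∀ (i : ℕ) (v : V), v ∈ W → (X ^ i) v ∈ W :=
    fun i v hv => TOPVEC.pow_mem X W hWX i v hv
  rcases Nat.even_or_odd e with hev | hod
  · -- a cyclic block
    obtain ⟨v, hvW, hvc⟩ := htopE hev
    obtain ⟨w, hwspan, hwe, hwc, hwk⟩ := nf_even h2 B halt X hX e v (hnil v hvW) hvc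
    have hwW : w ∈ W := by
      refine (Submodule.span_le.mpr ?_) hwspan
      rintro _ ⟨i, rfl⟩
      exact hpowW i v hvW
    have hgram : ∀ k : ℕ, B w ((X ^ k) w) =
        if k + 1 = e then B v ((X ^ (e - 1)) v) else 0 := by
      intro k
      split_ifs with hk
      · have : k = e - 1 := by omega
        rw [this, hwc]
      · exact hwk k (by omega)
    have hE := block_even B halt X hX e he0 w hwe _ hvc hgram
    refine step B halt X hX N W hW hWX _ _ _ _ hE ?_ (fun _ => heN) ?_ ih'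
    · refine Submodule.span_le.mpr ?_
      rintro _ ⟨⟨j, i⟩, rfl⟩
      exact hpowW _ w hwW
    · intro s hs
      have : IsEmpty {j : Unit // (fun _ : Unit => e) j = s} := by
        constructor
        rintro ⟨_, hj⟩
        have hj' : e = s := hj
        rw [hj'] at hev
        exact (Nat.not_even_iff_odd.mpr hs) hev
      simp
  · -- a pair of blocks of odd size
    obtain ⟨a₀, ha₀W, b₀, hb₀W, hab₀⟩ := htopO hod
    obtain ⟨a', b', ha'span, hb'span, ha'e, hb'e, haa, hbb, hab⟩ :=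
      nf_odd h2 B halt X hX e hod a₀ b₀ (hnil a₀ ha₀W) (hnil b₀ hb₀W) hab₀
    have hspanW : Submodule.span F ((Set.range fun i : ℕ => (X ^ i) a₀) ∪
        Set.range fun i : ℕ => (X ^ i) b₀) ≤ W := by
      refine Submodule.span_le.mpr ?_
      rintro _ (⟨i, rfl⟩ | ⟨i, rfl⟩)
      · exact hpowW i a₀ ha₀W
      · exact hpowW i b₀ hb₀W
    have ha'W : a' ∈ W := hspanW ha'span
    have hb'W : b' ∈ W := hspanW hb'span
    have hE := block_odd B halt X hX e hod a' b' ha'e hb'e haa hbb hab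
    refine step B halt X hX N W hW hWX _ _ _ _ hE ?_ (fun _ => heN) ?_ ih'
    · refine Submodule.span_le.mpr ?_
      rintro _ ⟨⟨j, i⟩, rfl⟩
      rw [fvec_mk]
      fin_cases j
      · exact hpowW _ a' ha'W
      · exact hpowW _ b' hb'W
    · intro s hs
      by_cases hes : e = s
      · have : Fintype.card {j : Fin 2 // (fun _ : Fin 2 => e) j = s} = 2 := by
          rw [Fintype.card_congr (Equiv.subtypeUnivEquiv (p := fun _ : Fin 2 => e = s)
            (fun _ => hes))]
          rfl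
        rw [this]
        exact even_two
      · have : IsEmpty {j : Fin 2 // (fun _ : Fin 2 => e) j = s} := ⟨fun x => hes x.2⟩
        simp

end Cfsg.Agent.S2676P
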