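import Mathlib
import Cfsg.Agent.Helper7.S2676Defs
import Cfsg.Agent.Helper7.S2676STRUCT
import Cfsg.Agent.Helper7.S2676ISOTYPE
import Cfsg.Agent.Helper19.S2676TYPEUNIQ
import Cfsg.Agent.Helper19.S2676FRAMEKER
import Cfsg.Agent.Helper24.S2676CAYUNIQ
import Cfsg.Agent.Helper15.S5956UNIQ

/-!
# S2482 (class number of Sp_2n(q), q odd), chapter U3: unipotent isometries of symplectic spaces

Abstract nondegenerate alternating spaces `(V, B)` over a finite field of odd characteristic.
A unipotent isometry `u` has a Cayley transform `X` (nilpotent, skew), `u (1 - X) = 1 + X`, and the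
S2676 frames of `(B, X)` classify `u` up to isometric conjugacy:

* `U3.cayley_unip`        : existence of the Cayley transform, with `ker X^k = ker (u-1)^k`;
* `U3.usgn B u s`         : the discriminant of the size-`s` part of `u` is a square;
* `U3.unip_iso`           : linearly conjugate unipotent isometries with the same signs on the even
                            sizes are isometrically conjugate;
* `U3.unip_parity`        : the number of Jordan blocks of odd size `s` is even; the sign is
                            trivial when there is no block of size `s`.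
-/

set_option autoImplicit false

namespace Cfsg.Agent.S2482P

open Cfsg.Agent.S2676P Cfsg.Agent.S5956P
open Cfsg.Agent.Helper2.SympInvol (Nondeg)

namespace U3

variable {F V : Type*} [Field F] [AddCommGroup V] [Module F V]

theorem isUnit_two_end (h2 : (2 : F) ≠ 0) : IsUnit (2 : Module.End F V) := by
  have h : (2 : Module.End F V) = algebraMap F (Module.End F V) 2 := (map_ofNat _ 2).symm
  rw [h]
  exact (IsUnit.mk0 2 h2).map _

/-- the Cayley transform of a unipotent isometry -/
theorem cayley_unip (h2 : (2 : F) ≠ 0) (B : LinearMap.BilinForm F V) (u : Module.End F V)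
    (hu : ∀ x y, B (u x) (u y) = B x y) (N : ℕ) (hN : (u - 1) ^ N = 0) :
    ∃ X : Module.End F V, Skew B X ∧ X ^ N = 0 ∧ u * (1 - X) = 1 + X ∧
      ∀ k : ℕ, LinearMap.ker (X ^ k) = LinearMap.ker ((u - 1) ^ k) := by
  have hw : IsUnit (2 + (u - 1)) :=
    IsNilpotent.isUnit_add_left_of_commute ⟨N, hN⟩ (isUnit_two_end h2)
      (Commute.ofNat_right (u - 1) 2)
  have hwy : 2 + (u - 1) = u + 1 := by
    rw [← one_add_one_eq_two]; abel
  rw [hwy] at hw
  obtain ⟨⟨w, winv, h1, h1'⟩, hw'⟩ := hw
  change w = u + 1 at hw'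
  subst hw'
  have hcy : winv * u = u * winv := by
    have hyw : u * (u + 1) = (u + 1) * u := by noncomm_ring
    calc winv * u = winv * u * ((u + 1) * winv) := by rw [h1, mul_one]
      _ = winv * (u * (u + 1)) * winv := by noncomm_ring
      _ = winv * ((u + 1) * u) * winv := by rw [hyw]
      _ = (winv * (u + 1)) * (u * winv) := by noncomm_ring
      _ = u * winv := by rw [h1', one_mul]
  have hcu : Commute (u - 1) winv := by
    change (u - 1) * winv = winv * (u - 1)
    rw [sub_mul, mul_sub, one_mul, mul_one, hcy]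
  refine ⟨(u - 1) * winv, ?_, ?_, ?_, ?_⟩
  · intro a b
    have ha : a = (u + 1) (winv a) := by
      have := LinearMap.congr_fun h1 a
      simpa using this.symm
    have hb : b = (u + 1) (winv b) := by
      have := LinearMap.congr_fun h1 b
      simpa using this.symm
    rw [Module.End.mul_apply, Module.End.mul_apply]
    conv_lhs => rw [hb]
    conv_rhs => rw [ha]
    simp only [LinearMap.sub_apply, LinearMap.add_apply, Module.End.one_apply, map_add, map_sub,
      hu]
    ring
  · rw [hcu.mul_pow, hN, zero_mul]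
  · have e1 : 1 - (u - 1) * winv = (1 + 1) * winv := by
      calc 1 - (u - 1) * winv = (u + 1) * winv - (u - 1) * winv := by rw [h1]
        _ = (1 + 1) * winv := by noncomm_ring
    have e2 : 1 + (u - 1) * winv = (u + u) * winv := by
      calc 1 + (u - 1) * winv = (u + 1) * winv + (u - 1) * winv := by rw [h1]
        _ = (u + u) * winv := by noncomm_ring
    rw [e1, e2]
    noncomm_ring
  · intro k
    rw [hcu.mul_pow]
    -- `winv ^ k` is invertible and commutes
    have hc2 : Commute ((u - 1) ^ k) (winv ^ k) := (hcu.pow_left k).pow_right k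
    have hinv : (u + 1) ^ k * winv ^ k = 1 := by
      have hc3 : Commute (u + 1) winv := by
        change (u + 1) * winv = winv * (u + 1)
        rw [h1, h1']
      rw [← hc3.mul_pow, h1, one_pow]
    ext x
    simp only [LinearMap.mem_ker, Module.End.mul_apply]
    constructor
    · intro hx
      -- `(u-1)^k (winv^k x) = 0`, apply `(u+1)^k`
      have h3 : ((u - 1) ^ k) x = ((u + 1) ^ k * winv ^ k * (u - 1) ^ k) x := by
        rw [hinv, one_mul]
      rw [h3, mul_assoc, ← hc2.eq, Module.End.mul_apply, Module.End.mul_apply, hx, map_zero]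
    · intro hx
      have := LinearMap.congr_fun hc2.eq x
      rw [Module.End.mul_apply, Module.End.mul_apply, hx, map_zero] at this
      exact this

/-- a linear isomorphism intertwining two isometries intertwines their Cayley transforms -/
theorem cayley_intertwine {V' : Type*} [AddCommGroup V'] [Module F V'] [FiniteDimensional F V']
    (h2 : (2 : F) ≠ 0) (T : V ≃ₗ[F] V') (u X : Module.End F V) (u' X' : Module.End F V')
    (h : u * (1 - X) = 1 + X) (h' : u' * (1 - X') = 1 + X') (hT : ∀ v, T (u v) = u' (T v)) :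
    ∀ v, T (X v) = X' (T v) := by
  -- `X'' = T X T⁻¹` is a Cayley transform of `u'`
  set X'' : Module.End F V' := T.toLinearMap ∘ₗ X ∘ₗ T.symm.toLinearMap with hX''
  have h'' : u' * (1 - X'') = 1 + X'' := by
    apply LinearMap.ext
    intro w
    obtain ⟨v, rfl⟩ := T.surjective w
    have e1 : X'' (T v) = T (X v) := by
      simp [hX'']
    have e2 := LinearMap.congr_fun h v
    simp only [Module.End.mul_apply, LinearMap.sub_apply, LinearMap.add_apply,
      Module.End.one_apply] at e2 ⊢
    rw [e1, ← map_sub, ← hT, e2, map_add]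
  have heq : X'' = X' := cayley_unique h2 u' X'' X' h'' h'
  intro v
  rw [← heq]
  simp [hX'']

/-- the discriminant of the size-`s` part of the unipotent isometry `u` is a square (trivially true
when `u` has no Jordan block of size `s`). -/
def usgn (B : LinearMap.BilinForm F V) (u : Module.End F V) (s : ℕ) : Prop :=
  ∃ (X : Module.End F V) (ι : Type) (_ : Fintype ι) (_ : DecidableEq ι) (a : ι → ℕ)
    (K : Matrix ι ι F) (g : ι → V), u * (1 - X) = 1 + X ∧ IsFrame B X ⊤ a K g ∧
      IsSquare (K.toSquareBlock a s).det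

/-- `usgn` can be read off any frame of the Cayley transform -/
theorem usgn_iff_of_frame [FiniteDimensional F V] (h2 : (2 : F) ≠ 0)
    (B : LinearMap.BilinForm F V) (u X : Module.End F V)
    (h : u * (1 - X) = 1 + X) {ι : Type} [Fintype ι] [DecidableEq ι] (a : ι → ℕ)
    (K : Matrix ι ι F) (g : ι → V) (hf : IsFrame B X ⊤ a K g) (s : ℕ) :
    usgn B u s ↔ IsSquare (K.toSquareBlock a s).det := by
  constructor
  · rintro ⟨X', ι', fι', dι', a', K', g', h', hf', hsq⟩
    have hXX : X' = X := cayley_unique h2 u X' X h' h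
    subst hXX
    exact ((type_unique B X' ⊤ a' K' g' a K g hf' hf).2 s).1 hsq
  · intro hsq
    exact ⟨X, ι, inferInstance, inferInstance, a, K, g, h, hf, hsq⟩

/-- kernels of powers are transported by intertwiners -/
theorem finrank_ker_eq {V' : Type*} [AddCommGroup V'] [Module F V'] (T : V ≃ₗ[F] V')
    (X : Module.End F V) (X' : Module.End F V') (hT : ∀ v, T (X v) = X' (T v)) (k : ℕ) :
    Module.finrank F (LinearMap.ker (X ^ k)) = Module.finrank F (LinearMap.ker (X' ^ k)) := by
  have hpow : ∀ v, T ((X ^ k) v) = (X' ^ k) (T v) := by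
    intro v
    induction k generalizing v with
    | zero => simp
    | succ k ih => rw [pow_succ, Module.End.mul_apply, ih, hT, pow_succ, Module.End.mul_apply]
  have hmap : (LinearMap.ker (X ^ k)).map T.toLinearMap = LinearMap.ker (X' ^ k) := by
    ext w
    constructor
    · rintro ⟨v, hv, rfl⟩
      rw [SetLike.mem_coe, LinearMap.mem_ker] at hv
      rw [LinearMap.mem_ker]
      show (X' ^ k) (T v) = 0
      rw [← hpow, hv, map_zero]
    · intro hw
      refine ⟨T.symm w, ?_, by simp⟩
      rw [LinearMap.mem_ker] at hw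
      rw [SetLike.mem_coe, LinearMap.mem_ker]
      apply T.injective
      rw [hpow, LinearEquiv.apply_symm_apply, hw, map_zero]
  rw [← hmap]
  exact (LinearEquiv.finrank_map_eq T _).symm

/-- **U3 main**: linearly conjugate unipotent isometries with the same signs on the even sizes
are isometrically conjugate. -/
theorem unip_iso {V' : Type*} [AddCommGroup V'] [Module F V'] [Fintype F]
    [FiniteDimensional F V] [FiniteDimensional F V'] (h2 : (2 : F) ≠ 0)
    (B : LinearMap.BilinForm F V) (halt : ∀ v, B v v = 0) (hnd : Nondeg B ⊤)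
    (B' : LinearMap.BilinForm F V') (halt' : ∀ v, B' v v = 0) (hnd' : Nondeg B' ⊤)
    (u : Module.End F V) (hu : ∀ x y, B (u x) (u y) = B x y)
    (u' : Module.End F V') (hu' : ∀ x y, B' (u' x) (u' y) = B' x y)
    (N : ℕ) (hN : (u - 1) ^ N = 0) (hN' : (u' - 1) ^ N = 0)
    (T : V ≃ₗ[F] V') (hT : ∀ v, T (u v) = u' (T v))
    (hsgn : ∀ s : ℕ, Even s → (usgn B u s ↔ usgn B' u' s)) :
    ∃ φ : V ≃ₗ[F] V', (∀ x y, B' (φ x) (φ y) = B x y) ∧ ∀ v, φ (u v) = u' (φ v) := by
  obtain ⟨X, hX, hXN, hXu, -⟩ := cayley_unip h2 B u hu N hN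
  obtain ⟨X', hX', hXN', hXu', -⟩ := cayley_unip h2 B' u' hu' N hN'
  obtain ⟨ι, fι, dι, a, K, g, hf, -, -⟩ := exists_frame h2 B halt X hX N hXN ⊤ hnd
    (fun v _ => Submodule.mem_top)
  obtain ⟨ι', fι', dι', a', K', g', hf', -, -⟩ := exists_frame h2 B' halt' X' hX' N hXN' ⊤ hnd'
    (fun v _ => Submodule.mem_top)
  have hTX := cayley_intertwine h2 T u X u' X' hXu hXu' hT
  -- the sizes agree
  have hμ : Multiset.map a Finset.univ.val = Multiset.map a' Finset.univ.val := by
    apply multiset_eq_of_kdim
    · intro b hb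
      obtain ⟨j, -, rfl⟩ := Multiset.mem_map.mp hb
      exact hf.pos j
    · intro b hb
      obtain ⟨j, -, rfl⟩ := Multiset.mem_map.mp hb
      exact hf'.pos j
    · intro k
      rw [TYPEUNIQ.kdim_map, TYPEUNIQ.kdim_map, ← (frame_ker B X ⊤ a K g hf k).1,
        ← (frame_ker B' X' ⊤ a' K' g' hf' k).1, top_inf_eq, top_inf_eq]
      exact finrank_ker_eq T X X' hTX k
  have hε : ∀ s : ℕ, Even s →
      (IsSquare (K.toSquareBlock a s).det ↔ IsSquare (K'.toSquareBlock a' s).det) := by
    intro s hs
    rw [← usgn_iff_of_frame h2 B u X hXu a K g hf s,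
      ← usgn_iff_of_frame h2 B' u' X' hXu' a' K' g' hf' s]
    exact hsgn s hs
  obtain ⟨φ, hφB, hφX⟩ := iso_of_same_type h2 B halt X hX B' halt' X' hX' a K g a' K' g' hf hf'
    hμ hε
  exact ⟨φ, hφB, cayley_conj h2 φ u X u' X' hXu hXu' hφX⟩

/-- **U3 parity**: with `k_i = dim ker (u - 1)^i`, the number `2 k_s - k_(s-1) - k_(s+1)` of Jordan
blocks of size `s ≥ 1` is even for `s` odd, and the sign is trivial when it is `0`. -/
theorem unip_parity [FiniteDimensional F V] (h2 : (2 : F) ≠ 0)
    (B : LinearMap.BilinForm F V) (halt : ∀ v, B v v = 0) (hnd : Nondeg B ⊤)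
    (u : Module.End F V) (hu : ∀ x y, B (u x) (u y) = B x y)
    (N : ℕ) (hN : (u - 1) ^ N = 0) (s : ℕ) (hs : 1 ≤ s) :
    ∃ c : ℕ, 2 * Module.finrank F (LinearMap.ker ((u - 1) ^ s)) =
        Module.finrank F (LinearMap.ker ((u - 1) ^ (s - 1))) +
          Module.finrank F (LinearMap.ker ((u - 1) ^ (s + 1))) + c ∧
      (Odd s → Even c) ∧ (c = 0 → usgn B u s) := by
  classical
  obtain ⟨X, hX, hXN, hXu, hker⟩ := cayley_unip h2 B u hu N hN
  obtain ⟨ι, fι, dι, a, K, g, hf, -, hpar⟩ := exists_frame h2 B halt X hX N hXN ⊤ hnd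
    (fun v _ => Submodule.mem_top)
  have hk : ∀ k : ℕ, Module.finrank F (LinearMap.ker ((u - 1) ^ k)) = ∑ j, min k (a j) := by
    intro k
    rw [← hker k, ← (frame_ker B X ⊤ a K g hf k).1, top_inf_eq]
  refine ⟨Fintype.card {j // a j = s}, ?_, fun hodd => hpar s hodd, ?_⟩
  · rw [hk, hk, hk, Fintype.card_subtype, Finset.card_eq_sum_ones, Finset.sum_filter,
      Finset.mul_sum, ← Finset.sum_add_distrib, ← Finset.sum_add_distrib]
    refine Finset.sum_congr rfl (fun j _ => ?_)
    have := hf.pos j
    split_ifs with h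
    · rw [h]
      have h1 : min s s = s := min_self s
      have h3 : min (s - 1) s = s - 1 := min_eq_left (by omega)
      have h4 : min (s + 1) s = s := min_eq_right (by omega)
      rw [h1, h3, h4]
      omega
    · rcases Nat.lt_or_gt_of_ne h with hlt | hgt
      · have h1 : min s (a j) = a j := min_eq_right (by omega)
        have h3 : min (s - 1) (a j) = a j := min_eq_right (by omega)
        have h4 : min (s + 1) (a j) = a j := min_eq_right (by omega)
        rw [h1, h3, h4]
        omega
      · have h1 : min s (a j) = s := min_eq_left (by omega)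
        have h3 : min (s - 1) (a j) = s - 1 := min_eq_left (by omega)
        have h4 : min (s + 1) (a j) = s + 1 := min_eq_left (by omega)
        rw [h1, h3, h4]
        omega
  · intro hc
    rw [usgn_iff_of_frame h2 B u X hXu a K g hf s]
    have hempty : IsEmpty {j // a j = s} := Fintype.card_eq_zero_iff.1 hc
    have : (K.toSquareBlock a s).det = 1 := Matrix.det_isEmpty
    rw [this]
    exact ⟨1, by ring⟩

end U3

end Cfsg.Agent.S2482P
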