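import Mathlib
import Cfsg.Agent.Helper17.S2482GDefs
import Cfsg.Agent.Helper7.S2482U3

/-!
# S2482 chapter (G), pieces CAYG, USKDIM, EXUNISIGN, CLASSU (unipotent parts)

All four are read off the U3 chapter (`Cfsg.Agent.Helper7.S2482U3`) and the S2676 frame library.
-/

set_option autoImplicit false

namespace Cfsg.Agent.S2482P

open Polynomial Cfsg.Agent.Helper2.SympInvol Cfsg.Agent.S5955P Cfsg.Agent.S5961P Cfsg.Agent.S2676P
  Cfsg.Agent.S2478P Cfsg.Agent.S2481P

universe u

variable {F : Type u} [Field F]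

namespace CAYG

theorem exists_cayley {V : Type*} [AddCommGroup V] [Module F V] (h2 : (2 : F) ≠ 0)
    (B : LinearMap.BilinForm F V) (g : Module.End F V) (hg : ∀ u v, B (g u) (g v) = B u v)
    (hn : IsNilpotent (g - 1)) :
    ∃ X : Module.End F V, Skew B X ∧ IsNilpotent X ∧ g * (1 - X) = 1 + X := by
  obtain ⟨N, hN⟩ := hn
  obtain ⟨X, hX, hXN, hXu, -⟩ := U3.cayley_unip h2 B g hg N hN
  exact ⟨X, hX, ⟨N, hXN⟩, hXu⟩

/-- kernels: for ANY `X` with `g (1 - X) = 1 + X` -/
theorem ker_pow_eq {V : Type*} [AddCommGroup V] [Module F V] [FiniteDimensional F V]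
    (h2 : (2 : F) ≠ 0) (g X : Module.End F V) (h : g * (1 - X) = 1 + X) (k : ℕ) :
    LinearMap.ker (X ^ k) = LinearMap.ker ((g - 1) ^ k) := by
  have e1 : (g + 1) * (1 - X) = 2 := by
    calc (g + 1) * (1 - X) = g * (1 - X) + (1 - X) := by noncomm_ring
      _ = 1 + X + (1 - X) := by rw [h]
      _ = 2 := by rw [← one_add_one_eq_two]; abel
  obtain ⟨⟨t, tinv, ht1, ht2⟩, ht⟩ := U3.isUnit_two_end (V := V) h2
  change t = 2 at ht
  subst ht
  -- `w = tinv * (g + 1)` is a left inverse of `1 - X`
  have hw1 : (tinv * (g + 1)) * (1 - X) = 1 := by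
    rw [mul_assoc, e1, ht2]
  have hw2 : (1 - X) * (tinv * (g + 1)) = 1 := mul_eq_one_comm.1 hw1
  -- `tinv` is central
  have htc : ∀ y : Module.End F V, tinv * y = y * tinv := by
    intro y
    have h2c : (2 : Module.End F V) * y = y * 2 := by
      rw [two_mul, mul_two]
    calc tinv * y = tinv * y * (2 * tinv) := by rw [ht1, mul_one]
      _ = tinv * (y * 2) * tinv := by noncomm_ring
      _ = tinv * (2 * y) * tinv := by rw [h2c]
      _ = (tinv * 2) * y * tinv := by noncomm_ring
      _ = y * tinv := by rw [ht2, one_mul]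
  -- `(1 - X) * (g + 1) = 2`
  have e2 : (1 - X) * (g + 1) = 2 := by
    have : (1 - X) * (g + 1) * tinv = 1 := by
      rw [mul_assoc, ← htc]; exact hw2
    calc (1 - X) * (g + 1) = (1 - X) * (g + 1) * (tinv * 2) := by rw [ht2, mul_one]
      _ = ((1 - X) * (g + 1) * tinv) * 2 := by noncomm_ring
      _ = 2 := by rw [this, one_mul]
  -- `X` commutes with `g`
  have hXg : X * g = g * X := by
    have a1 : g * (1 - X) = (1 - X) * g := by
      rw [h]
      have : (1 - X) * g = (1 - X) * (g + 1) - (1 - X) := by noncomm_ring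
      rw [this, e2, ← one_add_one_eq_two]; abel
    have : g - g * X = g - X * g := by
      calc g - g * X = g * (1 - X) := by noncomm_ring
        _ = (1 - X) * g := a1
        _ = g - X * g := by noncomm_ring
    have := sub_right_injective this
    exact this.symm
  -- `g - 1 = X * (g + 1)`
  have e3 : g - 1 = X * (g + 1) := by
    have a2 : (g - 1) * (1 - X) = X * 2 := by
      calc (g - 1) * (1 - X) = g * (1 - X) - (1 - X) := by noncomm_ring
        _ = 1 + X - (1 - X) := by rw [h]
        _ = X * 2 := by rw [mul_two]; abel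
    calc g - 1 = (g - 1) * ((1 - X) * (tinv * (g + 1))) := by rw [hw2, mul_one]
      _ = ((g - 1) * (1 - X)) * (tinv * (g + 1)) := by noncomm_ring
      _ = X * 2 * (tinv * (g + 1)) := by rw [a2]
      _ = X * ((2 * tinv) * (g + 1)) := by noncomm_ring
      _ = X * (g + 1) := by rw [ht1, one_mul]
  have hc : Commute X (g + 1) := by
    change X * (g + 1) = (g + 1) * X
    rw [mul_add, add_mul, hXg, mul_one, one_mul]
  -- `g + 1` is a unit
  have hu1 : (g + 1) * ((1 - X) * tinv) = 1 := by
    rw [← mul_assoc, e1, ht1]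
  have hu2 : ((1 - X) * tinv) * (g + 1) = 1 := mul_eq_one_comm.1 hu1
  have hpow : ((1 - X) * tinv) ^ k * (g + 1) ^ k = 1 := by
    have hc2 : Commute ((1 - X) * tinv) (g + 1) := by
      change (1 - X) * tinv * (g + 1) = (g + 1) * ((1 - X) * tinv)
      rw [hu1, hu2]
    rw [← hc2.mul_pow, hu2, one_pow]
  rw [e3, hc.mul_pow]
  ext x
  simp only [LinearMap.mem_ker, Module.End.mul_apply]
  constructor
  · intro hx
    have := LinearMap.congr_fun ((hc.pow_left k).pow_right k).eq x
    rw [Module.End.mul_apply, Module.End.mul_apply, hx, map_zero] at this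
    exact this
  · intro hx
    have h5 : ((g + 1) ^ k) ((X ^ k) x) = 0 := by
      have := LinearMap.congr_fun ((hc.pow_left k).pow_right k).eq x
      rw [Module.End.mul_apply, Module.End.mul_apply, hx] at this
      exact this.symm
    have h6 := LinearMap.congr_fun hpow ((X ^ k) x)
    rw [Module.End.mul_apply, h5, map_zero, Module.End.one_apply] at h6
    exact h6.symm

end CAYG

namespace USKDIM

theorem kdim_relation (h2 : (2 : F) ≠ 0) (S : SpSpace F) (c : ℕ → ℕ) (s : ℕ → Bool)
    (h : UniSign S.B S.g c s) :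
    c 0 = 0 ∧ ∀ m, 1 ≤ m → c m + S.kdim 1 (m - 1) + S.kdim 1 (m + 1) = 2 * S.kdim 1 m := by
  classical
  obtain ⟨X, ι, fι, dι, a, K, v, hX, hXu, hf, hc, -⟩ := h
  have hk : ∀ k : ℕ, S.kdim 1 k = ∑ j, min k (a j) := by
    intro k
    unfold SpSpace.kdim
    rw [map_one, ← CAYG.ker_pow_eq h2 S.g X hXu k, ← (frame_ker S.B X ⊤ a K v hf k).1, top_inf_eq]
  constructor
  · rw [hc 0, Fintype.card_eq_zero_iff]
    constructor
    rintro ⟨j, hj⟩
    have := hf.pos j
    omega
  · intro m hm
    rw [hk, hk, hk, hc m, Fintype.card_subtype, Finset.card_eq_sum_ones, Finset.sum_filter,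
      Finset.mul_sum, ← Finset.sum_add_distrib, ← Finset.sum_add_distrib]
    refine Finset.sum_congr rfl (fun j _ => ?_)
    have := hf.pos j
    split_ifs with h
    · rw [h]
      have h1 : min m m = m := min_self m
      have h3 : min (m - 1) m = m - 1 := min_eq_left (by omega)
      have h4 : min (m + 1) m = m := min_eq_right (by omega)
      rw [h1, h3, h4]
      omega
    · rcases Nat.lt_or_gt_of_ne h with hlt | hgt
      · have h1 : min m (a j) = a j := min_eq_right (by omega)
        have h3 : min (m - 1) (a j) = a j := min_eq_right (by omega)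
        have h4 : min (m + 1) (a j) = a j := min_eq_right (by omega)
        rw [h1, h3, h4]
        omega
      · have h1 : min m (a j) = m := min_eq_left (by omega)
        have h3 : min (m - 1) (a j) = m - 1 := min_eq_left (by omega)
        have h4 : min (m + 1) (a j) = m + 1 := min_eq_left (by omega)
        rw [h1, h3, h4]
        omega

end USKDIM

namespace EXUNISIGN

theorem exists_uniSign (h2 : (2 : F) ≠ 0) (S : SpSpace F) (hS : S.IsSp)
    (hn : IsNilpotent (S.g - 1)) :
    ∃ (c : ℕ → ℕ) (s : ℕ → Bool), UniSign S.B S.g c s ∧ ∀ m, Odd m → Even (c m) := by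
  classical
  obtain ⟨N, hN⟩ := hn
  obtain ⟨X, hX, hXN, hXu, -⟩ := U3.cayley_unip h2 S.B S.g hS.isom N hN
  obtain ⟨ι, fι, dι, a, K, v, hf, -, hpar⟩ := exists_frame h2 S.B hS.alt X hX N hXN ⊤ hS.nondeg
    (fun v _ => Submodule.mem_top)
  refine ⟨fun m => Fintype.card {j // a j = m},
    fun m => decide (Even m ∧ 0 < Fintype.card {j // a j = m} ∧
      ¬ IsSquare (K.toSquareBlock a m).det), ?_, fun m hm => hpar m hm⟩
  refine ⟨X, ι, fι, dι, a, K, v, hX, hXu, hf, fun m => rfl, fun m => ?_⟩
  simp only [decide_eq_true_eq]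

end EXUNISIGN

namespace CLASSU

theorem iso_of_uniSign [Fintype F] (h2 : (2 : F) ≠ 0) (S S' : SpSpace F) (hS : S.IsSp)
    (hS' : S'.IsSp) (c : ℕ → ℕ) (s : ℕ → Bool) (h : UniSign S.B S.g c s)
    (h' : UniSign S'.B S'.g c s) : S.Iso S' := by
  classical
  obtain ⟨X, ι, fι, dι, a, K, v, hX, hXu, hf, hc, hs⟩ := h
  obtain ⟨X', ι', fι', dι', a', K', v', hX', hXu', hf', hc', hs'⟩ := h'
  have hμ : Multiset.map a Finset.univ.val = Multiset.map a' Finset.univ.val := by
    ext m
    rw [Multiset.count_map, Multiset.count_map]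
    have e1 : (Multiset.filter (fun j => m = a j) Finset.univ.val).card =
        Fintype.card {j // a j = m} := by
      rw [Fintype.card_subtype]
      change (Finset.filter (fun j => m = a j) Finset.univ).card = _
      congr 1
      ext j
      simp [eq_comm]
    have e2 : (Multiset.filter (fun j => m = a' j) Finset.univ.val).card =
        Fintype.card {j // a' j = m} := by
      rw [Fintype.card_subtype]
      change (Finset.filter (fun j => m = a' j) Finset.univ).card = _
      congr 1
      ext j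
      simp [eq_comm]
    rw [e1, e2, ← hc m, ← hc' m]
  have hε : ∀ m : ℕ, Even m →
      (IsSquare (K.toSquareBlock a m).det ↔ IsSquare (K'.toSquareBlock a' m).det) := by
    intro m hm
    by_cases h0 : c m = 0
    · have he : IsEmpty {j // a j = m} := by
        rw [← Fintype.card_eq_zero_iff, ← hc m]; exact h0
      have he' : IsEmpty {j // a' j = m} := by
        rw [← Fintype.card_eq_zero_iff, ← hc' m]; exact h0
      have d1 : (K.toSquareBlock a m).det = 1 := Matrix.det_isEmpty
      have d2 : (K'.toSquareBlock a' m).det = 1 := Matrix.det_isEmpty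
      rw [d1, d2]
    · have hpos : 0 < c m := Nat.pos_of_ne_zero h0
      have q1 := hs m
      have q2 := hs' m
      constructor
      · intro hsq
        by_contra hnsq
        have : s m = true := q2.2 ⟨hm, hpos, hnsq⟩
        exact (q1.1 this).2.2 hsq
      · intro hsq
        by_contra hnsq
        have : s m = true := q1.2 ⟨hm, hpos, hnsq⟩
        exact (q2.1 this).2.2 hsq
  obtain ⟨φ, hφB, hφX⟩ := iso_of_same_type h2 S.B hS.alt X hX S'.B hS'.alt X' hX' a K v a' K' v'
    hf hf' hμ hε
  exact ⟨φ, hφB, cayley_conj h2 φ S.g X S'.g X' hXu hXu' hφX⟩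

end CLASSU

end Cfsg.Agent.S2482P
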