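import Mathlib
import Cfsg.Prelude.Def_Classical
import Cfsg.Agent.Helper8.MatBNDefs
import Cfsg.Agent.Helper8.S2546Defs
import Cfsg.Agent.Helper21.S2549Defs

set_option autoImplicit false
open scoped Matrix

/-!
# S2549: auxiliary lemmas on the middle positions (used by RAT and DESCENT)
-/

namespace Cfsg.Agent.S2549P

open Cfsg.Agent.MatBN

variable {F : Type*} [Field F] {a b : F} {K : Type*} [Field K]

namespace RAT

theorem mid_cases (m : ℕ) (r : Fin (2 * m + 2)) :
    ¬ (m ≤ r.val ∧ r.val ≤ m + 1) ∨ ∃ k : Fin 2, r = pos m (.inr k) := by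
  by_cases h : m ≤ r.val ∧ r.val ≤ m + 1
  · right
    refine ⟨⟨r.val - m, by omega⟩, ?_⟩
    apply Fin.ext
    show r.val = m + (r.val - m)
    omega
  · left; exact h

theorem swapM_out (m : ℕ) (r : Fin (2 * m + 2)) (h : ¬ (m ≤ r.val ∧ r.val ≤ m + 1)) :
    swapM m r = r := by
  unfold swapM
  apply Equiv.swap_apply_of_ne_of_ne
  · intro h'; apply h; rw [h']; simp
  · intro h'; apply h; rw [h']; simp

theorem swapM_mid (m : ℕ) (k : Fin 2) : swapM m (pos m (.inr k)) = pos m (.inr (1 - k)) := by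
  unfold swapM
  fin_cases k
  · have h1 : pos m (.inr (0 : Fin 2)) = ⟨m, by omega⟩ := Fin.ext (by show m + 0 = m; omega)
    have h2 : pos m (.inr (1 - (0 : Fin 2))) = ⟨m + 1, by omega⟩ := Fin.ext (by show m + 1 = m + 1; rfl)
    show Equiv.swap _ _ (pos m (.inr (0 : Fin 2))) = pos m (.inr (1 - (0 : Fin 2)))
    rw [h1, h2, Equiv.swap_apply_left]
  · have h1 : pos m (.inr (1 : Fin 2)) = ⟨m + 1, by omega⟩ := Fin.ext (by show m + 1 = m + 1; rfl)
    have h2 : pos m (.inr (1 - (1 : Fin 2))) = ⟨m, by omega⟩ := Fin.ext (by show m + 0 = m; omega)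
    show Equiv.swap _ _ (pos m (.inr (1 : Fin 2))) = pos m (.inr (1 - (1 : Fin 2)))
    rw [h1, h2, Equiv.swap_apply_right]

theorem sigma_d (E : QExt F a b K) : E.σ (E.θ - E.σ E.θ) = -(E.θ - E.σ E.θ) := by
  rw [map_sub, E.hσσ]; ring

end RAT

end Cfsg.Agent.S2549P
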