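import Mathlib
import Cfsg.Prelude.Def_Classical
import Cfsg.Agent.Helper8.MatBNDefs
import Cfsg.Agent.Helper8.S2546Defs
import Cfsg.Agent.Helper21.S2549Defs
import Cfsg.Agent.Helper28.IsoTransport
import Cfsg.Agent.Helper18.S2549PRESJ
import Cfsg.Agent.Helper7.S2549RATAUX
import Cfsg.Agent.Helper7.S2549QJCOORD

set_option autoImplicit false
open scoped Matrix

/-!
# S2549, piece DESCENT: a rational isometry matrix over `K` comes from `O⁻(F)`
-/

namespace Cfsg.Agent.S2549P

open Cfsg.Agent.MatBN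

variable {F : Type*} [Field F] {a b : F} {K : Type*} [Field K]

namespace DESCENT

/-- the swap of the two `z`-coordinates -/
def sw (m : ℕ) : Idx m ≃ Idx m :=
  Equiv.sumCongr (Equiv.refl (Fin m ⊕ Fin m)) (Equiv.swap (0 : Fin 2) 1)

theorem sw_inl (m : ℕ) (i : Fin m ⊕ Fin m) : sw m (.inl i) = .inl i := rfl

theorem sw_inr (m : ℕ) (k : Fin 2) : sw m (.inr k) = .inr (1 - k) := by
  fin_cases k <;> simp [sw]

theorem swapM_pos (m : ℕ) (i : Idx m) : swapM m (pos m i) = pos m (sw m i) := by
  rcases i with i | k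
  · rw [sw_inl]
    apply RAT.swapM_out
    rcases i with i | i
    · show ¬ (m ≤ (i : ℕ) ∧ (i : ℕ) ≤ m + 1)
      have := i.2
      omega
    · show ¬ (m ≤ 2 * m + 1 - (i : ℕ) ∧ 2 * m + 1 - (i : ℕ) ≤ m + 1)
      have := i.2
      omega
  · rw [sw_inr, RAT.swapM_mid]

theorem PM_map (E : QExt F a b K) (m : ℕ) :
    (PM E m).map E.σ = (PM E m).submatrix id (sw m) := by
  have hd := E.hne
  have hd' : E.σ E.θ - E.θ ≠ 0 := fun h => hd (by linear_combination -h)
  ext i j
  rcases i with i | k <;> rcases j with j | l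
  · simp only [PM, Matrix.map_apply, Matrix.submatrix_apply, id, sw_inl,
      Matrix.fromBlocks_apply₁₁, Matrix.one_apply]
    split_ifs <;> simp
  · simp [PM, sw_inr]
  · simp [PM, sw_inl]
  · simp only [PM, Matrix.map_apply, Matrix.submatrix_apply, id, sw_inr,
      Matrix.fromBlocks_apply₂₂, P2, Matrix.smul_apply, smul_eq_mul, map_mul, map_inv₀,
      RAT.sigma_d]
    fin_cases k <;> fin_cases l <;> simp [E.hσσ] <;> field_simp <;> ring

theorem PMinv_map (E : QExt F a b K) (m : ℕ) :
    (PMinv E m).map E.σ = (PMinv E m).submatrix (sw m) id := by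
  ext i j
  rcases i with i | k <;> rcases j with j | l
  · simp only [PMinv, Matrix.map_apply, Matrix.submatrix_apply, id, sw_inl,
      Matrix.fromBlocks_apply₁₁, Matrix.one_apply]
    split_ifs <;> simp
  · simp [PMinv, sw_inl]
  · simp [PMinv, sw_inr]
  · simp only [PMinv, Matrix.map_apply, Matrix.submatrix_apply, id, sw_inr,
      Matrix.fromBlocks_apply₂₂, P2inv]
    fin_cases k <;> fin_cases l <;> simp [E.hσσ]

/-- the inverse of a matrix satisfying `PresJ` -/
theorem det_ne_zero_of_presJ (n : ℕ) (A : Matrix (Fin n) (Fin n) K)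
    (hA : Cfsg.Agent.S2546P.PresJ (RingHom.id K) n A) : A.det ≠ 0 := by
  have h : (Matrix.of fun p q : Fin n => A q.rev p.rev) * A = 1 := by
    ext p q
    rw [Matrix.mul_apply]
    have h1 := hA p.rev q
    simp only [RingHom.id_apply] at h1
    have h2 : (∑ r, (Matrix.of fun p q : Fin n => A q.rev p.rev) p r * A r q) =
        ∑ r, A r p.rev * A r.rev q := by
      rw [← Equiv.sum_comp Fin.revPerm]
      apply Finset.sum_congr rfl
      intro r _
      simp only [Matrix.of_apply, Fin.revPerm_apply, Fin.rev_rev]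
    rw [h2, h1, Fin.rev_rev]
    by_cases h : p = q
    · rw [h, if_pos rfl, Matrix.one_apply_eq]
    · rw [if_neg (fun e => h e.symm), Matrix.one_apply_ne h]
  exact Matrix.det_ne_zero_of_left_inverse h

end DESCENT

open DESCENT in
theorem exists_of_pres (E : QExt F a b K) (m : ℕ) (M : Matrix (Fin (2 * m + 2)) (Fin (2 * m + 2)) K)
    (hP : PresQ (2 * m + 2) M) (hR : Rat E.σ m M) : ∃ g : OG m F a b, rho E m g = M := by
  classical
  obtain ⟨M2, hM2⟩ : ∃ M2 : Matrix (Idx m) (Idx m) K,
      M2 = Matrix.reindex (posE m).symm (posE m).symm M := ⟨_, rfl⟩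
  have hM2app : ∀ i j, M2 i j = M (pos m i) (pos m j) := by
    intro i j; rw [hM2]; rfl
  have hM2map : M2.map E.σ = M2.submatrix (sw m) (sw m) := by
    ext i j
    rw [Matrix.map_apply, Matrix.submatrix_apply, hM2app, hM2app, hR, swapM_pos, swapM_pos]
  obtain ⟨G0, hG0⟩ : ∃ G0 : Matrix (Idx m) (Idx m) K, G0 = PM E m * M2 * PMinv E m := ⟨_, rfl⟩
  have hG0map : G0.map E.σ = G0 := by
    rw [hG0, Matrix.map_mul, Matrix.map_mul, PM_map, PMinv_map, hM2map,
      Matrix.submatrix_mul_equiv, Matrix.submatrix_mul_equiv, Matrix.submatrix_id_id]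
  have hfix : ∀ i j, E.σ (G0 i j) = G0 i j := by
    intro i j
    have := congrFun (congrFun hG0map i) j
    rwa [Matrix.map_apply] at this
  choose A hA using fun i j => E.hfix (G0 i j) (hfix i j)
  obtain ⟨Am, hAmdef⟩ : ∃ Am : Matrix (Idx m) (Idx m) F, Am = Matrix.of A := ⟨_, rfl⟩
  have hAm : Am.map E.inc = G0 := by
    ext i j
    rw [Matrix.map_apply, hAmdef, Matrix.of_apply, hA]
  -- `rhoM Am = M`
  have hPG : PMinv E m * G0 = M2 * PMinv E m := by
    rw [hG0, ← Matrix.mul_assoc, ← Matrix.mul_assoc, PMinv_mul_PM, Matrix.one_mul]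
  have hrho : rhoM E m Am = M := by
    unfold rhoM
    rw [hAm, hPG, Matrix.mul_assoc, PMinv_mul_PM, Matrix.mul_one, hM2]
    ext r c
    simp
  -- `Am` preserves the form
  have hQ : ∀ v : Idx m → F, Cfsg.quadFormMinus m F a b (Am *ᵥ v) = Cfsg.quadFormMinus m F a b v := by
    intro v
    apply E.inc.injective
    have hmapQ : ∀ w : Idx m → F, E.inc (Cfsg.quadFormMinus m F a b w) =
        Cfsg.quadFormMinus m K (E.inc a) (E.inc b) (fun i => E.inc (w i)) := by
      intro w
      simp [Cfsg.quadFormMinus, map_add, map_mul, map_sum, map_pow]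
    rw [hmapQ, hmapQ]
    have h1 : (fun i => E.inc ((Am *ᵥ v) i)) = G0 *ᵥ (fun i => E.inc (v i)) := by
      funext i
      rw [← hAm]
      exact (RingHom.map_mulVec E.inc Am v i)
    rw [h1, ← QJ_coord E m, ← QJ_coord E m, Matrix.mulVec_mulVec, hPG, ← Matrix.mulVec_mulVec]
    have h2 : (fun c => (M2 *ᵥ (PMinv E m *ᵥ fun i => E.inc (v i))) (idx m c)) =
        M *ᵥ (fun c => (PMinv E m *ᵥ fun i => E.inc (v i)) (idx m c)) := by
      funext c
      rw [Matrix.mulVec, dotProduct, Matrix.mulVec, dotProduct, ← Equiv.sum_comp (posE m)]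
      apply Finset.sum_congr rfl
      intro j _
      rw [hM2app]
      show M (pos m (idx m c)) (pos m j) * _ = M c (pos m j) * _
      rw [pos_idx]
      show _ = M c (pos m j) * (PMinv E m *ᵥ fun i => E.inc (v i)) (idx m (pos m j))
      rw [idx_pos]
    rw [h2, hP]
  -- invertibility
  have hdetM : M.det ≠ 0 := det_ne_zero_of_presJ _ M (presJ_of_presQ m M hP)
  have hdet : Am.det ≠ 0 := by
    intro h0
    apply hdetM
    have h1 : E.inc Am.det = (Am.map E.inc).det := by
      rw [RingHom.map_det]; rfl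
    rw [hAm, hG0, Matrix.det_mul, Matrix.det_mul] at h1
    have h2 : (PM E m).det * (PMinv E m).det = 1 := by
      rw [← Matrix.det_mul, PM_mul_PMinv, Matrix.det_one]
    have h3 : M2.det = M.det := by
      rw [hM2]; exact Matrix.det_reindex_self _ M
    rw [h0, map_zero] at h1
    rw [← h3]
    have : (PM E m).det * M2.det * (PMinv E m).det = M2.det := by
      calc (PM E m).det * M2.det * (PMinv E m).det
          = ((PM E m).det * (PMinv E m).det) * M2.det := by ring
        _ = M2.det := by rw [h2, one_mul]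
    rw [← this, ← h1]
  let g0 : Matrix.GeneralLinearGroup (Idx m) F := Matrix.GeneralLinearGroup.mkOfDetNeZero Am hdet
  have hg0 : ((g0 : Matrix.GeneralLinearGroup (Idx m) F) : Matrix (Idx m) (Idx m) F) = Am := rfl
  have hmem : g0 ∈ OG m F a b := by
    rw [Cfsg.Agent.Helper28.IsoTransport.mem_isometryGroup_iff]
    intro u
    rw [hg0]
    exact hQ u
  refine ⟨⟨g0, hmem⟩, ?_⟩
  show rhoM E m ((g0 : Matrix.GeneralLinearGroup (Idx m) F) : Matrix (Idx m) (Idx m) F) = M
  rw [hg0, hrho]

end Cfsg.Agent.S2549P
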