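import Mathlib
import Cfsg.Prelude.Def_ClassicalGeometry
import Cfsg.Agent.Helper7.S2676Defs
import Cfsg.Agent.Helper7.S2676SKEW
import Cfsg.Agent.Helper7.S2676TOPVEC
import Cfsg.Agent.Helper7.S2676BLOCKS
import Cfsg.Agent.Helper10.S5961ORTHC

/-! S2558 (class numbers of `O^±_{2n}(q)`, `q` odd), SYMMETRIC FRAMES chapter (helper7), part 1:
the basic identities for a nilpotent skew-adjoint endomorphism `X` of a SYMMETRIC bilinear form `B`
(twins of the S2676 pieces SKEW, TOPVEC, BLOCKS, COMPL, FRAMESYMM; the frames `IsFrame` are those of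
S2676). -/

set_option autoImplicit false

namespace Cfsg.Agent.S2558P

open Cfsg.Agent.S2676P
open Cfsg.Agent.Helper2.SympInvol Cfsg.Agent.Helper2.SympUnits Cfsg.Agent.S5961P Cfsg.Agent.S5956P

theorem pair_swap_sym {F V : Type*} [Field F] [AddCommGroup V] [Module F V]
    (B : LinearMap.BilinForm F V) (hsym : ∀ u v, B u v = B v u) (X : Module.End F V)
    (hX : Skew B X) (k : ℕ) (u v : V) : B v ((X ^ k) u) = (-1) ^ k * B u ((X ^ k) v) := by
  rw [hsym v ((X ^ k) u), skew_pow B X hX]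

theorem pair_self_odd {F V : Type*} [Field F] [AddCommGroup V] [Module F V] (h2 : (2 : F) ≠ 0)
    (B : LinearMap.BilinForm F V) (hsym : ∀ u v, B u v = B v u) (X : Module.End F V)
    (hX : Skew B X) (k : ℕ) (hk : Odd k) (v : V) : B v ((X ^ k) v) = 0 := by
  have h := pair_swap_sym B hsym X hX k v v
  rw [hk.neg_one_pow] at h
  have h' : (2 : F) * B v ((X ^ k) v) = 0 := by
    linear_combination h
  exact (mul_eq_zero.mp h').resolve_left h2

/-- orthogonal complements of nondegenerate subspaces for a symmetric form -/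
theorem orth_compl_sym {F V : Type*} [Field F] [AddCommGroup V] [Module F V]
    [FiniteDimensional F V] (B : LinearMap.BilinForm F V) (hsym : ∀ u v, B u v = B v u)
    (U : Submodule F V) (hU : Nondeg B U) :
    IsCompl U (B.orthogonal U) ∧ Orth B U (B.orthogonal U) ∧ Orth B (B.orthogonal U) U := by
  have hrefl : B.IsRefl := by
    intro u v h
    rw [hsym, h]
  have hdisj : Disjoint U (B.orthogonal U) := by
    rw [Submodule.disjoint_def]
    intro x hx1 hx2
    by_contra hx0
    obtain ⟨v, hv, hne⟩ := hU x hx1 hx0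
    apply hne
    rw [hsym, (LinearMap.BilinForm.mem_orthogonal_iff.mp hx2) v hv]
  have hcompl : IsCompl U (B.orthogonal U) :=
    (LinearMap.BilinForm.isCompl_orthogonal_iff_disjoint hrefl).mpr hdisj
  have ho1 : Orth B U (B.orthogonal U) := by
    intro u hu v hv
    exact (LinearMap.BilinForm.mem_orthogonal_iff.mp hv) u hu
  have ho2 : Orth B (B.orthogonal U) U := by
    intro v hv u hu
    rw [hsym, ho1 u hu v hv]
  exact ⟨hcompl, ho1, ho2⟩

theorem compl_props_sym {F V : Type*} [Field F] [AddCommGroup V] [Module F V]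
    [FiniteDimensional F V] (B : LinearMap.BilinForm F V) (hsym : ∀ u v, B u v = B v u)
    (X : Module.End F V) (hX : Skew B X) (W E : Submodule F V) (hEW : E ≤ W)
    (hW : Nondeg B W) (hE : Nondeg B E) (hWX : ∀ v ∈ W, X v ∈ W) (hEX : ∀ v ∈ E, X v ∈ E) :
    (∀ v ∈ W ⊓ B.orthogonal E, X v ∈ W ⊓ B.orthogonal E) ∧ Nondeg B (W ⊓ B.orthogonal E) ∧
      E ⊔ (W ⊓ B.orthogonal E) = W ∧ Orth B E (W ⊓ B.orthogonal E) ∧
      Orth B (W ⊓ B.orthogonal E) E ∧
      Module.finrank F ↥(W ⊓ B.orthogonal E) + Module.finrank F ↥E = Module.finrank F ↥W := by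
  obtain ⟨hc, hO1, hO2⟩ := orth_compl_sym B hsym E hE
  have hsup : E ⊔ (W ⊓ B.orthogonal E) = W := by
    rw [inf_comm, ← sup_inf_assoc_of_le _ hEW, hc.sup_eq_top, top_inf_eq]
  have hO1' : Orth B E (W ⊓ B.orthogonal E) := fun u hu v hv => hO1 u hu v hv.2
  have hO2' : Orth B (W ⊓ B.orthogonal E) E := fun u hu v hv => hO2 u hu.2 v hv
  refine ⟨?_, ?_, hsup, hO1', hO2', ?_⟩
  · intro v hv
    exact ⟨hWX v hv.1, skew_orthogonal_invariant B X hX E hEX v hv.2⟩
  · intro m hm hm0
    obtain ⟨v, hv, hmv⟩ := hW m hm.1 hm0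
    rw [← hsup] at hv
    obtain ⟨e, he, f, hf, rfl⟩ := Submodule.mem_sup.mp hv
    refine ⟨f, hf, ?_⟩
    rw [map_add, hO2' m hm e he, zero_add] at hmv
    exact hmv
  · have h1 := Submodule.finrank_sup_add_finrank_inf_eq E (W ⊓ B.orthogonal E)
    have h2 : E ⊓ (W ⊓ B.orthogonal E) = ⊥ := by
      apply le_bot_iff.mp
      calc E ⊓ (W ⊓ B.orthogonal E) ≤ E ⊓ B.orthogonal E := inf_le_inf_left _ inf_le_right
        _ = ⊥ := hc.inf_eq_bot
    rw [hsup, h2, finrank_bot] at h1
    omega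

theorem frame_symm_sym {F V : Type*} [Field F] [AddCommGroup V] [Module F V] {ι : Type}
    [Fintype ι] [DecidableEq ι] (B : LinearMap.BilinForm F V) (hsym : ∀ u v, B u v = B v u)
    (X : Module.End F V) (hX : Skew B X) (W : Submodule F V) (a : ι → ℕ) (K : Matrix ι ι F)
    (g : ι → V) (hf : IsFrame B X W a K g) :
    ∀ j j', K j' j = (-1) ^ (a j + 1) * K j j' := by
  intro j j'
  by_cases h : a j = a j'
  · have hs : a j - 1 + 1 = a j := Nat.sub_add_cancel (hf.pos j)
    have h1 := hf.gram j j' 0 (a j - 1)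
    have h2 := hf.gram j' j 0 (a j - 1)
    rw [if_pos (by omega), pow_zero, pow_zero, one_mul] at h1
    rw [if_pos (by omega), pow_zero, pow_zero, one_mul] at h2
    have h3 := pair_swap_sym B hsym X hX (a j - 1) (g j) (g j')
    simp only [Module.End.one_apply] at h1 h2
    rw [← h1, ← h2, h3]
    congr 1
    have : a j + 1 = (a j - 1) + 2 := by omega
    rw [this, pow_add]
    norm_num
  · rw [hf.offdiag j' j (Ne.symm h), hf.offdiag j j' h, mul_zero]

theorem exists_top_vectors_sym {F V : Type*} [Field F] [AddCommGroup V] [Module F V]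
    (h2 : (2 : F) ≠ 0) (B : LinearMap.BilinForm F V) (hsym : ∀ u v, B u v = B v u)
    (X : Module.End F V) (hX : Skew B X) (W : Submodule F V) (hW : Nondeg B W)
    (hWX : ∀ v ∈ W, X v ∈ W) (e : ℕ) (he : 0 < e) (hnil : ∀ v ∈ W, (X ^ e) v = 0)
    (hne : ∃ v ∈ W, (X ^ (e - 1)) v ≠ 0) :
    (Odd e → ∃ v ∈ W, B v ((X ^ (e - 1)) v) ≠ 0) ∧
      (Even e → ∃ a ∈ W, ∃ b ∈ W, B a ((X ^ (e - 1)) b) ≠ 0) := by
  obtain ⟨v₀, hv₀, hv₀ne⟩ := hne
  obtain ⟨u, hu, hub⟩ := hW _ (TOPVEC.pow_mem X W hWX (e - 1) v₀ hv₀) hv₀ne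
  have huv : B u ((X ^ (e - 1)) v₀) ≠ 0 := by
    rw [hsym]
    exact hub
  refine ⟨fun hod => ?_, fun _ => ⟨u, hu, v₀, hv₀, huv⟩⟩
  have hev1 : Even (e - 1) := by
    obtain ⟨m, hm⟩ := hod
    exact ⟨m, by omega⟩
  have hsw : B v₀ ((X ^ (e - 1)) u) = B u ((X ^ (e - 1)) v₀) := by
    rw [pair_swap_sym B hsym X hX (e - 1) u v₀, hev1.neg_one_pow, one_mul]
  by_cases h1 : B u ((X ^ (e - 1)) u) = 0
  · by_cases h3 : B v₀ ((X ^ (e - 1)) v₀) = 0
    · refine ⟨u + v₀, W.add_mem hu hv₀, ?_⟩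
      rw [map_add, map_add, LinearMap.add_apply, map_add, map_add, h1, h3, hsw]
      intro h
      apply huv
      have : (2 : F) * B u ((X ^ (e - 1)) v₀) = 0 := by linear_combination h
      exact (mul_eq_zero.mp this).resolve_left h2
    · exact ⟨v₀, hv₀, h3⟩
  · exact ⟨u, hu, h1⟩

open BLOCKS in
theorem block_odd_sym {F V : Type*} [Field F] [AddCommGroup V] [Module F V]
    (B : LinearMap.BilinForm F V) (X : Module.End F V) (hX : Skew B X)
    (e : ℕ) (he : 0 < e) (w : V) (hw : (X ^ e) w = 0) (c : F) (hc : c ≠ 0)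
    (hgram : ∀ k : ℕ, B w ((X ^ k) w) = if k + 1 = e then c else 0) :
    IsFrame B X (Submodule.span F (Set.range (fvec X (fun _ : Unit => e) (fun _ => w))))
      (fun _ : Unit => e) (Matrix.of fun _ _ => c) (fun _ => w) where
  pos _ := he
  kill _ := hw
  gram j j' i l := by
    rw [pair_pow B X hX, hgram, Matrix.of_apply]
    split_ifs <;> simp
  span := rfl
  offdiag j j' h := absurd rfl h
  unit s := by
    apply unit_block_const
    rw [Matrix.det_unique, Matrix.of_apply]
    exact isUnit_iff_ne_zero.mpr hc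

open BLOCKS in
theorem block_even_sym {F V : Type*} [Field F] [AddCommGroup V] [Module F V]
    (B : LinearMap.BilinForm F V) (hsym : ∀ u v, B u v = B v u) (X : Module.End F V)
    (hX : Skew B X)
    (e : ℕ) (he : Even e) (he0 : 0 < e) (a b : V) (ha : (X ^ e) a = 0) (hb : (X ^ e) b = 0)
    (haa : ∀ k : ℕ, B a ((X ^ k) a) = 0) (hbb : ∀ k : ℕ, B b ((X ^ k) b) = 0)
    (hab : ∀ k : ℕ, B a ((X ^ k) b) = if k + 1 = e then 1 else 0) :
    IsFrame B X (Submodule.span F (Set.range (fvec X (fun _ : Fin 2 => e) ![a, b])))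
      (fun _ : Fin 2 => e) !![0, 1; -1, 0] ![a, b] where
  pos _ := he0
  kill j := by
    fin_cases j
    · exact ha
    · exact hb
  gram j j' i l := by
    fin_cases j <;> fin_cases j'
    · simp only [Fin.zero_eta, Fin.isValue, Matrix.cons_val_zero, Matrix.of_apply,
        Matrix.cons_val', Matrix.cons_val_fin_one]
      rw [pair_pow B X hX, haa]
      simp
    · simp only [Fin.zero_eta, Fin.isValue, Matrix.cons_val_zero, Fin.mk_one, Matrix.cons_val_one,
        Matrix.of_apply, Matrix.cons_val', Matrix.cons_val_fin_one]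
      rw [pair_pow B X hX, hab]
      split_ifs <;> simp
    · simp only [Fin.mk_one, Fin.isValue, Matrix.cons_val_one, Fin.zero_eta, Matrix.cons_val_zero,
        Matrix.of_apply, Matrix.cons_val', Matrix.cons_val_fin_one]
      rw [pair_pow B X hX, pair_swap_sym B hsym X hX (i + l) a b, hab]
      split_ifs with h
      · have hodd : Odd (i + l) := by
          obtain ⟨m, hm⟩ := he
          exact ⟨m - 1, by omega⟩
        rw [hodd.neg_one_pow]
        ring
      · simp
    · simp only [Fin.mk_one, Fin.isValue, Matrix.cons_val_one, Matrix.of_apply,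
        Matrix.cons_val', Matrix.cons_val_fin_one]
      rw [pair_pow B X hX, hbb]
      simp
  span := rfl
  offdiag j j' h := absurd rfl h
  unit s := by
    apply unit_block_const
    rw [Matrix.det_fin_two_of]
    simp

end Cfsg.Agent.S2558P
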