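import Mathlib
import Cfsg.Prelude.Def_ClassicalGeometry
import Cfsg.Agent.Helper7.S2676Defs
import Cfsg.Agent.Helper7.S2676SKEW
import Cfsg.Agent.Helper19.S2676NFEVEN
import Cfsg.Agent.Helper19.S2676NFODDA
import Cfsg.Agent.Helper19.S2676NFODDB
import Cfsg.Agent.Helper7.S2558SKEW

/-! S2558, SYMMETRIC FRAMES chapter, part 2: the normal forms of a cyclic generator (`e` odd) and of
a pair (`e` even) for a SYMMETRIC form (twins of helper19's S2676 pieces NFEVEN, NFODDA, NFODDB, whose
form-agnostic auxiliary lemmas are reused). -/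

set_option autoImplicit false

namespace Cfsg.Agent.S2558P

open Cfsg.Agent.S2676P
open Cfsg.Agent.Helper2.SympInvol Cfsg.Agent.Helper2.SympUnits Cfsg.Agent.S5961P Cfsg.Agent.S5956P

open NFEVEN in
theorem nf_odd_sym {F V : Type*} [Field F] [AddCommGroup V] [Module F V] (h2 : (2 : F) ≠ 0)
    (B : LinearMap.BilinForm F V) (hsym : ∀ u v, B u v = B v u) (X : Module.End F V)
    (hX : Skew B X)
    (e : ℕ) (v : V) (hv : (X ^ e) v = 0) (hc : B v ((X ^ (e - 1)) v) ≠ 0) :
    ∃ w : V, w ∈ Submodule.span F (Set.range fun i : ℕ => (X ^ i) v) ∧ (X ^ e) w = 0 ∧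
      B w ((X ^ (e - 1)) w) = B v ((X ^ (e - 1)) v) ∧
      ∀ k : ℕ, k ≠ e - 1 → B w ((X ^ k) w) = 0 := by
  -- `e - 1` is even
  have heven : Even (e - 1) := by
    rcases Nat.even_or_odd (e - 1) with h | h
    · exact h
    · exact absurd (pair_self_odd h2 B hsym X hX (e - 1) h v) hc
  obtain ⟨m', hm'⟩ := heven
  obtain ⟨c, hcdef⟩ : ∃ c : F, c = B v ((X ^ (e - 1)) v) := ⟨_, rfl⟩
  rw [← hcdef] at hc ⊢
  have key : ∀ n : ℕ, ∃ w : V, w ∈ Submodule.span F (Set.range fun i : ℕ => (X ^ i) v) ∧
      (X ^ e) w = 0 ∧ B w ((X ^ (e - 1)) w) = c ∧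
      ∀ k : ℕ, k < e - 1 → e - 1 ≤ k + 2 * n → B w ((X ^ k) w) = 0 := by
    intro n
    induction n with
    | zero =>
      refine ⟨v, Submodule.subset_span ⟨0, by simp⟩, hv, hcdef.symm, ?_⟩
      intro k hk1 hk2
      omega
    | succ n ih =>
      obtain ⟨w, hwS, hwe, hwc, hwk⟩ := ih
      by_cases hj : 2 * (n + 1) ≤ e - 1
      · -- modify `w`
        obtain ⟨k₀, hk₀⟩ : ∃ k₀, k₀ = e - 1 - 2 * (n + 1) := ⟨_, rfl⟩
        obtain ⟨t, ht⟩ : ∃ t : F, t = - B w ((X ^ k₀) w) / (2 * c) := ⟨_, rfl⟩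
        have hge : ∀ k : ℕ, e ≤ k → B w ((X ^ k) w) = 0 := gamma_zero_of_le B X e w hwe
        refine ⟨w + t • (X ^ (2 * (n + 1))) w, ?_, ?_, ?_, ?_⟩
        · exact Submodule.add_mem _ hwS (Submodule.smul_mem _ _ (pow_mem_span X v _ hwS))
        · rw [map_add, map_smul, ← Module.End.mul_apply, ← pow_add, add_comm e, pow_add,
            Module.End.mul_apply, hwe, map_zero, smul_zero, add_zero]
        · rw [gamma_shift B X hX, hwc, hge _ (by omega), hge _ (by omega)]
          ring
        · intro k hk1 hk2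
          rw [gamma_shift B X hX]
          by_cases hold : e - 1 ≤ k + 2 * n
          · rw [hwk k hk1 hold, hge _ (by omega), hge _ (by omega)]
            ring
          · rcases Nat.even_or_odd k with hke | hko
            · obtain ⟨mk, hmk⟩ := hke
              have hkk : k = k₀ := by omega
              have hk1' : k + 2 * (n + 1) = e - 1 := by omega
              rw [hk1', hwc, hge (k + 4 * (n + 1)) (by omega), hkk, ht]
              field_simp
              ring
            · -- odd `k`: everything vanishes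
              have h0 := pair_self_odd h2 B hsym X hX k hko w
              have h1 := pair_self_odd h2 B hsym X hX (k + 2 * (n + 1))
                (hko.add_even (even_two_mul _)) w
              have h2' := pair_self_odd h2 B hsym X hX (k + 4 * (n + 1))
                (hko.add_even ⟨2 * (n + 1), by ring⟩) w
              rw [h0, h1, h2']
              ring
      · -- nothing to do
        refine ⟨w, hwS, hwe, hwc, ?_⟩
        intro k hk1 hk2
        by_cases hold : e - 1 ≤ k + 2 * n
        · exact hwk k hk1 hold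
        · rcases Nat.even_or_odd k with hke | hko
          · obtain ⟨mk, hmk⟩ := hke
            omega
          · exact pair_self_odd h2 B hsym X hX k hko w
  obtain ⟨w, hwS, hwe, hwc, hwk⟩ := key e
  refine ⟨w, hwS, hwe, hwc, ?_⟩
  intro k hk
  rcases Nat.lt_or_ge k (e - 1) with h | h
  · exact hwk k h (by omega)
  · exact gamma_zero_of_le B X e w hwe k (by omega)

namespace NFEVENA

variable {F V : Type*} [Field F] [AddCommGroup V] [Module F V]

/-- the effect of `A ↦ A + t u` on `B A (X^k A)`, `k` even -/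
theorem shift_even (B : LinearMap.BilinForm F V) (hsym : ∀ u v, B u v = B v u)
    (X : Module.End F V) (hX : Skew B X) (A u : V) (t : F) (k : ℕ) (hk : Even k) :
    B (A + t • u) ((X ^ k) (A + t • u)) =
      B A ((X ^ k) A) + 2 * t * B A ((X ^ k) u) + t * t * B u ((X ^ k) u) := by
  have h1 : B u ((X ^ k) A) = B A ((X ^ k) u) := by
    rw [pair_swap_sym B hsym X hX k A u, hk.neg_one_pow, one_mul]
  simp only [map_add, map_smul, LinearMap.add_apply, LinearMap.smul_apply, smul_eq_mul, h1]
  ring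

end NFEVENA

open NFODDA NFEVENA in
theorem nf_isotropize_sym {F V : Type*} [Field F] [AddCommGroup V] [Module F V]
    (h2 : (2 : F) ≠ 0)
    (B : LinearMap.BilinForm F V) (hsym : ∀ u v, B u v = B v u) (X : Module.End F V)
    (hX : Skew B X)
    (e : ℕ) (he : Even e) (a b : V) (ha : (X ^ e) a = 0) (hb : (X ^ e) b = 0)
    (hab : B a ((X ^ (e - 1)) b) ≠ 0) :
    ∃ c : V, c ∈ Submodule.span F (Set.range fun i : ℕ => (X ^ (i + 1)) b) ∧
      ∀ k : ℕ, B (a + c) ((X ^ k) (a + c)) = 0 := by
  have he0 : 0 < e := by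
    rcases Nat.eq_zero_or_pos e with h0 | h0
    · exfalso
      apply hab
      rw [h0, pow_zero, Module.End.one_apply] at ha
      rw [ha, map_zero, LinearMap.zero_apply]
    · exact h0
  obtain ⟨m', hm'⟩ := he
  obtain ⟨δ, hδ⟩ : ∃ δ : F, δ = B a ((X ^ (e - 1)) b) := ⟨_, rfl⟩
  rw [← hδ] at hab
  have key : ∀ n : ℕ, ∃ c : V, c ∈ Submodule.span F (Set.range fun i : ℕ => (X ^ (i + 1)) b) ∧
      ∀ k : ℕ, e ≤ k + n → B (a + c) ((X ^ k) (a + c)) = 0 := by
    intro n
    induction n with
    | zero =>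
      refine ⟨0, zero_mem _, ?_⟩
      intro k hk
      rw [add_zero, pow_apply_zero_of_le X e a ha k (by omega), map_zero]
    | succ n ih =>
      obtain ⟨c, hcS, hck⟩ := ih
      rcases Nat.even_or_odd (e - (n + 1)) with hev | hod
      · obtain ⟨mk, hmk⟩ := hev
        have hn1 : 1 ≤ n := by omega
        obtain ⟨A, hA⟩ : ∃ A : V, A = a + c := ⟨_, rfl⟩
        obtain ⟨t, ht⟩ : ∃ t : F, t = - B A ((X ^ (e - (n + 1))) A) / (2 * δ) := ⟨_, rfl⟩
        have hδ' : B A ((X ^ (e - 1)) b) = δ := by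
          rw [hA, map_add, LinearMap.add_apply, span_orth B X hX e (by omega) b hb hcS, add_zero,
            hδ]
        refine ⟨c + t • (X ^ n) b, ?_, ?_⟩
        · refine add_mem hcS (Submodule.smul_mem _ _ (Submodule.subset_span ⟨n - 1, ?_⟩))
          show (X ^ (n - 1 + 1)) b = (X ^ n) b
          rw [Nat.sub_add_cancel hn1]
        · intro k hk
          rw [← add_assoc, ← hA]
          rcases Nat.even_or_odd k with hke | hko
          · rw [shift_even B hsym X hX _ _ _ k hke]
            have hlin : B A ((X ^ k) ((X ^ n) b)) = B A ((X ^ (k + n)) b) := by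
              rw [← Module.End.mul_apply, ← pow_add]
            have hquad : B ((X ^ n) b) ((X ^ k) ((X ^ n) b)) = 0 := by
              have h3 : (X ^ n) ((X ^ k) ((X ^ n) b)) = (X ^ (n + k + n)) b := by
                rw [pow_add, pow_add, Module.End.mul_apply, Module.End.mul_apply]
              rw [skew_pow B X hX, h3, pow_apply_zero_of_le X e b hb _ (by omega), map_zero,
                mul_zero]
            rw [hlin, hquad]
            by_cases hold : e ≤ k + n
            · rw [hA, hck k hold, pow_apply_zero_of_le X e b hb _ hold, map_zero]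
              ring
            · have hk0 : k = e - (n + 1) := by omega
              have hkn : k + n = e - 1 := by omega
              rw [hkn, hδ', hk0, ht]
              field_simp
              ring
          · exact pair_self_odd h2 B hsym X hX k hko _
      · refine ⟨c, hcS, ?_⟩
        intro k hk
        by_cases hold : e ≤ k + n
        · exact hck k hold
        · have hk0 : k = e - (n + 1) := by omega
          rw [hk0]
          exact pair_self_odd h2 B hsym X hX _ hod _
  obtain ⟨c, hcS, hck⟩ := key e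
  exact ⟨c, hcS, fun k => hck k (by omega)⟩

open NFODDB in
theorem nf_even_sym {F V : Type*} [Field F] [AddCommGroup V] [Module F V] (h2 : (2 : F) ≠ 0)
    (B : LinearMap.BilinForm F V) (hsym : ∀ u v, B u v = B v u) (X : Module.End F V)
    (hX : Skew B X)
    (e : ℕ) (he : Even e) (a b : V) (ha : (X ^ e) a = 0) (hb : (X ^ e) b = 0)
    (hab : B a ((X ^ (e - 1)) b) ≠ 0) :
    ∃ a' b' : V,
      a' ∈ Submodule.span F ((Set.range fun i : ℕ => (X ^ i) a) ∪ Set.range fun i : ℕ => (X ^ i) b) ∧
      b' ∈ Submodule.span F ((Set.range fun i : ℕ => (X ^ i) a) ∪ Set.range fun i : ℕ => (X ^ i) b) ∧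
      (X ^ e) a' = 0 ∧ (X ^ e) b' = 0 ∧ (∀ k : ℕ, B a' ((X ^ k) a') = 0) ∧
      (∀ k : ℕ, B b' ((X ^ k) b') = 0) ∧
      ∀ k : ℕ, B a' ((X ^ k) b') = if k + 1 = e then 1 else 0 := by
  have he0 : 0 < e := by
    rcases Nat.eq_zero_or_pos e with h0 | h0
    · exfalso
      apply hab
      rw [h0, pow_zero, Module.End.one_apply] at ha
      rw [ha, map_zero, LinearMap.zero_apply]
    · exact h0
  obtain ⟨c, hcS, hciso⟩ := nf_isotropize_sym h2 B hsym X hX e he a b ha hb hab
  obtain ⟨a', ha'⟩ : ∃ a' : V, a' = a + c := ⟨_, rfl⟩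
  rw [← ha'] at hciso
  have ha'e : (X ^ e) a' = 0 := by
    rw [ha', map_add, ha, NFODDA.span_kill X e b hb hcS, add_zero]
  have hδ1 : B a' ((X ^ (e - 1)) b) = B a ((X ^ (e - 1)) b) := by
    rw [ha', map_add, LinearMap.add_apply, NFODDA.span_orth B X hX e he0 b hb hcS, add_zero]
  have hba' : B b ((X ^ (e - 1)) a') ≠ 0 := by
    rw [pair_swap_sym B hsym X hX (e - 1) a' b, hδ1]
    exact mul_ne_zero (pow_ne_zero _ (neg_ne_zero.mpr one_ne_zero)) hab
  obtain ⟨c', hc'S, hc'iso⟩ := nf_isotropize_sym h2 B hsym X hX e he b a' hb ha'e hba'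
  obtain ⟨b₁, hb₁⟩ : ∃ b₁ : V, b₁ = b + c' := ⟨_, rfl⟩
  rw [← hb₁] at hc'iso
  have hb₁e : (X ^ e) b₁ = 0 := by
    rw [hb₁, map_add, hb, NFODDA.span_kill X e a' ha'e hc'S, add_zero]
  have hc'Sa : c' ∈ Submodule.span F (Set.range fun i : ℕ => (X ^ i) a') :=
    span_succ_le X a' hc'S
  have hδ2 : B a' ((X ^ (e - 1)) b₁) ≠ 0 := by
    rw [hb₁, map_add, map_add,
      iso_span B X hX a' hciso (Submodule.subset_span ⟨0, by simp⟩)
        (NFEVEN.pow_mem_span X a' _ hc'Sa), add_zero, hδ1]
    exact hab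
  obtain ⟨b', hb'S, hb'k⟩ := pair_normalize B X e he0 a' b₁ hb₁e hδ2
  have ha'T : a' ∈ TT X a b := by
    rw [ha']
    exact add_mem (left_mem_TT X a b)
      (span_le_TT X a b (right_mem_TT X a b) (span_succ_le X b hcS))
  have hb₁T : b₁ ∈ TT X a b := by
    rw [hb₁]
    exact add_mem (right_mem_TT X a b) (span_le_TT X a b ha'T hc'Sa)
  refine ⟨a', b', ha'T, span_le_TT X a b hb₁T hb'S, ha'e,
    span_kill' X e b₁ hb₁e hb'S e le_rfl, hciso, ?_, hb'k⟩
  intro k
  exact iso_span B X hX b₁ hc'iso hb'S (NFEVEN.pow_mem_span X b₁ _ hb'S)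

end Cfsg.Agent.S2558P
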