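import Mathlib
import Cfsg.Prelude.Def_ClassicalGeometry
import Cfsg.Agent.Helper7.S2676Defs
import Cfsg.Agent.Helper7.S2676SKEW
import Cfsg.Agent.Helper7.S2676TOPVEC
import Cfsg.Agent.Helper7.S2676BLOCKS
import Cfsg.Agent.Helper7.S2676FRAMEND
import Cfsg.Agent.Helper7.S2676FRAMESUM
import Cfsg.Agent.Helper7.S2676STRUCT
import Cfsg.Agent.Helper7.S2558SKEW
import Cfsg.Agent.Helper7.S2558NF

/-! S2558, SYMMETRIC FRAMES chapter, part 3: existence of frames for a nilpotent skew-adjoint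
endomorphism of a nondegenerate SYMMETRIC form (twin of S2676 STRUCT): blocks of EVEN size come in
pairs. -/

set_option autoImplicit false

namespace Cfsg.Agent.S2558P

open Cfsg.Agent.S2676P
open Cfsg.Agent.Helper2.SympInvol Cfsg.Agent.Helper2.SympUnits Cfsg.Agent.S5961P Cfsg.Agent.S5956P

namespace STRUCTS

variable {F V : Type*} [Field F] [AddCommGroup V] [Module F V]

open Cfsg.Agent.S2676P.STRUCT

/-- the inductive step: split off a block `E` -/
theorem step [FiniteDimensional F V] (B : LinearMap.BilinForm F V) (hsym : ∀ u v, B u v = B v u)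
    (X : Module.End F V) (hX : Skew B X) (N : ℕ) (W : Submodule F V) (hW : Nondeg B W)
    (hWX : ∀ v ∈ W, X v ∈ W) {ι₁ : Type} [Fintype ι₁] [DecidableEq ι₁] [Nonempty ι₁]
    (a₁ : ι₁ → ℕ) (K₁ : Matrix ι₁ ι₁ F) (g₁ : ι₁ → V) (E : Submodule F V)
    (hE : IsFrame B X E a₁ K₁ g₁) (hEW : E ≤ W) (hb₁ : ∀ j, a₁ j ≤ N)
    (hp₁ : ∀ s : ℕ, Even s → Even (Fintype.card {j // a₁ j = s}))
    (ih : ∀ W' : Submodule F V, Module.finrank F ↥W' < Module.finrank F ↥W → Nondeg B W' →
      (∀ v ∈ W', X v ∈ W') →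
      ∃ (ι : Type) (_ : Fintype ι) (_ : DecidableEq ι) (a : ι → ℕ) (K : Matrix ι ι F)
        (g : ι → V), IsFrame B X W' a K g ∧ (∀ j, a j ≤ N) ∧
          ∀ s : ℕ, Even s → Even (Fintype.card {j // a j = s})) :
    ∃ (ι : Type) (_ : Fintype ι) (_ : DecidableEq ι) (a : ι → ℕ) (K : Matrix ι ι F)
      (g : ι → V), IsFrame B X W a K g ∧ (∀ j, a j ≤ N) ∧
        ∀ s : ℕ, Even s → Even (Fintype.card {j // a j = s}) := by
  obtain ⟨-, hEnd, hEdim⟩ := frame_nondeg B X E a₁ K₁ g₁ hE
  have hEX := frame_invariant B X E a₁ K₁ g₁ hE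
  obtain ⟨hW'X, hW'nd, hsup, hO, hO', hdim⟩ := compl_props_sym B hsym X hX W E hEW hW hEnd hWX hEX
  have hEpos : 0 < Module.finrank F ↥E := by
    rw [hEdim]
    obtain ⟨j₀⟩ := ‹Nonempty ι₁›
    exact lt_of_lt_of_le (hE.pos j₀) (Finset.single_le_sum (fun _ _ => Nat.zero_le _)
      (Finset.mem_univ j₀))
  obtain ⟨ι', _, _, a', K', g', hf', hb', hp'⟩ := ih (W ⊓ B.orthogonal E) (by omega) hW'nd hW'X
  refine ⟨ι₁ ⊕ ι', inferInstance, inferInstance, Sum.elim a₁ a', Matrix.fromBlocks K₁ 0 0 K',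
    Sum.elim g₁ g', ?_, ?_, ?_⟩
  · have := frame_sum B X E (W ⊓ B.orthogonal E) hO hO' a₁ K₁ g₁ a' K' g' hE hf'
    rwa [hsup] at this
  · rintro (j | j)
    · exact hb₁ j
    · exact hb' j
  · intro s hs
    rw [card_sum_elim]
    exact (hp₁ s hs).add (hp' s hs)

end STRUCTS

open STRUCTS Cfsg.Agent.S2676P.STRUCT

theorem exists_frame_sym {F V : Type*} [Field F] [AddCommGroup V] [Module F V]
    [FiniteDimensional F V] (h2 : (2 : F) ≠ 0) (B : LinearMap.BilinForm F V)
    (hsym : ∀ u v, B u v = B v u) (X : Module.End F V) (hX : Skew B X) (N : ℕ) (hN : X ^ N = 0)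
    (W : Submodule F V) (hW : Nondeg B W) (hWX : ∀ v ∈ W, X v ∈ W) :
    ∃ (ι : Type) (_ : Fintype ι) (_ : DecidableEq ι) (a : ι → ℕ) (K : Matrix ι ι F)
      (g : ι → V), IsFrame B X W a K g ∧ (∀ j, a j ≤ N) ∧
        ∀ s : ℕ, Even s → Even (Fintype.card {j // a j = s}) := by
  induction' hn : Module.finrank F ↥W using Nat.strong_induction_on with n ih generalizing W
  by_cases hbot : W = ⊥
  · subst hbot
    refine ⟨Empty, inferInstance, inferInstance, _, _, _, frame_bot B X, fun j => j.elim, ?_⟩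
    intro s _
    simp
  -- the nilpotency index on `W`
  have hex : ∃ e : ℕ, ∀ v ∈ W, (X ^ e) v = 0 := ⟨N, fun v _ => by rw [hN]; rfl⟩
  classical
  set e := Nat.find hex with he_def
  have hnil : ∀ v ∈ W, (X ^ e) v = 0 := Nat.find_spec hex
  have heN : e ≤ N := Nat.find_min' hex (fun v _ => by rw [hN]; rfl)
  have he0 : 0 < e := by
    rcases Nat.eq_zero_or_pos e with h0 | h0
    · exfalso
      apply hbot
      rw [eq_bot_iff]
      intro v hv
      have := hnil v hv
      rw [h0, pow_zero] at this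
      exact (Submodule.mem_bot F).mpr this
    · exact h0
  have hne : ∃ v ∈ W, (X ^ (e - 1)) v ≠ 0 := by
    by_contra hcon
    have hall : ∀ v ∈ W, (X ^ (e - 1)) v = 0 := by
      intro v hv
      by_contra hv0
      exact hcon ⟨v, hv, hv0⟩
    have := Nat.find_min' hex hall
    omega
  obtain ⟨htopE, htopO⟩ := exists_top_vectors_sym h2 B hsym X hX W hW hWX e he0 hnil hne
  have ih' : ∀ W' : Submodule F V, Module.finrank F ↥W' < Module.finrank F ↥W → Nondeg B W' →
      (∀ v ∈ W', X v ∈ W') →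
      ∃ (ι : Type) (_ : Fintype ι) (_ : DecidableEq ι) (a : ι → ℕ) (K : Matrix ι ι F)
        (g : ι → V), IsFrame B X W' a K g ∧ (∀ j, a j ≤ N) ∧
          ∀ s : ℕ, Even s → Even (Fintype.card {j // a j = s}) := by
    intro W' hlt hnd hinv
    exact ih _ (hn ▸ hlt) W' hnd hinv rfl
  have hpowW : ∀ (i : ℕ) (v : V), v ∈ W → (X ^ i) v ∈ W :=
    fun i v hv => TOPVEC.pow_mem X W hWX i v hv
  rcases Nat.even_or_odd e with hev | hod
  · -- a pair of blocks of even size
    obtain ⟨a₀, ha₀W, b₀, hb₀W, hab₀⟩ := htopO hev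
    obtain ⟨a', b', ha'span, hb'span, ha'e, hb'e, haa, hbb, hab⟩ :=
      nf_even_sym h2 B hsym X hX e hev a₀ b₀ (hnil a₀ ha₀W) (hnil b₀ hb₀W) hab₀
    have hspanW : Submodule.span F ((Set.range fun i : ℕ => (X ^ i) a₀) ∪
        Set.range fun i : ℕ => (X ^ i) b₀) ≤ W := by
      refine Submodule.span_le.mpr ?_
      rintro _ (⟨i, rfl⟩ | ⟨i, rfl⟩)
      · exact hpowW i a₀ ha₀W
      · exact hpowW i b₀ hb₀W
    have ha'W : a' ∈ W := hspanW ha'span
    have hb'W : b' ∈ W := hspanW hb'span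
    have hE := block_even_sym B hsym X hX e hev he0 a' b' ha'e hb'e haa hbb hab
    refine step B hsym X hX N W hW hWX _ _ _ _ hE ?_ (fun _ => heN) ?_ ih'
    · refine Submodule.span_le.mpr ?_
      rintro _ ⟨⟨j, i⟩, rfl⟩
      rw [fvec_mk]
      fin_cases j
      · exact hpowW _ a' ha'W
      · exact hpowW _ b' hb'W
    · intro s hs
      by_cases hes : e = s
      · have : Fintype.card {j : Fin 2 // (fun _ : Fin 2 => e) j = s} = 2 := by
          rw [Fintype.card_congr (Equiv.subtypeUnivEquiv (p := fun _ : Fin 2 => e = s)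
            (fun _ => hes))]
          rfl
        rw [this]
        exact even_two
      · have : IsEmpty {j : Fin 2 // (fun _ : Fin 2 => e) j = s} := ⟨fun x => hes x.2⟩
        simp
  · -- a cyclic block of odd size
    obtain ⟨v, hvW, hvc⟩ := htopE hod
    obtain ⟨w, hwspan, hwe, hwc, hwk⟩ := nf_odd_sym h2 B hsym X hX e v (hnil v hvW) hvc
    have hwW : w ∈ W := by
      refine (Submodule.span_le.mpr ?_) hwspan
      rintro _ ⟨i, rfl⟩
      exact hpowW i v hvW
    have hgram : ∀ k : ℕ, B w ((X ^ k) w) =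
        if k + 1 = e then B v ((X ^ (e - 1)) v) else 0 := by
      intro k
      split_ifs with hk
      · have : k = e - 1 := by omega
        rw [this, hwc]
      · exact hwk k (by omega)
    have hE := block_odd_sym B X hX e he0 w hwe _ hvc hgram
    refine step B hsym X hX N W hW hWX _ _ _ _ hE ?_ (fun _ => heN) ?_ ih'
    · refine Submodule.span_le.mpr ?_
      rintro _ ⟨⟨j, i⟩, rfl⟩
      exact hpowW _ w hwW
    · intro s hs
      have : IsEmpty {j : Unit // (fun _ : Unit => e) j = s} := by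
        constructor
        rintro ⟨_, hj⟩
        have hj' : e = s := hj
        rw [hj'] at hod
        exact (Nat.not_even_iff_odd.mpr hod) hs
      simp

end Cfsg.Agent.S2558P
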