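import Mathlib
import Cfsg.Agent.Helper7.S2482U3
import Cfsg.Agent.Helper7.S2558STRUCT
import Cfsg.Agent.Helper7.S2558ISOTYPE

/-!
# S2558 (class numbers of `O^±_{2n}(q)`, `q` odd), chapter U3: unipotent isometries of SYMMETRIC spaces

Twin of `Cfsg.Agent.Helper7.S2482U3`. `B` symmetric nondegenerate, `u` a unipotent isometry with Cayley
transform `X` (`U3.cayley_unip`, form-agnostic). The frames of `(B, X)` classify `u`:

* `U3S.unip_iso_sym`    : linearly conjugate unipotent isometries with the same signs `U3.usgn` on the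
                          ODD sizes are isometrically conjugate;
* `U3S.unip_parity_sym` : the number of Jordan blocks of EVEN size `s` is even; the sign is trivial when
                          there is no block of size `s`.
-/

set_option autoImplicit false

namespace Cfsg.Agent.S2558P

open Cfsg.Agent.S2676P Cfsg.Agent.S5956P Cfsg.Agent.S2482P
open Cfsg.Agent.Helper2.SympInvol (Nondeg)

namespace U3S

variable {F V : Type*} [Field F] [AddCommGroup V] [Module F V]

/-- **U3 main, symmetric case** -/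
theorem unip_iso_sym {V' : Type*} [AddCommGroup V'] [Module F V'] [Fintype F]
    [FiniteDimensional F V] [FiniteDimensional F V'] (h2 : (2 : F) ≠ 0)
    (B : LinearMap.BilinForm F V) (hsym : ∀ u v, B u v = B v u) (hnd : Nondeg B ⊤)
    (B' : LinearMap.BilinForm F V') (hsym' : ∀ u v, B' u v = B' v u) (hnd' : Nondeg B' ⊤)
    (u : Module.End F V) (hu : ∀ x y, B (u x) (u y) = B x y)
    (u' : Module.End F V') (hu' : ∀ x y, B' (u' x) (u' y) = B' x y)
    (N : ℕ) (hN : (u - 1) ^ N = 0) (hN' : (u' - 1) ^ N = 0)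
    (T : V ≃ₗ[F] V') (hT : ∀ v, T (u v) = u' (T v))
    (hsgn : ∀ s : ℕ, Odd s → (U3.usgn B u s ↔ U3.usgn B' u' s)) :
    ∃ φ : V ≃ₗ[F] V', (∀ x y, B' (φ x) (φ y) = B x y) ∧ ∀ v, φ (u v) = u' (φ v) := by
  obtain ⟨X, hX, hXN, hXu, -⟩ := U3.cayley_unip h2 B u hu N hN
  obtain ⟨X', hX', hXN', hXu', -⟩ := U3.cayley_unip h2 B' u' hu' N hN'
  obtain ⟨ι, fι, dι, a, K, g, hf, -, -⟩ := exists_frame_sym h2 B hsym X hX N hXN ⊤ hnd
    (fun v _ => Submodule.mem_top)
  obtain ⟨ι', fι', dι', a', K', g', hf', -, -⟩ := exists_frame_sym h2 B' hsym' X' hX' N hXN' ⊤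
    hnd' (fun v _ => Submodule.mem_top)
  have hTX := U3.cayley_intertwine h2 T u X u' X' hXu hXu' hT
  have hμ : Multiset.map a Finset.univ.val = Multiset.map a' Finset.univ.val := by
    apply multiset_eq_of_kdim
    · intro b hb
      obtain ⟨j, -, rfl⟩ := Multiset.mem_map.mp hb
      exact hf.pos j
    · intro b hb
      obtain ⟨j, -, rfl⟩ := Multiset.mem_map.mp hb
      exact hf'.pos j
    · intro k
      rw [TYPEUNIQ.kdim_map, TYPEUNIQ.kdim_map, ← (frame_ker B X ⊤ a K g hf k).1,
        ← (frame_ker B' X' ⊤ a' K' g' hf' k).1, top_inf_eq, top_inf_eq]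
      exact U3.finrank_ker_eq T X X' hTX k
  have hε : ∀ s : ℕ, Odd s →
      (IsSquare (K.toSquareBlock a s).det ↔ IsSquare (K'.toSquareBlock a' s).det) := by
    intro s hs
    rw [← U3.usgn_iff_of_frame h2 B u X hXu a K g hf s,
      ← U3.usgn_iff_of_frame h2 B' u' X' hXu' a' K' g' hf' s]
    exact hsgn s hs
  obtain ⟨φ, hφB, hφX⟩ := iso_of_same_type_sym h2 B hsym X hX B' hsym' X' hX' a K g a' K' g'
    hf hf' hμ hε
  exact ⟨φ, hφB, cayley_conj h2 φ u X u' X' hXu hXu' hφX⟩

/-- **U3 parity, symmetric case** -/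
theorem unip_parity_sym [FiniteDimensional F V] (h2 : (2 : F) ≠ 0)
    (B : LinearMap.BilinForm F V) (hsym : ∀ u v, B u v = B v u) (hnd : Nondeg B ⊤)
    (u : Module.End F V) (hu : ∀ x y, B (u x) (u y) = B x y)
    (N : ℕ) (hN : (u - 1) ^ N = 0) (s : ℕ) (hs : 1 ≤ s) :
    ∃ c : ℕ, 2 * Module.finrank F (LinearMap.ker ((u - 1) ^ s)) =
        Module.finrank F (LinearMap.ker ((u - 1) ^ (s - 1))) +
          Module.finrank F (LinearMap.ker ((u - 1) ^ (s + 1))) + c ∧
      (Even s → Even c) ∧ (c = 0 → U3.usgn B u s) := by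
  classical
  obtain ⟨X, hX, hXN, hXu, hker⟩ := U3.cayley_unip h2 B u hu N hN
  obtain ⟨ι, fι, dι, a, K, g, hf, -, hpar⟩ := exists_frame_sym h2 B hsym X hX N hXN ⊤ hnd
    (fun v _ => Submodule.mem_top)
  have hk : ∀ k : ℕ, Module.finrank F (LinearMap.ker ((u - 1) ^ k)) = ∑ j, min k (a j) := by
    intro k
    rw [← hker k, ← (frame_ker B X ⊤ a K g hf k).1, top_inf_eq]
  refine ⟨Fintype.card {j // a j = s}, ?_, fun hev => hpar s hev, ?_⟩
  · rw [hk, hk, hk, Fintype.card_subtype, Finset.card_eq_sum_ones, Finset.sum_filter,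
      Finset.mul_sum, ← Finset.sum_add_distrib, ← Finset.sum_add_distrib]
    refine Finset.sum_congr rfl (fun j _ => ?_)
    have := hf.pos j
    split_ifs with h
    · rw [h]
      have h1 : min s s = s := min_self s
      have h3 : min (s - 1) s = s - 1 := min_eq_left (by omega)
      have h4 : min (s + 1) s = s := min_eq_right (by omega)
      rw [h1, h3, h4]
      omega
    · rcases Nat.lt_or_gt_of_ne h with hlt | hgt
      · have h1 : min s (a j) = a j := min_eq_right (by omega)
        have h3 : min (s - 1) (a j) = a j := min_eq_right (by omega)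
        have h4 : min (s + 1) (a j) = a j := min_eq_right (by omega)
        rw [h1, h3, h4]
        omega
      · have h1 : min s (a j) = s := min_eq_left (by omega)
        have h3 : min (s - 1) (a j) = s - 1 := min_eq_left (by omega)
        have h4 : min (s + 1) (a j) = s + 1 := min_eq_left (by omega)
        rw [h1, h3, h4]
        omega
  · intro hc
    rw [U3.usgn_iff_of_frame h2 B u X hXu a K g hf s]
    have hempty : IsEmpty {j // a j = s} := Fintype.card_eq_zero_iff.1 hc
    have : (K.toSquareBlock a s).det = 1 := Matrix.det_isEmpty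
    rw [this]
    exact ⟨1, by ring⟩

end U3S

end Cfsg.Agent.S2558P
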