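import Mathlib
import Cfsg.Agent.Helper17.S2558GDefs
import Cfsg.Agent.Helper7.S2482CAYG
import Cfsg.Agent.Helper7.S2558U3
import Cfsg.Agent.Helper7.S2558ISOTYPE
import Cfsg.Agent.Helper7.S2558STRUCT

/-!
# S2558 chapter (G), pieces USKDIMO, EXUNISIGNO, CLASSUO (unipotent parts, orthogonal twins)

Orthogonal twins of `USKDIM`, `EXUNISIGN`, `CLASSU` of `Cfsg.Agent.Helper7.S2482CAYG`; `CAYG.exists_cayley` and
`CAYG.ker_pow_eq` there are form-agnostic and are reused.
-/

set_option autoImplicit false

namespace Cfsg.Agent.S2558P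

open Polynomial Cfsg.Agent.Helper2.SympInvol Cfsg.Agent.S2676P Cfsg.Agent.S2478P Cfsg.Agent.S2481P
  Cfsg.Agent.S2482P

universe u

variable {F : Type u} [Field F]

namespace USKDIMO

theorem kdim_relation (h2 : (2 : F) ≠ 0) (S : SpSpace F) (c : ℕ → ℕ) (s : ℕ → Bool)
    (h : UniSignO S.B S.g c s) :
    c 0 = 0 ∧ ∀ m, 1 ≤ m → c m + S.kdim 1 (m - 1) + S.kdim 1 (m + 1) = 2 * S.kdim 1 m := by
  classical
  obtain ⟨X, ι, fι, dι, a, K, v, hX, hXu, hf, hc, -⟩ := h
  have hk : ∀ k : ℕ, S.kdim 1 k = ∑ j, min k (a j) := by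
    intro k
    unfold SpSpace.kdim
    rw [map_one, ← CAYG.ker_pow_eq h2 S.g X hXu k, ← (frame_ker S.B X ⊤ a K v hf k).1, top_inf_eq]
  constructor
  · rw [hc 0, Fintype.card_eq_zero_iff]
    constructor
    rintro ⟨j, hj⟩
    have := hf.pos j
    omega
  · intro m hm
    rw [hk, hk, hk, hc m, Fintype.card_subtype, Finset.card_eq_sum_ones, Finset.sum_filter,
      Finset.mul_sum, ← Finset.sum_add_distrib, ← Finset.sum_add_distrib]
    refine Finset.sum_congr rfl (fun j _ => ?_)
    have := hf.pos j
    split_ifs with h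
    · rw [h]
      have h1 : min m m = m := min_self m
      have h3 : min (m - 1) m = m - 1 := min_eq_left (by omega)
      have h4 : min (m + 1) m = m := min_eq_right (by omega)
      rw [h1, h3, h4]
      omega
    · rcases Nat.lt_or_gt_of_ne h with hlt | hgt
      · have h1 : min m (a j) = a j := min_eq_right (by omega)
        have h3 : min (m - 1) (a j) = a j := min_eq_right (by omega)
        have h4 : min (m + 1) (a j) = a j := min_eq_right (by omega)
        rw [h1, h3, h4]
        omega
      · have h1 : min m (a j) = m := min_eq_left (by omega)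
        have h3 : min (m - 1) (a j) = m - 1 := min_eq_left (by omega)
        have h4 : min (m + 1) (a j) = m + 1 := min_eq_left (by omega)
        rw [h1, h3, h4]
        omega

end USKDIMO

namespace EXUNISIGNO

theorem exists_uniSignO (h2 : (2 : F) ≠ 0) (S : SpSpace F) (hS : S.IsOrth)
    (hn : IsNilpotent (S.g - 1)) :
    ∃ (c : ℕ → ℕ) (s : ℕ → Bool), UniSignO S.B S.g c s ∧ ∀ m, Even m → Even (c m) := by
  classical
  obtain ⟨N, hN⟩ := hn
  obtain ⟨X, hX, hXN, hXu, -⟩ := U3.cayley_unip h2 S.B S.g hS.isom N hN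
  obtain ⟨ι, fι, dι, a, K, v, hf, -, hpar⟩ := exists_frame_sym h2 S.B hS.symm X hX N hXN ⊤
    hS.nondeg (fun v _ => Submodule.mem_top)
  refine ⟨fun m => Fintype.card {j // a j = m},
    fun m => decide (Odd m ∧ 0 < Fintype.card {j // a j = m} ∧
      ¬ IsSquare (K.toSquareBlock a m).det), ?_, fun m hm => hpar m hm⟩
  refine ⟨X, ι, fι, dι, a, K, v, hX, hXu, hf, fun m => rfl, fun m => ?_⟩
  simp only [decide_eq_true_eq]

end EXUNISIGNO

namespace CLASSUO

theorem iso_of_uniSignO [Fintype F] (h2 : (2 : F) ≠ 0) (S S' : SpSpace F) (hS : S.IsOrth)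
    (hS' : S'.IsOrth) (c : ℕ → ℕ) (s : ℕ → Bool) (h : UniSignO S.B S.g c s)
    (h' : UniSignO S'.B S'.g c s) : S.Iso S' := by
  classical
  obtain ⟨X, ι, fι, dι, a, K, v, hX, hXu, hf, hc, hs⟩ := h
  obtain ⟨X', ι', fι', dι', a', K', v', hX', hXu', hf', hc', hs'⟩ := h'
  have hμ : Multiset.map a Finset.univ.val = Multiset.map a' Finset.univ.val := by
    ext m
    rw [Multiset.count_map, Multiset.count_map]
    have e1 : (Multiset.filter (fun j => m = a j) Finset.univ.val).card =
        Fintype.card {j // a j = m} := by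
      rw [Fintype.card_subtype]
      change (Finset.filter (fun j => m = a j) Finset.univ).card = _
      congr 1
      ext j
      simp [eq_comm]
    have e2 : (Multiset.filter (fun j => m = a' j) Finset.univ.val).card =
        Fintype.card {j // a' j = m} := by
      rw [Fintype.card_subtype]
      change (Finset.filter (fun j => m = a' j) Finset.univ).card = _
      congr 1
      ext j
      simp [eq_comm]
    rw [e1, e2, ← hc m, ← hc' m]
  have hε : ∀ m : ℕ, Odd m →
      (IsSquare (K.toSquareBlock a m).det ↔ IsSquare (K'.toSquareBlock a' m).det) := by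
    intro m hm
    by_cases h0 : c m = 0
    · have he : IsEmpty {j // a j = m} := by
        rw [← Fintype.card_eq_zero_iff, ← hc m]; exact h0
      have he' : IsEmpty {j // a' j = m} := by
        rw [← Fintype.card_eq_zero_iff, ← hc' m]; exact h0
      have d1 : (K.toSquareBlock a m).det = 1 := Matrix.det_isEmpty
      have d2 : (K'.toSquareBlock a' m).det = 1 := Matrix.det_isEmpty
      rw [d1, d2]
    · have hpos : 0 < c m := Nat.pos_of_ne_zero h0
      have q1 := hs m
      have q2 := hs' m
      constructor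
      · intro hsq
        by_contra hnsq
        have : s m = true := q2.2 ⟨hm, hpos, hnsq⟩
        exact (q1.1 this).2.2 hsq
      · intro hsq
        by_contra hnsq
        have : s m = true := q1.2 ⟨hm, hpos, hnsq⟩
        exact (q2.1 this).2.2 hsq
  obtain ⟨φ, hφB, hφX⟩ := iso_of_same_type_sym h2 S.B hS.symm X hX S'.B hS'.symm X' hX' a K v
    a' K' v' hf hf' hμ hε
  exact ⟨φ, hφB, cayley_conj h2 φ S.g X S'.g X' hXu hXu' hφX⟩

end CLASSUO

end Cfsg.Agent.S2558P
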