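import Mathlib
import Cfsg.Prelude.Def_ClassicalGeometry
import Cfsg.Agent.Helper7.S2676Defs
import Cfsg.Agent.Helper7.S2676FRAMEND

/-! S2558 piece GRAMDET (helper7): the Gram determinant of the basis of a frame.

For a frame `(a, K, g)` of the whole space the vectors `X^i g_j` form a basis, and the Gram matrix in
this basis is the orthogonal sum over the sizes `s` of the Kronecker products `K_s ⊗ A_s`, where
`A_s = antiA F s` is the signed antidiagonal matrix of size `s`.  Hence

`det Gram = ∏ s ≤ N, det (K_s) ^ s * det (A_s) ^ (c s)`,  `c s = #{j | a j = s}`.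

(form-agnostic: valid for alternating and for symmetric forms)
-/

set_option autoImplicit false

namespace Cfsg.Agent.S2558P

open Cfsg.Agent.S2676P Cfsg.Agent.Helper2.SympInvol

namespace GRAMDET

open Matrix

/-- the signed antidiagonal matrix: `A i l = (-1)^i` if `i + l + 1 = s` -/
def antiA (F : Type*) [Field F] (s : ℕ) : Matrix (Fin s) (Fin s) F :=
  fun i l => if (i : ℕ) + (l : ℕ) + 1 = s then (-1) ^ (i : ℕ) else 0

theorem antiA_mul_self (F : Type*) [Field F] (s : ℕ) :
    antiA F s * antiA F s = ((-1 : F) ^ (s + 1)) • (1 : Matrix (Fin s) (Fin s) F) := by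
  ext i l
  rw [Matrix.mul_apply, Matrix.smul_apply, Matrix.one_apply, smul_eq_mul]
  have hk : s - 1 - (i : ℕ) < s := by have := i.2; omega
  rw [Finset.sum_eq_single (⟨s - 1 - (i : ℕ), hk⟩ : Fin s)]
  · unfold antiA
    have hi := i.2
    rw [if_pos (by show (i : ℕ) + (s - 1 - (i : ℕ)) + 1 = s; omega)]
    by_cases hil : i = l
    · subst hil
      rw [if_pos (by show (s - 1 - (i : ℕ)) + (i : ℕ) + 1 = s; omega), if_pos rfl, mul_one]
      have : (i : ℕ) + (s - 1 - (i : ℕ)) + 2 = s + 1 := by omega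
      rw [← this, pow_add, pow_add]
      simp
    · rw [if_neg hil, mul_zero, if_neg, mul_zero]
      intro h
      apply hil
      apply Fin.ext
      have : ((⟨s - 1 - (i : ℕ), hk⟩ : Fin s) : ℕ) = s - 1 - (i : ℕ) := rfl
      omega
  · intro k _ hk'
    unfold antiA
    rw [if_neg, zero_mul]
    intro h
    apply hk'
    apply Fin.ext
    show (k : ℕ) = s - 1 - (i : ℕ)
    omega
  · intro h
    exact absurd (Finset.mem_univ _) h

theorem isUnit_det_antiA (F : Type*) [Field F] (s : ℕ) : IsUnit (antiA F s).det := by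
  apply Matrix.isUnit_det_of_right_inverse (B := ((-1 : F) ^ (s + 1)) • antiA F s)
  rw [Matrix.mul_smul, antiA_mul_self, smul_smul, ← pow_add]
  have : (-1 : F) ^ (s + 1 + (s + 1)) = 1 := by
    rw [← two_mul, pow_mul]
    simp
  rw [this, one_smul]

variable {F : Type*} [Field F] {ι : Type}

/-- the block of size `s` of the index set of the frame basis -/
def blkEquiv (a : ι → ℕ) (s : ℕ) :
    {x : (j : ι) × Fin (a j) // a x.1 = s} ≃ {j // a j = s} × Fin s where
  toFun x := (⟨x.1.1, x.2⟩, Fin.cast x.2 x.1.2)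
  invFun y := ⟨⟨y.1.1, Fin.cast y.1.2.symm y.2⟩, y.1.2⟩
  left_inv := by
    rintro ⟨⟨j, i⟩, h⟩
    rfl
  right_inv := by
    rintro ⟨⟨j, h⟩, i⟩
    rfl

/-- the abstract Gram matrix of a frame -/
def gramM (a : ι → ℕ) (K : Matrix ι ι F) :
    Matrix ((j : ι) × Fin (a j)) ((j : ι) × Fin (a j)) F :=
  fun x y => if (x.2 : ℕ) + (y.2 : ℕ) + 1 = a x.1 then (-1) ^ (x.2 : ℕ) * K x.1 y.1 else 0

theorem gramM_block (a : ι → ℕ) (K : Matrix ι ι F) (s : ℕ) :
    (gramM a K).toSquareBlock (fun x => a x.1) s =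
      (Matrix.kroneckerMap (· * ·) (K.toSquareBlock a s) (antiA F s)).submatrix
        (blkEquiv a s) (blkEquiv a s) := by
  ext ⟨⟨j, i⟩, h⟩ ⟨⟨j', l⟩, h'⟩
  simp only [Matrix.toSquareBlock_def, Matrix.of_apply, Matrix.submatrix_apply,
    Matrix.kroneckerMap_apply, gramM, antiA, blkEquiv, Equiv.coe_fn_mk, Fin.val_cast]
  have h1 : a j = s := h
  by_cases hc : (i : ℕ) + (l : ℕ) + 1 = a j
  · rw [if_pos hc, if_pos (by omega)]
    ring
  · rw [if_neg hc, if_neg (by omega), mul_zero]

theorem gramM_det [Fintype ι] [DecidableEq ι] (a : ι → ℕ) (K : Matrix ι ι F) (hpos : ∀ j, 0 < a j)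
    (hoff : ∀ j j', a j ≠ a j' → K j j' = 0) (N : ℕ) (hN : ∀ j, a j ≤ N) :
    (gramM a K).det = ∏ s ∈ Finset.range (N + 1),
      (K.toSquareBlock a s).det ^ s * (antiA F s).det ^ Fintype.card {j // a j = s} := by
  have hbt : Matrix.BlockTriangular (gramM a K) (fun x => a x.1) := by
    intro x y hxy
    have hxy' : a y.1 < a x.1 := hxy
    unfold gramM
    split_ifs
    · rw [hoff x.1 y.1 (by omega), mul_zero]
    · rfl
  rw [hbt.det]
  have hterm : ∀ s, ((gramM a K).toSquareBlock (fun x => a x.1) s).det =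
      (K.toSquareBlock a s).det ^ s * (antiA F s).det ^ Fintype.card {j // a j = s} := by
    intro s
    rw [gramM_block, Matrix.det_submatrix_equiv_self]
    have := Matrix.det_kronecker (K.toSquareBlock a s) (antiA F s)
    rw [Fintype.card_fin] at this
    exact this
  simp only [hterm]
  apply Finset.prod_subset
  · intro s hs
    rw [Finset.mem_image] at hs
    obtain ⟨x, _, rfl⟩ := hs
    rw [Finset.mem_range]
    have := hN x.1
    omega
  · intro s _ hs
    have hemp : IsEmpty {j // a j = s} := by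
      constructor
      rintro ⟨j, hj⟩
      apply hs
      rw [Finset.mem_image]
      exact ⟨⟨j, ⟨0, hpos j⟩⟩, Finset.mem_univ _, hj⟩
    rw [Matrix.det_isEmpty, one_pow, Fintype.card_eq_zero, pow_zero, one_mul]

/-- the Gram determinant of the basis of a frame -/
theorem gram_det {V : Type*} [AddCommGroup V] [Module F V] [Fintype ι] [DecidableEq ι]
    (B : LinearMap.BilinForm F V) (X : Module.End F V) (a : ι → ℕ) (K : Matrix ι ι F)
    (g : ι → V) (hf : IsFrame B X ⊤ a K g) (N : ℕ) (hN : ∀ j, a j ≤ N) :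
    ∃ b : Module.Basis ((j : ι) × Fin (a j)) F V, (∀ x, b x = fvec X a g x) ∧
      (LinearMap.BilinForm.toMatrix b B).det = ∏ s ∈ Finset.range (N + 1),
        (K.toSquareBlock a s).det ^ s * (antiA F s).det ^ Fintype.card {j // a j = s} := by
  obtain ⟨hli, -, -⟩ := frame_nondeg B X ⊤ a K g hf
  refine ⟨Module.Basis.mk hli (by rw [hf.span]), fun x => by rw [Module.Basis.mk_apply], ?_⟩
  rw [← gramM_det a K hf.pos hf.offdiag N hN]
  congr 1
  ext x y
  rw [LinearMap.BilinForm.toMatrix_apply, Module.Basis.mk_apply, Module.Basis.mk_apply]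
  obtain ⟨j, i⟩ := x
  obtain ⟨j', l⟩ := y
  rw [fvec_mk, fvec_mk, hf.gram]
  rfl

end GRAMDET

end Cfsg.Agent.S2558P
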