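import Mathlib
import Cfsg.Prelude.Def_ClassicalGeometry
import Cfsg.Agent.Helper7.S2558GRAMDET
import Cfsg.Agent.Helper17.S2558GDefs

/-! S2558 piece UNIDISC (helper7): the discriminant of a unipotent orthogonal space is determined, modulo
squares, by the sizes `c` and the signs `s` of `UniSignO`.

* `UNIDISC.chi_basis` : for any basis `b` indexed by `Fin k`, the quadratic character of the Gram determinant is
  `∏ m ≤ r, (-1)^(s m) * χ(det A_m)^(c m)`.
* `UNIDISC.finrank_eq` : `dim V = ∑ m ≤ r, m * c m`.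
* `UNIDISC.unidisc` : `SameDisc S S' ↔ Even (∑ m ≤ r, (s m + s' m))` for the same `c`.
-/

set_option autoImplicit false

namespace Cfsg.Agent.S2558P

open Cfsg.Agent.S2676P Cfsg.Agent.Helper2.SympInvol Cfsg.Agent.S2482P

namespace UNIDISC

open GRAMDET

variable {F : Type*} [Field F] [Fintype F] [DecidableEq F]

/-- the character of one factor of the Gram determinant -/
theorem chi_block (d dA : F) (hd : d ≠ 0) (hdA : dA ≠ 0) (m cm : ℕ) (hemp : cm = 0 → d = 1)
    (sm : Bool) (hs : sm = true ↔ (Odd m ∧ 0 < cm ∧ ¬ IsSquare d)) :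
    quadraticChar F (d ^ m * dA ^ cm) = (-1) ^ sm.toNat * (quadraticChar F dA) ^ cm := by
  rw [map_mul, map_pow, map_pow]
  congr 1
  cases hsm : sm
  · rw [Bool.toNat_false, pow_zero]
    have hn : ¬ (Odd m ∧ 0 < cm ∧ ¬ IsSquare d) := by
      rw [← hs, hsm]
      simp
    by_cases hm : Odd m
    · by_cases hc : 0 < cm
      · have hsq : IsSquare d := by
          by_contra h
          exact hn ⟨hm, hc, h⟩
        rw [(quadraticChar_one_iff_isSquare hd).mpr hsq, one_pow]
      · rw [hemp (by omega), map_one, one_pow]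
    · rw [Nat.not_odd_iff_even] at hm
      obtain ⟨t, rfl⟩ := hm
      rw [← two_mul, pow_mul, quadraticChar_sq_one hd, one_pow]
  · rw [Bool.toNat_true, pow_one]
    obtain ⟨hm, -, hnsq⟩ := hs.mp hsm
    rw [quadraticChar_neg_one_iff_not_isSquare.mpr hnsq, hm.neg_one_pow]

/-- the number of vectors of the frame basis -/
theorem card_sigma {ι : Type} [Fintype ι] [DecidableEq ι] (a : ι → ℕ) (r : ℕ)
    (hr : ∀ j, a j ≤ r) :
    Fintype.card ((j : ι) × Fin (a j)) =
      ∑ m ∈ Finset.range (r + 1), m * Fintype.card {j // a j = m} := by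
  rw [Fintype.card_sigma]
  simp only [Fintype.card_fin]
  rw [← Finset.sum_fiberwise_of_maps_to (s := Finset.univ) (t := Finset.range (r + 1)) (g := a)
    (fun j _ => by rw [Finset.mem_range]; have := hr j; omega)]
  apply Finset.sum_congr rfl
  intro m _
  rw [Fintype.card_subtype, Finset.card_eq_sum_ones, Finset.mul_sum]
  apply Finset.sum_congr rfl
  intro j hj
  rw [Finset.mem_filter] at hj
  rw [hj.2, mul_one]

variable {V : Type*} [AddCommGroup V] [Module F V]

/-- the dimension -/
theorem finrank_eq (B : LinearMap.BilinForm F V) (g : Module.End F V) (c : ℕ → ℕ) (s : ℕ → Bool)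
    (hU : UniSignO B g c s) (r : ℕ) (hr : ∀ m, r < m → c m = 0) :
    Module.finrank F V = ∑ m ∈ Finset.range (r + 1), m * c m := by
  classical
  obtain ⟨X, ι, _, _, a, K, v, -, -, hf, hc, -⟩ := hU
  have har : ∀ j, a j ≤ r := by
    intro j
    by_contra h
    have h0 := hr (a j) (by omega)
    rw [hc, Fintype.card_eq_zero_iff] at h0
    exact h0.false ⟨j, rfl⟩
  obtain ⟨b, -, -⟩ := gram_det B X a K v hf r har
  rw [Module.finrank_eq_card_basis b, card_sigma a r har]
  apply Finset.sum_congr rfl
  intro m _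
  rw [hc]

/-- the character of the Gram determinant in any basis -/
theorem chi_basis (B : LinearMap.BilinForm F V) (g : Module.End F V) (c : ℕ → ℕ) (s : ℕ → Bool)
    (hU : UniSignO B g c s) (r : ℕ) (hr : ∀ m, r < m → c m = 0) (k : ℕ)
    (b : Module.Basis (Fin k) F V) :
    quadraticChar F (LinearMap.BilinForm.toMatrix b B).det =
      ∏ m ∈ Finset.range (r + 1),
        ((-1) ^ (s m).toNat * (quadraticChar F (antiA F m).det) ^ c m) := by
  classical
  obtain ⟨X, ι, _, _, a, K, v, -, -, hf, hc, hs⟩ := hU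
  have har : ∀ j, a j ≤ r := by
    intro j
    by_contra h
    have h0 := hr (a j) (by omega)
    rw [hc, Fintype.card_eq_zero_iff] at h0
    exact h0.false ⟨j, rfl⟩
  obtain ⟨b0, -, hdet⟩ := gram_det B X a K v hf r har
  have hcard : Fintype.card ((j : ι) × Fin (a j)) = Fintype.card (Fin k) := by
    rw [← Module.finrank_eq_card_basis b0, ← Module.finrank_eq_card_basis b]
  let e : ((j : ι) × Fin (a j)) ≃ Fin k := Fintype.equivOfCardEq hcard
  let b1 : Module.Basis (Fin k) F V := b0.reindex e
  have hb1 : LinearMap.BilinForm.toMatrix b1 B =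
      (LinearMap.BilinForm.toMatrix b0 B).submatrix e.symm e.symm := by
    ext x y
    rw [LinearMap.BilinForm.toMatrix_apply, Matrix.submatrix_apply,
      LinearMap.BilinForm.toMatrix_apply, Module.Basis.reindex_apply, Module.Basis.reindex_apply]
  have hchg := LinearMap.BilinForm.toMatrix_mul_basis_toMatrix (b := b1) b B
  have hP : (b1.toMatrix b).det ≠ 0 := by
    have h1 := Module.Basis.toMatrix_mul_toMatrix_flip b1 b
    have h2 := congrArg Matrix.det h1
    rw [Matrix.det_mul, Matrix.det_one] at h2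
    exact left_ne_zero_of_mul_eq_one h2
  rw [← hchg, Matrix.det_mul, Matrix.det_mul, Matrix.det_transpose, hb1,
    Matrix.det_submatrix_equiv_self, hdet, map_mul, map_mul, mul_comm, ← mul_assoc, ← pow_two,
    quadraticChar_sq_one hP, one_mul, map_prod]
  apply Finset.prod_congr rfl
  intro m _
  have hunit := hf.unit m
  have hdA := isUnit_det_antiA F m
  rw [← hc m]
  apply chi_block _ _ hunit.ne_zero hdA.ne_zero m (c m) _ (s m) (hs m)
  intro h0
  rw [hc m, Fintype.card_eq_zero_iff] at h0
  exact Matrix.det_isEmpty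

end UNIDISC

/-- **UNIDISC**: for two unipotent orthogonal spaces with the same sizes, the discriminants agree modulo
squares iff the number of `true` signs is even. -/
theorem UNIDISC.unidisc {F : Type*} [Field F] [Fintype F] (_h2 : (2 : F) ≠ 0) (S S' : SpSpace F)
    (c : ℕ → ℕ) (s s' : ℕ → Bool) (hU : UniSignO S.B S.g c s) (hU' : UniSignO S'.B S'.g c s')
    (r : ℕ) (hr : ∀ m, r < m → c m = 0) :
    S.SameDisc S' ↔
      Even (∑ m ∈ Finset.range (r + 1), ((s m).toNat + (s' m).toNat)) := by
  classical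
  have key : ∀ (k : ℕ) (b : Module.Basis (Fin k) F S.V) (b' : Module.Basis (Fin k) F S'.V),
      quadraticChar F ((LinearMap.BilinForm.toMatrix b S.B).det *
        (LinearMap.BilinForm.toMatrix b' S'.B).det) =
      (-1) ^ (∑ m ∈ Finset.range (r + 1), ((s m).toNat + (s' m).toNat)) := by
    intro k b b'
    rw [map_mul, UNIDISC.chi_basis S.B S.g c s hU r hr k b,
      UNIDISC.chi_basis S'.B S'.g c s' hU' r hr k b', ← Finset.prod_mul_distrib,
      ← Finset.prod_pow_eq_pow_sum]
    apply Finset.prod_congr rfl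
    intro m _
    have hdA := (GRAMDET.isUnit_det_antiA F m).ne_zero
    have h1 := quadraticChar_sq_one hdA
    rw [pow_add]
    have : ∀ x y z : ℤ, z ^ 2 = 1 → x * z ^ c m * (y * z ^ c m) = x * y := by
      intro x y z hz
      have : x * z ^ c m * (y * z ^ c m) = x * y * (z ^ 2) ^ c m := by ring
      rw [this, hz, one_pow, mul_one]
    exact this _ _ _ h1
  have hne : ∀ (k : ℕ) (b : Module.Basis (Fin k) F S.V) (b' : Module.Basis (Fin k) F S'.V),
      (LinearMap.BilinForm.toMatrix b S.B).det *
        (LinearMap.BilinForm.toMatrix b' S'.B).det ≠ 0 := by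
    intro k b b' h0
    have h1 := key k b b'
    rw [h0, MulChar.map_zero] at h1
    have h2 : ((-1 : ℤ) ^ (∑ m ∈ Finset.range (r + 1), ((s m).toNat + (s' m).toNat))) ≠ 0 :=
      pow_ne_zero _ (by norm_num)
    exact h2 h1.symm
  have hiff : ∀ (k : ℕ) (b : Module.Basis (Fin k) F S.V) (b' : Module.Basis (Fin k) F S'.V),
      IsSquare ((LinearMap.BilinForm.toMatrix b S.B).det *
        (LinearMap.BilinForm.toMatrix b' S'.B).det) ↔
      Even (∑ m ∈ Finset.range (r + 1), ((s m).toNat + (s' m).toNat)) := by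
    intro k b b'
    rw [← quadraticChar_one_iff_isSquare (hne k b b'), key k b b']
    exact neg_one_pow_eq_one_iff_even (by norm_num)
  constructor
  · rintro ⟨k, b, b', hsq⟩
    exact (hiff k b b').mp hsq
  · intro hev
    have hd : Module.finrank F S'.V = Module.finrank F S.V := by
      rw [UNIDISC.finrank_eq S.B S.g c s hU r hr, UNIDISC.finrank_eq S'.B S'.g c s' hU' r hr]
    exact ⟨Module.finrank F S.V, Module.finBasis F S.V, Module.finBasisOfFinrankEq F S'.V hd,
      (hiff _ _ _).mpr hev⟩

end Cfsg.Agent.S2558P
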