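import Mathlib
import Cfsg.Prelude.Def_Classical
import Cfsg.Agent.Helper17.S2558GDefs
import Cfsg.Agent.Helper7.S2558CAYG
import Cfsg.Agent.Helper7.S2558UNIDISC

/-! # S2558 chapter (G): pieces OUSKDIM, OEXUNISIGN, OCLASSU, UNIDISC with the names of the board `s2558g`
(thin wrappers of `Cfsg.Agent.Helper7.S2558CAYG` and `Cfsg.Agent.Helper7.S2558UNIDISC`). -/

set_option autoImplicit false

namespace Cfsg.Agent.S2558P

open Polynomial Cfsg.Agent.Helper2.SympInvol Cfsg.Agent.S2676P Cfsg.Agent.S2478P Cfsg.Agent.S2481P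
  Cfsg.Agent.S2482P

universe u

variable {F : Type u} [Field F]

namespace OUSKDIM

theorem kdim_relation (h2 : (2 : F) ≠ 0) (S : SpSpace F) (c : ℕ → ℕ) (s : ℕ → Bool)
    (h : UniSignO S.B S.g c s) :
    c 0 = 0 ∧ ∀ m, 1 ≤ m → c m + S.kdim 1 (m - 1) + S.kdim 1 (m + 1) = 2 * S.kdim 1 m :=
  USKDIMO.kdim_relation h2 S c s h

end OUSKDIM

namespace OEXUNISIGN

theorem exists_uniSign (h2 : (2 : F) ≠ 0) (S : SpSpace F) (hS : S.IsOrth)
    (hn : IsNilpotent (S.g - 1)) :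
    ∃ (c : ℕ → ℕ) (s : ℕ → Bool), UniSignO S.B S.g c s ∧ ∀ m, Even m → Even (c m) :=
  EXUNISIGNO.exists_uniSignO h2 S hS hn

end OEXUNISIGN

namespace OCLASSU

theorem iso_of_uniSign [Fintype F] (h2 : (2 : F) ≠ 0) (S S' : SpSpace F) (hS : S.IsOrth)
    (hS' : S'.IsOrth) (c : ℕ → ℕ) (s : ℕ → Bool) (h : UniSignO S.B S.g c s)
    (h' : UniSignO S'.B S'.g c s) : S.Iso S' :=
  CLASSUO.iso_of_uniSignO h2 S S' hS hS' c s h h'

end OCLASSU

namespace UNIDISC

/-- same multiplicities `c`: the discriminants agree iff the number of differing signs is even -/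
theorem sameDisc_iff [Fintype F] (h2 : (2 : F) ≠ 0) (S S' : SpSpace F) (_hS : S.IsOrth)
    (_hS' : S'.IsOrth) (c : ℕ → ℕ) (s s' : ℕ → Bool) (h : UniSignO S.B S.g c s)
    (h' : UniSignO S'.B S'.g c s') (r : ℕ) (hr : ∀ m, r < m → c m = 0) :
    S.SameDisc S' ↔ Even (∑ m ∈ Finset.range (r + 1), ((s m).toNat + (s' m).toNat)) :=
  UNIDISC.unidisc h2 S S' c s s' h h' r hr

end UNIDISC

end Cfsg.Agent.S2558P
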