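import Mathlib
import Cfsg.Prelude.Def_ClassicalGeometry
import Cfsg.Agent.Helper7.S2676Defs
import Cfsg.Agent.Helper7.S2558GRAMDET

/-! S2560 piece FRAMESUB (helper7): cyclic subspaces spanned by a combination of the generators of one size of a frame.

For a frame `(a, K, v)` of `(B, X)`, a size `m` and coefficients `lam` supported on `{j | a j = m}`, put
`w = ∑ lam j • v j` and `kap = ∑ lam j * lam j' * K j j'`.  Then `X^m w = 0`,
`B (X^i w) (X^l w) = (-1)^i * kap` if `i + l + 1 = m` and `0` otherwise; if `kap ≠ 0` the vectors `X^i w` (`i < m`) are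
linearly independent, their span `A_w` is `X`-invariant, nondegenerate of dimension `m`, and the Gram determinant in this basis
is `kap ^ m * det (antiA m)`.  (form-agnostic)
-/

set_option autoImplicit false

namespace Cfsg.Agent.S2560P

open Cfsg.Agent.S2676P Cfsg.Agent.Helper2.SympInvol Cfsg.Agent.S2558P

namespace FRAMESUB

variable {F V : Type*} [Field F] [AddCommGroup V] [Module F V] {ι : Type} [Fintype ι]
  [DecidableEq ι]

/-- the combination `∑ lam j • v j` of the generators -/
def wvec (v : ι → V) (lam : ι → F) : V := ∑ j, lam j • v j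

/-- the value `lamᵀ K lam` -/
def kap (K : Matrix ι ι F) (lam : ι → F) : F := ∑ j, ∑ j', lam j * lam j' * K j j'

theorem pow_wvec (X : Module.End F V) (v : ι → V) (lam : ι → F) (i : ℕ) :
    (X ^ i) (wvec v lam) = ∑ j, lam j • (X ^ i) (v j) := by
  unfold wvec
  rw [map_sum]
  simp only [map_smul]

theorem kill_w {B : LinearMap.BilinForm F V} {X : Module.End F V} {W : Submodule F V}
    {a : ι → ℕ} {K : Matrix ι ι F} {v : ι → V} (hf : IsFrame B X W a K v) (m : ℕ) (lam : ι → F)
    (hlam : ∀ j, a j ≠ m → lam j = 0) : (X ^ m) (wvec v lam) = 0 := by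
  rw [pow_wvec]
  apply Finset.sum_eq_zero
  intro j _
  by_cases h : a j = m
  · rw [← h, hf.kill, smul_zero]
  · rw [hlam j h, zero_smul]

theorem gram_w {B : LinearMap.BilinForm F V} {X : Module.End F V} {W : Submodule F V}
    {a : ι → ℕ} {K : Matrix ι ι F} {v : ι → V} (hf : IsFrame B X W a K v) (m : ℕ) (lam : ι → F)
    (hlam : ∀ j, a j ≠ m → lam j = 0) (i l : ℕ) :
    B ((X ^ i) (wvec v lam)) ((X ^ l) (wvec v lam)) =
      if i + l + 1 = m then (-1) ^ i * kap K lam else 0 := by
  simp only [pow_wvec, map_sum, LinearMap.sum_apply, map_smul, LinearMap.smul_apply, smul_eq_mul,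
    hf.gram]
  have hterm : ∀ j' j, lam j' * (lam j * (if i + l + 1 = a j then (-1) ^ i * K j j' else 0)) =
      if i + l + 1 = m then (-1) ^ i * (lam j * lam j' * K j j') else 0 := by
    intro j' j
    by_cases h : a j = m
    · rw [h]
      split_ifs
      · ring
      · simp
    · rw [hlam j h]
      split_ifs <;> simp
  simp only [Finset.mul_sum]
  rw [Finset.sum_congr rfl (fun j' _ => Finset.sum_congr rfl (fun j _ => hterm j' j)),
    Finset.sum_comm]
  split_ifs
  · unfold kap
    simp only [Finset.mul_sum]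
  · simp

/-- the family `X^i w`, `i < m` -/
def wfam (X : Module.End F V) (v : ι → V) (lam : ι → F) (m : ℕ) (i : Fin m) : V :=
  (X ^ (i : ℕ)) (wvec v lam)

/-- the cyclic subspace -/
abbrev Aw (X : Module.End F V) (v : ι → V) (lam : ι → F) (m : ℕ) : Submodule F V :=
  Submodule.span F (Set.range (wfam X v lam m))

theorem pair_sum {B : LinearMap.BilinForm F V} {X : Module.End F V} {W : Submodule F V}
    {a : ι → ℕ} {K : Matrix ι ι F} {v : ι → V} (hf : IsFrame B X W a K v) (m : ℕ) (lam : ι → F)
    (hlam : ∀ j, a j ≠ m → lam j = 0) (c : Fin m → F) (i₀ : Fin m) :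
    B (∑ i, c i • wfam X v lam m i) ((X ^ (m - 1 - (i₀ : ℕ))) (wvec v lam)) =
      c i₀ * ((-1) ^ (i₀ : ℕ) * kap K lam) := by
  rw [map_sum, LinearMap.sum_apply]
  simp only [map_smul, LinearMap.smul_apply, smul_eq_mul, wfam, gram_w hf m lam hlam]
  rw [Finset.sum_eq_single i₀]
  · rw [if_pos (by have := i₀.2; omega)]
  · intro i _ hi
    rw [if_neg, mul_zero]
    intro h
    apply hi
    apply Fin.ext
    have := i₀.2
    have := i.2
    omega
  · intro h
    exact absurd (Finset.mem_univ _) h

theorem linearIndependent_wfam {B : LinearMap.BilinForm F V} {X : Module.End F V}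
    {W : Submodule F V} {a : ι → ℕ} {K : Matrix ι ι F} {v : ι → V} (hf : IsFrame B X W a K v)
    (m : ℕ) (lam : ι → F) (hlam : ∀ j, a j ≠ m → lam j = 0) (hk : kap K lam ≠ 0) :
    LinearIndependent F (wfam X v lam m) := by
  rw [Fintype.linearIndependent_iff]
  intro c hc i₀
  have h := pair_sum hf m lam hlam c i₀
  rw [hc] at h
  simp only [map_zero, LinearMap.zero_apply] at h
  have h2 : ((-1 : F) ^ (i₀ : ℕ) * kap K lam) ≠ 0 :=
    mul_ne_zero (pow_ne_zero _ (by simp)) hk
  exact (mul_eq_zero.mp h.symm).resolve_right h2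

theorem nondeg_Aw {B : LinearMap.BilinForm F V} {X : Module.End F V}
    {W : Submodule F V} {a : ι → ℕ} {K : Matrix ι ι F} {v : ι → V} (hf : IsFrame B X W a K v)
    (m : ℕ) (lam : ι → F) (hlam : ∀ j, a j ≠ m → lam j = 0) (hk : kap K lam ≠ 0) :
    Nondeg B (Aw X v lam m) := by
  intro u hu hu0
  obtain ⟨c, rfl⟩ := (Submodule.mem_span_range_iff_exists_fun F).mp hu
  have hex : ∃ i₀, c i₀ ≠ 0 := by
    by_contra hcon
    push Not at hcon
    apply hu0
    apply Finset.sum_eq_zero
    intro i _
    rw [hcon i, zero_smul]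
  obtain ⟨i₀, hi₀⟩ := hex
  have hlt : m - 1 - (i₀ : ℕ) < m := by have := i₀.2; omega
  refine ⟨(X ^ (m - 1 - (i₀ : ℕ))) (wvec v lam),
    Submodule.subset_span ⟨⟨m - 1 - (i₀ : ℕ), hlt⟩, rfl⟩, ?_⟩
  rw [pair_sum hf m lam hlam c i₀]
  exact mul_ne_zero hi₀ (mul_ne_zero (pow_ne_zero _ (by simp)) hk)

theorem finrank_Aw {B : LinearMap.BilinForm F V} {X : Module.End F V}
    {W : Submodule F V} {a : ι → ℕ} {K : Matrix ι ι F} {v : ι → V} (hf : IsFrame B X W a K v)
    (m : ℕ) (lam : ι → F) (hlam : ∀ j, a j ≠ m → lam j = 0) (hk : kap K lam ≠ 0) :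
    Module.finrank F (Aw X v lam m) = m := by
  unfold Aw
  rw [finrank_span_eq_card (linearIndependent_wfam hf m lam hlam hk), Fintype.card_fin]

theorem map_Aw {B : LinearMap.BilinForm F V} {X : Module.End F V}
    {W : Submodule F V} {a : ι → ℕ} {K : Matrix ι ι F} {v : ι → V} (hf : IsFrame B X W a K v)
    (m : ℕ) (lam : ι → F) (hlam : ∀ j, a j ≠ m → lam j = 0) :
    ∀ u ∈ Aw X v lam m, X u ∈ Aw X v lam m := by
  intro u hu
  unfold Aw at hu ⊢
  induction hu using Submodule.span_induction with
  | mem x hx =>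
    obtain ⟨i, rfl⟩ := hx
    by_cases hi : (i : ℕ) + 1 < m
    · apply Submodule.subset_span
      refine ⟨⟨(i : ℕ) + 1, hi⟩, ?_⟩
      unfold wfam
      rw [pow_succ', Module.End.mul_apply]
    · have him : (i : ℕ) + 1 = m := by have := i.2; omega
      have : X (wfam X v lam m i) = 0 := by
        unfold wfam
        rw [← Module.End.mul_apply, ← pow_succ', him]
        exact kill_w hf m lam hlam
      rw [this]
      exact Submodule.zero_mem _
  | zero => rw [map_zero]; exact Submodule.zero_mem _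
  | add x y _ _ hx hy => rw [map_add]; exact Submodule.add_mem _ hx hy
  | smul c x _ hx => rw [map_smul]; exact Submodule.smul_mem _ _ hx

/-- the basis of `A_w` and its Gram determinant -/
theorem gram_det_Aw {B : LinearMap.BilinForm F V} {X : Module.End F V}
    {W : Submodule F V} {a : ι → ℕ} {K : Matrix ι ι F} {v : ι → V} (hf : IsFrame B X W a K v)
    (m : ℕ) (lam : ι → F) (hlam : ∀ j, a j ≠ m → lam j = 0) (hk : kap K lam ≠ 0) :
    ∃ b : Module.Basis (Fin m) F (Aw X v lam m), (∀ i, (b i : V) = wfam X v lam m i) ∧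
      (LinearMap.BilinForm.toMatrix b (B.restrict (Aw X v lam m))).det =
        kap K lam ^ m * (GRAMDET.antiA F m).det := by
  have hli := linearIndependent_wfam hf m lam hlam hk
  refine ⟨Module.Basis.span hli, fun i => congrArg Subtype.val (Module.Basis.span_apply hli i), ?_⟩
  have hG : LinearMap.BilinForm.toMatrix (Module.Basis.span hli) (B.restrict (Aw X v lam m)) =
      kap K lam • GRAMDET.antiA F m := by
    ext i l
    rw [LinearMap.BilinForm.toMatrix_apply, Module.Basis.span_apply, Module.Basis.span_apply,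
      Matrix.smul_apply, smul_eq_mul]
    change B ((X ^ (i : ℕ)) (wvec v lam)) ((X ^ (l : ℕ)) (wvec v lam)) = _
    unfold GRAMDET.antiA
    rw [gram_w hf m lam hlam]
    split_ifs
    · ring
    · ring
  rw [hG, Matrix.det_smul, Fintype.card_fin]

end FRAMESUB

end Cfsg.Agent.S2560P
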