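import Mathlib
import Cfsg.Prelude.Def_ClassicalGeometry
import Cfsg.Agent.Helper7.S2560FRAMESUB

/-! S2560 piece REPR (helper7): a nondegenerate symmetric bilinear form in at least two variables over a finite field of
odd characteristic represents every nonzero scalar; frame version: if the slot of size `m` of a frame has at least two
generators (and `K` is symmetric on it), every nonzero `c` is `kap K lam` for some `lam` supported on the slot. -/

set_option autoImplicit false

namespace Cfsg.Agent.S2560P

open Cfsg.Agent.S2676P Cfsg.Agent.Helper2.SympInvol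

namespace REPR

/-- `a x² + b y² = c` is solvable over a finite field of odd order -/
theorem exists_sq_add_sq {F : Type*} [Field F] [Fintype F] (h2 : (2 : F) ≠ 0) (a b c : F)
    (ha : a ≠ 0) (hb : b ≠ 0) : ∃ x y : F, a * x ^ 2 + b * y ^ 2 = c := by
  classical
  have hodd : Fintype.card F % 2 = 1 := by
    rcases Nat.even_or_odd (Fintype.card F) with he | ho
    · exfalso
      obtain ⟨p, hp⟩ := CharP.exists F
      have := hp
      have hpp : Fact p.Prime := ⟨CharP.char_is_prime F p⟩
      obtain ⟨n, -, hn⟩ := FiniteField.card F p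
      have h2p : 2 ∣ (p : ℕ) ^ (n : ℕ) := by
        rw [← hn]; exact even_iff_two_dvd.mp he
      have hp2 : p = 2 := ((Nat.prime_dvd_prime_iff_eq Nat.prime_two hpp.out).mp
        (Nat.Prime.dvd_of_dvd_pow Nat.prime_two h2p)).symm
      subst hp2
      apply h2
      have := CharP.cast_eq_zero F 2
      exact_mod_cast this
    · exact Nat.odd_iff.mp ho
  have hf : (Polynomial.C a * Polynomial.X ^ 2 : Polynomial F).degree = 2 := by
    rw [Polynomial.degree_C_mul_X_pow 2 ha]; rfl
  have hg : (Polynomial.C b * Polynomial.X ^ 2 - Polynomial.C c : Polynomial F).degree = 2 := by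
    rw [Polynomial.degree_sub_eq_left_of_degree_lt]
    · rw [Polynomial.degree_C_mul_X_pow 2 hb]; rfl
    · rw [Polynomial.degree_C_mul_X_pow 2 hb]
      exact lt_of_le_of_lt Polynomial.degree_C_le (by norm_num)
  obtain ⟨x, y, hxy⟩ := FiniteField.exists_root_sum_quadratic hf hg hodd
  refine ⟨x, y, ?_⟩
  simp only [Polynomial.eval_mul, Polynomial.eval_C, Polynomial.eval_pow, Polynomial.eval_X,
    Polynomial.eval_sub] at hxy
  linear_combination hxy

/-- a nondegenerate symmetric form in at least two variables is universal -/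
theorem exists_self_eq {F U : Type*} [Field F] [Fintype F] [AddCommGroup U] [Module F U]
    [FiniteDimensional F U] (h2 : (2 : F) ≠ 0) (B : LinearMap.BilinForm F U)
    (hsym : ∀ u v, B u v = B v u) (hnd : B.Nondegenerate) (hdim : 2 ≤ Module.finrank F U) (c : F) :
    ∃ u, B u u = c := by
  haveI : Invertible (2 : F) := invertibleOfNonzero h2
  have hS : LinearMap.IsSymm B := ⟨fun u v => by rw [RingHom.id_apply, hsym u v]⟩
  obtain ⟨v, hv⟩ := LinearMap.BilinForm.exists_orthogonal_basis hS
  have h0 : 0 < Module.finrank F U := by omega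
  have h1 : 1 < Module.finrank F U := by omega
  have hne0 := LinearMap.BilinForm.iIsOrtho.not_isOrtho_basis_self_of_nondegenerate (B := B) hv hnd
    ⟨0, h0⟩
  have hne1 := LinearMap.BilinForm.iIsOrtho.not_isOrtho_basis_self_of_nondegenerate (B := B) hv hnd
    ⟨1, h1⟩
  have h01 : B (v ⟨0, h0⟩) (v ⟨1, h1⟩) = 0 := by
    apply hv
    intro h
    have := congrArg Fin.val h
    simp at this
  obtain ⟨x, y, hxy⟩ := exists_sq_add_sq h2 _ _ c hne0 hne1
  refine ⟨x • v ⟨0, h0⟩ + y • v ⟨1, h1⟩, ?_⟩
  simp only [map_add, map_smul, LinearMap.add_apply, LinearMap.smul_apply, smul_eq_mul]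
  rw [hsym (v ⟨1, h1⟩) (v ⟨0, h0⟩), h01]
  linear_combination hxy

/-- matrix version -/
theorem exists_dot_eq {F s : Type*} [Field F] [Fintype F] [Fintype s] [DecidableEq s]
    (h2 : (2 : F) ≠ 0) (M : Matrix s s F) (hM : ∀ i j, M j i = M i j) (hdet : M.det ≠ 0)
    (hcard : 2 ≤ Fintype.card s) (c : F) : ∃ x : s → F, ∑ i, ∑ j, x i * x j * M i j = c := by
  have hnd : (Matrix.toBilin' M).Nondegenerate :=
    LinearMap.BilinForm.nondegenerate_toBilin'_iff_det_ne_zero.mpr hdet
  have hsym : ∀ u v, Matrix.toBilin' M u v = Matrix.toBilin' M v u := by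
    intro u v
    rw [Matrix.toBilin'_apply, Matrix.toBilin'_apply, Finset.sum_comm]
    apply Finset.sum_congr rfl
    intro i _
    apply Finset.sum_congr rfl
    intro j _
    rw [hM j i]
    ring
  obtain ⟨u, hu⟩ := exists_self_eq h2 (Matrix.toBilin' M) hsym hnd
    (by rw [Module.finrank_fintype_fun_eq_card]; exact hcard) c
  refine ⟨u, ?_⟩
  rw [← hu, Matrix.toBilin'_apply]
  apply Finset.sum_congr rfl
  intro i _
  apply Finset.sum_congr rfl
  intro j _
  ring

open FRAMESUB

/-- sums of functions supported on a slot -/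
theorem sum_slot {F : Type*} [Field F] {ι : Type} [Fintype ι] [DecidableEq ι] (a : ι → ℕ) (m : ℕ)
    (f : ι → F) (hf : ∀ j, a j ≠ m → f j = 0) : ∑ j, f j = ∑ i : {j // a j = m}, f i.1 := by
  rw [← Finset.sum_subtype (Finset.univ.filter (fun j => a j = m)) (by simp) f]
  rw [Finset.sum_filter_of_ne]
  intro j _ hj
  by_contra h
  exact hj (hf j h)

/-- frame version: a slot with at least two generators represents every scalar -/
theorem exists_kap {F : Type*} [Field F] [Fintype F] {ι : Type} [Fintype ι] [DecidableEq ι]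
    (h2 : (2 : F) ≠ 0) (a : ι → ℕ) (K : Matrix ι ι F) (m : ℕ)
    (hK : ∀ j j', a j = m → a j' = m → K j' j = K j j')
    (hunit : IsUnit (K.toSquareBlock a m).det) (hcard : 2 ≤ Fintype.card {j // a j = m})
    (c : F) : ∃ lam : ι → F, (∀ j, a j ≠ m → lam j = 0) ∧ kap K lam = c := by
  obtain ⟨x, hx⟩ := exists_dot_eq h2 (K.toSquareBlock a m)
    (fun i j => hK i.1 j.1 i.2 j.2) hunit.ne_zero hcard c
  refine ⟨fun j => if h : a j = m then x ⟨j, h⟩ else 0, fun j hj => dif_neg hj, ?_⟩
  rw [← hx]
  unfold kap
  rw [sum_slot a m]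
  · apply Finset.sum_congr rfl
    intro i _
    rw [sum_slot a m]
    · apply Finset.sum_congr rfl
      intro i' _
      beta_reduce
      rw [dif_pos i.2, dif_pos i'.2]
      rfl
    · intro j hj
      beta_reduce
      rw [dif_neg hj, mul_zero, zero_mul]
  · intro j hj
    apply Finset.sum_eq_zero
    intro j' _
    beta_reduce
    rw [dif_neg hj, zero_mul, zero_mul]

/-- frame version for a slot with exactly one generator -/
theorem kap_single {F : Type*} [Field F] {ι : Type} [Fintype ι] [DecidableEq ι]
    (K : Matrix ι ι F) (j₀ : ι) (t : F) :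
    kap K (fun j => if j = j₀ then t else 0) = t ^ 2 * K j₀ j₀ := by
  unfold kap
  rw [Finset.sum_eq_single j₀]
  · rw [Finset.sum_eq_single j₀]
    · beta_reduce
      rw [if_pos rfl]; ring
    · intro j _ hj
      beta_reduce
      rw [if_neg hj, mul_zero, zero_mul]
    · intro h; exact absurd (Finset.mem_univ _) h
  · intro j _ hj
    apply Finset.sum_eq_zero
    intro j' _
    beta_reduce
    rw [if_neg hj, zero_mul, zero_mul]
  · intro h; exact absurd (Finset.mem_univ _) h

end REPR

end Cfsg.Agent.S2560P
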