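import Mathlib
import Cfsg.Prelude.Def_ClassicalGeometry
import Cfsg.Agent.Helper7.S2558SKEW

/-! S2560 piece ZINV (helper7): the involution `z_A = (-1)_A ⊕ 1_{A^⊥}` of a nondegenerate subspace `A` of a symmetric
space: it is an isometry, squares to one, commutes with every endomorphism preserving `A` and `A^⊥`, and has
determinant `(-1)^(dim A)`. -/

set_option autoImplicit false

namespace Cfsg.Agent.S2560P

open Cfsg.Agent.S2676P Cfsg.Agent.Helper2.SympInvol Cfsg.Agent.Helper2.SympUnits Cfsg.Agent.S2558P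

namespace ZINV

variable {F V : Type*} [Field F] [AddCommGroup V] [Module F V] [FiniteDimensional F V]

/-- generic: for complementary subspaces `A`, `C` the map `-1 ⊕ 1` -/
noncomputable def zmap (A C : Submodule F V) (hc : IsCompl A C) : Module.End F V :=
  1 - (2 : F) • (A.subtype ∘ₗ Submodule.linearProjOfIsCompl A C hc)

theorem zmap_apply_left (A C : Submodule F V) (hc : IsCompl A C) (u : V) (hu : u ∈ A) :
    zmap A C hc u = -u := by
  unfold zmap
  rw [LinearMap.sub_apply, LinearMap.smul_apply, LinearMap.comp_apply, Module.End.one_apply]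
  have : Submodule.linearProjOfIsCompl A C hc u = ⟨u, hu⟩ :=
    Submodule.linearProjOfIsCompl_apply_left hc ⟨u, hu⟩
  rw [this, Submodule.subtype_apply, two_smul]
  abel

theorem zmap_apply_right (A C : Submodule F V) (hc : IsCompl A C) (u : V) (hu : u ∈ C) :
    zmap A C hc u = u := by
  unfold zmap
  rw [LinearMap.sub_apply, LinearMap.smul_apply, LinearMap.comp_apply, Module.End.one_apply]
  have : Submodule.linearProjOfIsCompl A C hc u = 0 :=
    (Submodule.linearProjOfIsCompl_apply_eq_zero_iff hc).mpr hu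
  rw [this, map_zero, smul_zero, sub_zero]

theorem exists_decomp (A C : Submodule F V) (hc : IsCompl A C) (u : V) :
    ∃ x ∈ A, ∃ y ∈ C, u = x + y := by
  have : u ∈ A ⊔ C := by rw [hc.sup_eq_top]; trivial
  obtain ⟨x, hx, y, hy, rfl⟩ := Submodule.mem_sup.mp this
  exact ⟨x, hx, y, hy, rfl⟩

theorem zmap_sq (A C : Submodule F V) (hc : IsCompl A C) : zmap A C hc * zmap A C hc = 1 := by
  apply LinearMap.ext
  intro u
  obtain ⟨x, hx, y, hy, rfl⟩ := exists_decomp A C hc u
  rw [Module.End.mul_apply, Module.End.one_apply, map_add, map_add, zmap_apply_left A C hc x hx,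
    zmap_apply_right A C hc y hy, map_neg, zmap_apply_left A C hc x hx, neg_neg,
    zmap_apply_right A C hc y hy]

theorem zmap_comm (A C : Submodule F V) (hc : IsCompl A C) (X : Module.End F V)
    (hA : ∀ u ∈ A, X u ∈ A) (hC : ∀ u ∈ C, X u ∈ C) : zmap A C hc * X = X * zmap A C hc := by
  apply LinearMap.ext
  intro u
  obtain ⟨x, hx, y, hy, rfl⟩ := exists_decomp A C hc u
  rw [Module.End.mul_apply, Module.End.mul_apply, map_add, map_add, map_add,
    zmap_apply_left A C hc x hx, zmap_apply_right A C hc y hy,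
    zmap_apply_left A C hc (X x) (hA x hx), zmap_apply_right A C hc (X y) (hC y hy), map_add,
    map_neg]

theorem zmap_isometry (B : LinearMap.BilinForm F V) (A C : Submodule F V) (hc : IsCompl A C)
    (h1 : Orth B A C) (h2 : Orth B C A) (u v : V) :
    B (zmap A C hc u) (zmap A C hc v) = B u v := by
  obtain ⟨x, hx, y, hy, rfl⟩ := exists_decomp A C hc u
  obtain ⟨x', hx', y', hy', rfl⟩ := exists_decomp A C hc v
  have e1 : zmap A C hc (x + y) = -x + y := by
    rw [map_add, zmap_apply_left A C hc x hx, zmap_apply_right A C hc y hy]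
  have e2 : zmap A C hc (x' + y') = -x' + y' := by
    rw [map_add, zmap_apply_left A C hc x' hx', zmap_apply_right A C hc y' hy']
  rw [e1, e2]
  simp only [map_add, map_neg, LinearMap.add_apply, LinearMap.neg_apply, h1 x hx y' hy',
    h2 y hy x' hx']
  ring

theorem zmap_det (A C : Submodule F V) (hc : IsCompl A C) :
    LinearMap.det (zmap A C hc) = (-1) ^ Module.finrank F A := by
  let e := Submodule.prodEquivOfIsCompl A C hc
  have hz : zmap A C hc = (e : (A × C) →ₗ[F] V) ∘ₗ
      (LinearMap.prodMap ((-1 : F) • (LinearMap.id : A →ₗ[F] A)) (LinearMap.id : C →ₗ[F] C)) ∘ₗ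
      (e.symm : V →ₗ[F] (A × C)) := by
    apply LinearMap.ext
    intro u
    obtain ⟨x, hx, y, hy, rfl⟩ := exists_decomp A C hc u
    have hsymm : e.symm (x + y) = (⟨x, hx⟩, ⟨y, hy⟩) := by
      rw [LinearEquiv.symm_apply_eq]
      simp [e, Submodule.coe_prodEquivOfIsCompl']
    rw [map_add, zmap_apply_left A C hc x hx, zmap_apply_right A C hc y hy]
    simp only [LinearMap.comp_apply, LinearEquiv.coe_coe, hsymm, LinearMap.prodMap_apply,
      LinearMap.smul_apply, LinearMap.id_apply]
    simp [e, Submodule.coe_prodEquivOfIsCompl']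
  rw [hz, LinearMap.det_conj, LinearMap.det_prodMap, LinearMap.det_smul, LinearMap.det_id,
    LinearMap.det_id, mul_one, mul_one]

/-- **ZINV**: the involution of a nondegenerate subspace of a symmetric space -/
theorem exists_zinv (B : LinearMap.BilinForm F V) (hsym : ∀ u v, B u v = B v u)
    (A : Submodule F V) (hA : Nondeg B A) :
    ∃ z : Module.End F V, (∀ u ∈ A, z u = -u) ∧ (∀ u ∈ B.orthogonal A, z u = u) ∧ z * z = 1 ∧
      (∀ u v, B (z u) (z v) = B u v) ∧
      (∀ X : Module.End F V, (∀ u ∈ A, X u ∈ A) → (∀ u ∈ B.orthogonal A, X u ∈ B.orthogonal A) →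
        z * X = X * z) ∧
      LinearMap.det z = (-1) ^ Module.finrank F A := by
  obtain ⟨hc, h1, h2⟩ := orth_compl_sym B hsym A hA
  exact ⟨zmap A (B.orthogonal A) hc, zmap_apply_left A _ hc, zmap_apply_right A _ hc,
    zmap_sq A _ hc, zmap_isometry B A _ hc h1 h2, fun X hXA hXC => zmap_comm A _ hc X hXA hXC,
    zmap_det A _ hc⟩

end ZINV

end Cfsg.Agent.S2560P
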