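import Mathlib
import Cfsg.Prelude.Def_ClassicalGeometry
import Cfsg.Agent.Helper7.S2560FRAMESUB
import Cfsg.Agent.Helper7.S2560ZINV
import Cfsg.Agent.Helper7.S2560REPR

/-! S2560 piece SPLITF (helper7): frame level of the splitting criterion (D3).

For a symmetric space with a Cayley pair `(g, X)`, `g (1 - X) = 1 + X`, a frame `(a, K, v)`, a size `m` and coefficients
`lam` on the slot `m` with `kap = lamᵀ K lam ≠ 0`, there are a `g`-invariant nondegenerate subspace `A` of dimension `m`
with discriminant `kap^m * det (antiA m)` and the involution `z = (-1)_A ⊕ 1_{A^⊥}`: an isometry commuting with `g`, of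
determinant `(-1)^m`.
-/

set_option autoImplicit false

namespace Cfsg.Agent.S2560P

open Cfsg.Agent.S2676P Cfsg.Agent.Helper2.SympInvol Cfsg.Agent.S2558P

namespace SPLITF

open FRAMESUB

variable {F V : Type*} [Field F] [AddCommGroup V] [Module F V] [FiniteDimensional F V]

/-- an endomorphism commuting with `X` commutes with the Cayley transform `g` of `X` -/
theorem comm_cayley (h2 : (2 : F) ≠ 0) (g X z : Module.End F V) (hg : g * (1 - X) = 1 + X)
    (hz : z * X = X * z) : z * g = g * z := by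
  have e1 : (g + 1) * (1 - X) = 2 := by
    calc (g + 1) * (1 - X) = g * (1 - X) + (1 - X) := by noncomm_ring
      _ = 1 + X + (1 - X) := by rw [hg]
      _ = 2 := by rw [← one_add_one_eq_two]; abel
  have h2u : ((2 : F)⁻¹ • (g + 1)) * (1 - X) = 1 := by
    rw [smul_mul_assoc, e1]
    apply LinearMap.ext
    intro u
    rw [LinearMap.smul_apply, Module.End.one_apply]
    have : (2 : Module.End F V) u = (2 : F) • u := by
      rw [← one_add_one_eq_two, LinearMap.add_apply, Module.End.one_apply, two_smul]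
    rw [this, smul_smul, inv_mul_cancel₀ h2, one_smul]
  have h2u' : (1 - X) * ((2 : F)⁻¹ • (g + 1)) = 1 := mul_eq_one_comm.mp h2u
  have hz1 : z * (1 - X) = (1 - X) * z := by
    rw [mul_sub, sub_mul, hz, mul_one, one_mul]
  have hz2 : z * (1 + X) = (1 + X) * z := by
    rw [mul_add, add_mul, hz, mul_one, one_mul]
  have key : (z * g - g * z) * (1 - X) = 0 := by
    calc (z * g - g * z) * (1 - X) = z * (g * (1 - X)) - g * (z * (1 - X)) := by noncomm_ring
      _ = z * (1 + X) - g * ((1 - X) * z) := by rw [hg, hz1]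
      _ = (1 + X) * z - (g * (1 - X)) * z := by rw [hz2]; noncomm_ring
      _ = 0 := by rw [hg, sub_self]
  have : z * g - g * z = 0 := by
    calc z * g - g * z = (z * g - g * z) * ((1 - X) * ((2 : F)⁻¹ • (g + 1))) := by
          rw [h2u', mul_one]
      _ = ((z * g - g * z) * (1 - X)) * ((2 : F)⁻¹ • (g + 1)) := by rw [mul_assoc]
      _ = 0 := by rw [key, zero_mul]
  exact sub_eq_zero.mp this

/-- **SPLITF** -/
theorem exists_z {ι : Type} [Fintype ι] [DecidableEq ι] (h2 : (2 : F) ≠ 0)
    (B : LinearMap.BilinForm F V) (hsym : ∀ u v, B u v = B v u) (X : Module.End F V)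
    (hX : Skew B X) (g : Module.End F V) (hg : g * (1 - X) = 1 + X) (a : ι → ℕ)
    (K : Matrix ι ι F) (v : ι → V) (hf : IsFrame B X ⊤ a K v) (m : ℕ) (lam : ι → F)
    (hlam : ∀ j, a j ≠ m → lam j = 0) (hk : kap K lam ≠ 0) :
    ∃ (A : Submodule F V) (z : Module.End F V), Nondeg B A ∧ Module.finrank F A = m ∧
      (∀ u ∈ A, z u = -u) ∧ (∀ u ∈ B.orthogonal A, z u = u) ∧ z * z = 1 ∧
      (∀ u w, B (z u) (z w) = B u w) ∧ z * g = g * z ∧ LinearMap.det z = (-1) ^ m ∧
      ∃ b : Module.Basis (Fin m) F A,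
        (LinearMap.BilinForm.toMatrix b (B.restrict A)).det =
          kap K lam ^ m * (GRAMDET.antiA F m).det := by
  have hA := nondeg_Aw hf m lam hlam hk
  obtain ⟨z, hz1, hz2, hz3, hz4, hz5, hz6⟩ := ZINV.exists_zinv B hsym (Aw X v lam m) hA
  have hXA := map_Aw hf m lam hlam
  have hXC : ∀ u ∈ B.orthogonal (Aw X v lam m), X u ∈ B.orthogonal (Aw X v lam m) := by
    intro u hu
    rw [LinearMap.BilinForm.mem_orthogonal_iff] at hu ⊢
    intro n hn
    have h1 := hX n u
    have h3 : B (X n) u = 0 := hu (X n) (hXA n hn)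
    show B n (X u) = 0
    rw [h3] at h1
    exact neg_eq_zero.mp h1.symm
  have hzX := hz5 X hXA hXC
  obtain ⟨b, -, hb⟩ := gram_det_Aw hf m lam hlam hk
  rw [finrank_Aw hf m lam hlam hk] at hz6
  exact ⟨Aw X v lam m, z, hA, finrank_Aw hf m lam hlam hk, hz1, hz2, hz3, hz4,
    comm_cayley h2 g X z hg hzX, hz6, b, hb⟩

end SPLITF

end Cfsg.Agent.S2560P
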