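import Mathlib
import Cfsg.Agent.Helper17.S2560SDefs
import Cfsg.Agent.Helper17.S2558ASM
import Cfsg.Agent.Helper28.Spin5
import Cfsg.Agent.Helper7.S2560SPLITF
import Cfsg.Agent.Helper19.S2560TOG
import Cfsg.Agent.Helper19.S2560EMBLIB
import Cfsg.Agent.Helper17.S2560DECOMP
import Cfsg.Agent.Helper21.S2560THNEG

/-! S2560 chapter (S), piece D3 'split' (driver helper17; helper7): isometries whose centralizer carries a spinor sign
determined by the determinant have odd slots of multiplicity at most one, with forced signs. -/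

set_option autoImplicit false

namespace Cfsg.Agent.S2560P

open Polynomial Cfsg.Agent.Helper2.SympInvol Cfsg.Agent.S2676P Cfsg.Agent.S2478P Cfsg.Agent.S2481P
  Cfsg.Agent.S2482P Cfsg.Agent.S2558P Cfsg.Agent.Helper28.Spin

universe u

namespace D3

section core

set_option linter.unusedSectionVars false

variable {F : Type u} [Field F] [Fintype F] {ι : Type} [Fintype ι] [DecidableEq ι]

/-- `κ` is realized at the slot `m` of `g`: there is an involution in the centralizer of `g` which is `-1` on an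
`m`-dimensional nondegenerate subspace with Gram determinant `κ^m det(antiA)` and `1` on its orthogonal complement -/
def Real (Q : QuadraticForm F (ι → F)) (B : LinearMap.BilinForm F (ι → F))
    (g : Cfsg.isometryGroup F ⇑Q) (m : ℕ) (κ : F) : Prop :=
  ∃ y : Cfsg.isometryGroup F ⇑Q, y * g = g * y ∧ ∃ w : Fin m → ι → F,
    (Matrix.of fun i j => B (w i) (w j)).det = κ ^ m * (GRAMDET.antiA F m).det ∧
    (∀ i, Matrix.toLin' ((y : Matrix.GeneralLinearGroup ι F) : Matrix ι ι F) (w i) = - w i) ∧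
    ∀ u, (∀ i, B u (w i) = 0) →
      Matrix.toLin' ((y : Matrix.GeneralLinearGroup ι F) : Matrix ι ι F) u = u

theorem antiA_det_ne_zero (m : ℕ) : (GRAMDET.antiA F m).det ≠ 0 :=
  (GRAMDET.isUnit_det_antiA (F := F) m).ne_zero

/-- CORE: a frame vector on the slot `m` of a unipotent part realizes its value -/
theorem real_of_frame (h2 : (2 : F) ≠ 0) (Q : QuadraticForm F (ι → F))
    (B : LinearMap.BilinForm F (ι → F)) (hQB : IsPolar ⇑Q B) (g : Cfsg.isometryGroup F ⇑Q)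
    (S₁ : SpSpace F) (hsym : ∀ u v, S₁.B u v = S₁.B v u) (E : Emb S₁ B) (g₁ : Module.End F S₁.V)
    (hcomm : ∀ z : Module.End F S₁.V, z * g₁ = g₁ * z →
      E.part z * Matrix.toLin' ((g : Matrix.GeneralLinearGroup ι F) : Matrix ι ι F) =
        Matrix.toLin' ((g : Matrix.GeneralLinearGroup ι F) : Matrix ι ι F) * E.part z)
    (X : Module.End F S₁.V) (hX : Skew S₁.B X) (hg : g₁ * (1 - X) = 1 + X) {κι : Type}
    [Fintype κι] [DecidableEq κι] (a : κι → ℕ) (K : Matrix κι κι F) (v : κι → S₁.V)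
    (hf : IsFrame S₁.B X ⊤ a K v) (m : ℕ) (lam : κι → F) (hlam : ∀ j, a j ≠ m → lam j = 0)
    (hk : FRAMESUB.kap K lam ≠ 0) : Real Q B g m (FRAMESUB.kap K lam) := by
  obtain ⟨A, z, hA, hfr, hzA, hzC, hzz, hziso, hzg, hzdet, b, hb⟩ :=
    SPLITF.exists_z h2 S₁.B hsym X hX g₁ hg a K v hf m lam hlam hk
  have hZiso := EMBLIB.part_isom E hQB.symm z hziso
  obtain ⟨y, hy⟩ := TOG.exists_mem (⇑Q) B hQB (E.part z) hZiso
  refine ⟨y, ?_, fun i => E.j (b i : S₁.V), ?_, ?_, ?_⟩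
  · -- `y` commutes with `g`
    apply Subtype.ext
    apply Units.ext
    apply Matrix.toLin'.injective
    show Matrix.toLin' (((y : Matrix.GeneralLinearGroup ι F) : Matrix ι ι F) *
      ((g : Matrix.GeneralLinearGroup ι F) : Matrix ι ι F)) =
      Matrix.toLin' (((g : Matrix.GeneralLinearGroup ι F) : Matrix ι ι F) *
      ((y : Matrix.GeneralLinearGroup ι F) : Matrix ι ι F))
    rw [Matrix.toLin'_mul, Matrix.toLin'_mul, hy]
    exact hcomm z hzg
  · rw [← hb]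
    congr 1
    ext i j
    rw [Matrix.of_apply, E.isom, LinearMap.BilinForm.toMatrix_apply]
    rfl
  · intro i
    rw [hy, EMBLIB.part_j, hzA _ (b i).2, map_neg]
  · intro u hu
    rw [hy, Emb.part_apply]
    have hP : E.P u ∈ S₁.B.orthogonal A := by
      rw [LinearMap.BilinForm.mem_orthogonal_iff]
      intro n hn
      show S₁.B n (E.P u) = 0
      let φ : A →ₗ[F] F := (S₁.B.flip (E.P u)) ∘ₗ A.subtype
      have hφ : φ = 0 := by
        apply b.ext
        intro i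
        show S₁.B (b i : S₁.V) (E.P u) = 0
        rw [← E.isom, hQB.symm]
        have h1 := E.orth u (b i : S₁.V)
        rw [LinearMap.map_sub₂, hu i, zero_sub, neg_eq_zero] at h1
        exact h1
      have := LinearMap.congr_fun hφ ⟨n, hn⟩
      exact this
    rw [hzC _ hP, sub_self, map_zero, add_zero]

/-- comparing two realized values -/
theorem isSquare_mul_of_real (h2 : (2 : F) ≠ 0) (Q : QuadraticForm F (ι → F))
    (B : LinearMap.BilinForm F (ι → F)) (hQB : IsPolar ⇑Q B) (g g' : Cfsg.isometryGroup F ⇑Q)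
    (hC : ∀ y y' : Cfsg.isometryGroup F ⇑Q, y * g = g * y → y' * g' = g' * y' →
      detHom Q y = detHom Q y' → theta Q y = theta Q y')
    (m : ℕ) (hm : Odd m) (κ κ' : F) (hκ : κ ≠ 0) (hκ' : κ' ≠ 0) (hr : Real Q B g m κ)
    (hr' : Real Q B g' m κ') : IsSquare (κ * κ') := by
  obtain ⟨y, hyg, w, hw, hx, hxo⟩ := hr
  obtain ⟨y', hyg', w', hw', hx', hxo'⟩ := hr'
  have hd : (Matrix.of fun i j => B (w i) (w j)).det ≠ 0 := by
    rw [hw]; exact mul_ne_zero (pow_ne_zero _ hκ) (antiA_det_ne_zero m)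
  have hd' : (Matrix.of fun i j => B (w' i) (w' j)).det ≠ 0 := by
    rw [hw']; exact mul_ne_zero (pow_ne_zero _ hκ') (antiA_det_ne_zero m)
  have e1 := THNEG.detHom_eq h2 Q B hQB m w hd y hx hxo
  have e2 := THNEG.detHom_eq h2 Q B hQB m w' hd' y' hx' hxo'
  have hθ := hC y y' hyg hyg' (e1.trans e2.symm)
  have hsq := (THNEG.theta_eq_iff h2 Q B hQB m w w' hd hd' y y' hx hxo hx' hxo').1 hθ
  rw [hw, hw'] at hsq
  obtain ⟨r, hr⟩ := hm
  obtain ⟨s, hs⟩ := hsq
  set d := (GRAMDET.antiA F m).det with hdd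
  have hd0 : d ≠ 0 := antiA_det_ne_zero m
  have hne : (κ * κ') ^ r * d ≠ 0 := mul_ne_zero (pow_ne_zero _ (mul_ne_zero hκ hκ')) hd0
  refine ⟨s / ((κ * κ') ^ r * d), ?_⟩
  have h3 : κ ^ m * d * (κ' ^ m * d) = (κ * κ') * ((κ * κ') ^ r * d) ^ 2 := by
    rw [hr]; ring
  rw [h3] at hs
  field_simp
  rw [← sq] at hs
  rw [← hs]
  ring

/-- a slot with one generator realizes the value that decides its sign -/
theorem slot_one (h2 : (2 : F) ≠ 0) (Q : QuadraticForm F (ι → F))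
    (B : LinearMap.BilinForm F (ι → F)) (hQB : IsPolar ⇑Q B) (g : Cfsg.isometryGroup F ⇑Q)
    (S₁ : SpSpace F) (hsym : ∀ u v, S₁.B u v = S₁.B v u) (E : Emb S₁ B) (g₁ : Module.End F S₁.V)
    (hcomm : ∀ z : Module.End F S₁.V, z * g₁ = g₁ * z →
      E.part z * Matrix.toLin' ((g : Matrix.GeneralLinearGroup ι F) : Matrix ι ι F) =
        Matrix.toLin' ((g : Matrix.GeneralLinearGroup ι F) : Matrix ι ι F) * E.part z)
    (c : ℕ → ℕ) (s : ℕ → Bool) (hus : UniSignO S₁.B g₁ c s) (m : ℕ) (hm : Odd m)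
    (hc : c m = 1) : ∃ κ : F, κ ≠ 0 ∧ Real Q B g m κ ∧ (s m = true ↔ ¬ IsSquare κ) := by
  obtain ⟨X, κι, _, _, a, K, v, hX, hg, hf, hcard, hs⟩ := hus
  have h1 : Fintype.card {j // a j = m} = 1 := by rw [← hcard m, hc]
  obtain ⟨x, hx⟩ := Fintype.card_eq_one_iff.1 h1
  have hdet : (K.toSquareBlock a m).det = K x.1 x.1 := by
    rw [Matrix.det_eq_elem_of_card_eq_one h1 x]
    rfl
  have hK0 : K x.1 x.1 ≠ 0 := by
    rw [← hdet]; exact (hf.unit m).ne_zero
  have hkap := REPR.kap_single K x.1 (1 : F)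
  rw [one_pow, one_mul] at hkap
  have hlam : ∀ j, a j ≠ m → (fun j => if j = x.1 then (1 : F) else 0) j = 0 := by
    intro j hj
    beta_reduce
    rw [if_neg]
    intro h
    exact hj (h ▸ x.2)
  refine ⟨K x.1 x.1, hK0, ?_, ?_⟩
  · have := real_of_frame h2 Q B hQB g S₁ hsym E g₁ hcomm X hX hg a K v hf m _ hlam
      (by rw [hkap]; exact hK0)
    rwa [hkap] at this
  · rw [hs m, hdet]
    constructor
    · intro h; exact h.2.2
    · intro h; exact ⟨hm, by rw [hc]; exact Nat.one_pos, h⟩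

/-- a slot with at least two generators realizes every non-zero value -/
theorem slot_two (h2 : (2 : F) ≠ 0) (Q : QuadraticForm F (ι → F))
    (B : LinearMap.BilinForm F (ι → F)) (hQB : IsPolar ⇑Q B) (g : Cfsg.isometryGroup F ⇑Q)
    (S₁ : SpSpace F) (hsym : ∀ u v, S₁.B u v = S₁.B v u) (E : Emb S₁ B) (g₁ : Module.End F S₁.V)
    (hcomm : ∀ z : Module.End F S₁.V, z * g₁ = g₁ * z →
      E.part z * Matrix.toLin' ((g : Matrix.GeneralLinearGroup ι F) : Matrix ι ι F) =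
        Matrix.toLin' ((g : Matrix.GeneralLinearGroup ι F) : Matrix ι ι F) * E.part z)
    (c : ℕ → ℕ) (s : ℕ → Bool) (hus : UniSignO S₁.B g₁ c s) (m : ℕ) (hm : Odd m)
    (hc : 2 ≤ c m) (κ : F) (hκ : κ ≠ 0) : Real Q B g m κ := by
  obtain ⟨X, κι, _, _, a, K, v, hX, hg, hf, hcard, hs⟩ := hus
  have hK : ∀ j j', a j = m → a j' = m → K j' j = K j j' := by
    intro j j' hj hj'
    have := frame_symm_sym S₁.B hsym X hX ⊤ a K v hf j j'
    rw [this, hj, Even.neg_one_pow hm.add_one, one_mul]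
  obtain ⟨lam, hlam, hkap⟩ := REPR.exists_kap h2 a K m hK (hf.unit m)
    (by rw [← hcard m]; exact hc) κ
  have := real_of_frame h2 Q B hQB g S₁ hsym E g₁ hcomm X hX hg a K v hf m lam hlam
    (by rw [hkap]; exact hκ)
  rwa [hkap] at this

/-- the decomposition of a sign relation into the two unipotent parts with their embeddings -/
theorem setup (h2 : (2 : F) ≠ 0) {N : ℕ} (Q : QuadraticForm F (ι → F))
    (B : LinearMap.BilinForm F (ι → F)) (hQB : IsPolar ⇑Q B) (e : ι ≃ Fin N)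
    (g : Cfsg.isometryGroup F ⇑Q) (x : (ℕ → F[X]) × (ℕ → Bool × Bool))
    (h : RelO B e ((g : Matrix.GeneralLinearGroup ι F) : Matrix ι ι F) x) (htT : x.1 ∈ T F N N) :
    ∃ (cp cm : ℕ → ℕ) (S₁ S₂ : SpSpace F) (E₁ : Emb S₁ B) (E₂ : Emb S₂ B),
      (∀ m, (x.1 m).rootMultiplicity 1 = cp m) ∧ (∀ m, (x.1 m).rootMultiplicity (-1) = cm m) ∧
      (∀ u v, S₁.B u v = S₁.B v u) ∧ (∀ u v, S₂.B u v = S₂.B v u) ∧
      UniSignO S₁.B S₁.g cp (fun m => (x.2 m).1) ∧ UniSignO S₂.B (-S₂.g) cm (fun m => (x.2 m).2) ∧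
      (∀ z : Module.End F S₁.V, z * S₁.g = S₁.g * z →
        E₁.part z * Matrix.toLin' ((g : Matrix.GeneralLinearGroup ι F) : Matrix ι ι F) =
          Matrix.toLin' ((g : Matrix.GeneralLinearGroup ι F) : Matrix ι ι F) * E₁.part z) ∧
      ∀ z : Module.End F S₂.V, z * (-S₂.g) = (-S₂.g) * z →
        E₂.part z * Matrix.toLin' ((g : Matrix.GeneralLinearGroup ι F) : Matrix ι ι F) =
          Matrix.toLin' ((g : Matrix.GeneralLinearGroup ι F) : Matrix ι ι F) * E₂.part z := by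
  obtain ⟨ht, cp, cm, hs⟩ := h
  obtain ⟨hcp0, hcm0, hrp, hrm⟩ := OPAR.kdim_relations h2 _ cp _ cm _ hs
  have hmp := OMEM.mult_eq_of_relation B e _ x.1 ht htT 1 cp hcp0 hrp
  have hmm := OMEM.mult_eq_of_relation B e _ x.1 ht htT (-1) cm hcm0 hrm
  obtain ⟨S₁, S₂, S₃, S₂₃, hS₁, hS₂, hS₃, hS₂₃, hsum, hsum23, hn1, hn2, hu23, hu3m, hu3p, hus1,
    hus2⟩ := hs
  obtain ⟨C, E₁, E₂, e', hB', -, -, -, hc1, hc2⟩ :=
    DECOMP.exists_embs (ofO B ((g : Matrix.GeneralLinearGroup ι F) : Matrix ι ι F)) S₁ S₂ S₃ S₂₃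
      hS₁ hS₂ hsum hsum23
  refine ⟨cp, cm, S₁, S₂, E₁, E₂, hmp, hmm, hS₁.symm, hS₂.symm, hus1, hus2, hc1, ?_⟩
  intro z hz
  apply hc2 z
  rw [mul_neg, neg_mul] at hz
  exact neg_injective hz

/-- a non-square in a finite field of odd characteristic -/
theorem exists_nonsquare (h2 : (2 : F) ≠ 0) : ∃ ν : F, ν ≠ 0 ∧ ¬ IsSquare ν := by
  have hchar : ringChar F ≠ 2 := by
    intro h
    have : CharP F 2 := by rw [← h]; exact ringChar.charP F
    apply h2
    have := CharP.cast_eq_zero F 2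
    exact_mod_cast this
  obtain ⟨ν, hν⟩ := FiniteField.exists_nonsquare hchar
  refine ⟨ν, ?_, hν⟩
  rintro rfl
  exact hν ⟨0, by rw [mul_zero]⟩

theorem isSquare_iff_of_mul {κ κ' : F} (hκ : κ ≠ 0) (hκ' : κ' ≠ 0) (h : IsSquare (κ * κ')) :
    IsSquare κ ↔ IsSquare κ' := by
  obtain ⟨s, hs⟩ := h
  constructor
  · rintro ⟨r, rfl⟩
    have hr : r ≠ 0 := fun h0 => hκ (by rw [h0, mul_zero])
    refine ⟨s / r, ?_⟩
    field_simp
    linear_combination hs
  · rintro ⟨r, rfl⟩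
    have hr : r ≠ 0 := fun h0 => hκ' (by rw [h0, mul_zero])
    refine ⟨s / r, ?_⟩
    field_simp
    linear_combination hs

end core

end D3

section spin

variable {F : Type u} [Field F] [Fintype F] {ι : Type} [Fintype ι] [DecidableEq ι]

open D3

theorem D3.mult_le_one (h2 : (2 : F) ≠ 0) {N : ℕ} (Q : QuadraticForm F (ι → F))
    (B : LinearMap.BilinForm F (ι → F)) (hQB : IsPolar ⇑Q B) (e : ι ≃ Fin N)
    (g : Cfsg.isometryGroup F ⇑Q) (x : (ℕ → F[X]) × (ℕ → Bool × Bool))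
    (h : RelO B e ((g : Matrix.GeneralLinearGroup ι F) : Matrix ι ι F) x) (htT : x.1 ∈ T F N N)
    (hC : ∀ y y' : Cfsg.isometryGroup F ⇑Q, y * g = g * y → y' * g = g * y' →
      detHom Q y = detHom Q y' → theta Q y = theta Q y')
    (m : ℕ) (hm : Odd m) :
    (x.1 m).rootMultiplicity 1 ≤ 1 ∧ (x.1 m).rootMultiplicity (-1) ≤ 1 := by
  obtain ⟨cp, cm, S₁, S₂, E₁, E₂, hmp, hmm, hsym1, hsym2, hus1, hus2, hc1, hc2⟩ :=
    setup h2 Q B hQB e g x h htT
  obtain ⟨ν, hν0, hν⟩ := exists_nonsquare (F := F) h2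
  rw [hmp, hmm]
  constructor
  · by_contra hcon
    have hc : 2 ≤ cp m := by omega
    have r1 := slot_two h2 Q B hQB g S₁ hsym1 E₁ S₁.g hc1 cp _ hus1 m hm hc 1 one_ne_zero
    have r2 := slot_two h2 Q B hQB g S₁ hsym1 E₁ S₁.g hc1 cp _ hus1 m hm hc ν hν0
    have := isSquare_mul_of_real h2 Q B hQB g g hC m hm 1 ν one_ne_zero hν0 r1 r2
    rw [one_mul] at this
    exact hν this
  · by_contra hcon
    have hc : 2 ≤ cm m := by omega
    have r1 := slot_two h2 Q B hQB g S₂ hsym2 E₂ (-S₂.g) hc2 cm _ hus2 m hm hc 1 one_ne_zero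
    have r2 := slot_two h2 Q B hQB g S₂ hsym2 E₂ (-S₂.g) hc2 cm _ hus2 m hm hc ν hν0
    have := isSquare_mul_of_real h2 Q B hQB g g hC m hm 1 ν one_ne_zero hν0 r1 r2
    rw [one_mul] at this
    exact hν this

theorem D3.signs_eq (h2 : (2 : F) ≠ 0) {N : ℕ} (Q : QuadraticForm F (ι → F))
    (B : LinearMap.BilinForm F (ι → F)) (hQB : IsPolar ⇑Q B) (e : ι ≃ Fin N)
    (g g' : Cfsg.isometryGroup F ⇑Q) (x x' : (ℕ → F[X]) × (ℕ → Bool × Bool))
    (h : RelO B e ((g : Matrix.GeneralLinearGroup ι F) : Matrix ι ι F) x)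
    (h' : RelO B e ((g' : Matrix.GeneralLinearGroup ι F) : Matrix ι ι F) x')
    (htT : x.1 ∈ T F N N) (htt : x.1 = x'.1)
    (hC : ∀ y y' : Cfsg.isometryGroup F ⇑Q, y * g = g * y → y' * g' = g' * y' →
      detHom Q y = detHom Q y' → theta Q y = theta Q y')
    (hm1 : ∀ m, Odd m → (x.1 m).rootMultiplicity 1 ≤ 1 ∧ (x.1 m).rootMultiplicity (-1) ≤ 1) :
    x.2 = x'.2 := by
  obtain ⟨cp, cm, S₁, S₂, E₁, E₂, hmp, hmm, hsym1, hsym2, hus1, hus2, hc1, hc2⟩ :=
    setup h2 Q B hQB e g x h htT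
  obtain ⟨cp', cm', T₁, T₂, E₁', E₂', hmp', hmm', tsym1, tsym2, tus1, tus2, tc1, tc2⟩ :=
    setup h2 Q B hQB e g' x' h' (htt ▸ htT)
  have hcp : cp = cp' := funext fun m => by rw [← hmp m, ← hmp' m, htt]
  have hcm : cm = cm' := funext fun m => by rw [← hmm m, ← hmm' m, htt]
  subst hcp
  subst hcm
  -- the general comparison of one sign
  have key : ∀ (S₁ T₁ : SpSpace F) (hsym1 : ∀ u v, S₁.B u v = S₁.B v u)
      (tsym1 : ∀ u v, T₁.B u v = T₁.B v u) (E₁ : Emb S₁ B) (E₁' : Emb T₁ B)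
      (g₁ : Module.End F S₁.V) (g₁' : Module.End F T₁.V)
      (hc1 : ∀ z : Module.End F S₁.V, z * g₁ = g₁ * z →
        E₁.part z * Matrix.toLin' ((g : Matrix.GeneralLinearGroup ι F) : Matrix ι ι F) =
          Matrix.toLin' ((g : Matrix.GeneralLinearGroup ι F) : Matrix ι ι F) * E₁.part z)
      (tc1 : ∀ z : Module.End F T₁.V, z * g₁' = g₁' * z →
        E₁'.part z * Matrix.toLin' ((g' : Matrix.GeneralLinearGroup ι F) : Matrix ι ι F) =
          Matrix.toLin' ((g' : Matrix.GeneralLinearGroup ι F) : Matrix ι ι F) * E₁'.part z)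
      (c : ℕ → ℕ) (s s' : ℕ → Bool) (hus : UniSignO S₁.B g₁ c s) (tus : UniSignO T₁.B g₁' c s')
      (hle : ∀ m, Odd m → c m ≤ 1) (m : ℕ), s m = s' m := by
    intro S₁ T₁ hsym1 tsym1 E₁ E₁' g₁ g₁' hc1 tc1 c s s' hus tus hle m
    rw [Bool.eq_iff_iff]
    by_cases hcase : Odd m ∧ 0 < c m
    · obtain ⟨hm, hpos⟩ := hcase
      have hc : c m = 1 := by have := hle m hm; omega
      obtain ⟨κ, hκ, hr, hi⟩ := slot_one h2 Q B hQB g S₁ hsym1 E₁ g₁ hc1 c s hus m hm hc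
      obtain ⟨κ', hκ', hr', hi'⟩ := slot_one h2 Q B hQB g' T₁ tsym1 E₁' g₁' tc1 c s' tus m hm hc
      have hsq := isSquare_mul_of_real h2 Q B hQB g g' hC m hm κ κ' hκ hκ' hr hr'
      rw [hi, hi', isSquare_iff_of_mul hκ hκ' hsq]
    · constructor
      · intro hs
        exact absurd (OMEM.sign_of_uniSignO _ _ _ _ hus m hs) hcase
      · intro hs
        exact absurd (OMEM.sign_of_uniSignO _ _ _ _ tus m hs) hcase
  funext m
  apply Prod.ext
  · exact key S₁ T₁ hsym1 tsym1 E₁ E₁' S₁.g T₁.g hc1 tc1 cp _ _ hus1 tus1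
      (fun m hm => by rw [← hmp m]; exact (hm1 m hm).1) m
  · exact key S₂ T₂ hsym2 tsym2 E₂ E₂' (-S₂.g) (-T₂.g) hc2 tc2 cm _ _ hus2 tus2
      (fun m hm => by rw [← hmm m]; exact (hm1 m hm).2) m

end spin

end Cfsg.Agent.S2560P
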