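import Mathlib
import Cfsg.Agent.Helper26.S4057Defs
import Cfsg.Agent.Helper2.S4057CHAIN

set_option autoImplicit false

namespace Cfsg.Agent.S4057P

open Module

theorem REP_aux_finrank {p : ℕ} [Fact p.Prime] {V : Type*} [AddCommGroup V] [Module (ZMod p) V]
    [Finite V] (W : Submodule (ZMod p) V) (k : ℕ) (h : Nat.card W = p ^ k) :
    finrank (ZMod p) W = k := by
  have h1 := Module.natCard_eq_pow_finrank (K := ZMod p) (V := W)
  rw [h, Nat.card_zmod] at h1
  exact (Nat.pow_right_injective (Fact.out : p.Prime).two_le h1).symm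

theorem REP_aux_basis {p : ℕ} [Fact p.Prime] {V : Type*} [AddCommGroup V] [Module (ZMod p) V]
    [Finite V] (n : ℕ) (W : ℕ → Submodule (ZMod p) V) (h0 : W 0 = ⊥) (hn : W n = ⊤)
    (hcard : ∀ i, i ≤ n → Nat.card (W i) = p ^ i) (hmono : ∀ i, i < n → W i ≤ W (i + 1)) :
    ∃ b : Basis (Fin n) (ZMod p) V, (∀ i : Fin n, b i ∈ W (i.val + 1)) ∧
      ∀ k, k ≤ n → ∀ v ∈ W k, ∀ i : Fin n, k ≤ i.val → b.repr v i = 0 := by
  classical
  -- choose the vectors
  have hex : ∀ i : Fin n, ∃ e : V, e ∈ W (i.val + 1) ∧ e ∉ W i.val := by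
    intro i
    by_contra hcon
    simp only [not_exists, not_and, not_not] at hcon
    have hle : W (i.val + 1) ≤ W i.val := fun e he => hcon e he
    have heq : W (i.val + 1) = W i.val := le_antisymm hle (hmono _ i.2)
    have h1 := hcard (i.val + 1) i.2
    have h2 := hcard i.val (le_of_lt i.2)
    rw [heq, h2] at h1
    have := Nat.pow_right_injective (Fact.out : p.Prime).two_le h1
    omega
  choose e he1 he2 using hex
  -- spans
  have hspan : ∀ k, k ≤ n → W k ≤ Submodule.span (ZMod p) (e '' {i : Fin n | i.val < k}) := by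
    intro k
    induction k with
    | zero => intro _; rw [h0]; exact bot_le
    | succ k ih =>
      intro hk
      have hk' : k < n := hk
      have ihk := ih (le_of_lt hk')
      set ek := e ⟨k, hk'⟩ with hek
      have hH : W k ⊔ Submodule.span (ZMod p) {ek} = W (k + 1) := by
        have hle : W k ⊔ Submodule.span (ZMod p) {ek} ≤ W (k + 1) := by
          refine sup_le (hmono k hk') ?_
          rw [Submodule.span_le]
          intro x hx
          rw [Set.mem_singleton_iff] at hx
          rw [hx]; exact he1 ⟨k, hk'⟩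
        have hlt : W k < W k ⊔ Submodule.span (ZMod p) {ek} := by
          refine lt_of_le_of_ne le_sup_left ?_
          intro heq
          apply he2 ⟨k, hk'⟩
          show ek ∈ W k
          rw [heq]
          exact Submodule.mem_sup_right (Submodule.mem_span_singleton_self ek)
        have hfr1 := REP_aux_finrank (W k) k (hcard k (le_of_lt hk'))
        have hfr2 := REP_aux_finrank (W (k + 1)) (k + 1) (hcard (k + 1) hk)
        have hfr3 := Submodule.finrank_lt_finrank_of_lt hlt
        have hfr4 := Submodule.finrank_mono hle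
        refine Submodule.eq_of_le_of_finrank_eq hle ?_
        omega
      rw [← hH]
      refine sup_le ?_ ?_
      · refine ihk.trans (Submodule.span_mono (Set.image_mono ?_))
        intro i hi
        exact Nat.lt_succ_of_lt hi
      · rw [Submodule.span_le]
        intro x hx
        rw [Set.mem_singleton_iff] at hx
        rw [hx]
        exact Submodule.subset_span ⟨⟨k, hk'⟩, Nat.lt_succ_self k, rfl⟩
  have htop : ⊤ ≤ Submodule.span (ZMod p) (Set.range e) := by
    rw [← hn]
    refine (hspan n le_rfl).trans (Submodule.span_mono ?_)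
    rintro _ ⟨i, -, rfl⟩
    exact ⟨i, rfl⟩
  have hfr : Fintype.card (Fin n) = finrank (ZMod p) V := by
    rw [Fintype.card_fin]
    have h1 := REP_aux_finrank (W n) n (hcard n le_rfl)
    rw [hn] at h1
    rw [← h1, finrank_top]
  have hb : ⇑(basisOfTopLeSpanOfCardEqFinrank e htop hfr) = e :=
    coe_basisOfTopLeSpanOfCardEqFinrank e htop hfr
  refine ⟨basisOfTopLeSpanOfCardEqFinrank e htop hfr, ?_, ?_⟩
  · intro i
    rw [hb]
    exact he1 i
  intro k hk v hv i hki
  have hv' := hspan k hk hv
  rw [← hb] at hv'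
  have hsup := Basis.repr_support_subset_of_mem_span _ _ hv'
  by_contra hne
  have : i ∈ ((basisOfTopLeSpanOfCardEqFinrank e htop hfr).repr v).support :=
    Finsupp.mem_support_iff.mpr hne
  have := hsup this
  change i.val < k at this
  omega

theorem REP_aux_ut {p : ℕ} [Fact p.Prime] {V : Type*} [AddCommGroup V] [Module (ZMod p) V]
    {P : Type*} [Group P] (hP : IsPGroup p P) (n : ℕ) (b : Basis (Fin n) (ZMod p) V)
    (L : P →* Module.End (ZMod p) V)
    (htri : ∀ g (j i : Fin n), j < i → b.repr (L g (b j)) i = 0) :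
    ∀ g, IsUT (LinearMap.toMatrixAlgEquiv b (L g)) := by
  classical
  set A : P → Matrix (Fin n) (Fin n) (ZMod p) := fun g => LinearMap.toMatrixAlgEquiv b (L g) with hA
  have hlow : ∀ g (i j : Fin n), j < i → A g i j = 0 := by
    intro g i j hji
    simp only [hA, LinearMap.toMatrixAlgEquiv_apply]
    exact htri g j i hji
  have hmul : ∀ g h, A (g * h) = A g * A h := by
    intro g h
    simp only [hA, map_mul]
  have hone : A 1 = 1 := by
    simp only [hA, map_one]
  have hdiag : ∀ g h (j : Fin n), A (g * h) j j = A g j j * A h j j := by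
    intro g h j
    rw [hmul, Matrix.mul_apply]
    rw [Finset.sum_eq_single j]
    · intro k _ hkj
      rcases lt_or_gt_of_ne hkj with hlt | hgt
      · rw [hlow g j k hlt, zero_mul]
      · rw [hlow h k j hgt, mul_zero]
    · intro hj; exact absurd (Finset.mem_univ j) hj
  have hpow : ∀ g (m : ℕ) (j : Fin n), A (g ^ m) j j = (A g j j) ^ m := by
    intro g m j
    induction m with
    | zero => rw [pow_zero, pow_zero, hone, Matrix.one_apply_eq]
    | succ m ih => rw [pow_succ, hdiag, ih, pow_succ]
  intro g
  refine ⟨?_, fun i j hji => hlow g i j hji⟩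
  intro j
  obtain ⟨k, hk⟩ := hP g
  have h1 := hpow g (p ^ k) j
  rw [hk, hone, Matrix.one_apply_eq] at h1
  have h2 : (A g j j) ^ (p ^ k) = A g j j := ZMod.pow_card_pow (A g j j)
  rw [h2] at h1
  exact h1.symm

theorem REP_aux_main {P : Type*} [Group P] {p : ℕ} [Fact p.Prime] (hP : IsPGroup p P)
    {V : Type*} [AddCommGroup V] [Module (ZMod p) V] [Finite V] (n : ℕ)
    (W : ℕ → Submodule (ZMod p) V) (h0 : W 0 = ⊥) (hn : W n = ⊤)
    (hcard : ∀ i, i ≤ n → Nat.card (W i) = p ^ i) (hmono : ∀ i, i < n → W i ≤ W (i + 1))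
    (L : P →* Module.End (ZMod p) V) (hinv : ∀ g k, k ≤ n → ∀ v ∈ W k, L g v ∈ W k) :
    ∃ ρ : P →* Matrix (Fin n) (Fin n) (ZMod p), (∀ g, IsUT (ρ g)) ∧ ∀ g, ρ g = 1 ↔ L g = 1 := by
  classical
  obtain ⟨b, hb1, hb2⟩ := REP_aux_basis n W h0 hn hcard hmono
  have htri : ∀ g (j i : Fin n), j < i → b.repr (L g (b j)) i = 0 := by
    intro g j i hji
    have h1 : L g (b j) ∈ W (j.val + 1) := hinv g (j.val + 1) j.2 _ (hb1 j)
    exact hb2 (j.val + 1) j.2 _ h1 i hji
  refine ⟨((LinearMap.toMatrixAlgEquiv b : Module.End (ZMod p) V ≃ₐ[ZMod p] _) :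
    Module.End (ZMod p) V →* _).comp L, ?_, ?_⟩
  · intro g
    exact REP_aux_ut hP n b L htri g
  · intro g
    constructor
    · intro h
      have h' : (LinearMap.toMatrixAlgEquiv b) (L g) = (LinearMap.toMatrixAlgEquiv b) 1 := by
        rw [map_one]; exact h
      exact (LinearMap.toMatrixAlgEquiv b).injective h'
    · intro h
      show (LinearMap.toMatrixAlgEquiv b) (L g) = 1
      rw [h, map_one]

theorem REP_aux_grp {P : Type*} [Group P] [Finite P] {p : ℕ} [Fact p.Prime] (hP : IsPGroup p P)
    (N : Subgroup P) [N.Normal] (n : ℕ) (M : ℕ → Subgroup P)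
    (hM0 : M 0 = ⊥) (hMn : M n = N) (hMnorm : ∀ i, (M i).Normal)
    (hMcard : ∀ i, i ≤ n → Nat.card (M i) = p ^ i) (hMmono : ∀ i, i < n → M i ≤ M (i + 1))
    {V : Type*} [AddCommGroup V] [Module (ZMod p) V] (φ : V ≃ N)
    (hadd : ∀ v w : V, φ (v + w) = φ v * φ w) :
    ∃ ρ : P →* Matrix (Fin n) (Fin n) (ZMod p), (∀ g, IsUT (ρ g)) ∧
      ∀ g, ρ g = 1 ↔ g ∈ Subgroup.centralizer (N : Set P) := by
  classical
  have : Finite V := Finite.of_equiv N φ.symm
  have hMle' : ∀ d k, k + d = n → M k ≤ N := by
    intro d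
    induction d with
    | zero => intro k hk; rw [Nat.add_zero] at hk; rw [hk, hMn]
    | succ d ih =>
      intro k hk
      exact (hMmono k (by omega)).trans (ih (k + 1) (by omega))
  have hMle : ∀ k, k ≤ n → M k ≤ N := by
    intro k hk
    exact hMle' (n - k) k (by omega)
  have hzero : φ 0 = 1 := by
    have h := hadd 0 0
    rw [add_zero] at h
    exact (mul_eq_left.mp h.symm)
  have hneg : ∀ v : V, φ (-v) = (φ v)⁻¹ := by
    intro v
    have h := hadd v (-v)
    rw [add_neg_cancel, hzero] at h
    exact (eq_inv_of_mul_eq_one_right h.symm)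
  -- the additive maps
  let Lh : P → V →+ V := fun g =>
    { toFun := fun v => φ.symm ((MulAut.conjNormal g : MulAut N) (φ v))
      map_zero' := by
        show φ.symm ((MulAut.conjNormal g : MulAut N) (φ 0)) = 0
        rw [hzero, map_one, ← hzero, Equiv.symm_apply_apply]
      map_add' := by
        intro v w
        show φ.symm ((MulAut.conjNormal g : MulAut N) (φ (v + w))) =
          φ.symm ((MulAut.conjNormal g : MulAut N) (φ v)) +
            φ.symm ((MulAut.conjNormal g : MulAut N) (φ w))
        apply φ.injective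
        rw [hadd, hadd, Equiv.apply_symm_apply, Equiv.apply_symm_apply, Equiv.apply_symm_apply,
          map_mul] }
  have hLh : ∀ g v, Lh g v = φ.symm ((MulAut.conjNormal g : MulAut N) (φ v)) := fun _ _ => rfl
  let L : P →* Module.End (ZMod p) V :=
    { toFun := fun g => AddMonoidHom.toZModLinearMap p (Lh g)
      map_one' := by
        apply LinearMap.ext
        intro v
        rw [Module.End.one_apply, AddMonoidHom.coe_toZModLinearMap, hLh, map_one]
        exact φ.symm_apply_apply v
      map_mul' := by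
        intro g h
        apply LinearMap.ext
        intro v
        rw [Module.End.mul_apply, AddMonoidHom.coe_toZModLinearMap, AddMonoidHom.coe_toZModLinearMap,
          AddMonoidHom.coe_toZModLinearMap, hLh, hLh, hLh, map_mul, Equiv.apply_symm_apply]
        rfl }
  have hL : ∀ g (v : V), L g v = φ.symm ((MulAut.conjNormal g : MulAut N) (φ v)) :=
    fun _ _ => rfl
  let W0 : ℕ → AddSubgroup V := fun k =>
    { carrier := {v | ((φ v : N) : P) ∈ M k}
      add_mem' := by
        intro a b ha hb
        show ((φ (a + b) : N) : P) ∈ M k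
        rw [hadd, Subgroup.coe_mul]
        exact (M k).mul_mem ha hb
      zero_mem' := by
        show ((φ 0 : N) : P) ∈ M k
        rw [hzero]; exact (M k).one_mem
      neg_mem' := by
        intro a ha
        show ((φ (-a) : N) : P) ∈ M k
        rw [hneg, Subgroup.coe_inv]
        exact (M k).inv_mem ha }
  let W : ℕ → Submodule (ZMod p) V := fun k => AddSubgroup.toZModSubmodule p (W0 k)
  have hW : ∀ k (v : V), v ∈ W k ↔ ((φ v : N) : P) ∈ M k := by
    intro k v
    exact Iff.rfl
  have hWcard : ∀ k, k ≤ n → Nat.card (W k) = p ^ k := by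
    intro k hk
    rw [← hMcard k hk]
    have e1 : (W k) ≃ (M k) :=
      { toFun := fun v => ⟨((φ v.1 : N) : P), (hW k v.1).mp v.2⟩
        invFun := fun x => ⟨φ.symm ⟨x.1, hMle k hk x.2⟩, by
          rw [hW, Equiv.apply_symm_apply]; exact x.2⟩
        left_inv := by
          intro v
          apply Subtype.ext
          show φ.symm ⟨((φ v.1 : N) : P), _⟩ = v.1
          exact φ.symm_apply_apply v.1
        right_inv := by
          intro x
          apply Subtype.ext
          show ((φ (φ.symm ⟨x.1, _⟩) : N) : P) = x.1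
          rw [Equiv.apply_symm_apply] }
    exact Nat.card_congr e1
  obtain ⟨ρ, hρ1, hρ2⟩ := REP_aux_main hP n W
    (by
      apply le_antisymm _ bot_le
      intro v hv
      rw [hW, hM0, Subgroup.mem_bot] at hv
      rw [Submodule.mem_bot]
      have : φ v = 1 := Subtype.ext hv
      rw [← hzero] at this
      exact φ.injective this)
    (by
      apply le_antisymm le_top
      intro v _
      rw [hW, hMn]
      exact (φ v).2)
    hWcard
    (by
      intro i hi v hv
      rw [hW] at hv ⊢
      exact hMmono i hi hv)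
    L
    (by
      intro g k _ v hv
      rw [hW] at hv
      rw [hW, hL, Equiv.apply_symm_apply, MulAut.conjNormal_apply]
      exact (hMnorm k).conj_mem _ hv g)
  refine ⟨ρ, hρ1, ?_⟩
  intro g
  rw [hρ2 g, Subgroup.mem_centralizer_iff]
  constructor
  · intro h x hx
    have h1 : L g (φ.symm ⟨x, hx⟩) = φ.symm ⟨x, hx⟩ := by
      rw [h]; rfl
    rw [hL, Equiv.apply_symm_apply] at h1
    have h2 : (MulAut.conjNormal g : MulAut N) ⟨x, hx⟩ = ⟨x, hx⟩ := φ.symm.injective h1
    have h3 := congrArg (fun y : N => (y : P)) h2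
    simp only [MulAut.conjNormal_apply] at h3
    have : g * x = x * g := by
      calc g * x = g * x * g⁻¹ * g := by group
        _ = x * g := by rw [h3]
    exact this.symm
  · intro h
    apply LinearMap.ext
    intro v
    rw [hL, Module.End.one_apply]
    have : (MulAut.conjNormal g : MulAut N) (φ v) = φ v := by
      apply Subtype.ext
      rw [MulAut.conjNormal_apply]
      have := h _ (φ v).2
      calc g * ↑(φ v) * g⁻¹ = ↑(φ v) * g * g⁻¹ := by rw [this]
        _ = ↑(φ v) := by group
    rw [this]
    exact φ.symm_apply_apply v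

/-- REP: the conjugation action of `P` on an elementary abelian normal subgroup of order `p ^ n`,
written in a basis adapted to a chain of normal subgroups, is upper unitriangular. -/
theorem REP {P : Type*} [Group P] [Finite P] {p : ℕ} [Fact p.Prime] (hP : IsPGroup p P)
    (N : Subgroup P) [N.Normal] (hN : ElAb p N) (n : ℕ) (hcard : Nat.card N = p ^ n) :
    ∃ ρ : P →* Matrix (Fin n) (Fin n) (ZMod p), (∀ g, IsUT (ρ g)) ∧
      ∀ g, ρ g = 1 ↔ g ∈ Subgroup.centralizer (N : Set P) := by
  classical
  obtain ⟨M, hM0, hMn, hMnorm, hMcard, hMmono⟩ := CHAIN hP N n hcard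
  let iC : CommGroup N :=
    { (inferInstance : Group N) with
      mul_comm := fun a b => Subtype.ext (hN.1 a a.2 b b.2) }
  let iA : AddCommGroup (Additive N) := Additive.addCommGroup
  let iM : Module (ZMod p) (Additive N) := AddCommGroup.zmodModule (n := p) (by
    intro x
    have : (Additive.toMul x) ^ p = 1 := Subtype.ext (by
      rw [Subgroup.coe_pow, Subgroup.coe_one]
      exact hN.2 _ (Additive.toMul x).2)
    calc p • x = Additive.ofMul ((Additive.toMul x) ^ p) := rfl
      _ = 0 := by rw [this]; rfl)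
  exact @REP_aux_grp P _ _ p _ hP N _ n M hM0 hMn hMnorm hMcard hMmono (Additive N) iA iM
    Additive.toMul (fun _ _ => rfl)

end Cfsg.Agent.S4057P
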