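import Mathlib
import Cfsg.Prelude.Def_LieExceptional
import Cfsg.Prelude.Def_Involutions
import Cfsg.Agent.Helper18.AIDefs
set_option autoImplicit false
open Cfsg Cfsg.Agent.Helper18.AI Cfsg.Agent.Helper18.CT MulAction

namespace Cfsg.Agent.Helper7.AI

variable {G : Type*} [Group G]

/-- a nontrivial element of `K γ` fixes only `γ` -/
theorem fix_unique_of_free {Ω : Type*} [MulAction G Ω] {K : Ω → Subgroup G}
    (hfree : ∀ α β : Ω, α ≠ β → K α ⊓ stabilizer G β = ⊥) {γ β : Ω} {c : G} (hc : c ∈ K γ)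
    (hc1 : c ≠ 1) (hfix : c • β = β) : β = γ := by
  by_contra hne
  have : c ∈ K γ ⊓ stabilizer G β := ⟨hc, hfix⟩
  rw [hfree γ β (Ne.symm hne)] at this
  exact hc1 (Subgroup.mem_bot.mp this)

theorem orderOf_two_of {x : G} (h1 : x ≠ 1) (h2 : x * x = 1) : orderOf x = 2 := by
  have : Fact (Nat.Prime 2) := ⟨Nat.prime_two⟩
  exact orderOf_eq_prime (by rw [pow_two]; exact h2) h1

theorem mul_self_of_orderOf_two {x : G} (h : orderOf x = 2) : x * x = 1 := by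
  have := pow_orderOf_eq_one x
  rwa [h, pow_two] at this

theorem ne_one_of_orderOf_two {x : G} (h : orderOf x = 2) : x ≠ 1 := by
  rintro rfl
  rw [orderOf_one] at h
  omega

theorem inv_of_orderOf_two {x : G} (h : orderOf x = 2) : x⁻¹ = x :=
  inv_eq_of_mul_eq_one_left (mul_self_of_orderOf_two h)


/-- consequences of `w g w⁻¹ = g⁻¹` -/
theorem inv_rel {w g : G} (hw : w * g * w⁻¹ = g⁻¹) :
    w * g⁻¹ * w⁻¹ = g ∧ g * w = w * g⁻¹ ∧ w * g = g⁻¹ * w := by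
  have h1 : w * g⁻¹ * w⁻¹ = g := by
    have := congrArg (fun x => x⁻¹) hw
    simpa [mul_assoc] using this
  refine ⟨h1, ?_, ?_⟩
  · calc g * w = (w * g⁻¹ * w⁻¹) * w := by rw [h1]
      _ = w * g⁻¹ := by group
  · calc w * g = (w * g * w⁻¹) * w := by group
      _ = g⁻¹ * w := by rw [hw]

theorem Geo1.centralizer_structure [Finite G] {Ω : Type*} [MulAction G Ω] [Finite Ω]
    {K : Ω → Subgroup G} {e : ℕ} (h : Geo1 Ω K e)
    (hpair : ∀ α β : Ω, α ≠ β → PairOK G Ω e α β)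
    (hfree : ∀ α β : Ω, α ≠ β → K α ⊓ stabilizer G β = ⊥)
    (g : G) (hg : g ≠ 1) (h2 : 2 ≤ Nat.card ↥(fixedBy Ω g)) :
    ∃ w : G, orderOf w = 2 ∧ (∀ y : G, y * g = g * y → w * y * w⁻¹ = y⁻¹) ∧
      (∀ δ : Ω, g • δ = δ → w • δ ≠ δ) ∧
      Nat.card ↥(Subgroup.centralizer ({g} : Set G)) = (Nat.card ↥(fixedBy Ω g) - 1) * e := by
  classical
  -- two distinct fixed points
  have hnt : Nontrivial ↥(fixedBy Ω g) := Finite.one_lt_card_iff_nontrivial.mp (by omega)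
  obtain ⟨⟨δ₀, hδ₀⟩, ⟨ε₀, hε₀⟩, hne0⟩ := exists_pair_ne ↥(fixedBy Ω g)
  rw [mem_fixedBy] at hδ₀ hε₀
  have hne : δ₀ ≠ ε₀ := fun hh => hne0 (Subtype.ext hh)
  -- every fixed point has another one
  have hother : ∀ δ : Ω, g • δ = δ → ∃ ε : Ω, ε ≠ δ ∧ g • ε = ε := by
    intro δ _
    by_cases hd : δ₀ = δ
    · exact ⟨ε₀, fun hh => hne (hd.trans hh.symm), hε₀⟩
    · exact ⟨δ₀, hd, hδ₀⟩
  -- Step 1: no involution commutes with g
  have hnoinv : ∀ t : G, orderOf t = 2 → g * t ≠ t * g := by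
    intro t ht hcomm
    obtain ⟨γ, hγ⟩ := h.inv_fix t ht
    have htK : t ∈ K γ := h.K_inv γ t ht hγ
    have hgK : g ∈ K γ := h.K_cent γ t ht htK g hcomm
    have e1 := fix_unique_of_free hfree hgK hg hδ₀
    have e2 := fix_unique_of_free hfree hgK hg hε₀
    exact hne (e1.trans e2.symm)
  -- Step 2
  have hstep2a : ∀ w : G, w * g * w⁻¹ = g⁻¹ → ∀ δ : Ω, g • δ = δ → g • (w • δ) = w • δ := by
    intro w hw δ hδ
    obtain ⟨-, h2', -⟩ := inv_rel hw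
    have hginv : g⁻¹ • δ = δ := by
      rw [inv_smul_eq_iff]; exact hδ.symm
    rw [← mul_smul, h2', mul_smul, hginv]
  have hstep2b : ∀ w : G, orderOf w = 2 → w * g * w⁻¹ = g⁻¹ → ∀ δ : Ω, g • δ = δ → w • δ ≠ δ := by
    intro w hw2 hw δ hδ hwδ
    obtain ⟨h1', -, -⟩ := inv_rel hw
    have hwK : w ∈ K δ := h.K_inv δ w hw2 hwδ
    have hconj : g * w * g⁻¹ ∈ K δ := by
      have := h.K_conj g δ w hwK
      rwa [hδ] at this
    have hgg : g * g ∈ K δ := by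
      have : g * g = (g * w * g⁻¹) * w⁻¹ := by
        calc g * g = g * (w * g⁻¹ * w⁻¹) := by rw [h1']
          _ = (g * w * g⁻¹) * w⁻¹ := by group
      rw [this]
      exact (K δ).mul_mem hconj ((K δ).inv_mem hwK)
    obtain ⟨ε, hεδ, hε⟩ := hother δ hδ
    have hggε : (g * g) • ε = ε := by rw [mul_smul, hε, hε]
    by_cases hgg1 : g * g = 1
    · have ho : orderOf g = 2 := orderOf_two_of hg hgg1
      exact hεδ (h.inv_fix_unique g ho ε δ hε hδ)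
    · exact hεδ (fix_unique_of_free hfree hgg hgg1 hggε)
  -- Step 3: choose w₀
  obtain ⟨hD, hJ, hinvD⟩ := hpair δ₀ ε₀ hne
  have hJne : Nonempty {u : G // orderOf u = 2 ∧ u • δ₀ = ε₀} := by
    have : 0 < Nat.card {u : G // orderOf u = 2 ∧ u • δ₀ = ε₀} := by
      rw [hJ]; have := h.e_ge; omega
    exact (Nat.card_pos_iff.mp this).1
  obtain ⟨⟨w₀, hw₀2, hw₀δ⟩⟩ := hJne
  have hw₀ : w₀ * g * w₀⁻¹ = g⁻¹ := hinvD w₀ hw₀2 hw₀δ g ⟨hδ₀, hε₀⟩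
  obtain ⟨hr1, hr2, hr3⟩ := inv_rel hw₀
  have hw₀sq : w₀ * w₀ = 1 := mul_self_of_orderOf_two hw₀2
  have hw₀inv : w₀⁻¹ = w₀ := inv_of_orderOf_two hw₀2
  -- Step 4: C_Y(w₀) = 1
  have hstep4 : ∀ c : G, c * g = g * c → c * w₀ = w₀ * c → c = 1 := by
    intro c hcg hcw
    by_contra hc1
    obtain ⟨γ, hγ⟩ := h.inv_fix w₀ hw₀2
    have hwK : w₀ ∈ K γ := h.K_inv γ w₀ hw₀2 hγ
    have hcK : c ∈ K γ := h.K_cent γ w₀ hw₀2 hwK c hcw
    have hcγ : c • γ = γ := h.K_le γ hcK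
    have hcg' : c • (g • γ) = g • γ := by
      rw [← mul_smul, hcg, mul_smul, hcγ]
    have hgγ : g • γ = γ := fix_unique_of_free hfree hcK hc1 hcg'
    exact hstep2b w₀ hw₀2 hw₀ γ hgγ hγ
  -- Step 5: every element of Y is inverted by w₀
  have hσmem : ∀ y : G, y * g = g * y → (w₀ * y * w₀⁻¹) * g = g * (w₀ * y * w₀⁻¹) := by
    intro y hy
    have hy' : y * g⁻¹ = g⁻¹ * y := by
      calc y * g⁻¹ = g⁻¹ * (g * y) * g⁻¹ := by group
        _ = g⁻¹ * (y * g) * g⁻¹ := by rw [hy]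
        _ = g⁻¹ * y := by group
    calc (w₀ * y * w₀⁻¹) * g = w₀ * y * (w₀⁻¹ * g * w₀) * w₀⁻¹ := by group
      _ = w₀ * y * g⁻¹ * w₀⁻¹ := by
          have : w₀⁻¹ * g * w₀ = g⁻¹ := by
            calc w₀⁻¹ * g * w₀ = w₀⁻¹ * (g * w₀) := by group
              _ = w₀⁻¹ * (w₀ * g⁻¹) := by rw [hr2]
              _ = g⁻¹ := by group
          rw [this]
      _ = w₀ * (y * g⁻¹) * w₀⁻¹ := by group
      _ = w₀ * (g⁻¹ * y) * w₀⁻¹ := by rw [hy']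
      _ = (w₀ * g⁻¹ * w₀⁻¹) * (w₀ * y * w₀⁻¹) := by group
      _ = g * (w₀ * y * w₀⁻¹) := by rw [hr1]
  have hinvall : ∀ y : G, y * g = g * y → w₀ * y * w₀⁻¹ = y⁻¹ := by
    let τ : ↥(Subgroup.centralizer ({g} : Set G)) → ↥(Subgroup.centralizer ({g} : Set G)) :=
      fun y => ⟨(y : G)⁻¹ * (w₀ * (y : G) * w₀⁻¹), by
        have hy := Subgroup.mem_centralizer_singleton_iff.mp y.2
        apply Subgroup.mul_mem
        · exact Subgroup.inv_mem _ y.2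
        · rw [Subgroup.mem_centralizer_singleton_iff]
          exact hσmem (y : G) hy⟩
    have hτinj : Function.Injective τ := by
      intro y z hyz
      have hyz' : (y : G)⁻¹ * (w₀ * (y : G) * w₀⁻¹) = (z : G)⁻¹ * (w₀ * (z : G) * w₀⁻¹) :=
        congrArg Subtype.val hyz
      have hy := (Subgroup.mem_centralizer_singleton_iff.mp y.2).symm
      have hz := (Subgroup.mem_centralizer_singleton_iff.mp z.2).symm
      -- c = z * y⁻¹ commutes with g and w₀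
      have hc1 : ((z : G) * (y : G)⁻¹) * g = g * ((z : G) * (y : G)⁻¹) := by
        have hyi : (y : G)⁻¹ * g = g * (y : G)⁻¹ := by
          calc (y : G)⁻¹ * g = (y : G)⁻¹ * (g * (y : G)) * (y : G)⁻¹ := by group
            _ = (y : G)⁻¹ * ((y : G) * g) * (y : G)⁻¹ := by rw [hy]
            _ = g * (y : G)⁻¹ := by group
        calc ((z : G) * (y : G)⁻¹) * g = (z : G) * ((y : G)⁻¹ * g) := by group
          _ = (z : G) * (g * (y : G)⁻¹) := by rw [hyi]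
          _ = ((z : G) * g) * (y : G)⁻¹ := by group
          _ = (g * (z : G)) * (y : G)⁻¹ := by rw [hz]
          _ = g * ((z : G) * (y : G)⁻¹) := by group
      have hc2 : ((z : G) * (y : G)⁻¹) * w₀ = w₀ * ((z : G) * (y : G)⁻¹) := by
        have e1 : (z : G) * (y : G)⁻¹ = (w₀ * (z : G) * w₀⁻¹) * (w₀ * (y : G) * w₀⁻¹)⁻¹ := by
          calc (z : G) * (y : G)⁻¹
              = (z : G) * ((y : G)⁻¹ * (w₀ * (y : G) * w₀⁻¹)) * (w₀ * (y : G) * w₀⁻¹)⁻¹ := by group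
            _ = (z : G) * ((z : G)⁻¹ * (w₀ * (z : G) * w₀⁻¹)) * (w₀ * (y : G) * w₀⁻¹)⁻¹ := by
                rw [hyz']
            _ = (w₀ * (z : G) * w₀⁻¹) * (w₀ * (y : G) * w₀⁻¹)⁻¹ := by group
        have e2 : (w₀ * (z : G) * w₀⁻¹) * (w₀ * (y : G) * w₀⁻¹)⁻¹
            = w₀ * ((z : G) * (y : G)⁻¹) * w₀⁻¹ := by group
        calc ((z : G) * (y : G)⁻¹) * w₀ = (w₀ * ((z : G) * (y : G)⁻¹) * w₀⁻¹) * w₀ := by
              rw [← e2, ← e1]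
          _ = w₀ * ((z : G) * (y : G)⁻¹) := by group
      have := hstep4 _ hc1 hc2
      apply Subtype.ext
      have h3 : (z : G) = (y : G) := by
        calc (z : G) = ((z : G) * (y : G)⁻¹) * (y : G) := by group
          _ = (y : G) := by rw [this, one_mul]
      exact h3.symm
    have hτsurj : Function.Surjective τ := Finite.injective_iff_surjective.mp hτinj
    intro y hy
    obtain ⟨z, hz⟩ := hτsurj ⟨y, by
      rw [Subgroup.mem_centralizer_singleton_iff]; exact hy⟩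
    have hz' : (z : G)⁻¹ * (w₀ * (z : G) * w₀⁻¹) = y := congrArg Subtype.val hz
    rw [← hz']
    have : w₀ * (w₀ * (z : G) * w₀⁻¹) * w₀⁻¹ = (z : G) := by
      calc w₀ * (w₀ * (z : G) * w₀⁻¹) * w₀⁻¹ = (w₀ * w₀) * (z : G) * (w₀ * w₀)⁻¹ := by group
        _ = (z : G) := by rw [hw₀sq]; group
    calc w₀ * ((z : G)⁻¹ * (w₀ * (z : G) * w₀⁻¹)) * w₀⁻¹
        = (w₀ * (z : G) * w₀⁻¹)⁻¹ * (w₀ * (w₀ * (z : G) * w₀⁻¹) * w₀⁻¹) := by group
      _ = (w₀ * (z : G) * w₀⁻¹)⁻¹ * (z : G) := by rw [this]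
      _ = ((z : G)⁻¹ * (w₀ * (z : G) * w₀⁻¹))⁻¹ := by group
  refine ⟨w₀, hw₀2, hinvall, fun δ hδ => hstep2b w₀ hw₀2 hw₀ δ hδ, ?_⟩
  -- Step 6: count
  have hinv_u : ∀ ε : Ω, ε ≠ δ₀ → g • ε = ε → ∀ u : G, orderOf u = 2 → u • δ₀ = ε →
      u * g * u⁻¹ = g⁻¹ := by
    intro ε hε hgε u hu huδ
    exact (hpair δ₀ ε (Ne.symm hε)).2.2 u hu huδ g ⟨hδ₀, hgε⟩
  have hmemΦ : ∀ ε : ↥(fixedBy Ω g \ {δ₀}), (ε : Ω) ≠ δ₀ ∧ g • (ε : Ω) = ε := by
    intro ε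
    exact ⟨fun hh => ε.2.2 (Set.mem_singleton_iff.mpr hh), mem_fixedBy.mp ε.2.1⟩
  let F : (Σ ε : ↥(fixedBy Ω g \ {δ₀}), {u : G // orderOf u = 2 ∧ u • δ₀ = (ε : Ω)}) →
      ↥(Subgroup.centralizer ({g} : Set G)) := fun p => ⟨w₀ * (p.2 : G), by
    rw [Subgroup.mem_centralizer_singleton_iff]
    have hu := hinv_u p.1 (hmemΦ p.1).1 (hmemΦ p.1).2 p.2.1 p.2.2.1 p.2.2.2
    obtain ⟨-, -, hu3⟩ := inv_rel hu
    calc w₀ * (p.2 : G) * g = w₀ * ((p.2 : G) * g) := by group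
      _ = w₀ * (g⁻¹ * (p.2 : G)) := by rw [hu3]
      _ = (w₀ * g⁻¹) * (p.2 : G) := by group
      _ = (g * w₀) * (p.2 : G) := by rw [hr2]
      _ = g * (w₀ * (p.2 : G)) := by group⟩
  have hFinj : Function.Injective F := by
    rintro ⟨ε, u, hu1, hu2⟩ ⟨ε', u', hu1', hu2'⟩ heq
    have h1 : w₀ * u = w₀ * u' := congrArg Subtype.val heq
    have h2 : u = u' := mul_left_cancel h1
    subst h2
    have h3 : ε = ε' := Subtype.ext (hu2.symm.trans hu2')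
    subst h3
    rfl
  have hFsurj : Function.Surjective F := by
    intro y
    have hy : (y : G) * g = g * (y : G) := Subgroup.mem_centralizer_singleton_iff.mp y.2
    have hyinv : w₀ * (y : G) * w₀⁻¹ = (y : G)⁻¹ := hinvall y hy
    have hw1 : w₀⁻¹ * (y : G) ≠ 1 := by
      intro hh
      have hyw : (y : G) = w₀ := by
        calc (y : G) = w₀ * (w₀⁻¹ * (y : G)) := by group
          _ = w₀ := by rw [hh, mul_one]
      apply hnoinv w₀ hw₀2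
      rw [← hyw]; exact hy.symm
    have hw2 : (w₀⁻¹ * (y : G)) * (w₀⁻¹ * (y : G)) = 1 := by
      have e1 : (y : G) * w₀⁻¹ = w₀⁻¹ * (y : G)⁻¹ := by
        calc (y : G) * w₀⁻¹ = w₀⁻¹ * (w₀ * (y : G) * w₀⁻¹) := by group
          _ = w₀⁻¹ * (y : G)⁻¹ := by rw [hyinv]
      calc (w₀⁻¹ * (y : G)) * (w₀⁻¹ * (y : G)) = w₀⁻¹ * ((y : G) * w₀⁻¹) * (y : G) := by group
        _ = w₀⁻¹ * (w₀⁻¹ * (y : G)⁻¹) * (y : G) := by rw [e1]
        _ = (w₀ * w₀)⁻¹ := by group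
        _ = 1 := by rw [hw₀sq, inv_one]
    have hwo : orderOf (w₀⁻¹ * (y : G)) = 2 := orderOf_two_of hw1 hw2
    have hwinv : (w₀⁻¹ * (y : G)) * g * (w₀⁻¹ * (y : G))⁻¹ = g⁻¹ := by
      have e2 : w₀⁻¹ * g * w₀ = g⁻¹ := by
        calc w₀⁻¹ * g * w₀ = w₀⁻¹ * (g * w₀) := by group
          _ = w₀⁻¹ * (w₀ * g⁻¹) := by rw [hr2]
          _ = g⁻¹ := by group
      calc (w₀⁻¹ * (y : G)) * g * (w₀⁻¹ * (y : G))⁻¹
          = w₀⁻¹ * ((y : G) * g) * (y : G)⁻¹ * w₀ := by group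
        _ = w₀⁻¹ * (g * (y : G)) * (y : G)⁻¹ * w₀ := by rw [hy]
        _ = w₀⁻¹ * g * w₀ := by group
        _ = g⁻¹ := e2
    have hε1 : g • ((w₀⁻¹ * (y : G)) • δ₀) = (w₀⁻¹ * (y : G)) • δ₀ := hstep2a _ hwinv δ₀ hδ₀
    have hε2 : (w₀⁻¹ * (y : G)) • δ₀ ≠ δ₀ := hstep2b _ hwo hwinv δ₀ hδ₀
    refine ⟨⟨⟨(w₀⁻¹ * (y : G)) • δ₀, ⟨mem_fixedBy.mpr hε1, fun hh => hε2 (Set.mem_singleton_iff.mp hh)⟩⟩,
      ⟨w₀⁻¹ * (y : G), hwo, rfl⟩⟩, ?_⟩
    apply Subtype.ext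
    show w₀ * (w₀⁻¹ * (y : G)) = (y : G)
    group
  have hcard : Nat.card ↥(Subgroup.centralizer ({g} : Set G)) =
      Nat.card (Σ ε : ↥(fixedBy Ω g \ {δ₀}), {u : G // orderOf u = 2 ∧ u • δ₀ = (ε : Ω)}) :=
    (Nat.card_congr (Equiv.ofBijective F ⟨hFinj, hFsurj⟩)).symm
  rw [hcard]
  have : Fintype ↥(fixedBy Ω g \ {δ₀}) := Fintype.ofFinite _
  rw [Nat.card_sigma]
  have hJ' : ∀ ε : ↥(fixedBy Ω g \ {δ₀}),
      Nat.card {u : G // orderOf u = 2 ∧ u • δ₀ = (ε : Ω)} = e :=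
    fun ε => (hpair δ₀ ε (Ne.symm (hmemΦ ε).1)).2.1
  rw [Finset.sum_congr rfl (fun ε _ => hJ' ε), Finset.sum_const, Finset.card_univ, smul_eq_mul,
    ← Nat.card_eq_fintype_card]
  congr 1
  rw [Nat.card_coe_set_eq, Set.ncard_sdiff_singleton_of_mem (mem_fixedBy.mpr hδ₀),
    Nat.card_coe_set_eq]

end Cfsg.Agent.Helper7.AI
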