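import Mathlib
import Cfsg.Prelude.Def_LieExceptional
import Cfsg.Agent.Helper18.CTDefs

set_option autoImplicit false

/-!
# S5748 piece ZASB: assembling `Cfsg.IsZassenhausGroup` from the permutation data `Geo`.
-/

open Cfsg Cfsg.Agent.Helper18.CT MulAction

namespace Cfsg.Agent.Helper7.CT

variable {G : Type*} [Group G]

/-- An involution of `K α` exists (there are `e ≥ 3` involutions fixing `α`). -/
theorem Geo.exists_inv_mem {Ω : Type*} [MulAction G Ω] {K : Ω → Subgroup G} {e : ℕ}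
    (h : Geo Ω K e) (α : Ω) : ∃ u : G, orderOf u = 2 ∧ u • α = α ∧ u ∈ K α := by
  have hc := h.inv_card α
  have hpos : 0 < Nat.card {u : G // orderOf u = 2 ∧ u • α = α} := by
    have := h.e_ge; omega
  have hne : Nonempty {u : G // orderOf u = 2 ∧ u • α = α} := by
    by_contra hcon
    rw [not_nonempty_iff] at hcon
    rw [Nat.card_of_isEmpty] at hpos
    exact absurd hpos (lt_irrefl 0)
  obtain ⟨⟨u, hu2, hua⟩⟩ := hne
  exact ⟨u, hu2, hua, h.K_inv α u hu2 hua⟩

/-- The degree is at least `3`. -/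
theorem Geo.three_le_card [Finite G] {Ω : Type*} [MulAction G Ω] [Finite Ω] {K : Ω → Subgroup G}
    {e : ℕ} (h : Geo Ω K e) (hcard : ∀ α : Ω, Nat.card (K α) + 1 = Nat.card Ω) (α : Ω) :
    3 ≤ Nat.card Ω := by
  obtain ⟨u, hu2, -, huK⟩ := Geo.exists_inv_mem h α
  have hu1 : u ≠ 1 := by
    intro h1; rw [h1, orderOf_one] at hu2; exact absurd hu2 (by norm_num)
  have h2 : 2 ≤ Nat.card (K α) := by
    have hnt : Nontrivial (K α) :=
      ⟨⟨⟨u, huK⟩, 1, fun hh => hu1 (by simpa using congrArg Subtype.val hh)⟩⟩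
    exact Finite.one_lt_card
  have := hcard α
  omega

theorem Geo.isZassenhaus [Finite G] [IsSimpleGroup G] {Ω : Type*} [MulAction G Ω] [Finite Ω]
    [Nonempty Ω] {K : Ω → Subgroup G} {e : ℕ} (h : Geo Ω K e)
    (hpair : ∀ α β : Ω, α ≠ β → PairOK G Ω e α β)
    (h3 : ∀ (g : G) (a b c : Ω), a ≠ b → b ≠ c → a ≠ c → g • a = a → g • b = b → g • c = c → g = 1)
    (hcard : ∀ α : Ω, Nat.card (K α) + 1 = Nat.card Ω)
    (hreg : ∀ α y z : Ω, y ≠ α → z ≠ α → ∃! u : K α, (u : G) • y = z) :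
    IsZassenhausGroup G Ω := by
  classical
  obtain ⟨α₀⟩ := ‹Nonempty Ω›
  have hn3 : 3 ≤ Nat.card Ω := Geo.three_le_card h hcard α₀
  -- three distinct points
  obtain ⟨p, q, r, hpq, hpr, hqr⟩ : ∃ a b c : Ω, a ≠ b ∧ a ≠ c ∧ b ≠ c := by
    have : Fintype Ω := Fintype.ofFinite Ω
    rw [Nat.card_eq_fintype_card] at hn3
    exact Fintype.two_lt_card_iff.mp hn3
  have := h.trans
  refine ⟨?_, ?_, h3, ?_, ?_⟩
  · -- faithful
    refine ⟨fun {m₁ m₂} hm => ?_⟩
    have key : ∀ x : Ω, (m₁⁻¹ * m₂) • x = x := by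
      intro x
      rw [mul_smul, ← hm x, inv_smul_smul]
    have := h3 (m₁⁻¹ * m₂) p q r hpq hqr hpr (key p) (key q) (key r)
    rw [inv_mul_eq_one] at this
    exact this
  · -- doubly transitive
    rw [MulAction.is_two_pretransitive_iff]
    intro a b c d hab hcd
    obtain ⟨g₁, hg₁⟩ := MulAction.exists_smul_eq G a c
    have hne : g₁ • b ≠ c := by
      intro hh
      rw [← hg₁] at hh
      exact hab (MulAction.injective g₁ hh).symm
    obtain ⟨u, hu, -⟩ := hreg c (g₁ • b) d hne (Ne.symm hcd)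
    refine ⟨(u : G) * g₁, ?_, ?_⟩
    · rw [mul_smul, hg₁]
      exact h.K_le c u.2
    · rw [mul_smul]; exact hu
  · -- a non-identity element fixing two points
    obtain ⟨hc, -, -⟩ := hpair p q hpq
    have hgt : 1 < Nat.card ↥(stabilizer G p ⊓ stabilizer G q) := by
      rw [hc]; have := h.e_ge; omega
    have : Nontrivial ↥(stabilizer G p ⊓ stabilizer G q) := Finite.one_lt_card_iff_nontrivial.mp hgt
    obtain ⟨x, hx⟩ := exists_ne (1 : ↥(stabilizer G p ⊓ stabilizer G q))
    refine ⟨(x : G), fun hh => hx (Subtype.ext hh), p, q, hpq, ?_, ?_⟩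
    · exact (Subgroup.mem_inf.mp x.2).1
    · exact (Subgroup.mem_inf.mp x.2).2
  · -- no regular normal subgroup
    intro N hN htr
    rcases hN.eq_bot_or_eq_top with hbot | htop
    · exfalso
      obtain ⟨g, hg⟩ := htr.exists_smul_eq p q
      have : (g : G) = 1 := by
        have h1 : (g : G) ∈ (⊥ : Subgroup G) := hbot ▸ g.2
        exact Subgroup.mem_bot.mp h1
      have hg' : (g : G) • p = q := hg
      rw [this, one_smul] at hg'
      exact hpq hg'
    · obtain ⟨u, hu2, hua, -⟩ := Geo.exists_inv_mem h p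
      have hu1 : u ≠ 1 := by
        intro h1; rw [h1, orderOf_one] at hu2; exact absurd hu2 (by norm_num)
      refine ⟨p, fun hh => ?_⟩
      have hmem : (⟨u, by rw [htop]; exact Subgroup.mem_top u⟩ : N) ∈ stabilizer N p := by
        rw [MulAction.mem_stabilizer_iff]
        exact hua
      rw [hh, Subgroup.mem_bot] at hmem
      exact hu1 (congrArg Subtype.val hmem)

end Cfsg.Agent.Helper7.CT
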