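import Mathlib
import Cfsg.Agent.Helper20.S0679ORB

set_option autoImplicit false
set_option linter.unusedSectionVars false
set_option linter.unusedVariables false

/-! # S0679 (non-solvable transitive groups of degree 11), chapter (6), piece CENT5 (helper7; designer helper18, driver helper13)

The centraliser in `G` of an element `x` of type `3² 1⁵` is transitive on the five fixed points of `x` (`ORB` twice), so its order
is divisible by 5 and by Cauchy it contains an element of order 5. -/

namespace Cfsg.Agent.S0679P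

open Equiv MulAction

variable {α : Type*} [Fintype α] [DecidableEq α] {G : Subgroup (Equiv.Perm α)}

/-- the fixed points of an element of type `3²` on 11 points: five of them -/
theorem CENT5.aux_card_fix (h11 : Fintype.card α = 11) {x : Perm α} (hct : x.cycleType = {3, 3}) :
    (Finset.univ.filter fun a => x a = a).card = 5 := by
  have h1 : x.support.card = 6 := by
    rw [← Equiv.Perm.sum_cycleType, hct]
    rfl
  have h2 : (Finset.univ.filter fun a => x a = a) = x.supportᶜ := by
    ext a
    simp [Equiv.Perm.mem_support]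
  rw [h2, Finset.card_compl, h11, h1]

/-- the centraliser of `x` in `G`, as a subgroup of `Perm α` -/
def CENT5.cent (G : Subgroup (Perm α)) (x : Perm α) : Subgroup (Perm α) :=
  G ⊓ Subgroup.centralizer {x}

theorem CENT5.mem_cent {x c : Perm α} : c ∈ CENT5.cent G x ↔ c ∈ G ∧ c * x = x * c := by
  unfold CENT5.cent
  rw [Subgroup.mem_inf, Subgroup.mem_centralizer_iff]
  constructor
  · rintro ⟨h1, h2⟩
    exact ⟨h1, (h2 x (Set.mem_singleton x)).symm⟩
  · rintro ⟨h1, h2⟩
    refine ⟨h1, fun h hh => ?_⟩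
    rw [Set.mem_singleton_iff.mp hh]
    exact h2.symm

/-- CENT5 -/
theorem CENT5 (h11 : Fintype.card α = 11) (h2 : IsMultiplyPretransitive G α 2)
    (hA : ¬ alternatingGroup α ≤ G) (hord : Nat.card G = 7920) {x : Perm α} (hx : x ∈ G)
    (hct : x.cycleType = {3, 3}) :
    ∃ y ∈ G, orderOf y = 5 ∧ y * x = x * y := by
  classical
  set Φ : Finset α := Finset.univ.filter fun a => x a = a with hΦ
  have hΦcard : Φ.card = 5 := CENT5.aux_card_fix h11 hct
  have hmemΦ : ∀ a, a ∈ Φ ↔ x a = a := by
    intro a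
    simp [hΦ]
  -- transitivity of the centraliser on `Φ`
  have htrans : ∀ a ∈ Φ, ∀ a' ∈ Φ, ∃ c ∈ CENT5.cent G x, c a = a' := by
    intro a ha a' ha'
    by_cases haa : a = a'
    · exact ⟨1, Subgroup.one_mem _, by rw [haa]; rfl⟩
    · have hcard : 1 < ((Φ.erase a).erase a').card := by
        have h1 : (Φ.erase a).card = 4 := by rw [Finset.card_erase_of_mem ha, hΦcard]
        have h2 : a' ∈ Φ.erase a := Finset.mem_erase.mpr ⟨Ne.symm haa, ha'⟩
        rw [Finset.card_erase_of_mem h2, h1]
        norm_num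
      obtain ⟨u, hu, v, hv, huv⟩ := Finset.one_lt_card.mp hcard
      rw [Finset.mem_erase, Finset.mem_erase] at hu hv
      obtain ⟨hua', hua, huΦ⟩ := hu
      obtain ⟨hva', hva, hvΦ⟩ := hv
      obtain ⟨c, hcG, hcx, hca⟩ := ORB h11 h2 hA hord hx hct huv ((hmemΦ u).mp huΦ)
        ((hmemΦ v).mp hvΦ) ((hmemΦ a).mp ha) ((hmemΦ a').mp ha') (Ne.symm hua) (Ne.symm hva)
        (Ne.symm hua') (Ne.symm hva')
      exact ⟨c, CENT5.mem_cent.mpr ⟨hcG, hcx⟩, hca⟩
  -- a point of `Φ`
  have hne : Φ.Nonempty := by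
    rw [← Finset.card_pos, hΦcard]; norm_num
  obtain ⟨a, ha⟩ := hne
  -- the orbit of `a` under the centraliser is `Φ`
  have horb : orbit (CENT5.cent G x) a = (Φ : Set α) := by
    ext b
    constructor
    · rintro ⟨c, rfl⟩
      have hc := (CENT5.mem_cent.mp c.2).2
      rw [Finset.mem_coe, hmemΦ]
      show x ((c : Perm α) a) = (c : Perm α) a
      have h1 : (x * (c : Perm α)) a = ((c : Perm α) * x) a := by rw [hc]
      rw [Equiv.Perm.mul_apply, Equiv.Perm.mul_apply, (hmemΦ a).mp ha] at h1
      exact h1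
    · intro hb
      obtain ⟨c, hc, hcab⟩ := htrans a ha b (Finset.mem_coe.mp hb)
      exact ⟨⟨c, hc⟩, hcab⟩
  have h5 : 5 ∣ Nat.card (CENT5.cent G x) := by
    have h0 := MulAction.index_stabilizer (G := CENT5.cent G x) (x := a)
    rw [horb, Set.ncard_coe_finset, hΦcard] at h0
    rw [← h0]
    exact Subgroup.index_dvd_card _
  have : Fact (Nat.Prime 5) := ⟨by norm_num⟩
  obtain ⟨y, hy⟩ := exists_prime_orderOf_dvd_card' 5 h5
  have hymem := CENT5.mem_cent.mp y.2
  refine ⟨(y : Perm α), hymem.1, ?_, hymem.2⟩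
  rw [Subgroup.orderOf_coe]
  exact hy

end Cfsg.Agent.S0679P
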