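import Mathlib

set_option autoImplicit false
set_option linter.unusedSectionVars false
set_option linter.unusedVariables false

/-! # S0679 (non-solvable transitive groups of degree 11), chapter (6), piece SHARP4 (helper7; designer helper18, driver helper13)

A subgroup of `Perm α`, `|α| = 11`, of order `7920 = 11·10·9·8` in which every non-identity element moves at least 8 points is
sharply 4-transitive. -/

namespace Cfsg.Agent.S0679P

open Equiv MulAction

variable {α : Type*} [Fintype α] [DecidableEq α] {G : Subgroup (Equiv.Perm α)}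

/-- an element of `G` fixing the four points of `x` pointwise has support of size at most `7` -/
theorem SHARP4.aux_supp (h11 : Fintype.card α = 11) (x : Fin 4 ↪ α) {g : Perm α}
    (hg : ∀ i, g (x i) = x i) : g.support.card ≤ 7 := by
  classical
  have hsub : g.support ⊆ (Finset.univ.map x)ᶜ := by
    intro a ha
    rw [Finset.mem_compl, Finset.mem_map]
    rintro ⟨i, -, rfl⟩
    exact (Equiv.Perm.mem_support.mp ha) (hg i)
  have hcard : ((Finset.univ.map x)ᶜ).card = 7 := by
    rw [Finset.card_compl, Finset.card_map, Finset.card_univ, h11, Fintype.card_fin]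
  calc g.support.card ≤ ((Finset.univ.map x)ᶜ).card := Finset.card_le_card hsub
    _ = 7 := hcard

/-- SHARP4 -/
theorem SHARP4 (h11 : Fintype.card α = 11) (hord : Nat.card G = 7920)
    (h8 : ∀ g ∈ G, g ≠ 1 → 8 ≤ (g : Perm α).support.card) :
    IsMultiplyPretransitive G α 4 ∧ ∀ x : Fin 4 ↪ α, stabilizer G x = ⊥ := by
  classical
  have hstab : ∀ x : Fin 4 ↪ α, stabilizer G x = ⊥ := by
    intro x
    rw [eq_bot_iff]
    intro g hg
    rw [Subgroup.mem_bot]
    by_contra hne
    have hfix : ∀ i, (g : Perm α) (x i) = x i := by
      intro i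
      have h1 : g • x = x := hg
      have h2 := congrArg (fun y : Fin 4 ↪ α => y i) h1
      exact h2
    have h7 := SHARP4.aux_supp h11 x hfix
    have hne' : (g : Perm α) ≠ 1 := by
      intro h
      apply hne
      exact Subtype.ext h
    have := h8 g g.2 hne'
    omega
  refine ⟨?_, hstab⟩
  have hcardE : Nat.card (Fin 4 ↪ α) = 7920 := by
    rw [Nat.card_eq_fintype_card, Fintype.card_embedding_eq, h11, Fintype.card_fin]
    decide
  have horb : ∀ x : Fin 4 ↪ α, orbit G x = Set.univ := by
    intro x
    have h1 : (orbit G x).ncard = 7920 := by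
      have h0 := MulAction.index_stabilizer (G := G) (x := x)
      rw [hstab x, Subgroup.index_bot, hord] at h0
      exact h0.symm
    apply Set.eq_of_subset_of_ncard_le (Set.subset_univ _) _ Set.finite_univ
    rw [Set.ncard_univ, hcardE, h1]
  constructor
  intro x y
  have hy : y ∈ orbit G x := by rw [horb x]; exact Set.mem_univ y
  obtain ⟨g, hg⟩ := hy
  exact ⟨g, hg⟩

end Cfsg.Agent.S0679P
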