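import Mathlib

/-!
# S2788 : shared definitions

`upr l`, `lwr l`: the upper / lower unitriangular elements of `SL₂(F)`.
-/

set_option autoImplicit false

namespace Cfsg.Agent.S2788P

open Matrix

variable {F : Type*} [Field F]

/-- upper unitriangular element `[[1, l], [0, 1]]` of `SL₂(F)` -/
def upr (l : F) : SpecialLinearGroup (Fin 2) F :=
  ⟨!![1, l; 0, 1], by simp [Matrix.det_fin_two]⟩

/-- lower unitriangular element `[[1, 0], [l, 1]]` of `SL₂(F)` -/
def lwr (l : F) : SpecialLinearGroup (Fin 2) F :=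
  ⟨!![1, 0; l, 1], by simp [Matrix.det_fin_two]⟩

@[simp] theorem upr_val (l : F) : (upr l : Matrix (Fin 2) (Fin 2) F) = !![1, l; 0, 1] := rfl

@[simp] theorem lwr_val (l : F) : (lwr l : Matrix (Fin 2) (Fin 2) F) = !![1, 0; l, 1] := rfl

end Cfsg.Agent.S2788P
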