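import Mathlib
import Cfsg.Prelude

/-!
# S2788, piece IDX1

An element that does not centralize the elementary abelian `p`-group `V` has
`p ≤ |V : C_V(a)|`.
-/

set_option autoImplicit false

namespace Cfsg.Agent.S2788P

namespace IDX1

/-- an elementary abelian `p`-subgroup is a `p`-group -/
theorem isPGroup_of_elementary {G : Type*} [Group G] {p : ℕ} (V : Subgroup G)
    (hV : Cfsg.IsElementaryAbelian p V) : IsPGroup p V := by
  intro v
  refine ⟨1, ?_⟩
  rw [pow_one]
  exact Subtype.ext (by simpa using hV.2 v.1 v.2)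

/-- the relative index of a subgroup in a finite `p`-group is a power of `p` -/
theorem relIndex_eq_pow {G : Type*} [Group G] [Finite G] {p : ℕ} [Fact p.Prime] (V K : Subgroup G)
    (hV : Cfsg.IsElementaryAbelian p V) : ∃ j, K.relIndex V = p ^ j := by
  obtain ⟨m, hm⟩ := (isPGroup_of_elementary V hV).exists_card_eq
  have hdvd : K.relIndex V ∣ Nat.card V := by
    rw [Subgroup.relIndex]
    exact Subgroup.index_dvd_card _
  rw [hm] at hdvd
  obtain ⟨j, _, hj⟩ := (Nat.dvd_prime_pow Fact.out).1 hdvd
  exact ⟨j, hj⟩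

theorem le_relIndex {G : Type*} [Group G] [Finite G] {p : ℕ} [Fact p.Prime] (V : Subgroup G)
    (hV : Cfsg.IsElementaryAbelian p V) (a : G)
    (ha : a ∉ Subgroup.centralizer (V : Set G)) :
    p ≤ (V ⊓ Subgroup.centralizer ({a} : Set G)).relIndex V := by
  obtain ⟨j, hj⟩ := relIndex_eq_pow V (V ⊓ Subgroup.centralizer ({a} : Set G)) hV
  rw [hj]
  rcases Nat.eq_zero_or_pos j with h0 | h0
  · exfalso
    rw [h0, pow_zero, Subgroup.relIndex_eq_one] at hj
    apply ha
    rw [Subgroup.mem_centralizer_iff]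
    intro v hv
    have h1 : v ∈ Subgroup.centralizer ({a} : Set G) := (hj hv).2
    rw [Subgroup.mem_centralizer_iff] at h1
    exact (h1 a (Set.mem_singleton a)).symm
  · calc p = p ^ 1 := (pow_one p).symm
      _ ≤ p ^ j := Nat.pow_le_pow_right (Fact.out : p.Prime).pos h0

end IDX1

end Cfsg.Agent.S2788P
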