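import Mathlib
import Cfsg.Prelude.Def_FusionSystem
import Cfsg.Agent.Helper18.S5113Defs
import Cfsg.Agent.Helper25.FusionBasic
import Cfsg.Agent.Helper1.S5113R3
import Cfsg.Agent.Helper18.S5113DAGGER

set_option autoImplicit false

/-! # S5113, piece REC: a subgroup of `T` receptive in `F` is receptive in `E` -/

namespace Cfsg.Agent.S5113P

open Cfsg Cfsg.FusionSystem Cfsg.Agent.Helper25 Cfsg.Agent.Helper25.Park Cfsg.Agent.Helper26.CB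

universe u

variable {Ω : Type u} [Group Ω] {S : Subgroup Ω} {X : Type u}

/-- A map of `F` whose source lies in `T ≥ foc(F)` takes values in `T`. -/
theorem REC.aux_mem_T (F : FusionSystem S) {T : Subgroup Ω} (hfoc : F.focalSubgroup ≤ T)
    {N : Subgroup Ω} (hNT : N ≤ T) {ψ : N →* Ω} (hψ : ψ ∈ F.Hom N) (x : N) : ψ x ∈ T := by
  have h1 : (x : Ω)⁻¹ * ψ x ∈ F.focalSubgroup := Subgroup.subset_closure ⟨N, ψ, x, hψ, rfl⟩
  have := T.mul_mem (hNT x.2) (hfoc h1)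
  rwa [mul_inv_cancel_left] at this

/-- `P ≤ N_φ`. -/
theorem REC.aux_le_extender {T P : Subgroup Ω} (hPT : P ≤ T) (φ : P →* Ω) (hφT : ∀ x, φ x ∈ T) :
    P ≤ extender T P φ := by
  intro g hg
  apply Subgroup.subset_closure
  refine ⟨hPT hg, Subgroup.le_normalizer hg, φ ⟨g, hg⟩, hφT _, ?_⟩
  intro x hx
  have e : (⟨g * (x : Ω) * g⁻¹, hx⟩ : P) = ⟨g, hg⟩ * x * (⟨g, hg⟩ : P)⁻¹ := Subtype.ext rfl
  rw [e, map_mul, map_mul, map_inv]

/-- REC: a subgroup of `T` receptive in `F` is receptive in `E`. -/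
theorem REC [Finite S] [Finite X] (p : ℕ) [Fact p.Prime] (hS : IsPGroup p S)
    (a : ↥(S.prod S) →* Equiv.Perm X) (x₀ : X) (F : FusionSystem S)
    (hTD : ∀ x, TD F (stab a x))
    (hst : ∀ K K' : Subgroup ↥(S.prod S), GConj (prodSystem F F) K K' → mark a K = mark a K')
    (hx₀ : ∀ k ∈ graphSub (1 : MulAut ↥S), a k x₀ = x₀) (hidx : ¬ p ∣ (H0 a x₀).index)
    {T : Subgroup Ω} (hTS : T ≤ S) (hfoc : F.focalSubgroup ≤ T) (hexp : ∀ s ∈ S, s ^ p ∈ T)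
    (E : FusionSystem T) (hE : ∀ P : Subgroup Ω, E.Hom P = EHom a x₀ F hTD T P)
    {Q : Subgroup Ω} (hQT : Q ≤ T) (hQr : F.IsReceptive Q) :
    E.IsReceptive Q := by
  refine ⟨hQT, ?_⟩
  intro P2 φ hφE hrange
  rw [hE] at hφE
  obtain ⟨hφF, hP2T, hφT, m, hmM, hm⟩ := hφE
  have hP2S : P2 ≤ S := hP2T.trans hTS
  have hφS : ∀ x, φ x ∈ S := fun x => hTS (hφT x)
  -- the two extenders
  have hNle : extender T P2 φ ≤ extender S P2 φ := by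
    apply Subgroup.closure_mono
    rintro g ⟨hgT, hgN, h, hhT, hh⟩
    exact ⟨hTS hgT, hgN, h, hTS hhT, hh⟩
  have hNT : extender T P2 φ ≤ T := (Subgroup.closure_le _).2 (fun g hg => hg.1)
  have hNS : extender T P2 φ ≤ S := hNT.trans hTS
  have hP2N : P2 ≤ extender T P2 φ := REC.aux_le_extender hP2T φ hφT
  -- receptivity in `F`, restricted to the small extender
  obtain ⟨ψ, hψF, hψφ⟩ := hQr.2 P2 φ hφF hrange
  have hψN : ψ.comp (Subgroup.inclusion hNle) ∈ F.Hom (extender T P2 φ) := restrict_mem F hNle hψF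
  have hψNS : ∀ x, (ψ.comp (Subgroup.inclusion hNle)) x ∈ S := (F.le_of_mem hψN).2
  have hψNφ : ∀ (x : Ω) (hP : x ∈ P2) (hN : x ∈ extender T P2 φ),
      (ψ.comp (Subgroup.inclusion hNle)) ⟨x, hN⟩ = φ ⟨x, hP⟩ := fun x hP hN => hψφ x hP (hNle hN)
  -- it is conjugation by some `g`
  obtain ⟨g, hg⟩ := exists_cen_conj a F hst hNS hψN hψNS
  -- `g m⁻¹` centralises `iota Q`
  have hc : ∀ y : ↥S, (y : Ω) ∈ Q → (g * m⁻¹) * iota a y = iota a y * (g * m⁻¹) := by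
    intro y hy
    rw [← hrange] at hy
    obtain ⟨x, hx⟩ := hy
    have h1 := hg ⟨(x : Ω), hP2N x.2⟩
    have h2 := hm x (hP2S x.2) (hφS x)
    have e1 : (⟨(ψ.comp (Subgroup.inclusion hNle)) ⟨(x : Ω), hP2N x.2⟩, hψNS _⟩ : ↥S) = y := by
      apply Subtype.ext
      show (ψ.comp (Subgroup.inclusion hNle)) ⟨(x : Ω), hP2N x.2⟩ = (y : Ω)
      rw [hψNφ (x : Ω) x.2 (hP2N x.2)]
      exact hx
    have e2 : (⟨φ x, hφS x⟩ : ↥S) = y := Subtype.ext hx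
    rw [e1] at h1
    rw [e2] at h2
    -- iota y = g i g⁻¹ = m i m⁻¹
    have h3 : iota a ⟨(x : Ω), hP2S x.2⟩ = m⁻¹ * iota a y * m := by
      rw [h2]; group
    have h4 : (⟨((⟨(x : Ω), hP2N x.2⟩ : extender T P2 φ) : Ω), hNS (hP2N x.2)⟩ : ↥S) =
        ⟨(x : Ω), hP2S x.2⟩ := rfl
    rw [h4, h3] at h1
    -- iota y = g m⁻¹ (iota y) m g⁻¹
    calc g * m⁻¹ * iota a y = (g * (m⁻¹ * iota a y * m) * g⁻¹) * (g * m⁻¹) := by group
      _ = iota a y * (g * m⁻¹) := by rw [← h1]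
  have hdag := DAGGER' p hS a x₀ F hTD hx₀ hTS hfoc hexp hQr (g * m⁻¹) hc
  -- `trf g ∈ TA T ⊔ TA C`
  have hsup : TA S (T ⊔ centralizerIn S Q) = TA S T ⊔ TA S (centralizerIn S Q) := by
    have hCS : centralizerIn S Q ≤ S := inf_le_left
    unfold TA
    rw [Subgroup.subgroupOf_sup hTS hCS, Subgroup.map_sup]
  have htrfg : trf a x₀ F hTD g ∈ TA S T ⊔ TA S (centralizerIn S Q) := by
    have e : trf a x₀ F hTD g = trf a x₀ F hTD (g * m⁻¹) * trf a x₀ F hTD m := by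
      rw [← map_mul]; congr 1; group
    rw [e]
    apply Subgroup.mul_mem
    · rw [← hsup]; exact hdag
    · exact Subgroup.mem_sup_left hmM
  obtain ⟨v, hv, w, hw, hvw⟩ := Subgroup.mem_sup.1 htrfg
  obtain ⟨z, hzC, rfl⟩ := mem_TA_iff.1 hw
  -- a `p'`-root of `z`
  have hp : p.Prime := Fact.out
  obtain ⟨n, hn⟩ := hS z
  have hord : orderOf z ∣ p ^ n := orderOf_dvd_of_pow_eq_one hn
  have hcop : Nat.Coprime (H0 a x₀).index (orderOf z) :=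
    Nat.Coprime.coprime_dvd_right hord
      (Nat.Coprime.pow_right n ((Nat.Prime.coprime_iff_not_dvd hp).2 hidx).symm)
  obtain ⟨k2, hk2⟩ := exists_pow_eq_self_of_coprime hcop
  have hz2k : (z ^ k2) ^ (H0 a x₀).index = z := by
    rw [← pow_mul, mul_comm, pow_mul]; exact hk2
  have hR3 := R3 a x₀ F hTD hfoc (z ^ k2)
  rw [← map_pow, hz2k] at hR3
  -- `g2 = iota(z2)⁻¹ g ∈ M`
  have hg2M : (iota a (z ^ k2))⁻¹ * g ∈ MM a x₀ F hTD T := by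
    rw [mem_MM, map_mul, map_inv, ← hvw]
    have e : (trf a x₀ F hTD (iota a (z ^ k2)))⁻¹ * (v * Abelianization.of z) =
        v * ((trf a x₀ F hTD (iota a (z ^ k2)))⁻¹ * Abelianization.of z) := by
      rw [mul_left_comm]
    rw [e]
    exact Subgroup.mul_mem _ hv hR3
  -- `z2` centralises `Q`
  have hz2C : ((z ^ k2 : ↥S) : Ω) ∈ centralizerIn S Q := by
    have : ((z ^ k2 : ↥S) : Ω) = (z : Ω) ^ k2 := rfl
    rw [this]
    exact Subgroup.pow_mem _ hzC k2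
  have hz2Q : ∀ y ∈ Q, ((z ^ k2 : ↥S) : Ω)⁻¹ * y * ((z ^ k2 : ↥S) : Ω)⁻¹⁻¹ = y := by
    intro y hy
    have h1 := (Subgroup.mem_centralizer_iff.1 hz2C.2) y hy
    rw [inv_inv]
    calc ((z ^ k2 : ↥S) : Ω)⁻¹ * y * ((z ^ k2 : ↥S) : Ω)
        = ((z ^ k2 : ↥S) : Ω)⁻¹ * (y * ((z ^ k2 : ↥S) : Ω)) := by group
      _ = ((z ^ k2 : ↥S) : Ω)⁻¹ * (((z ^ k2 : ↥S) : Ω) * y) := by rw [h1]
      _ = y := by group
  -- the corrected extension
  have hz2S : ((z ^ k2 : ↥S) : Ω)⁻¹ ∈ S := S.inv_mem (z ^ k2).2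
  have hψ2 : (conjHom S ((z ^ k2 : ↥S) : Ω)⁻¹).comp
      ((ψ.comp (Subgroup.inclusion hNle)).codRestrict S hψNS) ∈ F.Hom (extender T P2 φ) :=
    F.comp_mem hψN (F.conj_mem le_rfl hz2S) hψNS
  have hψ2apply : ∀ x : extender T P2 φ, ((conjHom S ((z ^ k2 : ↥S) : Ω)⁻¹).comp
      ((ψ.comp (Subgroup.inclusion hNle)).codRestrict S hψNS)) x =
      ((z ^ k2 : ↥S) : Ω)⁻¹ * (ψ.comp (Subgroup.inclusion hNle)) x * ((z ^ k2 : ↥S) : Ω)⁻¹⁻¹ :=
    fun x => rfl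
  refine ⟨(conjHom S ((z ^ k2 : ↥S) : Ω)⁻¹).comp
      ((ψ.comp (Subgroup.inclusion hNle)).codRestrict S hψNS), ?_, ?_⟩
  · rw [hE]
    refine ⟨hψ2, hNT, fun x => REC.aux_mem_T F hfoc hNT hψ2 x, (iota a (z ^ k2))⁻¹ * g, hg2M, ?_⟩
    intro x hx hφx
    have e : (⟨((conjHom S ((z ^ k2 : ↥S) : Ω)⁻¹).comp
        ((ψ.comp (Subgroup.inclusion hNle)).codRestrict S hψNS)) x, hφx⟩ : ↥S) =
        (z ^ k2)⁻¹ * ⟨(ψ.comp (Subgroup.inclusion hNle)) x, hψNS x⟩ * (z ^ k2)⁻¹⁻¹ :=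
      Subtype.ext (hψ2apply x)
    rw [e]
    simp only [map_mul, map_inv, inv_inv]
    rw [hg x]
    group
  · intro x hP hN
    rw [hψ2apply, hψNφ x hP hN]
    apply hz2Q
    rw [← hrange]
    exact ⟨⟨x, hP⟩, rfl⟩

end Cfsg.Agent.S5113P
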