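import Mathlib
import Cfsg.Prelude.Def_Classical
import Cfsg.Agent.Helper23.S5953Defs

set_option autoImplicit false
open scoped MatrixGroups Matrix

/-! S5953 piece ORTHCU: the orthogonal complement of a nondegenerate subspace `U` inside a
nondegenerate subspace `M` of a Hermitian space. -/

universe u

namespace Cfsg.Agent.S5953P

open Polynomial Cfsg.Agent.S5955P Cfsg.Agent.Helper28.HW Cfsg.Agent.Helper28.HermFrame

namespace ORTHCU

variable {F V : Type*} [Field F] [Fintype F] [AddCommGroup V] [Module F V]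
  {q : ℕ} {σ : F →+* F} {B : V →ₛₗ[σ] V →ₗ[F] F}

theorem restr_apply (U : Submodule F V) (x y : U) :
    B.domRestrict₁₂ U U x y = B (x : V) (y : V) := rfl

theorem restr_isSymm (hB : IsHerm q B) (U : Submodule F V) : (B.domRestrict₁₂ U U).IsSymm :=
  ⟨fun x y => hB.symm (x : V) (y : V)⟩

theorem restr_nondeg (hB : IsHerm q B) (U : Submodule F V) (hU : NondegU B U) :
    (B.domRestrict₁₂ U U).Nondegenerate := by
  constructor
  · intro x hx
    by_contra hx0
    have hx0' : (x : V) ≠ 0 := fun h => hx0 (Subtype.ext h)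
    obtain ⟨v, hv, hne⟩ := hU x x.2 hx0'
    exact hne (hx ⟨v, hv⟩)
  · intro x hx
    by_contra hx0
    have hx0' : (x : V) ≠ 0 := fun h => hx0 (Subtype.ext h)
    obtain ⟨v, hv, hne⟩ := hU x x.2 hx0'
    apply hne
    have := hx ⟨v, hv⟩
    rw [restr_apply] at this
    exact hB.eq_zero_comm this

/-- orthogonal projection onto a nondegenerate subspace -/
theorem exists_proj [FiniteDimensional F V] (hB : IsHerm q B) (U : Submodule F V)
    (hU : NondegU B U) (v : V) : ∃ w ∈ U, v - w ∈ perp B U := by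
  obtain ⟨w, hw⟩ := exists_repr hB.invol (restr_isSymm hB U) (restr_nondeg hB U hU)
    ((B v).comp U.subtype)
  refine ⟨w, w.2, ?_⟩
  intro x hx
  have h1 := hw ⟨x, hx⟩
  rw [restr_apply] at h1
  simp only [LinearMap.comp_apply, Submodule.subtype_apply] at h1
  rw [map_sub, ← hB.symm (w : V) x, ← hB.symm v x, h1, sub_self]

end ORTHCU

open ORTHCU in
/-- ORTHCU -/
theorem orth_compl_u {F V : Type*} [Field F] [Fintype F] [AddCommGroup V] [Module F V]
    [FiniteDimensional F V] {q : ℕ} {σ : F →+* F} (B : V →ₛₗ[σ] V →ₗ[F] F) (hB : IsHerm q B)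
    (M U : Submodule F V) (hUM : U ≤ M) (hM : NondegU B M) (hU : NondegU B U) :
    U ⊔ (M ⊓ perp B U) = M ∧ Disjoint U (M ⊓ perp B U) ∧ NondegU B (M ⊓ perp B U) ∧
    Module.finrank F U + Module.finrank F ↥(M ⊓ perp B U) = Module.finrank F M ∧
    OrthU B U (M ⊓ perp B U) ∧ OrthU B (M ⊓ perp B U) U ∧
    (∀ y : Module.End F V, (∀ u v, B (y u) (y v) = B u v) → Function.Injective y →
      U.map y ≤ U → M.map y ≤ M → (M ⊓ perp B U).map y ≤ M ⊓ perp B U) := by
  have hsplit : ∀ v ∈ M, ∃ w ∈ U, v - w ∈ M ⊓ perp B U := by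
    intro v hv
    obtain ⟨w, hw, hp⟩ := exists_proj hB U hU v
    exact ⟨w, hw, M.sub_mem hv (hUM hw), hp⟩
  have hsup : U ⊔ (M ⊓ perp B U) = M := by
    apply le_antisymm
    · exact sup_le hUM inf_le_left
    · intro v hv
      obtain ⟨w, hw, hp⟩ := hsplit v hv
      have : v = w + (v - w) := by abel
      rw [this]
      exact Submodule.add_mem_sup hw hp
  have hdisj : Disjoint U (M ⊓ perp B U) := by
    rw [Submodule.disjoint_def]
    intro x hxU hx
    by_contra hx0
    obtain ⟨v, hv, hne⟩ := hU x hxU hx0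
    exact hne (hB.eq_zero_comm (hx.2 v hv))
  have h1 : OrthU B U (M ⊓ perp B U) := fun u hu x hx => hx.2 u hu
  have h2 : OrthU B (M ⊓ perp B U) U := OrthU.symm hB h1
  refine ⟨hsup, hdisj, ?_, ?_, h1, h2, ?_⟩
  · intro m hm hm0
    obtain ⟨v, hv, hne⟩ := hM m hm.1 hm0
    obtain ⟨w, hw, hp⟩ := hsplit v hv
    refine ⟨v - w, hp, ?_⟩
    rw [map_sub, h2 m hm w hw, sub_zero]
    exact hne
  · have := Submodule.finrank_sup_add_finrank_inf_eq U (M ⊓ perp B U)
    rw [hsup, hdisj.eq_bot, finrank_bot, add_zero] at this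
    exact this.symm
  · intro y hyB hyinj hyU hyM
    have hUeq : U.map y = U := by
      apply Submodule.eq_of_le_of_finrank_eq hyU
      exact (Submodule.equivMapOfInjective y hyinj U).finrank_eq.symm
    rintro _ ⟨x, hx, rfl⟩
    refine ⟨hyM ⟨x, hx.1, rfl⟩, ?_⟩
    intro u hu
    rw [← hUeq] at hu
    obtain ⟨u', hu', rfl⟩ := hu
    rw [hyB]
    exact hx.2 u' hu'

end Cfsg.Agent.S5953P
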