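import Mathlib
import Cfsg.Prelude.Def_Classical
import Cfsg.Agent.Helper23.S5953Defs

set_option autoImplicit false
open scoped MatrixGroups Matrix

/-! S5953 piece AUG1U: the augmentation space with the shift and the standard Hermitian form is
an `IsYU`. -/

universe u

namespace Cfsg.Agent.S5953P

open Polynomial Cfsg.Agent.S5955P Cfsg.Agent.Helper28.HW Cfsg.Agent.Helper28.HermFrame

/-- AUG1U -/
theorem aug_isYU {F : Type*} [Field F] [Fintype F] {p : ℕ} [Fact p.Prime] [CharP F p] {q : ℕ}
    (hF : Fintype.card F = q ^ 2) (σ : F →+* F) (hσ : ∀ a, σ a = a ^ q) (r : ℕ) [Fact r.Prime]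
    (hrp : r ≠ p) : IsYU q (augU σ r) (augS F r) r := by
  classical
  have hrp' : r.Prime := Fact.out
  have hpp : p.Prime := Fact.out
  have hσ2 : ∀ a, σ (σ a) = a := fun a => by
    rw [hσ, hσ, ← pow_mul, ← pow_two, ← hF, FiniteField.pow_card]
  have hr0 : (r : F) ≠ 0 := by
    intro h0
    rw [CharP.cast_eq_zero_iff F p] at h0
    exact hrp ((Nat.prime_dvd_prime_iff_eq hpp hrp').1 h0).symm
  refine ⟨⟨hF, hσ, ?_⟩, ?_, ?_, ?_⟩
  · -- Hermitian symmetry
    intro u v
    rw [augU_apply, augU_apply, map_sum]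
    apply Finset.sum_congr rfl
    intro a _
    rw [map_mul, hσ2, mul_comm]
  · -- nondegenerate
    intro u _ hu0
    have hne : ∃ a₀ : ZMod r, (u : ZMod r → F) a₀ ≠ 0 := by
      by_contra hcon
      push Not at hcon
      apply hu0
      apply Subtype.ext
      funext a
      exact hcon a
    obtain ⟨a₀, ha₀⟩ := hne
    have hvmem : (fun a : ZMod r => (Pi.single a₀ (1 : F) : ZMod r → F) a - (r : F)⁻¹) ∈
        Aug F r := by
      rw [mem_Aug, Finset.sum_sub_distrib, Finset.sum_pi_single', Finset.sum_const,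
        Finset.card_univ, ZMod.card, nsmul_eq_mul, mul_inv_cancel₀ hr0]
      simp
    refine ⟨⟨_, hvmem⟩, trivial, ?_⟩
    rw [augU_apply]
    simp only
    have hu : ∑ a : ZMod r, (u : ZMod r → F) a = 0 := (mem_Aug F r _).1 u.2
    have h1 : ∑ a : ZMod r, σ ((u : ZMod r → F) a) *
        ((Pi.single a₀ (1 : F) : ZMod r → F) a - (r : F)⁻¹) =
        σ ((u : ZMod r → F) a₀) - σ (∑ a : ZMod r, (u : ZMod r → F) a) * (r : F)⁻¹ := by
      simp only [mul_sub]
      rw [Finset.sum_sub_distrib, map_sum, Finset.sum_mul]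
      congr 1
      rw [Finset.sum_eq_single a₀]
      · simp
      · intro a _ hab
        rw [Pi.single_eq_of_ne hab, mul_zero]
      · intro h; exact absurd (Finset.mem_univ a₀) h
    rw [h1, hu, map_zero, zero_mul, sub_zero]
    intro h
    apply ha₀
    rw [← hσ2 ((u : ZMod r → F) a₀), h, map_zero]
  · -- isometry
    intro u v
    rw [augU_apply, augU_apply]
    simp only [augS_coe, shiftL_apply]
    exact Fintype.sum_equiv (Equiv.addRight (1 : ZMod r)) _ _ (fun a => rfl)
  · -- `S ^ r = 1`
    have key : ∀ (k : ℕ) (u : Aug F r) (a : ZMod r),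
        (((augS F r ^ k) u : Aug F r) : ZMod r → F) a = (u : ZMod r → F) (a + (k : ZMod r)) := by
      intro k
      induction k with
      | zero => intro u a; simp
      | succ k ih =>
        intro u a
        have e : a + ((k + 1 : ℕ) : ZMod r) = a + (k : ZMod r) + 1 := by
          push_cast; ring
        rw [pow_succ, Module.End.mul_apply, ih, augS_coe, shiftL_apply, e]
    apply LinearMap.ext
    intro u
    apply Subtype.ext
    funext a
    rw [key, ZMod.natCast_self, add_zero]
    rfl

end Cfsg.Agent.S5953P
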