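import Mathlib
import Cfsg.Prelude.Def_Classical
import Cfsg.Agent.Helper23.S5953Defs

set_option autoImplicit false
open scoped MatrixGroups Matrix

/-! S5953 piece IRRNDU: an irreducible invariant subspace of a Hermitian space is totally
isotropic or nondegenerate. -/

universe u

namespace Cfsg.Agent.S5953P

open Polynomial Cfsg.Agent.S5955P Cfsg.Agent.Helper28.HW Cfsg.Agent.Helper28.HermFrame

/-- IRRNDU -/
theorem irr_dichotomy_u {F V : Type*} [Field F] [Fintype F] [AddCommGroup V] [Module F V]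
    [FiniteDimensional F V] {q : ℕ} {σ : F →+* F} (B : V →ₛₗ[σ] V →ₗ[F] F) (hB : IsHerm q B)
    (y : Module.End F V) (hyB : ∀ u v, B (y u) (y v) = B u v) (hyinj : Function.Injective y)
    (U : Submodule F V) (hU : U.map y ≤ U)
    (hirr : ∀ U₁ : Submodule F V, U₁ ≤ U → U₁.map y ≤ U₁ → U₁ = ⊥ ∨ U₁ = U) :
    OrthU B U U ∨ NondegU B U := by
  have hUeq : U.map y = U := by
    apply Submodule.eq_of_le_of_finrank_eq hU
    exact (Submodule.equivMapOfInjective y hyinj U).finrank_eq.symm
  have hR : (U ⊓ perp B U).map y ≤ U ⊓ perp B U := by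
    rintro _ ⟨x, hx, rfl⟩
    refine ⟨hU ⟨x, hx.1, rfl⟩, ?_⟩
    intro u hu
    rw [← hUeq] at hu
    obtain ⟨u', hu', rfl⟩ := hu
    rw [hyB]
    exact hx.2 u' hu'
  rcases hirr (U ⊓ perp B U) inf_le_left hR with h | h
  · right
    intro m hm hm0
    by_contra hcon
    push Not at hcon
    apply hm0
    have : m ∈ U ⊓ perp B U := ⟨hm, fun u hu => hB.eq_zero_comm (hcon u hu)⟩
    rw [h] at this
    exact (Submodule.mem_bot F).mp this
  · left
    intro u hu v hv
    have : v ∈ U ⊓ perp B U := by rw [h]; exact hv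
    exact this.2 u hu

end Cfsg.Agent.S5953P
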