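import Mathlib
import Cfsg.Prelude.Def_Classical
import Cfsg.Agent.Helper23.S5953Defs
import Cfsg.Agent.Helper10.S5961FIXSPLIT

set_option autoImplicit false
open scoped MatrixGroups Matrix

/-! S5953 piece FIXSPLITU: for a Hermitian isometry `y` with `y ^ r = 1`, `r` prime to the
characteristic, `V = ker (y - 1) ⊥ range (y - 1)`, both summands nondegenerate. -/

universe u

namespace Cfsg.Agent.S5953P

open Polynomial Cfsg.Agent.S5955P Cfsg.Agent.Helper28.HW Cfsg.Agent.Helper28.HermFrame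

open Cfsg.Agent.S5961P.FIXSPLIT in
/-- FIXSPLITU -/
theorem fix_split_u {F V : Type*} [Field F] [Fintype F] [AddCommGroup V] [Module F V]
    [FiniteDimensional F V] {p : ℕ} [Fact p.Prime] [CharP F p] {q : ℕ} (r : ℕ) [Fact r.Prime]
    (hrp : r ≠ p) {σ : F →+* F} (B : V →ₛₗ[σ] V →ₗ[F] F) (y : Module.End F V)
    (h : IsYU q B y r) :
    IsCompl (LinearMap.ker (y - 1)) (LinearMap.range (y - 1)) ∧
    OrthU B (LinearMap.ker (y - 1)) (LinearMap.range (y - 1)) ∧
    OrthU B (LinearMap.range (y - 1)) (LinearMap.ker (y - 1)) ∧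
    (LinearMap.range (y - 1)).map y ≤ LinearMap.range (y - 1) ∧
    (LinearMap.ker (y - 1)).map y ≤ LinearMap.ker (y - 1) ∧
    NondegU B (LinearMap.ker (y - 1)) ∧ NondegU B (LinearMap.range (y - 1)) ∧
    LinearMap.range (y - 1) ⊓ LinearMap.ker (y - 1) = ⊥ := by
  have hyB := h.isom
  have hy := h.pow
  have hr0 : (r : F) ≠ 0 := cast_ne_zero (F := F) (p := p) r hrp
  have hker : ∀ v, v ∈ LinearMap.ker (y - 1) ↔ y v = v := by
    intro v
    rw [LinearMap.mem_ker, LinearMap.sub_apply, Module.End.one_apply, sub_eq_zero]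
  have hdisj : Disjoint (LinearMap.ker (y - 1)) (LinearMap.range (y - 1)) := by
    rw [Submodule.disjoint_def]
    intro v hv1 hv2
    have hfix : y v = v := (hker v).mp hv1
    obtain ⟨w, rfl⟩ := hv2
    have hS : (∑ j ∈ Finset.range r, y ^ j) * (y - 1) = 0 := by
      rw [geom_sum_mul, hy, sub_self]
    have h1 : (∑ j ∈ Finset.range r, y ^ j) ((y - 1) w) = 0 := by
      rw [← Module.End.mul_apply, hS, LinearMap.zero_apply]
    have h2 : (∑ j ∈ Finset.range r, y ^ j) ((y - 1) w) = (r : F) • ((y - 1) w) := by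
      rw [LinearMap.sum_apply]
      rw [Finset.sum_congr rfl (fun j _ => pow_apply_of_fixed y _ hfix j)]
      rw [Finset.sum_const, Finset.card_range, Nat.cast_smul_eq_nsmul]
    rw [h2] at h1
    exact (smul_eq_zero.mp h1).resolve_left hr0
  have hcompl : IsCompl (LinearMap.ker (y - 1)) (LinearMap.range (y - 1)) := by
    refine ⟨hdisj, ?_⟩
    rw [codisjoint_iff]
    apply Submodule.eq_top_of_disjoint
    · rw [add_comm, LinearMap.finrank_range_add_finrank_ker]
    · exact hdisj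
  have hCN : OrthU B (LinearMap.ker (y - 1)) (LinearMap.range (y - 1)) := by
    intro u hu v hv
    have hfix : y u = u := (hker u).mp hu
    obtain ⟨w, rfl⟩ := hv
    rw [LinearMap.sub_apply, Module.End.one_apply, map_sub]
    nth_rewrite 1 [← hfix]
    rw [hyB, sub_self]
  have hNC : OrthU B (LinearMap.range (y - 1)) (LinearMap.ker (y - 1)) := by
    intro v hv u hu
    have hfix : y u = u := (hker u).mp hu
    obtain ⟨w, rfl⟩ := hv
    rw [LinearMap.sub_apply, Module.End.one_apply, map_sub, LinearMap.sub_apply]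
    nth_rewrite 1 [← hfix]
    rw [hyB, sub_self]
  have hsup : ∀ v : V, ∃ c ∈ LinearMap.ker (y - 1), ∃ n ∈ LinearMap.range (y - 1), c + n = v := by
    intro v
    have hv : v ∈ LinearMap.ker (y - 1) ⊔ LinearMap.range (y - 1) := by
      rw [hcompl.sup_eq_top]
      trivial
    obtain ⟨c, hc, n, hn, hcn⟩ := Submodule.mem_sup.mp hv
    exact ⟨c, hc, n, hn, hcn⟩
  refine ⟨hcompl, hCN, hNC, ?_, ?_, ?_, ?_, ?_⟩
  · rintro _ ⟨v, hv, rfl⟩
    obtain ⟨w, rfl⟩ := hv
    refine ⟨y w, ?_⟩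
    simp only [LinearMap.sub_apply, Module.End.one_apply, map_sub]
  · rintro _ ⟨v, hv, rfl⟩
    have hfix : y v = v := (hker v).mp hv
    rw [hfix]
    exact hv
  · intro m hm hm0
    obtain ⟨v, -, hv⟩ := h.nondeg m trivial hm0
    obtain ⟨c, hc, n, hn, rfl⟩ := hsup v
    refine ⟨c, hc, ?_⟩
    rw [map_add, hCN m hm n hn, add_zero] at hv
    exact hv
  · intro m hm hm0
    obtain ⟨v, -, hv⟩ := h.nondeg m trivial hm0
    obtain ⟨c, hc, n, hn, rfl⟩ := hsup v
    refine ⟨n, hn, ?_⟩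
    rw [map_add, hNC m hm c hc, zero_add] at hv
    exact hv
  · rw [inf_comm]
    exact hdisj.eq_bot

end Cfsg.Agent.S5953P
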