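import Mathlib
import Cfsg.Prelude.Def_Classical
import Cfsg.Agent.Helper23.S5953Defs
import Cfsg.Agent.Helper7.S5953ORTHCU

set_option autoImplicit false
open scoped MatrixGroups Matrix

/-! S5953 piece TIHALFU: a totally isotropic subspace of a nondegenerate Hermitian subspace `M`
has at most half the dimension of `M`. -/

universe u

namespace Cfsg.Agent.S5953P

open Polynomial Cfsg.Agent.S5955P Cfsg.Agent.Helper28.HW Cfsg.Agent.Helper28.HermFrame

open ORTHCU in
/-- TIHALFU -/
theorem ti_le_half_u {F V : Type*} [Field F] [Fintype F] [AddCommGroup V] [Module F V]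
    [FiniteDimensional F V] {q : ℕ} {σ : F →+* F} (B : V →ₛₗ[σ] V →ₗ[F] F) (hB : IsHerm q B)
    (M W : Submodule F V) (hM : NondegU B M) (hWM : W ≤ M) (hW : OrthU B W W) :
    2 * Module.finrank F W ≤ Module.finrank F M := by
  have h1 := finrank_perp hB.invol (restr_nondeg hB M hM) (W.comap M.subtype)
  have h2 : Module.finrank F ↥(W.comap M.subtype) = Module.finrank F W :=
    (Submodule.comapSubtypeEquivOfLe hWM).finrank_eq
  have h3 : W.comap M.subtype ≤ perp (B.domRestrict₁₂ M M) (W.comap M.subtype) := by
    intro x hx y hy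
    rw [restr_apply]
    exact hW _ hy _ hx
  have h4 := Submodule.finrank_mono h3
  omega

end Cfsg.Agent.S5953P
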