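import Mathlib
import Cfsg.Prelude.Def_Classical
import Cfsg.Agent.Helper23.S5953Defs
import Cfsg.Agent.Helper7.S5953FIXSPLITU
import Cfsg.Agent.Helper7.S5953TIHALFU

set_option autoImplicit false
open scoped MatrixGroups Matrix

/-! S5953 piece TIFIXU: the fixed part of a totally isotropic subspace has at most half the
dimension of the fixed space. -/

universe u

namespace Cfsg.Agent.S5953P

open Polynomial Cfsg.Agent.S5955P Cfsg.Agent.Helper28.HW Cfsg.Agent.Helper28.HermFrame

/-- TIFIXU -/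
theorem ti_fix_le_u {F V : Type*} [Field F] [Fintype F] [AddCommGroup V] [Module F V]
    [FiniteDimensional F V] {p : ℕ} [Fact p.Prime] [CharP F p] {q : ℕ} (r : ℕ) [Fact r.Prime]
    (hrp : r ≠ p) {σ : F →+* F} (B : V →ₛₗ[σ] V →ₗ[F] F) (y : Module.End F V)
    (h : IsYU q B y r) (W : Submodule F V) (hW : OrthU B W W) :
    2 * Module.finrank F ↥(W ⊓ LinearMap.ker (y - 1)) ≤
      Module.finrank F (LinearMap.ker (y - 1)) := by
  obtain ⟨-, -, -, -, -, hC, -, -⟩ := fix_split_u r hrp B y h
  exact ti_le_half_u B h.herm (LinearMap.ker (y - 1)) (W ⊓ LinearMap.ker (y - 1)) hC inf_le_right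
    (fun u hu v hv => hW u hu.1 v hv.1)

end Cfsg.Agent.S5953P
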