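import Mathlib
import Cfsg.Prelude.Def_GeometricClasses
import Cfsg.Prelude.Def_Classical
import Cfsg.Prelude.Def_LieClassical
import Cfsg.Agent.Helper6.S5992Defs
import Cfsg.Agent.Helper7.S5955PRODB

/-! S5992 piece PRODQ: the orthogonal sum of a trivial `k`-space with `b` copies of a
fixed-point-free model space. -/

set_option autoImplicit false
open scoped MatrixGroups
universe u

namespace Cfsg.Agent.S5992P

open Cfsg.Agent.Helper2.SympInvol Cfsg.Agent.Helper2.SympUnits Cfsg.Agent.S5961P Cfsg.Agent.S2614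
  Cfsg.Agent.S5955P

namespace PRODQ

variable {F : Type*} [Field F]

/-- the sum of squares on `Fin k → F` -/
noncomputable def sqQ (k : ℕ) : QuadraticForm F (Fin k → F) :=
  ∑ a : Fin k, (QuadraticMap.sq (R := F)).comp (LinearMap.proj a)

theorem sqQ_apply (k : ℕ) (u : Fin k → F) : sqQ k u = ∑ a : Fin k, u a * u a := by
  simp [sqQ, QuadraticMap.sq]

theorem PB_sqQ (k : ℕ) (u v : Fin k → F) :
    PB (sqQ (F := F) k) u v = 2 * ∑ a : Fin k, u a * v a := by
  rw [PB_apply, QuadraticMap.polar, sqQ_apply, sqQ_apply, sqQ_apply, Finset.mul_sum,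
    ← Finset.sum_sub_distrib, ← Finset.sum_sub_distrib]
  apply Finset.sum_congr rfl
  intro a _
  rw [Pi.add_apply]
  ring

/-- the trivial space -/
theorem sqQ_isYO (h2 : (2 : F) ≠ 0) (k r : ℕ) : IsYO (sqQ (F := F) k) 1 r := by
  classical
  refine ⟨?_, fun v => rfl, one_pow r⟩
  intro u _ hu0
  have hne : ∃ a₀ : Fin k, u a₀ ≠ 0 := by
    by_contra hcon
    push Not at hcon
    exact hu0 (funext hcon)
  obtain ⟨a₀, ha₀⟩ := hne
  refine ⟨Pi.single a₀ 1, trivial, ?_⟩
  rw [PB_sqQ, Finset.sum_eq_single a₀]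
  · rw [Pi.single_eq_same, mul_one]
    exact mul_ne_zero h2 ha₀
  · intro a _ hab
    rw [Pi.single_eq_of_ne hab, mul_zero]
  · intro h; exact absurd (Finset.mem_univ a₀) h

/-- the orthogonal sum of two `IsYO` spaces -/
theorem prod_isYO {V₁ V₂ : Type*} [AddCommGroup V₁] [Module F V₁] [AddCommGroup V₂]
    [Module F V₂] (Q₁ : QuadraticForm F V₁) (Q₂ : QuadraticForm F V₂) (y₁ : Module.End F V₁)
    (y₂ : Module.End F V₂) (r : ℕ) (h₁ : IsYO Q₁ y₁ r) (h₂ : IsYO Q₂ y₂ r) :
    IsYO (Q₁.prod Q₂) (y₁.prodMap y₂) r := by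
  refine ⟨?_, ?_, ?_⟩
  · intro m _ hm
    by_cases hm1 : m.1 = 0
    · have hm2 : m.2 ≠ 0 := by
        intro h
        apply hm
        exact Prod.ext hm1 h
      obtain ⟨v, -, hv⟩ := h₂.nondeg m.2 trivial hm2
      refine ⟨(0, v), trivial, ?_⟩
      rw [PB_apply, QuadraticMap.polar_prod]
      rw [PB_apply] at hv
      simpa using hv
    · obtain ⟨v, -, hv⟩ := h₁.nondeg m.1 trivial hm1
      refine ⟨(v, 0), trivial, ?_⟩
      rw [PB_apply, QuadraticMap.polar_prod]
      rw [PB_apply] at hv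
      simpa using hv
  · intro v
    rw [QuadraticMap.prod_apply, QuadraticMap.prod_apply, LinearMap.prodMap_apply]
    simp only
    rw [h₁.isom, h₂.isom]
  · rw [Cfsg.Agent.S5955P.PRODB.prodMap_pow, h₁.pow, h₂.pow, LinearMap.prodMap_one]

end PRODQ

open PRODQ in
/-- PRODQ -/
theorem exists_power_space {F : Type u} [Field F] (h2 : (2 : F) ≠ 0) (r : ℕ) {E : Type u}
    [AddCommGroup E] [Module F E] [FiniteDimensional F E] (QE : QuadraticForm F E)
    (yE : Module.End F E) (hE : IsYO QE yE r) (hfix : LinearMap.ker (yE - 1) = ⊥) (k b : ℕ) :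
    ∃ (V : Type u) (_ : AddCommGroup V) (_ : Module F V) (_ : FiniteDimensional F V)
      (Q : QuadraticForm F V) (y : Module.End F V),
      IsYO Q y r ∧ Module.finrank F V = k + b * Module.finrank F E ∧
      Module.finrank F (LinearMap.ker (y - 1)) = k := by
  induction b with
  | zero =>
    refine ⟨Fin k → F, inferInstance, inferInstance, inferInstance, sqQ k, 1,
      sqQ_isYO h2 k r, ?_, ?_⟩
    · rw [Module.finrank_fin_fun, zero_mul, add_zero]
    · rw [sub_self, LinearMap.ker_zero, finrank_top, Module.finrank_fin_fun]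
  | succ b ih =>
    obtain ⟨V, i1, i2, i3, Q, y, hY, h1, h2'⟩ := ih
    refine ⟨E × V, inferInstance, inferInstance, inferInstance, QE.prod Q, yE.prodMap y,
      prod_isYO QE Q yE y r hE hY, ?_, ?_⟩
    · rw [Module.finrank_prod, h1]
      ring
    · rw [Cfsg.Agent.S5955P.PRODB.prodMap_sub_one, LinearMap.ker_prodMap,
        Cfsg.Agent.S5955P.PRODB.finrank_prod_sub, hfix, finrank_bot, h2', zero_add]

end Cfsg.Agent.S5992P
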