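import Mathlib
import Cfsg.Prelude.Def_Classical
import Cfsg.Agent.Helper23.S5953Defs
import Cfsg.Agent.S0755

set_option autoImplicit false
open scoped MatrixGroups Matrix

/-! S5953 piece TRANSPORTU: an abstract `IsYU` is realized by a unitary matrix. -/

universe u

namespace Cfsg.Agent.S5953P

open Polynomial Cfsg.Agent.S5955P Cfsg.Agent.Helper28.HW Cfsg.Agent.Helper28.HermFrame

/-- TRANSPORTU: an abstract `IsYU` is realized by a unitary matrix (orthonormal basis) -/
theorem exists_un_of_yu {F V : Type*} [Field F] [Fintype F] [AddCommGroup V] [Module F V]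
    [FiniteDimensional F V] {q : ℕ} {σ : F →+* F} (B : V →ₛₗ[σ] V →ₗ[F] F)
    (y : Module.End F V) (r : ℕ) (h : IsYU q B y r) (n : ℕ) (hn : Module.finrank F V = n) :
    ∃ (x : Matrix (Fin n) (Fin n) F) (e : V ≃ₗ[F] (Fin n → F)),
      IsUn q x ∧ x ^ r = 1 ∧ (∀ u v, Cfsg.hermForm n F q (e v) (e u) = B u v) ∧
      (∀ v, e (y v) = Matrix.toLin' x (e v)) := by
  classical
  have hsepR : B.SeparatingRight := by
    intro v hv
    by_contra hv0
    obtain ⟨w, -, hw⟩ := h.nondeg v trivial hv0
    exact hw (h.herm.eq_zero_comm (hv w))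
  obtain ⟨b, hb⟩ := Cfsg.Agent.S0755.aux σ h.herm.ne_id h.herm.invol n B h.herm.isSymm hsepR hn
  have hli : LinearIndependent F b := by
    rw [Fintype.linearIndependent_iff]
    intro c hc j
    have h1 : B (b j) (∑ i, c i • b i) = c j := by
      rw [map_sum]
      simp only [map_smul, smul_eq_mul, hb]
      rw [Finset.sum_eq_single j]
      · simp
      · intro i _ hij
        rw [if_neg (Ne.symm hij), mul_zero]
      · intro hj; exact absurd (Finset.mem_univ j) hj
    rw [hc, map_zero] at h1
    exact h1.symm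
  have hspan : Submodule.span F (Set.range b) = ⊤ :=
    hli.span_eq_top_of_card_eq_finrank' (by rw [Fintype.card_fin, hn])
  let bas : Module.Basis (Fin n) F V := Module.Basis.mk hli hspan.ge
  have hbas : ∀ i, bas i = b i := fun i => by
    simp [bas]
  let e : V ≃ₗ[F] (Fin n → F) := bas.equivFun
  have hrepr : ∀ v : V, v = ∑ i, e v i • b i := by
    intro v
    have := bas.sum_equivFun v
    simp only [hbas] at this
    exact this.symm
  have hform : ∀ u v, Cfsg.hermForm n F q (e v) (e u) = B u v := by
    intro u v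
    conv_rhs => rw [hrepr u, hrepr v]
    rw [B_sum_left]
    unfold Cfsg.hermForm
    apply Finset.sum_congr rfl
    intro i _
    rw [map_sum]
    simp only [map_smul, smul_eq_mul, hb]
    rw [Finset.sum_eq_single i]
    · rw [if_pos rfl, mul_one, h.herm.frob, mul_comm]
    · intro j _ hji
      rw [if_neg (Ne.symm hji), mul_zero]
    · intro hi; exact absurd (Finset.mem_univ i) hi
  set φ : (Fin n → F) →ₗ[F] (Fin n → F) :=
    (e : V →ₗ[F] (Fin n → F)) ∘ₗ y ∘ₗ (e.symm : (Fin n → F) →ₗ[F] V) with hφ
  have hφe : ∀ v, φ (e v) = e (y v) := by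
    intro v
    simp [hφ]
  have hey : ∀ v, e (y v) = Matrix.toLin' (LinearMap.toMatrix' φ) (e v) := by
    intro v
    rw [Matrix.toLin'_toMatrix', hφe]
  refine ⟨LinearMap.toMatrix' φ, e, ?_, ?_, hform, hey⟩
  · intro u v
    obtain ⟨u', rfl⟩ := e.surjective u
    obtain ⟨v', rfl⟩ := e.surjective v
    rw [← Matrix.toLin'_apply, ← Matrix.toLin'_apply, ← hey, ← hey, hform, hform, h.isom]
  · have hpow : ∀ (k : ℕ) (v : V),
        Matrix.toLin' ((LinearMap.toMatrix' φ) ^ k) (e v) = e ((y ^ k) v) := by
      intro k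
      induction k with
      | zero => intro v; simp
      | succ k ih =>
        intro v
        rw [pow_succ, Matrix.toLin'_mul, LinearMap.comp_apply, ← hey, ih, pow_succ,
          Module.End.mul_apply]
    apply Matrix.toLin'.injective
    apply LinearMap.ext
    intro w
    obtain ⟨v, rfl⟩ := e.surjective w
    rw [hpow, h.pow, Matrix.toLin'_one]
    rfl

end Cfsg.Agent.S5953P
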