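import Mathlib
import Cfsg.Prelude.Def_Classical
import Cfsg.Agent.Helper23.S5953Defs
import Cfsg.Agent.Helper7.S5955PRODB

set_option autoImplicit false
open scoped MatrixGroups Matrix

/-! S5953 piece PRODBU: orthogonal sums of `IsYU` spaces. -/

universe u

namespace Cfsg.Agent.S5953P

open Polynomial Cfsg.Agent.S5955P Cfsg.Agent.Helper28.HW Cfsg.Agent.Helper28.HermFrame

open Cfsg.Agent.S5955P.PRODB in
/-- PRODBU -/
theorem prod_isYU {F V₁ V₂ : Type*} [Field F] [Fintype F] [AddCommGroup V₁] [Module F V₁]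
    [FiniteDimensional F V₁] [AddCommGroup V₂] [Module F V₂] [FiniteDimensional F V₂] {q : ℕ}
    {σ : F →+* F} (B₁ : V₁ →ₛₗ[σ] V₁ →ₗ[F] F) (B₂ : V₂ →ₛₗ[σ] V₂ →ₗ[F] F)
    (y₁ : Module.End F V₁) (y₂ : Module.End F V₂) (r : ℕ)
    (h₁ : IsYU q B₁ y₁ r) (h₂ : IsYU q B₂ y₂ r) :
    IsYU q (prodU B₁ B₂) (y₁.prodMap y₂) r ∧
    Module.finrank F (LinearMap.ker (y₁.prodMap y₂ - 1)) =
      Module.finrank F (LinearMap.ker (y₁ - 1)) + Module.finrank F (LinearMap.ker (y₂ - 1)) ∧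
    ∀ g : F[X],
      Module.finrank F ↥(LinearMap.range (y₁.prodMap y₂ - 1) ⊓
        LinearMap.ker (aeval (y₁.prodMap y₂) g)) =
      Module.finrank F ↥(LinearMap.range (y₁ - 1) ⊓ LinearMap.ker (aeval y₁ g)) +
      Module.finrank F ↥(LinearMap.range (y₂ - 1) ⊓ LinearMap.ker (aeval y₂ g)) := by
  classical
  refine ⟨⟨⟨h₁.herm.card, h₁.herm.frob, ?_⟩, ?_, ?_, ?_⟩, ?_, ?_⟩
  · intro u v
    rw [prodU_apply, prodU_apply, map_add, h₁.herm.symm, h₂.herm.symm]
  · intro m _ hm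
    by_cases hm1 : m.1 = 0
    · have hm2 : m.2 ≠ 0 := by
        intro h
        apply hm
        exact Prod.ext hm1 h
      obtain ⟨v, -, hv⟩ := h₂.nondeg m.2 trivial hm2
      refine ⟨(0, v), trivial, ?_⟩
      rw [prodU_apply]
      simpa using hv
    · obtain ⟨v, -, hv⟩ := h₁.nondeg m.1 trivial hm1
      refine ⟨(v, 0), trivial, ?_⟩
      rw [prodU_apply]
      simpa using hv
  · intro u v
    rw [prodU_apply, prodU_apply, LinearMap.prodMap_apply, LinearMap.prodMap_apply]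
    simp only
    rw [h₁.isom, h₂.isom]
  · rw [prodMap_pow, h₁.pow, h₂.pow, LinearMap.prodMap_one]
  · rw [prodMap_sub_one, LinearMap.ker_prodMap, finrank_prod_sub]
  · intro g
    rw [prodMap_sub_one, aeval_prodMap, LinearMap.ker_prodMap, LinearMap.range_prodMap,
      Submodule.prod_inf_prod, finrank_prod_sub]

end Cfsg.Agent.S5953P
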