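import Mathlib
import Cfsg.Prelude.Def_Classical
import Cfsg.Agent.Helper23.S5953Defs
import Cfsg.Agent.Helper7.S5953PRODBU

set_option autoImplicit false
open scoped MatrixGroups Matrix

/-! S5953 piece POWSP: the trivial space and powers of a model space. -/

universe u

namespace Cfsg.Agent.S5953P

open Polynomial Cfsg.Agent.S5955P Cfsg.Agent.Helper28.HW Cfsg.Agent.Helper28.HermFrame

/-- POWSP: the trivial space and powers of a model space -/
theorem exists_power_space_u {F : Type u} [Field F] [Fintype F] {q : ℕ} {σ : F →+* F}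
    {V₀ : Type u} [AddCommGroup V₀] [Module F V₀] [FiniteDimensional F V₀]
    (B₀ : V₀ →ₛₗ[σ] V₀ →ₗ[F] F) (y₀ : Module.End F V₀) (r : ℕ) (h₀ : IsYU q B₀ y₀ r)
    (k κ : ℕ) :
    ∃ (V : Type u) (_ : AddCommGroup V) (_ : Module F V) (_ : FiniteDimensional F V)
      (B : V →ₛₗ[σ] V →ₗ[F] F) (y : Module.End F V),
      IsYU q B y r ∧
      Module.finrank F V = κ + k * Module.finrank F V₀ ∧
      Module.finrank F (LinearMap.ker (y - 1)) =
        κ + k * Module.finrank F (LinearMap.ker (y₀ - 1)) ∧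
      ∀ g : F[X],
        Module.finrank F ↥(LinearMap.range (y - 1) ⊓ LinearMap.ker (aeval y g)) =
        k * Module.finrank F ↥(LinearMap.range (y₀ - 1) ⊓ LinearMap.ker (aeval y₀ g)) := by
  induction k with
  | zero =>
    have hF := h₀.herm.card
    have hσ := h₀.herm.frob
    have hσ2 : ∀ a, σ (σ a) = a := h₀.herm.invol
    refine ⟨Fin κ → F, inferInstance, inferInstance, inferInstance, hB σ κ, 1,
      ⟨hB_isHerm σ hF hσ κ, hB_nondegU σ hσ2 κ, fun u v => rfl, one_pow r⟩, ?_, ?_, ?_⟩
    · rw [Module.finrank_fin_fun, zero_mul, add_zero]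
    · rw [sub_self, LinearMap.ker_zero, finrank_top, Module.finrank_fin_fun, zero_mul, add_zero]
    · intro g
      rw [sub_self, LinearMap.range_zero, bot_inf_eq, finrank_bot, zero_mul]
  | succ k ih =>
    obtain ⟨V, i1, i2, i3, B, y, hY, h1, h2, h3⟩ := ih
    obtain ⟨hP, hk, hg⟩ := prod_isYU B₀ B y₀ y r h₀ hY
    refine ⟨V₀ × V, inferInstance, inferInstance, inferInstance, prodU B₀ B, y₀.prodMap y,
      hP, ?_, ?_, ?_⟩
    · rw [Module.finrank_prod, h1]
      ring
    · rw [hk, h2]
      ring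
    · intro g
      rw [hg g, h3 g]
      ring

end Cfsg.Agent.S5953P
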