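import Mathlib
import Cfsg.Agent.S2639
import Cfsg.Agent.Helper13.NormForm

set_option autoImplicit false
set_option linter.style.haveILetI false
open Cfsg

/-! Explicit form of the embedding `GU_m(q) → Sp_2m(q)` (construction of S2639 by helper13), with the
extra properties needed to identify its image with the centraliser of the image of a scalar. -/

namespace Cfsg.Agent.Helper7.SpGU

open Matrix Cfsg.Agent.Helper13 Module Cfsg.Agent.S2639

section

variable {K F : Type*} [Field K] [Fintype K] [Field F] [Fintype F] [Algebra F K] {q : ℕ}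
  (hK : Fintype.card K = q ^ 2) (hF : Fintype.card F = q)

local notation "ι" => algebraMap F K

include hK hF in
/-- a basis of `K^m` over `F` in which the traced twisted Hermitian form has Gram matrix `δ J`. -/
theorem exists_frame (m : ℕ) :
    ∃ (B : Basis (Fin m ⊕ Fin m) F (Fin m → K)) (lam : K) (δ : F), δ ≠ 0 ∧ lam ≠ 0 ∧
      LinearMap.BilinForm.toMatrix B (fV hK hF m lam) = δ • Matrix.J (Fin m) F := by
  classical
  have hq0 : q ≠ 0 := by rw [← hF]; exact Fintype.card_ne_zero
  obtain ⟨θ, hθ⟩ := exists_not_mem_range ι hK hF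
  set lam : K := θ - θ ^ q with hlam
  have hlamq : lam ^ q = -lam := by
    rw [hlam, sub_pow_card_of_ringHom ι hF, pow_card_sq hK]; ring
  have hlam0 : lam ≠ 0 := by
    intro h
    rw [hlam, sub_eq_zero] at h
    obtain ⟨x, hx⟩ := exists_of_pow_card_eq ι hF θ h.symm
    exact hθ x hx
  obtain ⟨δ, hδ⟩ : ∃ δ : F, ι δ = lam * lam :=
    exists_of_pow_card_eq ι hF _ (by rw [mul_pow, hlamq]; ring)
  have hδ0 : δ ≠ 0 := by
    rintro rfl
    rw [map_zero] at hδ
    exact hlam0 (mul_self_eq_zero.mp hδ.symm)
  have hli : LinearIndependent F ![(1 : K), θ] := by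
    rw [LinearIndependent.pair_iff]
    intro s t hst
    rw [Algebra.smul_def, Algebra.smul_def, mul_one] at hst
    have ht : t = 0 := by
      by_contra ht
      apply hθ (-s / t)
      have hιt : ι t ≠ 0 := (map_ne_zero _).mpr ht
      have h1 : ι t * θ = - ι s := by linear_combination hst
      rw [map_div₀, map_neg, ← h1]
      field_simp
    subst ht
    rw [map_zero, zero_mul, add_zero] at hst
    exact ⟨(map_eq_zero _).mp hst, rfl⟩
  have hfr : finrank F K = 2 := finrank_eq_two_of_card hK hF
  let bK : Basis (Fin 2) F K := basisOfLinearIndependentOfCardEqFinrank hli (by simp [hfr])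
  have hbK : ⇑bK = ![(1 : K), θ] := coe_basisOfLinearIndependentOfCardEqFinrank _ _
  let e : Fin 2 × Fin m ≃ Fin m ⊕ Fin m :=
    (Equiv.prodCongrLeft (fun _ => finTwoEquiv)).trans (Equiv.boolProdEquivSum (Fin m))
  let B : Basis (Fin m ⊕ Fin m) F (Fin m → K) :=
    (bK.smulTower (Pi.basisFun K (Fin m))).reindex e
  have hBl : ∀ i, B (Sum.inl i) = Pi.single i 1 := by
    intro i
    have h1 : e.symm (Sum.inl i) = (0, i) := by
      rw [Equiv.symm_apply_eq]; rfl
    show (bK.smulTower (Pi.basisFun K (Fin m))).reindex e (Sum.inl i) = _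
    rw [Basis.reindex_apply, h1, Basis.smulTower_apply, hbK]
    simp
  have hBr : ∀ i, B (Sum.inr i) = Pi.single i θ := by
    intro i
    have h1 : e.symm (Sum.inr i) = (1, i) := by
      rw [Equiv.symm_apply_eq]; rfl
    show (bK.smulTower (Pi.basisFun K (Fin m))).reindex e (Sum.inr i) = _
    rw [Basis.reindex_apply, h1, Basis.smulTower_apply, hbK]
    funext j
    by_cases h : j = i
    · subst h; simp
    · simp [h]
  -- values of the trace
  have htr0 : trF ι hK hF (lam * ((1 : K) * (1 : K) ^ q)) = 0 := by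
    apply trF_eq_zero_of_pow_eq_neg
    rw [one_pow, mul_one, mul_one, hlamq]
  have htr1 : trF ι hK hF (lam * ((1 : K) * θ ^ q)) = -δ := by
    apply (algebraMap F K).injective
    rw [ι_trF, map_neg, hδ, one_mul, mul_pow, hlamq, pow_card_sq hK, hlam]
    ring
  have htr2 : trF ι hK hF (lam * (θ * (1 : K) ^ q)) = δ := by
    apply (algebraMap F K).injective
    rw [ι_trF, hδ, one_pow, mul_one, mul_pow, hlamq, hlam]
    ring
  have htr3 : trF ι hK hF (lam * (θ * θ ^ q)) = 0 := by
    apply trF_eq_zero_of_pow_eq_neg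
    rw [mul_pow, mul_pow, hlamq, pow_card_sq hK]
    ring
  have hG : LinearMap.BilinForm.toMatrix B (fV hK hF m lam) = δ • Matrix.J (Fin m) F := by
    ext x y
    rw [LinearMap.BilinForm.toMatrix_apply, fV_apply, Matrix.smul_apply, smul_eq_mul]
    rcases x with i | i <;> rcases y with j | j
    · rw [hBl, hBl, hermForm_single m hq0]
      by_cases h : i = j
      · rw [if_pos h, htr0]; simp [Matrix.J]
      · rw [if_neg h, mul_zero]
        have : trF ι hK hF (0 : K) = 0 := by
          apply trF_eq_zero_of_pow_eq_neg; rw [zero_pow hq0, neg_zero]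
        rw [this]; simp [Matrix.J]
    · rw [hBl, hBr, hermForm_single m hq0]
      by_cases h : i = j
      · rw [if_pos h, htr1]; simp [Matrix.J, h]
      · rw [if_neg h, mul_zero]
        have : trF ι hK hF (0 : K) = 0 := by
          apply trF_eq_zero_of_pow_eq_neg; rw [zero_pow hq0, neg_zero]
        rw [this]; simp [Matrix.J, h]
    · rw [hBr, hBl, hermForm_single m hq0]
      by_cases h : i = j
      · rw [if_pos h, htr2]; simp [Matrix.J, h]
      · rw [if_neg h, mul_zero]
        have : trF ι hK hF (0 : K) = 0 := by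
          apply trF_eq_zero_of_pow_eq_neg; rw [zero_pow hq0, neg_zero]
        rw [this]; simp [Matrix.J, h]
    · rw [hBr, hBr, hermForm_single m hq0]
      by_cases h : i = j
      · rw [if_pos h, htr3]; simp [Matrix.J]
      · rw [if_neg h, mul_zero]
        have : trF ι hK hF (0 : K) = 0 := by
          apply trF_eq_zero_of_pow_eq_neg; rw [zero_pow hq0, neg_zero]
        rw [this]; simp [Matrix.J]
  exact ⟨B, lam, δ, hδ0, hlam0, hG⟩


/-- the matrix over `F` (in the basis `B`) of the `F`-linear map `u ↦ g *ᵥ u` of `K^m`. -/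
noncomputable def Nmat {m : ℕ} (B : Basis (Fin m ⊕ Fin m) F (Fin m → K))
    (g : Matrix (Fin m) (Fin m) K) : Matrix (Fin m ⊕ Fin m) (Fin m ⊕ Fin m) F :=
  LinearMap.toMatrix B B ((Matrix.toLin' g).restrictScalars F)

variable {m : ℕ} (B : Basis (Fin m ⊕ Fin m) F (Fin m → K))

omit [Fintype K] [Fintype F] in
theorem Nmat_one : Nmat B 1 = 1 := by
  unfold Nmat
  have : (Matrix.toLin' (1 : Matrix (Fin m) (Fin m) K)).restrictScalars F = LinearMap.id := by
    apply LinearMap.ext
    intro u
    simp
  rw [this, LinearMap.toMatrix_id]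

omit [Fintype K] [Fintype F] in
theorem Nmat_mul (g h : Matrix (Fin m) (Fin m) K) : Nmat B (g * h) = Nmat B g * Nmat B h := by
  unfold Nmat
  have : (Matrix.toLin' (g * h)).restrictScalars F =
      ((Matrix.toLin' g).restrictScalars F).comp ((Matrix.toLin' h).restrictScalars F) := by
    apply LinearMap.ext
    intro u
    simp [Matrix.toLin'_mul]
  rw [this, LinearMap.toMatrix_comp B B B]

omit [Fintype K] [Fintype F] in
theorem Nmat_add (g h : Matrix (Fin m) (Fin m) K) : Nmat B (g + h) = Nmat B g + Nmat B h := by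
  unfold Nmat
  have : (Matrix.toLin' (g + h)).restrictScalars F =
      ((Matrix.toLin' g).restrictScalars F) + ((Matrix.toLin' h).restrictScalars F) := by
    apply LinearMap.ext
    intro u
    simp
  rw [this, map_add]

omit [Fintype K] [Fintype F] in
theorem Nmat_zero : Nmat B (0 : Matrix (Fin m) (Fin m) K) = 0 := by
  unfold Nmat
  have : (Matrix.toLin' (0 : Matrix (Fin m) (Fin m) K)).restrictScalars F = 0 := by
    apply LinearMap.ext
    intro u
    simp
  rw [this, map_zero]

omit [Fintype K] [Fintype F] in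
theorem Nmat_injective : Function.Injective (Nmat B) := by
  intro g h hgh
  unfold Nmat at hgh
  have h2 := (LinearMap.toMatrix B B).injective hgh
  apply Matrix.toLin'.injective
  apply LinearMap.ext
  intro u
  have := congrArg (fun f => f u) h2
  simpa using this


omit [Fintype K] [Fintype F] [Algebra F K] in
theorem hermForm_smul_left' (c : K) (u v : Fin m → K) :
    Cfsg.hermForm m K q (c • u) v = c * Cfsg.hermForm m K q u v := by
  simp only [Cfsg.hermForm, Pi.smul_apply, smul_eq_mul, Finset.mul_sum, mul_assoc]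

theorem trF_sub' (x y : K) :
    trF ι hK hF (x - y) = trF ι hK hF x - trF ι hK hF y := by
  apply (algebraMap F K).injective
  rw [map_sub, ι_trF, ι_trF, ι_trF, sub_pow_card_of_ringHom ι hF]
  ring

include hK hF in
/-- the trace form `c ↦ tr(lam c z)` vanishes identically only for `z = 0`. -/
theorem eq_zero_of_trF_eq_zero {lam : K} (hlam0 : lam ≠ 0) (z : K)
    (hz : ∀ c : K, trF ι hK hF (lam * (c * z)) = 0) : z = 0 := by
  by_contra hz0
  obtain ⟨κ, hκ⟩ := exists_trace_one (K := K) (F := F) hK hF
  have h1 := hz (κ * (lam * z)⁻¹)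
  have h2 : lam * (κ * (lam * z)⁻¹ * z) = κ := by
    field_simp
  rw [h2] at h1
  have h3 := ι_trF ι hK hF κ
  rw [h1, map_zero, hκ] at h3
  exact zero_ne_one h3

/-- if `g` preserves the Hermitian form, `Nmat B g` is symplectic. -/
theorem Nmat_mem_sp {lam : K} {δ : F} (hδ0 : δ ≠ 0)
    (hG : LinearMap.BilinForm.toMatrix B (fV hK hF m lam) = δ • Matrix.J (Fin m) F)
    (g : Matrix (Fin m) (Fin m) K)
    (hg : ∀ u v, Cfsg.hermForm m K q (g *ᵥ u) (g *ᵥ v) = Cfsg.hermForm m K q u v) :
    Nmat B g ∈ Matrix.symplecticGroup (Fin m) F := by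
  set L := (Matrix.toLin' g).restrictScalars F with hL
  have hLapp : ∀ u, L u = g *ᵥ u := fun u => rfl
  have hpres : (fV hK hF m lam).comp L L = fV hK hF m lam := by
    apply LinearMap.ext
    intro u
    apply LinearMap.ext
    intro v
    rw [LinearMap.BilinForm.comp_apply, fV_apply, fV_apply, hLapp, hLapp]
    congr 2
    exact hg u v
  have h1 := LinearMap.BilinForm.toMatrix_comp B B (fV hK hF m lam) L L
  rw [hpres, hG] at h1
  rw [SymplecticGroup.mem_iff']
  have h2 : δ • ((Nmat B g)ᵀ * Matrix.J (Fin m) F * Nmat B g) = δ • Matrix.J (Fin m) F := by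
    rw [h1]
    simp only [Matrix.mul_smul, Matrix.smul_mul]
    rfl
  exact smul_right_injective _ hδ0 h2

/-- a `K`-linear map whose `F`-matrix is symplectic preserves the Hermitian form. -/
theorem preserves_of_mem_sp {lam : K} {δ : F} (hlam0 : lam ≠ 0)
    (hG : LinearMap.BilinForm.toMatrix B (fV hK hF m lam) = δ • Matrix.J (Fin m) F)
    (a : (Fin m → K) →ₗ[K] (Fin m → K))
    (hA : LinearMap.toMatrix B B (a.restrictScalars F) ∈ Matrix.symplecticGroup (Fin m) F) :
    ∀ u v, Cfsg.hermForm m K q (a u) (a v) = Cfsg.hermForm m K q u v := by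
  set L := a.restrictScalars F with hL
  have hLapp : ∀ u, L u = a u := fun u => rfl
  rw [SymplecticGroup.mem_iff'] at hA
  have h1 := LinearMap.BilinForm.toMatrix_comp B B (fV hK hF m lam) L L
  rw [hG] at h1
  have h2 : LinearMap.BilinForm.toMatrix B ((fV hK hF m lam).comp L L) =
      LinearMap.BilinForm.toMatrix B (fV hK hF m lam) := by
    rw [h1, hG, Matrix.mul_smul, Matrix.smul_mul, hA]
  have h3 : (fV hK hF m lam).comp L L = fV hK hF m lam :=
    (LinearMap.BilinForm.toMatrix B).injective h2
  have h4 : ∀ u v, trF ι hK hF (lam * Cfsg.hermForm m K q (a u) (a v)) =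
      trF ι hK hF (lam * Cfsg.hermForm m K q u v) := by
    intro u v
    have := congrArg (fun f => f u v) h3
    simpa [LinearMap.BilinForm.comp_apply, fV_apply, hLapp] using this
  intro u v
  rw [← sub_eq_zero]
  apply eq_zero_of_trF_eq_zero hK hF hlam0
  intro c
  have h5 := h4 (c • u) v
  rw [map_smul, hermForm_smul_left', hermForm_smul_left'] at h5
  rw [mul_sub, mul_sub, trF_sub', h5, sub_self]


include hK hF in
/-- every element of `K` is `s + t ω` with `s, t ∈ F`, when `ω ∉ F`. -/
theorem exists_repr (ω : K) (hω : ∀ x : F, ι x ≠ ω) (c : K) :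
    ∃ s t : F, c = ι s + ι t * ω := by
  classical
  let f : F × F → K := fun st => ι st.1 + ι st.2 * ω
  have hinj : Function.Injective f := by
    rintro ⟨s, t⟩ ⟨s', t'⟩ h
    simp only [f] at h
    have ht : t = t' := by
      by_contra hne
      have hne' : t - t' ≠ 0 := sub_ne_zero.mpr hne
      apply hω ((s' - s) / (t - t'))
      have hιt : ι (t - t') ≠ 0 := (map_ne_zero _).mpr hne'
      have h1 : ι (t - t') * ω = ι (s' - s) := by
        rw [map_sub, map_sub]; linear_combination h
      rw [map_div₀, ← h1]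
      field_simp
    subst ht
    have hs : ι s = ι s' := by linear_combination h
    rw [(algebraMap F K).injective hs]
  have hcard : Fintype.card (F × F) = Fintype.card K := by
    rw [Fintype.card_prod, hF, hK]; ring
  have hbij : Function.Bijective f := (Fintype.bijective_iff_injective_and_card f).2 ⟨hinj, hcard⟩
  obtain ⟨⟨s, t⟩, hst⟩ := hbij.2 c
  exact ⟨s, t, hst.symm⟩

include hK hF in
/-- a symplectic matrix commuting with the matrix of multiplication by `ω ∉ F` comes from a
matrix over `K` preserving the Hermitian form. -/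
theorem exists_of_commute {lam : K} {δ : F} (hlam0 : lam ≠ 0)
    (hG : LinearMap.BilinForm.toMatrix B (fV hK hF m lam) = δ • Matrix.J (Fin m) F)
    (ω : K) (hω : ∀ x : F, ι x ≠ ω)
    (A : Matrix (Fin m ⊕ Fin m) (Fin m ⊕ Fin m) F) (hA : A ∈ Matrix.symplecticGroup (Fin m) F)
    (hcomm : A * Nmat B (ω • (1 : Matrix (Fin m) (Fin m) K)) =
      Nmat B (ω • (1 : Matrix (Fin m) (Fin m) K)) * A) :
    ∃ g : Matrix (Fin m) (Fin m) K,
      (∀ u v, Cfsg.hermForm m K q (g *ᵥ u) (g *ᵥ v) = Cfsg.hermForm m K q u v) ∧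
        Nmat B g = A := by
  classical
  set a : (Fin m → K) →ₗ[F] (Fin m → K) := Matrix.toLin B B A with ha
  have haA : LinearMap.toMatrix B B a = A := LinearMap.toMatrix_toLin B B A
  set W : (Fin m → K) →ₗ[F] (Fin m → K) :=
    (Matrix.toLin' (ω • (1 : Matrix (Fin m) (Fin m) K))).restrictScalars F with hW
  have hWapp : ∀ u, W u = ω • u := by
    intro u
    simp [hW]
  have hcomm' : a.comp W = W.comp a := by
    apply (LinearMap.toMatrix B B).injective
    rw [LinearMap.toMatrix_comp B B B, LinearMap.toMatrix_comp B B B, haA]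
    exact hcomm
  have hω' : ∀ u, a (ω • u) = ω • a u := by
    intro u
    have := congrArg (fun f => f u) hcomm'
    simpa [hWapp] using this
  have hlin : ∀ (c : K) (u : Fin m → K), a (c • u) = c • a u := by
    intro c u
    obtain ⟨s, t, rfl⟩ := exists_repr hK hF ω hω c
    rw [add_smul, add_smul, map_add, mul_smul, mul_smul, algebraMap_smul, algebraMap_smul,
      algebraMap_smul, algebraMap_smul, map_smul, map_smul, hω']
  let aK : (Fin m → K) →ₗ[K] (Fin m → K) :=
    { toFun := a
      map_add' := a.map_add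
      map_smul' := hlin }
  have haK : aK.restrictScalars F = a := by
    apply LinearMap.ext
    intro u
    rfl
  refine ⟨LinearMap.toMatrix' aK, ?_, ?_⟩
  · intro u v
    rw [LinearMap.toMatrix'_mulVec, LinearMap.toMatrix'_mulVec]
    apply preserves_of_mem_sp hK hF B hlam0 hG aK
    rw [haK, haA]
    exact hA
  · unfold Nmat
    rw [Matrix.toLin'_toMatrix', haK, haA]

end

end Cfsg.Agent.Helper7.SpGU
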