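import Mathlib
import Cfsg.Prelude.Def_GeometricClasses
import Cfsg.Prelude.Def_Classical
import Cfsg.Prelude.Def_LieClassical
import Cfsg.Agent.Helper27.S5989Defs
import Cfsg.Agent.Helper12.BCGraphC

/-! S5989 piece OMEGAODDG (helper7): isometries of odd order lie in `omegaGL`. -/

set_option autoImplicit false
open scoped MatrixGroups
universe u

namespace Cfsg.Agent.S5989P

open Cfsg.Agent.Helper2.SympInvol Cfsg.Agent.Helper2.SympUnits Cfsg.Agent.S5961P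
  Cfsg.Agent.S5992P

/-- OMEGAODDG -/
theorem mem_omegaGL_of_odd_gen {F : Type*} [Field F] [Fintype F] (h2 : (2 : F) ≠ 0) {ι : Type}
    [Fintype ι] [DecidableEq ι] (Q : QuadraticForm F (ι → F))
    (hQ : (QuadraticMap.polarBilin Q).Nondegenerate) (hn : 2 ≤ Fintype.card ι) (x : GL ι F)
    (hx : x ∈ Cfsg.isometryGroup F ⇑Q) (n : ℕ) (hn' : Odd n) (hxn : x ^ n = 1) :
    x ∈ Cfsg.Geo.omegaGL ⇑Q := by
  have hg : (⟨x, hx⟩ : ↥(Cfsg.isometryGroup F ⇑Q)) ^ n = 1 := by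
    apply Subtype.ext
    rw [Subgroup.coe_pow]
    exact hxn
  have hdvd := orderOf_dvd_of_pow_eq_one hg
  have hodd : Odd (orderOf (⟨x, hx⟩ : ↥(Cfsg.isometryGroup F ⇑Q))) := hn'.of_dvd_nat hdvd
  have hΩ := Cfsg.Agent.Helper12.BCG.mem_Omega_of_odd Q h2 hQ ⟨x, hx⟩ hodd
  unfold Cfsg.Geo.omegaGL
  rw [Subgroup.mem_map]
  exact ⟨⟨x, hx⟩, hΩ, rfl⟩

end Cfsg.Agent.S5989P
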