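import Mathlib
import Cfsg.Prelude.Def_GeometricClasses
import Cfsg.Prelude.Def_Classical
import Cfsg.Prelude.Def_LieClassical
import Cfsg.Agent.Helper27.S5989Defs
import Cfsg.Agent.Helper27.S5991Defs
import Cfsg.Agent.Helper7.S5955PRODB
import Cfsg.Agent.Helper7.S5992PRODQ

/-! S5991 piece PRODUQ (helper7): product of two quadratic spaces with isometries. -/

set_option autoImplicit false
open scoped MatrixGroups
universe u

namespace Cfsg.Agent.S5989P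

open Cfsg.Agent.Helper2.SympInvol Cfsg.Agent.Helper2.SympUnits Cfsg.Agent.S5961P
  Cfsg.Agent.S5992P

open Cfsg.Agent.S5955P.PRODB in
/-- PRODUQ -/
theorem prod_props {F V₁ V₂ : Type*} [Field F] [AddCommGroup V₁] [Module F V₁]
    [FiniteDimensional F V₁] [AddCommGroup V₂] [Module F V₂] [FiniteDimensional F V₂]
    (Q₁ : QuadraticForm F V₁) (Q₂ : QuadraticForm F V₂) (x₁ : Module.End F V₁)
    (x₂ : Module.End F V₂) (h₁ : ∀ v, Q₁ (x₁ v) = Q₁ v) (h₂ : ∀ v, Q₂ (x₂ v) = Q₂ v)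
    (hn₁ : Nondeg (PB Q₁) ⊤) (hn₂ : Nondeg (PB Q₂) ⊤) :
    (∀ v, (Q₁.prod Q₂) (x₁.prodMap x₂ v) = (Q₁.prod Q₂) v) ∧ Nondeg (PB (Q₁.prod Q₂)) ⊤ ∧
    (∀ j : ℕ, Module.finrank F (LinearMap.ker ((x₁.prodMap x₂ - 1 : Module.End F (V₁ × V₂)) ^ j)) =
      Module.finrank F (LinearMap.ker ((x₁ - 1) ^ j)) +
      Module.finrank F (LinearMap.ker ((x₂ - 1) ^ j))) ∧
    (∀ j : ℕ, (x₁ - 1) ^ j = 0 → (x₂ - 1) ^ j = 0 →
      (x₁.prodMap x₂ - 1 : Module.End F (V₁ × V₂)) ^ j = 0) ∧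
    (∀ n : ℕ, x₁ ^ n = 1 → x₂ ^ n = 1 → (x₁.prodMap x₂ : Module.End F (V₁ × V₂)) ^ n = 1) ∧
    (∀ u ∈ LinearMap.ker (x₁.prodMap x₂ - 1 : Module.End F (V₁ × V₂)),
      u.1 ∈ LinearMap.ker (x₁ - 1) ∧ u.2 ∈ LinearMap.ker (x₂ - 1)) := by
  have hY := PRODQ.prod_isYO Q₁ Q₂ x₁ x₂ 0 ⟨hn₁, h₁, pow_zero _⟩ ⟨hn₂, h₂, pow_zero _⟩
  refine ⟨hY.isom, hY.nondeg, ?_, ?_, ?_, ?_⟩
  · intro j
    rw [prodMap_sub_one, prodMap_pow, LinearMap.ker_prodMap, finrank_prod_sub]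
  · intro j hj₁ hj₂
    rw [prodMap_sub_one, prodMap_pow, hj₁, hj₂]
    exact LinearMap.prodMap_zero
  · intro n hn₁' hn₂'
    rw [prodMap_pow, hn₁', hn₂']
    exact LinearMap.prodMap_one
  · intro u hu
    rw [prodMap_sub_one, LinearMap.ker_prodMap, Submodule.mem_prod] at hu
    exact hu

end Cfsg.Agent.S5989P
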