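import Cfsg.Agent.Helper7.AutPSU5

/-!
# Automorphisms of `PSU_n`, part 6 (helper7)

Central elements are scalar; `p`-elements with the same image in `PSU_n` are equal; the
transvection groups `Tb e`, `Tb e'` commute iff `e ⟂ e'`, and are equal iff `e`, `e'` are
proportional.
-/

set_option autoImplicit false
set_option linter.unusedSectionVars false

namespace Cfsg.Agent.Helper7.AutPSU

open Matrix Cfsg.Agent.Helper2.SUGen Cfsg.Agent.S2644 Module

variable {F : Type*} [Field F] [Fintype F] {n q : ℕ} (D : Frob F q)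

local notation "h" => Cfsg.hermForm n F q
local notation "tm" => Cfsg.Agent.S2644.toM F n q

/-- central elements of `SU_n` are scalar -/
theorem center_tm (hF : Fintype.card F = q ^ 2) (hn : 1 ≤ n) {z : ↥(Cfsg.SU n F q)}
    (hz : z ∈ Subgroup.center ↥(Cfsg.SU n F q)) :
    ∃ m : F, tm z = m • (1 : Matrix (Fin n) (Fin n) F) := by
  have hg : ∀ x ∈ Cfsg.SU n F q, x * z.1 = z.1 * x := by
    intro x hx
    have := (Subgroup.mem_center_iff.mp hz) ⟨x, hx⟩
    exact congrArg Subtype.val this
  set i₀ : Fin n := ⟨0, by omega⟩ with hi₀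
  refine ⟨z.1.1 i₀ i₀, ?_⟩
  ext a b
  show z.1.1 a b = _
  by_cases hab : a = b
  · subst hab
    rw [Matrix.smul_apply, Matrix.one_apply_eq, smul_eq_mul, mul_one]
    exact Cfsg.Agent.Helper2.Herm.central_diag hF z.1 hg a i₀
  · rw [Matrix.smul_apply, Matrix.one_apply_ne hab, smul_eq_mul, mul_zero]
    exact Cfsg.Agent.Helper2.Herm.central_offdiag hF z.1 hg a b hab

theorem prU_eq_iff (x y : ↥(Cfsg.SU n F q)) :
    prU x = prU y ↔ x⁻¹ * y ∈ Subgroup.center ↥(Cfsg.SU n F q) := by
  unfold prU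
  rw [QuotientGroup.mk'_apply, QuotientGroup.mk'_apply, QuotientGroup.eq]

/-- elements with the same image differ by a scalar -/
theorem exists_smul_of_prU_eq (hF : Fintype.card F = q ^ 2) (hn : 1 ≤ n)
    {x y : ↥(Cfsg.SU n F q)} (hxy : prU x = prU y) :
    ∃ m : F, tm y = m • tm x := by
  rw [prU_eq_iff] at hxy
  obtain ⟨m, hm⟩ := center_tm hF hn hxy
  refine ⟨m, ?_⟩
  have : y = x * (x⁻¹ * y) := by group
  rw [this, tm_mul, hm, Matrix.mul_smul, Matrix.mul_one]

variable (p : ℕ) [Fact p.Prime] [CharP F p]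

/-- `p`-elements with the same image are equal -/
theorem prU_inj_pElements (hF : Fintype.card F = q ^ 2) (hn : 2 ≤ n) {x y : ↥(Cfsg.SU n F q)}
    {a b : ℕ} (hx : x ^ p ^ a = 1) (hy : y ^ p ^ b = 1) (hxy : prU x = prU y) : x = y := by
  have hz := (prU_eq_iff x y).mp hxy
  set z := x⁻¹ * y with hzdef
  have hyz : y = x * z := by rw [hzdef]; group
  have hcomm : Commute x z := (Subgroup.mem_center_iff.mp hz x)
  have h1 : z ^ p ^ (a + b) = 1 := by
    have h2 : y ^ p ^ (a + b) = 1 := by
      rw [pow_add, mul_comm, pow_mul, hy, one_pow]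
    have h3 : x ^ p ^ (a + b) = 1 := by
      rw [pow_add, pow_mul, hx, one_pow]
    rw [hyz, hcomm.mul_pow, h3, one_mul] at h2
    exact h2
  have := center_pElement_eq_one p hF hn hz h1
  rw [hyz, this, mul_one]

omit [Fintype F] in
theorem sgS_pElement (e w : Fin n → F) (c : F) : sgS D e w c ^ p ^ 2 = 1 := sgS_pow_sq D p e w c

section pair

variable {e f : Fin n → F} (H : HypPair q e f)

include H p

/-- equality of transvection groups -/
theorem smul_of_Tb_le (hF : Fintype.card F = q ^ 2) (hn : 2 ≤ n) {e' : Fin n → F}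
    (hle : Tb D e ≤ Tb D e') : ∃ l : F, l ≠ 0 ∧ e = l • e' := by
  obtain ⟨s, hs0, hs⟩ := exists_skew D
  have hvs : Valid D e 0 s := by rw [valid_T_iff D H.huu, hs, add_neg_cancel]
  have h1 : prU (sgS D e 0 s) ∈ Tb D e' := hle ⟨_, ⟨s, rfl⟩, rfl⟩
  obtain ⟨t', ⟨s', rfl⟩, ht'⟩ := h1
  have h2 := prU_inj_pElements p hF hn (sgS_pElement D p e' 0 s') (sgS_pElement D p e 0 s) ht'
  by_cases hv' : Valid D e' 0 s'
  · have h3 := congrArg (fun x => tm x *ᵥ f) h2
    beta_reduce at h3
    rw [tm_sgS D hv', tm_sgS D hvs, Sg_mulVec, Sg_mulVec, H.hvu, h_zero_right D] at h3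
    have h4 : (s' * h f e') • e' = s • e := by
      have : f + (s' * h f e') • e' = f + s • e := by
        calc f + (s' * h f e') • e'
            = f + h f e' • (0 : Fin n → F) - (0 : F) • e' + (s' * h f e') • e' := by module
          _ = f + (1 : F) • (0 : Fin n → F) - (0 : F) • e + (s * 1) • e := h3
          _ = f + s • e := by module
      exact add_left_cancel this
    have he0 := e_ne_zero D H
    refine ⟨s⁻¹ * (s' * h f e'), ?_, ?_⟩
    · intro h0
      have : s • e = 0 := by
        rw [← h4]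
        rcases mul_eq_zero.mp h0 with h5 | h5
        · exact absurd h5 (inv_ne_zero hs0)
        · rw [h5, zero_smul]
      rcases smul_eq_zero.mp this with h5 | h5
      · exact hs0 h5
      · exact he0 h5
    · rw [mul_smul, h4, smul_smul, inv_mul_cancel₀ hs0, one_smul]
  · exfalso
    rw [sgS_of_not_valid D hv'] at h2
    have h3 := congrArg (fun x => tm x *ᵥ f) h2
    beta_reduce at h3
    rw [tm_one, tm_sgS D hvs, Matrix.one_mulVec, Sg_mulVec, H.hvu, h_zero_right D] at h3
    have : s • e = 0 := by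
      have : f + s • e = f + 0 := by
        rw [add_zero]
        calc f + s • e = f + (1 : F) • (0 : Fin n → F) - (0 : F) • e + (s * 1) • e := by module
          _ = f := h3.symm
      exact add_left_cancel this
    rcases smul_eq_zero.mp this with h5 | h5
    · exact hs0 h5
    · exact e_ne_zero D H h5

end pair

omit [Fintype F] in
/-- orthogonal isotropic vectors have commuting transvection groups -/
theorem Ts_commute {e e' : Fin n → F} (h0 : h e e' = 0) :
    ∀ x ∈ Ts D e, ∀ y ∈ Ts D e', x * y = y * x := by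
  rintro x ⟨c, rfl⟩ y ⟨c', rfl⟩
  by_cases hv : Valid D e 0 c
  · by_cases hv' : Valid D e' 0 c'
    · have h1 := sgS_conj D hv (sgS D e' 0 c')
      have h2 : tm (sgS D e' 0 c') *ᵥ e = e := by
        rw [tm_sgS D hv', Sg_mulVec, h0, h_zero_right D]
        module
      rw [h2, Matrix.mulVec_zero] at h1
      exact (mul_inv_eq_iff_eq_mul.mp h1).symm
    · rw [sgS_of_not_valid D hv', mul_one, one_mul]
  · rw [sgS_of_not_valid D hv, mul_one, one_mul]

omit [Fintype F] in
theorem Tb_commute {e e' : Fin n → F} (h0 : h e e' = 0) :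
    ∀ x ∈ Tb D e, ∀ y ∈ Tb D e', x * y = y * x := by
  rintro _ ⟨x, hx, rfl⟩ _ ⟨y, hy, rfl⟩
  rw [← map_mul, ← map_mul, Ts_commute D h0 x hx y hy]

/-- commuting transvection groups have orthogonal centres -/
theorem orth_of_Tb_commute (hF : Fintype.card F = q ^ 2) (hn : 1 ≤ n) {e e' : Fin n → F}
    (he0 : e ≠ 0) (hee : h e e = 0) (hee' : h e' e' = 0)
    (hc : ∀ x ∈ Tb D e, ∀ y ∈ Tb D e', x * y = y * x) : h e e' = 0 := by
  by_cases hdep : ∃ l : F, e' = l • e
  · obtain ⟨l, rfl⟩ := hdep
    rw [h_smul_right D, hee, mul_zero]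
  push Not at hdep
  obtain ⟨s, hs0, hs⟩ := exists_skew D
  have hvs : Valid D e 0 s := by rw [valid_T_iff D hee, hs, add_neg_cancel]
  have hvs' : Valid D e' 0 s := by rw [valid_T_iff D hee', hs, add_neg_cancel]
  have h1 := hc _ ⟨_, ⟨s, rfl⟩, rfl⟩ _ ⟨_, ⟨s, rfl⟩, rfl⟩
  rw [← map_mul, ← map_mul] at h1
  obtain ⟨m, hm⟩ := exists_smul_of_prU_eq hF hn h1
  rw [tm_mul, tm_mul, tm_sgS D hvs, tm_sgS D hvs'] at hm
  have h2 := congrArg (fun M => M *ᵥ e) hm
  beta_reduce at h2
  rw [Matrix.smul_mulVec, ← Matrix.mulVec_mulVec, ← Matrix.mulVec_mulVec, Sg_mulVec_self D hvs]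
    at h2
  have h3 : Sg (q := q) e' 0 s *ᵥ e = e + (s * h e e') • e' := by
    rw [Sg_mulVec, h_zero_right D]
    module
  rw [h3] at h2
  have h5 : Sg (q := q) e 0 s *ᵥ (e + (s * h e e') • e')
      = (1 + s * h e e' * (s * h e' e)) • e + (s * h e e') • e' := by
    rw [Sg_mulVec, h_zero_right D, h_add_left, h_smul_left, hee]
    module
  rw [h5] at h2
  -- compare coefficients
  have h6 : (s * h e e' - m * (s * h e e')) • e'
      = (m * (1 + s * h e e' * (s * h e' e)) - 1) • e := by
    have h2' : e + (s * h e e') • e'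
        = m • ((1 + s * h e e' * (s * h e' e)) • e + (s * h e e') • e') := h2
    have h7 : (s * h e e' - m * (s * h e e')) • e' - (m * (1 + s * h e e' * (s * h e' e)) - 1) • e
        = 0 := by
      have : e + (s * h e e') • e'
          - m • ((1 + s * h e e' * (s * h e' e)) • e + (s * h e e') • e') = 0 := by
        rw [← h2']
        exact sub_self _
      rw [← this]
      module
    exact sub_eq_zero.mp h7
  by_contra hne
  have hcoef : s * h e e' - m * (s * h e e') = 0 := by
    by_contra hc0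
    apply hdep ((s * h e e' - m * (s * h e e'))⁻¹ * (m * (1 + s * h e e' * (s * h e' e)) - 1))
    rw [mul_smul, ← h6, smul_smul, inv_mul_cancel₀ hc0, one_smul]
  rw [hcoef, zero_smul] at h6
  have hm1 : m = 1 := by
    have : (1 - m) * (s * h e e') = 0 := by linear_combination hcoef
    rcases mul_eq_zero.mp this with h8 | h8
    · exact (sub_eq_zero.mp h8).symm
    · exact absurd h8 (mul_ne_zero hs0 hne)
  rw [hm1] at h6
  rcases smul_eq_zero.mp h6.symm with h8 | h8
  · have h9 : s * h e e' * (s * h e' e) = 0 := by linear_combination h8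
    have : h e' e ≠ 0 := h_symm_ne D hne
    exact absurd h9 (mul_ne_zero (mul_ne_zero hs0 hne) (mul_ne_zero hs0 this))
  · exact he0 h8

end Cfsg.Agent.Helper7.AutPSU
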