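import Mathlib

set_option autoImplicit false

/-! S2607/S2608 piece M4-P1 (helper7): a group of order `n!` with a subgroup of index `n` and
trivial normal core is the symmetric group. -/

namespace Cfsg.Agent.S2607P

theorem perm_of_core {N : Type*} [Group N] [Finite N] (Γ : Subgroup N) (n : ℕ)
    (hidx : Γ.index = n) (hcard : Nat.card N = n.factorial)
    (hcore : ∀ k ∈ Γ, (∀ x : N, x * k * x⁻¹ ∈ Γ) → k = 1) :
    Nonempty (N ≃* Equiv.Perm (Fin n)) := by
  classical
  have hinj : Function.Injective (MulAction.toPermHom N (N ⧸ Γ)) := by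
    rw [injective_iff_map_eq_one]
    intro k hk
    have hfix : ∀ x : N, x⁻¹ * k * x ∈ Γ := by
      intro x
      have h1 := congrArg (fun p : Equiv.Perm (N ⧸ Γ) => p (x : N ⧸ Γ)) hk
      simp only [MulAction.toPermHom_apply, MulAction.toPerm_apply, Equiv.Perm.one_apply] at h1
      rw [MulAction.Quotient.smul_mk, QuotientGroup.eq] at h1
      have h2 := Γ.inv_mem h1
      have e : ((k • x)⁻¹ * x)⁻¹ = x⁻¹ * k * x := by
        rw [smul_eq_mul]
        group
      rw [e] at h2
      exact h2
    apply hcore k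
    · have := hfix 1
      simpa using this
    · intro x
      have := hfix x⁻¹
      simpa using this
  have hcardP : Nat.card (Equiv.Perm (N ⧸ Γ)) = Nat.card N := by
    rw [Nat.card_perm, ← Subgroup.index_eq_card, hidx, hcard]
  have hbij : Function.Bijective (MulAction.toPermHom N (N ⧸ Γ)) :=
    (Nat.bijective_iff_injective_and_card _).2 ⟨hinj, hcardP.symm⟩
  have e2 : (N ⧸ Γ) ≃ Fin n :=
    Finite.equivFinOfCardEq (by rw [← Subgroup.index_eq_card, hidx])
  exact ⟨(MulEquiv.ofBijective _ hbij).trans (Equiv.permCongrHom e2)⟩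

end Cfsg.Agent.S2607P
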