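import Mathlib

set_option autoImplicit false

/-! S2607/S2608 piece M4-P3 (helper7): over a finite field, `σ x / x` is a square for every field
automorphism `σ`. -/

namespace Cfsg.Agent.S2607P

theorem sq_of_ringAut {F : Type*} [Field F] [Finite F] (σ : F ≃+* F) (x : Fˣ) :
    ∃ u : Fˣ, Units.map (σ : F →* F) x = x * u ^ 2 := by
  classical
  set S : Subgroup Fˣ := (powMonoidHom 2 : Fˣ →* Fˣ).range with hS
  have hmemS : ∀ y : Fˣ, y ∈ S ↔ ∃ v : Fˣ, v ^ 2 = y := by
    intro y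
    rw [hS, MonoidHom.mem_range]
    simp only [powMonoidHom_apply]
  suffices h : x⁻¹ * Units.map (σ : F →* F) x ∈ S by
    obtain ⟨u, hu⟩ := (hmemS _).1 h
    exact ⟨u, by rw [hu, mul_inv_cancel_left]⟩
  have hτ : ∀ y : Fˣ, y ∈ S → Units.map (σ : F →* F) y ∈ S := by
    intro y hy
    obtain ⟨v, rfl⟩ := (hmemS y).1 hy
    exact (hmemS _).2 ⟨Units.map (σ : F →* F) v, by rw [map_pow]⟩
  have hτ' : ∀ y : Fˣ, Units.map (σ : F →* F) y ∈ S → y ∈ S := by
    intro y hy
    obtain ⟨v, hv⟩ := (hmemS _).1 hy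
    refine (hmemS y).2 ⟨Units.map (σ.symm : F →* F) v, ?_⟩
    rw [← map_pow, hv]
    apply Units.ext
    simp
  have hidx : S.index = Nat.gcd (Nat.card Fˣ) 2 := IsCyclic.index_powMonoidHom_range (G := Fˣ) 2
  have hdvd : S.index ∣ 2 := by rw [hidx]; exact Nat.gcd_dvd_right _ _
  have h12 : S.index = 1 ∨ S.index = 2 := by
    have hle := Nat.le_of_dvd (by norm_num) hdvd
    have hpos : S.index ≠ 0 := Subgroup.index_ne_zero_of_finite
    omega
  rcases h12 with h1 | h2
  · rw [Subgroup.index_eq_one] at h1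
    rw [h1]
    exact Subgroup.mem_top _
  · rw [Subgroup.mul_mem_iff_of_index_two h2, inv_mem_iff]
    exact ⟨hτ x, hτ' x⟩

end Cfsg.Agent.S2607P
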