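import Mathlib
import Cfsg.Agent.Helper2.S2094.DefsA
import Cfsg.Agent.Helper23.S2094PITB
import Cfsg.Agent.Helper21.S2094LYADD
import Cfsg.Agent.Helper11.S2094CHARB
import Cfsg.Agent.Helper21.S2094LBAL

set_option autoImplicit false
set_option linter.unusedSectionVars false
set_option linter.unusedVariables false

/-! S2094 chapter A, piece LYEQUIV (driver helper2; helper7): the canonical lifts of the long root
elements are equivariant under the torus. -/

namespace Cfsg.Agent.S2094P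

open Matrix Cfsg.Agent.S3352P Cfsg.Agent.S3351P Cfsg.Agent.S2096P Cfsg.Agent.S2086P
open scoped commutatorElement

variable {n : ℕ} {F : Type*} [Field F] [Fintype F] {G : Type*} [Group G] {E : Type*} [Group E]
  {X : J n → J n → F → G} {Ys : J n → F → G}

namespace LYEQUIV

/-- the diagonal entries of the matrix of a torus element are non-zero -/
theorem diag_ne_zero (π : G →* Matrix (I n) (I n) F)
    (hπX : ∀ a b, IsRoot a b → ∀ t : F, π (X a b t) = xmB a b t)
    (hπY : ∀ a, ∀ t : F, π (Ys a t) = ymB a t) (hn : 3 ≤ n) (h2 : (2 : F) ≠ 0)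
    (hB : BRel X Ys) {h : G} (hh : h ∈ HhB X Ys) (i : I n) : π h i i ≠ 0 := by
  intro h0
  have h1 : π h * π h⁻¹ = 1 := by rw [← map_mul, mul_inv_cancel, map_one]
  have h3 := congrFun (congrFun h1 i) i
  rw [Matrix.mul_apply, Matrix.one_apply_eq, Finset.sum_eq_single i] at h3
  · rw [h0, zero_mul] at h3
    exact zero_ne_one h3
  · intro j _ hj
    rw [diag_of_mem_HhB π hπX hπY hn h2 hB hh i j hj.symm, zero_mul]
  · intro hi
    exact absurd (Finset.mem_univ i) hi

end LYEQUIV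

/-- LYEQUIV: the canonical lifts of the long root elements are equivariant under the torus -/
theorem conj_Y_of_c2 (π : G →* Matrix (I n) (I n) F)
    (hπX : ∀ a b, IsRoot a b → ∀ t : F, π (X a b t) = xmB a b t)
    (hπY : ∀ a, ∀ t : F, π (Ys a t) = ymB a t) (hn : 3 ≤ n) (h2 : (2 : F) ≠ 0)
    (hB : BRel X Ys) (ψ : E →* G) (hψ : Function.Surjective ψ)
    (hc : ψ.ker ≤ Subgroup.center E)
    (hC2 : ∀ a b c d, IsRoot a b → IsRoot c d → b ≠ c → a ≠ d → a ≠ ng c → a ≠ ng d → b ≠ ng c →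
      b ≠ ng d → ∀ s t : F, CL ψ (X a b s) (X c d t))
    {e₀ : E} (he : ψ e₀ ∈ HhB X Ys) {a b : J n} (hab : IsRoot a b) (t : F) :
    e₀ * Y X ψ hψ hn a b t * e₀⁻¹ =
      Y X ψ hψ hn a b (π (ψ e₀) (Sum.inr a) (Sum.inr a) *
        (π (ψ e₀) (Sum.inr b) (Sum.inr b))⁻¹ * t) := by
  have h1 : IsRoot a (th hn a b) := isRoot_left_th hn a b
  have h2' : IsRoot (th hn a b) b := isRoot_th_right hn a b
  unfold Y
  rw [conj_cl ψ hψ hc, HhB_conj_X_eq π hπX hπY hn h2 hB he h1, HhB_conj_X_eq π hπX hπY hn h2 hB he h2',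
    cl_bal_of_c2 π hπX hπY hn h2 hB ψ hψ hc hC2 h1 h2' hab]
  have hk := LYEQUIV.diag_ne_zero π hπX hπY hn h2 hB he (Sum.inr (th hn a b))
  congr 2
  field_simp

end Cfsg.Agent.S2094P
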