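import Mathlib
import Cfsg.Agent.Helper2.S2094.DefsA
import Cfsg.Agent.Helper16.S2096YMAP
import Cfsg.Agent.Helper7.S2094LYEQUIV

set_option autoImplicit false
set_option linter.unusedSectionVars false
set_option linter.unusedVariables false

/-! S2094 chapter A, piece LYFLIP (driver helper2; helper7): the canonical lifts of the two names of a
long root. -/

namespace Cfsg.Agent.S2094P

open Matrix Cfsg.Agent.S3352P Cfsg.Agent.S3351P Cfsg.Agent.S2096P Cfsg.Agent.S2086P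
open scoped commutatorElement

variable {n : ℕ} {F : Type*} [Field F] [Fintype F] {G : Type*} [Group G] {E : Type*} [Group E]
  {X : J n → J n → F → G} {Ys : J n → F → G}

namespace LYFLIP

/-- the diagonal entries of the matrix of `tX X p q t` -/
theorem pi_tX_diag (π : G →* Matrix (I n) (I n) F)
    (hπX : ∀ a b, IsRoot a b → ∀ t : F, π (X a b t) = xmB a b t) {p q : J n} (hpq : IsRoot p q)
    {t : F} (ht : t ≠ 0) (c : J n) :
    π (tX X p q t) (Sum.inr c) (Sum.inr c) = ev p q c t := by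
  rw [pi_tX_B π hπX hpq ht]
  unfold blkB
  rw [Matrix.fromBlocks_apply₂₂, Matrix.diagonal_apply_eq]

theorem ev_of_ab_ne {p q c : J n} (h1 : ab c ≠ ab p) (h2 : ab c ≠ ab q) (t : F) :
    ev p q c t = 1 := by
  unfold ev
  rw [if_neg, if_neg]
  · rintro (h | h)
    · exact h2 (by rw [h])
    · exact h1 (by rw [h, ab_ng])
  · rintro (h | h)
    · exact h1 (by rw [h])
    · exact h2 (by rw [h, ab_ng])

theorem ev_left (p q : J n) (t : F) : ev p q p t = t := by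
  unfold ev
  rw [if_pos (Or.inl rfl)]

theorem ev_ng_left {p q : J n} (hpq : IsRoot p q) (t : F) : ev p q (ng p) t = t⁻¹ := by
  unfold ev
  rw [if_neg, if_pos (Or.inr rfl)]
  rintro (h | h)
  · exact ng_ne p h
  · exact hpq.1 (ng_injective h)

end LYFLIP

/-- LYFLIP: the two names of a long root -/
theorem Y_flip_of_c2 (π : G →* Matrix (I n) (I n) F)
    (hπX : ∀ a b, IsRoot a b → ∀ t : F, π (X a b t) = xmB a b t)
    (hπY : ∀ a, ∀ t : F, π (Ys a t) = ymB a t) (hn : 3 ≤ n) (h2 : (2 : F) ≠ 0)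
    (hB : BRel X Ys) (ψ : E →* G) (hψ : Function.Surjective ψ)
    (hc : ψ.ker ≤ Subgroup.center E)
    (hC2 : ∀ a b c d, IsRoot a b → IsRoot c d → b ≠ c → a ≠ d → a ≠ ng c → a ≠ ng d → b ≠ ng c →
      b ≠ ng d → ∀ s t : F, CL ψ (X a b s) (X c d t))
    {a b : J n} (hab : IsRoot a b) (t : F) :
    Y X ψ hψ hn (ng b) (ng a) t = Y X ψ hψ hn a b (-t) := by
  have hab' : IsRoot (ng b) (ng a) := hab.flip
  set e := th hn a b with he
  have hae : IsRoot a e := isRoot_left_th hn a b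
  have hne1 : (-1 : F) ≠ 0 := neg_ne_zero.2 one_ne_zero
  have hχ : (-1 : F) ≠ 1 := by
    intro h
    apply h2
    have : (2 : F) = 1 - (-1) := by ring
    rw [this, h, sub_self]
  obtain ⟨e₀, he₀⟩ := hψ (tX X a e (-1))
  have hmem : ψ e₀ ∈ HhB X Ys := by
    rw [he₀]
    exact Subgroup.subset_closure (Or.inl ⟨a, e, -1, hae, hne1, rfl⟩)
  -- the characters
  have hea : ab e ≠ ab a := ab_th_ne_left hn a b
  have heb : ab e ≠ ab b := ab_th_ne_right hn a b
  have hab0 : ab a ≠ ab b := isRoot_iff_ab.1 hab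
  have da : π (ψ e₀) (Sum.inr a) (Sum.inr a) = -1 := by
    rw [he₀, LYFLIP.pi_tX_diag π hπX hae hne1, LYFLIP.ev_left]
  have db : π (ψ e₀) (Sum.inr b) (Sum.inr b) = 1 := by
    rw [he₀, LYFLIP.pi_tX_diag π hπX hae hne1, LYFLIP.ev_of_ab_ne hab0.symm heb.symm]
  have dnb : π (ψ e₀) (Sum.inr (ng b)) (Sum.inr (ng b)) = 1 := by
    rw [he₀, LYFLIP.pi_tX_diag π hπX hae hne1,
      LYFLIP.ev_of_ab_ne (by rw [ab_ng]; exact hab0.symm) (by rw [ab_ng]; exact heb.symm)]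
  have dna : π (ψ e₀) (Sum.inr (ng a)) (Sum.inr (ng a)) = -1 := by
    rw [he₀, LYFLIP.pi_tX_diag π hπX hae hne1, LYFLIP.ev_ng_left hae]
    norm_num
  have key := uniq_lift (F := F) ψ hc (V := fun t => Y X ψ hψ hn (ng b) (ng a) t)
    (W := fun t => Y X ψ hψ hn a b (-t)) (e₀ := e₀) (χ := -1) ?_ ?_ ?_ hχ ?_ ?_
  · exact congrFun key t
  · intro s
    show ψ (Y X ψ hψ hn (ng b) (ng a) s) = ψ (Y X ψ hψ hn a b (-s))
    rw [map_Y hB.dX ψ hψ hn hab', map_Y hB.dX ψ hψ hn hab, hB.dX.flip a b hab]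
  · intro s t
    exact Y_add_of_c2 hn hB.dX ψ hψ hc hC2 hab' s t
  · intro s t
    show Y X ψ hψ hn a b (-(s + t)) = Y X ψ hψ hn a b (-s) * Y X ψ hψ hn a b (-t)
    rw [neg_add, Y_add_of_c2 hn hB.dX ψ hψ hc hC2 hab]
  · intro s
    show e₀ * Y X ψ hψ hn (ng b) (ng a) s * e₀⁻¹ = Y X ψ hψ hn (ng b) (ng a) (-1 * s)
    rw [conj_Y_of_c2 π hπX hπY hn h2 hB ψ hψ hc hC2 hmem hab', dnb, dna]
    congr 1
    field_simp
  · intro s
    show e₀ * Y X ψ hψ hn a b (-s) * e₀⁻¹ = Y X ψ hψ hn a b (-(-1 * s))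
    rw [conj_Y_of_c2 π hπX hπY hn h2 hB ψ hψ hc hC2 hmem hab, da, db]
    congr 1
    field_simp

end Cfsg.Agent.S2094P
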