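import Mathlib
import Cfsg.Agent.Helper2.S2099.DefsA
import Cfsg.Agent.Helper2.S2099.DefsZ
import Cfsg.Agent.Helper7.S2096YIND

set_option autoImplicit false
set_option linter.unusedSectionVars false
set_option linter.unusedVariables false

/-! S2099 chapter A, piece LYFLIPQ (driver helper2; helper7): the canonical lifts of the two names of a long
root (from the additivity and the independence of the middle index). -/

namespace Cfsg.Agent.S2099P

open Matrix Cfsg.Agent.S3352P Cfsg.Agent.S3351P Cfsg.Agent.S2096P Cfsg.Agent.S2086P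
open Cfsg.Agent.S2094P (LongOK isRoot_ng_right' isRoot_ng_left')
open scoped commutatorElement

section general

variable {n : ℕ} {F : Type*} [Field F] [Fintype F] {P : Type*} [AddCommGroup P] [Module F P]
  {G : Type*} [Group G] {E : Type*} [Group E] {Q0 : QuadraticForm F P}
  {X : J n → J n → F → G} {Ys : J n → P → G} {h₀ : G} {R D : P →ₗ[F] P}

/-- LYFLIPQ: the two names of a long root -/
theorem Y_flip_of_ind (hn : 3 ≤ n) (hX : DRel X) (ψ : E →* G) (hψ : Function.Surjective ψ)
    (hc : ψ.ker ≤ Subgroup.center E)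
    (hadd : ∀ a b, IsRoot a b → ∀ s t : F,
      Y X ψ hψ hn a b (s + t) = Y X ψ hψ hn a b s * Y X ψ hψ hn a b t)
    (hind : ∀ a b c, IsRoot a b → IsRoot b c → IsRoot a c → ∀ s t : F,
      cl ψ hψ (X a b s) (X b c t) = Y X ψ hψ hn a c (s * t))
    {a b : J n} (hab : IsRoot a b) (t : F) :
    Y X ψ hψ hn (ng b) (ng a) t = Y X ψ hψ hn a b (-t) := by
  have hka : IsRoot a (th hn a b) := isRoot_left_th hn a b
  have hkb : IsRoot (th hn a b) b := isRoot_th_right hn a b
  have hzero : Y X ψ hψ hn a b 0 = 1 := by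
    have h := hadd a b hab 0 0
    rw [add_zero] at h
    exact (mul_eq_left.mp h.symm)
  have hneg : Y X ψ hψ hn a b (-t) = (Y X ψ hψ hn a b t)⁻¹ := by
    apply eq_inv_of_mul_eq_one_left
    rw [← hadd a b hab, neg_add_cancel, hzero]
  have e1 := hind _ _ _ hkb.flip hka.flip hab.flip t 1
  rw [mul_one] at e1
  rw [← e1, hX.flip _ _ hkb t, hX.flip _ _ hka 1, ← YIND.cl_inv,
    hind _ _ _ hka hkb hab (-1) (-t), neg_mul_neg, one_mul, hneg]

end general

end Cfsg.Agent.S2099P
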