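import Mathlib
import Cfsg.Agent.Helper2.S2099.DefsR
import Cfsg.Agent.Helper2.S2099.DefsN
import Cfsg.Agent.Lead.S2099CRELQ
import Cfsg.Agent.Helper18.S2099HNORMQ

set_option autoImplicit false
set_option linter.unusedSectionVars false
set_option linter.unusedVariables false

/-! S2099 chapter N, piece CSFORMQ (driver helper2; helper7): normal form of the elements of `CSQ ⊔ HhQ`
(port of `Helper11.S2094CSFORMB`). -/

namespace Cfsg.Agent.S2099P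

open Matrix Cfsg.Agent.S3352P Cfsg.Agent.S3351P Cfsg.Agent.S2096P Cfsg.Agent.S2086P Cfsg.Agent.RGD
open Cfsg.Agent.S2094P (RB RootB sc NgEquivariant mapB reflB MD XD XD_coe isRoot_ng_right'
  isRoot_ng_left' sw_ngEquivariant sc_ngEquivariant)

section pi

variable {n : ℕ} {F : Type*} [Field F] {κ : Type} [Fintype κ] [DecidableEq κ]
  {M : Type*} [Group M] {Q0 : QuadraticForm F (κ → F)} {X : J n → J n → F → M}
  {Ys : J n → (κ → F) → M}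

namespace CSFORMQ

variable [Fintype F]

/-- `g` normalizes the torus (from the right) -/
def NormH (Q0 : QuadraticForm F (κ → F)) (X : J n → J n → F → M) (Ys : J n → (κ → F) → M)
    (g : M) : Prop :=
  ∀ h ∈ HhQ Q0 X Ys, g⁻¹ * h * g ∈ HhQ Q0 X Ys

theorem normH_one : NormH Q0 X Ys (1 : M) := fun h hh => by simpa using hh

theorem normH_mul {g g' : M} (hg : NormH Q0 X Ys g) (hg' : NormH Q0 X Ys g') :
    NormH Q0 X Ys (g * g') := by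
  intro h hh
  have := hg' _ (hg h hh)
  have e : (g * g')⁻¹ * h * (g * g') = g'⁻¹ * (g⁻¹ * h * g) * g' := by group
  rw [e]
  exact this

theorem e1_ne_zero {e₁ : κ → F} (he₁ : Q0 e₁ = 1) : e₁ ≠ 0 := by
  rintro rfl
  rw [QuadraticMap.map_zero] at he₁
  exact zero_ne_one he₁

theorem normH_cQ (hn : 3 ≤ n) (hQ : QuadraticMap.Anisotropic Q0) (hB : QRel Q0 X Ys)
    {e₁ : κ → F} (he₁ : Q0 e₁ = 1) (j : Fin n) : NormH Q0 X Ys (cQ Q0 Ys e₁ j) := by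
  intro h hh
  have hs := cQ_sq_mem (X := X) hB he₁ j
  have h1 : cQ Q0 Ys e₁ j * h * (cQ Q0 Ys e₁ j)⁻¹ ∈ HhQ Q0 X Ys := by
    unfold cQ
    exact wY_conj_HhQ_mem hn hQ hB _ (e1_ne_zero he₁) hh
  have e : (cQ Q0 Ys e₁ j)⁻¹ * h * cQ Q0 Ys e₁ j =
      (cQ Q0 Ys e₁ j * cQ Q0 Ys e₁ j)⁻¹ * (cQ Q0 Ys e₁ j * h * (cQ Q0 Ys e₁ j)⁻¹) *
        (cQ Q0 Ys e₁ j * cQ Q0 Ys e₁ j) := by group
  rw [e]
  exact Subgroup.mul_mem _ (Subgroup.mul_mem _ (Subgroup.inv_mem _ hs) h1) hs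

theorem normH_prod (hn : 3 ≤ n) (hQ : QuadraticMap.Anisotropic Q0) (hB : QRel Q0 X Ys)
    {e₁ : κ → F} (he₁ : Q0 e₁ = 1) (l : List (Fin n)) :
    NormH Q0 X Ys (l.map (cQ Q0 Ys e₁)).prod := by
  induction l with
  | nil => simpa using normH_one
  | cons a l ih =>
    rw [List.map_cons, List.prod_cons]
    exact normH_mul (normH_cQ hn hQ hB he₁ a) ih

/-- move an element of the torus to the right -/
theorem swap_H {g h : M} (hg : NormH Q0 X Ys g) (hh : h ∈ HhQ Q0 X Ys) :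
    ∃ h' ∈ HhQ Q0 X Ys, h * g = g * h' :=
  ⟨g⁻¹ * h * g, hg h hh, by group⟩

/-- the main step: multiply a normal form by `cQ j` on the left -/
theorem step (hn : 3 ≤ n) (hQ : QuadraticMap.Anisotropic Q0) (hB : QRel Q0 X Ys)
    {e₁ : κ → F} (he₁ : Q0 e₁ = 1) (l : List (Fin n)) (hnd : l.Nodup) (j : Fin n) :
    ∃ l' : List (Fin n), l'.Nodup ∧ (∀ x ∈ l', x = j ∨ x ∈ l) ∧ ∃ h ∈ HhQ Q0 X Ys,
      cQ Q0 Ys e₁ j * (l.map (cQ Q0 Ys e₁)).prod = (l'.map (cQ Q0 Ys e₁)).prod * h := by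
  induction l with
  | nil =>
    refine ⟨[j], List.nodup_singleton j, ?_, 1, Subgroup.one_mem _, ?_⟩
    · intro x hx; left; exact List.mem_singleton.mp hx
    · simp
  | cons a l ih =>
    rw [List.nodup_cons] at hnd
    rw [List.map_cons, List.prod_cons]
    by_cases hja : j = a
    · subst hja
      obtain ⟨h', hh', e⟩ := swap_H (normH_prod hn hQ hB he₁ l) (cQ_sq_mem (X := X) hB he₁ j)
      refine ⟨l, hnd.2, fun x hx => Or.inr (List.mem_cons_of_mem _ hx), h', hh', ?_⟩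
      rw [← mul_assoc, e]
    · obtain ⟨l₁, hnd₁, hsub₁, h₂, hh₂, e₂⟩ := ih hnd.2
      have h0 : cQ Q0 Ys e₁ j * cQ Q0 Ys e₁ a * (cQ Q0 Ys e₁ j)⁻¹ * (cQ Q0 Ys e₁ a)⁻¹ ∈
          HhQ Q0 X Ys := cQ_conj_cQ_mem hn hB he₁ hja
      have hNa : NormH Q0 X Ys
          (cQ Q0 Ys e₁ a * (cQ Q0 Ys e₁ j * (l.map (cQ Q0 Ys e₁)).prod)) :=
        normH_mul (normH_cQ hn hQ hB he₁ a)
          (normH_mul (normH_cQ hn hQ hB he₁ j) (normH_prod hn hQ hB he₁ l))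
      obtain ⟨h', hh', e⟩ := swap_H hNa h0
      have hal₁ : a ∉ l₁ := by
        intro ha
        rcases hsub₁ a ha with h | h
        · exact hja h.symm
        · exact hnd.1 h
      refine ⟨a :: l₁, List.nodup_cons.mpr ⟨hal₁, hnd₁⟩, ?_, h₂ * h',
        Subgroup.mul_mem _ hh₂ hh', ?_⟩
      · intro x hx
        rcases List.mem_cons.mp hx with rfl | hx
        · right; exact List.mem_cons_self
        · rcases hsub₁ x hx with h | h
          · left; exact h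
          · right; exact List.mem_cons_of_mem _ h
      · have e1 : cQ Q0 Ys e₁ j * (cQ Q0 Ys e₁ a * (l.map (cQ Q0 Ys e₁)).prod) =
            (cQ Q0 Ys e₁ j * cQ Q0 Ys e₁ a * (cQ Q0 Ys e₁ j)⁻¹ * (cQ Q0 Ys e₁ a)⁻¹) *
              (cQ Q0 Ys e₁ a * (cQ Q0 Ys e₁ j * (l.map (cQ Q0 Ys e₁)).prod)) := by group
        rw [e1, e, e₂, List.map_cons, List.prod_cons]
        group

end CSFORMQ

open CSFORMQ

/-- CSFORMQ -/
theorem exists_list_of_mem_CSQ [Fintype F] (hn : 3 ≤ n) (hQ : QuadraticMap.Anisotropic Q0)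
    (hB : QRel Q0 X Ys) {e₁ : κ → F} (he₁ : Q0 e₁ = 1) {y : M}
    (hy : y ∈ CSQ Q0 Ys e₁ ⊔ HhQ Q0 X Ys) :
    ∃ l : List (Fin n), l.Nodup ∧ ∃ h ∈ HhQ Q0 X Ys, y = (l.map (cQ Q0 Ys e₁)).prod * h := by
  have hleftH : ∀ {y : M}, (∃ l : List (Fin n), l.Nodup ∧ ∃ h ∈ HhQ Q0 X Ys,
      y = (l.map (cQ Q0 Ys e₁)).prod * h) → ∀ h₀ ∈ HhQ Q0 X Ys, ∃ l : List (Fin n), l.Nodup ∧
      ∃ h ∈ HhQ Q0 X Ys, h₀ * y = (l.map (cQ Q0 Ys e₁)).prod * h := by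
    rintro y ⟨l, hnd, h, hh, rfl⟩ h₀ hh₀
    obtain ⟨h', hh', e⟩ := swap_H (normH_prod hn hQ hB he₁ l) hh₀
    exact ⟨l, hnd, h' * h, Subgroup.mul_mem _ hh' hh, by rw [← mul_assoc, e, mul_assoc]⟩
  have hleftC : ∀ {y : M}, (∃ l : List (Fin n), l.Nodup ∧ ∃ h ∈ HhQ Q0 X Ys,
      y = (l.map (cQ Q0 Ys e₁)).prod * h) → ∀ j : Fin n, ∃ l : List (Fin n), l.Nodup ∧
      ∃ h ∈ HhQ Q0 X Ys, cQ Q0 Ys e₁ j * y = (l.map (cQ Q0 Ys e₁)).prod * h := by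
    rintro y ⟨l, hnd, h, hh, rfl⟩ j
    obtain ⟨l', hnd', -, h', hh', e⟩ := step hn hQ hB he₁ l hnd j
    exact ⟨l', hnd', h' * h, Subgroup.mul_mem _ hh' hh, by rw [← mul_assoc, e, mul_assoc]⟩
  have hy' : y ∈ Subgroup.closure ({g | ∃ j : Fin n, g = cQ Q0 Ys e₁ j} ∪
      ({g | ∃ a b, ∃ t : F, IsRoot a b ∧ t ≠ 0 ∧ g = tX X a b t} ∪
        {g | ∃ a, ∃ w v : κ → F, w ≠ 0 ∧ v ≠ 0 ∧ g = wY Q0 Ys a w * (wY Q0 Ys a v)⁻¹})) := by
    rw [Subgroup.closure_union]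
    exact hy
  clear hy
  induction hy' using Subgroup.closure_induction_left with
  | one => exact ⟨[], List.nodup_nil, 1, Subgroup.one_mem _, by simp⟩
  | mul_left x hx y _ ih =>
    rcases hx with ⟨j, rfl⟩ | hx
    · exact hleftC ih j
    · exact hleftH ih x (Subgroup.subset_closure hx)
  | inv_mul_cancel x hx y _ ih =>
    rcases hx with ⟨j, rfl⟩ | hx
    · have e : (cQ Q0 Ys e₁ j)⁻¹ * y =
          cQ Q0 Ys e₁ j * ((cQ Q0 Ys e₁ j * cQ Q0 Ys e₁ j)⁻¹ * y) := by group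
      rw [e]
      exact hleftC (hleftH ih _ (Subgroup.inv_mem _ (cQ_sq_mem hB he₁ j))) j
    · exact hleftH ih x⁻¹ (Subgroup.inv_mem _ (Subgroup.subset_closure hx))

end pi

end Cfsg.Agent.S2099P
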