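import Mathlib
import Cfsg.Agent.Helper2.S2099.DefsR
import Cfsg.Agent.Helper2.S2099.DefsN
import Cfsg.Agent.Helper2.S2099.DefsZ
import Cfsg.Agent.Helper2.S2099.DefsM
import Cfsg.Agent.Helper2.S2096.Defs
import Cfsg.Agent.Helper5.S2096TXID
import Cfsg.Agent.Helper25.S2096WXID
import Cfsg.Agent.Helper16.S2096TXDG
import Cfsg.Agent.Helper16.S2096DGH
import Cfsg.Agent.Helper4.S2099HABELQ
import Cfsg.Agent.Helper8.S2099TKMUL
import Cfsg.Agent.Helper15.S2099HLONGQ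
import Cfsg.Agent.Helper15.S2099TYMOVE

set_option autoImplicit false
set_option linter.unusedSectionVars false
set_option linter.unusedVariables false

/-! S2099 chapter Z, piece HGENQ (driver helper2; helper7): the normal form
`h = Θ (dgS d) * tK (e_o) l` of the elements of the torus `HhQ`. -/

namespace Cfsg.Agent.S2099P

open Matrix Cfsg.Agent.S3352P Cfsg.Agent.S3351P Cfsg.Agent.S2096P Cfsg.Agent.S2086P Cfsg.Agent.RGD
  Cfsg.Agent.Helper2
open Cfsg.Agent.S2094P (RB RootB sc NgEquivariant mapB reflB MD XD XD_coe isRoot_ng_right'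
  isRoot_ng_left' sw_ngEquivariant sc_ngEquivariant)

section field

variable {n : ℕ} {F : Type*} [Field F] {a b : F} [Aniso a b] {M : Type*} [Group M]
  {X : J n → J n → F → M} {Ys : J n → (Fin 2 → F) → M}

namespace HGENQ

/-- the normal form -/
def InT (a b : F) [Aniso a b] (Ys : J n → (Fin 2 → F) → M)
    (Θ : Matrix.SpecialLinearGroup (Fin n) F →* M) (o : Fin n) (h : M) : Prop :=
  ∃ (d : Tor n F) (l : QK a b), l ≠ 0 ∧ h = Θ (dgS n F d) * tK Ys (Sum.inl o) l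

theorem isRoot_ll {i j : Fin n} (h : i ≠ j) : IsRoot (Sum.inl i : J n) (Sum.inl j) := by
  refine ⟨fun e => h (Sum.inl_injective e), fun e => ?_⟩
  rw [ng_inl] at e
  exact Sum.inl_ne_inr e

theorem isRoot_lr {i j : Fin n} (h : i ≠ j) : IsRoot (Sum.inl i : J n) (Sum.inr j) := by
  refine ⟨Sum.inl_ne_inr, fun e => ?_⟩
  rw [ng_inr] at e
  exact h (Sum.inl_injective e)

theorem toP_ne_zero {l : QK a b} (hl : l ≠ 0) : QK.toP l ≠ 0 := fun h => hl (QK.toP_eq_zero.1 h)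

theorem qf2_toP_ne_zero {l : QK a b} (hl : l ≠ 0) : qf2 a b (QK.toP l) ≠ 0 := by
  rw [QK.qf2_toP]
  exact fun h => hl (QK.nrm_eq_zero h)

theorem toP_algebraMap (t : F) : QK.toP (algebraMap F (QK a b) t) = t • (e1 : Fin 2 → F) := by
  rw [Algebra.algebraMap_eq_smul_one, QK.toP_smul, QK.toP_one]

theorem tK_mem_HhQ (c : J n) {l : QK a b} (hl : l ≠ 0) : tK Ys c l ∈ HhQ (qf2 a b) X Ys :=
  tY_mem_HhQ e1 e1_ne_zero c (toP_ne_zero hl)

theorem conj_ne_zero {l : QK a b} (hl : l ≠ 0) : QK.conj l ≠ 0 := by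
  intro h
  apply hl
  have := congrArg QK.conj h
  rw [QK.conj_conj] at this
  rw [this]
  ext <;> simp [QK.conj]

theorem Hh_le_HhQ : Hh X ≤ HhQ (qf2 a b) X Ys := by
  unfold Hh HhQ
  exact Subgroup.closure_mono Set.subset_union_left

section

variable [Fintype F] (π : M →* Matrix (IQ n (Fin 2)) (IQ n (Fin 2)) F)
  (hπX : ∀ a b, IsRoot a b → ∀ t : F, π (X a b t) = xmQ a b t)
  (Θ : Matrix.SpecialLinearGroup (Fin n) F →* M)
  (hΘ : ∀ (i j : Fin n) (hij : i ≠ j) (t : F),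
    Θ (Matrix.SpecialLinearGroup.transvection hij t) = X (Sum.inl i) (Sum.inl j) t)
  (hn : 3 ≤ n) (hB : QRel (qf2 a b) X Ys) (o : Fin n)

include π hπX hΘ hn hB

theorem Theta_mem (d : Tor n F) : Θ (dgS n F d) ∈ HhQ (qf2 a b) X Ys :=
  Hh_le_HhQ (Theta_dgS_mem_Hh Θ hΘ hn hB.dX d)

theorem inT_mul {h₁ h₂ : M} (H₁ : InT a b Ys Θ o h₁) (H₂ : InT a b Ys Θ o h₂) :
    InT a b Ys Θ o (h₁ * h₂) := by
  obtain ⟨d₁, l₁, hl₁, rfl⟩ := H₁
  obtain ⟨d₂, l₂, hl₂, rfl⟩ := H₂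
  refine ⟨d₁ * d₂, l₁ * l₂, mul_ne_zero hl₁ hl₂, ?_⟩
  have hc : tK Ys (Sum.inl o) l₁ * Θ (dgS n F d₂) = Θ (dgS n F d₂) * tK Ys (Sum.inl o) l₁ :=
    HhQ_comm π hπX hn hB (tK_mem_HhQ _ hl₁) (Theta_mem π hπX Θ hΘ hn hB d₂)
  rw [map_mul, map_mul, tK_mul hn hB _ hl₁ hl₂]
  calc Θ (dgS n F d₁) * tK Ys (Sum.inl o) l₁ * (Θ (dgS n F d₂) * tK Ys (Sum.inl o) l₂)
      = Θ (dgS n F d₁) * (tK Ys (Sum.inl o) l₁ * Θ (dgS n F d₂)) * tK Ys (Sum.inl o) l₂ := by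
        group
    _ = Θ (dgS n F d₁) * Θ (dgS n F d₂) * (tK Ys (Sum.inl o) l₁ * tK Ys (Sum.inl o) l₂) := by
        rw [hc]; group

theorem inT_inv {h : M} (H : InT a b Ys Θ o h) : InT a b Ys Θ o h⁻¹ := by
  obtain ⟨d, l, hl, rfl⟩ := H
  refine ⟨d⁻¹, l⁻¹, inv_ne_zero hl, ?_⟩
  have hc : tK Ys (Sum.inl o) l⁻¹ * Θ (dgS n F d⁻¹) = Θ (dgS n F d⁻¹) * tK Ys (Sum.inl o) l⁻¹ :=
    HhQ_comm π hπX hn hB (tK_mem_HhQ _ (inv_ne_zero hl)) (Theta_mem π hπX Θ hΘ hn hB d⁻¹)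
  have h1 : tK Ys (Sum.inl o) l * tK Ys (Sum.inl o) l⁻¹ = 1 := by
    rw [← tK_mul hn hB _ hl (inv_ne_zero hl), mul_inv_cancel₀ hl, tK_one]
  rw [_root_.mul_inv_rev, ← hc, inv_eq_of_mul_eq_one_right h1, map_inv, map_inv]

theorem inT_theta (d : Tor n F) : InT a b Ys Θ o (Θ (dgS n F d)) :=
  ⟨d, 1, one_ne_zero, by rw [tK_one, mul_one]⟩

theorem inT_tK_o {l : QK a b} (hl : l ≠ 0) : InT a b Ys Θ o (tK Ys (Sum.inl o) l) :=
  ⟨1, l, hl, by rw [map_one, map_one, one_mul]⟩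

theorem inT_ll {i j : Fin n} (hij : i ≠ j) {t : F} (ht : t ≠ 0) :
    InT a b Ys Θ o (tX X (Sum.inl i) (Sum.inl j) t) := by
  have := tX_eq_Theta Θ hΘ hn hB.dX hij (Units.mk0 t ht)
  rw [Units.val_mk0] at this
  rw [this]
  exact inT_theta π hπX Θ hΘ hn hB o _

theorem inT_tK_l (i : Fin n) {l : QK a b} (hl : l ≠ 0) :
    InT a b Ys Θ o (tK Ys (Sum.inl i) l) := by
  by_cases hio : i = o
  · subst hio
    exact inT_tK_o π hπX Θ hΘ hn hB i hl
  · have := tY_move hn hB (qf2_e1 a b) (isRoot_ll hio) (qf2_toP_ne_zero hl)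
    have e : tK Ys (Sum.inl i) l =
        tX X (Sum.inl i) (Sum.inl o) (qf2 a b (QK.toP l)) * tK Ys (Sum.inl o) l := this
    rw [e]
    exact inT_mul π hπX Θ hΘ hn hB o (inT_ll π hπX Θ hΘ hn hB o hio (qf2_toP_ne_zero hl))
      (inT_tK_o π hπX Θ hΘ hn hB o hl)

theorem inT_tK (c : J n) {l : QK a b} (hl : l ≠ 0) : InT a b Ys Θ o (tK Ys c l) := by
  rcases c with i | i
  · exact inT_tK_l π hπX Θ hΘ hn hB o i hl
  · have := tK_ng hn hB (Sum.inl i) hl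
    rw [ng_inl] at this
    rw [this]
    exact inT_tK_l π hπX Θ hΘ hn hB o i (inv_ne_zero (conj_ne_zero hl))

theorem inT_rr {i j : Fin n} (hij : i ≠ j) {t : F} (ht : t ≠ 0) :
    InT a b Ys Θ o (tX X (Sum.inr i) (Sum.inr j) t) := by
  have h1 := tX_flip hn hB.dX (isRoot_ll (Ne.symm hij)) ht
  rw [ng_inl, ng_inl] at h1
  rw [h1]
  exact inT_ll π hπX Θ hΘ hn hB o (Ne.symm hij) ht

theorem inT_lr {i j : Fin n} (hij : i ≠ j) {t : F} (ht : t ≠ 0) :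
    InT a b Ys Θ o (tX X (Sum.inl i) (Sum.inr j) t) := by
  have h1 := tX_ng_eq hn hB (qf2_e1 a b) (isRoot_ll hij) ht
  rw [ng_inl] at h1
  rw [h1]
  have e : tY (qf2 a b) Ys e1 (Sum.inl j) (t • (e1 : Fin 2 → F)) =
      tK Ys (Sum.inl j) (algebraMap F (QK a b) t) := by
    unfold tK
    rw [toP_algebraMap]
  rw [e]
  have hne : algebraMap F (QK a b) t ≠ 0 := by
    intro h
    apply ht
    have := congrArg QK.re h
    simpa using this
  exact inT_mul π hπX Θ hΘ hn hB o (inT_tK π hπX Θ hΘ hn hB o _ hne)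
    (inT_ll π hπX Θ hΘ hn hB o hij ht)

end

end HGENQ

open HGENQ

/-- HGENQ -/
theorem exists_of_mem_HhQ [Fintype F] (π : M →* Matrix (IQ n (Fin 2)) (IQ n (Fin 2)) F)
    (hπX : ∀ a b, IsRoot a b → ∀ t : F, π (X a b t) = xmQ a b t)
    (Θ : Matrix.SpecialLinearGroup (Fin n) F →* M)
    (hΘ : ∀ (i j : Fin n) (hij : i ≠ j) (t : F),
      Θ (Matrix.SpecialLinearGroup.transvection hij t) = X (Sum.inl i) (Sum.inl j) t)
    (hn : 3 ≤ n) (hB : QRel (qf2 a b) X Ys) (o : Fin n) {h : M}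
    (hh : h ∈ HhQ (qf2 a b) X Ys) :
    ∃ (d : Tor n F) (l : QK a b), l ≠ 0 ∧ h = Θ (dgS n F d) * tK Ys (Sum.inl o) l := by
  change InT a b Ys Θ o h
  unfold HhQ at hh
  induction hh using Subgroup.closure_induction with
  | mem x hx =>
    rcases hx with ⟨c, d, t, hcd, ht, rfl⟩ | ⟨c, w, v, hw, hv, rfl⟩
    · rcases c with i | i <;> rcases d with j | j
      · exact inT_ll π hπX Θ hΘ hn hB o (fun e => hcd.1 (by rw [e])) ht
      · exact inT_lr π hπX Θ hΘ hn hB o (fun e => hcd.2 (by rw [e, ng_inr])) ht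
      · have hji : j ≠ i := fun e => hcd.2 (by rw [e, ng_inl])
        rw [tX_swap hn hB.dX (isRoot_lr hji) ht]
        exact inT_lr π hπX Θ hΘ hn hB o hji (inv_ne_zero ht)
      · exact inT_rr π hπX Θ hΘ hn hB o (fun e => hcd.1 (by rw [e])) ht
    · have hw' : (QK.ofP w : QK a b) ≠ 0 := by
        intro h
        apply hw
        rw [← QK.toP_ofP (a := a) (b := b) w, h]
        exact QK.toP_eq_zero.2 rfl
      have hv' : (QK.ofP v : QK a b) ≠ 0 := by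
        intro h
        apply hv
        rw [← QK.toP_ofP (a := a) (b := b) v, h]
        exact QK.toP_eq_zero.2 rfl
      have := wY_mul_wY_inv hn hB c hw' hv'
      rw [QK.toP_ofP, QK.toP_ofP] at this
      rw [this]
      exact inT_tK π hπX Θ hΘ hn hB o c (mul_ne_zero hw' (inv_ne_zero hv'))
  | one =>
    exact ⟨1, 1, one_ne_zero, by rw [map_one, map_one, one_mul, tK_one]⟩
  | mul x y _ _ hx hy => exact inT_mul π hπX Θ hΘ hn hB o hx hy
  | inv x _ hx => exact inT_inv π hπX Θ hΘ hn hB o hx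

end field

end Cfsg.Agent.S2099P
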