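import Cfsg.Agent.Helper11.S3786Defs
import Cfsg.Agent.Helper5.HHTe

/-! # S3786 board, row `K_nilp`: `(A^N - 1) Σ_{i<N} A^{-i} = 0`, `N = p^k` ⟹ `(A - 1)^{2N-1} = 0`. -/

set_option autoImplicit false

namespace Cfsg.Agent.S3786P

theorem K_nilp {p : ℕ} [Fact p.Prime] {V : Type*} [AddCommGroup V] [Module (ZMod p) V] (A A' : Module.End (ZMod p) V)
    (hA : A * A' = 1) (hA' : A' * A = 1) (k : ℕ)
    (h : (A ^ p ^ k - 1) * ∑ i ∈ Finset.range (p ^ k), A' ^ i = 0) : (A - 1) ^ (2 * p ^ k - 1) = 0 := by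
  have hpos : 0 < p ^ k := pos_of_ne_zero (pow_ne_zero _ (Fact.out : p.Prime).ne_zero)
  have h1 : A ^ p ^ k - 1 = (A - 1) ^ (p ^ k) :=
    (Cfsg.Agent.Helper5.HHT.sub_one_pow_char_pow (K := ZMod p) p A k).symm
  have h2 : ∑ i ∈ Finset.range (p ^ k), A' ^ i = (A' - 1) ^ (p ^ k - 1) :=
    (Cfsg.Agent.Helper5.HHT.sub_one_pow_eq_geom (K := ZMod p) p A' k).symm
  rw [h1, h2] at h
  -- `A' - 1 = - A' (A - 1)`
  have hcomm : Commute A A' := by rw [Commute, SemiconjBy, hA, hA']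
  have h3 : A' - 1 = -(A' * (A - 1)) := by
    rw [mul_sub, hA', mul_one]; abel
  have hc2 : Commute A' (A - 1) := (hcomm.symm.sub_right (Commute.one_right _))
  rw [h3, neg_pow, hc2.mul_pow] at h
  -- multiply by `A^(N-1)` on the left
  have hc3 : Commute ((A - 1) ^ (p ^ k)) (A' ^ (p ^ k - 1)) := (hc2.symm.pow_pow _ _)
  have h4 : (A - 1) ^ p ^ k * ((-1) ^ (p ^ k - 1) * (A' ^ (p ^ k - 1) * (A - 1) ^ (p ^ k - 1))) =
      (-1) ^ (p ^ k - 1) * (A' ^ (p ^ k - 1) * (A - 1) ^ (2 * p ^ k - 1)) := by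
    have e : 2 * p ^ k - 1 = p ^ k + (p ^ k - 1) := by omega
    rw [e, pow_add]
    have hm : Commute ((A - 1) ^ p ^ k) ((-1 : Module.End (ZMod p) V) ^ (p ^ k - 1)) :=
      ((Commute.neg_one_right _).pow_right _)
    rw [← mul_assoc, hm.eq, mul_assoc, ← mul_assoc ((A - 1) ^ p ^ k), hc3.eq, mul_assoc]
  rw [h4] at h
  have h5 : A ^ (p ^ k - 1) * A' ^ (p ^ k - 1) = 1 := by
    rw [← hcomm.mul_pow, hA, one_pow]
  have h6 : ((-1 : Module.End (ZMod p) V) ^ (p ^ k - 1)) * ((-1) ^ (p ^ k - 1)) = 1 := by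
    rw [← pow_add, ← two_mul, pow_mul]; simp
  calc (A - 1) ^ (2 * p ^ k - 1)
      = ((-1) ^ (p ^ k - 1) * (-1) ^ (p ^ k - 1)) * ((A ^ (p ^ k - 1) * A' ^ (p ^ k - 1)) *
          (A - 1) ^ (2 * p ^ k - 1)) := by rw [h5, h6, one_mul, one_mul]
    _ = (-1) ^ (p ^ k - 1) * A ^ (p ^ k - 1) * ((-1) ^ (p ^ k - 1) *
          (A' ^ (p ^ k - 1) * (A - 1) ^ (2 * p ^ k - 1))) := by
        have hm : Commute ((-1 : Module.End (ZMod p) V) ^ (p ^ k - 1)) (A ^ (p ^ k - 1)) :=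
          ((Commute.neg_one_left _).pow_left _)
        rw [mul_assoc, mul_assoc, mul_assoc, ← mul_assoc ((-1) ^ (p ^ k - 1)) (A ^ (p ^ k - 1)), hm.eq]
        simp only [mul_assoc]
    _ = 0 := by rw [h, mul_zero]

end Cfsg.Agent.S3786P
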