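import Cfsg.Agent.Helper7.S3786POWFORM

/-! # S3786 board, row `POWCOMM`: if `x^N` commutes with all `(x r)^N` then `(X̄^N - 1) Σ_{i<N} X̄^{-i} = 0` on `V`. -/

set_option autoImplicit false

namespace Cfsg.Agent.S3786P

universe u

variable {X : Type u} [Group X] [Finite X] {p : ℕ} [Fact p.Prime] {V : Type u} [AddCommGroup V] [Module (ZMod p) V]
  {π : ↥(Cfsg.pCore p X) →* Multiplicative V} {ρb : Representation (ZMod p) (X ⧸ Cfsg.pCore p X) V}

theorem POWCOMM (D : FratData p V π ρb) (x : X) (N : ℕ)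
    (h : ∀ r : ↥(Cfsg.pCore p X), x ^ N * (x * (r : X)) ^ N = (x * (r : X)) ^ N * x ^ N) :
    (ρb (QuotientGroup.mk' (Cfsg.pCore p X) x) ^ N - 1) *
      ∑ i ∈ Finset.range N, ρb (QuotientGroup.mk' (Cfsg.pCore p X) x⁻¹) ^ i = 0 := by
  apply LinearMap.ext
  intro v
  obtain ⟨r, hr⟩ := D.surj (Multiplicative.ofAdd v)
  have hv : Multiplicative.toAdd (π r) = v := by rw [hr]; rfl
  obtain ⟨u, hu1, hu2⟩ := POWFORM D x r N
  have hc := h r
  rw [hu1] at hc
  -- `x^N u x^{-N} = u`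
  have hconj : (u : X) = x ^ N * (u : X) * (x ^ N)⁻¹ := by
    have h1 : x ^ N * (u : X) = (u : X) * x ^ N := by
      rw [mul_assoc] at hc
      exact mul_left_cancel hc
    rw [h1]; group
  have he := D.equiv (x ^ N) u u hconj
  rw [map_pow, map_pow] at he
  rw [LinearMap.zero_apply, Module.End.mul_apply, LinearMap.sub_apply, Module.End.one_apply,
    LinearMap.sum_apply]
  rw [hv] at hu2
  rw [← hu2, ← he, sub_self]

end Cfsg.Agent.S3786P
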