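import Mathlib
import Cfsg.Agent.Helper21.Jordan3

set_option autoImplicit false
set_option linter.unusedSectionVars false
set_option linter.style.haveILetI false

/-! Conjugating a nilpotent matrix to a matrix over a subfield, with control of the determinant
of the conjugating matrix (scaling of Jordan blocks). -/

namespace Cfsg.Agent.Helper7.SubF

open Matrix

variable {F : Type*} [Field F] {n : ℕ}

/-- abstract scaling lemma: a basis `b` on which `N` acts as a partial shift `succ`, rescaled by
`γ` with ratios along the shift in a subfield. -/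
theorem shift_conj {I : Type} [Fintype I] [DecidableEq I] (e : I ≃ Fin n)
    (N : Matrix (Fin n) (Fin n) F) (b : I → Fin n → F) (succ : I → Option I)
    (hT1 : ∀ x y, succ x = some y → N *ᵥ b x = b y) (hT0 : ∀ x, succ x = none → N *ᵥ b x = 0)
    (γ : I → F) (F₀ : Subfield F) (ρ : I → F₀)
    (hρ : ∀ x y, succ x = some y → γ x = (ρ x : F) * γ y) :
    N * Matrix.of (fun r s => γ (e.symm s) * b (e.symm s) r) =
      Matrix.of (fun r s => γ (e.symm s) * b (e.symm s) r) *
        (Matrix.of (fun s' s => if succ (e.symm s) = some (e.symm s') then ρ (e.symm s)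
          else 0) : Matrix (Fin n) (Fin n) F₀).map F₀.subtype := by
  ext r s
  rw [Matrix.mul_apply, Matrix.mul_apply]
  simp only [Matrix.of_apply, Matrix.map_apply]
  have hL : ∑ t, N r t * (γ (e.symm s) * b (e.symm s) t) =
      γ (e.symm s) * (N *ᵥ b (e.symm s)) r := by
    rw [Matrix.mulVec, dotProduct, Finset.mul_sum]
    apply Finset.sum_congr rfl
    intro t _
    ring
  rw [hL]
  rcases hs : succ (e.symm s) with _ | y
  · rw [hT0 _ hs, Pi.zero_apply, mul_zero]
    symm
    apply Finset.sum_eq_zero
    intro s' _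
    rw [if_neg (by simp), map_zero, mul_zero]
  · rw [hT1 _ y hs, Finset.sum_eq_single (e y)]
    · rw [Equiv.symm_apply_apply, if_pos rfl, hρ _ y hs]
      simp only [Subfield.coe_subtype]
      ring
    · intro s' _ hs'
      have : ¬ (some y = some (e.symm s')) := by
        intro h
        apply hs'
        rw [Option.some_inj] at h
        rw [h, Equiv.apply_symm_apply]
      rw [if_neg this, map_zero, mul_zero]
    · intro h
      exact absurd (Finset.mem_univ _) h

/-- determinant of the rescaled basis matrix. -/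
theorem det_scaled {I : Type} [Fintype I] [DecidableEq I] (e : I ≃ Fin n)
    (b : I → Fin n → F) (γ : I → F) :
    (Matrix.of (fun r s => γ (e.symm s) * b (e.symm s) r) : Matrix (Fin n) (Fin n) F).det =
      (∏ x, γ x) * (Matrix.of (fun r s => b (e.symm s) r) : Matrix (Fin n) (Fin n) F).det := by
  have h1 := Matrix.det_mul_row (fun s => γ (e.symm s))
    (Matrix.of (fun r s => b (e.symm s) r) : Matrix (Fin n) (Fin n) F)
  simp only [Matrix.of_apply] at h1
  rw [h1]
  congr 1
  exact Equiv.prod_comp e.symm γ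

/-- determinant of a basis matrix is nonzero. -/
theorem det_basis_ne_zero {I : Type} [Fintype I] [DecidableEq I] (e : I ≃ Fin n)
    (b : I → Fin n → F) (hli : LinearIndependent F b) :
    (Matrix.of (fun r s => b (e.symm s) r) : Matrix (Fin n) (Fin n) F).det ≠ 0 := by
  have h1 : LinearIndependent F
      (Matrix.of (fun r s => b (e.symm s) r) : Matrix (Fin n) (Fin n) F).col := by
    have : (Matrix.of (fun r s => b (e.symm s) r) : Matrix (Fin n) (Fin n) F).col =
        b ∘ e.symm := by
      funext s r
      rfl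
    rw [this]
    exact hli.comp _ e.symm.injective
  rw [Matrix.linearIndependent_cols_iff_isUnit, Matrix.isUnit_iff_isUnit_det] at h1
  exact h1.ne_zero

open Cfsg.Agent.Helper21.Jordan in
/-- A nilpotent matrix is conjugate to a matrix over any subfield, by conjugating matrices whose
determinant can be adjusted by `c ^ d * ε`, `d` the size of a Jordan block and `ε` in the
subfield. -/
theorem exists_rational_conj (N : Matrix (Fin n) (Fin n) F) (hN : IsNilpotent N)
    (F₀ : Subfield F) :
    ∃ (ι : Type) (_ : Fintype ι) (d : ι → ℕ) (D₀ : F), D₀ ≠ 0 ∧ (∀ i, 0 < d i) ∧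
      (∑ i, d i = n) ∧ (∀ i k, N ^ k = 0 → d i ≤ k) ∧
      ∀ (i0 : ι) (c : F) (ε : F₀), ∃ (P : Matrix (Fin n) (Fin n) F)
        (M₀ : Matrix (Fin n) (Fin n) F₀),
        P.det = c ^ (d i0) * (ε : F) * D₀ ∧ N * P = P * M₀.map F₀.subtype := by
  classical
  have hT : IsNilpotent (Matrix.toLin' N) := (Matrix.isNilpotent_toLin'_iff N).2 hN
  obtain ⟨μ, ι, _, d, v, hμ, hpos, hli, hspan, hkill⟩ := exists_isJordan (Matrix.toLin' N) hT
  have hcard : Fintype.card (Σ i : ι, Fin (d i)) = n := by
    have hb := Module.finrank_eq_card_basis (Module.Basis.mk hli (le_of_eq hspan.symm))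
    rw [Module.finrank_fintype_fun_eq_card, Fintype.card_fin] at hb
    exact hb.symm
  let e : (Σ i : ι, Fin (d i)) ≃ Fin n := Fintype.equivFinOfCardEq hcard
  let b : (Σ i : ι, Fin (d i)) → Fin n → F := fam (Matrix.toLin' N) d v
  let succ : (Σ i : ι, Fin (d i)) → Option (Σ i : ι, Fin (d i)) := fun x =>
    if h : (x.2 : ℕ) + 1 < d x.1 then some ⟨x.1, ⟨(x.2 : ℕ) + 1, h⟩⟩ else none
  have hT1 : ∀ x y, succ x = some y → N *ᵥ b x = b y := by
    intro x y hxy
    simp only [succ] at hxy
    split_ifs at hxy with h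
    rw [Option.some_inj] at hxy
    rw [← hxy, ← Matrix.toLin'_apply]
    show (Matrix.toLin' N) (((Matrix.toLin' N) ^ (x.2 : ℕ)) (v x.1)) =
      ((Matrix.toLin' N) ^ ((x.2 : ℕ) + 1)) (v x.1)
    rw [pow_succ', Module.End.mul_apply]
  have hT0 : ∀ x, succ x = none → N *ᵥ b x = 0 := by
    intro x hx
    simp only [succ] at hx
    split_ifs at hx with h
    have h2 : (x.2 : ℕ) + 1 = d x.1 := by
      have := x.2.2
      omega
    rw [← Matrix.toLin'_apply]
    show (Matrix.toLin' N) (((Matrix.toLin' N) ^ (x.2 : ℕ)) (v x.1)) = 0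
    rw [← Module.End.mul_apply, ← pow_succ', h2, hkill]
  refine ⟨ι, inferInstance, d, (Matrix.of (fun r s => b (e.symm s) r) :
    Matrix (Fin n) (Fin n) F).det, det_basis_ne_zero e b hli, hpos, ?_, ?_, ?_⟩
  · rw [← hcard, Fintype.card_sigma]
    simp only [Fintype.card_fin]
  · intro i k hk
    by_contra hlt
    push Not at hlt
    have h1 : b ⟨i, ⟨k, hlt⟩⟩ ≠ 0 := hli.ne_zero _
    apply h1
    show ((Matrix.toLin' N) ^ k) (v i) = 0
    rw [← Matrix.toLin'_pow, hk, map_zero, LinearMap.zero_apply]
  · intro i0 c ε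
    let x0 : (Σ i : ι, Fin (d i)) := ⟨i0, ⟨0, hpos i0⟩⟩
    let γ : (Σ i : ι, Fin (d i)) → F := fun x =>
      (if x.1 = i0 then c else 1) * (if x = x0 then (ε : F) else 1)
    let ρ : (Σ i : ι, Fin (d i)) → F₀ := fun x => if x = x0 then ε else 1
    have hρ : ∀ x y, succ x = some y → γ x = (ρ x : F) * γ y := by
      intro x y hxy
      simp only [succ] at hxy
      split_ifs at hxy with h
      rw [Option.some_inj] at hxy
      have hy1 : y.1 = x.1 := by rw [← hxy]
      have hy0 : y ≠ x0 := by
        intro hy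
        have h3 : (y.2 : ℕ) = (x.2 : ℕ) + 1 := by rw [← hxy]
        have h4 : (y.2 : ℕ) = 0 := by rw [hy]
        omega
      simp only [γ, ρ, hy1, if_neg hy0, mul_one]
      by_cases hx : x = x0
      · rw [if_pos hx, if_pos hx]
        ring
      · rw [if_neg hx, if_neg hx]
        simp
    refine ⟨Matrix.of (fun r s => γ (e.symm s) * b (e.symm s) r), _, ?_,
      shift_conj e N b succ hT1 hT0 γ F₀ ρ hρ⟩
    rw [det_scaled e b γ]
    congr 1
    simp only [γ]
    rw [Finset.prod_mul_distrib, Finset.prod_ite_eq' Finset.univ x0 (fun _ => (ε : F)),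
      if_pos (Finset.mem_univ _)]
    congr 1
    rw [Fintype.prod_sigma]
    have hin : ∀ x : ι, (∏ _j : Fin (d x), (if x = i0 then c else 1)) =
        if x = i0 then c ^ d x else 1 := by
      intro x
      rw [Finset.prod_const, Finset.card_univ, Fintype.card_fin]
      split_ifs <;> simp
    rw [Finset.prod_congr rfl (fun x _ => hin x),
      Finset.prod_ite_eq' Finset.univ i0 (fun i => c ^ d i), if_pos (Finset.mem_univ _)]

end Cfsg.Agent.Helper7.SubF
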