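import Mathlib

set_option autoImplicit false

/-!
# S2154 piece OPT: existence and uniqueness of an optimal normalised weight vector

Pure real analysis (Mathlib only): maximise `M g μ / √(q μ)` over a finite index set and the
compact unit sphere; strict convexity of `q` (parallelogram identity) and concavity of `M g`
make the normalised maximiser unique for each `g` attaining the optimum.
-/

namespace Cfsg.Agent.Helper7.BT

theorem opt {n : ℕ} {G : Type*} [Finite G] [Nonempty G]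
    (q : (Fin n → ℝ) → ℝ) (M : G → (Fin n → ℝ) → ℝ)
    (hq_cont : Continuous q) (hq_pos : ∀ μ, μ ≠ 0 → 0 < q μ)
    (hq_hom : ∀ (c : ℝ) μ, q (c • μ) = c ^ 2 * q μ)
    (hq_mid : ∀ μ ν, q ((1 / 2 : ℝ) • (μ + ν)) + q ((1 / 2 : ℝ) • (μ - ν)) = (q μ + q ν) / 2)
    (hM_cont : ∀ g, Continuous (M g))
    (hM_hom : ∀ g (c : ℝ), 0 ≤ c → ∀ μ, M g (c • μ) = c * M g μ)
    (hM_conc : ∀ g μ ν, (M g μ + M g ν) / 2 ≤ M g ((1 / 2 : ℝ) • (μ + ν)))
    (hpos : ∃ g μ, 0 < M g μ) :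
    ∃ (g₀ : G) (μ₀ : Fin n → ℝ) (T : ℝ), 0 < T ∧ q μ₀ = 1 ∧ M g₀ μ₀ = T ∧
      (∀ g μ, q μ = 1 → M g μ ≤ T) ∧
      (∀ g μ μ', q μ = 1 → q μ' = 1 → T ≤ M g μ → T ≤ M g μ' → μ = μ') := by
  classical
  have hq0 : q 0 = 0 := by
    have h := hq_hom 0 0
    simpa using h
  have hM0 : ∀ g, M g 0 = 0 := by
    intro g
    have h := hM_hom g 0 le_rfl 0
    simpa using h
  obtain ⟨g₁, μ₁, h₁⟩ := hpos
  have hμ₁ : μ₁ ≠ 0 := by
    rintro rfl
    rw [hM0] at h₁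
    exact lt_irrefl _ h₁
  -- the unit sphere
  have hmemS : ∀ μ : Fin n → ℝ, μ ≠ 0 → (‖μ‖)⁻¹ • μ ∈ Metric.sphere (0 : Fin n → ℝ) 1 := by
    intro μ hμ
    have hn : 0 < ‖μ‖ := norm_pos_iff.mpr hμ
    rw [mem_sphere_zero_iff_norm, norm_smul, norm_inv, norm_norm]
    exact inv_mul_cancel₀ hn.ne'
  have hScomp : IsCompact (Metric.sphere (0 : Fin n → ℝ) 1) := isCompact_sphere 0 1
  have hSne : (Metric.sphere (0 : Fin n → ℝ) 1).Nonempty := ⟨_, hmemS μ₁ hμ₁⟩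
  have hSne0 : ∀ u ∈ Metric.sphere (0 : Fin n → ℝ) 1, u ≠ 0 := by
    intro u hu h0
    rw [mem_sphere_zero_iff_norm, h0, norm_zero] at hu
    exact zero_ne_one hu
  have hSpos : ∀ u ∈ Metric.sphere (0 : Fin n → ℝ) 1, 0 < q u := fun u hu =>
    hq_pos u (hSne0 u hu)
  -- the scale-invariant functional
  have hΦcont : ∀ g, ContinuousOn (fun u => M g u / Real.sqrt (q u))
      (Metric.sphere (0 : Fin n → ℝ) 1) := by
    intro g
    apply ContinuousOn.div (hM_cont g).continuousOn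
      (Real.continuous_sqrt.comp hq_cont).continuousOn
    intro u hu
    exact (Real.sqrt_pos.mpr (hSpos u hu)).ne'
  have hmax : ∀ g, ∃ u ∈ Metric.sphere (0 : Fin n → ℝ) 1,
      ∀ v ∈ Metric.sphere (0 : Fin n → ℝ) 1,
        M g v / Real.sqrt (q v) ≤ M g u / Real.sqrt (q u) := by
    intro g
    obtain ⟨u, hu, hm⟩ := hScomp.exists_isMaxOn hSne (hΦcont g)
    exact ⟨u, hu, fun v hv => hm hv⟩
  choose U hUS hUmax using hmax
  obtain ⟨g₀, hg₀⟩ := Finite.exists_max (fun g => M g (U g) / Real.sqrt (q (U g)))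
  have hTmax : ∀ g, ∀ v ∈ Metric.sphere (0 : Fin n → ℝ) 1,
      M g v / Real.sqrt (q v) ≤ M g₀ (U g₀) / Real.sqrt (q (U g₀)) :=
    fun g v hv => (hUmax g v hv).trans (hg₀ g)
  -- scaling
  have hscale : ∀ g (μ : Fin n → ℝ), μ ≠ 0 →
      M g ((‖μ‖)⁻¹ • μ) / Real.sqrt (q ((‖μ‖)⁻¹ • μ)) = M g μ / Real.sqrt (q μ) := by
    intro g μ hμ
    have hn : 0 < ‖μ‖ := norm_pos_iff.mpr hμ
    have hsq : 0 < Real.sqrt (q μ) := Real.sqrt_pos.mpr (hq_pos μ hμ)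
    rw [hM_hom g _ (inv_nonneg.mpr hn.le), hq_hom,
      Real.sqrt_mul (sq_nonneg _), Real.sqrt_sq (inv_nonneg.mpr hn.le)]
    field_simp
  have hbound : ∀ g (μ : Fin n → ℝ), μ ≠ 0 →
      M g μ / Real.sqrt (q μ) ≤ M g₀ (U g₀) / Real.sqrt (q (U g₀)) := by
    intro g μ hμ
    rw [← hscale g μ hμ]
    exact hTmax g _ (hmemS μ hμ)
  -- the optimum
  have hu₀pos : 0 < q (U g₀) := hSpos _ (hUS g₀)
  have hs₀ : 0 < Real.sqrt (q (U g₀)) := Real.sqrt_pos.mpr hu₀pos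
  have hTpos : 0 < M g₀ (U g₀) / Real.sqrt (q (U g₀)) := by
    refine lt_of_lt_of_le ?_ (hbound g₁ μ₁ hμ₁)
    exact div_pos h₁ (Real.sqrt_pos.mpr (hq_pos μ₁ hμ₁))
  have hle : ∀ g μ, q μ = 1 → M g μ ≤ M g₀ (U g₀) / Real.sqrt (q (U g₀)) := by
    intro g μ hμ
    have hμ0 : μ ≠ 0 := by
      rintro rfl
      rw [hq0] at hμ
      exact zero_ne_one hμ
    have h := hbound g μ hμ0
    rwa [hμ, Real.sqrt_one, div_one] at h
  refine ⟨g₀, (Real.sqrt (q (U g₀)))⁻¹ • U g₀, M g₀ (U g₀) / Real.sqrt (q (U g₀)),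
    hTpos, ?_, ?_, hle, ?_⟩
  · rw [hq_hom, inv_pow, Real.sq_sqrt hu₀pos.le]
    exact inv_mul_cancel₀ hu₀pos.ne'
  · rw [hM_hom g₀ _ (inv_nonneg.mpr hs₀.le)]
    field_simp
  · intro g μ μ' hμ hμ' h1 h2
    by_contra hne
    set T := M g₀ (U g₀) / Real.sqrt (q (U g₀)) with hT
    set ν : Fin n → ℝ := (1 / 2 : ℝ) • (μ + μ') with hν
    have hMν : T ≤ M g ν := by
      have h := hM_conc g μ μ'
      linarith
    have hν0 : ν ≠ 0 := by
      intro h0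
      rw [h0, hM0] at hMν
      linarith
    have hd0 : (1 / 2 : ℝ) • (μ - μ') ≠ 0 := by
      intro h0
      apply hne
      have h2' : μ - μ' = 0 := by
        have := congrArg (fun x => (2 : ℝ) • x) h0
        simpa [smul_smul] using this
      exact sub_eq_zero.mp h2'
    have hqd : 0 < q ((1 / 2 : ℝ) • (μ - μ')) := hq_pos _ hd0
    have hqν : q ν = 1 - q ((1 / 2 : ℝ) • (μ - μ')) := by
      have h := hq_mid μ μ'
      rw [hμ, hμ'] at h
      linarith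
    have hqνpos : 0 < q ν := hq_pos ν hν0
    have hqνlt : q ν < 1 := by linarith
    have hsν : 0 < Real.sqrt (q ν) := Real.sqrt_pos.mpr hqνpos
    have hsνlt : Real.sqrt (q ν) < 1 := by
      rw [show (1 : ℝ) = Real.sqrt 1 from Real.sqrt_one.symm]
      exact Real.sqrt_lt_sqrt hqνpos.le hqνlt
    have hb := hbound g ν hν0
    -- M g ν / √(q ν) ≤ T but M g ν ≥ T > 0 and √(q ν) < 1
    have h3 : M g ν ≤ T * Real.sqrt (q ν) := (div_le_iff₀ hsν).mp hb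
    have h4 : T * Real.sqrt (q ν) < T * 1 := mul_lt_mul_of_pos_left hsνlt hTpos
    linarith
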