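import Mathlib
import Cfsg.Agent.Helper28.BTDefs
import Cfsg.Agent.Helper11.ChevSylow

set_option autoImplicit false

/-!
# S2154 piece SYL: a `p`-subgroup of a tabulated Chevalley group in characteristic `p` is
conjugate (inside the group) into the positive unipotent subgroup `U`
-/

namespace Cfsg.Agent.Helper7.BT

open Cfsg.Lie Cfsg.Agent.Helper6 Cfsg.Agent.Helper28.BT

variable {D : ChevalleyDatum} {F : Type*} [Field F]

theorem exists_conj_le_posUnipotent [Fintype F] (p : ℕ) [Fact p.Prime] [CharP F p]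
    (hD : IsTabulated D) (V : Subgroup (GL D.Idx F)) (hVG : V ≤ D.group F) (hV : IsPGroup p ↥V) :
    ∃ g ∈ D.group F, ∀ v ∈ V, g⁻¹ * v * g ∈ D.posUnipotent F := by
  classical
  obtain ⟨P, hP⟩ := Cfsg.Agent.Helper11.ChevSylow.exists_sylow (F := F) (D := D) p hD
  -- `V` as a `p`-subgroup of `↥(D.group F)`
  have hV' : IsPGroup p ↥(V.subgroupOf (D.group F)) :=
    hV.of_equiv (Subgroup.subgroupOfEquivOfLe hVG).symm
  obtain ⟨Q, hQ⟩ := hV'.exists_le_sylow
  obtain ⟨g, hg⟩ := MulAction.exists_smul_eq ↥(D.group F) Q P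
  refine ⟨(g⁻¹ : ↥(D.group F)), (g⁻¹ : ↥(D.group F)).2, ?_⟩
  intro v hv
  have hvG : v ∈ D.group F := hVG hv
  have h1 : (⟨v, hvG⟩ : ↥(D.group F)) ∈ (Q : Subgroup ↥(D.group F)) :=
    hQ (Subgroup.mem_subgroupOf.mpr hv)
  have h2 : g * ⟨v, hvG⟩ * g⁻¹ ∈ ((g • Q : Sylow p ↥(D.group F)) : Subgroup ↥(D.group F)) := by
    rw [Sylow.coe_subgroup_smul]
    exact ⟨⟨v, hvG⟩, h1, rfl⟩
  rw [hg, hP, Subgroup.mem_subgroupOf] at h2
  simpa using h2
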