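import Mathlib
import Cfsg.Agent.Helper28.S5751Defs
import Cfsg.Agent.Helper28.BTStab3
import Cfsg.Agent.Helper28.S5751SLA

/-!
# S5751 piece SLB: structure of `G ∩ GrFil(degI μ, m)`
-/

set_option autoImplicit false
set_option linter.unusedSectionVars false
set_option linter.unusedVariables false

namespace Cfsg.Agent.Helper7.S5751SLB

open Cfsg.Lie Cfsg.Agent.Helper6 Cfsg.Agent.Helper28.BT Cfsg.Agent.Helper2.Levi Cfsg.Agent.S5751P

variable {D : ChevalleyDatum} {F : Type*} [Field F]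

/-- the members of `posWord` are positive roots -/
theorem mem_posWord (hD : IsTabulated D) (t : ℕ → F) {p : ℕ × F} (hp : p ∈ posWord D t) :
    D.IsPosRoot p.1 ∧ p.2 = t p.1 := by
  unfold posWord at hp
  rw [List.mem_map] at hp
  obtain ⟨r, hr, rfl⟩ := hp
  rw [List.mem_range'_1] at hr
  have heven := (ordOK_of_tabulated hD).even
  have hlt : r < D.nroots := by omega
  exact ⟨((sign_iff_of_tabulated hD r hlt).1).2 hr.1, rfl⟩

/-- a word whose letters are root elements of level `≥ m` or trivial lies in `RGe` -/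
theorem wordU_mem_RGe (hB : BasicOK D) (μ : Fin D.rank → ℝ) (m : ℝ) (w : List (ℕ × F))
    (hw : ∀ p ∈ w, (p.1 < D.nroots ∧ m ≤ lev D μ p.1) ∨ p.2 = 0) :
    wordU hB w ∈ RGe D F μ m := by
  unfold wordU
  apply Subgroup.list_prod_mem
  intro g hg
  rw [List.mem_map] at hg
  obtain ⟨p, hp, rfl⟩ := hg
  rcases hw p hp with ⟨h1, h2⟩ | h0
  · apply Subgroup.subset_closure
    exact ⟨p.1, p.2, h1, h2, xU_val hB p.1 p.2⟩
  · rw [h0, xU_zero]
    exact Subgroup.one_mem _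

/-- a positive word whose coefficients vanish below level `m` lies in `RGe μ m` -/
theorem posWord_mem_RGe (hD : IsTabulated D) (μ : Fin D.rank → ℝ) (m : ℝ) (t : ℕ → F)
    (ht : ∀ r, D.IsPosRoot r → lev D μ r < m → t r = 0) :
    wordU (basicOK_of_tabulated hD) (posWord D t) ∈ RGe D F μ m := by
  apply wordU_mem_RGe
  intro p hp
  obtain ⟨h1, h2⟩ := mem_posWord hD t hp
  by_cases hl : m ≤ lev D μ p.1
  · exact Or.inl ⟨h1.1, hl⟩
  · right
    rw [h2]
    exact ht p.1 h1 (not_le.mp hl)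

end Cfsg.Agent.Helper7.S5751SLB

namespace Cfsg.Agent.S5751P

open Cfsg.Lie Cfsg.Agent.Helper6 Cfsg.Agent.Helper28.BT Cfsg.Agent.Helper2.Levi
open Cfsg.Agent.Helper7.S5751SLB

variable {D : ChevalleyDatum} {F : Type*} [Field F]

theorem RGe_le_QF (hD : IsTabulated D) (μ : Fin D.rank → ℝ) {m : ℝ} (hm : 0 < m) :
    RGe D F μ m ≤ QF D F μ m := by
  have Δ : BNData D F := bnData_of_tabulated F hD
  unfold RGe
  rw [Subgroup.closure_le]
  rintro g ⟨r, t, hr, hl, hg⟩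
  have hg' : g = xU Δ.hB r t := Units.ext (by rw [hg, xU_val])
  rw [hg']
  refine Subgroup.mem_inf.mpr ⟨?_, xU_mem_group Δ.hB hr t⟩
  exact GrFil_mono _ hm.le hl (Cfsg.Agent.Helper18.BT.xU_mem_GrFil Δ μ hr (hm.le.trans hl) t)

theorem exists_posWord (hD : IsTabulated D)
    (hodd : ∀ r < D.nroots, ∃ i : Fin D.rank, ((D.cartan i.val r : ℤ) : F) ≠ 0)
    {μ : Fin D.rank → ℝ} (hdom : Dominant D μ) {m : ℝ} (hm : 0 < m) {g : GL D.Idx F}
    (hg : g ∈ QF D F μ m) :
    ∃ t : ℕ → F, g = wordU (basicOK_of_tabulated hD) (posWord D t) ∧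
      ∀ r, D.IsPosRoot r → lev D μ r < m → t r = 0 := by
  have hgU : g ∈ D.posUnipotent F :=
    Cfsg.Agent.Helper2.Levi.unipotentRadical_le_posUnipotent _ (GrFil_inf_group_le hD hdom hm hg)
  obtain ⟨t, ht⟩ := (uprod_of_tabulated hD).1 g hgU
  refine ⟨t, ht, ?_⟩
  intro r hr hlt
  have hgF : g ∈ GrFil (degI D μ) m := (Subgroup.mem_inf.mp hg).1
  rw [ht] at hgF
  exact coef_eq_zero hD hodd hdom hm t hgF hr hlt

theorem QF_le_RGe (hD : IsTabulated D)
    (hodd : ∀ r < D.nroots, ∃ i : Fin D.rank, ((D.cartan i.val r : ℤ) : F) ≠ 0)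
    {μ : Fin D.rank → ℝ} (hdom : Dominant D μ) {m : ℝ} (hm : 0 < m) :
    QF D F μ m ≤ RGe D F μ m := by
  intro g hg
  obtain ⟨t, hgt, ht⟩ := exists_posWord hD hodd hdom hm hg
  rw [hgt]
  exact posWord_mem_RGe hD μ m t ht

/-- if the coordinates of level `m` vanish, the element lies deeper in the filtration -/
theorem mem_QF_of_entries (hD : IsTabulated D)
    (hodd : ∀ r < D.nroots, ∃ i : Fin D.rank, ((D.cartan i.val r : ℤ) : F) ≠ 0)
    {μ : Fin D.rank → ℝ} (hdom : Dominant D μ) {m m' : ℝ} (hm : 0 < m) (hmm : m ≤ m')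
    (hgap : ∀ r, D.IsPosRoot r → lev D μ r ≤ m ∨ m' ≤ lev D μ r)
    {g : GL D.Idx F} (hg : g ∈ QF D F μ m)
    (h0 : ∀ r (hr : D.IsPosRoot r), lev D μ r = m → ∀ a : Fin D.rank,
      (g : Matrix D.Idx D.Idx F) (Sum.inr ⟨r, hr.1⟩) (Sum.inl a) = 0) :
    g ∈ QF D F μ m' := by
  obtain ⟨t, hgt, ht⟩ := exists_posWord hD hodd hdom hm hg
  apply RGe_le_QF hD μ (lt_of_lt_of_le hm hmm)
  rw [hgt]
  apply posWord_mem_RGe hD μ m' t
  intro r hr hlt
  rcases hgap r hr with h1 | h1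
  · rcases lt_or_eq_of_le h1 with h2 | h2
    · exact ht r hr h2
    · obtain ⟨a, ha⟩ := hodd r hr.1
      have e1 := entry_posWord hD hdom hm t ht hr h2 a
      have e2 := h0 r hr h2 a
      rw [hgt, e1] at e2
      rcases mul_eq_zero.mp e2 with h3 | h3
      · exact absurd (neg_eq_zero.mp h3) ha
      · exact h3
  · exact absurd hlt (not_lt.mpr h1)

end Cfsg.Agent.S5751P
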