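import Mathlib
import Cfsg.Prelude.Def_Classical
import Cfsg.Agent.Helper23.S5953Defs
import Cfsg.Agent.Helper28.GU
import Cfsg.Agent.Helper28.Herm

set_option autoImplicit false
open scoped MatrixGroups Matrix

/-! S5953 piece DETONE: a unitary matrix of order `r`, `r ∤ q + 1`, has determinant one. -/

universe u

namespace Cfsg.Agent.S5953P

open Polynomial Cfsg.Agent.S5955P Cfsg.Agent.Helper28.HW Cfsg.Agent.Helper28.HermFrame

/-- DETONE -/
theorem det_eq_one_of_isUn {F : Type*} [Field F] [Fintype F] {q : ℕ}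
    (hF : Fintype.card F = q ^ 2) (r : ℕ) [Fact r.Prime] (hrq : ¬ r ∣ q + 1) {n : ℕ}
    (x : Matrix (Fin n) (Fin n) F) (hx : IsUn q x) (hxr : x ^ r = 1) : x.det = 1 := by
  have hrp : r.Prime := Fact.out
  obtain ⟨σ, hσ, -⟩ := Cfsg.Agent.Helper28.exists_frob hF
  have h1 : x.det ^ (q + 1) = 1 :=
    Cfsg.Agent.Helper28.GUlib.det_pow_of_unitary σ hσ x
      ((Cfsg.Agent.Helper28.GUlib.preserves_iff σ hσ x).mp hx)
  have h2 : x.det ^ r = 1 := by
    rw [← Matrix.det_pow, hxr, Matrix.det_one]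
  have h3 : x.det ^ Nat.gcd r (q + 1) = 1 := pow_gcd_eq_one.mpr ⟨h2, h1⟩
  have hcop : Nat.gcd r (q + 1) = 1 := (Nat.Prime.coprime_iff_not_dvd hrp).mpr hrq
  rw [hcop, pow_one] at h3
  exact h3

end Cfsg.Agent.S5953P
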