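import Mathlib
import Cfsg.Prelude.Def_Classical
import Cfsg.Agent.Helper23.S5953Defs
import Cfsg.Agent.Helper28.Herm
import Cfsg.Agent.Helper18.S5953ARITHU
import Cfsg.Agent.Helper7.S5955MODEL2
import Cfsg.Agent.Helper7.S5953DETONE
import Cfsg.Agent.Helper7.S5953TRANSPORTU
import Cfsg.Agent.Helper7.S5953POWSP
import Cfsg.Agent.Helper18.S5953BLOCKSP

set_option autoImplicit false
open scoped MatrixGroups Matrix

/-! S5953 piece ELTU: an element of order `r` of `SU_n(q)` with fixed space of dimension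
`n % cu q r`. -/

universe u

namespace Cfsg.Agent.S5953P

open Polynomial Cfsg.Agent.S5955P Cfsg.Agent.Helper28.HW Cfsg.Agent.Helper28.HermFrame

open Cfsg.Agent.S5955P.MODEL2 in
/-- ELTU -/
theorem exists_elt_u {F : Type u} [Field F] [Fintype F] {p : ℕ} [Fact p.Prime] [CharP F p]
    {q : ℕ} (hF : Fintype.card F = q ^ 2) (r : ℕ) [Fact r.Prime] (hr2 : r ≠ 2) (hrp : r ≠ p)
    (hrq : ¬ r ∣ q + 1) (n : ℕ) (hcn : cu q r ≤ n) :
    ∃ x : Matrix.SpecialLinearGroup (Fin n) F, x ∈ Cfsg.SU n F q ∧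
      (x : Matrix (Fin n) (Fin n) F) ^ r = 1 ∧ (x : Matrix (Fin n) (Fin n) F) ≠ 1 ∧
      Module.finrank F (LinearMap.ker (Matrix.toLin' (x : Matrix (Fin n) (Fin n) F) - 1)) =
        n % cu q r := by
  classical
  have hrp' : r.Prime := Fact.out
  obtain ⟨σ, hσ, -⟩ := Cfsg.Agent.Helper28.exists_frob hF
  -- `cu q r` is positive
  have hcu : 0 < cu q r := by
    obtain ⟨-, -, -, -, -, hdvd, -⟩ := cu_arith hF r hr2 hrp
    rcases Nat.eq_zero_or_pos (cu q r) with h0 | h0
    · rw [h0, zero_dvd_iff] at hdvd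
      have := hrp'.two_le
      omega
    · exact h0
  obtain ⟨V₀, _, _, _, B₀, y₀, hY₀, hfr₀, hker₀⟩ := exists_block_space_u hF σ hσ r hr2 hrp
  obtain ⟨V, _, _, _, B, y, hY, hfr, hker, -⟩ :=
    exists_power_space_u B₀ y₀ r hY₀ (n / cu q r) (n % cu q r)
  have hfrn : Module.finrank F V = n := by
    rw [hfr, hfr₀, mul_comm]
    exact Nat.mod_add_div n (cu q r)
  have hkerκ : Module.finrank F (LinearMap.ker (y - 1)) = n % cu q r := by
    rw [hker, hker₀, finrank_bot, mul_zero, add_zero]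
  obtain ⟨x, e, hxU, hxr, -, hey⟩ := exists_un_of_yu B y r hY n hfrn
  have hdet : x.det = 1 := det_eq_one_of_isUn hF r hrq x hxU hxr
  obtain ⟨X, hXmem, hXx⟩ := exists_SU_of_isUn x hdet hxU
  have hcomp : (Matrix.toLin' x - 1).comp
      (e : V →ₗ[F] (Fin n → F)) = (e : V →ₗ[F] (Fin n → F)).comp (y - 1) := by
    apply LinearMap.ext
    intro v
    simp only [LinearMap.comp_apply, LinearMap.sub_apply, LinearEquiv.coe_coe,
      Module.End.one_apply, map_sub]
    rw [hey]
  have hkerx : (LinearMap.ker (Matrix.toLin' x - 1)).comap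
      (e : V →ₗ[F] (Fin n → F)) = LinearMap.ker (y - 1) := by
    rw [← LinearMap.ker_comp, hcomp, LinearMap.ker_comp, LinearEquiv.ker, Submodule.comap_bot]
  have hkerfr : Module.finrank F (LinearMap.ker (Matrix.toLin' x - 1)) = n % cu q r := by
    rw [← finrank_comap_equiv e, hkerx, hkerκ]
  refine ⟨X, hXmem, ?_, ?_, ?_⟩
  · rw [hXx]
    exact hxr
  · rw [hXx]
    intro h1
    rw [h1, Matrix.toLin'_one] at hkerfr
    have : (LinearMap.id : (Fin n → F) →ₗ[F] (Fin n → F)) - 1 = 0 := by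
      apply LinearMap.ext
      intro v
      simp
    rw [this, LinearMap.ker_zero, finrank_top, Module.finrank_fintype_fun_eq_card,
      Fintype.card_fin] at hkerfr
    have := Nat.mod_lt n hcu
    omega
  · rw [hXx]
    exact hkerfr

end Cfsg.Agent.S5953P
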