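import Mathlib
import Cfsg.Prelude.Def_GeometricClasses
import Cfsg.Agent.Helper20.S6000Defs

/-! S6000 piece ORBA (helper7): orbit representatives of a permutation of prime order
(Burnside's lemma for the cyclic group generated by `σ`). -/

set_option autoImplicit false
open scoped MatrixGroups Matrix

namespace Cfsg.Agent.S6000P

/-- ORBA (pure combinatorics) -/
theorem exists_perm_orbit_reps {X : Type*} [Fintype X] [DecidableEq X] (σ : Equiv.Perm X) (r : ℕ)
    [Fact r.Prime] (hσ : σ ^ r = 1) :
    ∃ (n0 : ℕ) (b : Fin n0 → X),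
      r * n0 = Fintype.card X + (r - 1) * Fintype.card {x : X // σ x = x} ∧
      ∀ x : X, ∃ (j : Fin n0) (e : ℕ), x = (σ ^ e) (b j) := by
  classical
  have hr : r.Prime := Fact.out
  obtain ⟨k, hk⟩ : ∃ k, r = k + 1 := ⟨r - 1, by have := hr.pos; omega⟩
  by_cases h1 : σ = 1
  · subst h1
    refine ⟨Fintype.card X, (Fintype.equivFin X).symm, ?_, ?_⟩
    · have : Fintype.card {x : X // (1 : Equiv.Perm X) x = x} = Fintype.card X :=
        Fintype.card_congr (Equiv.subtypeUnivEquiv (fun x => rfl))
      rw [this, hk]
      simp only [Nat.add_sub_cancel]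
      ring
    · intro x
      exact ⟨Fintype.equivFin X x, 0, by simp⟩
  · have hord : orderOf σ = r := orderOf_eq_prime hσ h1
    have hG : Nat.card (Subgroup.zpowers σ) = r := by rw [Nat.card_zpowers, hord]
    have hfinG : Fintype (Subgroup.zpowers σ) := Fintype.ofFinite _
    have hGc : Fintype.card (Subgroup.zpowers σ) = r := by
      rw [← Nat.card_eq_fintype_card]; exact hG
    have hsmul : ∀ (g : Subgroup.zpowers σ) (x : X), g • x = (g : Equiv.Perm X) x := fun g x => rfl
    have hfinΩ : Fintype (Quotient (MulAction.orbitRel (Subgroup.zpowers σ) X)) :=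
      Fintype.ofFinite _
    have burn := MulAction.sum_card_fixedBy_eq_card_orbits_mul_card_group
      (Subgroup.zpowers σ) X
    -- the fixed points of a nontrivial power of `σ` are those of `σ`
    have hfix : ∀ g : Subgroup.zpowers σ, g ≠ 1 →
        Fintype.card (MulAction.fixedBy X g) = Fintype.card {x : X // σ x = x} := by
      intro g hg
      apply Fintype.card_congr
      apply Equiv.subtypeEquivRight
      intro x
      rw [MulAction.mem_fixedBy, hsmul]
      constructor
      · intro hx
        -- `σ` is a power of `g`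
        have hσg : (⟨σ, Subgroup.mem_zpowers σ⟩ : Subgroup.zpowers σ) ∈ Subgroup.zpowers g :=
          mem_zpowers_of_prime_card hG hg
        obtain ⟨n, hn⟩ := Subgroup.mem_zpowers_iff.1 hσg
        have hn' : ((g : Equiv.Perm X)) ^ n = σ := by
          have := congrArg Subtype.val hn
          simpa using this
        rw [← hn']
        have : ∀ m : ℤ, ((g : Equiv.Perm X) ^ m) x = x := by
          intro m
          exact Equiv.Perm.zpow_apply_eq_self_of_apply_eq_self hx m
        exact this n
      · intro hx
        obtain ⟨n, hn⟩ := Subgroup.mem_zpowers_iff.1 g.2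
        rw [← hn]
        exact Equiv.Perm.zpow_apply_eq_self_of_apply_eq_self hx n
    have hfix1 : Fintype.card (MulAction.fixedBy X (1 : Subgroup.zpowers σ)) = Fintype.card X := by
      apply Fintype.card_congr
      apply Equiv.subtypeUnivEquiv
      intro x
      rw [MulAction.mem_fixedBy, one_smul]
    rw [← Finset.add_sum_erase Finset.univ _ (Finset.mem_univ (1 : Subgroup.zpowers σ)), hfix1,
      Finset.sum_congr rfl (fun g hg => hfix g (Finset.ne_of_mem_erase hg)), Finset.sum_const,
      Finset.card_erase_of_mem (Finset.mem_univ _), Finset.card_univ, hGc, smul_eq_mul] at burn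
    refine ⟨Fintype.card (Quotient (MulAction.orbitRel (Subgroup.zpowers σ) X)),
      fun j => ((Fintype.equivFin _).symm j).out, ?_, ?_⟩
    · rw [mul_comm, ← burn]
    · intro x
      refine ⟨Fintype.equivFin _ (Quotient.mk'' x), ?_⟩
      simp only [Equiv.symm_apply_apply]
      have hrel : (MulAction.orbitRel (Subgroup.zpowers σ) X).r x
          (Quotient.mk'' x : Quotient (MulAction.orbitRel (Subgroup.zpowers σ) X)).out :=
        Quotient.exact (Quotient.out_eq' _).symm
      rw [MulAction.orbitRel_apply] at hrel
      obtain ⟨g, hg⟩ := hrel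
      have hg' : g • (Quotient.mk'' x :
          Quotient (MulAction.orbitRel (Subgroup.zpowers σ) X)).out = x := hg
      obtain ⟨n, hn⟩ := Subgroup.mem_zpowers_iff.1 g.2
      refine ⟨(n % (r : ℤ)).toNat, ?_⟩
      have hr0 : (r : ℤ) ≠ 0 := by exact_mod_cast hr.ne_zero
      have hmod : σ ^ n = σ ^ ((n % (r : ℤ)).toNat) := by
        have h1 : (((n % (r : ℤ)).toNat : ℕ) : ℤ) = n % (r : ℤ) :=
          Int.toNat_of_nonneg (Int.emod_nonneg _ hr0)
        rw [← zpow_natCast, h1, ← hord, zpow_mod_orderOf]
      rw [← hmod, hn, ← hsmul]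
      exact hg'.symm

end Cfsg.Agent.S6000P
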