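import Mathlib
import Cfsg.Prelude.Def_GeometricClasses
import Cfsg.Agent.Helper20.S6000Defs

/-! S6000 pieces D3, D5 (helper7): explicit elements of order 3 and 5 of `SL_4` with a large
commutant. -/

set_option autoImplicit false
open scoped MatrixGroups Matrix

namespace Cfsg.Agent.S6000P

namespace D3

variable {F : Type*} [Field F]

/-- a diagonal matrix with entries in `{ω, 1}`, `ω ≠ 0`, as an element of `GL_4` -/
noncomputable def dg (d : Fin 4 → F) (hd : ∀ i, d i ≠ 0) : GL (Fin 4) F :=
  ⟨Matrix.diagonal d, Matrix.diagonal (fun i => (d i)⁻¹), by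
    rw [Matrix.diagonal_mul_diagonal, ← Matrix.diagonal_one]
    congr 1
    funext i
    exact mul_inv_cancel₀ (hd i), by
    rw [Matrix.diagonal_mul_diagonal, ← Matrix.diagonal_one]
    congr 1
    funext i
    exact inv_mul_cancel₀ (hd i)⟩

theorem dg_val (d : Fin 4 → F) (hd : ∀ i, d i ≠ 0) : ((dg d hd : GL (Fin 4) F) : M4 F) =
    Matrix.diagonal d := rfl

/-- `single i j 1` commutes with `diagonal d` when `d i = d j` -/
theorem single_mem_commSub (d : Fin 4 → F) (i j : Fin 4) (hij : d i = d j) :
    Matrix.single i j (1 : F) ∈ commSub (Matrix.diagonal d : M4 F) := by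
  rw [mem_commSub]
  ext a b
  rw [Matrix.mul_diagonal, Matrix.diagonal_mul, Matrix.single_apply]
  split_ifs with h
  · obtain ⟨rfl, rfl⟩ := h
    rw [hij]; ring
  · ring

/-- a family of `single`s indexed by an injective map is linearly independent in the commutant -/
theorem finrank_commSub_ge (y : M4 F) {κ : Type*} [Fintype κ] (f : κ → Fin 4 × Fin 4)
    (hf : Function.Injective f)
    (hmem : ∀ k, Matrix.single (f k).1 (f k).2 (1 : F) ∈ commSub y) :
    Fintype.card κ ≤ cdim y := by
  classical
  have hli : LinearIndependent F (fun k : κ => Matrix.single (f k).1 (f k).2 (1 : F)) := by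
    have hb := (Matrix.stdBasis F (Fin 4) (Fin 4)).linearIndependent
    have hb' := hb.comp f hf
    convert hb' using 1
    funext k
    show Matrix.single (f k).1 (f k).2 1 = (Matrix.stdBasis F (Fin 4) (Fin 4)) ((f k).1, (f k).2)
    rw [Matrix.stdBasis_eq_single]
  have hli' : LinearIndependent F
      (fun k : κ => (⟨Matrix.single (f k).1 (f k).2 (1 : F), hmem k⟩ : commSub y)) := by
    apply LinearIndependent.of_comp (commSub y).subtype
    exact hli
  exact hli'.fintype_card_le_finrank

end D3

open D3 in
/-- D3 -/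
theorem exists_x3 {F : Type*} [Field F] (ω : F) (hω : ω * ω + ω + 1 = 0) (h3 : (3 : F) ≠ 0) :
    ∃ x ∈ Cfsg.Geo.specialLinear (Fin 4) F, ((x ^ 3 : GL (Fin 4) F) : M4 F) = 1 ∧
      (∀ z : F, (x : M4 F) ≠ z • (1 : M4 F)) ∧ 9 ≤ cdim (x : M4 F) := by
  classical
  have hω3 : ω ^ 3 = 1 := by linear_combination (ω - 1) * hω
  have hω0 : ω ≠ 0 := by
    rintro rfl
    simp at hω3
  have hω1 : ω ≠ 1 := by
    rintro rfl
    apply h3
    linear_combination hω
  let d : Fin 4 → F := ![ω, ω, ω, 1]
  have hd : ∀ i, d i ≠ 0 := by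
    intro i
    fin_cases i <;> simp [d, hω0]
  refine ⟨dg d hd, ?_, ?_, ?_, ?_⟩
  · rw [mem_specialLinear_iff, dg_val, Matrix.det_diagonal, Fin.prod_univ_four]
    simp only [d, Matrix.cons_val_zero, Matrix.cons_val_one, Matrix.cons_val]
    linear_combination hω3
  · rw [Units.val_pow_eq_pow_val, dg_val, Matrix.diagonal_pow, ← Matrix.diagonal_one]
    congr 1
    funext i
    fin_cases i <;> simp [d, hω3]
  · intro z hz
    rw [dg_val] at hz
    have h0 := congrFun (congrFun hz 0) 0
    have h3' := congrFun (congrFun hz 3) 3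
    simp [d] at h0 h3'
    apply hω1
    rw [h0, ← h3']
  · rw [dg_val]
    let f : Fin 3 × Fin 3 → Fin 4 × Fin 4 := fun ij => (Fin.castSucc ij.1, Fin.castSucc ij.2)
    have hf : Function.Injective f := by
      intro a b hab
      simp only [f, Prod.mk.injEq] at hab
      exact Prod.ext (Fin.castSucc_injective _ hab.1) (Fin.castSucc_injective _ hab.2)
    have := finrank_commSub_ge (Matrix.diagonal d : M4 F) f hf (by
      intro k
      apply single_mem_commSub
      obtain ⟨i, j⟩ := k
      fin_cases i <;> fin_cases j <;> simp [f, d])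
    simpa using this

/-- D5 -/
theorem exists_x5 {F : Type*} [Field F] (t : F) (ht : t * t + t - 1 = 0) :
    ∃ x ∈ Cfsg.Geo.specialLinear (Fin 4) F, ((x ^ 5 : GL (Fin 4) F) : M4 F) = 1 ∧
      (∀ z : F, (x : M4 F) ≠ z • (1 : M4 F)) ∧ 5 ≤ cdim (x : M4 F) := by
  classical
  have htt : t * t = 1 - t := by linear_combination ht
  let X : M4 F := !![0, -1, 0, 0; 1, t, 0, 0; 0, 0, 1, 0; 0, 0, 0, 1]
  let X2 : M4 F := !![-1, -t, 0, 0; t, -t, 0, 0; 0, 0, 1, 0; 0, 0, 0, 1]
  let X4 : M4 F := !![t, 1, 0, 0; -1, 0, 0, 0; 0, 0, 1, 0; 0, 0, 0, 1]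
  have h2 : X * X = X2 := by
    ext i j
    fin_cases i <;> fin_cases j <;>
      simp [X, X2, Matrix.mul_apply, Fin.sum_univ_four] <;> linear_combination ht
  have h4 : X2 * X2 = X4 := by
    ext i j
    fin_cases i <;> fin_cases j <;>
      simp [X2, X4, Matrix.mul_apply, Fin.sum_univ_four] <;>
      first
        | linear_combination ht
        | linear_combination (-1 : F) * ht
  have h5 : X4 * X = 1 := by
    ext i j
    fin_cases i <;> fin_cases j <;>
      simp [X4, X, Matrix.mul_apply, Fin.sum_univ_four]
  have h5' : X * X4 = 1 := by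
    ext i j
    fin_cases i <;> fin_cases j <;>
      simp [X4, X, Matrix.mul_apply, Fin.sum_univ_four]
  let x : GL (Fin 4) F := ⟨X, X4, h5', h5⟩
  have hxv : (x : M4 F) = X := rfl
  refine ⟨x, ?_, ?_, ?_, ?_⟩
  · rw [mem_specialLinear_iff, hxv]
    rw [Matrix.det_succ_row_zero]
    simp [X, Fin.sum_univ_succ, Matrix.det_fin_three, Matrix.submatrix_apply, Fin.succAbove]
  · rw [Units.val_pow_eq_pow_val, hxv]
    have : X ^ 5 = X2 * X2 * X := by
      rw [← h2]
      noncomm_ring
    rw [this, h4, h5]
  · intro z hz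
    rw [hxv] at hz
    have := congrFun (congrFun hz 0) 1
    simp [X] at this
  · rw [hxv]
    -- `1` and the four matrix units of the lower right block commute with `X`
    let v : Fin 5 → M4 F := ![1, Matrix.single 2 2 1, Matrix.single 2 3 1, Matrix.single 3 2 1,
      Matrix.single 3 3 1]
    have hmem : ∀ k, v k ∈ commSub X := by
      intro k
      rw [mem_commSub]
      fin_cases k
      · show (1 : M4 F) * X = X * 1
        rw [one_mul, mul_one]
      all_goals
        ext i j
        fin_cases i <;> fin_cases j <;>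
          simp [v, X, Matrix.mul_apply, Fin.sum_univ_four, Matrix.single_apply]
    have hli : LinearIndependent F v := by
      rw [Fintype.linearIndependent_iff]
      intro g hg
      have e00 := congrFun (congrFun hg 0) 0
      have e22 := congrFun (congrFun hg 2) 2
      have e23 := congrFun (congrFun hg 2) 3
      have e32 := congrFun (congrFun hg 3) 2
      have e33 := congrFun (congrFun hg 3) 3
      simp [v, Fin.sum_univ_five, Matrix.single_apply, Matrix.one_apply] at e00 e22 e23 e32 e33
      intro i
      fin_cases i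
      · exact e00
      · simpa [e00] using e22
      · exact e23
      · exact e32
      · simpa [e00] using e33
    have hli' : LinearIndependent F (fun k : Fin 5 => (⟨v k, hmem k⟩ : commSub X)) := by
      apply LinearIndependent.of_comp (commSub X).subtype
      exact hli
    have := hli'.fintype_card_le_finrank
    rw [Fintype.card_fin] at this
    exact this

end Cfsg.Agent.S6000P
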