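import Mathlib
import Cfsg.Prelude.Def_GeometricClasses
import Cfsg.Agent.Helper20.S6000Defs

/-! S6000 pieces NT3, NT3B, NT5B (helper7): roots of unity and power maps in prime fields. -/

set_option autoImplicit false
open scoped MatrixGroups Matrix

namespace Cfsg.Agent.S6000P

/-- NT3 -/
theorem exists_omega {F : Type*} [Field F] [Fintype F] {p : ℕ} [Fact p.Prime] [CharP F p]
    (hF : Fintype.card F = p) (hp3 : p % 3 = 1) :
    (3 : F) ≠ 0 ∧ ∃ ω : F, ω * ω + ω + 1 = 0 := by
  classical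
  have hp : p.Prime := Fact.out
  have h3 : (3 : F) ≠ 0 := by
    intro h
    have h' : ((3 : ℕ) : F) = 0 := by exact_mod_cast h
    rw [CharP.cast_eq_zero_iff F p] at h'
    have := (Nat.prime_dvd_prime_iff_eq hp Nat.prime_three).1 h'
    omega
  refine ⟨h3, ?_⟩
  have hcard : Fintype.card Fˣ = p - 1 := by rw [Fintype.card_units, hF]
  have hdvd : 3 ∣ Fintype.card Fˣ := by
    rw [hcard]
    omega
  haveI : Fact (Nat.Prime 3) := ⟨Nat.prime_three⟩
  obtain ⟨g, hg⟩ := exists_prime_orderOf_dvd_card 3 hdvd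
  have hg3 : (g : F) ^ 3 = 1 := by
    have := pow_orderOf_eq_one g
    rw [hg] at this
    have := congrArg Units.val this
    simpa using this
  have hg1 : (g : F) ≠ 1 := by
    intro h
    have : g = 1 := Units.ext h
    rw [this, orderOf_one] at hg
    omega
  refine ⟨(g : F), ?_⟩
  have hfac : ((g : F) - 1) * ((g : F) * (g : F) + (g : F) + 1) = 0 := by
    linear_combination hg3
  exact (mul_eq_zero.1 hfac).resolve_left (sub_ne_zero.2 hg1)

/-- NT3B -/
theorem cube_surjective {F : Type*} [Field F] [Fintype F] {p : ℕ} [Fact p.Prime] [CharP F p]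
    (hF : Fintype.card F = p) (hp3 : p % 3 = 2) : ∀ z : F, ∃ w : F, w ^ 3 = z := by
  intro z
  by_cases hz : z = 0
  · exact ⟨0, by rw [hz]; simp⟩
  have hpow : z ^ (p - 1) = 1 := by
    rw [← hF]
    exact FiniteField.pow_card_sub_one_eq_one z hz
  obtain ⟨k, hk⟩ : ∃ k, 3 * k = 2 * (p - 1) + 1 := ⟨(2 * (p - 1) + 1) / 3, by omega⟩
  refine ⟨z ^ k, ?_⟩
  rw [← pow_mul, mul_comm, hk, pow_succ, pow_mul', hpow, one_pow, one_mul]

namespace NT5B

theorem mod_five {p : ℕ} (hord : orderOf (p : ZMod 5) = 4) : p % 5 = 2 ∨ p % 5 = 3 := by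
  have h4 : (p : ZMod 5) ^ 4 = 1 := by
    rw [← hord]; exact pow_orderOf_eq_one _
  have h2 : (p : ZMod 5) ^ 2 ≠ 1 := by
    intro h
    have := orderOf_dvd_of_pow_eq_one h
    rw [hord] at this
    omega
  have key : ∀ x : ZMod 5, x ^ 4 = 1 → x ^ 2 ≠ 1 → x = 2 ∨ x = 3 := by decide
  rcases key _ h4 h2 with h | h
  · left
    have := congrArg ZMod.val h
    rw [ZMod.val_natCast] at this
    exact this
  · right
    have := congrArg ZMod.val h
    rw [ZMod.val_natCast] at this
    exact this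

end NT5B

/-- NT5B -/
theorem fifth_bijective {F : Type*} [Field F] [Fintype F] {p : ℕ} [Fact p.Prime] [CharP F p]
    (hF : Fintype.card F = p) (hord : orderOf (p : ZMod 5) = 4) :
    (∀ z : F, ∃ w : F, w ^ 5 = z) ∧ ∀ w : F, w ^ 5 = 1 → w = 1 := by
  have hp : p.Prime := Fact.out
  have hp2 := hp.two_le
  have hmod := NT5B.mod_five hord
  obtain ⟨k, j, hk⟩ : ∃ k j, 5 * k = j * (p - 1) + 1 := by
    rcases hmod with h | h
    · exact ⟨(4 * (p - 1) + 1) / 5, 4, by omega⟩
    · exact ⟨(2 * (p - 1) + 1) / 5, 2, by omega⟩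
  have hpow : ∀ z : F, z ≠ 0 → z ^ (5 * k) = z := by
    intro z hz
    have h1 : z ^ (p - 1) = 1 := by
      rw [← hF]
      exact FiniteField.pow_card_sub_one_eq_one z hz
    rw [hk, pow_succ, pow_mul', h1, one_pow, one_mul]
  constructor
  · intro z
    by_cases hz : z = 0
    · exact ⟨0, by rw [hz]; simp⟩
    refine ⟨z ^ k, ?_⟩
    rw [← pow_mul, mul_comm]
    exact hpow z hz
  · intro w hw
    have hw0 : w ≠ 0 := by
      rintro rfl
      simp at hw
    rw [← hpow w hw0, pow_mul, hw, one_pow]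

end Cfsg.Agent.S6000P
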