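import Mathlib
import Cfsg.Prelude.Def_Classical
import Cfsg.Agent.Helper8.MatBNDefs
import Cfsg.Agent.Helper8.S2546Defs
import Cfsg.Agent.Helper21.S2549Defs
import Cfsg.Agent.Helper19.S2549ENTRY
import Cfsg.Agent.Helper7.S2549RATAUX

set_option autoImplicit false
open scoped Matrix

/-!
# S2549, piece RAT: the matrices `rho g` are rational
-/

namespace Cfsg.Agent.S2549P

open Cfsg.Agent.MatBN

variable {F : Type*} [Field F] {a b : F} {K : Type*} [Field K]



theorem rat_rho (E : QExt F a b K) (m : ℕ) (g : OG m F a b) : Rat E.σ m (rho E m g) := by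
  intro r c
  have hd := E.hne
  rcases RAT.mid_cases m r with hr | ⟨k, rfl⟩ <;> rcases RAT.mid_cases m c with hc | ⟨l, rfl⟩
  · rw [RAT.swapM_out m r hr, RAT.swapM_out m c hc, rho_apply_oo E m g r c hr hc, E.hσinc]
  · rw [RAT.swapM_out m r hr, RAT.swapM_mid, rho_apply_om E m g r l hr,
      rho_apply_om E m g r (1 - l) hr]
    simp only [map_mul, map_add, map_inv₀, RAT.sigma_d, E.hσinc]
    fin_cases l
    · simp only [Fin.zero_eta, if_true, map_neg, E.hσσ, map_one,
        show ¬ ((1 : Fin 2) - 0 = 0) by decide, if_false]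
      field_simp
      ring
    · simp only [Fin.mk_one, show ¬ ((1 : Fin 2) = 0) by decide, if_false, map_neg, map_one,
        show ((1 : Fin 2) - 1 = 0) by decide, if_true]
      field_simp
      ring
  · rw [RAT.swapM_mid, RAT.swapM_out m c hc, rho_apply_mo E m g k c hc,
      rho_apply_mo E m g (1 - k) c hc]
    simp only [map_mul, map_add, E.hσinc]
    fin_cases k
    · simp only [Fin.zero_eta, if_true, show ¬ ((1 : Fin 2) - 0 = 0) by decide, if_false]
    · simp only [Fin.mk_one, show ¬ ((1 : Fin 2) = 0) by decide, if_false, E.hσσ,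
        show ((1 : Fin 2) - 1 = 0) by decide, if_true]
  · rw [RAT.swapM_mid, RAT.swapM_mid, rho_apply_mm, rho_apply_mm]
    unfold P2inv P2
    simp only [Matrix.mul_apply, Fin.sum_univ_two, Matrix.smul_apply, Matrix.of_apply, smul_eq_mul,
      map_mul, map_add, map_inv₀, RAT.sigma_d, E.hσinc]
    have hd' : E.σ E.θ - E.θ ≠ 0 := fun h => hd (by linear_combination -h)
    fin_cases k <;> fin_cases l <;>
      simp [E.hσσ] <;> field_simp <;> ring

end Cfsg.Agent.S2549P
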