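import Mathlib
import Cfsg.Prelude.Def_Classical
import Cfsg.Agent.Helper8.MatBNDefs
import Cfsg.Agent.Helper8.S2546Defs
import Cfsg.Agent.Helper21.S2549Defs

set_option autoImplicit false
open scoped Matrix

/-!
# S2549, piece RHOINJ: `rho` is injective
-/

namespace Cfsg.Agent.S2549P

open Cfsg.Agent.MatBN

variable {F : Type*} [Field F] {a b : F} {K : Type*} [Field K]

namespace RHOINJ

/-- recover `g.map inc` from `rhoM g` -/
theorem map_eq_of_rhoM (E : QExt F a b K) (m : ℕ) (g : Matrix (Idx m) (Idx m) F) :
    g.map E.inc = PM E m * (Matrix.reindex (posE m).symm (posE m).symm (rhoM E m g)) * PMinv E m := by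
  unfold rhoM
  have h1 : Matrix.reindex (posE m).symm (posE m).symm
      (Matrix.reindex (posE m) (posE m) (PMinv E m * g.map E.inc * PM E m)) =
      PMinv E m * g.map E.inc * PM E m := by
    ext i j
    simp
  rw [h1]
  calc g.map E.inc = (PM E m * PMinv E m) * g.map E.inc * (PM E m * PMinv E m) := by
        rw [PM_mul_PMinv, Matrix.one_mul, Matrix.mul_one]
    _ = PM E m * (PMinv E m * g.map E.inc * PM E m) * PMinv E m := by
        simp only [Matrix.mul_assoc]

theorem rhoM_injective (E : QExt F a b K) (m : ℕ) : Function.Injective (rhoM E m) := by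
  intro g h hgh
  have h1 : g.map E.inc = h.map E.inc := by
    rw [map_eq_of_rhoM E m g, map_eq_of_rhoM E m h, hgh]
  ext i j
  have h2 := congrFun (congrFun h1 i) j
  simp only [Matrix.map_apply] at h2
  exact E.inc.injective h2

end RHOINJ

theorem rho_injective (E : QExt F a b K) (m : ℕ) : Function.Injective (rho E m) := by
  intro g h hgh
  have h1 : ((g : Matrix.GeneralLinearGroup (Idx m) F) : Matrix (Idx m) (Idx m) F) =
      ((h : Matrix.GeneralLinearGroup (Idx m) F) : Matrix (Idx m) (Idx m) F) :=
    RHOINJ.rhoM_injective E m hgh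
  exact Subtype.ext (Units.ext h1)

end Cfsg.Agent.S2549P
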