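import Cfsg.Agent.Helper29.S5677.Defs
import Cfsg.Agent.Helper20.S5677CMP1
import Cfsg.Agent.Helper20.S5677CMP2
import Cfsg.Agent.Helper23.S5677REFLMEM
import Cfsg.Agent.Helper23.S5677ROTEIG
import Cfsg.Agent.Helper7.S5677GP
import Cfsg.Agent.Helper17.S5677DEP

set_option autoImplicit false
set_option linter.unusedSectionVars false
set_option linter.unusedVariables false

/-! # S5677 piece LOC3G: LOC, case `k = 3`, `v_c` nonsingular, generic -/

namespace Cfsg.Agent.S5677P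

open Matrix Cfsg.Agent.Helper28.Sg Cfsg.Agent.Helper28.Spin Cfsg.Agent.Helper12.OrthGen
  Cfsg.Agent.S2614 Cfsg.Agent.S5683P Cfsg.Agent.Helper28.NDM

variable {F : Type*} [Field F] {m t k : ℕ} {D : Fin t → Submodule F (Idx m → F)}
  {M : Subgroup (OG m F)}

namespace LOC3G

theorem B_add_r (x y z : Idx m → F) :
    B (QfOdd m F) x (y + z) = B (QfOdd m F) x y + B (QfOdd m F) x z :=
  QuadraticMap.polar_add_right _ _ _ _

theorem B_sub_r (x y z : Idx m → F) :
    B (QfOdd m F) x (y - z) = B (QfOdd m F) x y - B (QfOdd m F) x z :=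
  QuadraticMap.polar_sub_right _ _ _ _

theorem B_smul_r (x y : Idx m → F) (s : F) :
    B (QfOdd m F) x (s • y) = s * B (QfOdd m F) x y := by
  show QuadraticMap.polar _ x (s • y) = _
  rw [QuadraticMap.polar_smul_right]; rfl

theorem B_add_l (x y z : Idx m → F) :
    B (QfOdd m F) (x + y) z = B (QfOdd m F) x z + B (QfOdd m F) y z :=
  QuadraticMap.polar_add_left _ _ _ _

theorem B_smul_l (x y : Idx m → F) (s : F) :
    B (QfOdd m F) (s • x) y = s * B (QfOdd m F) x y := by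
  show QuadraticMap.polar _ (s • x) y = _
  rw [QuadraticMap.polar_smul_left]; rfl

/-- the action of a reflection -/
theorem refl_apply (a : Idx m → F) (hQa : QfOdd m F a ≠ 0) (w : Idx m → F) :
    mt (QfOdd m F) (reflO (QfOdd m F) a hQa) *ᵥ w =
      w - ((QfOdd m F a)⁻¹ * B (QfOdd m F) a w) • a := by
  show Cfsg.reflectionMatrix _ a *ᵥ w = _
  rw [refl_mulVec]

/-- the action of a product of two reflections -/
theorem rot_apply (a b : Idx m → F) (hQa : QfOdd m F a ≠ 0) (hQb : QfOdd m F b ≠ 0)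
    (w : Idx m → F) :
    ∃ c₁ c₂ : F, mt (QfOdd m F) (reflO (QfOdd m F) a hQa * reflO (QfOdd m F) b hQb) *ᵥ w =
      w - c₁ • a - c₂ • b := by
  refine ⟨(QfOdd m F a)⁻¹ * B (QfOdd m F) a
    (w - ((QfOdd m F b)⁻¹ * B (QfOdd m F) b w) • b), (QfOdd m F b)⁻¹ * B (QfOdd m F) b w, ?_⟩
  rw [mt_mul_mulVec, refl_apply b hQb, refl_apply a hQa]
  module

theorem rot_fix (a b : Idx m → F) (hQa : QfOdd m F a ≠ 0) (hQb : QfOdd m F b ≠ 0)
    {w : Idx m → F} (ha : B (QfOdd m F) a w = 0) (hb : B (QfOdd m F) b w = 0) :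
    mt (QfOdd m F) (reflO (QfOdd m F) a hQa * reflO (QfOdd m F) b hQb) *ᵥ w = w := by
  rw [mt_mul_mulVec, refl_apply b hQb, hb, mul_zero, zero_smul, sub_zero, refl_apply a hQa, ha,
    mul_zero, zero_smul, sub_zero]

theorem mulVec_sub' (g : OG m F) (x y : Idx m → F) :
    mt (QfOdd m F) g *ᵥ (x - y) = mt (QfOdd m F) g *ᵥ x - mt (QfOdd m F) g *ᵥ y :=
  Matrix.mulVec_sub _ _ _

end LOC3G

open LOC3G in
theorem LOC3G.loc [Fintype F] (h2 : (2 : F) ≠ 0) (hD : HD k D) (hHM : HS D ≤ M) (hG1 : ¬ G1 M D)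
    (hk : k = 3) {v : Idx m → F} (hv : NPV M D v) {c : Fin t}
    (hQ : QfOdd m F (cmp D c v) ≠ 0) {a a' : Idx m → F} (ha : a ∈ D c) (ha' : a' ∈ D c)
    (hQa : QfOdd m F a ≠ 0) (hQa' : QfOdd m F a' ≠ 0)
    (hza : B (QfOdd m F) (cmp D c v) a = 0) (hza' : B (QfOdd m F) (cmp D c v) a' = 0)
    (haa' : B (QfOdd m F) a a' = 0)
    (hspan : ∀ x ∈ D c, B (QfOdd m F) (cmp D c v) x = 0 → ∃ α β : F, x = α • a + β • a')
    {p q : F} (hp : p ≠ 0) (hq : q ≠ 0)
    (hpq : p ^ 2 + (QfOdd m F a' / QfOdd m F a) * q ^ 2 = 1) {y : Idx m → F}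
    (hy : y ∈ Rad M v hv.Qv) : ∃ s : F, cmp D c y = s • cmp D c v := by
  classical
  set z := cmp D c v with hz
  have hzc : z ∈ D c := CMP1.mem hD c v
  -- the second mirror
  set b : Idx m → F := p • a + q • a' with hb
  have hbc : b ∈ D c := (D c).add_mem ((D c).smul_mem p ha) ((D c).smul_mem q ha')
  have hQb' : QfOdd m F b = QfOdd m F a := by
    rw [hb, Q_add, Q_smul, Q_smul, B_smul_l, B_smul_r, haa']
    have h1 : QfOdd m F a' / QfOdd m F a * QfOdd m F a = QfOdd m F a' := div_mul_cancel₀ _ hQa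
    linear_combination QfOdd m F a * hpq - q ^ 2 * h1
  have hQb : QfOdd m F b ≠ 0 := by rw [hQb']; exact hQa
  set h := reflO (QfOdd m F) a hQa * reflO (QfOdd m F) b hQb with hh
  have hhHS : h ∈ HS D := REFLMEM.mem hD ha hbc hQa hQb hQb'.symm
  -- `a`, `b` are perpendicular to `z`, hence to `v`
  have haz : B (QfOdd m F) a z = 0 := by rw [B_comm]; exact hza
  have ha'z : B (QfOdd m F) a' z = 0 := by rw [B_comm]; exact hza'
  have hbz : B (QfOdd m F) b z = 0 := by
    rw [hb, B_add_l, B_smul_l, B_smul_l, haz, ha'z]; ring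
  have hav : B (QfOdd m F) a v = 0 := by rw [← CMP2.B_left hD ha v]; exact haz
  have hbv : B (QfOdd m F) b v = 0 := by rw [← CMP2.B_left hD hbc v]; exact hbz
  have hfix : mt (QfOdd m F) h *ᵥ v = v := rot_fix a b hQa hQb hav hbv
  -- decomposition of `y_c`
  have hBzz : B (QfOdd m F) z z ≠ 0 := by
    rw [B_self]; exact mul_ne_zero h2 hQ
  set s : F := B (QfOdd m F) z (cmp D c y) / B (QfOdd m F) z z with hs
  set y' : Idx m → F := cmp D c y - s • z with hy'
  have hy'c : y' ∈ D c := (D c).sub_mem (CMP1.mem hD c y) ((D c).smul_mem s hzc)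
  have hzy' : B (QfOdd m F) z y' = 0 := by
    rw [hy', B_sub_r, B_smul_r, hs]; field_simp; ring
  obtain ⟨α, β, hαβ⟩ := hspan y' hy'c hzy'
  -- `h y - y = h y' - y'`
  have hrest : mt (QfOdd m F) h *ᵥ (y - y') = y - y' := by
    apply rot_fix a b hQa hQb
    · rw [B_sub_r, hy', B_sub_r, B_smul_r, haz, CMP2.B_left hD ha y]; ring
    · rw [B_sub_r, hy', B_sub_r, B_smul_r, hbz, CMP2.B_left hD hbc y]; ring
  set x : Idx m → F := mt (QfOdd m F) h *ᵥ y' - y' with hx
  have hxy : x = mt (QfOdd m F) h *ᵥ y - y := by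
    rw [mulVec_sub'] at hrest
    rw [hx]
    have : mt (QfOdd m F) h *ᵥ y = mt (QfOdd m F) h *ᵥ y' + (y - y') := by
      rw [← hrest]; abel
    rw [this]; abel
  have hxP : x ∈ Rad M v hv.Qv := by
    rw [hxy]; exact GP.one hHM hv.Qv hhHS hfix hy
  -- `x` and `h x` lie in the plane `⟨a, a'⟩`
  obtain ⟨c₁, c₂, hc⟩ := rot_apply a b hQa hQb y'
  have hxab : x = (-c₁ - c₂ * p) • a + (-c₂ * q) • a' := by
    rw [hx, hc, hb]; module
  have hxc : x ∈ D c := by
    rw [hxab]; exact (D c).add_mem ((D c).smul_mem _ ha) ((D c).smul_mem _ ha')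
  obtain ⟨d₁, d₂, hd⟩ := rot_apply a b hQa hQb x
  have hhxc : mt (QfOdd m F) h *ᵥ x ∈ D c := by
    rw [hd]
    exact (D c).sub_mem ((D c).sub_mem hxc ((D c).smul_mem _ ha)) ((D c).smul_mem _ hbc)
  have hhxP : mt (QfOdd m F) h *ᵥ x ∈ Rad M v hv.Qv := by
    have h1 := GP.one hHM hv.Qv hhHS hfix hxP
    have h3 := (Rad M v hv.Qv).add_mem h1 hxP
    rwa [sub_add_cancel] at h3
  -- dependence
  obtain ⟨α', β', hne, hdep⟩ := DEP.dep h2 hD hHM hG1 hk hv hxc hhxc hxP hhxP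
  have hx0 : x = 0 := by
    by_cases hβ' : β' = 0
    · have hα' : α' ≠ 0 := by
        rcases hne with h | h
        · exact h
        · exact absurd hβ' h
      rw [hβ', zero_smul, add_zero] at hdep
      exact (smul_eq_zero.mp hdep).resolve_left hα'
    · have heig : mt (QfOdd m F) h *ᵥ x = (-α' / β') • x := by
        have : β' • (mt (QfOdd m F) h *ᵥ x) = (-α') • x := by
          rw [neg_smul]; exact eq_neg_of_add_eq_zero_right hdep
        calc mt (QfOdd m F) h *ᵥ x = β'⁻¹ • (β' • (mt (QfOdd m F) h *ᵥ x)) := by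
              rw [smul_smul, inv_mul_cancel₀ hβ', one_smul]
          _ = (-α' / β') • x := by rw [this, smul_smul]; congr 1; field_simp
      rcases ROTEIG.eig h2 hQa hQa' haa' hb hp hq hQb hQb' hxab heig with h0 | hsing
      · exact h0
      · by_contra hx0
        exact GP.two hD hHM hG1 hv hxc hx0 hsing hxP
  -- so `h y' = y'` and `y' = 0`
  have hfix' : mt (QfOdd m F) h *ᵥ y' = y' := by
    have := hx0
    rw [hx] at this
    exact sub_eq_zero.mp this
  have hy'0 : y' = 0 := ROTEIG.fix h2 hQa hQa' haa' hb hp hq hQb hQb' hαβ hfix'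
  refine ⟨s, ?_⟩
  have := hy'0
  rw [hy'] at this
  exact sub_eq_zero.mp this

end Cfsg.Agent.S5677P
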