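import Mathlib
import Cfsg.Agent.Helper21.UJ1

set_option autoImplicit false
set_option linter.unusedSectionVars false
set_option linter.style.haveILetI false

/-! Hilbert 90 (by counting, from norm surjectivity) in finite commutative rings with an involution
of the second kind. -/

namespace Cfsg.Agent.Helper7.SimU

open Matrix Cfsg.Agent.Helper21.NS

universe u

theorem hilbert90 {R : Type u} [CommRing R] [Finite R] (τ : R →+* R) (hτ : ∀ x, τ (τ x) = x)
    (ξ : R) (hξ : IsUnit (ξ - τ ξ)) (u : R) (hu : τ u * u = 1) :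
    ∃ c : R, IsUnit c ∧ u * τ c = c := by
  classical
  let τu : Rˣ →* Rˣ := Units.map (τ : R →* R)
  have hτu : ∀ c, τu (τu c) = c := fun c => Units.ext (hτ c)
  let N : Rˣ →* Rˣ :=
    { toFun := fun c => τu c * c
      map_one' := by simp
      map_mul' := fun a b => by
        show τu (a * b) * (a * b) = τu a * a * (τu b * b)
        rw [map_mul, mul_mul_mul_comm] }
  let δ : Rˣ →* Rˣ :=
    { toFun := fun c => c * (τu c)⁻¹
      map_one' := by simp
      map_mul' := fun a b => by
        show a * b * (τu (a * b))⁻¹ = a * (τu a)⁻¹ * (b * (τu b)⁻¹)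
        rw [map_mul, mul_inv, mul_mul_mul_comm] }
  have h1 : N.range = δ.ker := by
    ext h
    rw [MonoidHom.mem_range, MonoidHom.mem_ker]
    constructor
    · rintro ⟨c, rfl⟩
      show τu c * c * (τu (τu c * c))⁻¹ = 1
      rw [map_mul, hτu, mul_comm (τu c) c, mul_inv_cancel]
    · intro hh
      have hh' : h * (τu h)⁻¹ = 1 := hh
      have hfix' : τu h = h := (mul_inv_eq_one.1 hh').symm
      have hfix : τ (h : R) = h := congrArg Units.val hfix'
      obtain ⟨c, hc⟩ := norm_surj τ hτ ξ hξ (h : R) h.isUnit hfix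
      have hcu : IsUnit c := isUnit_of_mul_isUnit_right (by rw [hc]; exact h.isUnit)
      refine ⟨hcu.unit, Units.ext ?_⟩
      show τ (hcu.unit : R) * (hcu.unit : R) = h
      rw [IsUnit.unit_spec, hc]
  have h2 : δ.range ≤ N.ker := by
    rintro _ ⟨c, rfl⟩
    rw [MonoidHom.mem_ker]
    show τu (c * (τu c)⁻¹) * (c * (τu c)⁻¹) = 1
    rw [map_mul, map_inv, hτu]
    have : τu c * c⁻¹ * (c * (τu c)⁻¹) = τu c * (c⁻¹ * c) * (τu c)⁻¹ := by
      simp only [mul_assoc]
    rw [this, inv_mul_cancel, mul_one, mul_inv_cancel]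
  have hN : Nat.card N.ker * Nat.card N.range = Nat.card Rˣ := by
    rw [← Subgroup.index_ker, Subgroup.card_mul_index]
  have hδ : Nat.card δ.ker * Nat.card δ.range = Nat.card Rˣ := by
    rw [← Subgroup.index_ker, Subgroup.card_mul_index]
  have h3 : Nat.card N.ker = Nat.card δ.range := by
    rw [h1, ← hδ, mul_comm] at hN
    exact Nat.eq_of_mul_eq_mul_left Nat.card_pos hN
  have h4 : δ.range = N.ker := Subgroup.eq_of_le_of_card_ge h2 (le_of_eq h3)
  have hu' : IsUnit u := IsUnit.of_mul_eq_one_right _ hu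
  have hmem : hu'.unit ∈ N.ker := by
    rw [MonoidHom.mem_ker]
    apply Units.ext
    show τ (hu'.unit : R) * (hu'.unit : R) = 1
    rw [IsUnit.unit_spec, hu]
  rw [← h4] at hmem
  obtain ⟨c, hc⟩ := hmem
  refine ⟨c, c.isUnit, ?_⟩
  have hc' : c * (τu c)⁻¹ = hu'.unit := hc
  have hc'' : c = hu'.unit * τu c := by rw [← hc', inv_mul_cancel_right]
  have := congrArg Units.val hc''
  rw [Units.val_mul, IsUnit.unit_spec] at this
  exact this.symm

end Cfsg.Agent.Helper7.SimU
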