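import Mathlib
import Cfsg.Agent.Helper7.SimU1

set_option autoImplicit false
set_option linter.unusedSectionVars false
set_option linter.style.haveILetI false

/-! An invertible matrix preserving a nondegenerate sesquilinear form preserves a nondegenerate
Hermitian form (finite fields). -/

namespace Cfsg.Agent.Helper7.SimU

open Matrix Cfsg.Agent.Helper21.NS

variable {K : Type*} [Field K] {n : Type*} [Fintype n] [DecidableEq n] (σ : K →+* K)

/-- the twisted anti-involution `c ↦ h⁻¹ c* h`. -/
def theta (h hinv : Matrix n n K) (c : Matrix n n K) : Matrix n n K := hinv * cstar σ c * h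

section

variable {σ} (hσ2 : ∀ a, σ (σ a) = a) {h hinv : Matrix n n K} (hh1 : h * hinv = 1)
  (hh2 : hinv * h = 1)

include hh1 in
theorem theta_mul (c d : Matrix n n K) :
    theta σ h hinv (c * d) = theta σ h hinv d * theta σ h hinv c := by
  simp only [theta, cstar_mul]
  calc hinv * (cstar σ d * cstar σ c) * h = hinv * cstar σ d * 1 * cstar σ c * h := by
        simp only [Matrix.mul_assoc, Matrix.one_mul]
    _ = hinv * cstar σ d * h * (hinv * cstar σ c * h) := by
        rw [← hh1]; simp only [Matrix.mul_assoc]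

theorem theta_add (c d : Matrix n n K) :
    theta σ h hinv (c + d) = theta σ h hinv c + theta σ h hinv d := by
  simp only [theta, cstar_add, Matrix.mul_add, Matrix.add_mul]

theorem theta_zero : theta σ h hinv 0 = 0 := by
  simp only [theta, cstar_zero, Matrix.mul_zero, Matrix.zero_mul]

include hh2 in
theorem theta_one : theta σ h hinv 1 = 1 := by
  simp only [theta, cstar_one, Matrix.mul_one, hh2]

include hh2 in
theorem theta_smul_one (a : K) : theta σ h hinv (a • 1) = σ a • 1 := by
  simp only [theta, cstar_smul_one, Matrix.mul_smul, Matrix.smul_mul, Matrix.mul_one, hh2]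

include hσ2 in
theorem theta_theta (c : Matrix n n K) :
    theta σ h hinv (theta σ h hinv c) = (hinv * cstar σ h) * c * (cstar σ hinv * h) := by
  simp only [theta, cstar_mul, cstar_cstar σ hσ2, Matrix.mul_assoc]

end


theorem exists_hermitian_of_invariant [Finite K] (hσ2 : ∀ a, σ (σ a) = a) (ξ0 : K)
    (hξ0 : σ ξ0 ≠ ξ0) (x xinv h hinv : Matrix n n K) (hx1 : x * xinv = 1)
    (hh1 : h * hinv = 1) (hh2 : hinv * h = 1) (hinvt : cstar σ x * h * x = h) :
    ∃ H Hinv : Matrix n n K, H * Hinv = 1 ∧ Hinv * H = 1 ∧ cstar σ H = H ∧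
      cstar σ x * H * x = H := by
  classical
  obtain ⟨u, hu⟩ : ∃ u : Matrix n n K, u = hinv * cstar σ h := ⟨_, rfl⟩
  obtain ⟨uinv, huinv⟩ : ∃ uinv : Matrix n n K, uinv = cstar σ hinv * h := ⟨_, rfl⟩
  have hs1 : cstar σ hinv * cstar σ h = 1 := by rw [← cstar_mul, hh1, cstar_one]
  have hs2 : cstar σ h * cstar σ hinv = 1 := by rw [← cstar_mul, hh2, cstar_one]
  have hu1 : u * uinv = 1 := by
    rw [hu, huinv]
    calc hinv * cstar σ h * (cstar σ hinv * h) = hinv * (cstar σ h * cstar σ hinv) * h := by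
          simp only [Matrix.mul_assoc]
      _ = 1 := by rw [hs2, Matrix.mul_one, hh2]
  have hu2 : uinv * u = 1 := by
    rw [hu, huinv]
    calc cstar σ hinv * h * (hinv * cstar σ h) = cstar σ hinv * (h * hinv) * cstar σ h := by
          simp only [Matrix.mul_assoc]
      _ = 1 := by rw [hh1, Matrix.mul_one, hs1]
  have hθu : theta σ h hinv u = uinv := by
    rw [hu, huinv, theta, cstar_mul, cstar_cstar σ hσ2]
    calc hinv * (h * cstar σ hinv) * h = (hinv * h) * (cstar σ hinv * h) := by
          simp only [Matrix.mul_assoc]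
      _ = _ := by rw [hh2, Matrix.one_mul]
  have hθθ : ∀ c, theta σ h hinv (theta σ h hinv c) = u * c * uinv := by
    intro c
    rw [theta_theta hσ2, hu, huinv]
  have hhu : h * u = cstar σ h := by
    rw [hu, ← Matrix.mul_assoc, hh1, Matrix.one_mul]
  have hhθ : ∀ c, h * theta σ h hinv c = cstar σ c * h := by
    intro c
    rw [theta, ← Matrix.mul_assoc, ← Matrix.mul_assoc, hh1, Matrix.one_mul]
  -- `x` commutes with `u`
  have hx1' : cstar σ xinv * cstar σ x = 1 := by rw [← cstar_mul, hx1, cstar_one]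
  have e1 : h * x = cstar σ xinv * h := by
    calc h * x = (cstar σ xinv * cstar σ x) * h * x := by rw [hx1', Matrix.one_mul]
      _ = cstar σ xinv * (cstar σ x * h * x) := by simp only [Matrix.mul_assoc]
      _ = _ := by rw [hinvt]
  have hinvt' : cstar σ x * cstar σ h * x = cstar σ h := by
    have := congrArg (cstar σ) hinvt
    rw [cstar_mul, cstar_mul, cstar_cstar σ hσ2] at this
    rw [Matrix.mul_assoc]
    exact this
  have e2 : cstar σ h * x = cstar σ xinv * cstar σ h := by
    calc cstar σ h * x = (cstar σ xinv * cstar σ x) * cstar σ h * x := by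
          rw [hx1', Matrix.one_mul]
      _ = cstar σ xinv * (cstar σ x * cstar σ h * x) := by simp only [Matrix.mul_assoc]
      _ = _ := by rw [hinvt']
  have e3 : x * hinv = hinv * cstar σ xinv := by
    calc x * hinv = (hinv * h) * x * hinv := by rw [hh2, Matrix.one_mul]
      _ = hinv * (h * x) * hinv := by simp only [Matrix.mul_assoc]
      _ = hinv * (cstar σ xinv * h) * hinv := by rw [e1]
      _ = hinv * cstar σ xinv * (h * hinv) := by simp only [Matrix.mul_assoc]
      _ = _ := by rw [hh1, Matrix.mul_one]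
  have hxu : u * x = x * u := by
    rw [hu]
    calc hinv * cstar σ h * x = hinv * (cstar σ h * x) := by simp only [Matrix.mul_assoc]
      _ = hinv * cstar σ xinv * cstar σ h := by rw [e2]; simp only [Matrix.mul_assoc]
      _ = x * hinv * cstar σ h := by rw [e3]
      _ = _ := by simp only [Matrix.mul_assoc]
  -- `theta` preserves the double centraliser of `u`
  have hcomm_inv : ∀ y : Matrix n n K, y * uinv = uinv * y → u * y = y * u := by
    intro y hy
    calc u * y = u * y * (uinv * u) := by rw [hu2, Matrix.mul_one]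
      _ = u * (y * uinv) * u := by simp only [Matrix.mul_assoc]
      _ = u * (uinv * y) * u := by rw [hy]
      _ = (u * uinv) * y * u := by simp only [Matrix.mul_assoc]
      _ = _ := by rw [hu1, Matrix.one_mul]
  have hmem : ∀ c, c ∈ dcRing u → theta σ h hinv c ∈ dcRing u := by
    intro c hc
    rw [mem_dcRing_iff] at hc ⊢
    intro y hy
    have h1 : u * theta σ h hinv y = theta σ h hinv y * u := by
      apply hcomm_inv
      have := congrArg (theta σ h hinv) hy
      rw [theta_mul hh1, theta_mul hh1, hθu] at this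
      exact this
    have h2 := hc _ h1
    have h3 := congrArg (theta σ h hinv) h2
    rw [theta_mul hh1, theta_mul hh1, hθθ] at h3
    have h4 : u * y * uinv = y := by
      rw [hy, Matrix.mul_assoc, hu1, Matrix.mul_one]
    rw [h4] at h3
    exact h3.symm
  let _ : CommRing ↥(dcRing u) := dcComm u
  let τ : ↥(dcRing u) →+* ↥(dcRing u) :=
    { toFun := fun c => ⟨theta σ h hinv c.1, hmem c.1 c.2⟩
      map_one' := Subtype.ext (theta_one hh2)
      map_mul' := fun c d => Subtype.ext (by
        show theta σ h hinv (c.1 * d.1) = theta σ h hinv c.1 * theta σ h hinv d.1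
        rw [theta_mul hh1]
        exact mul_comm_of_mem_dcRing (hmem d.1 d.2) (hmem c.1 c.2))
      map_zero' := Subtype.ext theta_zero
      map_add' := fun c d => Subtype.ext (theta_add c.1 d.1) }
  have hτval : ∀ c : ↥(dcRing u), (τ c).1 = theta σ h hinv c.1 := fun c => rfl
  have hτ : ∀ c, τ (τ c) = c := by
    intro c
    apply Subtype.ext
    rw [hτval, hτval, hθθ, comm_of_mem_dcRing c.2, Matrix.mul_assoc, hu1, Matrix.mul_one]
  have hne : ξ0 - σ ξ0 ≠ 0 := fun h0 => hξ0 (sub_eq_zero.1 h0).symm
  have hξ : IsUnit ((⟨ξ0 • 1, smul_one_mem_dcRing u ξ0⟩ : ↥(dcRing u))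
      - τ ⟨ξ0 • 1, smul_one_mem_dcRing u ξ0⟩) := by
    refine ⟨⟨_, ⟨(ξ0 - σ ξ0)⁻¹ • 1, smul_one_mem_dcRing u _⟩, ?_, ?_⟩, rfl⟩
    · apply Subtype.ext
      show (ξ0 • (1 : Matrix n n K) - theta σ h hinv (ξ0 • 1)) * ((ξ0 - σ ξ0)⁻¹ • 1) = 1
      rw [theta_smul_one hh2, ← sub_smul, Matrix.smul_mul, Matrix.mul_smul, Matrix.mul_one,
        smul_smul, mul_inv_cancel₀ hne, one_smul]
    · apply Subtype.ext
      show ((ξ0 - σ ξ0)⁻¹ • 1) * (ξ0 • (1 : Matrix n n K) - theta σ h hinv (ξ0 • 1)) = 1
      rw [theta_smul_one hh2, ← sub_smul, Matrix.smul_mul, Matrix.mul_smul, Matrix.mul_one,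
        smul_smul, inv_mul_cancel₀ hne, one_smul]
  have huR : τ ⟨u, self_mem_dcRing u⟩ * ⟨u, self_mem_dcRing u⟩ = 1 := by
    apply Subtype.ext
    show theta σ h hinv u * u = 1
    rw [hθu, hu2]
  have : Finite (Matrix n n K) := by
    unfold Matrix
    infer_instance
  obtain ⟨c, hcu, hc⟩ := hilbert90 τ hτ _ hξ _ huR
  obtain ⟨d, hcd⟩ := hcu.exists_right_inv
  have hcd' : c.1 * d.1 = 1 := congrArg Subtype.val hcd
  have hdc' : d.1 * c.1 = 1 := by
    have : d * c = 1 := by rw [mul_comm]; exact hcd
    exact congrArg Subtype.val this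
  have hc' : u * theta σ h hinv c.1 = c.1 := congrArg Subtype.val hc
  have hcx : x * c.1 = c.1 * x := (mem_dcRing_iff u c.1).1 c.2 x hxu
  refine ⟨h * c.1, d.1 * hinv, ?_, ?_, ?_, ?_⟩
  · calc h * c.1 * (d.1 * hinv) = h * (c.1 * d.1) * hinv := by simp only [Matrix.mul_assoc]
      _ = 1 := by rw [hcd', Matrix.mul_one, hh1]
  · calc d.1 * hinv * (h * c.1) = d.1 * (hinv * h) * c.1 := by simp only [Matrix.mul_assoc]
      _ = 1 := by rw [hh2, Matrix.mul_one, hdc']
  · rw [cstar_mul, ← hhu]
    calc cstar σ c.1 * (h * u) = (cstar σ c.1 * h) * u := by simp only [Matrix.mul_assoc]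
      _ = h * theta σ h hinv c.1 * u := by rw [hhθ]
      _ = h * (theta σ h hinv c.1 * u) := by simp only [Matrix.mul_assoc]
      _ = h * (u * theta σ h hinv c.1) := by
          rw [mul_comm_of_mem_dcRing (hmem c.1 c.2) (self_mem_dcRing u)]
      _ = _ := by rw [hc']
  · calc cstar σ x * (h * c.1) * x = cstar σ x * h * (c.1 * x) := by simp only [Matrix.mul_assoc]
      _ = cstar σ x * h * (x * c.1) := by rw [hcx]
      _ = (cstar σ x * h * x) * c.1 := by simp only [Matrix.mul_assoc]
      _ = _ := by rw [hinvt]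

end Cfsg.Agent.Helper7.SimU
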