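import Mathlib
import Cfsg.Agent.Helper7.SimU2
import Cfsg.Agent.Helper28.GU
import Cfsg.Agent.Helper28.Herm

set_option autoImplicit false
set_option linter.unusedSectionVars false
set_option linter.style.haveILetI false

/-! A matrix over `F_{q²}` is conjugate into `GU_n(q)` iff it is similar to its inverse conjugate
transpose. -/

namespace Cfsg.Agent.Helper7.SimU

open Matrix Cfsg.Agent.Helper21.NS Cfsg.Agent.Helper21.UJ Cfsg.Agent.Helper28

variable {K : Type*} [Field K] [Fintype K] {q n : ℕ}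

theorem cstar_inv_eq (σ : K →+* K) (M Minv : Matrix (Fin n) (Fin n) K) (h2 : Minv * M = 1) :
    (cstar σ M)⁻¹ = cstar σ Minv := by
  apply Matrix.inv_eq_right_inv
  rw [← cstar_mul, h2, cstar_one]

theorem similar_to_unitary_iff (hK : Fintype.card K = q ^ 2) (A : GL (Fin n) K) :
    (∃ B : ↥(Cfsg.GU n K q), IsConj A (B : GL (Fin n) K)) ↔
      IsConj (A : Matrix (Fin n) (Fin n) K)
        (((A : Matrix (Fin n) (Fin n) K).map (fun x : K => x ^ q)).transpose)⁻¹ := by
  obtain ⟨σ, hσ, hσ2⟩ := exists_frob hK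
  obtain ⟨ξ0, hξ0⟩ := exists_pow_ne hK
  have hξ0' : σ ξ0 ≠ ξ0 := by rw [hσ]; exact hξ0
  have hmap : (A : Matrix (Fin n) (Fin n) K).map (fun x : K => x ^ q) =
      (A : Matrix (Fin n) (Fin n) K).map σ := by
    ext i j
    simp only [Matrix.map_apply, hσ]
  rw [hmap]
  obtain ⟨M, hM⟩ : ∃ M : Matrix (Fin n) (Fin n) K, M = (A : Matrix (Fin n) (Fin n) K) := ⟨_, rfl⟩
  obtain ⟨Minv, hMinv⟩ : ∃ Minv : Matrix (Fin n) (Fin n) K,
    Minv = ((A⁻¹ : GL (Fin n) K) : Matrix (Fin n) (Fin n) K) := ⟨_, rfl⟩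
  have hM1 : M * Minv = 1 := by rw [hM, hMinv, ← Units.val_mul, mul_inv_cancel, Units.val_one]
  have hM2 : Minv * M = 1 := by rw [hM, hMinv, ← Units.val_mul, inv_mul_cancel, Units.val_one]
  have hstar : ((M.map σ)ᵀ)⁻¹ = cstar σ Minv := cstar_inv_eq σ M Minv hM2
  rw [← hM, hstar]
  constructor
  · rintro ⟨B, hB⟩
    obtain ⟨g, hg⟩ := isConj_iff.1 hB
    obtain ⟨G, hG⟩ : ∃ G : Matrix (Fin n) (Fin n) K, G = (g : Matrix (Fin n) (Fin n) K) := ⟨_, rfl⟩
    obtain ⟨Ginv, hGinv⟩ : ∃ Ginv : Matrix (Fin n) (Fin n) K,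
      Ginv = ((g⁻¹ : GL (Fin n) K) : Matrix (Fin n) (Fin n) K) := ⟨_, rfl⟩
    have hG1 : G * Ginv = 1 := by rw [hG, hGinv, ← Units.val_mul, mul_inv_cancel, Units.val_one]
    have hG2 : Ginv * G = 1 := by rw [hG, hGinv, ← Units.val_mul, inv_mul_cancel, Units.val_one]
    obtain ⟨N, hN⟩ : ∃ N : Matrix (Fin n) (Fin n) K,
      N = ((B : GL (Fin n) K) : Matrix (Fin n) (Fin n) K) := ⟨_, rfl⟩
    have hNu : cstar σ N * N = 1 := by
      rw [← unitary_iff_cstar, hN]
      exact (GUlib.mem_GU_iff σ hσ _).1 B.2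
    have hNG : N * G = G * M := by
      have := congrArg (fun x : GL (Fin n) K => (x : Matrix (Fin n) (Fin n) K)) hg
      simp only [Units.val_mul] at this
      have this' : G * M * Ginv = N := by rw [hG, hM, hGinv, hN]; exact this
      rw [← this', Matrix.mul_assoc, hG2, Matrix.mul_one]
    have hGM : G * Minv = cstar σ N * G := by
      calc G * Minv = (cstar σ N * N) * G * Minv := by rw [hNu, Matrix.one_mul]
        _ = cstar σ N * (N * G) * Minv := by simp only [Matrix.mul_assoc]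
        _ = cstar σ N * (G * M) * Minv := by rw [hNG]
        _ = cstar σ N * G * (M * Minv) := by simp only [Matrix.mul_assoc]
        _ = _ := by rw [hM1, Matrix.mul_one]
    have hsG1 : cstar σ Ginv * cstar σ G = 1 := by rw [← cstar_mul, hG1, cstar_one]
    have hsG2 : cstar σ G * cstar σ Ginv = 1 := by rw [← cstar_mul, hG2, cstar_one]
    refine ⟨⟨cstar σ G * G, Ginv * cstar σ Ginv, ?_, ?_⟩, ?_⟩
    · calc cstar σ G * G * (Ginv * cstar σ Ginv) = cstar σ G * (G * Ginv) * cstar σ Ginv := by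
            simp only [Matrix.mul_assoc]
        _ = 1 := by rw [hG1, Matrix.mul_one, hsG2]
    · calc Ginv * cstar σ Ginv * (cstar σ G * G) = Ginv * (cstar σ Ginv * cstar σ G) * G := by
            simp only [Matrix.mul_assoc]
        _ = 1 := by rw [hsG1, Matrix.mul_one, hG2]
    · show cstar σ G * G * M = cstar σ Minv * (cstar σ G * G)
      calc cstar σ G * G * M = cstar σ G * (G * M) := by simp only [Matrix.mul_assoc]
        _ = cstar σ G * (N * G) := by rw [hNG]
        _ = (cstar σ G * N) * G := by simp only [Matrix.mul_assoc]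
        _ = cstar σ (cstar σ N * G) * G := by rw [cstar_mul, cstar_cstar σ hσ2]
        _ = cstar σ (G * Minv) * G := by rw [hGM]
        _ = _ := by rw [cstar_mul]; simp only [Matrix.mul_assoc]
  · rintro ⟨P, hP⟩
    have hP' : (P : Matrix (Fin n) (Fin n) K) * M = cstar σ Minv * (P : Matrix (Fin n) (Fin n) K) := hP
    have hsM : cstar σ M * cstar σ Minv = 1 := by rw [← cstar_mul, hM2, cstar_one]
    have hinvt : cstar σ M * (P : Matrix (Fin n) (Fin n) K) * M = (P : Matrix (Fin n) (Fin n) K) := by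
      rw [Matrix.mul_assoc, hP', ← Matrix.mul_assoc, hsM, Matrix.one_mul]
    have hh1 : (P : Matrix (Fin n) (Fin n) K) * ((P⁻¹ : (Matrix (Fin n) (Fin n) K)ˣ) :
        Matrix (Fin n) (Fin n) K) = 1 := by
      rw [← Units.val_mul, mul_inv_cancel, Units.val_one]
    have hh2 : ((P⁻¹ : (Matrix (Fin n) (Fin n) K)ˣ) : Matrix (Fin n) (Fin n) K) *
        (P : Matrix (Fin n) (Fin n) K) = 1 := by
      rw [← Units.val_mul, inv_mul_cancel, Units.val_one]
    obtain ⟨H, Hinv, hH1, hH2, hHs, hHx⟩ :=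
      exists_hermitian_of_invariant σ hσ2 ξ0 hξ0' M Minv _ _ hM1 hh1 hh2 hinvt
    obtain ⟨c, cinv, hc1, hc2, hU⟩ :=
      exists_unitary_conj_of_form σ hσ2 ξ0 hξ0' M H Hinv hH1 hH2 hHs hHx
    rw [← unitary_iff_cstar] at hU
    refine ⟨GUlib.mkGU σ hσ (c * M * cinv) hU, ?_⟩
    refine isConj_iff.2 ⟨⟨c, cinv, hc1, hc2⟩, ?_⟩
    apply Units.ext
    show c * (A : Matrix (Fin n) (Fin n) K) * cinv = c * M * cinv
    rw [hM]

end Cfsg.Agent.Helper7.SimU
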