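import Mathlib
import Cfsg.Agent.Helper25.S5165.Defs
import Cfsg.Agent.Helper24.S5165LIBA

set_option autoImplicit false
set_option linter.unusedSectionVars false
set_option linter.unusedVariables false

/-! S5165 piece SIGNS (driver helper25; helper7): signs of `lift σ`, `torus a`, of `p`-elements (`p` odd); the normal
form `base f * torus a * lift σ` normalizes the base group. -/

namespace Cfsg.Agent.S5165P

open Equiv

section chapB

variable {p : ℕ} [Fact p.Prime] {I : Type} [Fintype I] [DecidableEq I] {r : ℕ}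

theorem SIGNS.sign_lift (σ : Perm I) :
    Equiv.Perm.sign (lift (p := p) (r := r) σ) = Equiv.Perm.sign σ ^ p := by
  have e : lift (p := p) (r := r) σ =
      Equiv.Perm.sumCongr (Equiv.prodCongrLeft (fun _ : ZMod p => σ)) (1 : Perm (Fin r)) := by
    ext x
    rcases x with ⟨i, x⟩ | k <;> rfl
  rw [e, Equiv.Perm.sign_sumCongr, Equiv.Perm.sign_prodCongrLeft, Equiv.Perm.sign_one, mul_one,
    Finset.prod_const, Finset.card_univ, ZMod.card]

theorem SIGNS.sign_torus (a : I → (ZMod p)ˣ) :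
    Equiv.Perm.sign (torus (r := r) a) = ∏ i, Equiv.Perm.sign (Units.mulLeft (a i)) := by
  have e : torus (r := r) a =
      Equiv.Perm.sumCongr (Equiv.prodCongrRight (fun i : I => Units.mulLeft (a i)))
        (1 : Perm (Fin r)) := by
    ext x
    rcases x with ⟨i, x⟩ | k <;> rfl
  rw [e, Equiv.Perm.sign_sumCongr, Equiv.Perm.sign_prodCongrRight, Equiv.Perm.sign_one, mul_one]

theorem SIGNS.sign_mulLeft_mul (u v : (ZMod p)ˣ) :
    Equiv.Perm.sign (Units.mulLeft (u * v)) =
      Equiv.Perm.sign (Units.mulLeft u) * Equiv.Perm.sign (Units.mulLeft v) := by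
  have e : (Units.mulLeft (u * v) : Perm (ZMod p)) = Units.mulLeft u * Units.mulLeft v := by
    ext x
    simp [mul_assoc]
  rw [e, Equiv.Perm.sign_mul]

theorem SIGNS.sign_of_isPElt (hp : p ≠ 2) {Y : Type} [Fintype Y] [DecidableEq Y] (h : Perm Y)
    (hh : IsPElt p h) : Equiv.Perm.sign h = 1 := by
  obtain ⟨k, hk⟩ := hh
  have hodd : Odd (p ^ k) := ((Fact.out : p.Prime).odd_of_ne_two hp).pow
  have h1 : Equiv.Perm.sign h ^ (p ^ k) = 1 := by
    rw [← map_pow, ← hk, pow_orderOf_eq_one, map_one]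
  rcases Int.units_eq_one_or (Equiv.Perm.sign h) with h2 | h2
  · exact h2
  · rw [h2, hodd.neg_one_pow] at h1
    exact absurd h1 (by decide)

namespace SIGNS

theorem mem_normalizer_of {G : Type*} [Group G] (H : Subgroup G) (g : G)
    (h1 : ∀ h ∈ H, g * h * g⁻¹ ∈ H) (h2 : ∀ h ∈ H, g⁻¹ * h * g ∈ H) :
    g ∈ Subgroup.normalizer (H : Set G) := by
  rw [Subgroup.mem_normalizer_iff]
  intro h
  constructor
  · exact h1 h
  · intro hh
    have := h2 _ hh
    have e : g⁻¹ * (g * h * g⁻¹) * g = h := by group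
    rwa [e] at this

theorem base_mem_normalizer (f : I → ZMod p) :
    base (r := r) f ∈
      Subgroup.normalizer ((Bsub p I r : Subgroup (Perm (X p I r))) : Set (Perm (X p I r))) :=
  Subgroup.le_normalizer (mem_Bsub.2 ⟨f, rfl⟩)

theorem torus_mem_normalizer (a : I → (ZMod p)ˣ) :
    torus (r := r) a ∈
      Subgroup.normalizer ((Bsub p I r : Subgroup (Perm (X p I r))) : Set (Perm (X p I r))) := by
  apply mem_normalizer_of
  · intro h hh
    obtain ⟨f, rfl⟩ := mem_Bsub.1 hh
    rw [LIBA.torus_conj_base]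
    exact mem_Bsub.2 ⟨_, rfl⟩
  · intro h hh
    obtain ⟨f, rfl⟩ := mem_Bsub.1 hh
    have := LIBA.torus_conj_base (r := r) a⁻¹ f
    rw [LIBA.torus_inv, inv_inv] at this
    rw [this]
    exact mem_Bsub.2 ⟨_, rfl⟩

theorem lift_mem_normalizer (σ : Perm I) :
    lift σ ∈
      Subgroup.normalizer ((Bsub p I r : Subgroup (Perm (X p I r))) : Set (Perm (X p I r))) := by
  apply mem_normalizer_of
  · intro h hh
    obtain ⟨f, rfl⟩ := mem_Bsub.1 hh
    rw [LIBA.lift_conj_base]
    exact mem_Bsub.2 ⟨_, rfl⟩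
  · intro h hh
    obtain ⟨f, rfl⟩ := mem_Bsub.1 hh
    have := LIBA.lift_conj_base (p := p) (r := r) σ⁻¹ f
    rw [map_inv, inv_inv] at this
    rw [this]
    exact mem_Bsub.2 ⟨_, rfl⟩

end SIGNS

theorem SIGNS.normalizes_Bsub (f : I → ZMod p) (a : I → (ZMod p)ˣ) (σ : Perm I) :
    base f * torus a * lift σ ∈
      Subgroup.normalizer ((Bsub p I r : Subgroup (Perm (X p I r))) : Set (Perm (X p I r))) :=
  Subgroup.mul_mem _ (Subgroup.mul_mem _ (SIGNS.base_mem_normalizer f) (SIGNS.torus_mem_normalizer a))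
    (SIGNS.lift_mem_normalizer σ)

end chapB

end Cfsg.Agent.S5165P
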