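import Mathlib
import Cfsg.Agent.Helper25.S5165.Defs
import Cfsg.Agent.Helper24.S5165LIBA
import Cfsg.Agent.Helper7.S5165SIGNS

set_option autoImplicit false
set_option linter.unusedSectionVars false
set_option linter.unusedVariables false

/-! S5165 piece KER3 (driver helper25; helper7): `torus (mulSingle i u * mulSingle j u⁻¹)` is a product of two
`p`-elements of `N(Bsub) ∩ A` (a commutator of a torus element with the lift of a `p`-cycle). -/

namespace Cfsg.Agent.S5165P

open Equiv

section chapB

variable {p : ℕ} [Fact p.Prime] {I : Type} [Fintype I] [DecidableEq I] {r : ℕ}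

namespace KER3

/-- a cycle of length `k` through two given points -/
theorem exists_cycle {k : ℕ} (hk2 : 2 ≤ k) (hkI : k ≤ Fintype.card I) {i j : I} (hij : i ≠ j) :
    ∃ π : Perm I, π.cycleType = {k} ∧ π i = j := by
  classical
  have hsub : ({i, j} : Finset I) ⊆ Finset.univ := Finset.subset_univ _
  have hcard : ({i, j} : Finset I).card ≤ k := by
    rw [Finset.card_pair hij]; exact hk2
  obtain ⟨s, hs1, -, hs3⟩ := Finset.exists_subsuperset_card_eq hsub hcard
    (by rw [Finset.card_univ]; exact hkI)
  have hi : i ∈ s := hs1 (by simp)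
  have hj : j ∈ s := hs1 (by simp)
  set l : List I := i :: j :: ((s.erase i).erase j).toList with hl
  have hnd : l.Nodup := by
    rw [hl, List.nodup_cons, List.nodup_cons]
    refine ⟨?_, ?_, Finset.nodup_toList _⟩
    · simp only [List.mem_cons, Finset.mem_toList, Finset.mem_erase, not_or]
      exact ⟨hij, fun h => h.2.1 rfl⟩
    · simp only [Finset.mem_toList, Finset.mem_erase]
      exact fun h => h.1 rfl
  have hlen : l.length = k := by
    rw [hl, List.length_cons, List.length_cons, Finset.length_toList,
      Finset.card_erase_of_mem (Finset.mem_erase.2 ⟨hij.symm, hj⟩), Finset.card_erase_of_mem hi, hs3]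
    omega
  refine ⟨l.formPerm, ?_, ?_⟩
  · have h2 : 2 ≤ l.length := by rw [hlen]; exact hk2
    rw [(List.isCycle_formPerm hnd h2).cycleType, List.support_formPerm_of_nodup l hnd
      (fun x hx => by rw [hx] at h2; simp at h2), List.toFinset_card_of_nodup hnd, hlen]
  · exact List.formPerm_apply_head _ _ _ hnd

theorem orderOf_conj {G : Type*} [Group G] (g h : G) : orderOf (g * h * g⁻¹) = orderOf h :=
  orderOf_injective (MulAut.conj g).toMonoidHom (MulAut.conj g).injective h

theorem orderOf_of_cycleType (π : Perm I) (h : π.cycleType = {p}) : orderOf π = p := by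
  rw [← Equiv.Perm.lcm_cycleType, h, Multiset.lcm_singleton, normalize_eq]

end KER3

theorem KER3.torus_mem (hp : p ≠ 2) (hpI : p ≤ Fintype.card I) {i j : I} (hij : i ≠ j)
    (u : (ZMod p)ˣ) :
    torus (r := r) (Pi.mulSingle i u * Pi.mulSingle j u⁻¹) ∈
      Subgroup.closure {h : Perm (X p I r) | h ∈ alternatingGroup (X p I r) ∧
        h ∈ Subgroup.normalizer ((Bsub p I r : Subgroup (Perm (X p I r))) : Set (Perm (X p I r))) ∧
        IsPElt p h} := by
  obtain ⟨π, hπ, hπi⟩ := KER3.exists_cycle (Fact.out : p.Prime).two_le hpI hij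
  have hoπ : orderOf π = p := KER3.orderOf_of_cycleType π hπ
  set t : Perm (X p I r) := torus (Pi.mulSingle i u) with ht
  have hoL : orderOf (lift (p := p) (r := r) π) = p := by
    rw [orderOf_injective lift LIBA.lift_injective, hoπ]
  have key : torus (r := r) (Pi.mulSingle i u * Pi.mulSingle j u⁻¹) =
      (t * lift π * t⁻¹) * (lift π)⁻¹ := by
    have e1 : lift π * t⁻¹ * (lift π)⁻¹ = torus (r := r) (Pi.mulSingle j u⁻¹) := by
      rw [ht, ← LIBA.torus_inv, LIBA.lift_conj_torus]
      congr 1
      funext k
      by_cases hk : k = j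
      · subst hk
        have : π.symm (π i) = i := π.symm_apply_apply i
        rw [← hπi, this]
        simp
      · have : π.symm k ≠ i := by
          intro h
          apply hk
          rw [← hπi, ← h, Equiv.apply_symm_apply]
        simp [Pi.mulSingle_apply, hk, this]
    rw [LIBA.torus_mul, ← e1, ← ht]
    group
  rw [key]
  have hmem : ∀ h : Perm (X p I r),
      h ∈ Subgroup.normalizer ((Bsub p I r : Subgroup (Perm (X p I r))) : Set (Perm (X p I r))) →
      orderOf h = p → h ∈ {h : Perm (X p I r) | h ∈ alternatingGroup (X p I r) ∧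
        h ∈ Subgroup.normalizer ((Bsub p I r : Subgroup (Perm (X p I r))) : Set (Perm (X p I r))) ∧
        IsPElt p h} := by
    intro h hn ho
    have hP : IsPElt p h := ⟨1, by rw [ho, pow_one]⟩
    exact ⟨Equiv.Perm.mem_alternatingGroup.2 (SIGNS.sign_of_isPElt hp h hP), hn, hP⟩
  apply Subgroup.mul_mem
  · apply Subgroup.subset_closure
    apply hmem
    · exact Subgroup.mul_mem _ (Subgroup.mul_mem _ (SIGNS.torus_mem_normalizer _)
        (SIGNS.lift_mem_normalizer _)) (Subgroup.inv_mem _ (SIGNS.torus_mem_normalizer _))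
    · rw [KER3.orderOf_conj, hoL]
  · apply Subgroup.subset_closure
    apply hmem
    · exact Subgroup.inv_mem _ (SIGNS.lift_mem_normalizer _)
    · rw [orderOf_inv, hoL]

end chapB

end Cfsg.Agent.S5165P
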