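import Mathlib
import Cfsg.Agent.Helper25.S5165.Defs
import Cfsg.Agent.Helper24.S5165LIBA
import Cfsg.Agent.Helper24.S5165LIBB

set_option autoImplicit false
set_option linter.unusedSectionVars false
set_option linter.unusedVariables false

/-! S5165 piece R0LE (driver helper25; helper7): `R0 r O ≤ SQ r (SQ r' Q')`. -/

namespace Cfsg.Agent.S5165P

open Equiv

section chapB2

variable {p : ℕ} [Fact p.Prime] {I' : Type} [Fintype I'] [DecidableEq I'] {r' r : ℕ}

theorem R0LE.le_SQ (Q' : Subgroup (Perm I')) (O : Finset I') :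
    R0 (p := p) (r' := r') r O ≤ SQ r (SQ r' Q') := by
  unfold R0
  rw [Subgroup.closure_le]
  rintro g (⟨f, -, rfl⟩ | ⟨f', -, rfl⟩)
  · exact LIBB.Bsub_le_SQ _ (mem_Bsub.2 ⟨f, rfl⟩)
  · exact (LIBB.lift_mem_SQ_iff _ _).2 (LIBB.Bsub_le_SQ _ (mem_Bsub.2 ⟨f', rfl⟩))

end chapB2

end Cfsg.Agent.S5165P
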