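import Mathlib
import Cfsg.Prelude.Def_PLocal
import Cfsg.Agent.Helper7.GenOff7

set_option autoImplicit false
set_option linter.style.haveILetI false
set_option linter.unusedSectionVars false

/-! # Solvable Thompson factorization: the set-up theorem and the Frattini part -/

namespace Cfsg.Agent.Helper7

open Subgroup Cfsg
open scoped commutatorElement Pointwise

variable {X : Type*} [Group X]

theorem pCore_quotient_eq_bot_of_eq {p : ℕ} (N N' : Subgroup X) [N.Normal] [N'.Normal]
    (h : N = N') (h' : Cfsg.pCore p (X ⧸ N') = ⊥) : Cfsg.pCore p (X ⧸ N) = ⊥ := by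
  subst h
  exact h'

/-- The module `V = Ω₁(⟨Z(T)^X⟩)` for a solvable group `X` with `F(X) = O₂(X)`. -/
theorem solvable_thompson_setup [Finite X] [Group.IsSolvable X]
    (hF : Cfsg.fittingSubgroup X = Cfsg.pCore 2 X) (T : Sylow 2 X) :
    ∃ V : Subgroup X, ∃ _ : V.Normal, IsElementaryAbelian 2 V ∧ V ≤ (T : Subgroup X) ∧
      (centralizer ((((T : Subgroup X) ⊓ centralizer ((T : Subgroup X) : Set X) : Subgroup X)) :
        Set X)).normalCore = centralizer (V : Set X) ∧
      Cfsg.pCore 2 (X ⧸ centralizer (V : Set X)) = ⊥ := by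
  haveI : Fact (Nat.Prime 2) := ⟨Nat.prime_two⟩
  set Q : Subgroup X := Cfsg.pCore 2 X with hQ
  set Z : Subgroup X := (T : Subgroup X) ⊓ centralizer ((T : Subgroup X) : Set X) with hZ
  set W : Subgroup X := normalClosure (Z : Set X) with hW
  have hQT : Q ≤ (T : Subgroup X) := Cfsg.Agent.Helper14.pCore_le_sylow 2 T
  have hCQ : centralizer (Q : Set X) ≤ Q := by
    have := Cfsg.Agent.S0044.result (G := X)
    rwa [hF] at this
  haveI hQn : Q.Normal := Cfsg.Agent.Helper14.pCore_normal 2
  have hZQ : (Z : Set X) ⊆ ((Q ⊓ centralizer (Q : Set X) : Subgroup X) : Set X) := by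
    intro z hz
    have hzc : z ∈ centralizer (Q : Set X) := centralizer_le hQT (mem_inf.mp hz).2
    exact mem_inf.mpr ⟨hCQ hzc, hzc⟩
  haveI : (centralizer (Q : Set X)).Normal := inferInstance
  haveI : (Q ⊓ centralizer (Q : Set X)).Normal := inferInstance
  have hWQ : W ≤ Q ⊓ centralizer (Q : Set X) := normalClosure_le_normal hZQ
  haveI hWn : W.Normal := normalClosure_normal
  have hWab : W ≤ centralizer (W : Set X) :=
    (hWQ.trans inf_le_right).trans (centralizer_le (hWQ.trans inf_le_left))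
  have hW2 : IsPGroup 2 W := (Cfsg.Agent.Helper14.pCore_isPGroup 2).to_le (hWQ.trans inf_le_left)
  have hOW : Cfsg.pCore 2 (X ⧸ centralizer (W : Set X)) = ⊥ :=
    pCore_quotient_centralizer_eq_bot W (normalClosure_center_le_iSup T)
  have hcent := centralizer_omegaOne_eq hWab hW2 hOW
  haveI hVn : (Cfsg.omegaOne 2 W).Normal := omegaOne_normal 2 W
  refine ⟨Cfsg.omegaOne 2 W, hVn, omegaOne_isElementaryAbelian 2 hWab, ?_, ?_, ?_⟩
  · exact (Cfsg.Agent.Helper14.omegaOne_le 2 W).trans ((hWQ.trans inf_le_left).trans hQT)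
  · rw [normalCore_centralizer_eq, hcent]
  · exact pCore_quotient_eq_bot_of_eq _ _ hcent hOW

/-- Frattini: `X = ⟨J(T)^X⟩ N_X(J(T))` for the abelian-version Thompson subgroup. -/
theorem normalClosure_thompsonA_sup_normalizer [Finite X] {p : ℕ} [Fact p.Prime] (T : Sylow p X) :
    normalClosure ((Cfsg.thompsonSubgroupAOf (T : Subgroup X) : Subgroup X) : Set X) ⊔
      normalizer ((Cfsg.thompsonSubgroupAOf (T : Subgroup X) : Subgroup X) : Set X) = ⊤ := by
  set J : Subgroup X := Cfsg.thompsonSubgroupAOf (T : Subgroup X) with hJ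
  set Y : Subgroup X := normalClosure (J : Set X) with hY
  haveI : Y.Normal := normalClosure_normal
  have hfr := Cfsg.Agent.Lead.ZJ.frattini_inf T Y
  set R : Subgroup X := (T : Subgroup X) ⊓ Y with hR
  have hJeq : J = sSup (Cfsg.Agent.Helper26.famEl 0 (T : Subgroup X)) :=
    Cfsg.Agent.Helper26.thompsonSubgroupAOf_eq _
  have hJT : J ≤ (T : Subgroup X) := by
    rw [hJeq]
    exact sSup_le (fun A hA => hA.1)
  have hJR : J ≤ R := le_inf hJT le_normalClosure
  have hRT : R ≤ (T : Subgroup X) := inf_le_left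
  have hfam : Cfsg.Agent.Helper26.famEl 0 R = Cfsg.Agent.Helper26.famEl 0 (T : Subgroup X) := by
    obtain ⟨A₀, hA₀⟩ := Cfsg.Agent.Helper26.famEl_nonempty 0 (T : Subgroup X)
    have hA₀R : A₀ ≤ R := (hJeq ▸ le_sSup hA₀ : A₀ ≤ J).trans hJR
    apply Set.Subset.antisymm
    · exact (Cfsg.Agent.Helper26.famEl_restrict hA₀ hA₀R hRT).2
    · intro A hA
      have hAR : A ≤ R := (hJeq ▸ le_sSup hA : A ≤ J).trans hJR
      exact (Cfsg.Agent.Helper26.famEl_restrict hA hAR hRT).1
  have hNN : normalizer (R : Set X) ≤ normalizer (J : Set X) := by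
    apply Cfsg.Agent.Helper14.le_normalizer_of_map_cj_le
    intro g hg
    have hRg : R.map (MulAut.conj g).toMonoidHom = R :=
      Cfsg.Agent.Helper14.mem_normalizer_iff_map_cj.mp hg
    rw [map_le_iff_le_comap]
    conv_lhs => rw [hJeq, ← hfam]
    apply sSup_le
    intro A hA
    rw [← map_le_iff_le_comap, hJeq, ← hfam]
    apply le_sSup
    have := Cfsg.Agent.Helper26.famEl_equiv (MulAut.conj g) hA
    rwa [hRg] at this
  rw [eq_top_iff, ← hfr]
  exact sup_le_sup_left hNN _

end Cfsg.Agent.Helper7
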