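import Mathlib
import Cfsg.Prelude.Def_GeometricClasses
import Cfsg.Prelude.Def_Classical
import Cfsg.Prelude.Def_LieClassical
import Cfsg.Agent.Helper27.S5989Defs
import Cfsg.Agent.Helper7.S5992PRODQ
import Cfsg.Agent.Helper7.S5992EXC
import Cfsg.Agent.Helper8.S5992DISCSUM
import Cfsg.Agent.Helper15.S5992SUPND
import Cfsg.Agent.Helper6.S5992PLUSDISC

/-! S5989 piece PRODQT (helper7): product model with prescribed type. -/

set_option autoImplicit false
open scoped MatrixGroups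
universe u

namespace Cfsg.Agent.S5989P

open Cfsg.Agent.Helper2.SympInvol Cfsg.Agent.Helper2.SympUnits Cfsg.Agent.S5961P
  Cfsg.Agent.S5992P

namespace PRODQT

section gen

variable {F V : Type*} [Field F] [AddCommGroup V] [Module F V]

/-- `Plus` only depends on the values of the form on the subspace -/
theorem plus_congr (Q Q' : QuadraticForm F V) (W : Submodule F V) (h : ∀ w ∈ W, Q w = Q' w)
    (hP : Plus Q W) : Plus Q' W := by
  obtain ⟨U, hUW, hTS, hdim⟩ := hP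
  exact ⟨U, hUW, fun u hu => by rw [← h u (hUW hu)]; exact hTS u hu, hdim⟩

/-- the type of an orthogonal sum of even-dimensional nondegenerate subspaces -/
theorem plus_sup_iff' [Fintype F] [FiniteDimensional F V] (h2 : (2 : F) ≠ 0)
    (Q : QuadraticForm F V) (W₁ W₂ : Submodule F V)
    (h₁ : Nondeg (PB Q) W₁) (h₂ : Nondeg (PB Q) W₂) (ho : Orth (PB Q) W₁ W₂)
    (he₁ : Even (Module.finrank F W₁)) (he₂ : Even (Module.finrank F W₂)) :
    Plus Q (W₁ ⊔ W₂) ↔ (Plus Q W₁ ↔ Plus Q W₂) := by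
  obtain ⟨hnd, -, hfr⟩ := nondeg_sup_orth Q W₁ W₂ h₁ h₂ ho
  rw [plus_iff_discSq h2 Q _ hnd (by rw [hfr]; exact he₁.add he₂),
    discSq_sup h2 Q W₁ W₂ h₁ h₂ ho he₁ he₂, plus_iff_discSq h2 Q _ h₁ he₁,
    plus_iff_discSq h2 Q _ h₂ he₂]

theorem PB_prod {V₁ V₂ : Type*} [AddCommGroup V₁] [Module F V₁] [AddCommGroup V₂]
    [Module F V₂] (Q₁ : QuadraticForm F V₁) (Q₂ : QuadraticForm F V₂) (a b : V₁ × V₂) :
    PB (Q₁.prod Q₂) a b = PB Q₁ a.1 b.1 + PB Q₂ a.2 b.2 := by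
  simp only [PB_apply, QuadraticMap.polar, QuadraticMap.prod_apply, Prod.fst_add, Prod.snd_add]
  ring

end gen

variable {F : Type*} [Field F]

/-- the binary form `s² + c t²` -/
noncomputable def binQ (c : F) : QuadraticForm F (F × F) :=
  (QuadraticMap.sq (R := F)).prod (c • QuadraticMap.sq (R := F))

theorem binQ_apply (c : F) (s : F × F) : binQ c s = s.1 * s.1 + c * (s.2 * s.2) := by
  simp [binQ, QuadraticMap.sq]

theorem PB_binQ (c : F) (s t : F × F) :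
    PB (binQ c) s t = 2 * (s.1 * t.1) + 2 * c * (s.2 * t.2) := by
  rw [PB_apply, QuadraticMap.polar, binQ_apply, binQ_apply, binQ_apply]
  simp only [Prod.fst_add, Prod.snd_add]
  ring

theorem binQ_isYO (h2 : (2 : F) ≠ 0) (c : F) (hc : c ≠ 0) (r : ℕ) : IsYO (binQ c) 1 r := by
  refine ⟨?_, fun v => rfl, one_pow r⟩
  intro s _ hs0
  by_cases h1 : s.1 = 0
  · have h2' : s.2 ≠ 0 := by
      intro h
      apply hs0
      exact Prod.ext h1 h
    refine ⟨(0, 1), trivial, ?_⟩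
    rw [PB_binQ]
    simp only [mul_zero, mul_one, zero_add]
    exact mul_ne_zero (mul_ne_zero h2 hc) h2'
  · refine ⟨(1, 0), trivial, ?_⟩
    rw [PB_binQ]
    simp only [mul_zero, mul_one, add_zero]
    exact mul_ne_zero h2 h1

section big

variable {V₀ : Type*} [AddCommGroup V₀] [Module F V₀]

/-- the form `Q₀ ⊥ (s² + c t²)` -/
noncomputable def bigQ (Q₀ : QuadraticForm F V₀) (c : F) : QuadraticForm F (V₀ × (F × F)) :=
  Q₀.prod (binQ c)

theorem bigQ_apply (Q₀ : QuadraticForm F V₀) (c : F) (a : V₀ × (F × F)) :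
    bigQ Q₀ c a = Q₀ a.1 + (a.2.1 * a.2.1 + c * (a.2.2 * a.2.2)) := by
  rw [bigQ, QuadraticMap.prod_apply, binQ_apply]

/-- the first summand -/
def W1 (F V₀ : Type*) [Field F] [AddCommGroup V₀] [Module F V₀] : Submodule F (V₀ × (F × F)) :=
  Submodule.prod ⊤ ⊥

/-- the plane -/
def W2 (F V₀ : Type*) [Field F] [AddCommGroup V₀] [Module F V₀] : Submodule F (V₀ × (F × F)) :=
  Submodule.prod ⊥ ⊤

theorem mem_W1 (a : V₀ × (F × F)) : a ∈ W1 F V₀ ↔ a.2 = 0 := by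
  simp [W1, Submodule.mem_prod]

theorem mem_W2 (a : V₀ × (F × F)) : a ∈ W2 F V₀ ↔ a.1 = 0 := by
  simp [W2, Submodule.mem_prod]

theorem nondeg_W1 (Q₀ : QuadraticForm F V₀) (hnd : Nondeg (PB Q₀) ⊤) (c : F) :
    Nondeg (PB (bigQ Q₀ c)) (W1 F V₀) := by
  intro a ha ha0
  rw [mem_W1] at ha
  have h1 : a.1 ≠ 0 := fun h => ha0 (Prod.ext h ha)
  obtain ⟨v, -, hv⟩ := hnd a.1 trivial h1
  refine ⟨(v, 0), (mem_W1 _).2 rfl, ?_⟩
  rw [bigQ, PB_prod]
  simpa using hv

theorem nondeg_W2 (h2 : (2 : F) ≠ 0) (Q₀ : QuadraticForm F V₀) (c : F) (hc : c ≠ 0) :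
    Nondeg (PB (bigQ Q₀ c)) (W2 F V₀) := by
  intro a ha ha0
  rw [mem_W2] at ha
  have h1 : a.2 ≠ 0 := fun h => ha0 (Prod.ext ha h)
  obtain ⟨v, -, hv⟩ := (binQ_isYO h2 c hc 1).nondeg a.2 trivial h1
  refine ⟨(0, v), (mem_W2 _).2 rfl, ?_⟩
  rw [bigQ, PB_prod]
  simpa using hv

theorem orth_W (Q₀ : QuadraticForm F V₀) (c : F) :
    Orth (PB (bigQ Q₀ c)) (W1 F V₀) (W2 F V₀) := by
  intro a ha b hb
  rw [mem_W1] at ha
  rw [mem_W2] at hb
  rw [bigQ, PB_prod, ha, hb]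
  simp

theorem sup_W : W1 F V₀ ⊔ W2 F V₀ = ⊤ := by
  rw [W1, W2, Submodule.prod_sup_prod]
  simp

theorem finrank_W1 [FiniteDimensional F V₀] :
    Module.finrank F (W1 F V₀) = Module.finrank F V₀ := by
  rw [W1, Cfsg.Agent.S5955P.PRODB.finrank_prod_sub, finrank_top, finrank_bot, add_zero]

theorem finrank_W2 [FiniteDimensional F V₀] : Module.finrank F (W2 F V₀) = 2 := by
  rw [W2, Cfsg.Agent.S5955P.PRODB.finrank_prod_sub, finrank_top, finrank_bot, zero_add,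
    Module.finrank_prod, Module.finrank_self]

theorem plus_W2 [FiniteDimensional F V₀] (Q₀ : QuadraticForm F V₀) :
    Plus (bigQ Q₀ (-1)) (W2 F V₀) := by
  refine ⟨Submodule.span F {((0 : V₀), ((1 : F), (1 : F)))}, ?_, ?_, ?_⟩
  · rw [Submodule.span_le, Set.singleton_subset_iff]
    exact (mem_W2 _).2 rfl
  · intro u hu
    obtain ⟨a, rfl⟩ := Submodule.mem_span_singleton.1 hu
    rw [QuadraticMap.map_smul, bigQ_apply]
    simp
  · rw [finrank_span_singleton, finrank_W2]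
    intro h
    have := congrArg (fun a : V₀ × (F × F) => a.2.1) h
    simp at this

theorem not_plus_W2 [FiniteDimensional F V₀] (Q₀ : QuadraticForm F V₀) (ν : F)
    (hν : ¬ IsSquare ν) : ¬ Plus (bigQ Q₀ (-ν)) (W2 F V₀) := by
  rintro ⟨U, hUW, hTS, hdim⟩
  rw [finrank_W2] at hdim
  have hU1 : 0 < Module.finrank F U := by omega
  obtain ⟨u, hu0⟩ := Module.finrank_pos_iff_exists_ne_zero.1 hU1
  have hu1 : (u : V₀ × (F × F)).1 = 0 := (mem_W2 _).1 (hUW u.2)
  have hQ := hTS u u.2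
  rw [bigQ_apply, hu1, map_zero, zero_add] at hQ
  by_cases ht : (u : V₀ × (F × F)).2.2 = 0
  · rw [ht] at hQ
    simp only [mul_zero, add_zero, mul_self_eq_zero] at hQ
    apply hu0
    apply Subtype.ext
    exact Prod.ext hu1 (Prod.ext hQ ht)
  · apply hν
    refine ⟨(u : V₀ × (F × F)).2.1 / (u : V₀ × (F × F)).2.2, ?_⟩
    field_simp
    linear_combination -hQ

end big

end PRODQT

open PRODQT in
/-- PRODQT -/
theorem exists_power_space_ty {F : Type u} [Field F] [Fintype F] (h2 : (2 : F) ≠ 0) (r : ℕ)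
    {E : Type u} [AddCommGroup E] [Module F E] [FiniteDimensional F E] (QE : QuadraticForm F E)
    (yE : Module.End F E) (hE : IsYO QE yE r) (hfix : LinearMap.ker (yE - 1) = ⊥) (k b : ℕ)
    (hk : 2 ≤ k) (hev : Even (k + b * Module.finrank F E)) (ε : Bool) :
    ∃ (V : Type u) (_ : AddCommGroup V) (_ : Module F V) (_ : FiniteDimensional F V)
      (Q : QuadraticForm F V) (y : Module.End F V),
      IsYO Q y r ∧ Module.finrank F V = k + b * Module.finrank F E ∧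
      Module.finrank F (LinearMap.ker (y - 1)) = k ∧ (Plus Q ⊤ ↔ ε = true) := by
  classical
  obtain ⟨V₀, i1, i2, i3, Q₀, y₀, hY₀, hfr₀, hker₀⟩ :=
    exists_power_space h2 r QE yE hE hfix (k - 2) b
  have hev₀ : Even (Module.finrank F V₀) := by
    rw [hfr₀]
    have : k + b * Module.finrank F E = (k - 2 + b * Module.finrank F E) + 2 := by omega
    rw [this] at hev
    exact (Nat.even_add.1 hev).2 even_two
  obtain ⟨ν, hν0, hνns⟩ := EXC.exists_nonsq (F := F) h2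
  -- common facts for every `c ≠ 0`
  have key : ∀ c : F, c ≠ 0 →
      IsYO (bigQ Q₀ c) (y₀.prodMap 1) r ∧
      Module.finrank F (V₀ × (F × F)) = k + b * Module.finrank F E ∧
      Module.finrank F (LinearMap.ker (y₀.prodMap (1 : Module.End F (F × F)) - 1)) = k ∧
      (Plus (bigQ Q₀ c) ⊤ ↔ (Plus (bigQ Q₀ c) (W1 F V₀) ↔ Plus (bigQ Q₀ c) (W2 F V₀))) := by
    intro c hc
    refine ⟨PRODQ.prod_isYO Q₀ (binQ c) y₀ 1 r hY₀ (binQ_isYO h2 c hc r), ?_, ?_, ?_⟩
    · rw [Module.finrank_prod, Module.finrank_prod, Module.finrank_self, hfr₀]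
      omega
    · rw [Cfsg.Agent.S5955P.PRODB.prodMap_sub_one, LinearMap.ker_prodMap,
        Cfsg.Agent.S5955P.PRODB.finrank_prod_sub, hker₀, sub_self, LinearMap.ker_zero,
        finrank_top, Module.finrank_prod, Module.finrank_self]
      omega
    · rw [← sup_W]
      exact plus_sup_iff' h2 _ _ _ (nondeg_W1 Q₀ hY₀.nondeg c) (nondeg_W2 h2 Q₀ c hc)
        (orth_W Q₀ c) (by rw [finrank_W1]; exact hev₀) (by rw [finrank_W2]; exact even_two)
  have hcongr : Plus (bigQ Q₀ (-1)) (W1 F V₀) ↔ Plus (bigQ Q₀ (-ν)) (W1 F V₀) := by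
    constructor
    · apply plus_congr
      intro w hw
      rw [mem_W1] at hw
      rw [bigQ_apply, bigQ_apply, hw]
      simp
    · apply plus_congr
      intro w hw
      rw [mem_W1] at hw
      rw [bigQ_apply, bigQ_apply, hw]
      simp
  obtain ⟨hA1, hA2, hA3, hA4⟩ := key (-1) (by simp)
  obtain ⟨hB1, hB2, hB3, hB4⟩ := key (-ν) (by simpa using hν0)
  have hp2 := plus_W2 (F := F) Q₀
  have hn2 := not_plus_W2 (F := F) Q₀ ν hνns
  by_cases hP : Plus (bigQ Q₀ (-1)) (W1 F V₀) ↔ ε = true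
  · refine ⟨V₀ × (F × F), inferInstance, inferInstance, inferInstance, bigQ Q₀ (-1),
      y₀.prodMap 1, hA1, hA2, hA3, ?_⟩
    rw [hA4, ← hP]
    exact ⟨fun h => h.2 hp2, fun h => ⟨fun _ => hp2, fun _ => h⟩⟩
  · refine ⟨V₀ × (F × F), inferInstance, inferInstance, inferInstance, bigQ Q₀ (-ν),
      y₀.prodMap 1, hB1, hB2, hB3, ?_⟩
    rw [hB4, ← hcongr]
    have h1 : (Plus (bigQ Q₀ (-1)) (W1 F V₀) ↔ Plus (bigQ Q₀ (-ν)) (W2 F V₀)) ↔
        ¬ Plus (bigQ Q₀ (-1)) (W1 F V₀) :=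
      ⟨fun h hA => hn2 (h.1 hA), fun h => ⟨fun hA => absurd hA h, fun h2 => absurd h2 hn2⟩⟩
    rw [h1]
    exact not_iff.1 hP

end Cfsg.Agent.S5989P
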