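import Mathlib
import Cfsg.Prelude.Def_GeometricClasses
import Cfsg.Prelude.Def_Classical
import Cfsg.Prelude.Def_LieClassical
import Cfsg.Agent.Helper6.S5992Defs
import Cfsg.Agent.Helper7.S5955AUG1

/-! S5992 piece AUGQ: the augmentation space with the dot product and the shift is an `IsYO`
without fixed points. -/

set_option autoImplicit false
open scoped MatrixGroups
universe u

namespace Cfsg.Agent.S5992P

open Cfsg.Agent.Helper2.SympInvol Cfsg.Agent.Helper2.SympUnits Cfsg.Agent.S5961P Cfsg.Agent.S2614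
  Cfsg.Agent.S5955P

namespace AUGQ

variable {F : Type*} [Field F] (r : ℕ) [NeZero r]

/-- the polar form of the dot product on the augmentation space -/
theorem PB_augQ (u v : Aug F r) :
    PB (augQ F r) u v = 2 * ∑ a : ZMod r, (u : ZMod r → F) a * (v : ZMod r → F) a := by
  rw [PB_apply, QuadraticMap.polar, augQ_apply, augQ_apply, augQ_apply, Finset.mul_sum,
    ← Finset.sum_sub_distrib, ← Finset.sum_sub_distrib]
  apply Finset.sum_congr rfl
  intro a _
  rw [Submodule.coe_add, Pi.add_apply]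
  ring

end AUGQ

open AUGQ in
/-- AUGQ -/
theorem aug_isYO {F : Type*} [Field F] {p : ℕ} [Fact p.Prime] [CharP F p] (h2 : (2 : F) ≠ 0)
    (r : ℕ) [Fact r.Prime] (hr2 : r ≠ 2) (hrp : r ≠ p) :
    IsYO (augQ F r) (augS F r) r ∧ LinearMap.ker (augS F r - 1) = ⊥ ∧
    Module.finrank F (Aug F r) = r - 1 := by
  classical
  have hrp' : r.Prime := Fact.out
  have hpp : p.Prime := Fact.out
  obtain ⟨hY, hker, hfr⟩ := aug_isYSp (F := F) (p := p) r hr2 hrp
  have hr0 : (r : F) ≠ 0 := by
    intro h0
    rw [CharP.cast_eq_zero_iff F p] at h0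
    exact hrp ((Nat.prime_dvd_prime_iff_eq hpp hrp').1 h0).symm
  refine ⟨⟨?_, ?_, hY.pow⟩, hker, hfr⟩
  · -- nondegenerate
    intro u _ hu0
    have hne : ∃ a₀ : ZMod r, (u : ZMod r → F) a₀ ≠ 0 := by
      by_contra hcon
      push Not at hcon
      apply hu0
      apply Subtype.ext
      funext a
      exact hcon a
    obtain ⟨a₀, ha₀⟩ := hne
    have hvmem : (fun a : ZMod r => (Pi.single a₀ (1 : F) : ZMod r → F) a - (r : F)⁻¹) ∈
        Aug F r := by
      rw [mem_Aug, Finset.sum_sub_distrib, Finset.sum_pi_single', Finset.sum_const,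
        Finset.card_univ, ZMod.card, nsmul_eq_mul, mul_inv_cancel₀ hr0]
      simp
    refine ⟨⟨_, hvmem⟩, trivial, ?_⟩
    rw [PB_augQ]
    simp only
    have hu : ∑ a : ZMod r, (u : ZMod r → F) a = 0 := (mem_Aug F r _).1 u.2
    have h1 : ∑ a : ZMod r, (u : ZMod r → F) a *
        ((Pi.single a₀ (1 : F) : ZMod r → F) a - (r : F)⁻¹) =
        (u : ZMod r → F) a₀ - (∑ a : ZMod r, (u : ZMod r → F) a) * (r : F)⁻¹ := by
      simp only [mul_sub]
      rw [Finset.sum_sub_distrib, Finset.sum_mul]
      congr 1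
      rw [Finset.sum_eq_single a₀]
      · simp
      · intro a _ hab
        rw [Pi.single_eq_of_ne hab, mul_zero]
      · intro h; exact absurd (Finset.mem_univ a₀) h
    rw [h1, hu, zero_mul, sub_zero]
    exact mul_ne_zero h2 ha₀
  · -- isometry
    intro u
    rw [augQ_apply, augQ_apply]
    simp only [augS_coe, shiftL_apply]
    exact Fintype.sum_equiv (Equiv.addRight (1 : ZMod r)) _ _ (fun a => rfl)

end Cfsg.Agent.S5992P
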