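import Mathlib
import Cfsg.Prelude.Def_GeometricClasses
import Cfsg.Prelude.Def_Classical
import Cfsg.Prelude.Def_LieClassical
import Cfsg.Agent.Helper6.S5992Defs
import Cfsg.Agent.Helper25.S5992RESTRYO
import Cfsg.Agent.Helper7.S5992AUGQ
import Cfsg.Agent.Helper25.S5992BLOCKS

/-! S5992 piece BLOCKSPACE: a fixed-point-free model space of dimension `cc F r`. -/

set_option autoImplicit false
open scoped MatrixGroups
universe u

namespace Cfsg.Agent.S5992P

open Cfsg.Agent.Helper2.SympInvol Cfsg.Agent.Helper2.SympUnits Cfsg.Agent.S5961P Cfsg.Agent.S2614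
  Cfsg.Agent.S5955P

/-- BLOCKSPACE -/
theorem exists_block_space {F : Type u} [Field F] [Fintype F] {p : ℕ} [Fact p.Prime] [CharP F p]
    (h2 : (2 : F) ≠ 0) (r : ℕ) [Fact r.Prime] (hr2 : r ≠ 2) (hrp : r ≠ p) :
    ∃ (E : Type u) (_ : AddCommGroup E) (_ : Module F E) (_ : FiniteDimensional F E)
      (QE : QuadraticForm F E) (yE : Module.End F E),
      IsYO QE yE r ∧ LinearMap.ker (yE - 1) = ⊥ ∧ Module.finrank F E = cc F r := by
  classical
  have hrp' : r.Prime := Fact.out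
  obtain ⟨hY, hker, hfr⟩ := aug_isYO (F := F) (p := p) h2 r hr2 hrp
  obtain ⟨b, E, hEinv, hEnd, hEfr, -, -, hEsup⟩ :=
    exists_blocks_sym (p := p) r hr2 hrp h2 (augQ F r) (augS F r) hY
  -- `range (augS - 1) = ⊤`
  have hrange : LinearMap.range (augS F r - 1) = ⊤ :=
    LinearMap.range_eq_top.mpr
      (LinearMap.injective_iff_surjective.mp (LinearMap.ker_eq_bot.mp hker))
  -- `b ≥ 1`
  have hb : 0 < b := by
    rcases Nat.eq_zero_or_pos b with h0 | h0
    · subst h0
      exfalso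
      have h1 : (⨆ j, E j) = ⊥ := by
        rw [iSup_eq_bot]
        intro j
        exact j.elim0
      rw [hEsup, hrange] at h1
      have h3 : Module.finrank F (⊤ : Submodule F (Aug F r)) = 0 := by rw [h1, finrank_bot]
      rw [finrank_top, hfr] at h3
      have := hrp'.two_le
      omega
    · exact h0
  have hM : ∀ v ∈ E ⟨0, hb⟩, augS F r v ∈ E ⟨0, hb⟩ := fun v hv =>
    hEinv ⟨0, hb⟩ (Submodule.mem_map_of_mem hv)
  obtain ⟨hY', hker'⟩ := restrict_isYO (augQ F r) (augS F r) r hY (E ⟨0, hb⟩) hM (hEnd ⟨0, hb⟩)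
  refine ⟨↥(E ⟨0, hb⟩), inferInstance, inferInstance, inferInstance,
    (augQ F r).comp (E ⟨0, hb⟩).subtype, (augS F r).restrict hM, hY', ?_, hEfr ⟨0, hb⟩⟩
  apply hker'
  rw [hker, inf_bot_eq]

end Cfsg.Agent.S5992P
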