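import Mathlib
import Cfsg.Prelude.Def_GeometricClasses
import Cfsg.Prelude.Def_Classical
import Cfsg.Prelude.Def_LieClassical
import Cfsg.Agent.Helper27.S5989Defs
import Cfsg.Agent.Helper18.S5961ARITH
import Cfsg.Agent.Helper7.S5992BLOCKSPACE
import Cfsg.Agent.Helper7.S5992PRODQ
import Cfsg.Agent.Helper7.S5992STDTRANS
import Cfsg.Agent.Helper7.S5989PRODQT
import Cfsg.Agent.Helper7.S5989STDTRANSE
import Cfsg.Agent.Helper7.S5989CONJMAT
import Cfsg.Agent.Helper7.S5989OMEGAODDG
import Cfsg.Agent.Helper25.S5992NTYPEODD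
import Cfsg.Agent.Helper3.S5992NTYPEEVEN

/-! S5989 piece MODELEVEN (helper7): elements of order `r` in `omegaGL Q` (even dimension, either
type) with `b` blocks. -/

set_option autoImplicit false
open scoped MatrixGroups
universe u

namespace Cfsg.Agent.S5989P

open Cfsg.Agent.Helper2.SympInvol Cfsg.Agent.Helper2.SympUnits Cfsg.Agent.S5961P
  Cfsg.Agent.S5992P

namespace MODELEVEN

/-- the abstract model -/
theorem exists_space {F : Type u} [Field F] [Fintype F] {p : ℕ} [Fact p.Prime] [CharP F p]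
    (h2 : (2 : F) ≠ 0) (r : ℕ) [Fact r.Prime] (hr2 : r ≠ 2) (hrp : r ≠ p) (d : ℕ) (ε : Bool)
    (b : ℕ) (hb : Realiz ε (orderOf ((Fintype.card F : ℕ) : ZMod r)) (cc F r) d b) :
    ∃ (V : Type u) (_ : AddCommGroup V) (_ : Module F V) (_ : FiniteDimensional F V)
      (Q : QuadraticForm F V) (y : Module.End F V),
      IsYO Q y r ∧ Module.finrank F V = 2 * d ∧
      Module.finrank F (LinearMap.ker (y - 1)) = 2 * d - cc F r * b ∧ (Plus Q ⊤ ↔ ε = true) := by
  classical
  obtain ⟨hipos, hcpos, hceven, -, -, -, -, -⟩ := cc_arith (F := F) (p := p) r hr2 hrp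
  obtain ⟨hb1, hble, hbty⟩ := hb
  obtain ⟨E, _, _, _, QE, yE, hE, hfix, hEfr⟩ := exists_block_space (F := F) (p := p) h2 r hr2 hrp
  obtain ⟨c', hc'⟩ := hceven
  rcases Nat.eq_zero_or_pos (2 * d - cc F r * b) with hκ | hκ
  · -- no fixed points
    have hcb : cc F r * b = 2 * d := by omega
    obtain ⟨V, _, _, _, Q, y, hY, hfr, hker⟩ := exists_power_space h2 r QE yE hE hfix 0 b
    have hfrV : Module.finrank F V = 2 * d := by
      rw [hfr, hEfr, zero_add, mul_comm, hcb]
    refine ⟨V, inferInstance, inferInstance, inferInstance, Q, y, hY, hfrV, ?_, ?_⟩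
    · rw [hker, hκ]
    · have hkb : LinearMap.ker (y - 1) = ⊥ := by
        exact Submodule.finrank_eq_zero.1 hker
      have hfix' : (⊤ : Submodule F V) ⊓ LinearMap.ker (y - 1) = ⊥ := by
        rw [hkb, inf_bot_eq]
      have hty := hbty hcb
      unfold typeOK at hty
      by_cases hi : Even (orderOf ((Fintype.card F : ℕ) : ZMod r))
      · rw [if_pos hi] at hty
        rw [plus_iff_even_of_fpf (p := p) r hr2 hrp h2 Q y hY hi ⊤ le_top hY.nondeg hfix',
          finrank_top, hfrV, ← hcb, cc_def, if_pos hi, Nat.mul_div_cancel_left _ hipos]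
        exact hty
      · rw [if_neg hi] at hty
        have := plus_of_fpf_odd (p := p) r hr2 hrp h2 Q y hY (Nat.not_even_iff_odd.1 hi) ⊤
          le_top hY.nondeg hfix'
        exact ⟨fun _ => hty, fun _ => this⟩
  · have hk2 : 2 ≤ 2 * d - cc F r * b := by
      rw [hc'] at hκ ⊢
      have : (c' + c') * b = 2 * (c' * b) := by ring
      rw [this] at hκ ⊢
      omega
    have hev : Even (2 * d - cc F r * b + b * Module.finrank F E) := by
      rw [hEfr]
      have : 2 * d - cc F r * b + b * cc F r = 2 * d := by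
        rw [mul_comm b]; omega
      rw [this]
      exact even_two_mul d
    obtain ⟨V, _, _, _, Q, y, hY, hfr, hker, hty⟩ :=
      exists_power_space_ty h2 r QE yE hE hfix (2 * d - cc F r * b) b hk2 hev ε
    refine ⟨V, inferInstance, inferInstance, inferInstance, Q, y, hY, ?_, hker, hty⟩
    rw [hfr, hEfr, mul_comm b]
    omega

end MODELEVEN

open MODELEVEN in
/-- MODELEVEN -/
theorem exists_model_even {F : Type u} [Field F] [Fintype F] {p : ℕ} [Fact p.Prime] [CharP F p]
    (h2 : (2 : F) ≠ 0) (r : ℕ) [Fact r.Prime] (hr2 : r ≠ 2) (hrp : r ≠ p) {ι : Type}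
    [Fintype ι] [DecidableEq ι] (Q : QuadraticForm F (ι → F))
    (hQ : (QuadraticMap.polarBilin Q).Nondegenerate) (d : ℕ) (hd : 1 ≤ d)
    (hι : Fintype.card ι = 2 * d) (ε : Bool) (hε : Plus Q ⊤ ↔ ε = true) (b : ℕ)
    (hb : Realiz ε (orderOf ((Fintype.card F : ℕ) : ZMod r)) (cc F r) d b) :
    ∃ x : GL ι F, x ∈ Cfsg.Geo.omegaGL ⇑Q ∧ x ^ r = 1 ∧
      Module.finrank F (LinearMap.ker (Matrix.toLin' (x : Matrix ι ι F) - 1)) =
        2 * d - cc F r * b := by
  classical
  have hrp' : r.Prime := Fact.out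
  obtain ⟨V, _, _, _, Q', y, hY, hfr, hker, hty⟩ :=
    exists_space (F := F) (p := p) h2 r hr2 hrp d ε b hb
  obtain ⟨e, he⟩ := exists_std_of_space_even h2 Q' hY.nondeg Q hQ (by rw [hfr, hι])
    (by rw [hι]; exact even_two_mul d) (by rw [hty, hε])
  have hinj : Function.Injective y := STDTRANS.injective_of_isom Q' y hY.nondeg hY.isom
  obtain ⟨x, hxiso, -, hxpow, hxker⟩ := exists_matrix_of_conj Q' y hY.isom hinj Q e he
  have hxr : x ^ r = 1 := hxpow r hY.pow
  refine ⟨x, ?_, hxr, ?_⟩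
  · exact mem_omegaGL_of_odd_gen h2 Q hQ (by rw [hι]; omega) x hxiso r
      (hrp'.odd_of_ne_two hr2) hxr
  · have := hxker 1
    rw [pow_one, pow_one] at this
    rw [this, hker]

end Cfsg.Agent.S5989P
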