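import Mathlib
import Cfsg.Prelude.Def_ChevB2
import Cfsg.Prelude.Def_ChevStructure
import Cfsg.Agent.Helper28.B2Defs
set_option autoImplicit false
open Matrix Cfsg.Lie Cfsg.Agent.Helper28.Sg Cfsg.Agent.Helper28.B2

namespace Cfsg.Agent.Helper7.B2

variable {F : Type*} [Field F]

theorem sL_apply_inl (p q : H4) (c : F) (h : q ≠ p.swap) (x : J5 → F) :
    (mt (Q5 F) (sL p q c h) *ᵥ x) (Sum.inl ()) = x (Sum.inl ()) := by
  rw [sL_mulVec]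
  simp [d_apply]

theorem sL_apply_inr (p q : H4) (c : F) (h : q ≠ p.swap) (x : J5 → F) (s : H4) :
    (mt (Q5 F) (sL p q c h) *ᵥ x) (Sum.inr s) =
      x (Sum.inr s) + (if s = q then c * x (Sum.inr p.swap) else 0)
        - (if s = p then c * x (Sum.inr q.swap) else 0) := by
  rw [sL_mulVec]
  simp [d_apply]

theorem sS_apply_inl (p : H4) (c : F) (x : J5 → F) :
    (mt (Q5 F) (sS p c) *ᵥ x) (Sum.inl ()) = x (Sum.inl ()) + c * x (Sum.inr p.swap) := by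
  rw [sS_mulVec]
  simp [d_apply, z_apply]

theorem sS_apply_inr (p : H4) (c : F) (x : J5 → F) (s : H4) :
    (mt (Q5 F) (sS p c) *ᵥ x) (Sum.inr s) =
      x (Sum.inr s) - (if s = p then 2 * c * x (Sum.inl ()) + c * c * x (Sum.inr p.swap) else 0) := by
  rw [sS_mulVec]
  simp [d_apply, z_apply]
  split_ifs <;> ring

theorem swap_ne_self (p : H4) : p.swap ≠ p := by
  rcases p with p | p <;> simp

theorem Q5_eq (p r : H4) (hr1 : r ≠ p) (hr2 : r ≠ p.swap) (x : J5 → F) :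
    Q5 F x = x (Sum.inl ()) ^ 2 + x (Sum.inr p) * x (Sum.inr p.swap)
      + x (Sum.inr r) * x (Sum.inr r.swap) := by
  rw [Q5_apply]
  rcases p with p | p <;> rcases r with r | r <;> fin_cases p <;> fin_cases r <;>
    simp_all <;> ring

theorem H4_cases (p r : H4) (hr1 : r ≠ p) (hr2 : r ≠ p.swap) (s : H4) :
    s = p ∨ s = p.swap ∨ s = r ∨ s = r.swap := by
  rcases p with p | p <;> rcases r with r | r <;> rcases s with s | s <;>
    fin_cases p <;> fin_cases r <;> fin_cases s <;> simp_all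

theorem swap_ne_swap {r p : H4} (h : r ≠ p) : r.swap ≠ p.swap := by
  intro h'
  apply h
  have := congrArg Sum.swap h'
  simpa using this

theorem ne_swap_of_swap_ne {r p : H4} (h : r ≠ p.swap) : r.swap ≠ p := by
  intro h'
  apply h
  have := congrArg Sum.swap h'
  simpa using this

theorem sS_fix (p : H4) (c : F) (s : H4) (hs : s ≠ p.swap) :
    mt (Q5 F) (sS p c) *ᵥ (d s : J5 → F) = d s := by
  rw [sS_mulVec]
  have h1 : (d s : J5 → F) (Sum.inr p.swap) = 0 := by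
    rw [d_apply, if_neg]
    intro h
    exact hs (Sum.inr.inj h).symm
  have h2 : (d s : J5 → F) (Sum.inl ()) = 0 := by
    rw [d_apply, if_neg]
    simp
  rw [h1, h2]
  simp

theorem sL_fix (p q : H4) (c : F) (h : q ≠ p.swap) (s : H4) (hs1 : s ≠ p.swap)
    (hs2 : s ≠ q.swap) :
    mt (Q5 F) (sL p q c h) *ᵥ (d s : J5 → F) = d s := by
  rw [sL_mulVec]
  have h1 : (d s : J5 → F) (Sum.inr p.swap) = 0 := by
    rw [d_apply, if_neg]
    intro h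
    exact hs1 (Sum.inr.inj h).symm
  have h2 : (d s : J5 → F) (Sum.inr q.swap) = 0 := by
    rw [d_apply, if_neg]
    intro h
    exact hs2 (Sum.inr.inj h).symm
  rw [h1, h2]
  simp

/-- the three-move kill: a singular vector `y` with nonzero `p'`-coordinate is moved to
`y_{p'} • δ_{p'}` by a product of root elements `T(δ_p)`, which fixes `δ_p`. -/
theorem kill (R : Subgroup ↥(Cfsg.isometryGroup F ⇑(Q5 F)))
    (hL : ∀ (p q : H4) (c : F) (h : q ≠ p.swap), sL p q c h ∈ R)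
    (hS : ∀ (p : H4) (c : F), sS p c ∈ R)
    (p r : H4) (hr1 : r ≠ p) (hr2 : r ≠ p.swap) (y : J5 → F) (hy : Q5 F y = 0)
    (hβ : y (Sum.inr p.swap) ≠ 0) :
    ∃ ρ ∈ R, mt (Q5 F) ρ *ᵥ (d p : J5 → F) = d p ∧
      mt (Q5 F) ρ *ᵥ y = y (Sum.inr p.swap) • (d p.swap : J5 → F) := by
  have hpp : p.swap ≠ p := swap_ne_self p
  have hrr : r.swap ≠ r := swap_ne_self r
  have h3 : r.swap ≠ p.swap := swap_ne_swap hr1
  have h4 : r.swap ≠ p := ne_swap_of_swap_ne hr2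
  set β := y (Sum.inr p.swap) with hβdef
  -- step 1
  set y1 := mt (Q5 F) (sS p (-(y (Sum.inl ())) / β)) *ᵥ y with hy1
  have a1 : y1 (Sum.inl ()) = 0 := by
    rw [hy1, sS_apply_inl]
    field_simp
    ring
  have b1 : y1 (Sum.inr p.swap) = β := by
    rw [hy1, sS_apply_inr, if_neg hpp, sub_zero]
  -- step 2
  set y2 := mt (Q5 F) (sL p r (-(y1 (Sum.inr r)) / β) hr2) *ᵥ y1 with hy2
  have a2 : y2 (Sum.inl ()) = 0 := by
    rw [hy2, sL_apply_inl, a1]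
  have b2 : y2 (Sum.inr p.swap) = β := by
    rw [hy2, sL_apply_inr, if_neg (Ne.symm hr2), if_neg hpp, b1, add_zero, sub_zero]
  have c2 : y2 (Sum.inr r) = 0 := by
    rw [hy2, sL_apply_inr, if_pos rfl, if_neg hr1, b1, sub_zero]
    field_simp
    ring
  -- step 3
  set y3 := mt (Q5 F) (sL p r.swap (-(y2 (Sum.inr r.swap)) / β) h3) *ᵥ y2 with hy3
  have a3 : y3 (Sum.inl ()) = 0 := by
    rw [hy3, sL_apply_inl, a2]
  have b3 : y3 (Sum.inr p.swap) = β := by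
    rw [hy3, sL_apply_inr, if_neg (Ne.symm h3), if_neg hpp, b2, add_zero, sub_zero]
  have c3 : y3 (Sum.inr r) = 0 := by
    rw [hy3, sL_apply_inr, if_neg (Ne.symm hrr), if_neg hr1, c2, add_zero, sub_zero]
  have d3 : y3 (Sum.inr r.swap) = 0 := by
    rw [hy3, sL_apply_inr, if_pos rfl, if_neg h4, b2, sub_zero]
    field_simp
    ring
  have hQ3 : Q5 F y3 = 0 := by
    rw [hy3, Cfsg.Agent.Helper28.Spin.isom_apply, hy2, Cfsg.Agent.Helper28.Spin.isom_apply, hy1,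
      Cfsg.Agent.Helper28.Spin.isom_apply, hy]
  have e3 : y3 (Sum.inr p) = 0 := by
    rw [Q5_eq p r hr1 hr2, a3, b3, c3] at hQ3
    have : y3 (Sum.inr p) * β = 0 := by
      simpa using hQ3
    rcases mul_eq_zero.mp this with h | h
    · exact h
    · exact absurd h hβ
  refine ⟨sL p r.swap (-(y2 (Sum.inr r.swap)) / β) h3 * (sL p r (-(y1 (Sum.inr r)) / β) hr2 *
      sS p (-(y (Sum.inl ())) / β)), ?_, ?_, ?_⟩
  · exact R.mul_mem (hL _ _ _ _) (R.mul_mem (hL _ _ _ _) (hS _ _))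
  · rw [mt_mul_mulVec, mt_mul_mulVec, sS_fix p _ p hpp.symm, sL_fix p r _ hr2 p hpp.symm h4.symm,
      sL_fix p r.swap _ h3 p hpp.symm (by simpa using hr1.symm)]
  · rw [mt_mul_mulVec, mt_mul_mulVec, ← hy1, ← hy2, ← hy3]
    funext j
    rcases j with u | s
    · cases u
      rw [a3]
      simp [d_apply]
    · rcases H4_cases p r hr1 hr2 s with rfl | rfl | rfl | rfl
      · rw [e3]; simp [d_apply, hpp.symm]
      · rw [b3]; simp [d_apply]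
      · rw [c3]; simp [d_apply, hr2]
      · rw [d3]; simp [d_apply, h3]


/-- one-move kill: if the `r`-pair coordinates of a singular `w` vanish and `w_{p'} ≠ 0`, then
`sS p c` moves `w` to `w_{p'} • δ_{p'}`. -/
theorem kill2 (p r : H4) (hr1 : r ≠ p) (hr2 : r ≠ p.swap) (w : J5 → F) (hw : Q5 F w = 0)
    (h1 : w (Sum.inr r) = 0) (h2 : w (Sum.inr r.swap) = 0) (hβ : w (Sum.inr p.swap) ≠ 0) :
    mt (Q5 F) (sS p (-(w (Sum.inl ())) / w (Sum.inr p.swap))) *ᵥ w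
      = w (Sum.inr p.swap) • (d p.swap : J5 → F) := by
  have hpp : p.swap ≠ p := swap_ne_self p
  have h3 : r.swap ≠ p.swap := swap_ne_swap hr1
  have h4 : r.swap ≠ p := ne_swap_of_swap_ne hr2
  set β := w (Sum.inr p.swap) with hβdef
  set y1 := mt (Q5 F) (sS p (-(w (Sum.inl ())) / β)) *ᵥ w with hy1
  have a1 : y1 (Sum.inl ()) = 0 := by
    rw [hy1, sS_apply_inl]
    field_simp
    ring
  have b1 : y1 (Sum.inr p.swap) = β := by
    rw [hy1, sS_apply_inr, if_neg hpp, sub_zero]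
  have c1 : y1 (Sum.inr r) = 0 := by
    rw [hy1, sS_apply_inr, if_neg hr1, sub_zero, h1]
  have d1 : y1 (Sum.inr r.swap) = 0 := by
    rw [hy1, sS_apply_inr, if_neg h4, sub_zero, h2]
  have hQ : Q5 F y1 = 0 := by
    rw [hy1, Cfsg.Agent.Helper28.Spin.isom_apply, hw]
  have e1 : y1 (Sum.inr p) = 0 := by
    rw [Q5_eq p r hr1 hr2, a1, b1, c1] at hQ
    have : y1 (Sum.inr p) * β = 0 := by
      simpa using hQ
    rcases mul_eq_zero.mp this with h | h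
    · exact h
    · exact absurd h hβ
  funext j
  rcases j with u | s
  · cases u
    rw [a1]
    simp [d_apply]
  · rcases H4_cases p r hr1 hr2 s with rfl | rfl | rfl | rfl
    · rw [e1]; simp [d_apply, hpp.symm]
    · rw [b1]; simp [d_apply]
    · rw [c1]; simp [d_apply, hr2]
    · rw [d1]; simp [d_apply, h3]

theorem scal_ne_zero (g : ↥(Cfsg.isometryGroup F ⇑(Q5 F))) {x : J5 → F} (hx : x ≠ 0) {c : F}
    (h : mt (Q5 F) g *ᵥ x = c • x) : c ≠ 0 := by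
  rintro rfl
  apply hx
  have := mt_inv_mulVec (Q5 F) g x
  rw [h, zero_smul, Matrix.mulVec_zero] at this
  exact this.symm

theorem d_ne_zero (s : H4) : (d s : J5 → F) ≠ 0 := by
  intro h
  have := congrFun h (Sum.inr s)
  rw [d_apply, if_pos rfl] at this
  exact one_ne_zero this

theorem orth (g : ↥(Cfsg.isometryGroup F ⇑(Q5 F))) (s : H4) {c : F}
    (hg : mt (Q5 F) g *ᵥ (d s : J5 → F) = c • d s) (x : J5 → F)
    (hx : x (Sum.inr s.swap) = 0) : (mt (Q5 F) g *ᵥ x) (Sum.inr s.swap) = 0 := by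
  have hc : c ≠ 0 := scal_ne_zero g (d_ne_zero s) hg
  have h1 := B_isom (Q5 F) g (d s) x
  rw [hg, B_d] at h1
  simp only [B, QuadraticMap.polar_smul_left, smul_eq_mul] at h1
  rw [show QuadraticMap.polar ⇑(Q5 F) (d s) (mt (Q5 F) g *ᵥ x) =
    (mt (Q5 F) g *ᵥ x) (Sum.inr s.swap) from B_d s _, hx] at h1
  rcases mul_eq_zero.mp h1 with h | h
  · exact absurd h hc
  · exact h

theorem pairing (g : ↥(Cfsg.isometryGroup F ⇑(Q5 F))) (s : H4) {c : F}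
    (hg : mt (Q5 F) g *ᵥ (d s : J5 → F) = c • d s) :
    c * (mt (Q5 F) g *ᵥ (d s.swap : J5 → F)) (Sum.inr s.swap) = 1 := by
  have h1 := B_isom (Q5 F) g (d s) (d s.swap)
  rw [hg, B_d] at h1
  simp only [B, QuadraticMap.polar_smul_left, smul_eq_mul] at h1
  rw [show QuadraticMap.polar ⇑(Q5 F) (d s) (mt (Q5 F) g *ᵥ (d s.swap : J5 → F)) =
    (mt (Q5 F) g *ᵥ (d s.swap : J5 → F)) (Sum.inr s.swap) from B_d s _, d_apply, if_pos rfl] at h1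
  exact h1


theorem diag_of_cols (M : Matrix J5 J5 F)
    (h : ∀ j : J5, ∃ c : F, M *ᵥ (Pi.single j 1 : J5 → F) = c • (Pi.single j 1 : J5 → F)) :
    ∃ c : J5 → F, M = Matrix.diagonal c := by
  choose c hc using h
  refine ⟨c, ?_⟩
  ext i j
  have := congrFun (hc j) i
  rw [Matrix.mulVec_single_one] at this
  simp only [Matrix.col_apply, Pi.smul_apply, smul_eq_mul, Pi.single_apply] at this
  rw [this, Matrix.diagonal_apply]
  by_cases hij : i = j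
  · subst hij; simp
  · rw [if_neg hij, if_neg hij, mul_zero]

theorem vec_eq_zero {x : J5 → F} (h0 : x (Sum.inl ()) = 0) (h1 : x (Sum.inr (Sum.inl 0)) = 0)
    (h2 : x (Sum.inr (Sum.inl 1)) = 0) (h3 : x (Sum.inr (Sum.inr 0)) = 0)
    (h4 : x (Sum.inr (Sum.inr 1)) = 0) : x = 0 := by
  funext j
  rcases j with u | (i | i)
  · cases u; exact h0
  · fin_cases i
    · exact h1
    · exact h2
  · fin_cases i
    · exact h3
    · exact h4

/-- make the `e₁`-coordinate of a nonzero singular vector nonzero -/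
theorem nzA (R : Subgroup ↥(Cfsg.isometryGroup F ⇑(Q5 F)))
    (hL : ∀ (p q : H4) (c : F) (h : q ≠ p.swap), sL p q c h ∈ R)
    (hS : ∀ (p : H4) (c : F), sS p c ∈ R) (u : J5 → F) (hQ : Q5 F u = 0) (hu : u ≠ 0) :
    ∃ ρ ∈ R, (mt (Q5 F) ρ *ᵥ u) (Sum.inr (Sum.inl 0)) ≠ 0 := by
  by_cases h1 : u (Sum.inr (Sum.inl 0)) = 0
  swap
  · exact ⟨1, R.one_mem, by rwa [mt_one_mulVec]⟩
  by_cases h2 : u (Sum.inr (Sum.inr 1)) = 0
  swap
  · refine ⟨sL (Sum.inl 0) (Sum.inl 1) (-1) (by decide), hL _ _ _ _, ?_⟩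
    rw [sL_apply_inr, if_neg (by decide), if_pos rfl, h1]
    simpa using h2
  by_cases h3 : u (Sum.inr (Sum.inl 1)) = 0
  swap
  · refine ⟨sL (Sum.inl 0) (Sum.inr 1) (-1) (by decide), hL _ _ _ _, ?_⟩
    rw [sL_apply_inr, if_neg (by decide), if_pos rfl, h1]
    simpa using h3
  have h0 : u (Sum.inl ()) = 0 := by
    rw [Q5_apply, h1, h2, h3] at hQ
    simpa using hQ
  have h4 : u (Sum.inr (Sum.inr 0)) ≠ 0 := by
    intro h4
    exact hu (vec_eq_zero h0 h1 h3 h4 h2)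
  refine ⟨sS (Sum.inl 0) 1, hS _ _, ?_⟩
  rw [sS_apply_inr, if_pos rfl, h1, h0]
  simpa using h4

/-- make the `e₂`-coordinate nonzero for a singular vector in `⟨e₀, e₂, f₂⟩` -/
theorem nzC (w : J5 → F) (hQ : Q5 F w = 0) (hw : w ≠ 0) (h1 : w (Sum.inr (Sum.inl 0)) = 0)
    (h2 : w (Sum.inr (Sum.inr 0)) = 0) :
    ∃ c : F, (mt (Q5 F) (sS (Sum.inl 1) c) *ᵥ w) (Sum.inr (Sum.inl 1)) ≠ 0 := by
  by_cases h3 : w (Sum.inr (Sum.inl 1)) = 0
  swap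
  · refine ⟨0, ?_⟩
    rw [sS_apply_inr, if_pos rfl]
    simpa using h3
  have h0 : w (Sum.inl ()) = 0 := by
    rw [Q5_apply, h1, h3] at hQ
    simpa using hQ
  have h4 : w (Sum.inr (Sum.inr 1)) ≠ 0 := by
    intro h4
    exact hw (vec_eq_zero h0 h1 h3 h2 h4)
  refine ⟨1, ?_⟩
  rw [sS_apply_inr, if_pos rfl, h3, h0]
  simpa using h4

theorem mulVec_ne_zero (g : ↥(Cfsg.isometryGroup F ⇑(Q5 F))) {x : J5 → F} (hx : x ≠ 0) :
    mt (Q5 F) g *ᵥ x ≠ 0 := by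
  intro h
  apply hx
  have := mt_inv_mulVec (Q5 F) g x
  rw [h, Matrix.mulVec_zero] at this
  exact this.symm


theorem exists_diag (R : Subgroup ↥(Cfsg.isometryGroup F ⇑(Q5 F)))
    (hL : ∀ (p q : H4) (c : F) (h : q ≠ p.swap), sL p q c h ∈ R)
    (hS : ∀ (p : H4) (c : F), sS p c ∈ R) (g : ↥(Cfsg.isometryGroup F ⇑(Q5 F))) :
    ∃ ρ ∈ R, ∃ c : J5 → F, mt (Q5 F) (ρ * g) = Matrix.diagonal c := by
  -- Step A
  have hQu : Q5 F (mt (Q5 F) g *ᵥ (d (Sum.inl 0) : J5 → F)) = 0 := by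
    rw [Cfsg.Agent.Helper28.Spin.isom_apply, Q5_d]
  obtain ⟨ρ0, hρ0, hne⟩ := nzA R hL hS _ hQu (mulVec_ne_zero g (d_ne_zero _))
  have hQu' : Q5 F (mt (Q5 F) ρ0 *ᵥ (mt (Q5 F) g *ᵥ (d (Sum.inl 0) : J5 → F))) = 0 := by
    rw [Cfsg.Agent.Helper28.Spin.isom_apply, hQu]
  obtain ⟨ρ1, hρ1, -, hk1⟩ := kill R hL hS (Sum.inr 0) (Sum.inl 1) (by decide) (by decide) _ hQu' hne
  obtain ⟨cA, hcA⟩ : ∃ cA : F, mt (Q5 F) (ρ1 * ρ0 * g) *ᵥ (d (Sum.inl 0) : J5 → F)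
      = cA • d (Sum.inl 0) := by
    exact ⟨_, by rw [mul_assoc, mt_mul_mulVec, mt_mul_mulVec]; exact hk1⟩
  obtain ⟨g1, hg1⟩ : ∃ g1, g1 = ρ1 * ρ0 * g := ⟨_, rfl⟩
  rw [← hg1] at hcA
  -- Step B
  have hpair := pairing g1 (Sum.inl 0) hcA
  have hβ : (mt (Q5 F) g1 *ᵥ (d (Sum.inr 0) : J5 → F)) (Sum.inr (Sum.inr 0)) ≠ 0 := by
    intro h
    change cA * (mt (Q5 F) g1 *ᵥ (d (Sum.inr 0) : J5 → F)) (Sum.inr (Sum.inr 0)) = 1 at hpair
    rw [h, mul_zero] at hpair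
    exact zero_ne_one hpair
  have hQy : Q5 F (mt (Q5 F) g1 *ᵥ (d (Sum.inr 0) : J5 → F)) = 0 := by
    rw [Cfsg.Agent.Helper28.Spin.isom_apply, Q5_d]
  obtain ⟨ρ2, hρ2, hfix2, hk2⟩ := kill R hL hS (Sum.inl 0) (Sum.inl 1) (by decide) (by decide) _ hQy hβ
  obtain ⟨g2, hg2⟩ : ∃ g2, g2 = ρ2 * g1 := ⟨_, rfl⟩
  have hA2 : mt (Q5 F) g2 *ᵥ (d (Sum.inl 0) : J5 → F) = cA • d (Sum.inl 0) := by
    rw [hg2, mt_mul_mulVec, hcA, Matrix.mulVec_smul, hfix2]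
  obtain ⟨cB, hB2⟩ : ∃ cB : F, mt (Q5 F) g2 *ᵥ (d (Sum.inr 0) : J5 → F) = cB • d (Sum.inr 0) := by
    exact ⟨_, by rw [hg2, mt_mul_mulVec]; exact hk2⟩
  -- Step C
  have hw1 : (mt (Q5 F) g2 *ᵥ (d (Sum.inl 1) : J5 → F)) (Sum.inr (Sum.inr 0)) = 0 :=
    orth g2 (Sum.inl 0) hA2 _ (by rw [d_apply, if_neg (by decide)])
  have hw2 : (mt (Q5 F) g2 *ᵥ (d (Sum.inl 1) : J5 → F)) (Sum.inr (Sum.inl 0)) = 0 :=
    orth g2 (Sum.inr 0) hB2 _ (by rw [d_apply, if_neg (by decide)])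
  have hQw : Q5 F (mt (Q5 F) g2 *ᵥ (d (Sum.inl 1) : J5 → F)) = 0 := by
    rw [Cfsg.Agent.Helper28.Spin.isom_apply, Q5_d]
  obtain ⟨c3, hc3⟩ := nzC _ hQw (mulVec_ne_zero g2 (d_ne_zero _)) hw2 hw1
  have hQw' : Q5 F (mt (Q5 F) (sS (Sum.inl 1) c3) *ᵥ (mt (Q5 F) g2 *ᵥ (d (Sum.inl 1) : J5 → F))) = 0 := by
    rw [Cfsg.Agent.Helper28.Spin.isom_apply, hQw]
  have hw1' : (mt (Q5 F) (sS (Sum.inl 1) c3) *ᵥ (mt (Q5 F) g2 *ᵥ (d (Sum.inl 1) : J5 → F)))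
      (Sum.inr (Sum.inl 0)) = 0 := by
    rw [sS_apply_inr, if_neg (by decide), sub_zero, hw2]
  have hw2' : (mt (Q5 F) (sS (Sum.inl 1) c3) *ᵥ (mt (Q5 F) g2 *ᵥ (d (Sum.inl 1) : J5 → F)))
      (Sum.inr (Sum.inr 0)) = 0 := by
    rw [sS_apply_inr, if_neg (by decide), sub_zero, hw1]
  have hk3 := kill2 (Sum.inr 1) (Sum.inl 0) (by decide) (by decide) _ hQw' hw1' hw2' hc3
  obtain ⟨c3', hc3'⟩ : ∃ c3' : F, c3' = -((mt (Q5 F) (sS (Sum.inl 1) c3) *ᵥ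
      (mt (Q5 F) g2 *ᵥ (d (Sum.inl 1) : J5 → F))) (Sum.inl ())) /
      (mt (Q5 F) (sS (Sum.inl 1) c3) *ᵥ (mt (Q5 F) g2 *ᵥ (d (Sum.inl 1) : J5 → F)))
        (Sum.inr (Sum.inr 1 : H4).swap) := ⟨_, rfl⟩
  rw [← hc3'] at hk3
  obtain ⟨g3, hg3⟩ : ∃ g3, g3 = sS (Sum.inr 1) c3' * sS (Sum.inl 1) c3 * g2 := ⟨_, rfl⟩
  have hA3 : mt (Q5 F) g3 *ᵥ (d (Sum.inl 0) : J5 → F) = cA • d (Sum.inl 0) := by
    rw [hg3, mul_assoc, mt_mul_mulVec, mt_mul_mulVec, hA2, Matrix.mulVec_smul, Matrix.mulVec_smul,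
      sS_fix _ _ _ (by decide), sS_fix _ _ _ (by decide)]
  have hB3 : mt (Q5 F) g3 *ᵥ (d (Sum.inr 0) : J5 → F) = cB • d (Sum.inr 0) := by
    rw [hg3, mul_assoc, mt_mul_mulVec, mt_mul_mulVec, hB2, Matrix.mulVec_smul, Matrix.mulVec_smul,
      sS_fix _ _ _ (by decide), sS_fix _ _ _ (by decide)]
  obtain ⟨cC, hC3⟩ : ∃ cC : F, mt (Q5 F) g3 *ᵥ (d (Sum.inl 1) : J5 → F) = cC • d (Sum.inl 1) := by
    exact ⟨_, by rw [hg3, mul_assoc, mt_mul_mulVec, mt_mul_mulVec]; exact hk3⟩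
  -- Step D
  have hy1 : (mt (Q5 F) g3 *ᵥ (d (Sum.inr 1) : J5 → F)) (Sum.inr (Sum.inr 0)) = 0 :=
    orth g3 (Sum.inl 0) hA3 _ (by rw [d_apply, if_neg (by decide)])
  have hy2 : (mt (Q5 F) g3 *ᵥ (d (Sum.inr 1) : J5 → F)) (Sum.inr (Sum.inl 0)) = 0 :=
    orth g3 (Sum.inr 0) hB3 _ (by rw [d_apply, if_neg (by decide)])
  have hpair3 := pairing g3 (Sum.inl 1) hC3
  have hδ : (mt (Q5 F) g3 *ᵥ (d (Sum.inr 1) : J5 → F)) (Sum.inr (Sum.inr 1)) ≠ 0 := by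
    intro h
    change cC * (mt (Q5 F) g3 *ᵥ (d (Sum.inr 1) : J5 → F)) (Sum.inr (Sum.inr 1)) = 1 at hpair3
    rw [h, mul_zero] at hpair3
    exact zero_ne_one hpair3
  have hQy2 : Q5 F (mt (Q5 F) g3 *ᵥ (d (Sum.inr 1) : J5 → F)) = 0 := by
    rw [Cfsg.Agent.Helper28.Spin.isom_apply, Q5_d]
  have hk4 := kill2 (Sum.inl 1) (Sum.inl 0) (by decide) (by decide) _ hQy2 hy2 hy1 hδ
  obtain ⟨c4, hc4⟩ : ∃ c4 : F, c4 = -((mt (Q5 F) g3 *ᵥ (d (Sum.inr 1) : J5 → F)) (Sum.inl ())) /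
      (mt (Q5 F) g3 *ᵥ (d (Sum.inr 1) : J5 → F)) (Sum.inr (Sum.inl 1 : H4).swap) := ⟨_, rfl⟩
  rw [← hc4] at hk4
  obtain ⟨g4, hg4⟩ : ∃ g4, g4 = sS (Sum.inl 1) c4 * g3 := ⟨_, rfl⟩
  have hA4 : mt (Q5 F) g4 *ᵥ (d (Sum.inl 0) : J5 → F) = cA • d (Sum.inl 0) := by
    rw [hg4, mt_mul_mulVec, hA3, Matrix.mulVec_smul, sS_fix _ _ _ (by decide)]
  have hB4 : mt (Q5 F) g4 *ᵥ (d (Sum.inr 0) : J5 → F) = cB • d (Sum.inr 0) := by
    rw [hg4, mt_mul_mulVec, hB3, Matrix.mulVec_smul, sS_fix _ _ _ (by decide)]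
  have hC4 : mt (Q5 F) g4 *ᵥ (d (Sum.inl 1) : J5 → F) = cC • d (Sum.inl 1) := by
    rw [hg4, mt_mul_mulVec, hC3, Matrix.mulVec_smul, sS_fix _ _ _ (by decide)]
  obtain ⟨cD, hD4⟩ : ∃ cD : F, mt (Q5 F) g4 *ᵥ (d (Sum.inr 1) : J5 → F) = cD • d (Sum.inr 1) := by
    exact ⟨_, by rw [hg4, mt_mul_mulVec]; exact hk4⟩
  -- Step E
  have hz : ∀ s : H4, (z : J5 → F) (Sum.inr s) = 0 := by
    intro s
    rw [z_apply, if_neg (by simp)]
  have hv1 := orth g4 (Sum.inl 0) hA4 z (hz _)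
  have hv2 := orth g4 (Sum.inr 0) hB4 z (hz _)
  have hv3 := orth g4 (Sum.inl 1) hC4 z (hz _)
  have hv4 := orth g4 (Sum.inr 1) hD4 z (hz _)
  have hE4 : mt (Q5 F) g4 *ᵥ (z : J5 → F) = (mt (Q5 F) g4 *ᵥ (z : J5 → F)) (Sum.inl ()) • z := by
    funext j
    rcases j with u | (i | i)
    · cases u
      simp [z_apply]
    · fin_cases i
      · rw [show (mt (Q5 F) g4 *ᵥ (z : J5 → F)) (Sum.inr (Sum.inl ((fun i ↦ i) ⟨0, by decide⟩))) = 0
          from hv2]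
        simp [z_apply]
      · rw [show (mt (Q5 F) g4 *ᵥ (z : J5 → F)) (Sum.inr (Sum.inl ((fun i ↦ i) ⟨1, by decide⟩))) = 0
          from hv4]
        simp [z_apply]
    · fin_cases i
      · rw [show (mt (Q5 F) g4 *ᵥ (z : J5 → F)) (Sum.inr (Sum.inr ((fun i ↦ i) ⟨0, by decide⟩))) = 0
          from hv1]
        simp [z_apply]
      · rw [show (mt (Q5 F) g4 *ᵥ (z : J5 → F)) (Sum.inr (Sum.inr ((fun i ↦ i) ⟨1, by decide⟩))) = 0
          from hv3]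
        simp [z_apply]
  refine ⟨sS (Sum.inl 1) c4 * (sS (Sum.inr 1) c3' * sS (Sum.inl 1) c3) * ρ2 * (ρ1 * ρ0), ?_, ?_⟩
  · exact R.mul_mem (R.mul_mem (R.mul_mem (hS _ _) (R.mul_mem (hS _ _) (hS _ _))) hρ2)
      (R.mul_mem hρ1 hρ0)
  · have hg : sS (Sum.inl 1) c4 * (sS (Sum.inr 1) c3' * sS (Sum.inl 1) c3) * ρ2 * (ρ1 * ρ0) * g = g4 := by
      rw [hg4, hg3, hg2, hg1]
      simp only [mul_assoc]
    rw [hg]
    apply diag_of_cols
    intro j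
    rcases j with u | (i | i)
    · cases u
      exact ⟨_, hE4⟩
    · fin_cases i
      · exact ⟨_, hA4⟩
      · exact ⟨_, hC4⟩
    · fin_cases i
      · exact ⟨_, hB4⟩
      · exact ⟨_, hD4⟩

end Cfsg.Agent.Helper7.B2
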