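import Cfsg.Agent.Helper7.FieldPSp1

/-!
# Field automorphisms of `PSp_{2m}(q)`, part 2 (helper7)

Class splitting of the standard field automorphism of `PSp_{2m}(q)`.
-/

set_option autoImplicit false
set_option linter.unusedSectionVars false
set_option linter.unusedVariables false

namespace Cfsg.Agent.Helper7.FieldPSp

open Matrix Cfsg.Agent.Helper2.Sp
open Cfsg.Agent.Helper7.AutPSp
open Cfsg.Agent.Helper7.GraphPSL (mem_GSp_iff scalarGLgen scalarGLgen_mem scalarGLgen_coe)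
open Cfsg.Agent.Helper7.GraphSplit (Mult mem_GSp_of_mult spToGSp splitClassCount_eq_index)
open Cfsg.Agent.Helper7.FieldPSL (FDesc index_pow_sup)

variable {F : Type*} [Field F] {F₀ : Type*} [Field F₀] {m : ℕ}

local notation "Mt" => Matrix (Fin m ⊕ Fin m) (Fin m ⊕ Fin m) F
local notation "GLm" => GL (Fin m ⊕ Fin m) F

/-! ### an element with a given multiplier -/

/-- the diagonal entries `(λ, …, λ, 1, …, 1)` -/
def dvec (l : F) : Fin m ⊕ Fin m → F := Sum.elim (fun _ => l) (fun _ => 1)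

theorem dvec_mul (l l' : F) (i : Fin m ⊕ Fin m) : dvec (m := m) l i * dvec l' i = dvec (l * l') i := by
  rcases i with i | i <;> simp [dvec]

/-- the diagonal similitude with multiplier `λ` -/
def dGL (l : Fˣ) : GLm :=
  ⟨Matrix.diagonal (dvec (l : F)), Matrix.diagonal (dvec ((l⁻¹ : Fˣ) : F)), by
    rw [Matrix.diagonal_mul_diagonal]
    have : (fun i => dvec (m := m) (l : F) i * dvec ((l⁻¹ : Fˣ) : F) i) = fun _ => 1 := by
      funext i
      rw [dvec_mul, ← Units.val_mul, mul_inv_cancel, Units.val_one]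
      rcases i with i | i <;> simp [dvec]
    rw [this, Matrix.diagonal_one], by
    rw [Matrix.diagonal_mul_diagonal]
    have : (fun i => dvec (m := m) ((l⁻¹ : Fˣ) : F) i * dvec (l : F) i) = fun _ => 1 := by
      funext i
      rw [dvec_mul, ← Units.val_mul, inv_mul_cancel, Units.val_one]
      rcases i with i | i <;> simp [dvec]
    rw [this, Matrix.diagonal_one]⟩

theorem dGL_coe (l : Fˣ) : ((dGL l : GLm) : Mt) = Matrix.diagonal (dvec (l : F)) := rfl

theorem dGL_mult (l : Fˣ) : Mult m (dGL l : GLm) l := by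
  intro u v
  rw [om_eq_sum, om_eq_sum, Finset.mul_sum]
  apply Finset.sum_congr rfl
  intro i _
  rw [dGL_coe, Matrix.mulVec_diagonal, Matrix.mulVec_diagonal, Matrix.mulVec_diagonal,
    Matrix.mulVec_diagonal]
  simp only [dvec, Sum.elim_inl, Sum.elim_inr]
  ring

/-- the diagonal similitude as an element of `GSp` -/
def dGSp (l : Fˣ) : ↥(Cfsg.GSp m F) := ⟨dGL l, mem_GSp_of_mult (dGL_mult l)⟩

theorem muGSp_dGSp (hm : 1 ≤ m) (l : Fˣ) : muGSp hm (dGSp l : ↥(Cfsg.GSp m F)) = l :=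
  muGSp_eq hm (dGL_mult l)

theorem muGSp_surjective (hm : 1 ≤ m) :
    Function.Surjective (muGSp hm : ↥(Cfsg.GSp m F) →* Fˣ) :=
  fun l => ⟨dGSp l, muGSp_dGSp hm l⟩

/-! ### the subgroup inducing the inner automorphisms -/

/-- the squares of `Fˣ` -/
def sqF (F : Type*) [Field F] : Subgroup Fˣ := (powMonoidHom 2 : Fˣ →* Fˣ).range

theorem mem_sqF {c : Fˣ} : c ∈ sqF F ↔ ∃ ν : Fˣ, ν ^ 2 = c := Iff.rfl

/-- the similitudes with square multiplier -/
noncomputable def Ssub (hm : 1 ≤ m) : Subgroup ↥(Cfsg.GSp m F) := (sqF F).comap (muGSp hm)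

instance Ssub_normal (hm : 1 ≤ m) : (Ssub (F := F) hm).Normal :=
  Subgroup.Normal.comap (Subgroup.normal_of_comm _) _

theorem mem_Ssub (hm : 1 ≤ m) {x : ↥(Cfsg.GSp m F)} :
    x ∈ Ssub hm ↔ ∃ ν : Fˣ, ν ^ 2 = muGSp hm x := Iff.rfl

variable (p : ℕ) [Fact p.Prime] [CharP F p]

include p in
theorem map_cSp_Ssub (hm : 1 ≤ m) :
    (Ssub hm).map (cSp : ↥(Cfsg.GSp m F) →* _) = Cfsg.Inn (Cfsg.PSp m F) := by
  apply le_antisymm
  · rintro _ ⟨x, hx, rfl⟩
    obtain ⟨ν, hν⟩ := (mem_Ssub hm).1 hx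
    exact cSp_mem_Inn_of_sq hm hν.symm
  · rintro _ ⟨y, rfl⟩
    obtain ⟨g, rfl⟩ := prS_surjective y
    refine ⟨spToGSp m F g, ?_, (conj_eq_cSp g).symm⟩
    show spToGSp m F g ∈ Ssub hm
    rw [mem_Ssub, muGSp_spToGSp]
    exact ⟨1, one_pow 2⟩

variable (E : FDesc F F₀)

include p in
/-- the multipliers of the similitudes centralizing the standard field automorphism -/
theorem map_mu_sup (hm : 1 ≤ m) (hσ : 0 < orderOf E.σ) :
    (Ssub hm ⊔ (Subgroup.centralizer {(phiSp E.σ : MulAut (Cfsg.PSp m F))}).comap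
        (cSp : ↥(Cfsg.GSp m F) →* _)).map (muGSp hm)
      = sqF F ⊔ (Units.map (E.j : F₀ →* F)).range := by
  rw [Subgroup.map_sup]
  have h1 : (Ssub (F := F) hm).map (muGSp hm) = sqF F :=
    Subgroup.map_comap_eq_self_of_surjective (muGSp_surjective hm) _
  rw [h1]
  apply le_antisymm
  · apply sup_le le_sup_left
    rintro _ ⟨x, hx, rfl⟩
    have hx' : cSp x ∈ Subgroup.centralizer {(phiSp E.σ : MulAut (Cfsg.PSp m F))} := hx
    obtain ⟨c, hc⟩ := (cSp_mem_centralizer_iff p hm _ x).1 hx'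
    obtain ⟨μ, k, hk⟩ := exists_scalar_mul_jGLs E hm hσ x.1 c hc
    have hkG : jGLs E k ∈ Cfsg.GSp m F := by
      have : jGLs E k = (scalarGLgen μ)⁻¹ * (x : GLm) := by
        rw [hk, inv_mul_cancel_left]
      rw [this]
      exact Subgroup.mul_mem _ (Subgroup.inv_mem _ (scalarGSp μ).2) x.2
    have hk0 : k ∈ Cfsg.GSp m F₀ := (jGLs_mem_GSp_iff E hm k).1 hkG
    have h2 : x = scalarGSp μ * jGSp E hm ⟨k, hk0⟩ := Subtype.ext hk
    rw [h2, map_mul, muGSp_scalarGSp, muGSp_jGSp]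
    exact Subgroup.mul_mem_sup ⟨μ, rfl⟩ ⟨_, rfl⟩
  · apply sup_le le_sup_left
    rintro _ ⟨c₀, rfl⟩
    apply Subgroup.mem_sup_right
    refine ⟨jGSp E hm (dGSp c₀), ?_, ?_⟩
    · show cSp (jGSp E hm (dGSp c₀))
        ∈ Subgroup.centralizer {(phiSp E.σ : MulAut (Cfsg.PSp m F))}
      have h2 : psiSpF E hm (dGSp c₀)
          ∈ Cfsg.inndiagPSp m F ⊓ Subgroup.centralizer {phiSp E.σ} := by
        rw [← range_psiSpF E p hm hσ]
        exact ⟨_, rfl⟩
      exact h2.2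
    · rw [muGSp_jGSp, muGSp_dGSp]

include p in
/-- **the class-splitting count of the standard field automorphism of `PSp_{2m}(q)`** -/
theorem splitClassCount_phiSp [Fintype F] [Fintype F₀] (hm : 1 ≤ m) (hσ : 0 < orderOf E.σ) :
    Cfsg.splitClassCount (Cfsg.inndiagPSp m F) (Cfsg.Inn (Cfsg.PSp m F))
        (phiSp E.σ : MulAut (Cfsg.PSp m F))
      = Nat.gcd 2 ((Fintype.card F - 1) / (Fintype.card F₀ - 1)) := by
  classical
  have h1 := splitClassCount_eq_index (cSp : ↥(Cfsg.GSp m F) →* _) (Ssub hm)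
    (phiSp E.σ : MulAut (Cfsg.PSp m F))
  rw [map_cSp_Ssub p hm, ← inndiagPSp_eq_range] at h1
  rw [h1]
  -- pass to the multipliers
  have h2 := Subgroup.index_map (Ssub hm ⊔ (Subgroup.centralizer
    {(phiSp E.σ : MulAut (Cfsg.PSp m F))}).comap (cSp : ↥(Cfsg.GSp m F) →* _)) (muGSp hm)
  have hker : (muGSp hm : ↥(Cfsg.GSp m F) →* Fˣ).ker ≤ Ssub hm := by
    intro x hx
    rw [MonoidHom.mem_ker] at hx
    rw [mem_Ssub, hx]
    exact ⟨1, one_pow 2⟩
  have h3 : (Ssub hm ⊔ (Subgroup.centralizer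
      {(phiSp E.σ : MulAut (Cfsg.PSp m F))}).comap (cSp : ↥(Cfsg.GSp m F) →* _))
        ⊔ (muGSp hm : ↥(Cfsg.GSp m F) →* Fˣ).ker
      = Ssub hm ⊔ (Subgroup.centralizer
      {(phiSp E.σ : MulAut (Cfsg.PSp m F))}).comap (cSp : ↥(Cfsg.GSp m F) →* _) :=
    sup_eq_left.2 (le_trans hker le_sup_left)
  have h4 : (muGSp hm : ↥(Cfsg.GSp m F) →* Fˣ).range = ⊤ :=
    MonoidHom.range_eq_top.2 (muGSp_surjective hm)
  rw [h3, h4, Subgroup.index_top, mul_one] at h2
  rw [← h2, map_mu_sup p E hm hσ]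
  unfold sqF
  rw [index_pow_sup, Nat.card_eq_fintype_card, Fintype.card_units,
    ← Nat.card_congr (MonoidHom.ofInjective
      (Units.map_injective (f := (E.j : F₀ →* F)) E.j.injective)).toEquiv,
    Nat.card_eq_fintype_card, Fintype.card_units]

end Cfsg.Agent.Helper7.FieldPSp
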