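import Cfsg.Agent.Helper7.AutPSp19
import Cfsg.Agent.Helper7.FieldPSp2
import Cfsg.Agent.Helper7.AutPSL18
import Cfsg.Agent.S0270

/-!
# Automorphisms of `PSp_{2m}`, part 20 (helper7)

The order of the group `PΓSp_{2m}(q)` of automorphisms induced by semisimilarities, and hence
of `Aut(PSp_{2m}(q))` for `(2m, p) ≠ (4, 2)`.
-/

set_option autoImplicit false
set_option linter.unusedSectionVars false
set_option linter.unusedVariables false

namespace Cfsg.Agent.Helper7.AutPSp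

open Matrix Cfsg.Agent.Helper2.Sp Module Cfsg.Agent.Helper7.GraphSplit Cfsg.Agent.Helper7.FieldPSp

theorem card_inn_of_center_eq_bot {G : Type*} [Group G] (h : Subgroup.center G = ⊥) :
    Nat.card (Cfsg.Inn G) = Nat.card G := by
  have hinj : Function.Injective (MulAut.conj : G →* MulAut G) := by
    rw [injective_iff_map_eq_one]
    intro g hg
    have : g ∈ Subgroup.center G := by
      rw [Subgroup.mem_center_iff]
      intro x
      have h1 := congrArg (fun φ : MulAut G => φ x) hg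
      simp only [MulAut.conj_apply, MulAut.one_apply] at h1
      calc x * g = (g * x * g⁻¹) * g := by rw [h1]
        _ = g * x := by group
    rw [h] at this
    exact this
  exact (Nat.card_congr (MonoidHom.ofInjective hinj).toEquiv).symm

variable {F : Type*} [Field F] [Fintype F] {m : ℕ}

local notation "V" => (Fin m ⊕ Fin m → F)
local notation "Mt" => Matrix (Fin m ⊕ Fin m) (Fin m ⊕ Fin m) F
local notation "SpG" => Matrix.symplecticGroup (Fin m) F
local notation "GLm" => GL (Fin m ⊕ Fin m) F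

variable (p : ℕ) [Fact p.Prime] [CharP F p]

include p in
theorem center_PSp_eq_bot (hm : 2 ≤ m) (h : m = 2 → 3 ≤ Fintype.card F) :
    Subgroup.center (Cfsg.PSp m F) = ⊥ := by
  have hm1 : 1 ≤ m := by omega
  haveI := Cfsg.Agent.S0270.result (F := F) m hm h
  rcases Subgroup.Normal.eq_bot_or_eq_top
    (inferInstance : (Subgroup.center (Cfsg.PSp m F)).Normal) with h0 | h0
  · exact h0
  · exfalso
    obtain ⟨e, f, H⟩ := exists_std_pair (F := F) hm1
    have he0 := e_ne_zero H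
    have := orth_of_Tb_commute p hm1 (e' := f) he0 (by
      intro x hx y hy
      have hx' : x ∈ Subgroup.center (Cfsg.PSp m F) := by rw [h0]; exact Subgroup.mem_top _
      exact (Subgroup.mem_center_iff.1 hx' y).symm)
    rw [H] at this
    exact one_ne_zero this

include p in
/-- the order of the inner-diagonal group -/
theorem card_range_cSp (hm : 2 ≤ m) (h : m = 2 → 3 ≤ Fintype.card F) :
    Nat.card (cSp : ↥(Cfsg.GSp m F) →* MulAut (Cfsg.PSp m F)).range
      = Nat.gcd 2 (Fintype.card F - 1) * Nat.card (Cfsg.PSp m F) := by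
  have hm1 : 1 ≤ m := by omega
  have hInn := map_cSp_Ssub (F := F) p hm1
  have hle : Cfsg.Inn (Cfsg.PSp m F) ≤ (cSp : ↥(Cfsg.GSp m F) →* _).range := by
    rw [← hInn]
    rintro _ ⟨x, -, rfl⟩
    exact ⟨x, rfl⟩
  -- the index of `Ssub`
  have hidx : (Ssub (F := F) hm1).index = Nat.gcd 2 (Fintype.card F - 1) := by
    unfold Ssub
    rw [Subgroup.index_comap_of_surjective _ (muGSp_surjective hm1)]
    unfold sqF
    rw [index_pow_range, Nat.gcd_comm]
  -- kernel of `cSp` lies in `Ssub`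
  have hker : (cSp : ↥(Cfsg.GSp m F) →* MulAut (Cfsg.PSp m F)).ker ≤ Ssub hm1 := by
    intro x hx
    rw [MonoidHom.mem_ker, cSp_eq_one_iff p hm1] at hx
    obtain ⟨ν, hν⟩ := exists_scalar_of_mem hx
    rw [mem_Ssub]
    refine ⟨ν, ?_⟩
    have hx' : x = scalarGSp ν := Subtype.ext (by rw [scalarGSp_coe]; exact hν)
    rw [hx', muGSp_scalarGSp]
  have h1 := Subgroup.index_map (Ssub (F := F) hm1)
    (cSp : ↥(Cfsg.GSp m F) →* MulAut (Cfsg.PSp m F))
  rw [hInn, sup_eq_left.2 hker, hidx] at h1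
  have h2 := Subgroup.card_mul_index (Cfsg.Inn (Cfsg.PSp m F))
  have h3 := Subgroup.card_mul_index (cSp : ↥(Cfsg.GSp m F) →* MulAut (Cfsg.PSp m F)).range
  rw [h1, card_inn_of_center_eq_bot (center_PSp_eq_bot p hm h)] at h2
  have hpos : 0 < (cSp : ↥(Cfsg.GSp m F) →* MulAut (Cfsg.PSp m F)).range.index :=
    Nat.pos_of_ne_zero Subgroup.index_ne_zero_of_finite
  apply Nat.eq_of_mul_eq_mul_right hpos
  rw [h3, ← h2]
  ring


/-! ### the group of semisimilarity automorphisms -/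

omit [Fintype F] in
theorem phiSp_symm_cSp (τ : F ≃+* F) (x : ↥(Cfsg.GSp m F)) :
    (phiSp τ)⁻¹ * cSp x = cSp (tauGSp τ⁻¹ x) * (phiSp τ)⁻¹ := by
  have h := phiSp_cSp τ⁻¹ x
  rwa [map_inv] at h

/-- the group of automorphisms induced by semisimilarities -/
def semiSp (m : ℕ) (F : Type*) [Field F] : Subgroup (MulAut (Cfsg.PSp m F)) where
  carrier := {α | ∃ (x : ↥(Cfsg.GSp m F)) (τ : F ≃+* F), α = cSp x * phiSp τ}
  one_mem' := ⟨1, 1, by rw [map_one, map_one, mul_one]⟩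
  mul_mem' := by
    rintro _ _ ⟨x, τ, rfl⟩ ⟨y, ρ, rfl⟩
    refine ⟨x * tauGSp τ y, τ * ρ, ?_⟩
    rw [map_mul, map_mul, mul_assoc, ← mul_assoc (phiSp τ), phiSp_cSp, mul_assoc, mul_assoc]
  inv_mem' := by
    rintro _ ⟨x, τ, rfl⟩
    refine ⟨tauGSp τ⁻¹ x⁻¹, τ⁻¹, ?_⟩
    rw [_root_.mul_inv_rev, ← map_inv cSp, phiSp_symm_cSp, map_inv phiSp]

omit [Fintype F] in
theorem mem_semiSp {α : MulAut (Cfsg.PSp m F)} :
    α ∈ semiSp m F ↔ ∃ (x : ↥(Cfsg.GSp m F)) (τ : F ≃+* F), α = cSp x * phiSp τ := Iff.rfl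

omit [Fintype F] in
theorem inn_le_semiSp : Cfsg.Inn (Cfsg.PSp m F) ≤ semiSp m F := by
  rintro _ ⟨y, rfl⟩
  obtain ⟨g, rfl⟩ := prS_surjective y
  exact ⟨spToGSp m F g, 1, by rw [map_one, mul_one]; exact conj_eq_cSp g⟩

/-- a counting lemma: a subgroup `R = N · θ(H)` with `θ(H) ∩ N = 1` (in the strong sense) -/
theorem card_subgroup_of_decomp {G H : Type*} [Group G] [Group H] (R N : Subgroup G) (θ : H →* G)
    (h1 : ∀ x, θ x ∈ N → x = 1) (h2 : ∀ α : G, α ∈ R ↔ ∃ a ∈ N, ∃ x, α = a * θ x) :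
    Nat.card R = Nat.card N * Nat.card H := by
  rw [← Nat.card_prod]
  symm
  apply Nat.card_congr
  refine Equiv.ofBijective (fun y : N × H => (⟨(y.1 : G) * θ y.2,
    (h2 _).2 ⟨y.1, y.1.2, y.2, rfl⟩⟩ : R)) ⟨?_, ?_⟩
  · rintro ⟨a, x⟩ ⟨b, y⟩ h
    have h := congrArg Subtype.val h
    simp only at h
    have h3 : θ (x * y⁻¹) ∈ N := by
      have : θ (x * y⁻¹) = (a : G)⁻¹ * b := by
        rw [map_mul, map_inv, mul_inv_eq_iff_eq_mul, mul_assoc, eq_inv_mul_iff_mul_eq, h]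
      rw [this]
      exact N.mul_mem (N.inv_mem a.2) b.2
    have h4 := h1 _ h3
    have hxy : x = y := by rwa [mul_inv_eq_one] at h4
    subst hxy
    have : (a : G) = b := mul_right_cancel h
    exact Prod.ext (Subtype.ext this) rfl
  · rintro ⟨α, hα⟩
    obtain ⟨a, ha, x, rfl⟩ := (h2 α).1 hα
    exact ⟨(⟨a, ha⟩, x), rfl⟩

/-- **the order of `PΓSp_{2m}(q)`** -/
theorem card_semiSp {p f : ℕ} [Fact p.Prime] (hf : 1 ≤ f) (hF : Fintype.card F = p ^ f)
    (hm : 2 ≤ m) (h : m = 2 → 3 ≤ Fintype.card F) :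
    Nat.card (semiSp m F) = Nat.gcd 2 (p ^ f - 1) * f * Nat.card (Cfsg.PSp m F) := by
  have hchar : CharP F p := charP_of_card_eq_prime_pow hF
  have hm1 : 1 ≤ m := by omega
  rw [card_subgroup_of_decomp (semiSp m F)
    (cSp : ↥(Cfsg.GSp m F) →* MulAut (Cfsg.PSp m F)).range phiSp, card_range_cSp p hm h,
    Cfsg.Agent.Helper7.AutPSL.card_ringAut hf hF, hF]
  · ring
  · rintro τ ⟨x, hx⟩
    exact phiSp_eq_cSp p hm1 τ x hx.symm
  · intro α
    rw [mem_semiSp]
    constructor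
    · rintro ⟨x, τ, rfl⟩
      exact ⟨cSp x, ⟨x, rfl⟩, τ, rfl⟩
    · rintro ⟨_, ⟨x, rfl⟩, τ, rfl⟩
      exact ⟨x, τ, rfl⟩

/-- **the order of `Aut(PSp_{2m}(q))`**, `(2m, p) ≠ (4, 2)` -/
theorem card_aut_psp_generic {p f : ℕ} [Fact p.Prime] (hf : 1 ≤ f)
    (hF : Fintype.card F = p ^ f) (hm : 2 ≤ m) (h : m = 2 → 3 ≤ Fintype.card F)
    (h4 : m = 2 → p ≠ 2) :
    Nat.card (MulAut (Cfsg.PSp m F))
      = Nat.gcd 2 (p ^ f - 1) * f * Nat.card (Cfsg.PSp m F) := by
  have hchar : CharP F p := charP_of_card_eq_prime_pow hF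
  rw [← card_semiSp hf hF hm h]
  have : semiSp m F = ⊤ := by
    rw [eq_top_iff]
    intro α _
    exact aut_PSp_all (p := p) hm h4 α
  rw [this]
  exact (Nat.card_congr Subgroup.topEquiv.toEquiv).symm

end Cfsg.Agent.Helper7.AutPSp
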