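import Cfsg.Agent.Helper7.FieldPSp4

/-!
# Field automorphisms of `PSp_{2m}(q)`, part 5 (helper7)

The power formula for `c_g φ_σ`, the symplectic Lang-type theorem, and the coset-conjugacy theorem
for field automorphisms of prime order of `PSp_{2m}(q)`.
-/

set_option autoImplicit false
set_option linter.unusedSectionVars false
set_option linter.unusedVariables false

namespace Cfsg.Agent.Helper7.FieldPSp

open Matrix Cfsg.Agent.Helper2.Sp
open Cfsg.Agent.Helper7.AutPSp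
open Cfsg.Agent.Helper7.GraphPSL (mem_GSp_iff scalarGLgen scalarGLgen_mem scalarGLgen_coe)
open Cfsg.Agent.Helper7.GraphSplit (Mult mem_GSp_of_mult)
open Cfsg.Agent.Helper7.FieldPSL (FDesc nrmF nrmF_zero nrmF_succ hilbert90 exists_norm_eq
  orderOf_pos_ringAut orderOf_conj' isConjUnder_conj_iff)

variable {F : Type*} [Field F] {F₀ : Type*} [Field F₀] {m : ℕ}

local notation "Mt" => Matrix (Fin m ⊕ Fin m) (Fin m ⊕ Fin m) F
local notation "Mt₀" => Matrix (Fin m ⊕ Fin m) (Fin m ⊕ Fin m) F₀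
local notation "GLm" => GL (Fin m ⊕ Fin m) F
local notation "GLm₀" => GL (Fin m ⊕ Fin m) F₀

section power

/-- partial norms in the group of symplectic similitudes -/
def nrmGSp (σ : F ≃+* F) (g : ↥(Cfsg.GSp m F)) : ℕ → ↥(Cfsg.GSp m F)
  | 0 => 1
  | i + 1 => g * tauGSp σ (nrmGSp σ g i)

theorem nrmGSp_coe (σ : F ≃+* F) (g : ↥(Cfsg.GSp m F)) (i : ℕ) :
    (((nrmGSp σ g i : ↥(Cfsg.GSp m F)) : GLm) : Mt) = nrmMs σ ((g : GLm) : Mt) i := by
  induction i with
  | zero => rfl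
  | succ i ih =>
    show (((g * tauGSp σ (nrmGSp σ g i) : ↥(Cfsg.GSp m F)) : GLm) : Mt) = _
    rw [Subgroup.coe_mul, Units.val_mul, tauGSp_coe, tauGLs_coe, ih]
    rfl

/-- **the power formula** -/
theorem cSp_mul_phiSp_pow (σ : F ≃+* F) (g : ↥(Cfsg.GSp m F)) (i : ℕ) :
    (cSp g * phiSp σ : MulAut (Cfsg.PSp m F)) ^ i
      = cSp (nrmGSp σ g i) * phiSp (σ ^ i) := by
  induction i with
  | zero =>
    rw [pow_zero, pow_zero]
    show 1 = cSp 1 * phiSp 1
    rw [map_one, map_one, one_mul]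
  | succ i ih =>
    rw [pow_succ', ih]
    show _ = cSp (g * tauGSp σ (nrmGSp σ g i)) * phiSp (σ ^ (i + 1))
    rw [map_mul, pow_succ', map_mul]
    calc cSp g * phiSp σ * (cSp (nrmGSp σ g i) * phiSp (σ ^ i))
        = cSp g * (phiSp σ * cSp (nrmGSp σ g i)) * phiSp (σ ^ i) := by group
      _ = cSp g * (cSp (tauGSp σ (nrmGSp σ g i)) * phiSp σ) * phiSp (σ ^ i) := by
          rw [phiSp_cSp]
      _ = _ := by group

end power

section lang

variable (E : FDesc F F₀) (p : ℕ) [Fact p.Prime] [CharP F p]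

include p in
/-- **the symplectic Lang-type theorem** -/
theorem conj_of_pow_eq_one_Sp [Finite F] [Finite F₀] (hm : 1 ≤ m)
    (hσ : 0 < orderOf E.σ) (g : ↥(Cfsg.GSp m F))
    (h : (cSp g * phiSp E.σ : MulAut (Cfsg.PSp m F)) ^ (orderOf E.σ) = 1) :
    ∃ B : ↥(Cfsg.GSp m F), (cSp g * phiSp E.σ : MulAut (Cfsg.PSp m F))
      = cSp B * phiSp E.σ * (cSp B)⁻¹ := by
  classical
  obtain ⟨σ, hσdef⟩ : ∃ σ : F ≃+* F, σ = E.σ := ⟨_, rfl⟩
  rw [← hσdef] at h hσ ⊢
  set r := orderOf σ with hr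
  set G : Mt := ((g : GLm) : Mt) with hG
  have hne : Nonempty (Fin m ⊕ Fin m) := ⟨Sum.inl ⟨0, by omega⟩⟩
  have hG0 : G ≠ 0 := by
    intro h0
    have h4 := (g : GLm).isUnit.map Matrix.detMonoidHom
    rw [Matrix.coe_detMonoidHom, ← hG, h0, Matrix.det_zero] at h4
    exact not_isUnit_zero h4
  rw [cSp_mul_phiSp_pow, pow_orderOf_eq_one, map_one, mul_one, cSp_eq_one_iff p hm,
    Cfsg.Geo.mem_scalars_iff] at h
  obtain ⟨c, hc⟩ := h
  rw [nrmGSp_coe] at hc
  -- `c` is fixed by `σ`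
  have hcfix : σ (c : F) = c := by
    have e1 := nrmMs_succ σ G r
    have e2 := nrmMs_succ' σ G r
    rw [hr, pow_orderOf_eq_one, ← hr] at e2
    have e3 : G.map (1 : F ≃+* F) = G := by
      ext a b
      rfl
    rw [e3, e1, hc] at e2
    have e4 : ((c : F) • (1 : Mt)).map σ = σ (c : F) • (1 : Mt) := by
      ext a b
      simp only [Matrix.map_apply, Matrix.smul_apply, Matrix.one_apply, smul_eq_mul, map_mul]
      by_cases hab : a = b
      · simp [hab]
      · simp [hab]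
    rw [e4, Matrix.mul_smul, Matrix.mul_one, Matrix.smul_mul, Matrix.one_mul] at e2
    have e5 : (σ (c : F) - c) • G = 0 := by rw [sub_smul, e2, sub_self]
    rcases smul_eq_zero.1 e5 with h' | h'
    · exact sub_eq_zero.1 h'
    · exact absurd h' hG0
  have hcinvfix : σ ((c⁻¹ : Fˣ) : F) = ((c⁻¹ : Fˣ) : F) := by
    rw [Units.val_inv_eq_inv_val, map_inv₀, hcfix]
  obtain ⟨ν, hν⟩ := exists_norm_eq σ c⁻¹ hcinvfix
  have hN : nrmMs σ ((ν : F) • G) r = 1 := by
    rw [nrmMs_smul, hc, hν, smul_smul, Units.inv_mul, one_smul]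
  obtain ⟨A, hA, hGA⟩ := speiser_gen σ ((ν : F) • G) hN hσ
  set A' : GLm := hA.unit with hA'
  have hAA : (A' : Mt) = A := rfl
  set g' : ↥(Cfsg.GSp m F) := scalarGSp ν * g with hg'
  have hg'coe : ((g' : GLm) : Mt) = (ν : F) • G := by
    rw [hg', Subgroup.coe_mul, scalarGSp_coe, scalarGLgen_mul_coe]
  have key : (g' : GLm) * tauGLs σ A' = A' := by
    apply Units.ext
    rw [Units.val_mul, hg'coe, tauGLs_coe, hAA]
    exact hGA
  -- the alternating matrix `P = Aᵀ J A`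
  obtain ⟨lam, hlam⟩ : ∃ lam : Fˣ, lam = muGSp hm g' := ⟨_, rfl⟩
  have hmult : ((g' : GLm) : Mt)ᵀ * J (Fin m) F * ((g' : GLm) : Mt) = (lam : F) • J (Fin m) F := by
    rw [← mult_iff_matrix, hlam]
    exact muGSp_spec hm g'
  obtain ⟨P, hP⟩ : ∃ P : Mt, P = Aᵀ * J (Fin m) F * A := ⟨_, rfl⟩
  have hJu : IsUnit (J (Fin m) F) :=
    (Matrix.isUnit_iff_isUnit_det _).2 (Matrix.isUnit_det_J (Fin m) F)
  have hPu : IsUnit P := by
    rw [hP]
    exact (((Matrix.isUnit_transpose A).2 hA).mul hJu).mul hA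
  have hJσ : (J (Fin m) F).map σ = J (Fin m) F := J_map (m := m) (σ : F →+* F)
  have hPσ' : P = (lam : F) • P.map σ := by
    have e1 : P.map σ = (A.map σ)ᵀ * J (Fin m) F * A.map σ := by
      rw [hP, Matrix.map_mul, Matrix.map_mul, Matrix.transpose_map, hJσ]
    have e2 : ((g' : GLm) : Mt) * A.map σ = A := by
      rw [hg'coe]
      exact hGA
    calc P = (((g' : GLm) : Mt) * A.map σ)ᵀ * J (Fin m) F * (((g' : GLm) : Mt) * A.map σ) := by
          rw [e2, hP]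
      _ = (A.map σ)ᵀ * (((g' : GLm) : Mt)ᵀ * J (Fin m) F * ((g' : GLm) : Mt)) * A.map σ := by
          rw [Matrix.transpose_mul]
          simp only [Matrix.mul_assoc]
      _ = (lam : F) • ((A.map σ)ᵀ * J (Fin m) F * A.map σ) := by
          rw [hmult, Matrix.mul_smul, Matrix.smul_mul]
      _ = (lam : F) • P.map σ := by rw [e1]
  have hPσ : P.map σ = ((lam⁻¹ : Fˣ) : F) • P := by
    conv_rhs => rw [hPσ']
    rw [smul_smul, Units.inv_mul, one_smul]
  set P' : GLm := hPu.unit with hP'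
  have hPP : (P' : Mt) = P := rfl
  have hE1 : ((tauGLs E.σ P' : GLm) : Mt) = ((lam⁻¹ : Fˣ) : F) • (P' : Mt) := by
    rw [← hσdef, tauGLs_coe, hPP]
    exact hPσ
  obtain ⟨μ, k, hk⟩ := exists_scalar_mul_jGLs E hm (by rw [← hσdef]; exact hσ) P' lam⁻¹ hE1
  have hPk : P = (μ : F) • ((k : GLm₀) : Mt₀).map E.j := by
    rw [← hPP, hk, scalarGLgen_mul_coe, jGLs_coe]
  -- the descended matrix is alternating
  have hPalt : ∀ u : Fin m ⊕ Fin m → F, u ⬝ᵥ (P *ᵥ u) = 0 := by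
    intro u
    rw [hP, ← om_mulVec]
    exact om_self _
  have hkalt : ∀ u₀ : Fin m ⊕ Fin m → F₀, u₀ ⬝ᵥ (((k : GLm₀) : Mt₀) *ᵥ u₀) = 0 := by
    intro u₀
    apply E.j.injective
    rw [map_zero, RingHom.map_dotProduct]
    have e1 : (E.j ∘ (((k : GLm₀) : Mt₀) *ᵥ u₀)) = ((k : GLm₀) : Mt₀).map E.j *ᵥ (E.j ∘ u₀) := by
      funext i
      exact RingHom.map_mulVec E.j _ u₀ i
    rw [e1]
    have e2 := hPalt (E.j ∘ u₀)
    rw [hPk, Matrix.smul_mulVec, dotProduct_smul, smul_eq_mul] at e2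
    rcases mul_eq_zero.1 e2 with h' | h'
    · exact absurd h' μ.ne_zero
    · exact h'
  obtain ⟨a₀, ha₀⟩ := exists_gram_alt ((k : GLm₀) : Mt₀) (k : GLm₀).isUnit hkalt
  set a : GLm := jGLs E a₀ with ha
  have haP : (a : Mt)ᵀ * J (Fin m) F * (a : Mt) = ((k : GLm₀) : Mt₀).map E.j := by
    rw [ha, jGLs_coe, ← ha₀, Matrix.map_mul, Matrix.map_mul, Matrix.transpose_map,
      J_map (m := m) E.j]
  have hafix : tauGLs σ a = a := by
    rw [ha, hσdef]
    exact tauGLs_jGLs E a₀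
  set B : GLm := A' * a⁻¹ with hB
  have hBmult : Mult m B μ := by
    rw [mult_iff_matrix]
    have e1 : (a : Mt) * ((a⁻¹ : GLm) : Mt) = 1 := by
      rw [← Units.val_mul, mul_inv_cancel, Units.val_one]
    have e2 : (B : Mt) = A * ((a⁻¹ : GLm) : Mt) := by
      rw [hB, Units.val_mul, hAA]
    calc (B : Mt)ᵀ * J (Fin m) F * (B : Mt)
        = (((a⁻¹ : GLm) : Mt))ᵀ * (Aᵀ * J (Fin m) F * A) * ((a⁻¹ : GLm) : Mt) := by
          rw [e2, Matrix.transpose_mul]
          simp only [Matrix.mul_assoc]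
      _ = (((a⁻¹ : GLm) : Mt))ᵀ * ((μ : F) • ((a : Mt)ᵀ * J (Fin m) F * (a : Mt)))
            * ((a⁻¹ : GLm) : Mt) := by
          rw [← hP, hPk, haP]
      _ = (μ : F) • (((a : Mt) * ((a⁻¹ : GLm) : Mt))ᵀ * J (Fin m) F
            * ((a : Mt) * ((a⁻¹ : GLm) : Mt))) := by
          rw [Matrix.transpose_mul, Matrix.mul_smul, Matrix.smul_mul]
          simp only [Matrix.mul_assoc]
      _ = (μ : F) • J (Fin m) F := by
          rw [e1, Matrix.transpose_one, Matrix.one_mul, Matrix.mul_one]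
  have keyB : (g' : GLm) * tauGLs σ B = B := by
    rw [hB, map_mul, map_inv, hafix, ← mul_assoc, key]
  set B' : ↥(Cfsg.GSp m F) := ⟨B, mem_GSp_of_mult hBmult⟩ with hB'
  have key2 : cSp g * cSp (tauGSp σ B') = (cSp B' : MulAut (Cfsg.PSp m F)) := by
    have h1 : scalarGSp ν * g * tauGSp σ B' = B' := by
      apply Subtype.ext
      exact keyB
    have h2 := congrArg (cSp : ↥(Cfsg.GSp m F) →* MulAut (Cfsg.PSp m F)) h1
    rw [map_mul, map_mul, cSp_scalarGSp, one_mul] at h2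
    exact h2
  refine ⟨B', ?_⟩
  have key3 : (phiSp σ : MulAut (Cfsg.PSp m F)) * (cSp B')⁻¹
      = (cSp (tauGSp σ B'))⁻¹ * phiSp σ := by
    rw [eq_inv_mul_iff_mul_eq, ← mul_assoc, ← phiSp_cSp, mul_assoc, mul_inv_cancel, mul_one]
  rw [mul_assoc, key3, ← key2]
  group

end lang

/-- **coset conjugacy for field automorphisms of prime order of `PSp_{2m}(q)`** -/
theorem coset_conj_main_Sp [Fintype F] (hm : 2 ≤ m)
    (x δ : MulAut (Cfsg.PSp m F)) (hx : Cfsg.IsFieldAutClassPSp x) {r : ℕ}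
    (hxr : orderOf x = r) (hδ : δ ∈ Cfsg.inndiagPSp m F) :
    orderOf (δ * x) = r ↔ Cfsg.IsConjUnder (Cfsg.inndiagPSp m F) x (δ * x) := by
  have hDn : (Cfsg.inndiagPSp m F).Normal := normal_inndiagPSp hm
  have hm1 : 1 ≤ m := by omega
  constructor
  · intro hord
    obtain ⟨p, hp⟩ := CharP.exists F
    have : Fact p.Prime := ⟨CharP.char_is_prime F p⟩
    obtain ⟨α, σ, hσ1, hα⟩ := hx
    rw [isStdFieldAutPSp_iff] at hα
    have hσr : orderOf σ = r := by
      rw [← orderOf_phiSp p hm1 σ, ← hα, orderOf_conj', hxr]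
    have hσpos : 0 < orderOf σ := orderOf_pos_ringAut σ
    -- reduce to the standard representative
    have h2 : α * δ * α⁻¹ ∈ Cfsg.inndiagPSp m F := hDn.conj_mem δ hδ α
    rw [inndiagPSp_eq_range] at h2
    obtain ⟨g, hg⟩ := h2
    have h3 : α * (δ * x) * α⁻¹ = cSp g * phiSp σ := by
      rw [hg, ← hα]
      group
    have h4 : (cSp g * phiSp (fixedFDesc σ).σ : MulAut (Cfsg.PSp m F))
        ^ (orderOf (fixedFDesc σ).σ) = 1 := by
      rw [fixedFDesc_σ, ← h3, hσr, ← hord, ← orderOf_conj' α (δ * x)]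
      exact pow_orderOf_eq_one _
    obtain ⟨B, hB⟩ := conj_of_pow_eq_one_Sp (fixedFDesc σ) p hm1
      (by rw [fixedFDesc_σ]; exact hσpos) g h4
    rw [fixedFDesc_σ] at hB
    rw [← isConjUnder_conj_iff (Cfsg.inndiagPSp m F) α, h3, hα]
    refine ⟨cSp B, ?_, hB⟩
    rw [inndiagPSp_eq_range]
    exact ⟨B, rfl⟩
  · rintro ⟨h, hh, e⟩
    rw [e, orderOf_conj', hxr]

end Cfsg.Agent.Helper7.FieldPSp
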