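import Cfsg.Agent.Helper7.AutSp4f

/-!
# The exceptional automorphism of `Sp₄(F)` in characteristic two, part g (helper7)

The order of `Aut(PSp₄(2^f))`, and `Out(PSp₄(2^f))` is cyclic of order `2f`.
-/

set_option autoImplicit false
set_option linter.unusedSectionVars false
set_option linter.unusedVariables false
set_option linter.unusedSimpArgs false

namespace Cfsg.Agent.Helper7.AutSp4

open Matrix Cfsg.Agent.Helper2.Sp Cfsg.Agent.Helper7.AutPSp

variable {F : Type*} [Field F] [Fintype F] [CharP F 2]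

local notation "V" => (Fin 2 ⊕ Fin 2 → F)
local notation "SpG" => Matrix.symplecticGroup (Fin 2) F

/-- the semisimilarity automorphisms have index two in `Aut(PSp₄(2^f))` -/
theorem index_semiSp : (semiSp 2 F).index = 2 := by
  rw [Subgroup.index_eq_two_iff_exists_notMem_and]
  refine ⟨gamP, gamP_not_mem, fun b => ?_⟩
  rcases mem_semiSp_or b⁻¹ with h | h
  · right
    exact inv_mem_iff.1 h
  · left
    have := (semiSp 2 F).inv_mem h
    rwa [_root_.mul_inv_rev, inv_inv, inv_inv] at this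

theorem card_aut_psp4 : Nat.card (MulAut (Cfsg.PSp 2 F)) = 2 * Nat.card (semiSp 2 F) := by
  have h := Subgroup.index_mul_card (semiSp 2 F)
  rw [index_semiSp] at h
  exact h.symm

/-- the order of the group of semisimilarity automorphisms in characteristic two -/
theorem card_semiSp_char_two {f : ℕ} (hf : 1 ≤ f) (hF : Fintype.card F = 2 ^ f) :
    Nat.card (semiSp 2 F) = Nat.card (Cfsg.Inn (Cfsg.PSp 2 F)) * f := by
  have h12 : 1 ≤ 2 := by norm_num
  rw [card_subgroup_of_decomp (semiSp 2 F) (Cfsg.Inn (Cfsg.PSp 2 F)) phiSp,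
    Cfsg.Agent.Helper7.AutPSL.card_ringAut hf hF]
  · intro τ hτ
    rw [← range_cSp_eq_Inn_of_char_two h12] at hτ
    obtain ⟨x, hx⟩ := hτ
    exact phiSp_eq_cSp 2 h12 τ x hx.symm
  · intro α
    rw [mem_semiSp, ← range_cSp_eq_Inn_of_char_two h12]
    constructor
    · rintro ⟨x, τ, rfl⟩
      exact ⟨cSp x, ⟨x, rfl⟩, τ, rfl⟩
    · rintro ⟨_, ⟨x, rfl⟩, τ, rfl⟩
      exact ⟨x, τ, rfl⟩

/-- **the order of `Out(PSp₄(2^f))`** -/
theorem card_out_psp4 {f : ℕ} (hf : 1 ≤ f) (hF : Fintype.card F = 2 ^ f) :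
    Nat.card (Cfsg.Out (Cfsg.PSp 2 F)) = 2 * f := by
  have h1 := Subgroup.card_eq_card_quotient_mul_card_subgroup (Cfsg.Inn (Cfsg.PSp 2 F))
  rw [card_aut_psp4, card_semiSp_char_two hf hF] at h1
  have hpos : 0 < Nat.card (Cfsg.Inn (Cfsg.PSp 2 F)) := Nat.card_pos
  apply Nat.eq_of_mul_eq_mul_right hpos
  rw [← h1]
  ring

/-! ### the Frobenius automorphism -/

theorem frob2_pow_apply (k : ℕ) (x : F) : ((frob2 F) ^ k) x = x ^ 2 ^ k := by
  induction k generalizing x with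
  | zero => simp
  | succ k ih =>
    rw [pow_succ, RingAut.mul_apply, ih, frob2_apply, ← pow_mul, pow_succ, mul_comm]

theorem orderOf_frob2 {f : ℕ} (hf : 1 ≤ f) (hF : Fintype.card F = 2 ^ f) :
    orderOf (frob2 F) = f := by
  rw [orderOf_eq_iff (by omega)]
  constructor
  · ext x
    rw [frob2_pow_apply, ← hF, FiniteField.pow_card]
    rfl
  · intro k hk hk0 h
    obtain ⟨g, hg⟩ := IsCyclic.exists_generator (α := Fˣ)
    have hord : orderOf g = 2 ^ f - 1 := by
      rw [orderOf_eq_card_of_forall_mem_zpowers hg, Nat.card_units, Nat.card_eq_fintype_card, hF]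
    have h1 : (g : F) ^ 2 ^ k = g := by
      rw [← frob2_pow_apply, h]
      rfl
    have hk1 : 1 ≤ 2 ^ k := Nat.one_le_two_pow
    have h2 : g ^ (2 ^ k - 1) = 1 := by
      apply Units.ext
      rw [Units.val_pow_eq_pow_val, Units.val_one]
      have hg0 : (g : F) ≠ 0 := g.ne_zero
      apply mul_right_cancel₀ hg0
      rw [← pow_succ, Nat.sub_add_cancel hk1, h1, one_mul]
    have h3 := orderOf_dvd_of_pow_eq_one h2
    rw [hord] at h3
    have hlt : 2 ^ k < 2 ^ f := Nat.pow_lt_pow_right (by norm_num) hk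
    have hk2 : 2 ≤ 2 ^ k := by
      calc 2 = 2 ^ 1 := by norm_num
        _ ≤ 2 ^ k := Nat.pow_le_pow_right (by norm_num) hk0
    have := Nat.le_of_dvd (by omega) h3
    omega

/-! ### the outer automorphism group is cyclic -/

theorem phiSp_mem_semiSp (τ : F ≃+* F) : (phiSp τ : MulAut (Cfsg.PSp 2 F)) ∈ semiSp 2 F :=
  ⟨1, τ, by rw [map_one, one_mul]⟩

theorem gamP_pow_two_mul (k : ℕ) : (gamP (F := F)) ^ (2 * k) = phiSp ((frob2 F) ^ k) := by
  rw [pow_mul, pow_two, gamP_sq, ← map_pow]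

/-- **`Out(PSp₄(2^f))` is cyclic**, generated by the class of the exceptional automorphism -/
theorem out_psp4_cyclic {f : ℕ} (hf : 1 ≤ f) (hF : Fintype.card F = 2 ^ f) :
    IsCyclic (Cfsg.Out (Cfsg.PSp 2 F)) := by
  have h12 : 1 ≤ 2 := by norm_num
  obtain ⟨Γ, hΓ⟩ : ∃ Γ : Cfsg.Out (Cfsg.PSp 2 F), Γ = QuotientGroup.mk (gamP (F := F)) :=
    ⟨_, rfl⟩
  have hpow : ∀ n : ℕ, Γ ^ n = 1 ↔ (gamP (F := F)) ^ n ∈ Cfsg.Inn (Cfsg.PSp 2 F) := by
    intro n
    rw [hΓ, ← QuotientGroup.mk_pow, QuotientGroup.eq_one_iff]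
  have hdvd : ∀ n : ℕ, Γ ^ n = 1 → 2 * f ∣ n := by
    intro n hn
    rw [hpow] at hn
    rcases Nat.even_or_odd' n with ⟨k, rfl | rfl⟩
    · rw [gamP_pow_two_mul, ← range_cSp_eq_Inn_of_char_two h12] at hn
      obtain ⟨x, hx⟩ := hn
      have h1 := phiSp_eq_cSp 2 h12 _ x hx.symm
      have h2 := orderOf_dvd_of_pow_eq_one h1
      rw [orderOf_frob2 hf hF] at h2
      exact Nat.mul_dvd_mul_left 2 h2
    · exfalso
      rw [pow_succ, gamP_pow_two_mul] at hn
      have h1 := inn_le_semiSp hn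
      have h2 := (semiSp 2 F).mul_mem
        ((semiSp 2 F).inv_mem (phiSp_mem_semiSp (frob2 F ^ k))) h1
      rw [inv_mul_cancel_left] at h2
      exact gamP_not_mem h2
  have h2f : Γ ^ (2 * f) = 1 := by
    rw [hpow, gamP_pow_two_mul]
    have : (frob2 F) ^ f = 1 := by
      have := pow_orderOf_eq_one (frob2 F)
      rwa [orderOf_frob2 hf hF] at this
    rw [this, map_one]
    exact Subgroup.one_mem _
  have hord : orderOf Γ = 2 * f :=
    Nat.dvd_antisymm (orderOf_dvd_of_pow_eq_one h2f) (hdvd _ (pow_orderOf_eq_one Γ))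
  exact isCyclic_of_orderOf_eq_card Γ (by rw [hord, card_out_psp4 hf hF])

end Cfsg.Agent.Helper7.AutSp4
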