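import Cfsg.Agent.Helper7.AutPSL18

/-!
# Field automorphisms of `PSL_n(F)`, part 1 (helper7)

Generic transport lemmas (conjugation by an element normalising the subgroups involved) and an
index computation in a finite cyclic group.
-/

set_option autoImplicit false
set_option linter.unusedSectionVars false
set_option linter.unusedVariables false

namespace Cfsg.Agent.Helper7.FieldPSL

section generic

variable {X : Type*} [Group X]

theorem isConjUnder_conj_iff (K : Subgroup X) [hK : K.Normal] (a y z : X) :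
    Cfsg.IsConjUnder K (a * y * a⁻¹) (a * z * a⁻¹) ↔ Cfsg.IsConjUnder K y z := by
  constructor
  · rintro ⟨k, hk, h⟩
    refine ⟨a⁻¹ * k * a, ?_, ?_⟩
    · have := hK.conj_mem k hk a⁻¹
      rwa [inv_inv] at this
    · have : z = a⁻¹ * (a * z * a⁻¹) * a := by group
      rw [this, h]
      group
  · rintro ⟨k, hk, rfl⟩
    exact ⟨a * k * a⁻¹, hK.conj_mem k hk a, by group⟩

/-- the class-splitting count is invariant under conjugation by an element normalising both
subgroups -/
theorem splitClassCount_conj (H K : Subgroup X) [hH : H.Normal] [hK : K.Normal] (a x : X) :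
    Cfsg.splitClassCount H K (a * x * a⁻¹) = Cfsg.splitClassCount H K x := by
  unfold Cfsg.splitClassCount
  symm
  apply Nat.card_congr
  let e : {y : X // Cfsg.IsConjUnder H x y} ≃ {y : X // Cfsg.IsConjUnder H (a * x * a⁻¹) y} :=
    { toFun := fun y => ⟨a * y.1 * a⁻¹, (isConjUnder_conj_iff H a x y.1).2 y.2⟩
      invFun := fun y => ⟨a⁻¹ * y.1 * a, by
        have h := y.2
        have e1 : y.1 = a * (a⁻¹ * y.1 * a) * a⁻¹ := by group
        rw [e1] at h
        exact (isConjUnder_conj_iff H a x _).1 h⟩
      left_inv := fun y => Subtype.ext (by simp only; group)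
      right_inv := fun y => Subtype.ext (by simp only; group) }
  refine Quot.congr e ?_
  intro y z
  exact (isConjUnder_conj_iff K a y.1 z.1).symm

/-- transport of the centralizer in a normal subgroup -/
def centEquiv (H : Subgroup X) [hH : H.Normal] (a x : X) :
    ↥(H ⊓ Subgroup.centralizer {x}) ≃* ↥(H ⊓ Subgroup.centralizer {a * x * a⁻¹}) where
  toFun y := ⟨a * y.1 * a⁻¹, by
    have hy := y.2
    rw [Subgroup.mem_inf, Subgroup.mem_centralizer_singleton_iff] at hy ⊢
    refine ⟨hH.conj_mem _ hy.1 a, ?_⟩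
    calc a * ↑y * a⁻¹ * (a * x * a⁻¹) = a * (↑y * x) * a⁻¹ := by group
      _ = a * (x * ↑y) * a⁻¹ := by rw [hy.2]
      _ = a * x * a⁻¹ * (a * ↑y * a⁻¹) := by group⟩
  invFun y := ⟨a⁻¹ * y.1 * a, by
    have hy := y.2
    rw [Subgroup.mem_inf, Subgroup.mem_centralizer_singleton_iff] at hy ⊢
    refine ⟨by have := hH.conj_mem _ hy.1 a⁻¹; rwa [inv_inv] at this, ?_⟩
    have h2 := hy.2
    calc a⁻¹ * ↑y * a * x = a⁻¹ * (↑y * (a * x * a⁻¹)) * a := by group
      _ = a⁻¹ * ((a * x * a⁻¹) * ↑y) * a := by rw [h2]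
      _ = x * (a⁻¹ * ↑y * a) := by group⟩
  left_inv y := Subtype.ext (by simp only; group)
  right_inv y := Subtype.ext (by simp only; group)
  map_mul' y z := Subtype.ext (by simp only [Subgroup.coe_mul]; group)

end generic

section cyclic

variable {U : Type*} [CommGroup U] [Finite U] [IsCyclic U]

/-- the index of `Uⁿ · V` in a finite cyclic group `U` -/
theorem index_pow_sup (V : Subgroup U) (n : ℕ) :
    ((powMonoidHom n : U →* U).range ⊔ V).index = Nat.gcd n (Nat.card U / Nat.card V) := by
  have h1 : ((powMonoidHom n : U →* U).range ⊔ V).index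
      = (((powMonoidHom n : U →* U).range).map (QuotientGroup.mk' V)).index := by
    have := Cfsg.Agent.Helper7.GraphSplit.index_sup_eq_index_map (QuotientGroup.mk' V)
      (QuotientGroup.mk'_surjective V) (powMonoidHom n : U →* U).range
    rw [QuotientGroup.ker_mk', sup_comm] at this
    exact this
  have h2 : ((powMonoidHom n : U →* U).range).map (QuotientGroup.mk' V)
      = (powMonoidHom n : U ⧸ V →* U ⧸ V).range := by
    ext y
    constructor
    · rintro ⟨_, ⟨u, rfl⟩, rfl⟩
      exact ⟨QuotientGroup.mk' V u, by simp [powMonoidHom_apply]⟩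
    · rintro ⟨w, rfl⟩
      obtain ⟨u, rfl⟩ := QuotientGroup.mk'_surjective V w
      exact ⟨u ^ n, ⟨u, rfl⟩, by simp [powMonoidHom_apply]⟩
  have h3 : Nat.card (U ⧸ V) = Nat.card U / Nat.card V := by
    have := Subgroup.card_eq_card_quotient_mul_card_subgroup V
    rw [this, Nat.mul_div_cancel _ Nat.card_pos]
  rw [h1, h2, IsCyclic.index_powMonoidHom_range, h3, Nat.gcd_comm]

end cyclic

end Cfsg.Agent.Helper7.FieldPSL
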