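import Mathlib
import Cfsg.Prelude.Def_LieTypeDatum
import Cfsg.Agent.Helper7.GraphSplit1
import Cfsg.Agent.Helper7.FieldPSL1

/-!
# Plus-type orthogonal groups: involutory graph-field automorphisms, part 2 (helper7)

Abstract group theory: images under homomorphisms with equal kernels, a class does not split
under the group itself, and the count of classes when the inner group has index four.
-/

set_option autoImplicit false
set_option linter.unusedSectionVars false
set_option linter.unusedVariables false

namespace Cfsg.Agent.Helper7.PlusG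

section abstract

variable {X : Type*} [Group X]

/-- homomorphisms with the same kernel have isomorphic images of every subgroup -/
theorem nonempty_map_equiv {G Y Z : Type*} [Group G] [Group Y] [Group Z] (f : G →* Y)
    (f' : G →* Z) (hker : ∀ g, f g = 1 ↔ f' g = 1) (H : Subgroup G) :
    Nonempty (↥(H.map f) ≃* ↥(H.map f')) := by
  have e1 := QuotientGroup.quotientKerEquivRange (f.comp H.subtype)
  have e2 := QuotientGroup.quotientKerEquivRange (f'.comp H.subtype)
  have hk : (f.comp H.subtype).ker = (f'.comp H.subtype).ker := by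
    ext g
    rw [MonoidHom.mem_ker, MonoidHom.mem_ker, MonoidHom.comp_apply, MonoidHom.comp_apply]
    exact hker _
  have e3 := QuotientGroup.quotientMulEquivOfEq hk
  have r1 : (f.comp H.subtype).range = H.map f := by
    rw [MonoidHom.range_comp, Subgroup.range_subtype]
  have r2 : (f'.comp H.subtype).range = H.map f' := by
    rw [MonoidHom.range_comp, Subgroup.range_subtype]
  exact ⟨(MulEquiv.subgroupCongr r1).symm.trans
    (e1.symm.trans (e3.trans (e2.trans (MulEquiv.subgroupCongr r2))))⟩

/-- a class does not split under the group itself -/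
theorem splitClassCount_self (H : Subgroup X) (x : X) : Cfsg.splitClassCount H H x = 1 := by
  unfold Cfsg.splitClassCount
  rw [Nat.card_eq_one_iff_unique]
  refine ⟨⟨?_⟩, ⟨Quot.mk _ ⟨x, 1, H.one_mem, by group⟩⟩⟩
  intro a b
  induction a using Quot.inductionOn with
  | h a =>
    induction b using Quot.inductionOn with
    | h b =>
      apply Quot.sound
      obtain ⟨a, h, hh, rfl⟩ := a
      obtain ⟨b, h', hh', rfl⟩ := b
      exact ⟨h' * h⁻¹, H.mul_mem hh' (H.inv_mem hh), by group⟩

/-- the count of classes when the smaller group has index four and the centralizer is covered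
by two cosets -/
theorem splitClassCount_of_index_four (D I : Subgroup X) [hI : I.Normal] (hID : I ≤ D)
    (hidx : I.relIndex D = 4) (x y₀ : X) (hy₀ : y₀ ∈ D ⊓ Subgroup.centralizer {x})
    (hall : ∀ y ∈ D ⊓ Subgroup.centralizer {x}, y ∈ I ∨ y * y₀ ∈ I) :
    (y₀ ∈ I → Cfsg.splitClassCount D I x = 4) ∧ (y₀ ∉ I → Cfsg.splitClassCount D I x = 2) := by
  have hS : (I.subgroupOf D).Normal := inferInstance
  have h1 := Cfsg.Agent.Helper7.GraphSplit.splitClassCount_eq_index D.subtype (I.subgroupOf D) x
  rw [Subgroup.range_subtype, Subgroup.subgroupOf_map_subtype, inf_eq_left.2 hID] at h1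
  rw [h1]
  set S : Subgroup ↥D := I.subgroupOf D with hSdef
  set C : Subgroup ↥D := (Subgroup.centralizer {x}).comap D.subtype with hCdef
  have hSidx : S.index = 4 := hidx
  have hle : S ≤ S ⊔ C := le_sup_left
  have hmul := Subgroup.relIndex_mul_index hle
  rw [hSidx] at hmul
  have hmemC : ∀ y : ↥D, y ∈ C ↔ (y : X) ∈ Subgroup.centralizer {x} := fun y => Iff.rfl
  have hmemS : ∀ y : ↥D, y ∈ S ↔ (y : X) ∈ I := fun y => Subgroup.mem_subgroupOf
  constructor
  · intro hy₀I
    have hCS : C ≤ S := by
      intro y hy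
      rw [hmemS]
      rcases hall y.1 (Subgroup.mem_inf.2 ⟨y.2, (hmemC y).1 hy⟩) with h | h
      · exact h
      · have : (y : X) = (y : X) * y₀ * y₀⁻¹ := by group
        rw [this]
        exact I.mul_mem h (I.inv_mem hy₀I)
    rw [sup_eq_left.2 hCS]
    exact hSidx
  · intro hy₀I
    have hrel : S.relIndex (S ⊔ C) = 2 := by
      rw [Subgroup.relIndex_eq_two_iff]
      refine ⟨⟨y₀, (Subgroup.mem_inf.1 hy₀).1⟩, Subgroup.mem_sup_right
        ((hmemC _).2 (Subgroup.mem_inf.1 hy₀).2), ?_⟩
      intro b hb
      have hb' : b ∈ ((S ⊔ C : Subgroup ↥D) : Set ↥D) := hb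
      rw [Subgroup.normal_mul] at hb'
      obtain ⟨s, hs, c, hc, rfl⟩ := Set.mem_mul.1 hb'
      have hsI : (s : X) ∈ I := (hmemS s).1 hs
      rw [hmemS, hmemS]
      show Xor ((s : X) * (c : X) * y₀ ∈ I) ((s : X) * (c : X) ∈ I)
      rcases hall c.1 (Subgroup.mem_inf.2 ⟨c.2, (hmemC c).1 hc⟩) with h | h
      · right
        refine ⟨I.mul_mem hsI h, fun hc' => hy₀I ?_⟩
        have : y₀ = ((s : X) * (c : X))⁻¹ * ((s : X) * (c : X) * y₀) := by group
        rw [this]
        exact I.mul_mem (I.inv_mem (I.mul_mem hsI h)) hc'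
      · left
        refine ⟨by rw [mul_assoc]; exact I.mul_mem hsI h, fun hc' => hy₀I ?_⟩
        have h2 : (c : X) ∈ I := by
          have : (c : X) = (s : X)⁻¹ * ((s : X) * (c : X)) := by group
          rw [this]
          exact I.mul_mem (I.inv_mem hsI) hc'
        have : y₀ = (c : X)⁻¹ * ((c : X) * y₀) := by group
        rw [this]
        exact I.mul_mem (I.inv_mem h2) h
    rw [hrel] at hmul
    omega

end abstract

end Cfsg.Agent.Helper7.PlusG
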