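import Cfsg.Agent.Helper7.FieldPSL5

/-!
# Field automorphisms of `PSL_n(F)`, part 6 (helper7)

Field automorphisms of prime order of `PSL_n(F)`: centralizer and class splitting.
-/

set_option autoImplicit false
set_option linter.unusedSectionVars false
set_option linter.unusedVariables false

namespace Cfsg.Agent.Helper7.FieldPSL

open Matrix Cfsg.Agent.Helper7.GraphPSL Cfsg.Agent.Helper7.AutPSL Cfsg.Agent.Helper7.GraphSplit

variable {F : Type*} [Field F] {n : ℕ}

theorem fieldHom_injective (hn : 2 ≤ n) :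
    Function.Injective (fieldHom : (F ≃+* F) →*
      MulAut (Matrix.ProjectiveSpecialLinearGroup (Fin n) F)) := by
  rw [injective_iff_map_eq_one]
  intro σ hσ
  rw [fieldHom_apply] at hσ
  have h1 : (fieldPSL σ : MulAut (Matrix.ProjectiveSpecialLinearGroup (Fin n) F)) = cGL 1 := by
    rw [hσ, map_one]
  rcases Nat.lt_or_ge n 3 with h | h
  · have hn2 : n = 2 := by omega
    subst hn2
    exact sigma_eq_one_of_eq_cGL_two h1
  · exact sigma_eq_one_of_eq_cGL h h1

theorem orderOf_fieldPSL (hn : 2 ≤ n) (σ : F ≃+* F) :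
    orderOf (fieldPSL σ : MulAut (Matrix.ProjectiveSpecialLinearGroup (Fin n) F)) = orderOf σ := by
  rw [← fieldHom_apply]
  exact orderOf_injective fieldHom (fieldHom_injective hn) σ

theorem orderOf_conj' {X : Type*} [Group X] (a x : X) : orderOf (a * x * a⁻¹) = orderOf x := by
  have := MulEquiv.orderOf_eq (MulAut.conj a) x
  rwa [MulAut.conj_apply] at this

/-- **field automorphisms of prime order of `PSL_n(F)`** -/
theorem field_aut_main [Fintype F] {p f : ℕ} [Fact p.Prime] (hF : Fintype.card F = p ^ f)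
    (hf : 1 ≤ f) (hn : 2 ≤ n) (hs : n = 2 → 4 ≤ Fintype.card F)
    (x : MulAut (Matrix.ProjectiveSpecialLinearGroup (Fin n) F))
    (hx : Cfsg.IsFieldAutClassPSL x) {r : ℕ} (hxr : orderOf x = r)
    (F₀ : Type*) [Field F₀] [Fintype F₀] (hF₀ : Fintype.card F₀ = p ^ (f / r)) :
    r ∣ f ∧
      Nonempty (↥(Cfsg.inndiagPSL n F ⊓ Subgroup.centralizer {x})
        ≃* Matrix.ProjGenLinGroup (Fin n) F₀) ∧
      Cfsg.splitClassCount (Cfsg.inndiagPSL n F)
        (Cfsg.Inn (Matrix.ProjectiveSpecialLinearGroup (Fin n) F)) x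
        = Nat.gcd n ((p ^ f - 1) / (p ^ (f / r) - 1)) := by
  have : NeZero n := ⟨by omega⟩
  obtain ⟨α, σ, hσ1, hα⟩ := hx
  rw [isStdFieldAutPSL_iff] at hα
  have hσr : orderOf σ = r := by
    rw [← orderOf_fieldPSL hn σ, ← hα, orderOf_conj', hxr]
  have hσpos : 0 < orderOf σ := orderOf_pos_ringAut σ
  obtain ⟨E, hE⟩ := exists_FDesc hF σ (by rw [hσr]; exact hF₀)
  subst hE
  have hDn : (Cfsg.inndiagPSL n F).Normal := by
    rw [inndiagPSL_eq_range]
    exact normal_range_cGL hF hf hn hs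
  refine ⟨?_, ?_, ?_⟩
  · rw [← hσr]
    exact orderOf_dvd hf hF E.σ
  · obtain ⟨e⟩ := nonempty_centralizer_equiv (n := n) E hσpos
    have e1 := centEquiv (Cfsg.inndiagPSL n F) α x
    rw [hα] at e1
    exact ⟨e1.trans e⟩
  · rw [← splitClassCount_conj (Cfsg.inndiagPSL n F)
      (Cfsg.Inn (Matrix.ProjectiveSpecialLinearGroup (Fin n) F)) α x, hα,
      splitClassCount_fieldPSL E hσpos, hF, hF₀]

end Cfsg.Agent.Helper7.FieldPSL
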