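import Cfsg.Agent.Helper7.GraphPSL9
import Cfsg.Agent.S2614
import Cfsg.Agent.Helper21.OCm

/-!
# Graph automorphisms of `PSL_n`, part 10 (helper7)

Odd dimension, odd characteristic: all involutory graph automorphisms are conjugate, with
centralizer the projective conformal orthogonal group.
-/

set_option autoImplicit false
set_option linter.unusedSectionVars false

namespace Cfsg.Agent.Helper7.GraphPSL

open scoped Matrix
open Cfsg.Agent.Helper7.OrthUni

variable {n : ℕ} {F : Type*} [Field F]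

/-- the scalar matrix `c • 1` as an element of `GL` -/
def scalarGL (c : Fˣ) : GL (Fin n) F :=
  Units.map (Matrix.scalar (Fin n) : F →+* Matrix (Fin n) (Fin n) F).toMonoidHom c

theorem scalarGL_mem (c : Fˣ) : (scalarGL c : GL (Fin n) F) ∈ Cfsg.Geo.scalars (Fin n) F :=
  ⟨c, rfl⟩

theorem scalarGL_coe (c : Fˣ) :
    ((scalarGL c : GL (Fin n) F) : Matrix (Fin n) (Fin n) F)
      = (c : F) • (1 : Matrix (Fin n) (Fin n) F) := by
  rw [Matrix.smul_one_eq_diagonal]
  rfl

theorem scalarGL_mul_coe (c : Fˣ) (g : GL (Fin n) F) :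
    ((scalarGL c * g : GL (Fin n) F) : Matrix (Fin n) (Fin n) F)
      = (c : F) • (g : Matrix (Fin n) (Fin n) F) := by
  rw [Units.val_mul, scalarGL_coe, Matrix.smul_mul, Matrix.one_mul]

theorem graphAut_scalarGL_mul (c : Fˣ) (g : GL (Fin n) F) :
    graphAut (scalarGL c * g) = graphAut g := by
  unfold graphAut
  rw [map_mul, cGL_of_mem_scalars _ (scalarGL_mem c), one_mul]

/-- in odd dimension and characteristic `≠ 2` there are no invertible skew-symmetric matrices -/
theorem not_skew_of_odd (h2 : (2 : F) ≠ 0) (hn : Odd n) (g : GL (Fin n) F)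
    (hg : (g : Matrix (Fin n) (Fin n) F)ᵀ = -(g : Matrix (Fin n) (Fin n) F)) : False := by
  have hdet : (g : Matrix (Fin n) (Fin n) F).det ≠ 0 :=
    ((Matrix.isUnit_iff_isUnit_det _).1 g.isUnit).ne_zero
  have h1 : (g : Matrix (Fin n) (Fin n) F).det = -(g : Matrix (Fin n) (Fin n) F).det := by
    conv_lhs => rw [← Matrix.det_transpose, hg, Matrix.det_neg, Fintype.card_fin, hn.neg_one_pow]
    ring
  have h3 : (2 : F) * (g : Matrix (Fin n) (Fin n) F).det = 0 := by linear_combination h1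
  rcases mul_eq_zero.1 h3 with h | h
  · exact h2 h
  · exact hdet h

/-- odd dimension, odd characteristic: any two symmetric matrices give conjugate graph
automorphisms -/
theorem isConjUnder_of_symm_odd [Fintype F] (h2 : (2 : F) ≠ 0) {m : ℕ} (hnm : n = 2 * m + 1)
    (g g' : GL (Fin n) F)
    (hg : (g : Matrix (Fin n) (Fin n) F)ᵀ = (g : Matrix (Fin n) (Fin n) F))
    (hg' : (g' : Matrix (Fin n) (Fin n) F)ᵀ = (g' : Matrix (Fin n) (Fin n) F)) :
    Cfsg.IsConjUnder (Cfsg.inndiagPSL n F) (graphAut g) (graphAut g') := by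
  subst hnm
  have hd : (g : Matrix (Fin (2 * m + 1)) (Fin (2 * m + 1)) F).det ≠ 0 :=
    ((Matrix.isUnit_iff_isUnit_det _).1 g.isUnit).ne_zero
  have hd' : (g' : Matrix (Fin (2 * m + 1)) (Fin (2 * m + 1)) F).det ≠ 0 :=
    ((Matrix.isUnit_iff_isUnit_det _).1 g'.isUnit).ne_zero
  set c : Fˣ := Units.mk0 ((g : Matrix (Fin (2 * m + 1)) (Fin (2 * m + 1)) F).det
    * (g' : Matrix (Fin (2 * m + 1)) (Fin (2 * m + 1)) F).det) (mul_ne_zero hd hd') with hc
  have key := isConjUnder_of_symm h2 (scalarGL c * g') g (by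
    rw [scalarGL_mul_coe, Matrix.transpose_smul, hg']) hg (by
    rw [scalarGL_mul_coe, Matrix.det_smul, Fintype.card_fin, hc, Units.val_mk0]
    refine ⟨((g : Matrix (Fin (2 * m + 1)) (Fin (2 * m + 1)) F).det
      * (g' : Matrix (Fin (2 * m + 1)) (Fin (2 * m + 1)) F).det) ^ (m + 1), ?_⟩
    ring)
  rw [graphAut_scalarGL_mul] at key
  exact key

theorem gram_smul {I : Type*} [Fintype I] [DecidableEq I] (c : F) (Q : QuadraticForm F (I → F)) :
    gram (c • Q) = c • gram Q := by
  ext i j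
  rw [gram_apply, Matrix.smul_apply, gram_apply]
  exact QuadraticMap.polar_smul _ _ _ _

theorem quadSimilarityGroup_smul {ι' : Type} [Fintype ι'] [DecidableEq ι'] (c : F) (hc : c ≠ 0)
    (Q : QuadraticForm F (ι' → F)) :
    Cfsg.Geo.quadSimilarityGroup (F := F) ⇑(c • Q) = Cfsg.Geo.quadSimilarityGroup (F := F) ⇑Q := by
  ext k
  constructor
  · rintro ⟨d, hd⟩
    refine ⟨d, fun v => ?_⟩
    have := hd v
    simp only [smul_apply, smul_eq_mul] at this
    apply mul_left_cancel₀ hc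
    rw [this]
    ring
  · rintro ⟨d, hd⟩
    refine ⟨d, fun v => ?_⟩
    simp only [smul_apply, smul_eq_mul]
    rw [hd]
    ring

/-- odd dimension, odd characteristic: centralizer of a symmetric graph automorphism -/
theorem centralizer_odd_dim [Fintype F] (h2 : (2 : F) ≠ 0) {m : ℕ} (hnm : n = 2 * m + 1)
    (g₀ : GL (Fin n) F)
    (hsym : (g₀ : Matrix (Fin n) (Fin n) F)ᵀ = (g₀ : Matrix (Fin n) (Fin n) F)) :
    Nonempty (↥(Cfsg.inndiagPSL n F ⊓ Subgroup.centralizer {graphAut g₀})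
      ≃* Cfsg.PGO F (Cfsg.quadFormOdd m F)) := by
  classical
  set Q' := Cfsg.Agent.S2614.QfOdd m F with hQ'
  have hQnd : (QuadraticMap.polarBilin Q').Nondegenerate :=
    Cfsg.Agent.Helper21.OC.QfOdd_nondeg_of h2 m
  have hd : (gram Q').det ≠ 0 := (nondeg_iff_det Q').1 hQnd
  have hd0 : ((2 : F) • (g₀ : Matrix (Fin n) (Fin n) F)).det ≠ 0 := by
    rw [Matrix.det_smul]
    exact mul_ne_zero (pow_ne_zero _ h2) ((Matrix.isUnit_iff_isUnit_det _).1 g₀.isUnit).ne_zero
  set c : F := ((2 : F) • (g₀ : Matrix (Fin n) (Fin n) F)).det * (gram Q').det with hc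
  have hc0 : c ≠ 0 := mul_ne_zero hd0 hd
  have hcard : Fintype.card (Unit ⊕ (Fin m ⊕ Fin m)) = n := by
    simp only [Fintype.card_sum, Fintype.card_fin, Fintype.card_unit]
    omega
  have hnd' : (QuadraticMap.polarBilin (c • Q')).Nondegenerate := by
    rw [nondeg_iff_det, gram_smul, Matrix.det_smul]
    exact mul_ne_zero (pow_ne_zero _ hc0) hd
  have e : (gram (c • Q')).det = c ^ (2 * m + 1) * (gram Q').det := by
    rw [gram_smul, Matrix.det_smul, hcard, hnm]
  have key := centralizer_graphAut_quad h2 g₀ hsym (c • Q') hnd' hcard (by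
    rw [e]
    refine ⟨c ^ (m + 1), ?_⟩
    rw [← mul_assoc, mul_comm _ (c ^ (2 * m + 1)), mul_assoc, ← hc]
    ring)
  unfold Cfsg.PGO at key ⊢
  rw [quadSimilarityGroup_smul c hc0, hQ', Cfsg.Agent.S2614.QfOdd_coe] at key
  exact key

end Cfsg.Agent.Helper7.GraphPSL
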