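import Cfsg.Agent.Helper7.AutPSL15
import Cfsg.Agent.Helper7.GraphPSL10

/-!
# Automorphisms of `PSL_n(F)`, part 16 (helper7)

`Aut(PSL_n(F)) / Inndiag ≅ Gal(F) × C₂` for `n ≥ 3`, and the structure of `Out(PSL_n(F))`.
-/

set_option autoImplicit false
set_option linter.unusedSectionVars false
set_option linter.unusedVariables false

namespace Cfsg.Agent.Helper7.AutPSL

open Matrix Cfsg.Agent.Helper2.RootSLn Cfsg.Agent.Helper7.GraphPSL

variable {n : ℕ} {F : Type*} [Field F]

/-- the homomorphism `Gal(F) × C₂ → Aut(PSL_n)` -/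
noncomputable def thetaHom :
    (F ≃+* F) × Multiplicative (ZMod 2) →* MulAut (Matrix.ProjectiveSpecialLinearGroup (Fin n) F) :=
  MonoidHom.noncommCoprod fieldHom iotaHom commute_fieldHom_iotaHom

theorem thetaHom_apply (x : (F ≃+* F) × Multiplicative (ZMod 2)) :
    (thetaHom x : MulAut (Matrix.ProjectiveSpecialLinearGroup (Fin n) F))
      = fieldPSL x.1 * iotaHom x.2 := rfl

/-- uniqueness of the decomposition modulo the inner-diagonal group -/
theorem thetaHom_mem_range_cGL [Fintype F] (p : ℕ) [Fact p.Prime] [CharP F p] (hn : 3 ≤ n)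
    (x : (F ≃+* F) × Multiplicative (ZMod 2))
    (h : (thetaHom x : MulAut (Matrix.ProjectiveSpecialLinearGroup (Fin n) F))
      ∈ (cGL : GL (Fin n) F →* _).range) : x = 1 := by
  obtain ⟨g, hg⟩ := h
  rw [thetaHom_apply] at hg
  obtain ⟨σ, ε⟩ := x
  rcases iotaHom_cases (n := n) (F := F) ε with ⟨h1, h2⟩ | ⟨h1, h2⟩
  · simp only at hg h1 h2
    rw [h1, mul_one] at hg
    rw [h2, sigma_eq_one_of_eq_cGL hn hg.symm]
    rfl
  · exfalso
    simp only at hg h1
    rw [h1] at hg
    -- `iotaT = (fieldPSL σ)⁻¹ * cGL g` would be type-preserving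
    have h3 : (iotaT : MulAut (Matrix.ProjectiveSpecialLinearGroup (Fin n) F))
        = (fieldPSL σ)⁻¹ * cGL g := by
      rw [hg, inv_mul_cancel_left]
    have h4 : Typ (fieldPSL σ : MulAut (Matrix.ProjectiveSpecialLinearGroup (Fin n) F))⁻¹ true true :=
      (typ_inv p hn ⟨typ_fieldPSL σ true, typ_fieldPSL σ false⟩).1
    have h5 : Typ (iotaT : MulAut (Matrix.ProjectiveSpecialLinearGroup (Fin n) F)) true true := by
      rw [h3]
      exact (typ_cGL g true).mul h4
    exact absurd (Typ.unique hn h5 (typ_iotaT true)) (by decide)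

section out

variable [Fintype F] {p f : ℕ} [Fact p.Prime]

/-- the Galois group of a finite field as a cyclic group of order `f` -/
theorem exists_ringAut_equiv (hF : Fintype.card F = p ^ f) :
    Nonempty ((F ≃+* F) ≃* Multiplicative (ZMod f)) := by
  have hchar : CharP F p := charP_of_card_eq_prime_pow hF
  let _ : Algebra (ZMod p) F := ZMod.algebra F p
  have hK : ∀ (σ : F ≃+* F) (k : ZMod p), σ (algebraMap (ZMod p) F k) = algebraMap (ZMod p) F k := by
    intro σ k
    exact RingHom.congr_fun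
      (Subsingleton.elim ((σ : F →+* F).comp (algebraMap (ZMod p) F)) (algebraMap (ZMod p) F)) k
  have hΓ : Nat.card (F ≃ₐ[ZMod p] F) = f := by
    rw [IsGalois.card_aut_eq_finrank]
    have h1 := Module.card_eq_pow_finrank (K := ZMod p) (V := F)
    rw [hF, ZMod.card] at h1
    exact (Nat.pow_right_injective (Fact.out : p.Prime).two_le h1).symm
  let e₁ : (F ≃+* F) ≃* (F ≃ₐ[ZMod p] F) :=
    { toFun := fun σ => AlgEquiv.ofRingEquiv (f := σ) (hK σ)
      invFun := fun γ => γ.toRingEquiv
      left_inv := fun σ => by ext x; rfl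
      right_inv := fun γ => by ext x; rfl
      map_mul' := fun σ τ => by ext x; rfl }
  let e₂ : (F ≃ₐ[ZMod p] F) ≃* Multiplicative (ZMod (Nat.card (F ≃ₐ[ZMod p] F))) :=
    (zmodCyclicMulEquiv inferInstance).symm
  rw [← hΓ]
  exact ⟨e₁.trans e₂⟩

end out

end Cfsg.Agent.Helper7.AutPSL
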