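import Mathlib

/-!
# Outer automorphism groups of orthogonal groups, part 1 (helper7)

Abstract group theory: a group with a split surjection onto `R` whose kernel has order two is
`C₂ × R`; simple perfect groups have trivial centre.
-/

set_option autoImplicit false
set_option linter.unusedSectionVars false
set_option linter.unusedVariables false

namespace Cfsg.Agent.Helper7.OutO

/-- a normal subgroup of order two is central -/
theorem central_of_card_two {G : Type*} [Group G] (K : Subgroup G) [K.Normal]
    (hK : Nat.card K = 2) {k : G} (hk : k ∈ K) (g : G) : g * k = k * g := by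
  by_cases h1 : k = 1
  · rw [h1, mul_one, one_mul]
  obtain ⟨b, hb, huniq⟩ := (Nat.card_eq_two_iff' (1 : K)).1 hK
  have hc : g * k * g⁻¹ ∈ K := Subgroup.Normal.conj_mem inferInstance k hk g
  have e1 : (⟨k, hk⟩ : K) = b := huniq _ (fun h => h1 (congrArg Subtype.val h))
  have e2 : (⟨g * k * g⁻¹, hc⟩ : K) = b := huniq _ (fun h => by
    apply h1
    have h3 : g * k * g⁻¹ = 1 := congrArg Subtype.val h
    calc k = g⁻¹ * (g * k * g⁻¹) * g := by group
      _ = 1 := by rw [h3]; group)
  have e3 : g * k * g⁻¹ = k := congrArg Subtype.val (e2.trans e1.symm)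
  calc g * k = (g * k * g⁻¹) * g := by group
    _ = k * g := by rw [e3]

/-- a group with a split surjection onto `R` whose kernel has order two is `C₂ × R` -/
theorem split_central_two {G R : Type*} [Group G] [Group R] (θ : G →* R) (s : R →* G)
    (hθs : ∀ r, θ (s r) = r) (hK : Nat.card θ.ker = 2) :
    Nonempty (G ≃* Multiplicative (ZMod 2) × R) := by
  have hcyc : IsCyclic θ.ker := by
    have : Fact (Nat.Prime 2) := ⟨Nat.prime_two⟩
    exact isCyclic_of_prime_card hK
  have e : Multiplicative (ZMod 2) ≃* θ.ker := by
    have e' := zmodCyclicMulEquiv hcyc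
    rw [hK] at e'
    exact e'
  let ψ : Multiplicative (ZMod 2) × R →* G :=
    MonoidHom.noncommCoprod (θ.ker.subtype.comp e.toMonoidHom) s (by
      intro a r
      exact (central_of_card_two θ.ker hK (e a).2 (s r)).symm)
  have hψ : ∀ a r, ψ (a, r) = (e a : G) * s r := fun a r => rfl
  have hinj : Function.Injective ψ := by
    rw [injective_iff_map_eq_one]
    rintro ⟨a, r⟩ h
    rw [hψ] at h
    have h1 := congrArg θ h
    rw [map_mul, hθs, map_one, (e a).2, one_mul] at h1
    rw [h1, map_one, mul_one] at h
    have h2 : e a = 1 := Subtype.ext h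
    have h3 : a = 1 := by
      have := congrArg e.symm h2
      rwa [MulEquiv.symm_apply_apply, map_one] at this
    rw [h1, h3]; rfl
  have hsurj : Function.Surjective ψ := by
    intro g
    have hmem : g * (s (θ g))⁻¹ ∈ θ.ker := by
      rw [MonoidHom.mem_ker, map_mul, map_inv, hθs, mul_inv_cancel]
    refine ⟨(e.symm ⟨_, hmem⟩, θ g), ?_⟩
    rw [hψ, MulEquiv.apply_symm_apply]
    show g * (s (θ g))⁻¹ * s (θ g) = g
    group
  exact ⟨(MulEquiv.ofBijective ψ ⟨hinj, hsurj⟩).symm⟩

/-- a simple perfect group has trivial centre -/
theorem center_eq_bot_of_simple_perfect {G : Type*} [Group G] [IsSimpleGroup G]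
    (h : commutator G = ⊤) : Subgroup.center G = ⊥ := by
  rcases Subgroup.Normal.eq_bot_or_eq_top
    (inferInstance : (Subgroup.center G).Normal) with h0 | h0
  · exact h0
  · exfalso
    have hcomm : ∀ a b : G, a * b = b * a := by
      intro a b
      have hb : b ∈ Subgroup.center G := by rw [h0]; exact Subgroup.mem_top _
      exact Subgroup.mem_center_iff.1 hb a
    have hbot : commutator G = ⊥ := by
      rw [commutator_def, Subgroup.commutator_eq_bot_iff_le_centralizer]
      intro x _
      rw [Subgroup.mem_centralizer_iff]
      intro y _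
      exact hcomm y x
    rw [h] at hbot
    exact top_ne_bot hbot

/-- the number of inner automorphisms of a centreless group -/
theorem card_inn_of_center {G : Type*} [Group G] (h : Subgroup.center G = ⊥) :
    Nat.card (MulAut.conj : G →* MulAut G).range = Nat.card G := by
  have hinj : Function.Injective (MulAut.conj : G →* MulAut G) := by
    rw [injective_iff_map_eq_one]
    intro g hg
    have : g ∈ Subgroup.center G := by
      rw [Subgroup.mem_center_iff]
      intro x
      have h1 := congrArg (fun φ : MulAut G => φ x) hg
      simp only [MulAut.conj_apply, MulAut.one_apply] at h1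
      calc x * g = (g * x * g⁻¹) * g := by rw [h1]
        _ = g * x := by group
    rw [h] at this
    exact this
  exact (Nat.card_congr (MonoidHom.ofInjective hinj).toEquiv).symm

end Cfsg.Agent.Helper7.OutO
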