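import Mathlib
import Cfsg.Agent.Helper7.OutO1
import Cfsg.Agent.Helper7.AutO30
import Cfsg.Agent.Helper28.GammaCount4

/-!
# Outer automorphism groups of orthogonal groups, part 2 (helper7)

The field-automorphism homomorphism `Out(PΩ(Q)) → Aut(F)` when every automorphism is induced by a
semisimilarity.
-/

set_option autoImplicit false
set_option linter.unusedSectionVars false
set_option linter.unusedVariables false

namespace Cfsg.Agent.Helper7.OutO

open Matrix Module Cfsg.Agent.Helper28.Sg Cfsg.Agent.Helper28.Spin Cfsg.Agent.Helper28.PG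
  Cfsg.Agent.Helper28.SSim Cfsg.Agent.Helper28.GC Cfsg.Agent.Helper7.AutO

variable {F : Type*} [Field F] {ι : Type} [Fintype ι] [DecidableEq ι]
  {Q : QuadraticForm F (ι → F)}

section gen

variable (hQ : (QuadraticMap.polarBilin Q).Nondegenerate) (fr : Frame3 Q)
  (hperf : commutator ↥(Cfsg.Omega F ⇑Q) = ⊤) (htop : Cfsg.gammaPOmega F ⇑Q = ⊤)

/-- the field-automorphism homomorphism on `Aut(PΩ(Q))` -/
noncomputable def thetaAut : MulAut (Cfsg.POmega F ⇑Q) →* RingAut F :=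
  (sigmaHom Q hQ fr hperf).comp
    ((MulEquiv.subgroupCongr htop.symm).toMonoidHom.comp Subgroup.topEquiv.symm.toMonoidHom)

theorem thetaAut_eq {β : MulAut (Cfsg.POmega F ⇑Q)} {g : GL ι F} {σ : F ≃+* F}
    (hp : Cfsg.IsSemisimilarityPair (⇑Q) g σ)
    (h : Cfsg.IsInducedBySemilinearPOmega (⇑Q) g σ β) : thetaAut hQ fr hperf htop β = σ := by
  unfold thetaAut
  rw [MonoidHom.comp_apply, sigmaHom_apply]
  exact sigmaOf_eq Q hQ fr hperf _ hp h

include hQ fr in
/-- inner automorphisms are induced by isometries -/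
theorem conj_eq_cO (x : ↥(Cfsg.Omega F ⇑Q)) :
    MulAut.conj (pr Q x) = cO Q (x : ↥(Cfsg.isometryGroup F ⇑Q)) := by
  apply MulEquiv.ext
  intro y
  obtain ⟨y, rfl⟩ := pr_surjective Q y
  rw [cO_pr Q hQ fr, MulAut.conj_apply]

theorem thetaAut_conj (x : Cfsg.POmega F ⇑Q) : thetaAut hQ fr hperf htop (MulAut.conj x) = 1 := by
  obtain ⟨s, rfl⟩ := pr_surjective Q x
  rw [conj_eq_cO hQ fr]
  have hp : Cfsg.IsSemisimilarityPair (⇑Q)
      (((s : ↥(Cfsg.isometryGroup F ⇑Q)) : GL ι F)) (RingEquiv.refl F) := by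
    refine ⟨1, fun v => ?_⟩
    have := Q_isom Q (s : ↥(Cfsg.isometryGroup F ⇑Q)) v
    simpa using this
  exact thetaAut_eq hQ fr hperf htop hp
    ((induced_iff Q _ (O_le_GO Q (s : ↥(Cfsg.isometryGroup F ⇑Q)).2) _).2 rfl)

/-- the field-automorphism homomorphism on `Out(PΩ(Q))` -/
noncomputable def thetaOut : Cfsg.Out (Cfsg.POmega F ⇑Q) →* RingAut F :=
  QuotientGroup.lift (Cfsg.Inn (Cfsg.POmega F ⇑Q)) (thetaAut hQ fr hperf htop) (by
    rintro _ ⟨x, rfl⟩
    exact thetaAut_conj hQ fr hperf htop x)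

theorem thetaOut_mk (β : MulAut (Cfsg.POmega F ⇑Q)) :
    thetaOut hQ fr hperf htop (QuotientGroup.mk β) = thetaAut hQ fr hperf htop β := rfl

end gen

section field

variable (hp1 : ∀ σ : F ≃+* F, Cfsg.IsSemisimilarityPair (⇑Q) (1 : GL ι F) σ)

/-- the standard field automorphisms of `PΩ(Q)`, for a form with coefficients in the prime field -/
noncomputable def fieldHom : RingAut F →* MulAut (Cfsg.POmega F ⇑Q) :=
  MonoidHom.mk' (fun σ => autOf (⇑Q) (hp1 σ)) (by
    intro σ τ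
    have h := induced_mul (⇑Q) (hp1 σ) (hp1 τ) (induced_autOf _ (hp1 σ)) (induced_autOf _ (hp1 τ))
    rw [map_one, one_mul] at h
    exact (eq_autOf (⇑Q) (hp1 (σ * τ)) h).symm)

theorem fieldHom_apply (σ : RingAut F) : fieldHom hp1 σ = autOf (⇑Q) (hp1 σ) := rfl

variable (hQ : (QuadraticMap.polarBilin Q).Nondegenerate) (fr : Frame3 Q)
  (hperf : commutator ↥(Cfsg.Omega F ⇑Q) = ⊤) (htop : Cfsg.gammaPOmega F ⇑Q = ⊤)

theorem thetaAut_fieldHom (σ : RingAut F) :
    thetaAut hQ fr hperf htop (fieldHom hp1 σ) = σ :=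
  thetaAut_eq hQ fr hperf htop (hp1 σ) (induced_autOf _ (hp1 σ))

include hp1 in
/-- if the kernel of `Out(PΩ(Q)) → Aut(F)` has order two, then `Out = C₂ × Aut(F)` -/
theorem out_equiv_of_ker_two (hK : Nat.card (thetaOut hQ fr hperf htop).ker = 2) :
    Nonempty (Cfsg.Out (Cfsg.POmega F ⇑Q) ≃* Multiplicative (ZMod 2) × RingAut F) := by
  apply split_central_two (thetaOut hQ fr hperf htop)
    ((QuotientGroup.mk' (Cfsg.Inn (Cfsg.POmega F ⇑Q))).comp (fieldHom hp1)) ?_ hK
  intro σ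
  exact thetaAut_fieldHom hp1 hQ fr hperf htop σ

include hp1 in
theorem thetaOut_surjective : Function.Surjective (thetaOut hQ fr hperf htop) := fun σ =>
  ⟨QuotientGroup.mk (fieldHom hp1 σ), thetaAut_fieldHom hp1 hQ fr hperf htop σ⟩

end field

end Cfsg.Agent.Helper7.OutO
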