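import Mathlib
import Cfsg.Agent.Helper7.OutO2
import Cfsg.Agent.Helper7.AutPSL16
import Cfsg.Agent.S0295

/-!
# Outer automorphism groups of orthogonal groups, part 3 (helper7)

`Out(Ω_{2m+1}(q)) = C₂ × C_f`.
-/

set_option autoImplicit false
set_option linter.unusedSectionVars false
set_option linter.unusedVariables false

namespace Cfsg.Agent.Helper7.OutO

open Matrix Module Cfsg.Agent.Helper28.Sg Cfsg.Agent.Helper28.Spin Cfsg.Agent.Helper28.PG
  Cfsg.Agent.Helper28.SSim Cfsg.Agent.Helper28.GC Cfsg.Agent.Helper7.AutO Cfsg.Agent.S2614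

variable {F : Type*} [Field F] {ι : Type} [Fintype ι] [DecidableEq ι]
  {Q : QuadraticForm F (ι → F)}

/-- `PΩ(Q)` is perfect when `Ω(Q)` is -/
theorem commutator_POmega (hperf : commutator ↥(Cfsg.Omega F ⇑Q) = ⊤) :
    commutator (Cfsg.POmega F ⇑Q) = ⊤ := by
  have h1 := Subgroup.map_commutator (⊤ : Subgroup ↥(Cfsg.Omega F ⇑Q)) ⊤ (pr Q)
  rw [Subgroup.map_top_of_surjective (pr Q) (pr_surjective Q), ← commutator_def, ← commutator_def,
    hperf, Subgroup.map_top_of_surjective (pr Q) (pr_surjective Q)] at h1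
  exact h1.symm

/-- the order of the kernel of `Out(PΩ(Q)) → Aut(F)` from the order of `Aut(PΩ(Q))` -/
theorem card_ker_thetaOut [Fintype F] (hQ : (QuadraticMap.polarBilin Q).Nondegenerate)
    (fr : Frame3 Q) (hperf : commutator ↥(Cfsg.Omega F ⇑Q) = ⊤)
    (htop : Cfsg.gammaPOmega F ⇑Q = ⊤)
    (hp1 : ∀ σ : F ≃+* F, Cfsg.IsSemisimilarityPair (⇑Q) (1 : GL ι F) σ)
    [IsSimpleGroup (Cfsg.POmega F ⇑Q)] {f k : ℕ} (hf : 1 ≤ f)
    (hcF : Nat.card (F ≃+* F) = f)
    (hcard : Nat.card (MulAut (Cfsg.POmega F ⇑Q)) = k * f * Nat.card (Cfsg.POmega F ⇑Q)) :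
    Nat.card (thetaOut hQ fr hperf htop).ker = k := by
  have hcen := center_eq_bot_of_simple_perfect (commutator_POmega hperf)
  have hinn : Nat.card (Cfsg.Inn (Cfsg.POmega F ⇑Q)) = Nat.card (Cfsg.POmega F ⇑Q) :=
    card_inn_of_center hcen
  have h1 := Subgroup.card_eq_card_quotient_mul_card_subgroup (Cfsg.Inn (Cfsg.POmega F ⇑Q))
  have h2 := Subgroup.card_eq_card_quotient_mul_card_subgroup (thetaOut hQ fr hperf htop).ker
  have h3 : Nat.card (Cfsg.Out (Cfsg.POmega F ⇑Q) ⧸ (thetaOut hQ fr hperf htop).ker) = f := by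
    rw [← hcF]
    exact Nat.card_congr (QuotientGroup.quotientKerEquivOfSurjective _
      (thetaOut_surjective hp1 hQ fr hperf htop)).toEquiv
  have hT : 0 < Nat.card (Cfsg.POmega F ⇑Q) := Nat.card_pos
  rw [hinn, hcard] at h1
  rw [h3] at h2
  have h4 : Nat.card (Cfsg.Out (Cfsg.POmega F ⇑Q)) = k * f :=
    (Nat.eq_of_mul_eq_mul_right hT h1).symm
  rw [h4] at h2
  have h5 : k * f = Nat.card (thetaOut hQ fr hperf htop).ker * f := by rw [h2]; ring
  exact (Nat.eq_of_mul_eq_mul_right (by omega) h5).symm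

/-- **`Out(Ω_{2m+1}(q)) = C₂ × C_f`** -/
theorem out_odd {F : Type*} [Field F] [Fintype F] {p f m : ℕ} [Fact p.Prime] (hf : 1 ≤ f)
    (hF : Fintype.card F = p ^ f) (hp : p ≠ 2) (hm : 3 ≤ m) :
    Nonempty (Cfsg.Out (Cfsg.POmega F (Cfsg.quadFormOdd m F)) ≃*
      Multiplicative (ZMod 2 × ZMod f)) := by
  classical
  have hpodd : Odd p := (Fact.out : p.Prime).odd_of_ne_two hp
  have hodd : Odd (Fintype.card F) := by rw [hF]; exact hpodd.pow
  have h2 : (2 : F) ≠ 0 := by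
    apply Ring.two_ne_zero
    intro h
    rw [FiniteField.even_card_iff_char_two] at h
    rcases hodd with ⟨k, hk⟩
    omega
  have hQ := Cfsg.Agent.S0292.QfOdd_nondeg h2 (F := F) m
  let a : Fin 3 → Unit ⊕ (Fin m ⊕ Fin m) := fun j => Sum.inr (Sum.inl (Fin.castLE (by omega) j))
  let b : Fin 3 → Unit ⊕ (Fin m ⊕ Fin m) := fun j => Sum.inr (Sum.inr (Fin.castLE (by omega) j))
  have hinj : Function.Injective (Sum.elim a b) := by
    intro x y h
    rcases x with x | x <;> rcases y with y | y <;>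
      simp only [Sum.elim_inl, Sum.elim_inr, a, b, Sum.inl.injEq, Sum.inr.injEq, reduceCtorEq,
        Fin.castLE_inj] at h
    · rw [h]
    · rw [h]
  let fr : Frame3 (QfOdd m F) := frameOf a b hinj (fun j => hypPair_odd m _)
  have hperf := Omega_perfect' hQ fr (hgen_odd h2 hQ)
  have hsimple := Cfsg.Agent.S0295.result hodd m hm
  have htop := gamma_odd hodd hm
  have hcard := card_mulAut_odd_of_gamma_top p f hF hpodd m hm htop
  have hp1 : ∀ σ : F ≃+* F, Cfsg.IsSemisimilarityPair (Cfsg.quadFormOdd m F)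
      (1 : GL (Unit ⊕ (Fin m ⊕ Fin m)) F) σ := fun σ => semisim_one_odd m σ
  rw [← QfOdd_coe] at hsimple htop hcard hp1 ⊢
  have hK := card_ker_thetaOut hQ fr hperf htop hp1 hf (card_ringAut_eq hF) hcard
  obtain ⟨e₁⟩ := out_equiv_of_ker_two hp1 hQ fr hperf htop hK
  obtain ⟨e₂⟩ := Cfsg.Agent.Helper7.AutPSL.exists_ringAut_equiv (F := F) hF
  exact ⟨e₁.trans ((MulEquiv.prodCongr (MulEquiv.refl _) e₂).trans
    (MulEquiv.prodMultiplicative (ZMod 2) (ZMod f)).symm)⟩

end Cfsg.Agent.Helper7.OutO
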