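import Mathlib
import Cfsg.Agent.Helper7.OutO3

/-!
# Outer automorphism groups of orthogonal groups, part 4 (helper7)

General tools for the cyclic case: surjectivity of `Out(PΩ(Q)) → Aut(F)` from the existence of
semisimilarity pairs, the order of `Out`, a cyclicity criterion and the Frobenius automorphism in
characteristic two.
-/

set_option autoImplicit false
set_option linter.unusedSectionVars false
set_option linter.unusedVariables false

namespace Cfsg.Agent.Helper7.OutO

open Matrix Module Cfsg.Agent.Helper28.Sg Cfsg.Agent.Helper28.Spin Cfsg.Agent.Helper28.PG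
  Cfsg.Agent.Helper28.SSim Cfsg.Agent.Helper28.GC Cfsg.Agent.Helper7.AutO

variable {F : Type*} [Field F] {ι : Type} [Fintype ι] [DecidableEq ι]
  {Q : QuadraticForm F (ι → F)}

theorem thetaOut_surjective' (hQ : (QuadraticMap.polarBilin Q).Nondegenerate) (fr : Frame3 Q)
    (hperf : commutator ↥(Cfsg.Omega F ⇑Q) = ⊤) (htop : Cfsg.gammaPOmega F ⇑Q = ⊤)
    (hsurj : ∀ σ : F ≃+* F, ∃ g : GL ι F, Cfsg.IsSemisimilarityPair (⇑Q) g σ) :
    Function.Surjective (thetaOut hQ fr hperf htop) := by
  intro σ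
  obtain ⟨g, hp⟩ := hsurj σ
  exact ⟨QuotientGroup.mk (autOf (⇑Q) hp),
    thetaAut_eq hQ fr hperf htop hp (induced_autOf _ hp)⟩

/-- the order of `Out(PΩ(Q))` from the order of `Aut(PΩ(Q))` -/
theorem card_out_of [Fintype F] (hperf : commutator ↥(Cfsg.Omega F ⇑Q) = ⊤)
    [IsSimpleGroup (Cfsg.POmega F ⇑Q)] {k : ℕ}
    (hcard : Nat.card (MulAut (Cfsg.POmega F ⇑Q)) = k * Nat.card (Cfsg.POmega F ⇑Q)) :
    Nat.card (Cfsg.Out (Cfsg.POmega F ⇑Q)) = k := by
  have hcen := center_eq_bot_of_simple_perfect (commutator_POmega hperf)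
  have hinn : Nat.card (Cfsg.Inn (Cfsg.POmega F ⇑Q)) = Nat.card (Cfsg.POmega F ⇑Q) :=
    card_inn_of_center hcen
  have h1 := Subgroup.card_eq_card_quotient_mul_card_subgroup (Cfsg.Inn (Cfsg.POmega F ⇑Q))
  have hT : 0 < Nat.card (Cfsg.POmega F ⇑Q) := Nat.card_pos
  rw [hinn, hcard] at h1
  exact (Nat.eq_of_mul_eq_mul_right hT h1).symm

/-- a group of order `2 f` mapping onto a group in which the image of `x` has order `f`, with
`x ^ f ≠ 1`, is cyclic -/
theorem isCyclic_of_order {G R : Type*} [Group G] [Group R] (θ : G →* R) {f : ℕ} (hf : 1 ≤ f)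
    (hG : Nat.card G = 2 * f) (x : G) (hx : orderOf (θ x) = f) (hxf : x ^ f ≠ 1) :
    IsCyclic G := by
  have hfin : Finite G := Nat.finite_of_card_ne_zero (by rw [hG]; omega)
  have h1 : f ∣ orderOf x := by rw [← hx]; exact orderOf_map_dvd θ x
  have h2 : orderOf x ∣ 2 * f := by rw [← hG]; exact orderOf_dvd_natCard x
  obtain ⟨d, hd⟩ := h1
  have hd2 : d ∣ 2 := by
    rw [hd, mul_comm] at h2
    exact Nat.dvd_of_mul_dvd_mul_right (by omega) h2
  have hd' : d = 1 ∨ d = 2 := by
    have := Nat.le_of_dvd (by norm_num) hd2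
    interval_cases d
    · simp at hd2
    · exact Or.inl rfl
    · exact Or.inr rfl
  rcases hd' with rfl | rfl
  · exfalso
    apply hxf
    rw [mul_one] at hd
    rw [← hd]
    exact pow_orderOf_eq_one x
  · apply isCyclic_of_orderOf_eq_card x
    rw [hd, hG, mul_comm]

/-- the Frobenius automorphism `t ↦ t²` of a finite field of order `2 ^ f` has order `f` -/
theorem exists_frob [Fintype F] (h2 : (2 : F) = 0) {f : ℕ} (hF : Fintype.card F = 2 ^ f) :
    ∃ φ : RingAut F, (∀ t, φ t = t * t) ∧ orderOf φ = f := by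
  have hchar : CharP F 2 := CharTwo.of_one_ne_zero_of_two_eq_zero one_ne_zero h2
  have : Fact (Nat.Prime 2) := ⟨Nat.prime_two⟩
  let _ : Algebra (ZMod 2) F := ZMod.algebra F 2
  have hrank : Module.finrank (ZMod 2) F = f := by
    have := Module.card_eq_pow_finrank (K := ZMod 2) (V := F)
    rw [hF, ZMod.card] at this
    exact (Nat.pow_right_injective (le_refl 2) this).symm
  let toRE : (F ≃ₐ[ZMod 2] F) →* RingAut F :=
    { toFun := fun g => g.toRingEquiv, map_one' := rfl, map_mul' := fun _ _ => rfl }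
  have hinj : Function.Injective toRE := by
    intro g g' h
    ext t
    exact RingEquiv.congr_fun h t
  refine ⟨toRE (FiniteField.frobeniusAlgEquivOfAlgebraic (ZMod 2) F), ?_, ?_⟩
  · intro t
    show (FiniteField.frobeniusAlgEquivOfAlgebraic (ZMod 2) F) t = t * t
    rw [FiniteField.coe_frobeniusAlgEquivOfAlgebraic]
    show t ^ Fintype.card (ZMod 2) = t * t
    rw [ZMod.card, pow_two]
  · rw [orderOf_injective toRE hinj, FiniteField.orderOf_frobeniusAlgEquivOfAlgebraic, hrank]

end Cfsg.Agent.Helper7.OutO
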