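import Mathlib
import Cfsg.Agent.Helper7.OutO1

/-!
# Outer automorphism groups of orthogonal groups, part 8 (helper7)

Abstract group theory for the structure of `Out(PΩ⁻_{2m}(q))`, `q` odd: a group `G` with a
surjection onto a cyclic group of order `f` whose kernel is a four-group (central) or a dihedral
group of order eight (acted on trivially modulo a normal subgroup of order two).
-/

set_option autoImplicit false
set_option linter.unusedSectionVars false
set_option linter.unusedVariables false

namespace Cfsg.Agent.Helper7.OutO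

/-- internal direct product of two commuting subgroups -/
theorem mulEquiv_prod_of_disjoint {G : Type*} [Group G] [Finite G] (H₁ H₂ : Subgroup G)
    (hcomm : ∀ a ∈ H₁, ∀ b ∈ H₂, a * b = b * a) (hdis : ∀ u, u ∈ H₁ → u ∈ H₂ → u = 1)
    (hcard : Nat.card H₁ * Nat.card H₂ = Nat.card G) : Nonempty (G ≃* H₁ × H₂) := by
  let ψ : H₁ × H₂ →* G :=
    MonoidHom.noncommCoprod H₁.subtype H₂.subtype (fun a b => hcomm a a.2 b b.2)
  have hψ : ∀ a b, ψ (a, b) = (a : G) * (b : G) := fun a b => rfl
  have hinj : Function.Injective ψ := by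
    rw [injective_iff_map_eq_one]
    rintro ⟨a, b⟩ h
    rw [hψ] at h
    have h1 : (a : G) = (b : G)⁻¹ := eq_inv_of_mul_eq_one_left h
    have h2 : (a : G) = 1 := hdis _ a.2 (by rw [h1]; exact H₂.inv_mem b.2)
    have h3 : (b : G) = 1 := by rw [h2, one_mul] at h; exact h
    exact Prod.ext (Subtype.ext h2) (Subtype.ext h3)
  have hbij : Function.Bijective ψ :=
    (Nat.bijective_iff_injective_and_card ψ).2 ⟨hinj, by rw [Nat.card_prod, hcard]⟩
  exact ⟨(MulEquiv.ofBijective ψ hbij).symm⟩

/-- the cyclic group generated by an element of order `n` -/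
theorem zpowers_equiv {G : Type*} [Group G] (y : G) {n : ℕ} (hy : orderOf y = n) :
    Nonempty (Subgroup.zpowers y ≃* Multiplicative (ZMod n)) := by
  have hc : Nat.card (Subgroup.zpowers y) = n := by rw [Nat.card_zpowers, hy]
  have hcyc : IsCyclic (Subgroup.zpowers y) := inferInstance
  have e := zmodCyclicMulEquiv hcyc
  rw [hc] at e
  exact ⟨e.symm⟩

section lifts

variable {G R : Type*} [Group G] [Group R] (θ : G →* R)

theorem exists_lift_gen (hθ : Function.Surjective θ) [IsCyclic R] {f : ℕ}
    (hRcard : Nat.card R = f) : ∃ x : G, orderOf (θ x) = f := by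
  obtain ⟨g₀, hg₀⟩ := IsCyclic.exists_generator (α := R)
  obtain ⟨x, rfl⟩ := hθ g₀
  exact ⟨x, by rw [orderOf_eq_card_of_forall_mem_zpowers hg₀, hRcard]⟩

theorem pow_mem_ker {x : G} {f : ℕ} (hx : orderOf (θ x) = f) : x ^ f ∈ θ.ker := by
  rw [MonoidHom.mem_ker, map_pow, ← hx, pow_orderOf_eq_one]

/-- a generator of a complement to the kernel, when the kernel has order prime to `f` -/
theorem exists_complement_gen [Finite G] (hθ : Function.Surjective θ) [IsCyclic R] {f N : ℕ}
    (hRcard : Nat.card R = f) (hN : Nat.card θ.ker = N) (hcop : Nat.Coprime f N) :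
    ∃ c : G, orderOf c = f ∧ orderOf (θ c) = f := by
  obtain ⟨x, hx⟩ := exists_lift_gen θ hθ hRcard
  refine ⟨x ^ N, ?_, ?_⟩
  · apply Nat.dvd_antisymm
    · apply orderOf_dvd_of_pow_eq_one
      rw [← pow_mul, mul_comm, pow_mul]
      have h1 : (⟨x ^ f, pow_mem_ker θ hx⟩ : θ.ker) ^ N = 1 := by
        rw [← hN]; exact pow_card_eq_one'
      exact congrArg Subtype.val h1
    · have h2 : orderOf (θ (x ^ N)) = f := by
        rw [map_pow, Nat.Coprime.orderOf_pow (by rw [hx]; exact hcop), hx]
      rw [← h2]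
      exact orderOf_map_dvd θ (x ^ N)
  · rw [map_pow, Nat.Coprime.orderOf_pow (by rw [hx]; exact hcop), hx]

/-- the intersection of `⟨c⟩` with the kernel, for `c` of order `f` mapping to an element of
order `f` -/
theorem zpowers_inf_ker {c : G} {f : ℕ} (hc : orderOf c = f) (hθc : orderOf (θ c) = f) {u : G}
    (hu : u ∈ Subgroup.zpowers c) (hk : u ∈ θ.ker) : u = 1 := by
  obtain ⟨j, rfl⟩ := hu
  rw [MonoidHom.mem_ker, map_zpow] at hk
  have h1 : (orderOf (θ c) : ℤ) ∣ j := orderOf_dvd_iff_zpow_eq_one.2 hk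
  rw [hθc, ← hc] at h1
  exact orderOf_dvd_iff_zpow_eq_one.1 h1

/-- the order of `G` -/
theorem card_eq_ker_mul [Finite G] (hθ : Function.Surjective θ) {f N : ℕ}
    (hRcard : Nat.card R = f) (hN : Nat.card θ.ker = N) : Nat.card G = N * f := by
  have h1 := Subgroup.card_eq_card_quotient_mul_card_subgroup θ.ker
  have h2 : Nat.card (G ⧸ θ.ker) = f := by
    rw [← hRcard]
    exact Nat.card_congr (QuotientGroup.quotientKerEquivOfSurjective θ hθ).toEquiv
  rw [h1, h2, hN, mul_comm]

end lifts

/-- **the dihedral case** -/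
theorem out_struct_D8 {G R : Type*} [Group G] [Group R] [Finite G] (θ : G →* R)
    (hθ : Function.Surjective θ) [IsCyclic R] {f : ℕ} (hfodd : Odd f) (hRcard : Nat.card R = f)
    (e : θ.ker ≃* DihedralGroup 4) (Z : Subgroup G) [Z.Normal] (hZ2 : Nat.card Z = 2)
    (hcomm : ∀ x : G, ∀ k ∈ θ.ker, x * k * x⁻¹ * k⁻¹ ∈ Z) :
    Nonempty (G ≃* DihedralGroup 4 × Multiplicative (ZMod f)) := by
  have hK8 : Nat.card θ.ker = 8 := by
    rw [Nat.card_congr e.toEquiv, DihedralGroup.nat_card]
  have hcop : Nat.Coprime f 8 := by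
    have : Nat.Coprime f 2 := Nat.coprime_two_right.2 hfodd
    exact Nat.Coprime.pow_right 3 this
  obtain ⟨c, hc, hθc⟩ := exists_complement_gen θ hθ hRcard hK8 hcop
  -- `c` centralises the kernel
  have hcent : ∀ k ∈ θ.ker, k * c = c * k := by
    intro k hk
    have hz := hcomm c k hk
    set z := c * k * c⁻¹ * k⁻¹ with hzdef
    have hzc : ∀ g : G, g * z = z * g := fun g => central_of_card_two Z hZ2 hz g
    have hz2 : z * z = 1 := by
      have h1 : (⟨z, hz⟩ : Z) ^ 2 = 1 := by rw [← hZ2]; exact pow_card_eq_one'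
      have h2 := congrArg Subtype.val h1
      rw [pow_two] at h2
      exact h2
    have h1 : c * k = z * k * c := by rw [hzdef]; group
    have h2 : c ^ 2 * k = k * c ^ 2 := by
      calc c ^ 2 * k = c * (c * k) := by rw [pow_two, mul_assoc]
        _ = c * (z * k * c) := by rw [h1]
        _ = z * (c * k) * c := by rw [← mul_assoc, ← mul_assoc, hzc c]; group
        _ = z * (z * k * c) * c := by rw [h1]
        _ = (z * z) * k * c ^ 2 := by rw [pow_two]; group
        _ = k * c ^ 2 := by rw [hz2, one_mul]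
    obtain ⟨t, ht⟩ := hfodd
    have h3 : c = (c ^ 2) ^ (t + 1) := by
      rw [← pow_mul]
      have : 2 * (t + 1) = f + 1 := by omega
      rw [this, pow_succ, ← hc, pow_orderOf_eq_one, one_mul]
    have h4 : Commute (c ^ 2) k := h2
    have h5 := h4.pow_left (t + 1)
    rw [← h3] at h5
    exact h5.eq.symm
  obtain ⟨E⟩ := mulEquiv_prod_of_disjoint θ.ker (Subgroup.zpowers c)
    (by
      intro a ha b hb
      obtain ⟨j, rfl⟩ := hb
      have h1 : Commute a c := hcent a ha
      exact (h1.zpow_right j).eq)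
    (fun u hu1 hu2 => zpowers_inf_ker θ hc hθc hu2 hu1)
    (by rw [Nat.card_zpowers, hc, hK8, card_eq_ker_mul θ hθ hRcard hK8])
  obtain ⟨e₂⟩ := zpowers_equiv c hc
  exact ⟨E.trans (MulEquiv.prodCongr e e₂)⟩

/-- **the four-group case** -/
theorem out_struct_V4 {G R : Type*} [Group G] [Group R] [Finite G] (θ : G →* R)
    (hθ : Function.Surjective θ) [IsCyclic R] {f : ℕ} (hf : 1 ≤ f) (hRcard : Nat.card R = f)
    (hK4 : Nat.card θ.ker = 4) (hK2 : ∀ k ∈ θ.ker, k * k = 1)
    (hKc : ∀ k ∈ θ.ker, ∀ x : G, x * k = k * x)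
    (heven : Even f → ∃ x : G, orderOf (θ x) = f ∧ x ^ f ≠ 1) :
    Nonempty (G ≃* Multiplicative (ZMod 2 × ZMod (2 * f))) := by
  -- `G` is commutative
  have hab : ∀ a b : G, a * b = b * a := by
    apply commutative_of_cyclic_center_quotient θ
    intro k hk
    rw [Subgroup.mem_center_iff]
    intro x
    exact hKc k hk x
  -- an element `y` of order `2 f` mapping to an element of order `f`
  have hy : ∃ y : G, orderOf y = 2 * f ∧ orderOf (θ y) = f := by
    rcases Nat.even_or_odd f with hev | hodd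
    · obtain ⟨x, hx, hxf⟩ := heven hev
      refine ⟨x, ?_, hx⟩
      have h1 : f ∣ orderOf x := by rw [← hx]; exact orderOf_map_dvd θ x
      have h2 : orderOf x ∣ 2 * f := by
        apply orderOf_dvd_of_pow_eq_one
        rw [mul_comm, pow_mul, pow_two]
        exact hK2 _ (pow_mem_ker θ hx)
      obtain ⟨d, hd⟩ := h1
      have hd2 : d ∣ 2 := by
        rw [hd, mul_comm] at h2
        exact Nat.dvd_of_mul_dvd_mul_right (by omega) h2
      have hd' : d = 1 ∨ d = 2 := by
        have := Nat.le_of_dvd (by norm_num) hd2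
        interval_cases d
        · simp at hd2
        · exact Or.inl rfl
        · exact Or.inr rfl
      rcases hd' with rfl | rfl
      · exfalso
        apply hxf
        rw [mul_one] at hd
        rw [← hd]
        exact pow_orderOf_eq_one x
      · rw [hd, mul_comm]
    · have hcop : Nat.Coprime f 4 := by
        have : Nat.Coprime f 2 := Nat.coprime_two_right.2 hodd
        exact Nat.Coprime.pow_right 2 this
      obtain ⟨c, hc, hθc⟩ := exists_complement_gen θ hθ hRcard hK4 hcop
      -- a nontrivial element of the kernel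
      obtain ⟨γ, hγ⟩ : ∃ γ : θ.ker, γ ≠ 1 := by
        have : Nontrivial θ.ker := by
          rw [← Finite.one_lt_card_iff_nontrivial, hK4]; norm_num
        exact exists_ne 1
      have hγ2 : orderOf (γ : G) = 2 := by
        apply orderOf_eq_prime
        · rw [pow_two]; exact hK2 _ γ.2
        · intro h; exact hγ (Subtype.ext h)
      refine ⟨c * γ, ?_, ?_⟩
      · have hcomm : Commute c (γ : G) := hab c γ
        rw [hcomm.orderOf_mul_eq_mul_orderOf_of_coprime (by
          rw [hc, hγ2]; exact Nat.coprime_two_right.2 hodd), hc, hγ2, mul_comm]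
      · rw [map_mul, (MonoidHom.mem_ker).1 γ.2, mul_one, hθc]
  obtain ⟨y, hy1, hy2⟩ := hy
  -- an element of the kernel outside `⟨y⟩`
  obtain ⟨δ, hδK, hδy⟩ : ∃ δ ∈ θ.ker, δ ∉ Subgroup.zpowers y := by
    by_contra hcon
    push Not at hcon
    -- the kernel would be cyclic
    have hle : θ.ker ≤ Subgroup.zpowers y := hcon
    have hcyc : IsCyclic θ.ker := by
      have : IsCyclic (Subgroup.zpowers y) := inferInstance
      exact isCyclic_of_injective (Subgroup.inclusion hle) (Subgroup.inclusion_injective hle)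
    obtain ⟨g, hg⟩ := IsCyclic.exists_generator (α := θ.ker)
    have h4 : orderOf g = 4 := by rw [orderOf_eq_card_of_forall_mem_zpowers hg, hK4]
    have h2 : g ^ 2 = 1 := by
      apply Subtype.ext
      rw [Subgroup.coe_pow, pow_two]
      exact hK2 _ g.2
    have := orderOf_dvd_of_pow_eq_one h2
    rw [h4] at this
    omega
  have hδ1 : δ ≠ 1 := fun h => hδy (by rw [h]; exact Subgroup.one_mem _)
  have hδ2 : orderOf δ = 2 := by
    apply orderOf_eq_prime
    · rw [pow_two]; exact hK2 _ hδK
    · exact hδ1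
  obtain ⟨E⟩ := mulEquiv_prod_of_disjoint (Subgroup.zpowers δ) (Subgroup.zpowers y)
    (fun a _ b _ => hab a b)
    (by
      intro u hu1 hu2
      by_contra hu
      apply hδy
      -- `u` is `δ`
      rw [Subgroup.mem_zpowers_iff] at hu1
      obtain ⟨j, rfl⟩ := hu1
      rcases Int.emod_two_eq_zero_or_one j with hj | hj
      · exfalso
        apply hu
        have : (2 : ℤ) ∣ j := Int.dvd_of_emod_eq_zero hj
        obtain ⟨t, rfl⟩ := this
        rw [zpow_mul, zpow_ofNat, pow_two, hK2 _ hδK, one_zpow]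
      · have : j = 2 * (j / 2) + 1 := by omega
        rw [this, zpow_add, zpow_mul, zpow_ofNat, pow_two, hK2 _ hδK, one_zpow, one_mul,
          zpow_one] at hu2
        exact hu2)
    (by
      rw [Nat.card_zpowers, Nat.card_zpowers, hδ2, hy1, card_eq_ker_mul θ hθ hRcard hK4]
      ring)
  obtain ⟨e₁⟩ := zpowers_equiv δ hδ2
  obtain ⟨e₂⟩ := zpowers_equiv y hy1
  exact ⟨E.trans ((MulEquiv.prodCongr e₁ e₂).trans
    (MulEquiv.prodMultiplicative (ZMod 2) (ZMod (2 * f))).symm)⟩

end Cfsg.Agent.Helper7.OutO
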