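import Mathlib
import Cfsg.Agent.Helper28.GammaCount7
import Cfsg.Agent.Helper28.PgoAut5

/-!
# Outer automorphism groups of orthogonal groups, part 9 (helper7)

Conjugating the automorphism induced by a similarity `h` by the automorphism induced by a
semisimilarity `(g, σ)` gives the automorphism induced by the similarity `g σ(h) g⁻¹`, which has
the same invariants `chi` (class of the multiplier modulo squares) and `sgn`.
-/

set_option autoImplicit false
set_option linter.unusedSectionVars false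
set_option linter.unusedVariables false

namespace Cfsg.Agent.Helper7.OutO

open Matrix Module Cfsg.Agent.Helper28.Sg Cfsg.Agent.Helper28.Spin Cfsg.Agent.Helper28.PG
  Cfsg.Agent.Helper28.SSim Cfsg.Agent.Helper28.GC Cfsg.Agent.Helper28.IsoTransport

variable {F : Type*} [Field F] {ι : Type} [Fintype ι] [DecidableEq ι]
  (Q : QuadraticForm F (ι → F))

/-- the similarity `g σ(h) g⁻¹` -/
theorem conj_semi_mem_GO {g : GL ι F} {σ : F ≃+* F}
    (hp : Cfsg.IsSemisimilarityPair (⇑Q) g σ) (h : ↥(GO Q)) (v : ι → F) :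
    Q (((g * mapGL σ (h : GL ι F) * g⁻¹ : GL ι F) : Matrix ι ι F) *ᵥ v) =
      σ (mu Q h : F) * Q v := by
  obtain ⟨c, hc⟩ := hp
  set u : ι → F := fun i => σ.symm ((((g⁻¹ : GL ι F) : Matrix ι ι F) *ᵥ v) i) with hu
  have hσu : (fun i => σ (u i)) = ((g⁻¹ : GL ι F) : Matrix ι ι F) *ᵥ v := by
    funext i; rw [hu]; simp
  have hv : (g : Matrix ι ι F) *ᵥ (fun i => σ (u i)) = v := by
    rw [hσu, Matrix.mulVec_mulVec, ← Units.val_mul, mul_inv_cancel, Units.val_one,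
      Matrix.one_mulVec]
  have h1 : ((g * mapGL σ (h : GL ι F) * g⁻¹ : GL ι F) : Matrix ι ι F) *ᵥ v =
      (g : Matrix ι ι F) *ᵥ (fun i => σ ((((h : GL ι F) : Matrix ι ι F) *ᵥ u) i)) := by
    rw [Units.val_mul, Units.val_mul, ← Matrix.mulVec_mulVec, ← Matrix.mulVec_mulVec, ← hσu,
      mapGL_val, map_mulVec'']
  rw [h1, hc, mu_spec, map_mul, ← hv, hc]
  ring

/-- the similarity `g σ(h) g⁻¹` as an element of the similarity group -/
noncomputable def conjSemi {g : GL ι F} {σ : F ≃+* F}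
    (hp : Cfsg.IsSemisimilarityPair (⇑Q) g σ) (h : ↥(GO Q)) : ↥(GO Q) :=
  ⟨g * mapGL σ (h : GL ι F) * g⁻¹, ⟨Units.map (σ : F →* F) (mu Q h),
    fun v => conj_semi_mem_GO Q hp h v⟩⟩

theorem conjSemi_coe {g : GL ι F} {σ : F ≃+* F}
    (hp : Cfsg.IsSemisimilarityPair (⇑Q) g σ) (h : ↥(GO Q)) :
    ((conjSemi Q hp h : ↥(GO Q)) : GL ι F) = g * mapGL σ (h : GL ι F) * g⁻¹ := rfl

/-- conjugating `cG h` by the automorphism of a semisimilarity pair -/
theorem autOf_mul_cG {g : GL ι F} {σ : F ≃+* F}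
    (hp : Cfsg.IsSemisimilarityPair (⇑Q) g σ) (h : ↥(GO Q)) :
    autOf (⇑Q) hp * cG Q h = cG Q (conjSemi Q hp h) * autOf (⇑Q) hp := by
  apply MulEquiv.ext
  intro x
  induction x using QuotientGroup.induction_on with
  | H s =>
    rw [MulAut.mul_apply, MulAut.mul_apply, cG_mk, autOf_mk, autOf_mk, cG_mk]
    congr 1
    apply Subtype.ext
    apply Subtype.ext
    rw [conjΩ_coe, conjO_coe, conjSemi_coe]
    show actHom g σ _ = _ * actHom g σ _ * _
    rw [actHom_apply, actHom_apply]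
    have h1 : (Cfsg.isometryGroup F ⇑Q).subtype ((Cfsg.Omega F ⇑Q).subtype (conjΩ Q h s)) =
        (h : GL ι F) * (Cfsg.isometryGroup F ⇑Q).subtype ((Cfsg.Omega F ⇑Q).subtype s) *
          (h : GL ι F)⁻¹ := rfl
    rw [h1, map_mul, map_mul, map_inv]
    group

theorem conj_cG {g : GL ι F} {σ : F ≃+* F}
    (hp : Cfsg.IsSemisimilarityPair (⇑Q) g σ) (h : ↥(GO Q)) :
    autOf (⇑Q) hp * cG Q h * (autOf (⇑Q) hp)⁻¹ = cG Q (conjSemi Q hp h) := by
  rw [autOf_mul_cG, mul_assoc, mul_inv_cancel, mul_one]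

theorem mu_conjSemi (hex : ∃ v : ι → F, Q v ≠ 0) {g : GL ι F} {σ : F ≃+* F}
    (hp : Cfsg.IsSemisimilarityPair (⇑Q) g σ) (h : ↥(GO Q)) :
    mu Q (conjSemi Q hp h) = Units.map (σ : F →* F) (mu Q h) := by
  symm
  apply mu_unique Q hex
  intro v
  exact conj_semi_mem_GO Q hp h v

variable [Fintype F] [DecidableEq F]

theorem chi_conjSemi (hex : ∃ v : ι → F, Q v ≠ 0) {g : GL ι F} {σ : F ≃+* F}
    (hp : Cfsg.IsSemisimilarityPair (⇑Q) g σ) (h : ↥(GO Q)) :
    chi Q (conjSemi Q hp h) = chi Q h := by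
  have hiff : IsSquare ((mu Q (conjSemi Q hp h) : Fˣ) : F) ↔ IsSquare ((mu Q h : Fˣ) : F) := by
    rw [mu_conjSemi Q hex hp h]
    show IsSquare (σ (mu Q h : F)) ↔ _
    constructor
    · rintro ⟨r, hr⟩
      refine ⟨σ.symm r, ?_⟩
      rw [← map_mul, ← hr]
      simp
    · rintro ⟨r, hr⟩
      exact ⟨σ r, by rw [hr, map_mul]⟩
  unfold chi
  by_cases hsq : IsSquare ((mu Q h : Fˣ) : F)
  · rw [(quadraticChar_one_iff_isSquare (Units.ne_zero _)).2 hsq,
      (quadraticChar_one_iff_isSquare (Units.ne_zero _)).2 (hiff.2 hsq)]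
  · have h1 : quadraticChar F ((mu Q h : Fˣ) : F) = -1 := by
      rcases quadraticChar_dichotomy (Units.ne_zero (mu Q h)) with h1 | h1
      · exact absurd ((quadraticChar_one_iff_isSquare (Units.ne_zero _)).1 h1) hsq
      · exact h1
    have h3 : quadraticChar F ((mu Q (conjSemi Q hp h) : Fˣ) : F) = -1 := by
      rcases quadraticChar_dichotomy (Units.ne_zero (mu Q (conjSemi Q hp h))) with h1 | h1
      · exact absurd (hiff.1 ((quadraticChar_one_iff_isSquare (Units.ne_zero _)).1 h1)) hsq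
      · exact h1
    rw [h1, h3]

theorem sgn_conjSemi (hex : ∃ v : ι → F, Q v ≠ 0)
    (hQ : (QuadraticMap.polarBilin Q).Nondegenerate) {k : ℕ}
    (hk : Fintype.card ι = 2 * k) {g : GL ι F} {σ : F ≃+* F}
    (hp : Cfsg.IsSemisimilarityPair (⇑Q) g σ) (h : ↥(GO Q)) :
    Cfsg.Agent.Helper28.PG.sgn Q k (conjSemi Q hp h) = Cfsg.Agent.Helper28.PG.sgn Q k h := by
  have h1 : Cfsg.Agent.Helper28.PG.sgn Q k (conjSemi Q hp h) = σ (Cfsg.Agent.Helper28.PG.sgn Q k h) := by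
    unfold Cfsg.Agent.Helper28.PG.sgn
    rw [mu_conjSemi Q hex hp h, conjSemi_coe, Units.val_mul, Units.val_mul, Matrix.det_mul,
      Matrix.det_mul, mapGL_val, map_mul, map_pow, map_inv₀]
    have h3 : ((σ : F →+* F).mapMatrix ((h : GL ι F) : Matrix ι ι F)).det =
        σ (((h : GL ι F) : Matrix ι ι F).det) := (RingHom.map_det _ _).symm
    have h4 : (((h : GL ι F) : Matrix ι ι F).map ⇑σ).det =
        σ (((h : GL ι F) : Matrix ι ι F).det) := h3
    rw [h4]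
    have h5 : ((g : GL ι F) : Matrix ι ι F).det * ((g⁻¹ : GL ι F) : Matrix ι ι F).det = 1 := by
      rw [← Matrix.det_mul, ← Units.val_mul, mul_inv_cancel, Units.val_one, Matrix.det_one]
    have h6 : ((Units.map (σ : F →* F) (mu Q h) : Fˣ) : F) = σ (mu Q h : F) := rfl
    rw [h6]
    linear_combination (σ (((h : GL ι F) : Matrix ι ι F).det) * (σ (mu Q h : F))⁻¹ ^ k) * h5
  rw [h1]
  rcases sgn_cases Q hQ hk h with h2 | h2
  · rw [h2, map_one]
  · rw [h2, map_neg, map_one]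

/-- the whole of `gammaPOmega` centralises `PGO` modulo `PSO` -/
theorem comm_mem_psoAut (hex : ∃ v : ι → F, Q v ≠ 0)
    (hQ : (QuadraticMap.polarBilin Q).Nondegenerate) (h2 : (2 : F) ≠ 0) {k : ℕ}
    (hk : Fintype.card ι = 2 * k) {β ν : MulAut (Cfsg.POmega F ⇑Q)}
    (hβ : β ∈ Cfsg.gammaPOmega F ⇑Q) (hν : ν ∈ Cfsg.pgoAut F ⇑Q) :
    β * ν * β⁻¹ * ν⁻¹ ∈ Cfsg.psoAut F ⇑Q := by
  obtain ⟨g, σ, hp, hind⟩ := exists_of_mem_gamma (⇑Q) β hβ
  have hβ' : β = autOf (⇑Q) hp := eq_autOf (⇑Q) hp hind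
  rw [pgoAut_eq] at hν
  obtain ⟨h, rfl⟩ := hν
  rw [hβ', conj_cG, ← map_inv, ← map_mul]
  have h1 : phi0 Q hex hQ h2 hk (conjSemi Q hp h * h⁻¹) = 1 := by
    rw [map_mul, map_inv]
    have h3 : phi0 Q hex hQ h2 hk (conjSemi Q hp h) = phi0 Q hex hQ h2 hk h := by
      rw [phi0_apply, phi0_apply, chi_conjSemi Q hex hp h, sgn_conjSemi Q hex hQ hk hp h]
    rw [h3, mul_inv_cancel]
  rw [phi0_eq_one_iff] at h1
  obtain ⟨s, hs, hgs⟩ := exists_SO_of_ker Q hex hk _ h1.1 h1.2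
  rw [hgs, psoAut_eq]
  exact ⟨s, hs, rfl⟩

end Cfsg.Agent.Helper7.OutO
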