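import Mathlib
import Cfsg.Agent.Helper7.OutO4
import Cfsg.Agent.Helper7.OutO8
import Cfsg.Agent.Helper7.OutO9
import Cfsg.Agent.Helper28.SemiSim5

/-!
# Outer automorphism groups of orthogonal groups, part 10 (helper7)

The kernel of `Out(PΩ(Q)) → Aut(F)` is the image of `PGO(Q)`; the image of `PSO(Q)` is a normal
subgroup containing all commutators `[x, k]` with `k` in the kernel; powers of semilinear
automorphisms; a semilinear automorphism whose field automorphism has even order `2e` has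
`2e`-th power outside the inner automorphisms when the discriminant is not a square.
-/

set_option autoImplicit false
set_option linter.unusedSectionVars false
set_option linter.unusedVariables false

namespace Cfsg.Agent.Helper7.OutO

open Matrix Module Cfsg.Agent.Helper28.Sg Cfsg.Agent.Helper28.Spin Cfsg.Agent.Helper28.PG
  Cfsg.Agent.Helper28.SSim Cfsg.Agent.Helper28.GC Cfsg.Agent.Helper7.AutO

/-- two surjective homomorphisms with the same kernel have isomorphic codomains -/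
theorem equiv_of_ker_eq {P A B : Type*} [Group P] [Group A] [Group B] (φ : P →* A) (ψ : P →* B)
    (hφ : Function.Surjective φ) (hψ : Function.Surjective ψ) (h : φ.ker = ψ.ker) :
    Nonempty (A ≃* B) :=
  ⟨(QuotientGroup.quotientKerEquivOfSurjective φ hφ).symm.trans
    ((QuotientGroup.quotientMulEquivOfEq h).trans
      (QuotientGroup.quotientKerEquivOfSurjective ψ hψ))⟩

variable {F : Type*} [Field F] [Fintype F] [DecidableEq F] {ι : Type} [Fintype ι] [DecidableEq ι]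
  {Q : QuadraticForm F (ι → F)}

theorem psoAut_le_pgoAut : Cfsg.psoAut F ⇑Q ≤ Cfsg.pgoAut F ⇑Q := by
  rw [psoAut_eq, pgoAut_eq]
  rintro _ ⟨s, hs, rfl⟩
  exact ⟨s, rfl⟩

/-- the image of `PSO(Q)` in `Out(PΩ(Q))` -/
def Zbar (Q : QuadraticForm F (ι → F)) : Subgroup (Cfsg.Out (Cfsg.POmega F ⇑Q)) :=
  (Cfsg.psoAut F ⇑Q).map (QuotientGroup.mk' (Cfsg.Inn (Cfsg.POmega F ⇑Q)))

theorem card_Zbar : Nat.card (Zbar Q) =
    (Cfsg.Inn (Cfsg.POmega F ⇑Q)).relIndex (Cfsg.psoAut F ⇑Q) := by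
  unfold Zbar
  rw [← Subgroup.relIndex_bot_left, ← Subgroup.relIndex_comap, MonoidHom.comap_bot,
    QuotientGroup.ker_mk']

section gen

variable (hQ : (QuadraticMap.polarBilin Q).Nondegenerate) (fr : Frame3 Q)
  (hperf : commutator ↥(Cfsg.Omega F ⇑Q) = ⊤) (htop : Cfsg.gammaPOmega F ⇑Q = ⊤)

theorem ker_thetaAut : (thetaAut hQ fr hperf htop).ker = Cfsg.pgoAut F ⇑Q := by
  ext β
  rw [MonoidHom.mem_ker]
  unfold thetaAut
  rw [MonoidHom.comp_apply, ← MonoidHom.mem_ker, ker_sigmaHom, Subgroup.mem_subgroupOf]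
  rfl

theorem ker_thetaOut : (thetaOut hQ fr hperf htop).ker =
    (Cfsg.pgoAut F ⇑Q).map (QuotientGroup.mk' (Cfsg.Inn (Cfsg.POmega F ⇑Q))) := by
  ext x
  obtain ⟨β, rfl⟩ := QuotientGroup.mk_surjective x
  rw [MonoidHom.mem_ker, thetaOut_mk, ← MonoidHom.mem_ker, ker_thetaAut]
  constructor
  · intro h
    exact ⟨β, h, rfl⟩
  · rintro ⟨ν, hν, hνβ⟩
    have h1 : ν⁻¹ * β ∈ Cfsg.Inn (Cfsg.POmega F ⇑Q) := QuotientGroup.eq.1 hνβ
    have h2 := Inn_le_pgoAut Q h1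
    have h3 : β = ν * (ν⁻¹ * β) := by group
    rw [h3]
    exact mul_mem hν h2

/-- the kernel of `Out(PΩ(Q)) → Aut(F)` is `PGO(Q)` modulo inner automorphisms -/
theorem ker_equiv_of_hom {D : Type*} [Group D] (ψ : ↥(Cfsg.pgoAut F ⇑Q) →* D)
    (hs : Function.Surjective ψ)
    (hker : ψ.ker = (Cfsg.Inn (Cfsg.POmega F ⇑Q)).subgroupOf (Cfsg.pgoAut F ⇑Q)) :
    Nonempty ((thetaOut hQ fr hperf htop).ker ≃* D) := by
  let π : ↥(Cfsg.pgoAut F ⇑Q) →* ↥(thetaOut hQ fr hperf htop).ker :=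
    ((QuotientGroup.mk' (Cfsg.Inn (Cfsg.POmega F ⇑Q))).comp (Subgroup.subtype _)).codRestrict _ (by
      intro ν
      rw [ker_thetaOut]
      exact ⟨ν.1, ν.2, rfl⟩)
  have hπs : Function.Surjective π := by
    rintro ⟨x, hx⟩
    have hx' := hx
    rw [ker_thetaOut] at hx'
    obtain ⟨ν, hν, hνx⟩ := hx'
    exact ⟨⟨ν, hν⟩, Subtype.ext hνx⟩
  have hπk : π.ker = ψ.ker := by
    rw [hker]
    ext ν
    rw [MonoidHom.mem_ker, Subgroup.mem_subgroupOf, Subtype.ext_iff]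
    show (QuotientGroup.mk (ν : MulAut (Cfsg.POmega F ⇑Q)) : Cfsg.Out (Cfsg.POmega F ⇑Q)) = 1 ↔ _
    rw [QuotientGroup.eq_one_iff]
  exact equiv_of_ker_eq π ψ hπs hs hπk

variable (hex : ∃ v : ι → F, Q v ≠ 0) (h2 : (2 : F) ≠ 0) {k : ℕ} (hk : Fintype.card ι = 2 * k)

include hQ fr hperf htop hex h2 hk in
theorem comm_mem_Zbar (x : Cfsg.Out (Cfsg.POmega F ⇑Q)) (y : Cfsg.Out (Cfsg.POmega F ⇑Q))
    (hy : y ∈ (thetaOut hQ fr hperf htop).ker) : x * y * x⁻¹ * y⁻¹ ∈ Zbar Q := by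
  obtain ⟨β, rfl⟩ := QuotientGroup.mk_surjective x
  rw [ker_thetaOut] at hy
  obtain ⟨ν, hν, rfl⟩ := hy
  exact ⟨β * ν * β⁻¹ * ν⁻¹, comm_mem_psoAut Q hex hQ h2 hk (by rw [htop]; trivial) hν, rfl⟩

include hQ fr hperf htop hex h2 hk in
theorem Zbar_normal : (Zbar Q).Normal := by
  constructor
  intro z hz x
  obtain ⟨β, rfl⟩ := QuotientGroup.mk_surjective x
  obtain ⟨ν, hν, rfl⟩ := hz
  have hν' : ν ∈ Cfsg.pgoAut F ⇑Q := psoAut_le_pgoAut hν
  refine ⟨β * ν * β⁻¹, ?_, rfl⟩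
  have h1 := comm_mem_psoAut Q hex hQ h2 hk (β := β) (by rw [htop]; trivial) hν'
  have e : β * ν * β⁻¹ = (β * ν * β⁻¹ * ν⁻¹) * ν := by group
  rw [e]
  exact mul_mem h1 hν

/-- powers of a semilinear automorphism are semilinear -/
theorem exists_pow_pair {g : GL ι F} {φ : RingAut F}
    (hp : Cfsg.IsSemisimilarityPair (⇑Q) g φ) (e : ℕ) :
    ∃ G : GL ι F, Cfsg.IsSemisimilarityPair (⇑Q) G (φ ^ e) ∧
      Cfsg.IsInducedBySemilinearPOmega (⇑Q) G (φ ^ e) ((autOf (⇑Q) hp) ^ e) := by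
  induction e with
  | zero =>
    refine ⟨1, ?_, ?_⟩
    · rw [pow_zero]; exact semisim_one _
    · rw [pow_zero, pow_zero]; exact induced_one _
  | succ e ih =>
    obtain ⟨G, hG, hind⟩ := ih
    refine ⟨g * mapGL φ G, ?_, ?_⟩
    · rw [pow_succ']; exact semisim_mul _ hp hG
    · rw [pow_succ', pow_succ']; exact induced_mul _ hp hG (induced_autOf _ hp) hind

include hQ fr hperf hex h2 hk in
/-- a semilinear automorphism with involutory field part squares to a non-inner automorphism when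
the discriminant is not a square -/
theorem pow_not_inner
    (hD : ¬ IsSquare (LinearMap.BilinForm.toMatrix' (QuadraticMap.polarBilin Q)).det)
    {g : GL ι F} {φ : RingAut F} (hp : Cfsg.IsSemisimilarityPair (⇑Q) g φ) {e : ℕ}
    (hφ1 : φ ^ e ≠ 1) (hφ2 : φ ^ (2 * e) = 1) :
    (autOf (⇑Q) hp) ^ (2 * e) ∉ Cfsg.Inn (Cfsg.POmega F ⇑Q) := by
  obtain ⟨G, hG, hind⟩ := exists_pow_pair hp e
  obtain ⟨τ, hτ⟩ : ∃ τ : F ≃+* F, τ = φ ^ e := ⟨_, rfl⟩
  rw [← hτ] at hG hind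
  have hττ : τ.trans τ = RingEquiv.refl F := by
    have h1 : φ ^ e * φ ^ e = 1 := by rw [← pow_add, ← two_mul]; exact hφ2
    rw [← hτ] at h1
    exact h1
  have hτ2 : ∀ x, τ (τ x) = x := fun x => by
    have := congrArg (fun σ : F ≃+* F => σ x) hττ
    exact this
  have hτ1 : τ ≠ RingEquiv.refl F := by
    rw [hτ]; exact hφ1
  have hp2 := semisim_mul (⇑Q) hG hG
  have hind2 := induced_mul (⇑Q) hG hG hind hind
  rw [hττ] at hp2 hind2
  have hh : G * mapGL τ G ∈ GO Q := by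
    obtain ⟨c, hc⟩ := hp2
    exact ⟨c, hc⟩
  have hsgn := sgn_sq_semisim Q h2 hex hk hτ2 hτ1 hG hD hh
  have hpow : (autOf (⇑Q) hp) ^ e * (autOf (⇑Q) hp) ^ e = (autOf (⇑Q) hp) ^ (2 * e) := by
    rw [← pow_add, two_mul]
  rw [hpow] at hind2
  have h1 := (induced_iff Q _ hh _).1 hind2
  intro hinn
  have hpso := Inn_le_psoAut Q hinn
  rw [psoAut_eq, h1] at hpso
  obtain ⟨s, hs, hsc⟩ := hpso
  have h3 : cG Q (s⁻¹ * ⟨G * mapGL τ G, hh⟩) = 1 := by
    rw [map_mul, map_inv, hsc, inv_mul_cancel]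
  have h4 := (ker_of_cG Q hQ fr hex hperf hk _ h3).2
  have h5 : Cfsg.Agent.Helper28.PG.sgn Q k ⟨G * mapGL τ G, hh⟩ =
      Cfsg.Agent.Helper28.PG.sgn Q k s *
        Cfsg.Agent.Helper28.PG.sgn Q k (s⁻¹ * ⟨G * mapGL τ G, hh⟩) := by
    rw [← sgn_mul Q hex]
    congr 1
    group
  rw [h5, h4, (ker_of_SOg Q hex k s hs).2, one_mul] at hsgn
  apply h2
  linear_combination hsgn

include hex h2 hk in
/-- a lift of a generator of `Aut(F)` whose `f`-th power is not inner, for even `f` -/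
theorem exists_outer_pow
    (hD : ¬ IsSquare (LinearMap.BilinForm.toMatrix' (QuadraticMap.polarBilin Q)).det)
    (hsurj : ∀ σ : F ≃+* F, ∃ g : GL ι F, Cfsg.IsSemisimilarityPair (⇑Q) g σ)
    [IsCyclic (RingAut F)] {f : ℕ} (hf : 1 ≤ f) (hcF : Nat.card (RingAut F) = f)
    (hev : Even f) :
    ∃ x : Cfsg.Out (Cfsg.POmega F ⇑Q),
      orderOf (thetaOut hQ fr hperf htop x) = f ∧ x ^ f ≠ 1 := by
  obtain ⟨φ, hφ⟩ := IsCyclic.exists_ofOrder_eq_natCard (α := RingAut F)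
  rw [hcF] at hφ
  obtain ⟨g, hp⟩ := hsurj φ
  have hθx : thetaOut hQ fr hperf htop (QuotientGroup.mk (autOf _ hp)) = φ :=
    thetaAut_eq hQ fr hperf htop hp (induced_autOf _ hp)
  refine ⟨QuotientGroup.mk (autOf _ hp), by rw [hθx]; exact hφ, ?_⟩
  obtain ⟨e, he⟩ := hev
  have he' : f = 2 * e := by omega
  have hφ1 : φ ^ e ≠ 1 := pow_ne_one_of_lt_orderOf (by omega) (by rw [hφ]; omega)
  have hφ2 : φ ^ (2 * e) = 1 := by rw [← he', ← hφ]; exact pow_orderOf_eq_one φ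
  have hni := pow_not_inner hQ fr hperf hex h2 hk hD hp hφ1 hφ2
  rw [← he'] at hni
  intro hx1
  rw [← QuotientGroup.mk_pow] at hx1
  exact hni ((QuotientGroup.eq_one_iff _).1 hx1)

end gen

end Cfsg.Agent.Helper7.OutO
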