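import Mathlib
import Cfsg.Prelude.Def_LieTypeDatum
import Cfsg.Agent.Helper28.FieldO5

/-!
# Lang data for cosets of standard field automorphisms of orthogonal groups (helper7)

An element `cG g * phiO σ` whose `|σ|`-th power is trivial has Lang data `(A, ν, κ)`:
`ν g σ(A) = A` and the form `κ Q(A w)` is `σ`-rational.  Two elements whose rational forms are
similar over the fixed field are conjugate under the similarity group.
-/

set_option autoImplicit false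
set_option linter.unusedSectionVars false
set_option linter.unusedVariables false

namespace Cfsg.Agent.Helper7.PlusF

open Matrix Cfsg.Agent.Helper28.SSim Cfsg.Agent.Helper28.Sg Cfsg.Agent.Helper28.PG
  Cfsg.Agent.Helper28.GC Cfsg.Agent.Helper28.FO
open Cfsg.Agent.Helper7.FieldPSp (nrmMs nrmMs_zero nrmMs_succ nrmMs_succ' nrmMs_smul speiser_gen)
open Cfsg.Agent.Helper7.FieldPSL (nrmF nrmF_zero nrmF_succ hilbert90 exists_norm_eq
  orderOf_pos_ringAut)

variable {F : Type*} [Field F] {ι : Type} [Fintype ι] [DecidableEq ι]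
  {Q : QuadraticForm F (ι → F)}

/-- Lang data of a similarity relative to a field automorphism -/
structure IsLang (σ : F ≃+* F) (g : ↥(GO Q)) (A : GL ι F) (ν κ : Fˣ) : Prop where
  hGA : ((ν : F) • ((g : GL ι F) : Matrix ι ι F)) * (A : Matrix ι ι F).map σ = (A : Matrix ι ι F)
  hP : ∀ w : ι → F, (κ : F) * Q ((A : Matrix ι ι F) *ᵥ vs σ w) =
    σ ((κ : F) * Q ((A : Matrix ι ι F) *ᵥ w))

/-- the rational form of Lang data -/
noncomputable def langForm (Q : QuadraticForm F (ι → F)) (A : GL ι F) (κ : Fˣ) :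
    QuadraticForm F (ι → F) :=
  (κ : F) • Q.comp (Matrix.toLin' (A : Matrix ι ι F))

theorem langForm_apply (A : GL ι F) (κ : Fˣ) (w : ι → F) :
    langForm Q A κ w = (κ : F) * Q ((A : Matrix ι ι F) *ᵥ w) := by
  unfold langForm
  rw [_root_.smul_apply, QuadraticMap.comp_apply, Matrix.toLin'_apply, smul_eq_mul]

theorem langForm_sigma {σ : F ≃+* F} {g : ↥(GO Q)} {A : GL ι F} {ν κ : Fˣ}
    (h : IsLang σ g A ν κ) (w : ι → F) : langForm Q A κ (vs σ w) = σ (langForm Q A κ w) := by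
  rw [langForm_apply, langForm_apply]
  exact h.hP w

theorem langForm_sim (A : GL ι F) (κ : Fˣ) :
    ∃ (A' : GL ι F) (c : Fˣ), ∀ w, langForm Q A κ w = (c : F) * Q ((A' : Matrix ι ι F) *ᵥ w) :=
  ⟨A, κ, fun w => langForm_apply A κ w⟩

theorem IsLang.mulVec_vs {σ : F ≃+* F} {g : ↥(GO Q)} {A : GL ι F} {ν κ : Fˣ}
    (h : IsLang σ g A ν κ) (w : ι → F) :
    (A : Matrix ι ι F) *ᵥ vs σ w =
      (ν : F) • (((g : GL ι F) : Matrix ι ι F) *ᵥ vs σ ((A : Matrix ι ι F) *ᵥ w)) := by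
  conv_lhs => rw [← h.hGA]
  rw [← Matrix.mulVec_mulVec, ← vs_mulVec, Matrix.smul_mulVec]

/-- the trivial Lang data -/
theorem isLang_one (hstd : IsStd Q) (σ : F ≃+* F) : IsLang σ (1 : ↥(GO Q)) (1 : GL ι F) 1 1 := by
  constructor
  · ext i j
    simp [Matrix.one_apply]
  · intro w
    simp only [Units.val_one, one_mul, Matrix.one_mulVec]
    exact hstd σ w

/-- **existence of Lang data** -/
theorem exists_lang_data [Finite F] (hQ : (QuadraticMap.polarBilin Q).Nondegenerate)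
    (fr : Frame3 Q) (hperf : commutator ↥(Cfsg.Omega F ⇑Q) = ⊤) (hstd : IsStd Q) (σ : F ≃+* F)
    (g : ↥(GO Q)) (h : (cG Q g * phiO hstd σ) ^ orderOf σ = 1) :
    ∃ (A : GL ι F) (ν κ : Fˣ), IsLang σ g A ν κ := by
  classical
  have hσ : 0 < orderOf σ := orderOf_pos_ringAut σ
  set r := orderOf σ with hr
  set G : Matrix ι ι F := ((g : GL ι F) : Matrix ι ι F) with hG
  rw [cG_mul_phiO_pow, pow_orderOf_eq_one, phiO_one, mul_one] at h
  obtain ⟨c, hc⟩ := ker_cG Q hQ fr hperf _ h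
  have hc' : nrmMs σ G r = c • (1 : Matrix ι ι F) := by
    rw [← nrmGO_coe hstd σ g r]
    apply Cfsg.Agent.Helper28.Spin.matrix_ext_mulVec
    intro x
    rw [hc x, Matrix.smul_mulVec, Matrix.one_mulVec]
  have hex : ∃ v : ι → F, Q v ≠ 0 := by
    refine ⟨fr.e 0 + fr.f 0, ?_⟩
    rw [Cfsg.Agent.Helper28.Sg.Q_add, fr.Qe, fr.Qf]
    simp only [B, fr.Bef]
    simp
  obtain ⟨v₀, hv₀⟩ := hex
  have hv₀0 : v₀ ≠ 0 := by
    rintro rfl
    exact hv₀ (map_zero Q)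
  have hc0 : c ≠ 0 := by
    rintro rfl
    have h1 := hc v₀
    rw [zero_smul] at h1
    have h2 : (((nrmGO hstd σ g r : ↥(GO Q)) : GL ι F)⁻¹ : GL ι F).1 *ᵥ
        ((((nrmGO hstd σ g r : ↥(GO Q)) : GL ι F)) : Matrix ι ι F) *ᵥ v₀ = v₀ :=
      inv_mulVec_mulVec _ v₀
    rw [h1, Matrix.mulVec_zero] at h2
    exact hv₀0 h2.symm
  have hG0 : G ≠ 0 := by
    intro h0
    have h1 := mu_spec Q g v₀
    rw [← hG, h0, Matrix.zero_mulVec, map_zero] at h1
    rcases mul_eq_zero.1 h1.symm with h2 | h2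
    · exact (mu Q g).ne_zero h2
    · exact hv₀ h2
  have hcfix : σ c = c := by
    have e1 := nrmMs_succ σ G r
    have e2 := nrmMs_succ' σ G r
    rw [hr, pow_orderOf_eq_one, ← hr] at e2
    have e3 : G.map (1 : F ≃+* F) = G := by
      ext a b
      rfl
    rw [e3, e1, hc'] at e2
    have e4 : (c • (1 : Matrix ι ι F)).map σ = σ c • (1 : Matrix ι ι F) := by
      ext a b
      simp only [Matrix.map_apply, Matrix.smul_apply, Matrix.one_apply, smul_eq_mul, map_mul]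
      by_cases hab : a = b
      · simp [hab]
      · simp [hab]
    rw [e4, Matrix.mul_smul, Matrix.mul_one, Matrix.smul_mul, Matrix.one_mul] at e2
    have e5 : (σ c - c) • G = 0 := by rw [sub_smul, e2, sub_self]
    rcases smul_eq_zero.1 e5 with h' | h'
    · exact sub_eq_zero.1 h'
    · exact absurd h' hG0
  set cu : Fˣ := Units.mk0 c hc0 with hcu
  have hcinvfix : σ ((cu⁻¹ : Fˣ) : F) = ((cu⁻¹ : Fˣ) : F) := by
    rw [Units.val_inv_eq_inv_val, map_inv₀, hcu, Units.val_mk0, hcfix]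
  obtain ⟨ν, hν⟩ := Cfsg.Agent.Helper7.FieldPSL.exists_norm_eq σ cu⁻¹ hcinvfix
  have hN : nrmMs σ ((ν : F) • G) r = 1 := by
    rw [nrmMs_smul, hc', hν, smul_smul, Units.val_inv_eq_inv_val, hcu, Units.val_mk0,
      inv_mul_cancel₀ hc0, one_smul]
  obtain ⟨A, hA, hGA⟩ := speiser_gen σ ((ν : F) • G) hN hσ
  set A' : GL ι F := hA.unit with hA'
  have hAA : (A' : Matrix ι ι F) = A := rfl
  set μ' : F := (ν : F) * (ν : F) * (mu Q g : F) with hμ'
  have hμ'0 : μ' ≠ 0 := mul_ne_zero (mul_ne_zero ν.ne_zero ν.ne_zero) (mu Q g).ne_zero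
  have hP1 : ∀ w : ι → F, Q (A *ᵥ vs σ w) = μ' * σ (Q (A *ᵥ w)) := by
    intro w
    have e1 : A *ᵥ vs σ w = (ν : F) • (G *ᵥ vs σ (A *ᵥ w)) := by
      conv_lhs => rw [← hGA]
      rw [← Matrix.mulVec_mulVec, ← vs_mulVec, Matrix.smul_mulVec]
    rw [e1, QuadraticMap.map_smul, hG, mu_spec]
    have e2 : Q (vs σ (A *ᵥ w)) = σ (Q (A *ᵥ w)) := hstd σ _
    rw [e2, hμ', smul_eq_mul]
    ring
  have hNμ : nrmF σ μ' r = 1 := by
    have hAv : ∃ w : ι → F, Q (A *ᵥ w) ≠ 0 := by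
      refine ⟨((A'⁻¹ : GL ι F) : Matrix ι ι F) *ᵥ v₀, ?_⟩
      rw [← hAA, mulVec_inv_mulVec]
      exact hv₀
    obtain ⟨w, hw⟩ := hAv
    have h1 := twisted_iter σ (fun w => Q (A *ᵥ w)) μ' hP1 r w
    rw [hr, pow_orderOf_eq_one, ← hr, vs_one] at h1
    have h2 : Q (A *ᵥ w) = nrmF σ μ' r * Q (A *ᵥ w) := h1
    have h3 : (1 - nrmF σ μ' r) * Q (A *ᵥ w) = 0 := by linear_combination h2
    rcases mul_eq_zero.1 h3 with h4 | h4
    · linear_combination -h4
    · exact absurd h4 hw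
  have hNμinv : nrmF σ μ'⁻¹ r = 1 := by
    have h1 : nrmF σ μ'⁻¹ r * nrmF σ μ' r = 1 := by
      rw [← Cfsg.Agent.Helper7.FieldPSL.nrmF_mul, inv_mul_cancel₀ hμ'0,
        Cfsg.Agent.Helper7.FieldPSL.nrmF_one]
    rw [hNμ, mul_one] at h1
    exact h1
  obtain ⟨κ, hκ0, hκ⟩ := hilbert90 σ μ'⁻¹ hNμinv hσ
  have hκ' : σ κ = μ' * κ := by
    field_simp at hκ
    linear_combination hκ
  refine ⟨A', ν, Units.mk0 κ hκ0, ⟨?_, ?_⟩⟩
  · rw [hAA]
    exact hGA
  · intro w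
    rw [Units.val_mk0, hAA, hP1, map_mul, hκ']
    ring

/-- **conjugacy from similar rational forms** -/
theorem conj_of_lang_data (hstd : IsStd Q) (σ : F ≃+* F) {g g' : ↥(GO Q)} {A A' : GL ι F}
    {ν ν' κ κ' : Fˣ} (hL : IsLang σ g A ν κ) (hL' : IsLang σ g' A' ν' κ') (a : GL ι F)
    (ha : mapGL σ a = a) (d : Fˣ)
    (had : ∀ w, langForm Q A κ ((a : Matrix ι ι F) *ᵥ w) = (d : F) * langForm Q A' κ' w) :
    ∃ B : ↥(GO Q), (B : GL ι F) = A * a * A'⁻¹ ∧
      (scal Q ν * g : ↥(GO Q)) * tauGO hstd σ B = scal Q ν' * (B * g') ∧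
      cG Q g * phiO hstd σ = cG Q B * (cG Q g' * phiO hstd σ) * (cG Q B)⁻¹ := by
  set Bg : GL ι F := A * a * A'⁻¹ with hBg
  have hBmem : Bg ∈ GO Q := by
    refine ⟨κ⁻¹ * d * κ', fun w => ?_⟩
    have h1 := had (((A'⁻¹ : GL ι F) : Matrix ι ι F) *ᵥ w)
    rw [langForm_apply, langForm_apply, mulVec_inv_mulVec, Matrix.mulVec_mulVec,
      Matrix.mulVec_mulVec, ← Units.val_mul, ← Units.val_mul, ← mul_assoc, ← hBg] at h1
    have h2 : ((κ⁻¹ * d * κ' : Fˣ) : F) = (κ : F)⁻¹ * (d : F) * (κ' : F) := by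
      rw [Units.val_mul, Units.val_mul, Units.val_inv_eq_inv_val]
    have hk : (κ : F) ≠ 0 := κ.ne_zero
    show Q ((Bg : Matrix ι ι F) *ᵥ w) = _
    rw [h2]
    field_simp
    linear_combination h1
  set B' : ↥(GO Q) := ⟨Bg, hBmem⟩ with hB'
  have hAσ : ((mapGL σ A : GL ι F) : Matrix ι ι F) = (A : Matrix ι ι F).map σ := mapGL_val σ A
  have e1 : (scal Q ν : ↥(GO Q)).1 * g.1 * mapGL σ A = A := by
    apply Units.ext
    rw [Units.val_mul, Units.val_mul, hAσ]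
    show ((ν : F) • (1 : Matrix ι ι F)) * _ * _ = _
    rw [Matrix.smul_mul, Matrix.one_mul]
    exact hL.hGA
  have hAσ' : ((mapGL σ A' : GL ι F) : Matrix ι ι F) = (A' : Matrix ι ι F).map σ := mapGL_val σ A'
  have e2 : (scal Q ν' : ↥(GO Q)).1 * g'.1 * mapGL σ A' = A' := by
    apply Units.ext
    rw [Units.val_mul, Units.val_mul, hAσ']
    show ((ν' : F) • (1 : Matrix ι ι F)) * _ * _ = _
    rw [Matrix.smul_mul, Matrix.one_mul]
    exact hL'.hGA
  have key : (scal Q ν * g : ↥(GO Q)) * tauGO hstd σ B' = scal Q ν' * (B' * g') := by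
    apply Subtype.ext
    show (scal Q ν : ↥(GO Q)).1 * g.1 * mapGL σ Bg = (scal Q ν' : ↥(GO Q)).1 * (Bg * g'.1)
    have e3 : mapGL σ A = ((scal Q ν : ↥(GO Q)).1 * g.1)⁻¹ * A := by
      rw [eq_inv_mul_iff_mul_eq]
      exact e1
    have e4 : (mapGL σ A')⁻¹ = A'⁻¹ * ((scal Q ν' : ↥(GO Q)).1 * g'.1) := by
      rw [inv_eq_iff_eq_inv, _root_.mul_inv_rev, inv_inv, eq_inv_mul_iff_mul_eq]
      exact e2
    have hcomm : ∀ x : GL ι F, x * (scal Q ν' : ↥(GO Q)).1 = (scal Q ν' : ↥(GO Q)).1 * x := by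
      intro x
      apply Units.ext
      rw [Units.val_mul, Units.val_mul]
      show _ * ((ν' : F) • (1 : Matrix ι ι F)) = ((ν' : F) • (1 : Matrix ι ι F)) * _
      rw [Matrix.mul_smul, Matrix.mul_one, Matrix.smul_mul, Matrix.one_mul]
    rw [hBg, map_mul, map_mul, map_inv, ha, e3, e4]
    have h5 : (scal Q ν : ↥(GO Q)).1 * g.1 * (((scal Q ν : ↥(GO Q)).1 * g.1)⁻¹ * A * a *
        (A'⁻¹ * ((scal Q ν' : ↥(GO Q)).1 * g'.1))) =
        (A * a * A'⁻¹) * (scal Q ν' : ↥(GO Q)).1 * g'.1 := by group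
    rw [h5, hcomm]
    group
  have key2 : cG Q g * cG Q (tauGO hstd σ B') = cG Q B' * cG Q g' := by
    have h2 := congrArg (cG Q) key
    rw [map_mul, map_mul, map_mul, map_mul, cG_scal, cG_scal, one_mul, one_mul] at h2
    exact h2
  refine ⟨B', rfl, key, ?_⟩
  have key3 : phiO hstd σ * (cG Q B')⁻¹ = (cG Q (tauGO hstd σ B'))⁻¹ * phiO hstd σ := by
    rw [eq_inv_mul_iff_mul_eq, ← mul_assoc, ← phiO_cG, mul_assoc, mul_inv_cancel, mul_one]
  have key4 : cG Q B' * (cG Q g' * phiO hstd σ) * (cG Q B')⁻¹ =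
      (cG Q B' * cG Q g') * (phiO hstd σ * (cG Q B')⁻¹) := by group
  rw [key4, key3, ← key2]
  group

end Cfsg.Agent.Helper7.PlusF
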