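import Mathlib
import Cfsg.Prelude.Def_LieTypeDatum
import Cfsg.Agent.Helper28.InndiagPlus2
import Cfsg.Agent.Helper28.FieldO4

/-!
# Plus-type orthogonal groups: parity of maximal totally singular subspaces (helper7)

The parity function on pairs of maximal totally singular subspaces of the hyperbolic form, the
entrywise action of field automorphisms on subspaces, and the class character on the similarity
group, in every characteristic.
-/

set_option autoImplicit false
set_option linter.unusedSectionVars false
set_option linter.unusedVariables false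

namespace Cfsg.Agent.Helper7.PlusF

open Module Submodule Matrix Cfsg.Agent.Helper28.QPlus Cfsg.Agent.Helper28.IDP
  Cfsg.Agent.Helper28.Spin Cfsg.Agent.Helper28.PG Cfsg.Agent.Helper28.FO

variable {F : Type*} [Field F] {m : ℕ}

/-- the parity of the codimension of the intersection -/
noncomputable def par (U W : Submodule F (Vm m F)) : ZMod 2 :=
  ((m - finrank F ↥(U ⊓ W) : ℕ) : ZMod 2)

theorem par_comm (U W : Submodule F (Vm m F)) : par U W = par W U := by
  unfold par
  rw [inf_comm]

theorem par_self {U : Submodule F (Vm m F)} (hU : IsMax m U) : par U U = 0 := by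
  unfold par
  rw [inf_idem, hU.1, Nat.sub_self, Nat.cast_zero]

theorem par_tri {U W X : Submodule F (Vm m F)} (hU : IsMax m U) (hW : IsMax m W)
    (hX : IsMax m X) : par U X = par U W + par W X := by
  have h1 := parity_aux _ W X hW hX rfl U hU
  rw [← zmod2_even] at h1
  unfold par
  push_cast at h1 ⊢
  have e : ∀ a b c : ZMod 2, a + b + c = 0 → c = a + b := by decide
  exact e _ _ _ h1

/-- two distinct maximal subspaces containing a common hyperplane have odd distance -/
theorem par_eq_one_of_le {U W X : Submodule F (Vm m F)} (hU : IsMax m U) (hW : IsMax m W)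
    (hXU : X ≤ U) (hXW : X ≤ W) (hX : finrank F X + 1 = m) (hne : U ≠ W) : par U W = 1 := by
  have h1 : finrank F X ≤ finrank F ↥(U ⊓ W) := Submodule.finrank_mono (le_inf hXU hXW)
  have h2 : finrank F ↥(U ⊓ W) ≤ m := hU.inf_left_le W
  have h3 : finrank F ↥(U ⊓ W) ≠ m := by
    intro h
    apply hne
    have h4 : U ⊓ W = U := by
      apply Submodule.eq_of_le_of_finrank_le inf_le_left
      rw [hU.1, h]
    exact hU.eq_of_le hW (inf_eq_left.mp h4)
  have h5 : m - finrank F ↥(U ⊓ W) = 1 := by omega
  unfold par
  rw [h5, Nat.cast_one]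

theorem eq_of_par_eq_zero {U W X : Submodule F (Vm m F)} (hU : IsMax m U) (hW : IsMax m W)
    (hXU : X ≤ U) (hXW : X ≤ W) (hX : finrank F X + 1 = m) (h : par U W = 0) : U = W := by
  by_contra hne
  have := par_eq_one_of_le hU hW hXU hXW hX hne
  rw [h] at this
  exact absurd this (by decide)

section sig

variable {κ : Type*}

/-- the image of a subspace under the entrywise action of a field automorphism -/
def sigS (σ : F ≃+* F) (U : Submodule F (κ → F)) : Submodule F (κ → F) where
  carrier := {v | (fun i => σ.symm (v i)) ∈ U}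
  add_mem' := by
    intro a b ha hb
    have h : (fun i => σ.symm ((a + b) i)) = (fun i => σ.symm (a i)) + (fun i => σ.symm (b i)) := by
      funext i
      simp
    show (fun i => σ.symm ((a + b) i)) ∈ U
    rw [h]
    exact U.add_mem ha hb
  zero_mem' := by
    have h : (fun i => σ.symm ((0 : κ → F) i)) = 0 := by
      funext i
      simp
    show (fun i => σ.symm ((0 : κ → F) i)) ∈ U
    rw [h]
    exact U.zero_mem
  smul_mem' := by
    intro c x hx
    have h : (fun i => σ.symm ((c • x) i)) = σ.symm c • (fun i => σ.symm (x i)) := by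
      funext i
      simp
    show (fun i => σ.symm ((c • x) i)) ∈ U
    rw [h]
    exact U.smul_mem _ hx

theorem mem_sigS (σ : F ≃+* F) (U : Submodule F (κ → F)) (v : κ → F) :
    v ∈ sigS σ U ↔ (fun i => σ.symm (v i)) ∈ U := Iff.rfl

theorem mem_sigS' (σ : F ≃+* F) (U : Submodule F (κ → F)) (u : κ → F) :
    (fun i => σ (u i)) ∈ sigS σ U ↔ u ∈ U := by
  rw [mem_sigS]
  simp

theorem sigS_inf (σ : F ≃+* F) (U W : Submodule F (κ → F)) :
    sigS σ (U ⊓ W) = sigS σ U ⊓ sigS σ W := by
  ext v
  simp only [mem_sigS, Submodule.mem_inf]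

theorem sigS_mono (σ : F ≃+* F) {U W : Submodule F (κ → F)} (h : U ≤ W) :
    sigS σ U ≤ sigS σ W := fun v hv => h hv

theorem sigS_symm (σ : F ≃+* F) (U : Submodule F (κ → F)) : sigS σ.symm (sigS σ U) = U := by
  ext v
  rw [mem_sigS, mem_sigS]
  simp

theorem sigS_injective (σ : F ≃+* F) {U W : Submodule F (κ → F)} (h : sigS σ U = sigS σ W) :
    U = W := by
  rw [← sigS_symm σ U, ← sigS_symm σ W, h]

/-- the additive equivalence between a subspace and its image -/
noncomputable def sigEquiv (σ : F ≃+* F) (U : Submodule F (κ → F)) : ↥U ≃+ ↥(sigS σ U) where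
  toFun u := ⟨fun i => σ ((u : κ → F) i), (mem_sigS' σ U _).2 u.2⟩
  invFun v := ⟨fun i => σ.symm ((v : κ → F) i), v.2⟩
  left_inv u := by
    apply Subtype.ext
    funext i
    simp
  right_inv v := by
    apply Subtype.ext
    funext i
    simp
  map_add' u v := by
    apply Subtype.ext
    funext i
    simp

theorem finrank_sigS (σ : F ≃+* F) (U : Submodule F (κ → F)) :
    finrank F ↥(sigS σ U) = finrank F ↥U := by
  have h := rank_eq_of_equiv_equiv (R := F) (R' := F) (M := ↥U) (M₁ := ↥(sigS σ U)) (σ : F → F)
    (sigEquiv σ U) σ.bijective (by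
      intro r u
      apply Subtype.ext
      funext i
      simp [sigEquiv])
  unfold Module.finrank
  rw [h]

/-- a span of fixed vectors is stable -/
theorem sigS_span_le {ι' : Type*} (σ : F ≃+* F) (v : ι' → κ → F)
    (hv : ∀ j, (fun i => σ (v j i)) = v j) :
    span F (Set.range v) ≤ sigS σ (span F (Set.range v)) := by
  rw [Submodule.span_le]
  rintro _ ⟨j, rfl⟩
  show (fun i => σ.symm (v j i)) ∈ span F (Set.range v)
  have h : (fun i => σ.symm (v j i)) = v j := by
    funext i
    have := congrFun (hv j) i
    show σ.symm (v j i) = v j i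
    rw [RingEquiv.symm_apply_eq]
    exact this.symm
  rw [h]
  exact Submodule.subset_span ⟨j, rfl⟩

theorem sigS_span {ι' : Type*} (σ : F ≃+* F) (v : ι' → κ → F)
    (hv : ∀ j, (fun i => σ (v j i)) = v j) :
    sigS σ (span F (Set.range v)) = span F (Set.range v) := by
  apply le_antisymm
  · have h := sigS_span_le σ.symm v (by
      intro j
      funext i
      have := congrFun (hv j) i
      show σ.symm (v j i) = v j i
      rw [RingEquiv.symm_apply_eq]
      exact this.symm)
    have h2 := sigS_mono σ h
    have h3 : sigS σ (sigS σ.symm (span F (Set.range v))) = span F (Set.range v) := by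
      have := sigS_symm σ.symm (span F (Set.range v))
      simpa using this
    rw [h3] at h2
    exact h2
  · exact sigS_span_le σ v hv

end sig

theorem Q_sig (σ : F ≃+* F) (v : Vm m F) :
    Cfsg.quadFormPlus m F (fun i => σ (v i)) = σ (Cfsg.quadFormPlus m F v) := by
  unfold Cfsg.quadFormPlus
  rw [map_sum]
  simp only [map_mul]

theorem isMax_sigS (σ : F ≃+* F) {U : Submodule F (Vm m F)} (hU : IsMax m U) :
    IsMax m (sigS σ U) := by
  constructor
  · rw [finrank_sigS, hU.1]
  · intro w hw
    have h1 := hU.2 _ hw
    rw [Q_sig, map_eq_zero_iff _ σ.symm.injective] at h1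
    exact h1

theorem sigS_E (σ : F ≃+* F) : sigS σ (E m F) = E m F := by
  ext v
  rw [mem_sigS, mem_E_iff, mem_E_iff]
  constructor
  · intro h i
    have := h i
    simpa using this
  · intro h i
    rw [h i, map_zero]

theorem par_sigS (σ : F ≃+* F) (U W : Submodule F (Vm m F)) :
    par (sigS σ U) (sigS σ W) = par U W := by
  unfold par
  rw [← sigS_inf, finrank_sigS]

theorem par_sigS_self (σ : F ≃+* F) {U : Submodule F (Vm m F)} (hU : IsMax m U) :
    par U (sigS σ U) = 0 := by
  have hE := isMax_E (F := F) (m := m)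
  have h1 := par_tri hU hE (isMax_sigS σ hU)
  have h2 : par (E m F) (sigS σ U) = par (E m F) U := by
    conv_lhs => rw [← sigS_E σ]
    exact par_sigS σ _ _
  rw [h1, h2, par_comm U]
  have e : ∀ a : ZMod 2, a + a = 0 := by decide
  exact e _

end Cfsg.Agent.Helper7.PlusF
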