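import Mathlib
import Cfsg.Prelude.Def_LieTypeDatum
import Cfsg.Agent.Helper7.PlusF1
import Cfsg.Agent.Helper28.FieldO5

/-!
# Plus-type orthogonal groups: the class character on the similarity group (helper7)
-/

set_option autoImplicit false
set_option linter.unusedSectionVars false
set_option linter.unusedVariables false

namespace Cfsg.Agent.Helper7.PlusF

open Module Submodule Matrix Cfsg.Agent.Helper28.QPlus Cfsg.Agent.Helper28.IDP
  Cfsg.Agent.Helper28.Spin Cfsg.Agent.Helper28.PG Cfsg.Agent.Helper28.FO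
  Cfsg.Agent.Helper28.SSim

variable {F : Type*} [Field F] {m : ℕ}

/-- the matrix of a similarity -/
abbrev gm (g : ↥(GO (QfPlus m F))) : Matrix (Fin m ⊕ Fin m) (Fin m ⊕ Fin m) F :=
  ((g : GL (Fin m ⊕ Fin m) F) : Matrix (Fin m ⊕ Fin m) (Fin m ⊕ Fin m) F)

theorem toLin_inj (g : GL (Fin m ⊕ Fin m) F) :
    Function.Injective (Matrix.toLin' (g : Matrix (Fin m ⊕ Fin m) (Fin m ⊕ Fin m) F)) := by
  intro x y hxy
  simp only [Matrix.toLin'_apply] at hxy
  exact (Matrix.mulVec_injective_iff_isUnit.2 ⟨g, rfl⟩) hxy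

theorem gm_spec (g : ↥(GO (QfPlus m F))) (v : Vm m F) :
    Cfsg.quadFormPlus m F (gm g *ᵥ v) = (mu (QfPlus m F) g : F) * Cfsg.quadFormPlus m F v :=
  mu_spec (QfPlus m F) g v

theorem isMax_img (g : ↥(GO (QfPlus m F))) {U : Submodule F (Vm m F)} (hU : IsMax m U) :
    IsMax m (Cfsg.imageSubmodule (gm g) U) :=
  isMax_image (toLin_inj g.1) (gm_spec g) hU

theorem par_img (g : GL (Fin m ⊕ Fin m) F) (U W : Submodule F (Vm m F)) :
    par (Cfsg.imageSubmodule (g : Matrix (Fin m ⊕ Fin m) (Fin m ⊕ Fin m) F) U)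
      (Cfsg.imageSubmodule (g : Matrix (Fin m ⊕ Fin m) (Fin m ⊕ Fin m) F) W) = par U W := by
  unfold par
  rw [← image_inf (toLin_inj g), finrank_image (toLin_inj g)]

/-- the class character -/
noncomputable def cls (g : ↥(GO (QfPlus m F))) : ZMod 2 :=
  par (E m F) (Cfsg.imageSubmodule (gm g) (E m F))

theorem par_img_self (g : ↥(GO (QfPlus m F))) {U : Submodule F (Vm m F)} (hU : IsMax m U) :
    par U (Cfsg.imageSubmodule (gm g) U) = cls g := by
  have hE := isMax_E (F := F) (m := m)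
  have h1 := par_tri hU hE (isMax_img g hU)
  have h2 := par_tri hE (isMax_img g hE) (isMax_img g hU)
  have h3 := par_img g.1 (E m F) U
  rw [h1, h2, h3, par_comm U]
  unfold cls
  have e : ∀ a b : ZMod 2, a + (b + a) = b := by decide
  exact e _ _

theorem cls_mul (g h : ↥(GO (QfPlus m F))) : cls (g * h) = cls g + cls h := by
  have hE := isMax_E (F := F) (m := m)
  have h1 : Cfsg.imageSubmodule (gm (g * h)) (E m F) =
      Cfsg.imageSubmodule (gm g) (Cfsg.imageSubmodule (gm h) (E m F)) := by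
    rw [← image_mul]
    rfl
  have h2 := par_tri hE (isMax_img g hE) (isMax_img g (isMax_img h hE))
  have h3 := par_img g.1 (E m F) (Cfsg.imageSubmodule (gm h) (E m F))
  unfold cls
  rw [h1, h2, h3]

theorem cls_one : cls (1 : ↥(GO (QfPlus m F))) = 0 := by
  have := cls_mul (1 : ↥(GO (QfPlus m F))) 1
  rw [mul_one] at this
  have e : ∀ a : ZMod 2, a = a + a → a = 0 := by decide
  exact e _ this

/-- the class character as a homomorphism -/
noncomputable def clsHom : ↥(GO (QfPlus m F)) →* Multiplicative (ZMod 2) where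
  toFun g := Multiplicative.ofAdd (cls g)
  map_one' := by
    rw [cls_one]
    rfl
  map_mul' g h := by
    rw [cls_mul]
    rfl

theorem mem_ker_clsHom (g : ↥(GO (QfPlus m F))) : g ∈ (clsHom (F := F) (m := m)).ker ↔ cls g = 0 := by
  rw [MonoidHom.mem_ker]
  rfl

theorem cls_inv (g : ↥(GO (QfPlus m F))) : cls g⁻¹ = cls g := by
  have := cls_mul g g⁻¹
  rw [mul_inv_cancel, cls_one] at this
  have e : ∀ a b : ZMod 2, 0 = a + b → b = a := by decide
  exact e _ _ this

theorem img_smul_one (l : F) (hl : l ≠ 0) (U : Submodule F (Vm m F)) :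
    Cfsg.imageSubmodule (l • (1 : Matrix (Fin m ⊕ Fin m) (Fin m ⊕ Fin m) F)) U = U := by
  ext v
  rw [mem_image]
  constructor
  · rintro ⟨u, hu, rfl⟩
    rw [Matrix.smul_mulVec, Matrix.one_mulVec]
    exact U.smul_mem _ hu
  · intro hv
    refine ⟨l⁻¹ • v, U.smul_mem _ hv, ?_⟩
    rw [Matrix.smul_mulVec, Matrix.one_mulVec, smul_smul, mul_inv_cancel₀ hl, one_smul]

theorem cls_scal (l : Fˣ) : cls (scal (QfPlus m F) l) = 0 := by
  unfold cls
  have h : gm (scal (QfPlus m F) l) = (l : F) • (1 : Matrix (Fin m ⊕ Fin m) (Fin m ⊕ Fin m) F) :=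
    scal_val (QfPlus m F) l
  rw [h, img_smul_one _ l.ne_zero]
  exact par_self isMax_E

theorem psc_iff_cls (g : ↥(GO (QfPlus m F))) :
    Cfsg.PreservesSingularClasses (Cfsg.quadFormPlus m F) (gm g) ↔ cls g = 0 := by
  rw [psc_iff (toLin_inj g.1) (gm_spec g)]
  unfold cls par
  rw [zmod2_even]

theorem isStd_plus (m : ℕ) : IsStd (QfPlus m F) := by
  intro σ v
  rw [QfPlus_coe]
  exact Q_sig σ v

theorem map_map_symm (σ : F ≃+* F) (M : Matrix (Fin m ⊕ Fin m) (Fin m ⊕ Fin m) F) :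
    (M.map σ).map σ.symm = M := by
  ext i j
  simp

/-- the entrywise action commutes with taking images -/
theorem img_map_sigS (σ : F ≃+* F) (M : Matrix (Fin m ⊕ Fin m) (Fin m ⊕ Fin m) F)
    (U : Submodule F (Vm m F)) :
    Cfsg.imageSubmodule (M.map σ) (sigS σ U) = sigS σ (Cfsg.imageSubmodule M U) := by
  ext v
  rw [mem_image, mem_sigS, mem_image]
  constructor
  · rintro ⟨u, hu, rfl⟩
    refine ⟨_, hu, ?_⟩
    have h1 := map_mulVec'' σ.symm (M.map σ) u
    rw [map_map_symm] at h1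
    exact h1
  · rintro ⟨u, hu, huv⟩
    refine ⟨fun i => σ (u i), (mem_sigS' σ U u).2 hu, ?_⟩
    rw [map_mulVec'' σ M u, huv]
    funext i
    simp

theorem cls_tau (σ : F ≃+* F) (g : ↥(GO (QfPlus m F))) :
    cls (tauGO (isStd_plus m) σ g) = cls g := by
  unfold cls
  have h1 : gm (tauGO (isStd_plus m) σ g) = (gm g).map σ := rfl
  rw [h1]
  conv_lhs => rw [← sigS_E σ]
  rw [img_map_sigS, par_sigS]

end Cfsg.Agent.Helper7.PlusF
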