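import Mathlib
import Cfsg.Prelude.Def_LieTypeDatum
import Cfsg.Agent.Helper7.PlusF2
import Cfsg.Agent.S2615
import Cfsg.Agent.Helper28.Siegel6

/-!
# Plus-type orthogonal groups: the semilinear map of a coset element (helper7)

The class character of `g` computed through a parametrisation `M` transporting the semilinear map
`v ↦ ν g σ(v)` to the entrywise action of `σ`; the coordinate subspace of the minus-type model.
-/

set_option autoImplicit false
set_option linter.unusedSectionVars false
set_option linter.unusedVariables false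

namespace Cfsg.Agent.Helper7.PlusF

open Module Submodule Matrix Cfsg.Agent.Helper28.QPlus Cfsg.Agent.Helper28.IDP
  Cfsg.Agent.Helper28.Spin Cfsg.Agent.Helper28.PG Cfsg.Agent.Helper28.FO
  Cfsg.Agent.Helper28.SSim

variable {F : Type*} [Field F] {m : ℕ}

section param

variable {κ : Type} (σ : F ≃+* F) (g : ↥(GO (QfPlus m F))) (ν : F) (hν : ν ≠ 0)
  (M : (κ → F) →ₗ[F] Vm m F)
  (hM : ∀ w : κ → F, M (vs σ w) = ν • (gm g *ᵥ vs σ (M w)))

include hν hM in
/-- the semilinear map `v ↦ g σ(v)` corresponds to `σ` under the parametrisation -/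
theorem img_sigS_map (T : Submodule F (κ → F)) :
    Cfsg.imageSubmodule (gm g) (sigS σ (T.map M)) = (sigS σ T).map M := by
  ext v
  rw [mem_image, Submodule.mem_map]
  constructor
  · rintro ⟨u, hu, rfl⟩
    rw [mem_sigS, Submodule.mem_map] at hu
    obtain ⟨t, ht, htu⟩ := hu
    have hu' : u = vs σ (M t) := by
      rw [htu]
      funext i
      simp [vs]
    refine ⟨ν⁻¹ • vs σ t, (sigS σ T).smul_mem _ ((mem_sigS' σ T t).2 ht), ?_⟩
    rw [map_smul, hM, smul_smul, inv_mul_cancel₀ hν, one_smul, hu']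
  · rintro ⟨t', ht', rfl⟩
    rw [mem_sigS] at ht'
    set t : κ → F := fun i => σ.symm (t' i) with ht
    have htt : t' = vs σ t := by
      funext i
      simp [vs, ht]
    refine ⟨ν • vs σ (M t), ?_, ?_⟩
    · rw [mem_sigS, Submodule.mem_map]
      refine ⟨σ.symm ν • t, T.smul_mem _ ht', ?_⟩
      rw [map_smul]
      funext i
      simp [vs]
    · rw [Matrix.mulVec_smul, htt, hM]

include hν hM in
/-- the class character through the parametrisation -/
theorem cls_eq_par_map (T : Submodule F (κ → F)) (hT : IsMax m (T.map M)) :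
    cls g = par (T.map M) ((sigS σ T).map M) := by
  have h1 := par_img_self g (isMax_sigS σ hT)
  have h2 := par_tri hT (isMax_sigS σ hT) (isMax_img g (isMax_sigS σ hT))
  rw [img_sigS_map σ g ν hν M hM T] at h1 h2
  rw [h2, h1, par_sigS_self σ hT, zero_add]

end param

/-- the index type of the minus-type model -/
abbrev Im (k : ℕ) : Type := (Fin k ⊕ Fin k) ⊕ Fin 2

/-- embedding of the first coordinates -/
def iotaT (k : ℕ) (F : Type*) [Field F] : (Fin k → F) →ₗ[F] (Im k → F) where
  toFun x := Sum.elim (Sum.elim x 0) 0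
  map_add' x y := by
    funext s
    rcases s with (i | i) | i <;> simp
  map_smul' c x := by
    funext s
    rcases s with (i | i) | i <;> simp

/-- the standard totally singular subspace of the minus-type model -/
def T0 (k : ℕ) (F : Type*) [Field F] : Submodule F (Im k → F) := LinearMap.range (iotaT k F)

theorem finrank_T0 (k : ℕ) : finrank F (T0 k F) = k := by
  rw [T0, LinearMap.finrank_range_of_inj, Module.finrank_fin_fun]
  intro x y h
  funext i
  exact congrFun h (Sum.inl (Sum.inl i))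

theorem mem_T0_iff {k : ℕ} (v : Im k → F) :
    v ∈ T0 k F ↔ (∀ i, v (Sum.inl (Sum.inr i)) = 0) ∧ ∀ j, v (Sum.inr j) = 0 := by
  constructor
  · rintro ⟨x, rfl⟩
    constructor
    · intro i
      simp [iotaT]
    · intro j
      simp [iotaT]
  · rintro ⟨h1, h2⟩
    refine ⟨fun i => v (Sum.inl (Sum.inl i)), ?_⟩
    funext s
    rcases s with (i | i) | i
    · rfl
    · simp [iotaT, h1 i]
    · simp [iotaT, h2 i]

theorem Qm_T0 {k : ℕ} (a b : F) (v : Im k → F) (hv : v ∈ T0 k F) :
    Cfsg.quadFormMinus k F a b v = 0 := by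
  rw [mem_T0_iff] at hv
  unfold Cfsg.quadFormMinus
  rw [hv.2 0, hv.2 1]
  simp [hv.1]

theorem sigS_T0 {k : ℕ} (σ : F ≃+* F) : sigS σ (T0 k F) = T0 k F := by
  ext v
  rw [mem_sigS, mem_T0_iff, mem_T0_iff]
  constructor
  · rintro ⟨h1, h2⟩
    refine ⟨fun i => ?_, fun j => ?_⟩
    · have := h1 i
      simpa using this
    · have := h2 j
      simpa using this
  · rintro ⟨h1, h2⟩
    refine ⟨fun i => ?_, fun j => ?_⟩
    · rw [h1 i, map_zero]
    · rw [h2 j, map_zero]

theorem single_mem_T0 {k : ℕ} (i : Fin k) :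
    (Pi.single (Sum.inl (Sum.inl i)) (1 : F) : Im k → F) ∈ T0 k F := by
  classical
  rw [mem_T0_iff]
  constructor
  · intro j
    simp
  · intro j
    simp

/-- a stable totally singular subspace strictly containing the standard one gives a fixed root -/
theorem exists_fixed_root {k : ℕ} (σ : F ≃+* F) (a b : F) (T : Submodule F (Im k → F))
    (hT : ∀ t ∈ T, Cfsg.quadFormMinus k F a b t = 0) (h0 : T0 k F ≤ T)
    (hne : ∃ t ∈ T, t ∉ T0 k F) (hσ : sigS σ T = T) :
    ∃ z : F, σ z = z ∧ z ^ 2 + a * z + b = 0 := by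
  classical
  -- the polar form vanishes on `T`
  have hpol : ∀ x ∈ T, ∀ y ∈ T, QuadraticMap.polar ⇑(QfMinus k F a b) x y = 0 := by
    intro x hx y hy
    unfold QuadraticMap.polar
    rw [QfMinus_coe, hT _ (T.add_mem hx hy), hT x hx, hT y hy]
    ring
  -- the second hyperbolic coordinates vanish on `T`
  have hc : ∀ t ∈ T, ∀ i, t (Sum.inl (Sum.inr i)) = 0 := by
    intro t ht i
    have h1 := hpol _ (h0 (single_mem_T0 i)) t ht
    rw [Cfsg.Agent.Helper28.Sg.polar_single_left (Cfsg.Agent.S2615.hypPair_minus k a b i)] at h1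
    exact h1
  obtain ⟨t, ht, htn⟩ := hne
  -- remove the first hyperbolic coordinates
  set t₀ : Im k → F := iotaT k F (fun i => t (Sum.inl (Sum.inl i))) with ht₀
  have ht₀T : t₀ ∈ T := h0 ⟨_, rfl⟩
  set n : Im k → F := t - t₀ with hn
  have hnT : n ∈ T := T.sub_mem ht ht₀T
  have hn1 : ∀ i, n (Sum.inl (Sum.inl i)) = 0 := by
    intro i
    simp [hn, ht₀, iotaT]
  have hn2 : ∀ i, n (Sum.inl (Sum.inr i)) = 0 := fun i => hc n hnT i
  have hQn : n (Sum.inr 0) ^ 2 + a * n (Sum.inr 0) * n (Sum.inr 1) + b * n (Sum.inr 1) ^ 2 = 0 := by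
    have h1 := hT n hnT
    unfold Cfsg.quadFormMinus at h1
    simp only [hn1, zero_mul, Finset.sum_const_zero, zero_add] at h1
    exact h1
  have hu : n (Sum.inr 1) ≠ 0 := by
    intro h1
    rw [h1] at hQn
    have h2 : n (Sum.inr 0) = 0 := by
      have : n (Sum.inr 0) ^ 2 = 0 := by linear_combination hQn
      exact pow_eq_zero_iff (two_ne_zero) |>.1 this
    apply htn
    have h3 : n ∈ T0 k F := by
      rw [mem_T0_iff]
      refine ⟨hn2, fun j => ?_⟩
      fin_cases j
      · exact h2
      · exact h1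
    have h4 : t = n + t₀ := by rw [hn]; abel
    rw [h4]
    exact (T0 k F).add_mem h3 ⟨_, rfl⟩
  set z : F := n (Sum.inr 0) / n (Sum.inr 1) with hz
  have hroot : z ^ 2 + a * z + b = 0 := by
    rw [hz]
    field_simp
    linear_combination hQn
  refine ⟨z, ?_, hroot⟩
  -- the normalised vector and its image
  set n' : Im k → F := (n (Sum.inr 1))⁻¹ • n with hn'
  have hn'T : n' ∈ T := T.smul_mem _ hnT
  have hσn' : vs σ n' ∈ T := by
    rw [← hσ]
    exact (mem_sigS' σ T n').2 hn'T
  set d : Im k → F := n' - vs σ n' with hd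
  have hdT : d ∈ T := T.sub_mem hn'T hσn'
  have hd1 : ∀ i, d (Sum.inl (Sum.inl i)) = 0 := by
    intro i
    simp [hd, hn', vs, hn1 i]
  have hd3 : d (Sum.inr 1) = 0 := by
    simp [hd, hn', vs, hu]
  have hd2 : d (Sum.inr 0) = z - σ z := by
    simp only [hd, hn', vs, Pi.sub_apply, Pi.smul_apply, smul_eq_mul, hz]
    rw [inv_mul_eq_div]
  have hQd := hT d hdT
  unfold Cfsg.quadFormMinus at hQd
  simp only [hd1, zero_mul, Finset.sum_const_zero, zero_add, hd3, mul_zero] at hQd
  rw [hd2] at hQd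
  have h5 : (z - σ z) ^ 2 = 0 := by
    have h6 : (0 : F) ^ 2 = 0 := by norm_num
    rw [h6, mul_zero, add_zero, add_zero] at hQd
    exact hQd
  have h6 := pow_eq_zero_iff (two_ne_zero) |>.1 h5
  exact (sub_eq_zero.1 h6).symm

end Cfsg.Agent.Helper7.PlusF
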