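import Mathlib
import Cfsg.Prelude.Def_LieTypeDatum
import Cfsg.Agent.Helper7.PlusF4
import Cfsg.Agent.S2171

/-!
# Plus-type orthogonal groups: parametrisations from rational frames (helper7)

A rational hyperbolic frame of a form `P` gives a rational isometry from the standard plus-type
form; a rational frame with an anisotropic plane gives a rational similarity from a minus-type
model.
-/

set_option autoImplicit false
set_option linter.unusedSectionVars false
set_option linter.unusedVariables false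

namespace Cfsg.Agent.Helper7.PlusF

open Module Submodule Matrix Cfsg.Agent.Helper28.QPlus Cfsg.Agent.Helper28.IDP
  Cfsg.Agent.Helper28.Spin Cfsg.Agent.Helper28.PG Cfsg.Agent.Helper28.FO
  Cfsg.Agent.Helper28.SSim

variable {F : Type*} [Field F] {m : ℕ}

/-- a rational hyperbolic frame gives a rational isometry from the standard form -/
theorem frameH (σ : F ≃+* F) (P : QuadraticForm F (Vm m F)) (Ee Gg : Fin m → Vm m F)
    (hE : ∀ i, P (Ee i) = 0) (hG : ∀ i, P (Gg i) = 0)
    (hEG : ∀ i j, QuadraticMap.polar P (Ee i) (Gg j) = if i = j then 1 else 0)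
    (hEE : ∀ i j, QuadraticMap.polar P (Ee i) (Ee j) = 0)
    (hGG : ∀ i j, QuadraticMap.polar P (Gg i) (Gg j) = 0)
    (hEσ : ∀ i, vs σ (Ee i) = Ee i) (hGσ : ∀ i, vs σ (Gg i) = Gg i) :
    ∃ a : GL (Fin m ⊕ Fin m) F, mapGL σ a = a ∧
      ∀ w, P ((a : Matrix (Fin m ⊕ Fin m) (Fin m ⊕ Fin m) F) *ᵥ w) = QfPlus m F w := by
  classical
  have hQ := QfPlus_nondeg (F := F) m
  set L : Vm m F →ₗ[F] Vm m F :=
    ∑ i, ((LinearMap.proj (R := F) (φ := fun _ : Fin m ⊕ Fin m => F) (Sum.inl i)).smulRight (Ee i) +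
      (LinearMap.proj (R := F) (φ := fun _ : Fin m ⊕ Fin m => F) (Sum.inr i)).smulRight (Gg i))
    with hL
  have hLw : ∀ w, L w = ∑ i, (w (Sum.inl i) • Ee i + w (Sum.inr i) • Gg i) := by
    intro w
    rw [hL]
    simp only [LinearMap.add_apply, LinearMap.sum_apply, LinearMap.smulRight_apply,
      LinearMap.proj_apply]
  have hPL : ∀ w, P (L w) = (1 : F) * QfPlus m F w := by
    intro w
    have h1 := map_add_hyp_sum P Ee Gg (1 : F) hE hG hEG hEE hGG (0 : Vm m F)
      (fun i => QuadraticMap.polar_zero_left _ _) (fun i => QuadraticMap.polar_zero_left _ _)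
      (fun i => w (Sum.inl i)) (fun i => w (Sum.inr i))
    rw [zero_add, map_zero, zero_add] at h1
    rw [hLw, h1, QfPlus_coe]
    rfl
  have hunit := isUnit_of_scaling (QfPlus m F) P hQ L (1 : F) one_ne_zero hPL
  refine ⟨hunit.unit, ?_, ?_⟩
  · apply mapGL_eq_of_comm
    intro w
    show vs σ (LinearMap.toMatrix' L *ᵥ w) = LinearMap.toMatrix' L *ᵥ vs σ w
    rw [LinearMap.toMatrix'_mulVec, LinearMap.toMatrix'_mulVec, hLw, hLw, vs_sum]
    apply Finset.sum_congr rfl
    intro i _
    rw [vs_add, vs_smul, vs_smul, hEσ, hGσ]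
    rfl
  · intro w
    show P (LinearMap.toMatrix' L *ᵥ w) = _
    rw [LinearMap.toMatrix'_mulVec, hPL, one_mul]

theorem finrank_Im (k : ℕ) : finrank F (Im k → F) = 2 * k + 2 := by
  rw [Module.finrank_fintype_fun_eq_card, Fintype.card_sum, Fintype.card_sum, Fintype.card_fin,
    Fintype.card_fin]
  ring

/-- a rational frame with an anisotropic plane gives a rational similarity from the minus-type
model -/
theorem frameE (σ : F ≃+* F) (P : QuadraticForm F (Vm m F)) {k : ℕ} (hk : k + 1 = m)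
    (Ee Gg : Fin k → Vm m F) (Xv Yv : Vm m F) (p a b : F) (hp : p ≠ 0)
    (hdisc : 4 * b - a ^ 2 ≠ 0)
    (hE : ∀ i, P (Ee i) = 0) (hG : ∀ i, P (Gg i) = 0)
    (hEG : ∀ i j, QuadraticMap.polar P (Ee i) (Gg j) = if i = j then p else 0)
    (hEE : ∀ i j, QuadraticMap.polar P (Ee i) (Ee j) = 0)
    (hGG : ∀ i j, QuadraticMap.polar P (Gg i) (Gg j) = 0)
    (hXE : ∀ i, QuadraticMap.polar P Xv (Ee i) = 0) (hXG : ∀ i, QuadraticMap.polar P Xv (Gg i) = 0)
    (hYE : ∀ i, QuadraticMap.polar P Yv (Ee i) = 0) (hYG : ∀ i, QuadraticMap.polar P Yv (Gg i) = 0)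
    (hX : P Xv = p) (hXY : QuadraticMap.polar P Xv Yv = p * a) (hY : P Yv = p * b)
    (hEσ : ∀ i, vs σ (Ee i) = Ee i) (hGσ : ∀ i, vs σ (Gg i) = Gg i)
    (hXσ : vs σ Xv = Xv) (hYσ : vs σ Yv = Yv) :
    ∃ L : (Im k → F) ≃ₗ[F] Vm m F, (∀ w, P (L w) = p * Cfsg.quadFormMinus k F a b w) ∧
      ∀ w, L (vs σ w) = vs σ (L w) := by
  classical
  have hQm := Cfsg.Agent.S2171.QfMinus_nondeg_of (F := F) k a b hdisc
  set L : (Im k → F) →ₗ[F] Vm m F :=
    (LinearMap.proj (R := F) (φ := fun _ : Im k => F) (Sum.inr 0)).smulRight Xv +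
    (LinearMap.proj (R := F) (φ := fun _ : Im k => F) (Sum.inr 1)).smulRight Yv +
    ∑ i, ((LinearMap.proj (R := F) (φ := fun _ : Im k => F) (Sum.inl (Sum.inl i))).smulRight (Ee i) +
      (LinearMap.proj (R := F) (φ := fun _ : Im k => F) (Sum.inl (Sum.inr i))).smulRight (Gg i))
    with hL
  have hLw : ∀ w, L w = (w (Sum.inr 0) • Xv + w (Sum.inr 1) • Yv) +
      ∑ i, (w (Sum.inl (Sum.inl i)) • Ee i + w (Sum.inl (Sum.inr i)) • Gg i) := by
    intro w
    rw [hL]
    simp only [LinearMap.add_apply, LinearMap.sum_apply, LinearMap.smulRight_apply,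
      LinearMap.proj_apply]
  have hPL : ∀ w, P (L w) = p * Cfsg.quadFormMinus k F a b w := by
    intro w
    have h1 := map_add_hyp_sum P Ee Gg p hE hG hEG hEE hGG
      (w (Sum.inr 0) • Xv + w (Sum.inr 1) • Yv)
      (fun i => by
        rw [QuadraticMap.polar_add_left, QuadraticMap.polar_smul_left,
          QuadraticMap.polar_smul_left, hXE, hYE, smul_zero, smul_zero, add_zero])
      (fun i => by
        rw [QuadraticMap.polar_add_left, QuadraticMap.polar_smul_left,
          QuadraticMap.polar_smul_left, hXG, hYG, smul_zero, smul_zero, add_zero])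
      (fun i => w (Sum.inl (Sum.inl i))) (fun i => w (Sum.inl (Sum.inr i)))
    rw [hLw, h1, Cfsg.Agent.Helper13.map_smul_add_smul, hX, hXY, hY]
    unfold Cfsg.quadFormMinus
    ring
  have hpol : ∀ u w, QuadraticMap.polar P (L u) (L w) =
      p * QuadraticMap.polar ⇑(QfMinus k F a b) u w := by
    intro u w
    unfold QuadraticMap.polar
    rw [← map_add, hPL, hPL, hPL, QfMinus_coe]
    ring
  have hinj : Function.Injective L := by
    intro x y hxy
    have h0 : L (x - y) = 0 := by rw [map_sub, hxy, sub_self]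
    have h1 : x - y = 0 := by
      apply hQm.1
      intro w
      show QuadraticMap.polar ⇑(QfMinus k F a b) (x - y) w = 0
      have h2 := hpol (x - y) w
      rw [h0, QuadraticMap.polar_zero_left] at h2
      rcases mul_eq_zero.1 h2.symm with h3 | h3
      · exact absurd h3 hp
      · exact h3
    exact sub_eq_zero.1 h1
  have hfr : finrank F (Im k → F) = finrank F (Vm m F) := by
    rw [finrank_Im, finrank_Vm]
    omega
  have hsurj : Function.Surjective L :=
    (LinearMap.injective_iff_surjective_of_finrank_eq_finrank hfr).1 hinj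
  refine ⟨LinearEquiv.ofBijective L ⟨hinj, hsurj⟩, ?_, ?_⟩
  · intro w
    exact hPL w
  · intro w
    show L (vs σ w) = vs σ (L w)
    rw [hLw, hLw, vs_add, vs_add, vs_smul, vs_smul, vs_sum, hXσ, hYσ]
    congr 1
    apply Finset.sum_congr rfl
    intro i _
    rw [vs_add, vs_smul, vs_smul, hEσ, hGσ]
    rfl

end Cfsg.Agent.Helper7.PlusF
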