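import Mathlib
import Cfsg.Prelude.Def_LieTypeDatum
import Cfsg.Agent.Helper7.PlusF5
import Cfsg.Agent.S2621

/-!
# Plus-type orthogonal groups: rational forms are hyperbolic or elliptic (helper7)

A nondegenerate form in dimension `2m` which is rational for a field automorphism of a finite
field has a rational hyperbolic frame or a rational frame with an anisotropic plane.
-/

set_option autoImplicit false
set_option linter.unusedSectionVars false
set_option linter.unusedVariables false

namespace Cfsg.Agent.Helper7.PlusF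

open Module Submodule Matrix Cfsg.Agent.Helper28.QPlus Cfsg.Agent.Helper28.IDP
  Cfsg.Agent.Helper28.Spin Cfsg.Agent.Helper28.PG Cfsg.Agent.Helper28.FO
  Cfsg.Agent.Helper28.SSim

/-- the discriminant of an anisotropic binary form over a finite field is non-zero -/
theorem disc_ne_zero_of_aniso {K : Type*} [Field K] [Fintype K] (a b : K)
    (hab : ∀ z₁ z₂ : K, z₁ ^ 2 + a * z₁ * z₂ + b * z₂ ^ 2 = 0 → z₁ = 0 ∧ z₂ = 0) :
    4 * b - a ^ 2 ≠ 0 := by
  classical
  by_cases h2 : (2 : K) = 0
  · have : CharP K 2 := CharTwo.of_one_ne_zero_of_two_eq_zero one_ne_zero h2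
    have ha := Cfsg.Agent.S2171.ne_zero_of_aniso a b hab
    rw [show (4 : K) = 2 * 2 by norm_num, h2]
    simpa using ha
  · have hδ := Cfsg.Agent.S2621.not_isSquare_disc h2 a b hab
    intro h
    apply hδ
    have : a ^ 2 - 4 * b = 0 := by linear_combination -h
    rw [this]
    exact ⟨0, by simp⟩

variable {F : Type*} [Field F] {m : ℕ}

set_option maxHeartbeats 1600000 in
/-- **rational forms in dimension `2m`** -/
theorem exists_frame [Fintype F] (σ : F ≃+* F) (P : QuadraticForm F (Vm m F))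
    (hPσ : ∀ w : Vm m F, P (vs σ w) = σ (P w))
    (hnd : ∀ v : Vm m F, (∀ w, QuadraticMap.polar P v w = 0) → v = 0) :
    (∃ a : GL (Fin m ⊕ Fin m) F, mapGL σ a = a ∧
      ∀ w, P ((a : Matrix (Fin m ⊕ Fin m) (Fin m ⊕ Fin m) F) *ᵥ w) = QfPlus m F w) ∨
    (∃ (k : ℕ) (_ : k + 1 = m) (p a b : F) (L : (Im k → F) ≃ₗ[F] Vm m F),
      p ≠ 0 ∧ σ p = p ∧ σ a = a ∧ σ b = b ∧
      (∀ s u : F, σ s = s → σ u = u → s ^ 2 + a * s * u + b * u ^ 2 = 0 → s = 0 ∧ u = 0) ∧
      (∀ w, P (L w) = p * Cfsg.quadFormMinus k F a b w) ∧ ∀ w, L (vs σ w) = vs σ (L w)) := by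
  classical
  have hnd₀ := descend_nondeg P hPσ hnd
  have hfin : finrank ↥(fixedSub σ) (Vm m ↥(fixedSub σ)) = 2 * m := by
    rw [Module.finrank_fintype_fun_eq_card, Fintype.card_sum, Fintype.card_fin]
    ring
  obtain ⟨k, e, f, A₀, hW⟩ := Cfsg.Agent.Helper13.exists_wittDecomp (F := ↥(fixedSub σ))
    (2 * m) (descend P hPσ) hfin hnd₀
  have hrank := hW.rank
  have hrankA := hW.rankA
  rw [hfin] at hrank
  have coe0 : ∀ x : ↥(fixedSub σ), x = 0 → (x : F) = 0 := fun x hx => by rw [hx]; rfl
  -- the common part of the frame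
  set G : Fin k → Vm m F := fun i => up σ (f i) with hG
  have hPG : ∀ i, P (G i) = 0 := by
    intro i
    rw [hG]
    simp only
    rw [← descend_apply P hPσ, coe0 _ (hW.Qf i)]
  have hGG : ∀ i j, QuadraticMap.polar P (G i) (G j) = 0 := by
    intro i j
    rw [hG]
    simp only
    rw [← descend_polar P hPσ, coe0 _ (hW.ff i j)]
  have hGσ : ∀ i, vs σ (G i) = G i := fun i => vs_up σ (f i)
  have hcases : (finrank ↥(fixedSub σ) ↥A₀ = 0 ∧ k = m) ∨
      (finrank ↥(fixedSub σ) ↥A₀ = 2 ∧ k + 1 = m) := by omega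
  rcases hcases with ⟨hA0, hk⟩ | ⟨hA2, hk⟩
  · -- hyperbolic
    left
    subst hk
    set E : Fin k → Vm k F := fun i => up σ (e i) with hE
    have hPE : ∀ i, P (E i) = 0 := by
      intro i
      rw [hE]
      simp only
      rw [← descend_apply P hPσ, coe0 _ (hW.Qe i)]
    have hEG : ∀ i j, QuadraticMap.polar P (E i) (G j) = if i = j then 1 else 0 := by
      intro i j
      rw [hE, hG]
      simp only
      rw [← descend_polar P hPσ, hW.ef]
      split_ifs
      · simp
      · simp
    have hEE : ∀ i j, QuadraticMap.polar P (E i) (E j) = 0 := by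
      intro i j
      rw [hE]
      simp only
      rw [← descend_polar P hPσ, coe0 _ (hW.ee i j)]
    have hEσ : ∀ i, vs σ (E i) = E i := fun i => vs_up σ (e i)
    exact frameH σ P E G hPE hPG hEG hEE hGG hEσ hGσ
  · -- elliptic
    right
    have : Fintype ↥(fixedSub σ) := Fintype.ofFinite _
    set bA := Module.finBasisOfFinrankEq ↥(fixedSub σ) ↥A₀ hA2 with hbA
    set x : Vm m ↥(fixedSub σ) := ((bA 0 : ↥A₀) : Vm m ↥(fixedSub σ)) with hx
    set y : Vm m ↥(fixedSub σ) := ((bA 1 : ↥A₀) : Vm m ↥(fixedSub σ)) with hy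
    have hxA : x ∈ A₀ := (bA 0).2
    have hyA : y ∈ A₀ := (bA 1).2
    have hli : ∀ s u : ↥(fixedSub σ), s • x + u • y = 0 → s = 0 ∧ u = 0 := by
      intro s u hsu
      have h1 : s • bA 0 + u • bA 1 = 0 := by
        apply Subtype.ext
        exact hsu
      have h2 := bA.linearIndependent
      rw [Fintype.linearIndependent_iff] at h2
      have h3 := h2 ![s, u] (by
        rw [Fin.sum_univ_two]
        exact h1)
      exact ⟨h3 0, h3 1⟩
    have hx0 : x ≠ 0 := by
      intro h0
      have := hli 1 0 (by rw [h0]; simp)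
      exact one_ne_zero this.1
    set p₀ : ↥(fixedSub σ) := descend P hPσ x with hp₀
    have hp₀0 : p₀ ≠ 0 := fun h => hx0 (hW.aniso x hxA h)
    set a₀ : ↥(fixedSub σ) := QuadraticMap.polar (descend P hPσ) x y / p₀ with ha₀
    set b₀ : ↥(fixedSub σ) := descend P hPσ y / p₀ with hb₀
    have haniso₀ : ∀ s u : ↥(fixedSub σ), s ^ 2 + a₀ * s * u + b₀ * u ^ 2 = 0 → s = 0 ∧ u = 0 := by
      intro s u hsu
      apply hli
      apply hW.aniso _ (A₀.add_mem (A₀.smul_mem s hxA) (A₀.smul_mem u hyA))
      rw [Cfsg.Agent.Helper13.map_smul_add_smul, ← hp₀]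
      have h1 : QuadraticMap.polar (descend P hPσ) x y = a₀ * p₀ := by
        rw [ha₀]
        field_simp
      have h2 : descend P hPσ y = b₀ * p₀ := by
        rw [hb₀]
        field_simp
      rw [h1, h2]
      linear_combination p₀ * hsu
    have hdisc₀ := disc_ne_zero_of_aniso a₀ b₀ haniso₀
    have hp0F : (p₀ : F) ≠ 0 := fun h => hp₀0 (Subtype.ext h)
    have hdisc : 4 * (b₀ : F) - (a₀ : F) ^ 2 ≠ 0 := by
      intro h
      apply hdisc₀
      apply Subtype.ext
      push_cast
      exact h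
    have haniso : ∀ s u : F, σ s = s → σ u = u →
        s ^ 2 + (a₀ : F) * s * u + (b₀ : F) * u ^ 2 = 0 → s = 0 ∧ u = 0 := by
      intro s u hs hu hsu
      have h1 := haniso₀ ⟨s, hs⟩ ⟨u, hu⟩ (by
        apply Subtype.ext
        push_cast
        exact hsu)
      exact ⟨congrArg Subtype.val h1.1, congrArg Subtype.val h1.2⟩
    set E : Fin k → Vm m F := fun i => (p₀ : F) • up σ (e i) with hE
    set Xv : Vm m F := up σ x with hXv
    set Yv : Vm m F := up σ y with hYv
    have hPE : ∀ i, P (E i) = 0 := by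
      intro i
      rw [hE]
      simp only
      rw [QuadraticMap.map_smul, ← descend_apply P hPσ, coe0 _ (hW.Qe i), smul_zero]
    have hEG : ∀ i j, QuadraticMap.polar P (E i) (G j) = if i = j then (p₀ : F) else 0 := by
      intro i j
      rw [hE, hG]
      simp only
      rw [QuadraticMap.polar_smul_left, ← descend_polar P hPσ, hW.ef]
      split_ifs
      · simp
      · simp
    have hEE : ∀ i j, QuadraticMap.polar P (E i) (E j) = 0 := by
      intro i j
      rw [hE]
      simp only
      rw [QuadraticMap.polar_smul_left, QuadraticMap.polar_smul_right, ← descend_polar P hPσ,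
        coe0 _ (hW.ee i j), smul_zero, smul_zero]
    have hXE : ∀ i, QuadraticMap.polar P Xv (E i) = 0 := by
      intro i
      rw [hE, hXv]
      simp only
      rw [QuadraticMap.polar_smul_right, ← descend_polar P hPσ, QuadraticMap.polar_comm,
        coe0 _ (hW.eA x hxA i), smul_zero]
    have hXG : ∀ i, QuadraticMap.polar P Xv (G i) = 0 := by
      intro i
      rw [hG, hXv]
      simp only
      rw [← descend_polar P hPσ, QuadraticMap.polar_comm, coe0 _ (hW.fA x hxA i)]
    have hYE : ∀ i, QuadraticMap.polar P Yv (E i) = 0 := by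
      intro i
      rw [hE, hYv]
      simp only
      rw [QuadraticMap.polar_smul_right, ← descend_polar P hPσ, QuadraticMap.polar_comm,
        coe0 _ (hW.eA y hyA i), smul_zero]
    have hYG : ∀ i, QuadraticMap.polar P Yv (G i) = 0 := by
      intro i
      rw [hG, hYv]
      simp only
      rw [← descend_polar P hPσ, QuadraticMap.polar_comm, coe0 _ (hW.fA y hyA i)]
    have hX : P Xv = (p₀ : F) := by
      rw [hXv, ← descend_apply P hPσ]
    have hXY : QuadraticMap.polar P Xv Yv = (p₀ : F) * (a₀ : F) := by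
      rw [hXv, hYv, ← descend_polar P hPσ, ha₀]
      push_cast
      field_simp
    have hY : P Yv = (p₀ : F) * (b₀ : F) := by
      rw [hYv, ← descend_apply P hPσ, hb₀]
      push_cast
      field_simp
    have hEσ : ∀ i, vs σ (E i) = E i := by
      intro i
      rw [hE]
      simp only
      rw [vs_smul, vs_up]
      congr 1
      exact p₀.2
    obtain ⟨L, hL1, hL2⟩ := frameE σ P hk E G Xv Yv (p₀ : F) (a₀ : F) (b₀ : F) hp0F hdisc
      hPE hPG hEG hEE hGG hXE hXG hYE hYG hX hXY hY hEσ hGσ (vs_up σ x) (vs_up σ y)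
    exact ⟨k, hk, (p₀ : F), (a₀ : F), (b₀ : F), L, hp0F, p₀.2, a₀.2, b₀.2, haniso, hL1, hL2⟩

end Cfsg.Agent.Helper7.PlusF
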