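import Mathlib
import Cfsg.Prelude.Def_LieTypeDatum
import Cfsg.Agent.Helper7.PlusF3
import Cfsg.Agent.Helper7.PlusF6
import Cfsg.Agent.Helper28.GammaCount5

/-!
# Plus-type orthogonal groups: the type of the rational form and the class character (helper7)

For Lang data of `g`: a hyperbolic rational form forces `cls g = 0`, an elliptic one forces
`cls g = 1`; two elliptic rational forms are similar over the fixed field.
-/

set_option autoImplicit false
set_option linter.unusedSectionVars false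
set_option linter.unusedVariables false

namespace Cfsg.Agent.Helper7.PlusF

open Module Submodule Matrix Cfsg.Agent.Helper28.QPlus Cfsg.Agent.Helper28.IDP
  Cfsg.Agent.Helper28.Spin Cfsg.Agent.Helper28.PG Cfsg.Agent.Helper28.FO
  Cfsg.Agent.Helper28.SSim Cfsg.Agent.Helper28.GC

variable {F : Type*} [Field F] {m : ℕ}

theorem cls_eq_of_key (σ : F ≃+* F) {g g' B : ↥(GO (QfPlus m F))} {ν ν' : Fˣ}
    (h : (scal (QfPlus m F) ν * g : ↥(GO (QfPlus m F))) * tauGO (isStd_plus m) σ B =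
      scal (QfPlus m F) ν' * (B * g')) : cls g = cls g' := by
  have h1 := congrArg cls h
  rw [cls_mul, cls_mul, cls_mul, cls_mul, cls_scal, cls_scal, cls_tau] at h1
  have e : ∀ a b c : ZMod 2, 0 + a + b = 0 + (b + c) → a = c := by decide
  exact e _ _ _ h1

theorem nondeg_bilin_of_forall {V : Type*} [AddCommGroup V] [Module F V] (P : QuadraticForm F V)
    (h : ∀ v : V, (∀ w, QuadraticMap.polar P v w = 0) → v = 0) :
    (QuadraticMap.polarBilin P).Nondegenerate := by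
  refine ⟨fun x hx => h x (fun w => hx w), fun y hy => h y (fun w => ?_)⟩
  rw [QuadraticMap.polar_comm]
  exact hy w

theorem lang_nondeg (A : GL (Fin m ⊕ Fin m) F) (κ : Fˣ) (v : Vm m F)
    (hv : ∀ w, QuadraticMap.polar (langForm (QfPlus m F) A κ) v w = 0) : v = 0 :=
  nondeg_of_similar (QfPlus m F) (langForm (QfPlus m F) A κ) (QfPlus_nondeg m)
    (langForm_sim A κ) v hv

/-- a hyperbolic rational form forces the trivial class -/
theorem cls_of_hyp (σ : F ≃+* F) {g : ↥(GO (QfPlus m F))} {A : GL (Fin m ⊕ Fin m) F} {ν κ : Fˣ}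
    (hL : IsLang σ g A ν κ) (a : GL (Fin m ⊕ Fin m) F) (ha : mapGL σ a = a)
    (haP : ∀ w, langForm (QfPlus m F) A κ
      ((a : Matrix (Fin m ⊕ Fin m) (Fin m ⊕ Fin m) F) *ᵥ w) = QfPlus m F w) : cls g = 0 := by
  obtain ⟨B, -, key, -⟩ := conj_of_lang_data (isStd_plus m) σ hL (isLang_one (isStd_plus m) σ) a ha 1
    (by
      intro w
      rw [haP, langForm_apply]
      simp)
  rw [cls_eq_of_key σ key, cls_one]

/-- an elliptic rational form forces the non-trivial class -/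
theorem cls_of_ell (σ : F ≃+* F) {g : ↥(GO (QfPlus m F))} {A : GL (Fin m ⊕ Fin m) F} {ν κ : Fˣ}
    (hL : IsLang σ g A ν κ) {k : ℕ} (hk : k + 1 = m) (p a b : F) (hp : p ≠ 0)
    (L : (Im k → F) ≃ₗ[F] Vm m F)
    (haniso : ∀ s u : F, σ s = s → σ u = u → s ^ 2 + a * s * u + b * u ^ 2 = 0 → s = 0 ∧ u = 0)
    (hL1 : ∀ w, langForm (QfPlus m F) A κ (L w) = p * Cfsg.quadFormMinus k F a b w)
    (hL2 : ∀ w, L (vs σ w) = vs σ (L w)) : cls g = 1 := by
  classical
  set M : (Im k → F) →ₗ[F] Vm m F :=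
    (Matrix.toLin' (A : Matrix (Fin m ⊕ Fin m) (Fin m ⊕ Fin m) F)).comp L.toLinearMap with hMdef
  have hMw : ∀ w, M w = (A : Matrix (Fin m ⊕ Fin m) (Fin m ⊕ Fin m) F) *ᵥ L w := by
    intro w
    rw [hMdef, LinearMap.comp_apply, Matrix.toLin'_apply]
    rfl
  have hM : ∀ w, M (vs σ w) = (ν : F) • (gm g *ᵥ vs σ (M w)) := by
    intro w
    rw [hMw, hMw, hL2, hL.mulVec_vs]
  have hMinj : Function.Injective M := by
    intro x y hxy
    rw [hMw, hMw] at hxy
    exact L.injective ((Matrix.mulVec_injective_iff_isUnit.2 ⟨A, rfl⟩) hxy)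
  have hMsurj : Function.Surjective M := by
    intro v
    obtain ⟨w, hw⟩ := L.surjective (((A⁻¹ : GL (Fin m ⊕ Fin m) F) :
      Matrix (Fin m ⊕ Fin m) (Fin m ⊕ Fin m) F) *ᵥ v)
    exact ⟨w, by rw [hMw, hw, mulVec_inv_mulVec]⟩
  have hQM : ∀ w, Cfsg.quadFormPlus m F (M w) =
      (κ : F)⁻¹ * p * Cfsg.quadFormMinus k F a b w := by
    intro w
    have h1 := hL1 w
    rw [langForm_apply, ← hMw, QfPlus_coe] at h1
    have hκ : (κ : F) ≠ 0 := κ.ne_zero
    field_simp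
    linear_combination h1
  set X₀ : Submodule F (Vm m F) := (T0 k F).map M with hX₀
  have hX₀ts : ∀ w ∈ X₀, Cfsg.quadFormPlus m F w = 0 := by
    rintro _ ⟨t, ht, rfl⟩
    rw [hQM, Qm_T0 a b t ht, mul_zero]
  have hU := isMax_T' X₀ hX₀ts
  set U : Submodule F (Vm m F) := (E m F ⊓ (pB m F).orthogonal X₀) ⊔ X₀ with hUdef
  have hX₀U : X₀ ≤ U := le_sup_right
  set T : Submodule F (Im k → F) := U.comap M with hTdef
  have hTU : T.map M = U := Submodule.map_comap_eq_of_surjective hMsurj U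
  have h0T : T0 k F ≤ T := by
    rw [hTdef, ← Submodule.map_le_iff_le_comap]
    exact hX₀U
  have hTts : ∀ t ∈ T, Cfsg.quadFormMinus k F a b t = 0 := by
    intro t ht
    have h1 : M t ∈ U := ht
    have h2 := hU.2 _ h1
    rw [hQM] at h2
    have hκ : (κ : F)⁻¹ * p ≠ 0 := mul_ne_zero (inv_ne_zero κ.ne_zero) hp
    exact (mul_eq_zero.1 h2).resolve_left hκ
  have hTmax : IsMax m (T.map M) := by
    rw [hTU]
    exact hU
  have hcls := cls_eq_par_map σ g (ν : F) ν.ne_zero M hM T hTmax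
  have hfrX : finrank F X₀ + 1 = m := by
    rw [hX₀, LinearEquiv.finrank_eq (Submodule.equivMapOfInjective M hMinj (T0 k F)).symm,
      finrank_T0]
    exact hk
  have hWmax : IsMax m ((sigS σ T).map M) := by
    rw [← img_sigS_map σ g (ν : F) ν.ne_zero M hM T]
    exact isMax_img g (isMax_sigS σ hTmax)
  have hX₀W : X₀ ≤ (sigS σ T).map M := by
    rw [hX₀]
    apply Submodule.map_mono
    rw [← sigS_T0 σ]
    exact sigS_mono σ h0T
  by_contra hne1
  have h0 : cls g = 0 := by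
    have e : ∀ a : ZMod 2, a ≠ 1 → a = 0 := by decide
    exact e _ hne1
  rw [hcls] at h0
  have heq := eq_of_par_eq_zero hTmax hWmax (by rw [hTU]; exact hX₀U) hX₀W hfrX h0
  have hσT : sigS σ T = T := (Submodule.map_injective_of_injective hMinj heq).symm
  have hfrT : finrank F T = m := by
    rw [← hTmax.1]
    exact LinearEquiv.finrank_eq (Submodule.equivMapOfInjective M hMinj T)
  have hne : ∃ t ∈ T, t ∉ T0 k F := by
    by_contra hcon
    push Not at hcon
    have h1 : T ≤ T0 k F := hcon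
    have h2 := Submodule.finrank_mono h1
    rw [hfrT, finrank_T0] at h2
    omega
  obtain ⟨z, hz, hroot⟩ := exists_fixed_root σ a b T hTts h0T hne hσT
  have := haniso z 1 hz (map_one σ) (by linear_combination hroot)
  exact one_ne_zero this.2

theorem twL_sigma (k : ℕ) (σ : F ≃+* F) (w₁ w₂ : F) (h1 : σ w₁ = w₁) (h2 : σ w₂ = w₂)
    (x : Im k → F) : twL k w₁ w₂ (vs σ x) = vs σ (twL k w₁ w₂ x) := by
  funext i
  rcases i with i | i
  · rfl
  · fin_cases i
    · show twL k w₁ w₂ (vs σ x) (Sum.inr 0) = σ (twL k w₁ w₂ x (Sum.inr 0))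
      rw [twL_zero, twL_zero, map_add, map_mul, h1]
      rfl
    · show twL k w₁ w₂ (vs σ x) (Sum.inr 1) = σ (twL k w₁ w₂ x (Sum.inr 1))
      rw [twL_one, twL_one, map_mul, h2]
      rfl

/-- two elliptic rational forms are similar over the fixed field -/
theorem similar_of_ell [Fintype F] (σ : F ≃+* F) (P P' : QuadraticForm F (Vm m F))
    (hnd' : ∀ v : Vm m F, (∀ w, QuadraticMap.polar P' v w = 0) → v = 0)
    {k : ℕ} (p a b p' a' b' : F) (hp : p ≠ 0) (hp' : p' ≠ 0)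
    (haσ : σ a = a) (hbσ : σ b = b) (ha'σ : σ a' = a') (hb'σ : σ b' = b')
    (haniso : ∀ s u : F, σ s = s → σ u = u → s ^ 2 + a * s * u + b * u ^ 2 = 0 → s = 0 ∧ u = 0)
    (haniso' : ∀ s u : F, σ s = s → σ u = u →
      s ^ 2 + a' * s * u + b' * u ^ 2 = 0 → s = 0 ∧ u = 0)
    (L L' : (Im k → F) ≃ₗ[F] Vm m F)
    (hL1 : ∀ w, P (L w) = p * Cfsg.quadFormMinus k F a b w)
    (hL2 : ∀ w, L (vs σ w) = vs σ (L w))
    (hL1' : ∀ w, P' (L' w) = p' * Cfsg.quadFormMinus k F a' b' w)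
    (hL2' : ∀ w, L' (vs σ w) = vs σ (L' w)) :
    ∃ (a_ : GL (Fin m ⊕ Fin m) F) (d : Fˣ), mapGL σ a_ = a_ ∧
      ∀ w, P ((a_ : Matrix (Fin m ⊕ Fin m) (Fin m ⊕ Fin m) F) *ᵥ w) = (d : F) * P' w := by
  classical
  have : Fintype ↥(fixedSub σ) := Fintype.ofFinite _
  set a₀ : ↥(fixedSub σ) := ⟨a, haσ⟩ with ha₀
  set b₀ : ↥(fixedSub σ) := ⟨b, hbσ⟩ with hb₀
  set a₀' : ↥(fixedSub σ) := ⟨a', ha'σ⟩ with ha₀'
  set b₀' : ↥(fixedSub σ) := ⟨b', hb'σ⟩ with hb₀'
  have hab₀ : ∀ z₁ z₂ : ↥(fixedSub σ), z₁ ^ 2 + a₀ * z₁ * z₂ + b₀ * z₂ ^ 2 = 0 →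
      z₁ = 0 ∧ z₂ = 0 := by
    intro z₁ z₂ h
    have h1 := congrArg Subtype.val h
    have h2 := haniso (z₁ : F) (z₂ : F) z₁.2 z₂.2 (by
      push_cast at h1
      exact h1)
    exact ⟨Subtype.ext h2.1, Subtype.ext h2.2⟩
  have hab₀' : ∀ z₁ z₂ : ↥(fixedSub σ), z₁ ^ 2 + a₀' * z₁ * z₂ + b₀' * z₂ ^ 2 = 0 →
      z₁ = 0 ∧ z₂ = 0 := by
    intro z₁ z₂ h
    have h1 := congrArg Subtype.val h
    have h2 := haniso' (z₁ : F) (z₂ : F) z₁.2 z₂.2 (by
      push_cast at h1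
      exact h1)
    exact ⟨Subtype.ext h2.1, Subtype.ext h2.2⟩
  obtain ⟨w₁, w₂, h1, h2, hw₂⟩ := exists_binary_gram a₀ b₀ a₀' b₀' hab₀ hab₀'
  have h1F : (w₁ : F) ^ 2 + a * (w₁ : F) * (w₂ : F) + b * (w₂ : F) ^ 2 = b' := by
    have := congrArg Subtype.val h1
    push_cast at this
    exact this
  have h2F : 2 * (w₁ : F) + a * (w₂ : F) = a' := by
    have := congrArg Subtype.val h2
    push_cast at this
    exact this
  set tw := twL k (w₁ : F) (w₂ : F) with htwdef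
  have htw : ∀ x, Cfsg.quadFormMinus k F a b (tw x) = Cfsg.quadFormMinus k F a' b' x := by
    intro x
    rw [htwdef, quadFormMinus_twL, h2F, h1F]
  have htwσ : ∀ x, tw (vs σ x) = vs σ (tw x) := twL_sigma k σ _ _ w₁.2 w₂.2
  have hL'symm : ∀ v, L'.symm (vs σ v) = vs σ (L'.symm v) := by
    intro v
    apply L'.injective
    rw [hL2', LinearEquiv.apply_symm_apply, LinearEquiv.apply_symm_apply]
  set amap : Vm m F →ₗ[F] Vm m F :=
    L.toLinearMap.comp (tw.comp L'.symm.toLinearMap) with hamap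
  have hamapv : ∀ v, amap v = L (tw (L'.symm v)) := fun v => rfl
  have hPa : ∀ v, P (amap v) = (p / p') * P' v := by
    intro v
    have h3 := hL1' (L'.symm v)
    rw [LinearEquiv.apply_symm_apply] at h3
    rw [hamapv, hL1, htw, h3]
    field_simp
  have hP'nd := nondeg_bilin_of_forall P' hnd'
  have hd : p / p' ≠ 0 := div_ne_zero hp hp'
  have hunit := isUnit_of_scaling P' P hP'nd amap (p / p') hd hPa
  refine ⟨hunit.unit, Units.mk0 (p / p') hd, ?_, ?_⟩
  · apply mapGL_eq_of_comm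
    intro w
    show vs σ (LinearMap.toMatrix' amap *ᵥ w) = LinearMap.toMatrix' amap *ᵥ vs σ w
    rw [LinearMap.toMatrix'_mulVec, LinearMap.toMatrix'_mulVec, hamapv, hamapv, hL'symm, htwσ, hL2]
  · intro w
    show P (LinearMap.toMatrix' amap *ᵥ w) = _
    rw [LinearMap.toMatrix'_mulVec, hPa, Units.val_mk0]

end Cfsg.Agent.Helper7.PlusF
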