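import Mathlib
import Cfsg.Prelude.Def_LieTypeDatum
import Cfsg.Agent.Helper7.PlusF7
import Cfsg.Agent.Helper7.OutO10

/-!
# Plus-type orthogonal groups: set-up, reflections, the inner-diagonal group (helper7)
-/

set_option autoImplicit false
set_option linter.unusedSectionVars false
set_option linter.unusedVariables false

namespace Cfsg.Agent.Helper7.PlusF

open Module Submodule Matrix Cfsg.Agent.Helper28.QPlus Cfsg.Agent.Helper28.IDP
  Cfsg.Agent.Helper28.Spin Cfsg.Agent.Helper28.PG Cfsg.Agent.Helper28.FO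
  Cfsg.Agent.Helper28.SSim Cfsg.Agent.Helper28.GC Cfsg.Agent.Helper28.Sg

variable {F : Type*} [Field F] {m : ℕ}

/-- the standard frame of the plus-type form -/
noncomputable def frPlus (hm : 3 ≤ m) : Frame3 (QfPlus m F) :=
  frameOf (fun j => Sum.inl (Fin.castLE hm j)) (fun j => Sum.inr (Fin.castLE hm j))
    (by
      intro x y h
      rcases x with x | x <;> rcases y with y | y <;>
        simp only [Sum.elim_inl, Sum.elim_inr, Sum.inl.injEq, Sum.inr.injEq, reduceCtorEq,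
          Fin.castLE_inj] at h
      · rw [h]
      · rw [h])
    (fun j => Cfsg.Agent.S2613.hypPair_plus m _)

theorem hgen_plus [Fintype F] (hm : 5 ≤ m) :
    ∀ (H : Subgroup ↥(Cfsg.isometryGroup F ⇑(QfPlus m F))),
      (∀ (v : Fin m ⊕ Fin m → F) (hv : QfPlus m F v ≠ 0), reflO (QfPlus m F) v hv ∈ H) →
        ∀ g, g ∈ H := by
  classical
  have hQ := QfPlus_nondeg (F := F) m
  have hcardι : Fintype.card (Fin m ⊕ Fin m) = 2 * m := by
    rw [Fintype.card_sum, Fintype.card_fin]; omega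
  by_cases h2 : (2 : F) = 0
  · exact hgen_even h2 hQ (Or.inr (by rw [hcardι]; omega))
  · exact hgen_odd h2 hQ

theorem perf_plus [Fintype F] (hm : 5 ≤ m) : commutator ↥(Cfsg.Omega F ⇑(QfPlus m F)) = ⊤ :=
  Omega_perfect' (QfPlus_nondeg m) (frPlus (by omega)) (hgen_plus hm)

theorem gamma_top_plus [Fintype F] (hm : 5 ≤ m) : Cfsg.gammaPOmega F ⇑(QfPlus m F) = ⊤ := by
  rw [QfPlus_coe]
  exact Cfsg.Agent.Helper7.AutO.gamma_plus hm

/-- the reflection in a non-singular vector as a similarity -/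
noncomputable def rG (v : Vm m F) (hv : Cfsg.quadFormPlus m F v ≠ 0) : ↥(GO (QfPlus m F)) :=
  ⟨((refl v hv : OQ m F) : GL (Fin m ⊕ Fin m) F), O_le_GO (QfPlus m F) (refl v hv).2⟩

theorem gm_rG (v : Vm m F) (hv : Cfsg.quadFormPlus m F v ≠ 0) : gm (rG v hv) = reflM v := rfl

theorem cls_rG (v : Vm m F) (hv : Cfsg.quadFormPlus m F v ≠ 0) : cls (rG v hv) = 1 :=
  chi_refl v hv

theorem rG_mul_self (v : Vm m F) (hv : Cfsg.quadFormPlus m F v ≠ 0) : rG v hv * rG v hv = 1 := by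
  apply Subtype.ext
  apply Units.ext
  exact reflM_sq v hv

theorem Q_vs (σ : F ≃+* F) (v : Vm m F) :
    Cfsg.quadFormPlus m F (vs σ v) = σ (Cfsg.quadFormPlus m F v) := Q_sig σ v

theorem pB_vs (σ : F ≃+* F) (x y : Vm m F) : pB m F (vs σ x) (vs σ y) = σ (pB m F x y) := by
  rw [← polar_QfPlus, ← polar_QfPlus]
  unfold QuadraticMap.polar
  rw [QfPlus_coe, ← vs_add, Q_vs, Q_vs, Q_vs, map_sub, map_sub]

theorem tau_rG (σ : F ≃+* F) (v : Vm m F) (hv : Cfsg.quadFormPlus m F v ≠ 0) (hvσ : vs σ v = v) :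
    tauGO (isStd_plus m) σ (rG v hv) = rG v hv := by
  apply Subtype.ext
  rw [tauGO_coe]
  apply mapGL_eq_of_comm
  intro w
  show vs σ (reflM v *ᵥ w) = reflM v *ᵥ vs σ w
  rw [reflM_mulVec, reflM_mulVec]
  have h1 : vs σ (w - ((Cfsg.quadFormPlus m F v)⁻¹ * pB m F w v) • v) =
      vs σ w - σ ((Cfsg.quadFormPlus m F v)⁻¹ * pB m F w v) • vs σ v := by
    rw [sub_eq_add_neg, vs_add, ← neg_smul, vs_smul, map_neg, neg_smul, ← sub_eq_add_neg]
  rw [h1, map_mul, map_inv₀, ← Q_vs, ← pB_vs, hvσ]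

/-- the reflection matrix of the prelude is the reflection matrix of the library -/
theorem reflectionMatrix_eq (v : Vm m F) (hv : Cfsg.quadFormPlus m F v ≠ 0) :
    Cfsg.reflectionMatrix (Cfsg.quadFormPlus m F) v = reflM v := by
  have h := refl_eq_reflO v hv
  have h2 := congrArg (fun x : OQ m F => ((x : GL (Fin m ⊕ Fin m) F) :
    Matrix (Fin m ⊕ Fin m) (Fin m ⊕ Fin m) F)) h
  exact h2.symm

/-- the inner-diagonal group in every characteristic -/
theorem inndiag_eq' : Cfsg.inndiagPOmegaPlus m F =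
    (clsHom (F := F) (m := m)).ker.map (cG (QfPlus m F)) := by
  unfold Cfsg.inndiagPOmegaPlus Cfsg.autSubgroupOf
  have : {β : MulAut (Cfsg.POmega F (Cfsg.quadFormPlus m F)) |
      Cfsg.IsInnerDiagonalAutPOmegaPlus m β} =
      (((clsHom (F := F) (m := m)).ker.map (cG (QfPlus m F)) :
        Subgroup (MulAut (Cfsg.POmega F (Cfsg.quadFormPlus m F)))) : Set _) := by
    ext β
    constructor
    · rintro ⟨g, hg, hpsc, hβ⟩
      refine ⟨⟨g, hg⟩, ?_, ((induced_iff (QfPlus m F) g hg β).1 hβ).symm⟩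
      rw [SetLike.mem_coe, mem_ker_clsHom, ← psc_iff_cls]
      exact hpsc
    · rintro ⟨g, hg, rfl⟩
      exact ⟨g.1, g.2, (psc_iff_cls g).2 ((mem_ker_clsHom g).1 hg),
        (induced_iff (QfPlus m F) g.1 g.2 _).2 rfl⟩
  rw [this]
  exact Subgroup.closure_eq _

theorem cG_mem_inndiag (g : ↥(GO (QfPlus m F))) (hg : cls g = 0) :
    cG (QfPlus m F) g ∈ Cfsg.inndiagPOmegaPlus m F := by
  rw [inndiag_eq']
  exact ⟨g, (mem_ker_clsHom g).2 hg, rfl⟩

theorem exists_of_mem_inndiag' (β : MulAut (Cfsg.POmega F (Cfsg.quadFormPlus m F)))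
    (hβ : β ∈ Cfsg.inndiagPOmegaPlus m F) :
    ∃ g : ↥(GO (QfPlus m F)), cls g = 0 ∧ cG (QfPlus m F) g = β := by
  rw [inndiag_eq'] at hβ
  obtain ⟨g, hg, rfl⟩ := hβ
  exact ⟨g, (mem_ker_clsHom g).1 hg, rfl⟩

/-- a semisimilarity of the standard form has a similarity as linear part -/
theorem mem_GO_of_semisim {g : GL (Fin m ⊕ Fin m) F} {σ : F ≃+* F}
    (hp : Cfsg.IsSemisimilarityPair (⇑(QfPlus m F)) g σ) : g ∈ GO (QfPlus m F) := by
  obtain ⟨c, hc⟩ := hp
  refine ⟨c, fun v => ?_⟩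
  have h1 := hc (vs σ.symm v)
  have h2 : (fun i => σ (vs σ.symm v i)) = v := vs_symm σ v
  rw [h2] at h1
  rw [h1, ← isStd_plus m σ (vs σ.symm v), h2]

/-- the class character is invariant under conjugation by semisimilarities -/
theorem cls_conjSemi {g : GL (Fin m ⊕ Fin m) F} {σ : F ≃+* F}
    (hp : Cfsg.IsSemisimilarityPair (⇑(QfPlus m F)) g σ) (h : ↥(GO (QfPlus m F))) :
    cls (Cfsg.Agent.Helper7.OutO.conjSemi (QfPlus m F) hp h) = cls h := by
  set gG : ↥(GO (QfPlus m F)) := ⟨g, mem_GO_of_semisim hp⟩ with hgG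
  have h1 : Cfsg.Agent.Helper7.OutO.conjSemi (QfPlus m F) hp h =
      gG * tauGO (isStd_plus m) σ h * gG⁻¹ := by
    apply Subtype.ext
    rfl
  rw [h1, cls_mul, cls_mul, cls_tau, cls_inv]
  have e : ∀ a b : ZMod 2, a + b + a = b := by decide
  exact e _ _

/-- conjugates of class-preserving similarities -/
theorem conj_cls_zero [Fintype F] (hm : 5 ≤ m) (α : MulAut (Cfsg.POmega F ⇑(QfPlus m F)))
    (h : ↥(GO (QfPlus m F))) (hh : cls h = 0) :
    ∃ h' : ↥(GO (QfPlus m F)), cls h' = 0 ∧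
      α * cG (QfPlus m F) h * α⁻¹ = cG (QfPlus m F) h' := by
  have hα : α ∈ Cfsg.gammaPOmega F ⇑(QfPlus m F) := by
    rw [gamma_top_plus hm]
    exact Subgroup.mem_top α
  obtain ⟨g, σ, hp, hind⟩ := exists_of_mem_gamma (⇑(QfPlus m F)) α hα
  have hαeq : α = autOf (⇑(QfPlus m F)) hp := eq_autOf (⇑(QfPlus m F)) hp hind
  have h1 := Cfsg.Agent.Helper7.OutO.conj_cG (QfPlus m F) hp h
  rw [← hαeq] at h1
  exact ⟨_, by rw [cls_conjSemi, hh], h1⟩

/-- the inner-diagonal group is normal in the automorphism group -/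
theorem inndiag_normal [Fintype F] (hm : 5 ≤ m) : (Cfsg.inndiagPOmegaPlus m F).Normal := by
  constructor
  intro δ hδ α
  obtain ⟨h, hh, rfl⟩ := exists_of_mem_inndiag' δ hδ
  obtain ⟨h', hh', e⟩ := conj_cls_zero hm α h hh
  have h2 := cG_mem_inndiag h' hh'
  rw [← e] at h2
  exact h2

end Cfsg.Agent.Helper7.PlusF
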