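import Mathlib
import Cfsg.Prelude.Def_LieTypeDatum
import Cfsg.Agent.Helper7.PlusF8
import Cfsg.Agent.Helper7.FieldPSL6

/-!
# Plus-type orthogonal groups: the Lang-type theorem for cosets of field and graph-field
automorphisms (helper7)
-/

set_option autoImplicit false
set_option linter.unusedSectionVars false
set_option linter.unusedVariables false

namespace Cfsg.Agent.Helper7.PlusF

open Module Submodule Matrix Cfsg.Agent.Helper28.QPlus Cfsg.Agent.Helper28.IDP
  Cfsg.Agent.Helper28.Spin Cfsg.Agent.Helper28.PG Cfsg.Agent.Helper28.FO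
  Cfsg.Agent.Helper28.SSim Cfsg.Agent.Helper28.GC Cfsg.Agent.Helper28.Sg
open Cfsg.Agent.Helper7.FieldPSL (orderOf_pos_ringAut orderOf_conj' isConjUnder_conj_iff)

variable {F : Type*} [Field F] [Fintype F] {m : ℕ}

/-- **the Lang-type theorem for the plus-type similarity group**: two elements of the coset of a
standard field automorphism whose `|σ|`-th powers are trivial and whose linear parts have the
same class are conjugate under the similarity group -/
theorem lang_plus (hm : 5 ≤ m) (σ : F ≃+* F) (g g' : ↥(GO (QfPlus m F)))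
    (h : (cG (QfPlus m F) g * phiO (isStd_plus m) σ) ^ orderOf σ = 1)
    (h' : (cG (QfPlus m F) g' * phiO (isStd_plus m) σ) ^ orderOf σ = 1)
    (hcls : cls g = cls g') :
    ∃ B : ↥(GO (QfPlus m F)), cG (QfPlus m F) g * phiO (isStd_plus m) σ =
      cG (QfPlus m F) B * (cG (QfPlus m F) g' * phiO (isStd_plus m) σ) *
        (cG (QfPlus m F) B)⁻¹ := by
  have hQ := QfPlus_nondeg (F := F) m
  have hm3 : 3 ≤ m := by omega
  obtain ⟨A, ν, κ, hL⟩ := exists_lang_data hQ (frPlus hm3) (perf_plus hm) (isStd_plus m) σ g h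
  obtain ⟨A', ν', κ', hL'⟩ :=
    exists_lang_data hQ (frPlus hm3) (perf_plus hm) (isStd_plus m) σ g' h'
  have hfr := exists_frame σ (langForm (QfPlus m F) A κ) (langForm_sigma hL) (lang_nondeg A κ)
  have hfr' := exists_frame σ (langForm (QfPlus m F) A' κ') (langForm_sigma hL')
    (lang_nondeg A' κ')
  have hfin : ∃ (a_ : GL (Fin m ⊕ Fin m) F) (d : Fˣ), mapGL σ a_ = a_ ∧
      ∀ w, langForm (QfPlus m F) A κ
        ((a_ : Matrix (Fin m ⊕ Fin m) (Fin m ⊕ Fin m) F) *ᵥ w) =
          (d : F) * langForm (QfPlus m F) A' κ' w := by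
    rcases hfr with ⟨a, ha, haP⟩ | ⟨k, hk, p, a, b, L, hp, hpσ, haσ, hbσ, haniso, hL1, hL2⟩
    · rcases hfr' with ⟨a', ha', haP'⟩ |
        ⟨k', hk', p', a', b', L', hp', hpσ', haσ', hbσ', haniso', hL1', hL2'⟩
      · refine ⟨a * a'⁻¹, 1, ?_, fun w => ?_⟩
        · rw [map_mul, map_inv, ha, ha']
        · rw [Units.val_mul, ← Matrix.mulVec_mulVec, haP, Units.val_one, one_mul]
          have h1 := haP' (((a'⁻¹ : GL (Fin m ⊕ Fin m) F) :
            Matrix (Fin m ⊕ Fin m) (Fin m ⊕ Fin m) F) *ᵥ w)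
          rw [mulVec_inv_mulVec] at h1
          exact h1.symm
      · exfalso
        have h1 := cls_of_hyp σ hL a ha haP
        have h2 := cls_of_ell σ hL' hk' p' a' b' hp' L' haniso' hL1' hL2'
        rw [h1, h2] at hcls
        exact absurd hcls (by decide)
    · rcases hfr' with ⟨a', ha', haP'⟩ |
        ⟨k', hk', p', a', b', L', hp', hpσ', haσ', hbσ', haniso', hL1', hL2'⟩
      · exfalso
        have h1 := cls_of_ell σ hL hk p a b hp L haniso hL1 hL2
        have h2 := cls_of_hyp σ hL' a' ha' haP'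
        rw [h1, h2] at hcls
        exact absurd hcls (by decide)
      · obtain rfl : k = k' := by omega
        exact similar_of_ell σ _ _ (lang_nondeg A' κ') p a b p' a' b' hp hp' haσ hbσ haσ' hbσ'
          haniso haniso' L L' hL1 hL2 hL1' hL2'
  obtain ⟨a_, d, ha_, had⟩ := hfin
  obtain ⟨B, -, -, hB⟩ := conj_of_lang_data (isStd_plus m) σ hL hL' a_ ha_ d had
  exact ⟨B, hB⟩

/-- the homomorphism to the field automorphisms kills the similarity part -/
theorem theta_cG_phiO (hm : 5 ≤ m) (σ : F ≃+* F) (g : ↥(GO (QfPlus m F))) :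
    Cfsg.Agent.Helper7.OutO.thetaAut (QfPlus_nondeg m) (frPlus (by omega)) (perf_plus hm)
      (gamma_top_plus hm) (cG (QfPlus m F) g * phiO (isStd_plus m) σ) = σ := by
  rw [map_mul]
  have h1 : Cfsg.Agent.Helper7.OutO.thetaAut (QfPlus_nondeg m) (frPlus (by omega)) (perf_plus hm)
      (gamma_top_plus hm) (cG (QfPlus m F) g) = 1 :=
    Cfsg.Agent.Helper7.OutO.thetaAut_eq (QfPlus_nondeg m) (frPlus (by omega)) (perf_plus hm)
      (gamma_top_plus hm) (semisim_GO g) (induced_cG g)
  have h2 : Cfsg.Agent.Helper7.OutO.thetaAut (QfPlus_nondeg m) (frPlus (by omega)) (perf_plus hm)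
      (gamma_top_plus hm) (phiO (isStd_plus m) σ) = σ :=
    Cfsg.Agent.Helper7.OutO.thetaAut_eq (QfPlus_nondeg m) (frPlus (by omega)) (perf_plus hm)
      (gamma_top_plus hm) (semisim_std (isStd_plus m) σ) (induced_phiO (isStd_plus m) σ)
  rw [h1, h2, one_mul]

/-- an element of prime order `r` in the coset of `phiO σ` forces `|σ| = r` -/
theorem orderOf_sigma_eq (hm : 5 ≤ m) (σ : F ≃+* F) (hσ1 : σ ≠ RingEquiv.refl F)
    (g : ↥(GO (QfPlus m F))) {r : ℕ} (hr : r.Prime)
    (h : orderOf (cG (QfPlus m F) g * phiO (isStd_plus m) σ) = r) : orderOf σ = r := by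
  have h1 : (cG (QfPlus m F) g * phiO (isStd_plus m) σ) ^ r = 1 := by
    rw [← h]
    exact pow_orderOf_eq_one _
  have h2 := congrArg (Cfsg.Agent.Helper7.OutO.thetaAut (QfPlus_nondeg m) (frPlus (by omega))
    (perf_plus hm) (gamma_top_plus hm)) h1
  rw [map_pow, theta_cG_phiO hm σ g, map_one] at h2
  have h3 : orderOf σ ∣ r := orderOf_dvd_of_pow_eq_one h2
  rcases (Nat.dvd_prime hr).1 h3 with h4 | h4
  · exfalso
    apply hσ1
    exact orderOf_eq_one_iff.1 h4
  · exact h4

/-- **the core statement**: conjugacy inside the coset of a twisted field automorphism -/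
theorem coset_core (hm : 5 ≤ m) (σ : F ≃+* F) (hσ1 : σ ≠ RingEquiv.refl F)
    (c e : ↥(GO (QfPlus m F))) (hce : cls e = 1)
    (hcomm : cG (QfPlus m F) e * (cG (QfPlus m F) c * phiO (isStd_plus m) σ) =
      (cG (QfPlus m F) c * phiO (isStd_plus m) σ) * cG (QfPlus m F) e)
    (g : ↥(GO (QfPlus m F))) (hg : cls g = 0) {r : ℕ} (hr : r.Prime)
    (hx : orderOf (cG (QfPlus m F) c * phiO (isStd_plus m) σ) = r)
    (hy : orderOf (cG (QfPlus m F) g * (cG (QfPlus m F) c * phiO (isStd_plus m) σ)) = r) :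
    ∃ B : ↥(GO (QfPlus m F)), cls B = 0 ∧
      cG (QfPlus m F) g * (cG (QfPlus m F) c * phiO (isStd_plus m) σ) =
        cG (QfPlus m F) B * (cG (QfPlus m F) c * phiO (isStd_plus m) σ) *
          (cG (QfPlus m F) B)⁻¹ := by
  have hσr := orderOf_sigma_eq hm σ hσ1 c hr hx
  have hy' : cG (QfPlus m F) g * (cG (QfPlus m F) c * phiO (isStd_plus m) σ) =
      cG (QfPlus m F) (g * c) * phiO (isStd_plus m) σ := by
    rw [map_mul, mul_assoc]
  have h1 : (cG (QfPlus m F) c * phiO (isStd_plus m) σ) ^ orderOf σ = 1 := by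
    rw [hσr, ← hx]
    exact pow_orderOf_eq_one _
  have h2 : (cG (QfPlus m F) (g * c) * phiO (isStd_plus m) σ) ^ orderOf σ = 1 := by
    rw [← hy', hσr, ← hy]
    exact pow_orderOf_eq_one _
  have hcls : cls (g * c) = cls c := by
    rw [cls_mul, hg, zero_add]
  obtain ⟨B, hB⟩ := lang_plus hm σ (g * c) c h2 h1 hcls
  rw [← hy'] at hB
  by_cases hB0 : cls B = 0
  · exact ⟨B, hB0, hB⟩
  · have hB1 : cls B = 1 := by
      have e' : ∀ a : ZMod 2, a ≠ 0 → a = 1 := by decide
      exact e' _ hB0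
    refine ⟨B * e, ?_, ?_⟩
    · rw [cls_mul, hB1, hce]
      decide
    · rw [hB, map_mul, _root_.mul_inv_rev]
      have h3 : cG (QfPlus m F) B * cG (QfPlus m F) e *
          (cG (QfPlus m F) c * phiO (isStd_plus m) σ) *
          ((cG (QfPlus m F) e)⁻¹ * (cG (QfPlus m F) B)⁻¹) =
          cG (QfPlus m F) B * (cG (QfPlus m F) e *
          (cG (QfPlus m F) c * phiO (isStd_plus m) σ)) *
          (cG (QfPlus m F) e)⁻¹ * (cG (QfPlus m F) B)⁻¹ := by group
      rw [h3, hcomm]
      group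

end Cfsg.Agent.Helper7.PlusF
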