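import Mathlib
import Cfsg.Prelude.Def_LieTypeDatum
import Cfsg.Agent.Helper7.PlusF9

/-!
# Plus-type orthogonal groups: coset conjugacy for field and graph-field automorphisms of prime
order (helper7)
-/

set_option autoImplicit false
set_option linter.unusedSectionVars false
set_option linter.unusedVariables false

namespace Cfsg.Agent.Helper7.PlusF

open Module Submodule Matrix Cfsg.Agent.Helper28.QPlus Cfsg.Agent.Helper28.IDP
  Cfsg.Agent.Helper28.Spin Cfsg.Agent.Helper28.PG Cfsg.Agent.Helper28.FO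
  Cfsg.Agent.Helper28.SSim Cfsg.Agent.Helper28.GC Cfsg.Agent.Helper28.Sg
open Cfsg.Agent.Helper7.FieldPSL (orderOf_pos_ringAut orderOf_conj' isConjUnder_conj_iff)

variable {F : Type*} [Field F] {m : ℕ}

/-- a non-singular vector with entries in the prime field -/
def v1 (hm : 1 ≤ m) : Vm m F := fun s =>
  if s = Sum.inl ⟨0, hm⟩ ∨ s = Sum.inr ⟨0, hm⟩ then 1 else 0

theorem Q_v1 (hm : 1 ≤ m) : Cfsg.quadFormPlus m F (v1 hm) = 1 := by
  unfold Cfsg.quadFormPlus v1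
  simp only [Sum.inl.injEq, reduceCtorEq, or_false, Sum.inr.injEq, false_or, ite_mul, one_mul,
    zero_mul]
  simp

theorem vs_v1 (hm : 1 ≤ m) (σ : F ≃+* F) : vs σ (v1 hm) = v1 (F := F) hm := by
  funext s
  unfold vs v1
  split_ifs
  · exact map_one σ
  · exact map_zero σ

/-- the inner-diagonal group as a subgroup of the automorphism group of `PΩ(QfPlus)` -/
abbrev innD (m : ℕ) (F : Type*) [Field F] : Subgroup (MulAut (Cfsg.POmega F ⇑(QfPlus m F))) :=
  Cfsg.inndiagPOmegaPlus m F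

theorem comm_of_tau (σ : F ≃+* F) (e : ↥(GO (QfPlus m F)))
    (he : tauGO (isStd_plus m) σ e = e) :
    cG (QfPlus m F) e * phiO (isStd_plus m) σ = phiO (isStd_plus m) σ * cG (QfPlus m F) e := by
  rw [phiO_cG, he]

/-- normal form of a field or graph-field automorphism -/
theorem exists_normal_form (hm : 5 ≤ m) (x : MulAut (Cfsg.POmega F ⇑(QfPlus m F)))
    (hx : Cfsg.IsFieldAutClassPOmega (⇑(QfPlus m F)) x ∨ Cfsg.IsGraphFieldAutClassPOmegaPlus m x) :
    ∃ (α : MulAut (Cfsg.POmega F ⇑(QfPlus m F))) (σ : F ≃+* F) (c e : ↥(GO (QfPlus m F))),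
      σ ≠ RingEquiv.refl F ∧ cls e = 1 ∧
      cG (QfPlus m F) e * (cG (QfPlus m F) c * phiO (isStd_plus m) σ) =
        (cG (QfPlus m F) c * phiO (isStd_plus m) σ) * cG (QfPlus m F) e ∧
      α * x * α⁻¹ = cG (QfPlus m F) c * phiO (isStd_plus m) σ := by
  have hx' : Cfsg.IsFieldAutClassPOmega (⇑(QfPlus m F)) x ∨
      ∃ (α γ φ : MulAut (Cfsg.POmega F ⇑(QfPlus m F))) (σ : F ≃+* F) (v : Fin m ⊕ Fin m → F)
        (r : GL (Fin m ⊕ Fin m) F),
      σ ≠ RingEquiv.refl F ∧ Cfsg.quadFormPlus m F v ≠ 0 ∧ (∀ i, σ (v i) = v i) ∧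
      (r : Matrix (Fin m ⊕ Fin m) (Fin m ⊕ Fin m) F) =
        Cfsg.reflectionMatrix (Cfsg.quadFormPlus m F) v ∧
      Cfsg.IsInducedBySemilinearPOmega (⇑(QfPlus m F)) r (RingEquiv.refl F) γ ∧
      Cfsg.IsFieldAutPOmegaOf (⇑(QfPlus m F)) σ φ ∧ α * x * α⁻¹ = γ * φ := hx
  rcases hx' with ⟨α, φ, σ, hσ1, hφ, hα⟩ | ⟨α, γ, φ, σ, v, rr, hσ1, hv, hvσ, hrr, hγ, hφ, hα⟩
  · have hφ' : φ = phiO (isStd_plus m) σ := (isFieldAut_iff (isStd_plus m) σ φ).1 hφ
    have hm1 : 1 ≤ m := by omega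
    have hv1 : Cfsg.quadFormPlus m F (v1 hm1) ≠ 0 := by
      rw [Q_v1]
      exact one_ne_zero
    refine ⟨α, σ, 1, rG (v1 hm1) hv1, hσ1, cls_rG _ _, ?_, ?_⟩
    · rw [map_one, one_mul]
      exact comm_of_tau σ _ (tau_rG σ _ hv1 (vs_v1 hm1 σ))
    · rw [map_one, one_mul, hα, hφ']
  · have hφ' : φ = phiO (isStd_plus m) σ := (isFieldAut_iff (isStd_plus m) σ φ).1 hφ
    have hvσ' : vs σ v = v := funext hvσ
    have hrr' : rr = ((rG v hv : ↥(GO (QfPlus m F))) : GL (Fin m ⊕ Fin m) F) := by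
      apply Units.ext
      rw [hrr, reflectionMatrix_eq v hv]
      rfl
    have hγ' : γ = cG (QfPlus m F) (rG v hv) := by
      rw [hrr'] at hγ
      exact (induced_iff (QfPlus m F) _ (rG v hv).2 γ).1 hγ
    refine ⟨α, σ, rG v hv, rG v hv, hσ1, cls_rG _ _, ?_, ?_⟩
    · rw [mul_assoc, comm_of_tau σ _ (tau_rG σ v hv hvσ')]
    · rw [hα, hγ', hφ']

/-- **coset conjugacy for field and graph-field automorphisms of prime order of `PΩ⁺_{2m}(q)`**,
form version -/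
theorem coset_conj_plus' [Fintype F] (hm : 5 ≤ m) (x δ : MulAut (Cfsg.POmega F ⇑(QfPlus m F)))
    (hx : Cfsg.IsFieldAutClassPOmega (⇑(QfPlus m F)) x ∨ Cfsg.IsGraphFieldAutClassPOmegaPlus m x)
    {r : ℕ} (hr : r.Prime) (hxr : orderOf x = r) (hδ : δ ∈ innD m F) :
    orderOf (δ * x) = r ↔ Cfsg.IsConjUnder (innD m F) x (δ * x) := by
  constructor
  · intro hord
    have hDn : (innD m F).Normal := inndiag_normal hm
    obtain ⟨α, σ, c, e, hσ1, hce, hcomm, hα⟩ := exists_normal_form hm x hx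
    obtain ⟨g₀, hg₀, rfl⟩ := exists_of_mem_inndiag' δ hδ
    obtain ⟨g, hg, hconj⟩ := conj_cls_zero hm α g₀ hg₀
    have h3 : α * (cG (QfPlus m F) g₀ * x) * α⁻¹ =
        cG (QfPlus m F) g * (cG (QfPlus m F) c * phiO (isStd_plus m) σ) := by
      rw [← hconj, ← hα]
      group
    have hx' : orderOf (cG (QfPlus m F) c * phiO (isStd_plus m) σ) = r := by
      rw [← hα, orderOf_conj', hxr]
    have hy' : orderOf (cG (QfPlus m F) g * (cG (QfPlus m F) c * phiO (isStd_plus m) σ)) = r := by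
      rw [← h3, orderOf_conj', hord]
    obtain ⟨B, hB0, hB⟩ := coset_core hm σ hσ1 c e hce hcomm g hg hr hx' hy'
    rw [← isConjUnder_conj_iff (innD m F) α, h3, hα]
    exact ⟨cG (QfPlus m F) B, cG_mem_inndiag B hB0, hB⟩
  · rintro ⟨h, hh, e⟩
    rw [e, orderOf_conj', hxr]

/-- **coset conjugacy for field and graph-field automorphisms of prime order of `PΩ⁺_{2m}(q)`** -/
theorem coset_conj_plus [Fintype F] (hm : 5 ≤ m)
    (x δ : MulAut (Cfsg.POmega F (Cfsg.quadFormPlus m F)))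
    (hx : Cfsg.IsFieldAutClassPOmega (Cfsg.quadFormPlus m F) x ∨
      Cfsg.IsGraphFieldAutClassPOmegaPlus m x)
    {r : ℕ} (hr : r.Prime) (hxr : orderOf x = r) (hδ : δ ∈ Cfsg.inndiagPOmegaPlus m F) :
    orderOf (δ * x) = r ↔ Cfsg.IsConjUnder (Cfsg.inndiagPOmegaPlus m F) x (δ * x) :=
  coset_conj_plus' hm x δ hx hr hxr hδ

end Cfsg.Agent.Helper7.PlusF
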