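import Mathlib
import Cfsg.Prelude.Def_LieTypeDatum
import Cfsg.Agent.Helper7.PlusF10

/-!
# Plus-type orthogonal groups: involutory graph-field automorphisms, part 1 (helper7)

Normal forms of automorphisms, the degree of the field is even, and all involutory graph-field
automorphisms are conjugate under the inner-diagonal group.
-/

set_option autoImplicit false
set_option linter.unusedSectionVars false
set_option linter.unusedVariables false

namespace Cfsg.Agent.Helper7.PlusG

open Module Submodule Matrix Cfsg.Agent.Helper28.QPlus Cfsg.Agent.Helper28.IDP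
  Cfsg.Agent.Helper28.Spin Cfsg.Agent.Helper28.PG Cfsg.Agent.Helper28.FO
  Cfsg.Agent.Helper28.SSim Cfsg.Agent.Helper28.GC Cfsg.Agent.Helper28.Sg
  Cfsg.Agent.Helper7.PlusF
open Cfsg.Agent.Helper7.FieldPSL (orderOf_pos_ringAut orderOf_conj' isConjUnder_conj_iff)

variable {F : Type*} [Field F] {m : ℕ}

/-- the automorphism group of a finite field is cyclic -/
theorem isCyclic_ringAut' [Finite F] : IsCyclic (F ≃+* F) := by
  have hp : (ringChar F).Prime := CharP.char_is_prime F (ringChar F)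
  have : Fact (ringChar F).Prime := ⟨hp⟩
  let _ : Algebra (ZMod (ringChar F)) F := ZMod.algebra F (ringChar F)
  let f : (F ≃ₐ[ZMod (ringChar F)] F) →* (F ≃+* F) :=
    { toFun := fun g => g.toRingEquiv, map_one' := rfl, map_mul' := fun _ _ => rfl }
  have hf : Function.Surjective f := fun σ =>
    ⟨AlgEquiv.ofRingEquiv (f := σ) (fun x => by
      have : (σ : F →+* F).comp (algebraMap (ZMod (ringChar F)) F) =
          algebraMap (ZMod (ringChar F)) F := Subsingleton.elim _ _
      exact RingHom.congr_fun this x), by ext x; rfl⟩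
  exact isCyclic_of_surjective f hf

theorem ringAut_comm [Finite F] (σ τ : F ≃+* F) : σ * τ = τ * σ := by
  have := isCyclic_ringAut' (F := F)
  have hc : ∀ a b : F ≃+* F, a * b = b * a := by
    obtain ⟨g, hg⟩ := IsCyclic.exists_generator (α := F ≃+* F)
    intro a b
    obtain ⟨i, rfl⟩ := Subgroup.mem_zpowers_iff.1 (hg a)
    obtain ⟨j, rfl⟩ := Subgroup.mem_zpowers_iff.1 (hg b)
    rw [← _root_.zpow_add, ← _root_.zpow_add, add_comm]
  exact hc σ τ

/-- an involution of the automorphism group of a finite field is unique -/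
theorem ringAut_invol_unique [Finite F] (σ σ' : F ≃+* F) (h : orderOf σ = 2) (h' : orderOf σ' = 2) :
    σ = σ' := by
  have := isCyclic_ringAut' (F := F)
  obtain ⟨g, hg⟩ := IsCyclic.exists_generator (α := F ≃+* F)
  have := Cfsg.Agent.Helper7.FieldPSL.finite_ringAut (F := F)
  have hgn : 0 < orderOf g := orderOf_pos_ringAut g
  -- an element of order two in a cyclic group is the half power of the generator
  have key : ∀ s : F ≃+* F, orderOf s = 2 → s = g ^ (orderOf g / 2) := by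
    intro s hs
    obtain ⟨i, rfl⟩ := Subgroup.mem_zpowers_iff.1 (hg s)
    have h1 : (g ^ i) ^ 2 = 1 := by
      rw [← hs]
      exact pow_orderOf_eq_one _
    have h2 : g ^ i ≠ 1 := by
      intro h0
      rw [h0, orderOf_one] at hs
      omega
    rw [← zpow_natCast, ← _root_.zpow_mul] at h1
    have h3 : (orderOf g : ℤ) ∣ i * ((2 : ℕ) : ℤ) := (orderOf_dvd_iff_zpow_eq_one).2 h1
    have h4 : ¬ (orderOf g : ℤ) ∣ i := fun hd => h2 ((orderOf_dvd_iff_zpow_eq_one).1 hd)
    obtain ⟨t, ht⟩ := h3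
    -- `i * 2 = n * t`; `t` is odd
    have htodd : ¬ (2 : ℤ) ∣ t := by
      rintro ⟨u, rfl⟩
      apply h4
      refine ⟨u, ?_⟩
      push_cast at ht
      linarith
    have hneven : (2 : ℤ) ∣ (orderOf g : ℤ) := by
      have h5 : (2 : ℤ) ∣ (orderOf g : ℤ) * t := ⟨i, by push_cast at ht; linarith⟩
      rcases (Int.prime_two.dvd_or_dvd h5) with h6 | h6
      · exact h6
      · exact absurd h6 htodd
    obtain ⟨n', hn'⟩ := hneven
    have hn2 : orderOf g / 2 = n'.toNat := by
      have h7 : 0 ≤ n' := by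
        have : (0 : ℤ) < orderOf g := by exact_mod_cast hgn
        omega
      have h8 : (orderOf g : ℤ) = 2 * (n'.toNat : ℤ) := by
        rw [Int.toNat_of_nonneg h7]
        exact hn'
      have h9 : orderOf g = 2 * n'.toNat := by exact_mod_cast h8
      omega
    have h7 : 0 ≤ n' := by
      have : (0 : ℤ) < orderOf g := by exact_mod_cast hgn
      omega
    have hi : i = n' * t := by
      push_cast at ht
      rw [hn'] at ht
      have : i * 2 = (n' * t) * 2 := by linarith
      exact mul_right_cancel₀ (by norm_num) this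
    obtain ⟨u, hu⟩ : ∃ u : ℤ, t = 2 * u + 1 := by
      have := Int.emod_two_eq_zero_or_one t
      rcases this with h0 | h1'
      · exact absurd (Int.dvd_of_emod_eq_zero h0) htodd
      · exact ⟨t / 2, by omega⟩
    rw [hn2, hi, hu]
    have h10 : n' * (2 * u + 1) = (orderOf g : ℤ) * u + n' := by
      rw [hn']
      ring
    rw [h10, _root_.zpow_add, _root_.zpow_mul, zpow_natCast, pow_orderOf_eq_one, _root_.one_zpow, one_mul,
      ← zpow_natCast, Int.toNat_of_nonneg h7]
  rw [key σ h, key σ' h']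

variable [Fintype F]

/-- every automorphism is a similarity followed by a standard field automorphism -/
theorem aut_decomp (hm : 5 ≤ m) (α : MulAut (Cfsg.POmega F ⇑(QfPlus m F))) :
    ∃ (a : ↥(GO (QfPlus m F))) (τ : F ≃+* F),
      α = cG (QfPlus m F) a * phiO (isStd_plus m) τ := by
  have hα : α ∈ Cfsg.gammaPOmega F ⇑(QfPlus m F) := by
    rw [gamma_top_plus hm]
    exact Subgroup.mem_top α
  obtain ⟨g, τ, hp, hind⟩ := exists_of_mem_gamma (⇑(QfPlus m F)) α hα
  set a : ↥(GO (QfPlus m F)) := ⟨g, mem_GO_of_semisim hp⟩ with ha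
  refine ⟨a, τ, ?_⟩
  have h1 := induced_mul (⇑(QfPlus m F)) (semisim_GO a) (semisim_std (isStd_plus m) τ)
    (induced_cG a) (induced_phiO (isStd_plus m) τ)
  have e : τ.trans (RingEquiv.refl F) = τ := by
    ext x
    rfl
  rw [map_one, mul_one, e] at h1
  exact induced_unique hp hind h1

theorem phiO_comm (σ τ : F ≃+* F) :
    phiO (isStd_plus m) τ * phiO (isStd_plus (F := F) m) σ =
      phiO (isStd_plus m) σ * phiO (isStd_plus m) τ := by
  rw [← phiO_mul, ← phiO_mul]
  have h := ringAut_comm σ τ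
  have e1 : (σ * τ : F ≃+* F) = τ.trans σ := rfl
  have e2 : (τ * σ : F ≃+* F) = σ.trans τ := rfl
  congr 1
  exact h.symm

/-- conjugation by an arbitrary automorphism preserves the coset of a standard field automorphism
and the class of the linear part -/
theorem conj_coset (hm : 5 ≤ m) (α : MulAut (Cfsg.POmega F ⇑(QfPlus m F)))
    (h : ↥(GO (QfPlus m F))) (σ : F ≃+* F) :
    ∃ h' : ↥(GO (QfPlus m F)), cls h' = cls h ∧
      α * (cG (QfPlus m F) h * phiO (isStd_plus m) σ) * α⁻¹ =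
        cG (QfPlus m F) h' * phiO (isStd_plus m) σ := by
  obtain ⟨a, τ, rfl⟩ := aut_decomp hm α
  refine ⟨a * tauGO (isStd_plus m) τ h * (tauGO (isStd_plus m) σ a)⁻¹, ?_, ?_⟩
  · rw [cls_mul, cls_mul, cls_inv, cls_tau, cls_tau]
    have e : ∀ x y : ZMod 2, x + y + x = y := by decide
    exact e _ _
  · have h1 : phiO (isStd_plus m) τ * cG (QfPlus m F) h =
        cG (QfPlus m F) (tauGO (isStd_plus m) τ h) * phiO (isStd_plus m) τ := phiO_cG _ τ h
    have h2 : phiO (isStd_plus m) σ * (cG (QfPlus m F) a)⁻¹ =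
        (cG (QfPlus m F) (tauGO (isStd_plus m) σ a))⁻¹ * phiO (isStd_plus m) σ := by
      rw [eq_inv_mul_iff_mul_eq, ← mul_assoc, ← phiO_cG, mul_assoc, mul_inv_cancel, mul_one]
    have h3 := phiO_comm (m := m) σ τ
    rw [map_mul, map_mul, map_inv, _root_.mul_inv_rev]
    calc cG (QfPlus m F) a * phiO (isStd_plus m) τ *
          (cG (QfPlus m F) h * phiO (isStd_plus m) σ) *
          ((phiO (isStd_plus m) τ)⁻¹ * (cG (QfPlus m F) a)⁻¹)
        = cG (QfPlus m F) a * (phiO (isStd_plus m) τ * cG (QfPlus m F) h) *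
          (phiO (isStd_plus m) σ * (phiO (isStd_plus m) τ)⁻¹) * (cG (QfPlus m F) a)⁻¹ := by
          group
      _ = cG (QfPlus m F) a * (cG (QfPlus m F) (tauGO (isStd_plus m) τ h) *
          phiO (isStd_plus m) τ) *
          (phiO (isStd_plus m) σ * (phiO (isStd_plus m) τ)⁻¹) * (cG (QfPlus m F) a)⁻¹ := by
          rw [h1]
      _ = cG (QfPlus m F) a * cG (QfPlus m F) (tauGO (isStd_plus m) τ h) *
          (phiO (isStd_plus m) τ * phiO (isStd_plus m) σ) * (phiO (isStd_plus m) τ)⁻¹ *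
          (cG (QfPlus m F) a)⁻¹ := by group
      _ = cG (QfPlus m F) a * cG (QfPlus m F) (tauGO (isStd_plus m) τ h) *
          (phiO (isStd_plus m) σ * phiO (isStd_plus m) τ) * (phiO (isStd_plus m) τ)⁻¹ *
          (cG (QfPlus m F) a)⁻¹ := by rw [h3]
      _ = cG (QfPlus m F) a * cG (QfPlus m F) (tauGO (isStd_plus m) τ h) *
          (phiO (isStd_plus m) σ * (cG (QfPlus m F) a)⁻¹) := by group
      _ = cG (QfPlus m F) a * cG (QfPlus m F) (tauGO (isStd_plus m) τ h) *
          ((cG (QfPlus m F) (tauGO (isStd_plus m) σ a))⁻¹ * phiO (isStd_plus m) σ) := by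
          rw [h2]
      _ = _ := by group

/-- normal form of a graph-field automorphism up to conjugacy -/
theorem graph_field_normal (x : MulAut (Cfsg.POmega F ⇑(QfPlus m F)))
    (hx : Cfsg.IsGraphFieldAutClassPOmegaPlus m x) :
    ∃ (α : MulAut (Cfsg.POmega F ⇑(QfPlus m F))) (σ : F ≃+* F) (v : Vm m F)
      (hv : Cfsg.quadFormPlus m F v ≠ 0), σ ≠ RingEquiv.refl F ∧ vs σ v = v ∧
      α * x * α⁻¹ = cG (QfPlus m F) (rG v hv) * phiO (isStd_plus m) σ := by
  have hx' : ∃ (α γ φ : MulAut (Cfsg.POmega F ⇑(QfPlus m F))) (σ : F ≃+* F)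
      (v : Fin m ⊕ Fin m → F) (r : GL (Fin m ⊕ Fin m) F),
      σ ≠ RingEquiv.refl F ∧ Cfsg.quadFormPlus m F v ≠ 0 ∧ (∀ i, σ (v i) = v i) ∧
      (r : Matrix (Fin m ⊕ Fin m) (Fin m ⊕ Fin m) F) =
        Cfsg.reflectionMatrix (Cfsg.quadFormPlus m F) v ∧
      Cfsg.IsInducedBySemilinearPOmega (⇑(QfPlus m F)) r (RingEquiv.refl F) γ ∧
      Cfsg.IsFieldAutPOmegaOf (⇑(QfPlus m F)) σ φ ∧ α * x * α⁻¹ = γ * φ := hx
  obtain ⟨α, γ, φ, σ, v, rr, hσ1, hv, hvσ, hrr, hγ, hφ, hα⟩ := hx'
  have hφ' : φ = phiO (isStd_plus m) σ := (isFieldAut_iff (isStd_plus m) σ φ).1 hφ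
  have hvσ' : vs σ v = v := funext hvσ
  have hrr' : rr = ((rG v hv : ↥(GO (QfPlus m F))) : GL (Fin m ⊕ Fin m) F) := by
    apply Units.ext
    rw [hrr, reflectionMatrix_eq v hv]
    rfl
  have hγ' : γ = cG (QfPlus m F) (rG v hv) := by
    rw [hrr'] at hγ
    exact (induced_iff (QfPlus m F) _ (rG v hv).2 γ).1 hγ
  exact ⟨α, σ, v, hv, hσ1, hvσ', by rw [hα, hγ', hφ']⟩

/-- normal form of an involutory graph-field automorphism -/
theorem graph_field_form (hm : 5 ≤ m) (x : MulAut (Cfsg.POmega F ⇑(QfPlus m F)))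
    (hx : Cfsg.IsGraphFieldAutClassPOmegaPlus m x) (hx2 : orderOf x = 2) :
    ∃ (σ : F ≃+* F) (c : ↥(GO (QfPlus m F))), orderOf σ = 2 ∧ cls c = 1 ∧
      x = cG (QfPlus m F) c * phiO (isStd_plus m) σ := by
  obtain ⟨α, σ, v, hv, hσ1, hvσ, hα⟩ := graph_field_normal x hx
  have hx' : orderOf (cG (QfPlus m F) (rG v hv) * phiO (isStd_plus m) σ) = 2 := by
    rw [← hα, orderOf_conj', hx2]
  have hσ2 := orderOf_sigma_eq hm σ hσ1 (rG v hv) Nat.prime_two hx'
  obtain ⟨c, hc, hconj⟩ := conj_coset hm α⁻¹ (rG v hv) σ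
  have hxc : x = cG (QfPlus m F) c * phiO (isStd_plus m) σ := by
    rw [← hconj, ← hα]
    group
  exact ⟨σ, c, hσ2, by rw [hc, cls_rG], hxc⟩

/-- the degree of the field is even -/
theorem even_degree (hm : 5 ≤ m) {p f : ℕ} [Fact p.Prime] (hF : Fintype.card F = p ^ f)
    (hf : 1 ≤ f) (x : MulAut (Cfsg.POmega F ⇑(QfPlus m F)))
    (hx : Cfsg.IsGraphFieldAutClassPOmegaPlus m x) (hx2 : orderOf x = 2) : Even f := by
  obtain ⟨σ, c, hσ2, -, -⟩ := graph_field_form hm x hx hx2
  have h := Cfsg.Agent.Helper7.FieldPSL.orderOf_dvd hf hF σ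
  rw [hσ2] at h
  exact even_iff_two_dvd.2 h

/-- an involutory graph-field automorphism is conjugate under the inner-diagonal group to every
involution in normal form -/
theorem graph_field_conj' (hm : 5 ≤ m) (x y : MulAut (Cfsg.POmega F ⇑(QfPlus m F)))
    (hx : Cfsg.IsGraphFieldAutClassPOmegaPlus m x) (hx2 : orderOf x = 2)
    (σ' : F ≃+* F) (c' : ↥(GO (QfPlus m F))) (hσ2' : orderOf σ' = 2) (hc' : cls c' = 1)
    (hyc : y = cG (QfPlus m F) c' * phiO (isStd_plus m) σ') (hy2 : orderOf y = 2) :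
    Cfsg.IsConjUnder (innD m F) x y := by
  obtain ⟨σ, c, hσ2, hc, hxc⟩ := graph_field_form hm x hx hx2
  obtain rfl : σ = σ' := ringAut_invol_unique σ σ' hσ2 hσ2'
  have hδ : cG (QfPlus m F) (c' * c⁻¹) ∈ innD m F := by
    apply cG_mem_inndiag
    rw [cls_mul, cls_inv, hc, hc']
    decide
  have hyx : y = cG (QfPlus m F) (c' * c⁻¹) * x := by
    rw [hxc, hyc, map_mul, map_inv]
    group
  have key := (coset_conj_plus' hm x (cG (QfPlus m F) (c' * c⁻¹)) (Or.inr hx) Nat.prime_two hx2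
    hδ).1 (by rw [← hyx, hy2])
  rw [← hyx] at key
  exact key

/-- all involutory graph-field automorphisms are conjugate under the inner-diagonal group -/
theorem graph_field_conj (hm : 5 ≤ m) (x y : MulAut (Cfsg.POmega F ⇑(QfPlus m F)))
    (hx : Cfsg.IsGraphFieldAutClassPOmegaPlus m x) (hx2 : orderOf x = 2)
    (hy : Cfsg.IsGraphFieldAutClassPOmegaPlus m y) (hy2 : orderOf y = 2) :
    Cfsg.IsConjUnder (innD m F) x y := by
  obtain ⟨σ, c, hσ2, hc, hxc⟩ := graph_field_form hm x hx hx2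
  obtain ⟨σ', c', hσ2', hc', hyc⟩ := graph_field_form hm y hy hy2
  obtain rfl : σ = σ' := ringAut_invol_unique σ σ' hσ2 hσ2'
  have hδ : cG (QfPlus m F) (c' * c⁻¹) ∈ innD m F := by
    apply cG_mem_inndiag
    rw [cls_mul, cls_inv, hc, hc']
    decide
  have hyx : y = cG (QfPlus m F) (c' * c⁻¹) * x := by
    rw [hxc, hyc, map_mul, map_inv]
    group
  have key := (coset_conj_plus' hm x (cG (QfPlus m F) (c' * c⁻¹)) (Or.inr hx) Nat.prime_two hx2
    hδ).1 (by rw [← hyx, hy2])
  rw [← hyx] at key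
  exact key

end Cfsg.Agent.Helper7.PlusG
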