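import Mathlib
import Cfsg.Prelude.Def_LieTypeDatum
import Cfsg.Agent.Helper7.PlusG1
import Cfsg.Agent.Helper28.FieldO7

/-!
# Plus-type orthogonal groups: involutory graph-field automorphisms, part 3 (helper7)

The standard involutory graph-field automorphism `x0 σ = cG r0 * phiO σ`, where `r0` exchanges
the last hyperbolic pair; its order, conjugacy to every involutory graph-field automorphism, and
the matrix criterion for `cG g` to centralize it.
-/

set_option autoImplicit false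
set_option linter.unusedSectionVars false
set_option linter.unusedVariables false

namespace Cfsg.Agent.Helper7.PlusG

open Module Submodule Matrix Cfsg.Agent.Helper28.QPlus Cfsg.Agent.Helper28.IDP
  Cfsg.Agent.Helper28.Spin Cfsg.Agent.Helper28.PG Cfsg.Agent.Helper28.FO
  Cfsg.Agent.Helper28.SSim Cfsg.Agent.Helper28.GC Cfsg.Agent.Helper28.Sg
  Cfsg.Agent.Helper7.PlusF
open Cfsg.Agent.Helper7.FieldPSL (orderOf_pos_ringAut orderOf_conj' isConjUnder_conj_iff)

variable {F : Type*} [Field F] {k : ℕ}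

/-- the vector `e_last - f_last` -/
def vL (k : ℕ) (F : Type*) [Field F] : Vm (k + 1) F :=
  Pi.single (Sum.inl (Fin.last k)) 1 - Pi.single (Sum.inr (Fin.last k)) 1

theorem vL_inl_last : vL k F (Sum.inl (Fin.last k)) = 1 := by simp [vL]

theorem vL_inr_last : vL k F (Sum.inr (Fin.last k)) = -1 := by simp [vL]

theorem vL_inl_cast (j : Fin k) : vL k F (Sum.inl j.castSucc) = 0 := by
  simp [vL, Fin.castSucc_ne_last]

theorem vL_inr_cast (j : Fin k) : vL k F (Sum.inr j.castSucc) = 0 := by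
  simp [vL, Fin.castSucc_ne_last]

theorem Q_vL : Cfsg.quadFormPlus (k + 1) F (vL k F) = -1 := by
  unfold Cfsg.quadFormPlus
  rw [Fin.sum_univ_castSucc, vL_inl_last, vL_inr_last]
  simp only [vL_inl_cast, vL_inr_cast, mul_zero, Finset.sum_const_zero, zero_add, one_mul]

theorem Q_vL_ne : Cfsg.quadFormPlus (k + 1) F (vL k F) ≠ 0 := by
  rw [Q_vL]
  exact neg_ne_zero.2 one_ne_zero

theorem vs_vL (σ : F ≃+* F) : vs σ (vL k F) = vL k F := by
  funext i
  rcases i with i | i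
  · refine Fin.lastCases ?_ (fun j => ?_) i
    · show σ (vL k F (Sum.inl (Fin.last k))) = _
      rw [vL_inl_last, map_one]
    · show σ (vL k F (Sum.inl j.castSucc)) = _
      rw [vL_inl_cast, map_zero]
  · refine Fin.lastCases ?_ (fun j => ?_) i
    · show σ (vL k F (Sum.inr (Fin.last k))) = _
      rw [vL_inr_last, map_neg, map_one]
    · show σ (vL k F (Sum.inr j.castSucc)) = _
      rw [vL_inr_cast, map_zero]

theorem pB_vL (v : Vm (k + 1) F) :
    pB (k + 1) F v (vL k F) = v (Sum.inr (Fin.last k)) - v (Sum.inl (Fin.last k)) := by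
  show ∑ i, (v (Sum.inl i) * vL k F (Sum.inr i) + v (Sum.inr i) * vL k F (Sum.inl i)) = _
  rw [Fin.sum_univ_castSucc, vL_inl_last, vL_inr_last]
  simp only [vL_inl_cast, vL_inr_cast, mul_zero, add_zero, Finset.sum_const_zero, zero_add]
  ring

/-- the reflection exchanging the last hyperbolic pair -/
noncomputable def r0 (k : ℕ) (F : Type*) [Field F] : ↥(GO (QfPlus (k + 1) F)) :=
  rG (vL k F) Q_vL_ne

/-- exchange of the last two coordinates -/
def swp (v : Vm (k + 1) F) : Vm (k + 1) F :=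
  Sum.elim (Fin.lastCases (v (Sum.inr (Fin.last k))) (fun j => v (Sum.inl j.castSucc)))
    (Fin.lastCases (v (Sum.inl (Fin.last k))) (fun j => v (Sum.inr j.castSucc)))

theorem swp_inl_last (v : Vm (k + 1) F) :
    swp v (Sum.inl (Fin.last k)) = v (Sum.inr (Fin.last k)) := by simp [swp]

theorem swp_inr_last (v : Vm (k + 1) F) :
    swp v (Sum.inr (Fin.last k)) = v (Sum.inl (Fin.last k)) := by simp [swp]

theorem swp_inl_cast (v : Vm (k + 1) F) (j : Fin k) :
    swp v (Sum.inl j.castSucc) = v (Sum.inl j.castSucc) := by simp [swp]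

theorem swp_inr_cast (v : Vm (k + 1) F) (j : Fin k) :
    swp v (Sum.inr j.castSucc) = v (Sum.inr j.castSucc) := by simp [swp]

theorem swp_swp (v : Vm (k + 1) F) : swp (swp v) = v := by
  funext i
  rcases i with i | i
  · refine Fin.lastCases ?_ (fun j => ?_) i
    · rw [swp_inl_last, swp_inr_last]
    · rw [swp_inl_cast, swp_inl_cast]
  · refine Fin.lastCases ?_ (fun j => ?_) i
    · rw [swp_inr_last, swp_inl_last]
    · rw [swp_inr_cast, swp_inr_cast]

theorem gm_r0_mulVec (v : Vm (k + 1) F) : gm (r0 k F) *ᵥ v = swp v := by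
  rw [show gm (r0 k F) = reflM (vL k F) from rfl, reflM_mulVec, Q_vL, pB_vL]
  funext i
  rcases i with i | i
  · refine Fin.lastCases ?_ (fun j => ?_) i
    · rw [swp_inl_last]
      simp only [Pi.sub_apply, Pi.smul_apply, smul_eq_mul, vL_inl_last]
      field_simp
      ring
    · rw [swp_inl_cast]
      simp only [Pi.sub_apply, Pi.smul_apply, smul_eq_mul, vL_inl_cast, mul_zero, sub_zero]
  · refine Fin.lastCases ?_ (fun j => ?_) i
    · rw [swp_inr_last]
      simp only [Pi.sub_apply, Pi.smul_apply, smul_eq_mul, vL_inr_last]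
      field_simp
      ring
    · rw [swp_inr_cast]
      simp only [Pi.sub_apply, Pi.smul_apply, smul_eq_mul, vL_inr_cast, mul_zero, sub_zero]

theorem r0_mul_self : r0 k F * r0 k F = 1 := rG_mul_self _ _

theorem r0_inv : (r0 k F)⁻¹ = r0 k F := inv_eq_of_mul_eq_one_left r0_mul_self

theorem cls_r0 : cls (r0 k F) = 1 := cls_rG _ _

theorem tau_r0 (σ : F ≃+* F) : tauGO (isStd_plus (k + 1)) σ (r0 k F) = r0 k F :=
  tau_rG σ _ _ (vs_vL σ)

/-- the standard involutory graph-field automorphism -/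
noncomputable def x0 (k : ℕ) (σ : F ≃+* F) : MulAut (Cfsg.POmega F ⇑(QfPlus (k + 1) F)) :=
  cG (QfPlus (k + 1) F) (r0 k F) * phiO (isStd_plus (k + 1)) σ

section fin

variable [Fintype F]

theorem mul_sq_aux {G : Type*} [Group G] (c φ : G) (h1 : φ * c = c * φ) (h2 : φ * φ = 1)
    (h3 : c * c = 1) : c * φ * (c * φ) = 1 := by
  calc c * φ * (c * φ) = c * (φ * c) * φ := by group
    _ = c * c * (φ * φ) := by rw [h1]; group
    _ = 1 := by rw [h2, h3, one_mul]

theorem hom_eq_iff_aux {G H : Type*} [Group G] [Group H] (f : G →* H) (g r t : G) :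
    f (g * r) = f (r * t) ↔ f (g⁻¹ * (r * t * r⁻¹)) = 1 := by
  constructor
  · intro h
    have : g⁻¹ * (r * t * r⁻¹) = r * ((g * r)⁻¹ * (r * t)) * r⁻¹ := by group
    rw [this, map_mul, map_mul, map_mul, map_inv, h, inv_mul_cancel, mul_one, ← map_mul,
      mul_inv_cancel, map_one]
  · intro h
    have h2 : r * t = g * (g⁻¹ * (r * t * r⁻¹)) * r := by group
    calc f (g * r) = f g * f (g⁻¹ * (r * t * r⁻¹)) * f r := by rw [h, mul_one, map_mul]
      _ = f (g * (g⁻¹ * (r * t * r⁻¹)) * r) := by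
          rw [map_mul (f := f) (g * (g⁻¹ * (r * t * r⁻¹))) r, map_mul (f := f) g]
      _ = f (r * t) := by rw [← h2]

theorem x0_sq (σ : F ≃+* F) (hσ : orderOf σ = 2) : x0 k σ * x0 k σ = 1 := by
  have h1 : phiO (isStd_plus (k + 1)) σ * cG (QfPlus (k + 1) F) (r0 k F) =
      cG (QfPlus (k + 1) F) (r0 k F) * phiO (isStd_plus (k + 1)) σ := by
    rw [phiO_cG, tau_r0]
  have h2 : phiO (isStd_plus (k + 1)) σ * phiO (isStd_plus (k + 1)) σ = 1 := by
    rw [← phiO_mul, ← pow_two, ← hσ, pow_orderOf_eq_one, phiO_one]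
  have h3 : cG (QfPlus (k + 1) F) (r0 k F) * cG (QfPlus (k + 1) F) (r0 k F) = 1 := by
    have := congrArg (cG (QfPlus (k + 1) F)) (r0_mul_self (k := k) (F := F))
    rw [map_mul, map_one] at this
    exact this
  exact mul_sq_aux _ _ h1 h2 h3

theorem orderOf_x0 (hk : 5 ≤ k + 1) (σ : F ≃+* F) (hσ : orderOf σ = 2) :
    orderOf (x0 k σ) = 2 := by
  apply orderOf_eq_prime
  · rw [pow_two]
    exact x0_sq σ hσ
  · intro h1
    have h2 := theta_cG_phiO hk σ (r0 k F)
    have h3 : cG (QfPlus (k + 1) F) (r0 k F) * phiO (isStd_plus (k + 1)) σ = 1 := h1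
    rw [h3, map_one] at h2
    rw [← h2, orderOf_one] at hσ
    omega

/-- every involutory graph-field automorphism is conjugate to the standard one -/
theorem conj_x0 (hk : 5 ≤ k + 1) (x : MulAut (Cfsg.POmega F ⇑(QfPlus (k + 1) F)))
    (hx : Cfsg.IsGraphFieldAutClassPOmegaPlus (k + 1) x) (hx2 : orderOf x = 2) :
    ∃ σ : F ≃+* F, orderOf σ = 2 ∧ Cfsg.IsConjUnder (innD (k + 1) F) x (x0 k σ) := by
  obtain ⟨σ, c, hσ2, hc, hxc⟩ := graph_field_form hk x hx hx2
  exact ⟨σ, hσ2, graph_field_conj' hk x (x0 k σ) hx hx2 σ (r0 k F) hσ2 cls_r0 rfl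
    (orderOf_x0 hk σ hσ2)⟩

set_option maxHeartbeats 1600000 in
theorem cent_aux1 (σ : F ≃+* F) (g : ↥(GO (QfPlus (k + 1) F))) :
    cG (QfPlus (k + 1) F) g ∈ Subgroup.centralizer {x0 k σ} ↔
      cG (QfPlus (k + 1) F) (g⁻¹ * (r0 k F * tauGO (isStd_plus (k + 1)) σ g * r0 k F)) = 1 := by
  have h1 : cG (QfPlus (k + 1) F) (g * r0 k F) =
      cG (QfPlus (k + 1) F) (r0 k F * tauGO (isStd_plus (k + 1)) σ g) ↔
      cG (QfPlus (k + 1) F) (g⁻¹ * (r0 k F * tauGO (isStd_plus (k + 1)) σ g * (r0 k F)⁻¹)) = 1 :=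
    hom_eq_iff_aux (cG (QfPlus (k + 1) F)) g (r0 k F) (tauGO (isStd_plus (k + 1)) σ g)
  rw [r0_inv] at h1
  rw [← h1, Subgroup.mem_centralizer_singleton_iff]
  unfold x0
  have e1 : cG (QfPlus (k + 1) F) g * (cG (QfPlus (k + 1) F) (r0 k F) *
      phiO (isStd_plus (k + 1)) σ) = cG (QfPlus (k + 1) F) (g * r0 k F) *
      phiO (isStd_plus (k + 1)) σ := by rw [map_mul, mul_assoc]
  have e2 : cG (QfPlus (k + 1) F) (r0 k F) * phiO (isStd_plus (k + 1)) σ *
      cG (QfPlus (k + 1) F) g = cG (QfPlus (k + 1) F) (r0 k F * tauGO (isStd_plus (k + 1)) σ g) *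
      phiO (isStd_plus (k + 1)) σ := by rw [mul_assoc, phiO_cG, map_mul, mul_assoc]
  rw [e1, e2, mul_left_inj]

theorem gm_mul_inv (g : ↥(GO (QfPlus (k + 1) F))) : gm g * gm g⁻¹ = 1 := by
  have h : ((g * g⁻¹ : ↥(GO (QfPlus (k + 1) F))) : GL (Fin (k + 1) ⊕ Fin (k + 1)) F) = 1 := by
    rw [mul_inv_cancel]; rfl
  have h2 := congrArg (fun x : GL (Fin (k + 1) ⊕ Fin (k + 1)) F =>
    (x : Matrix (Fin (k + 1) ⊕ Fin (k + 1)) (Fin (k + 1) ⊕ Fin (k + 1)) F)) h
  exact h2

theorem gm_inv_mul (g : ↥(GO (QfPlus (k + 1) F))) : gm g⁻¹ * gm g = 1 := by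
  have h : ((g⁻¹ * g : ↥(GO (QfPlus (k + 1) F))) : GL (Fin (k + 1) ⊕ Fin (k + 1)) F) = 1 := by
    rw [inv_mul_cancel]; rfl
  have h2 := congrArg (fun x : GL (Fin (k + 1) ⊕ Fin (k + 1)) F =>
    (x : Matrix (Fin (k + 1) ⊕ Fin (k + 1)) (Fin (k + 1) ⊕ Fin (k + 1)) F)) h
  exact h2

set_option maxHeartbeats 1600000 in
/-- the matrix criterion for centralizing the standard graph-field automorphism -/
theorem cG_mem_centralizer_x0_iff (hk : 5 ≤ k + 1) (σ : F ≃+* F)
    (g : ↥(GO (QfPlus (k + 1) F))) :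
    cG (QfPlus (k + 1) F) g ∈ Subgroup.centralizer {x0 k σ} ↔
      ∃ c : Fˣ, gm (r0 k F) * (gm g).map σ * gm (r0 k F) = (c : F) • gm g := by
  have hQ := QfPlus_nondeg (F := F) (k + 1)
  have hperf := perf_plus (F := F) hk
  rw [cent_aux1, cG_eq_one_iff hQ (frPlus (by omega)) hperf]
  have hcoe : (((g⁻¹ * (r0 k F * tauGO (isStd_plus (k + 1)) σ g * r0 k F) :
      ↥(GO (QfPlus (k + 1) F))) : GL (Fin (k + 1) ⊕ Fin (k + 1)) F) : Matrix _ _ F) =
      gm g⁻¹ * (gm (r0 k F) * (gm g).map σ * gm (r0 k F)) := rfl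
  rw [hcoe]
  have hgg := gm_mul_inv g
  have hgg' := gm_inv_mul g
  constructor
  · rintro ⟨c, hc⟩
    refine ⟨c, ?_⟩
    calc gm (r0 k F) * (gm g).map σ * gm (r0 k F)
        = gm g * (gm g⁻¹ * (gm (r0 k F) * (gm g).map σ * gm (r0 k F))) := by
          rw [← Matrix.mul_assoc, hgg, Matrix.one_mul]
      _ = (c : F) • gm g := by rw [hc, Matrix.mul_smul, Matrix.mul_one]
  · rintro ⟨c, hc⟩
    refine ⟨c, ?_⟩
    rw [hc, Matrix.mul_smul, hgg']

end fin

end Cfsg.Agent.Helper7.PlusG
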