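import Mathlib
import Cfsg.Prelude.Def_LieTypeDatum
import Cfsg.Agent.Helper7.PlusG3
import Cfsg.Agent.Helper28.FieldM10

/-!
# Plus-type orthogonal groups: involutory graph-field automorphisms, part 4 (helper7)

The splitting coordinates `T` of the minus form over the quadratic extension intertwine the
entrywise field automorphism with the standard graph-field semilinear map; the homomorphism
`psiT : GO(Q₀) → GO(Q⁺)`, its image (the centralizer) and its kernel.
-/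

set_option autoImplicit false
set_option linter.unusedSectionVars false
set_option linter.unusedVariables false

namespace Cfsg.Agent.Helper7.PlusG

open Module Submodule Matrix Cfsg.Agent.Helper28.QPlus Cfsg.Agent.Helper28.IDP
  Cfsg.Agent.Helper28.Spin Cfsg.Agent.Helper28.PG Cfsg.Agent.Helper28.FO
  Cfsg.Agent.Helper28.SSim Cfsg.Agent.Helper28.GC Cfsg.Agent.Helper28.Sg
  Cfsg.Agent.Helper28.IDM Cfsg.Agent.Helper28.FM
  Cfsg.Agent.Helper7.PlusF
open Cfsg.Agent.Helper7.FieldPSL (FDesc)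

section cjlemmas

variable {K : Type*} [Field K] {ι ι' : Type} [Fintype ι] [DecidableEq ι] [Fintype ι']
  [DecidableEq ι'] (T : (ι → K) ≃ₗ[K] (ι' → K))

theorem cj_symm_cj (M : Matrix ι ι K) : cj T.symm (cj T M) = M := by
  apply matrix_ext_mulVec
  intro v
  have h := cj_mulVec T.symm (cj T M) (T v)
  rw [LinearEquiv.symm_apply_apply, cj_mulVec, LinearEquiv.symm_apply_apply] at h
  exact h

theorem cj_cj_symm (M : Matrix ι' ι' K) : cj T (cj T.symm M) = M := by
  have h := cj_symm_cj T.symm M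
  rw [LinearEquiv.symm_symm] at h
  exact h

theorem cj_smul (c : K) (M : Matrix ι ι K) : cj T (c • M) = c • cj T M := by
  apply matrix_ext_mulVec
  intro w
  obtain ⟨v, rfl⟩ := T.surjective w
  rw [cj_mulVec, Matrix.smul_mulVec, Matrix.smul_mulVec, cj_mulVec, map_smul]

theorem cj_injective : Function.Injective (cj T : Matrix ι ι K → Matrix ι' ι' K) := by
  intro M N h
  rw [← cj_symm_cj T M, ← cj_symm_cj T N, h]

theorem conjGL_symm_conjGL (g : GL ι K) : conjGL T.symm (conjGL T g) = g := by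
  apply Units.ext
  rw [conjGL_val, conjGL_val, cj_symm_cj]

theorem conjGL_conjGL_symm (g : GL ι' K) : conjGL T (conjGL T.symm g) = g := by
  apply Units.ext
  rw [conjGL_val, conjGL_val, cj_cj_symm]

variable {T} {Q : QuadraticForm K (ι → K)} {Q' : QuadraticForm K (ι' → K)}

theorem conjGL_mem_GO (hTQ : ∀ v, Q' (T v) = Q v) {g : GL ι K} (hg : g ∈ GO Q) :
    conjGL T g ∈ GO Q' := by
  obtain ⟨c, hc⟩ := hg
  refine ⟨c, fun w => ?_⟩
  obtain ⟨v, rfl⟩ := T.surjective w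
  rw [conjGL_val, cj_mulVec, hTQ, hc, hTQ]

/-- conjugation by an isometric linear equivalence on the similarity groups -/
noncomputable def conjGO (hTQ : ∀ v, Q' (T v) = Q v) : ↥(GO Q) →* ↥(GO Q') :=
  ((conjGL T).comp (Subgroup.subtype _)).codRestrict _ (fun g => conjGL_mem_GO hTQ g.2)

theorem conjGO_val (hTQ : ∀ v, Q' (T v) = Q v) (g : ↥(GO Q)) :
    (((conjGO hTQ g : ↥(GO Q')) : GL ι' K) : Matrix ι' ι' K) =
      cj T ((g : GL ι K) : Matrix ι ι K) := rfl

theorem mem_GO_of_conjGL (hTQ : ∀ v, Q' (T v) = Q v) {g : GL ι K}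
    (hg : conjGL T g ∈ GO Q') : g ∈ GO Q := by
  have hTQ' : ∀ w, Q (T.symm w) = Q' w := by
    intro w
    rw [← hTQ, LinearEquiv.apply_symm_apply]
  have := conjGL_mem_GO (T := T.symm) hTQ' hg
  rwa [conjGL_symm_conjGL] at this

end cjlemmas

theorem hex_minus' {K : Type*} [Field K] {k : ℕ} (a b : K) :
    ∃ v : (Fin k ⊕ Fin k) ⊕ Fin 2 → K, QfMinus k K a b v ≠ 0 := by
  refine ⟨Pi.single (Sum.inr 0) 1, ?_⟩
  rw [QfMinus_coe]
  unfold Cfsg.quadFormMinus
  simp

section setup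

variable {F : Type*} [Field F] {F₀ : Type*} [Field F₀] (E : FDesc F F₀) {k : ℕ}
  (a₀ b₀ : F₀) {α β : F} (h1 : α + β = -(E.j a₀)) (h2 : α * β = E.j b₀) (hne : α ≠ β)
  (hαβ : E.σ α = β) (hβα : E.σ β = α)

include h1 h2 in
theorem TQ (w : Wm k F) : QfPlus (k + 1) F (splitE k α β hne w) =
    QfMinus k F (E.j a₀) (E.j b₀) w := by
  rw [splitE_apply]
  exact splitL_Q _ _ α β h1 h2 w

include hαβ hβα in
/-- the splitting coordinates intertwine the two semilinear maps -/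
theorem T_vs (w : Wm k F) :
    splitE k α β hne (vs E.σ w) = swp (vs E.σ (splitE k α β hne w)) := by
  rw [splitE_apply, splitE_apply]
  funext i
  rcases i with i | i
  · refine Fin.lastCases ?_ (fun j => ?_) i
    · rw [swp_inl_last, splitL_inl_last]
      show _ = E.σ (splitL k α β w (Sum.inr (Fin.last k)))
      rw [splitL_inr_last, map_sub, map_mul, hβα]
      rfl
    · rw [swp_inl_cast, splitL_inl_cast]
      show _ = E.σ (splitL k α β w (Sum.inl j.castSucc))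
      rw [splitL_inl_cast]
      rfl
  · refine Fin.lastCases ?_ (fun j => ?_) i
    · rw [swp_inr_last, splitL_inr_last]
      show _ = E.σ (splitL k α β w (Sum.inl (Fin.last k)))
      rw [splitL_inl_last, map_sub, map_mul, hαβ]
      rfl
    · rw [swp_inr_cast, splitL_inr_cast]
      show _ = E.σ (splitL k α β w (Sum.inr j.castSucc))
      rw [splitL_inr_cast]
      rfl

theorem vs_symm_vs {ι : Type} (σ : F ≃+* F) (w : ι → F) : vs σ (vs σ.symm w) = w := by
  funext i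
  exact σ.apply_symm_apply _

include hαβ hβα in
/-- conjugating by the splitting coordinates turns the graph-field twist into the entrywise
field automorphism -/
theorem cj_twist (M : Matrix (Fin (k + 1) ⊕ Fin (k + 1)) (Fin (k + 1) ⊕ Fin (k + 1)) F) :
    cj (splitE k α β hne).symm (gm (r0 k F) * M.map E.σ * gm (r0 k F)) =
      (cj (splitE k α β hne).symm M).map E.σ := by
  set T := splitE k α β hne with hT
  apply matrix_ext_mulVec
  intro w
  obtain ⟨w', rfl⟩ : ∃ w', vs E.σ w' = w := ⟨vs E.σ.symm w, vs_symm_vs E.σ w⟩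
  have e1 : vs E.σ w' = T.symm (T (vs E.σ w')) := (T.symm_apply_apply _).symm
  rw [← vs_mulVec]
  conv_lhs => rw [e1]
  rw [cj_mulVec, ← Matrix.mulVec_mulVec, ← Matrix.mulVec_mulVec, gm_r0_mulVec, gm_r0_mulVec,
    T_vs E hne hαβ hβα, swp_swp, ← vs_mulVec]
  have e2 : M *ᵥ T w' = T (T.symm (M *ᵥ T w')) := (T.apply_symm_apply _).symm
  rw [e2, ← T_vs E hne hαβ hβα, LinearEquiv.symm_apply_apply]
  congr 1
  have := cj_mulVec T.symm M (T w')
  rw [LinearEquiv.symm_apply_apply] at this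
  exact this.symm

theorem compat_E : Compat E (QfMinus k F (E.j a₀) (E.j b₀)) (QfMinus k F₀ a₀ b₀) :=
  compat_minus E.j a₀ b₀

/-- the homomorphism from the similarity group of the minus form over the fixed field -/
noncomputable def psiT : ↥(GO (QfMinus k F₀ a₀ b₀)) →* ↥(GO (QfPlus (k + 1) F)) :=
  (conjGO (T := splitE k α β hne) (TQ E a₀ b₀ h1 h2 hne)).comp (jGO E (compat_E E a₀ b₀))

theorem gm_psiT (g : ↥(GO (QfMinus k F₀ a₀ b₀))) :
    gm (psiT E a₀ b₀ h1 h2 hne g) = cj (splitE k α β hne)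
      (((g : GL ((Fin k ⊕ Fin k) ⊕ Fin 2) F₀) : Matrix _ _ F₀).map E.j) := rfl

section range

variable [Fintype F]

include hαβ hβα in
theorem psiT_mem_centralizer (hk : 5 ≤ k + 1) (g : ↥(GO (QfMinus k F₀ a₀ b₀))) :
    cG (QfPlus (k + 1) F) (psiT E a₀ b₀ h1 h2 hne g) ∈ Subgroup.centralizer {x0 k E.σ} := by
  rw [cG_mem_centralizer_x0_iff hk]
  refine ⟨1, ?_⟩
  rw [Units.val_one, one_smul]
  apply cj_injective (splitE k α β hne).symm
  rw [cj_twist E hne hαβ hβα, gm_psiT, cj_symm_cj]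
  ext i l
  simp only [Matrix.map_apply]
  exact E.fix_j _

include hαβ hβα in
/-- the image of `psiT` is the centralizer of the standard graph-field automorphism in the image
of the similarity group -/
theorem range_psiT (hk : 5 ≤ k + 1) (hσ : 0 < orderOf E.σ) :
    ((cG (QfPlus (k + 1) F)).comp (psiT E a₀ b₀ h1 h2 hne)).range =
      Cfsg.pgoAut F ⇑(QfPlus (k + 1) F) ⊓ Subgroup.centralizer {x0 k E.σ} := by
  ext y
  rw [Subgroup.mem_inf, pgoAut_eq]
  constructor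
  · rintro ⟨g, rfl⟩
    exact ⟨⟨_, rfl⟩, psiT_mem_centralizer E a₀ b₀ h1 h2 hne hαβ hβα hk g⟩
  · rintro ⟨⟨x, rfl⟩, hx⟩
    obtain ⟨c, hcx⟩ := (cG_mem_centralizer_x0_iff hk E.σ x).1 hx
    set T := splitE k α β hne with hT
    have hc' : ((mapGL E.σ (conjGL T.symm (x : GL (Fin (k + 1) ⊕ Fin (k + 1)) F)) :
        GL ((Fin k ⊕ Fin k) ⊕ Fin 2) F) : Matrix ((Fin k ⊕ Fin k) ⊕ Fin 2)
          ((Fin k ⊕ Fin k) ⊕ Fin 2) F) =
        (c : F) • ((conjGL T.symm (x : GL (Fin (k + 1) ⊕ Fin (k + 1)) F) :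
          GL ((Fin k ⊕ Fin k) ⊕ Fin 2) F) : Matrix ((Fin k ⊕ Fin k) ⊕ Fin 2)
            ((Fin k ⊕ Fin k) ⊕ Fin 2) F) := by
      rw [mapGL_val, conjGL_val, ← cj_twist E hne hαβ hβα, ← cj_smul]
      exact congrArg _ hcx
    obtain ⟨μ, g, hg⟩ := exists_smul_jGLg E hσ _ c hc'
    have hxg : (x : GL _ F) = (scal (QfPlus (k + 1) F) μ : GL _ F) * conjGL T (jGLg E g) := by
      apply Units.ext
      rw [Units.val_mul, scal_val, Matrix.smul_mul, Matrix.one_mul, conjGL_val, ← cj_smul, ← hg,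
        conjGL_val, cj_cj_symm]
    have hgG : conjGL T (jGLg E g) ∈ GO (QfPlus (k + 1) F) := by
      have : conjGL T (jGLg E g) =
          ((scal (QfPlus (k + 1) F) μ : ↥(GO (QfPlus (k + 1) F))) : GL _ F)⁻¹ * (x : GL _ F) := by
        rw [hxg, inv_mul_cancel_left]
      rw [this]
      exact Subgroup.mul_mem _ (Subgroup.inv_mem _ (scal (QfPlus (k + 1) F) μ).2) x.2
    have hg' : jGLg E g ∈ GO (QfMinus k F (E.j a₀) (E.j b₀)) :=
      mem_GO_of_conjGL (TQ E a₀ b₀ h1 h2 hne) hgG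
    have hg0 : g ∈ GO (QfMinus k F₀ a₀ b₀) :=
      mem_GO_of_jGLg E (compat_E E a₀ b₀) (hex_minus' a₀ b₀) hg'
    refine ⟨⟨g, hg0⟩, ?_⟩
    have h3 : x = scal (QfPlus (k + 1) F) μ * psiT E a₀ b₀ h1 h2 hne ⟨g, hg0⟩ :=
      Subtype.ext hxg
    rw [h3, map_mul, cG_scal, one_mul]
    rfl

/-- the kernel of `cG ∘ psiT` is the kernel of `cG` -/
theorem psiT_eq_one_iff [Fintype F₀] (hk : 5 ≤ k + 1)
    (hab : ∀ z₁ z₂ : F₀, z₁ ^ 2 + a₀ * z₁ * z₂ + b₀ * z₂ ^ 2 = 0 → z₁ = 0 ∧ z₂ = 0)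
    (g : ↥(GO (QfMinus k F₀ a₀ b₀))) :
    cG (QfPlus (k + 1) F) (psiT E a₀ b₀ h1 h2 hne g) = 1 ↔ cG (QfMinus k F₀ a₀ b₀) g = 1 := by
  have hQ := QfPlus_nondeg (F := F) (k + 1)
  have hperf := perf_plus (F := F) hk
  have hQ₀ := nondeg_minus (m := k) a₀ b₀ hab
  have hperf₀ := hperf_minus (m := k) (by omega) a₀ b₀ hab
  rw [cG_eq_one_iff hQ (frPlus (by omega)) hperf,
    cG_eq_one_iff hQ₀ (frameMinus (by omega) a₀ b₀) hperf₀]
  have hne' : Nonempty ((Fin k ⊕ Fin k) ⊕ Fin 2) := ⟨Sum.inr 0⟩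
  rw [← jGLg_scalar_iff E g.1]
  have key : ∀ c : F, gm (psiT E a₀ b₀ h1 h2 hne g) = c • 1 ↔
      ((jGLg E g.1 : GL _ F) : Matrix ((Fin k ⊕ Fin k) ⊕ Fin 2) ((Fin k ⊕ Fin k) ⊕ Fin 2) F) =
        c • 1 := by
    intro c
    rw [gm_psiT, ← jGLg_coe]
    constructor
    · intro h
      apply cj_injective (splitE k α β hne)
      rw [h, cj_smul, cj_one]
    · intro h
      rw [h, cj_smul, cj_one]
  constructor
  · rintro ⟨c, hc⟩
    exact ⟨c, (key c).1 hc⟩
  · rintro ⟨c, hc⟩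
    exact ⟨c, (key c).2 hc⟩

end range

end setup

end Cfsg.Agent.Helper7.PlusG
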