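import Mathlib
import Cfsg.Prelude.Def_LieTypeDatum
import Cfsg.Agent.Helper7.PlusG4
import Cfsg.Agent.Helper7.PlusG2

/-!
# Plus-type orthogonal groups: involutory graph-field automorphisms, part 5 (helper7)

Preservation of the singular classes of the minus form can be tested over every quadratic
extension (of any universe); the inner-diagonal group of the minus form over the fixed field as
an image of a subgroup of similarities, and the isomorphism with the centralizer.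
-/

set_option autoImplicit false
set_option linter.unusedSectionVars false
set_option linter.unusedVariables false

namespace Cfsg.Agent.Helper7.PlusG

open Module Submodule Matrix Cfsg.Agent.Helper28.QPlus Cfsg.Agent.Helper28.IDP
  Cfsg.Agent.Helper28.Spin Cfsg.Agent.Helper28.PG Cfsg.Agent.Helper28.FO
  Cfsg.Agent.Helper28.SSim Cfsg.Agent.Helper28.GC Cfsg.Agent.Helper28.Sg
  Cfsg.Agent.Helper28.IDM Cfsg.Agent.Helper28.FM
  Cfsg.Agent.Helper7.PlusF
open Cfsg.Agent.Helper7.FieldPSL (FDesc)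

section pscany

universe u v

variable {F₀ : Type u} [Field F₀] [Fintype F₀] {k : ℕ} (a₀ b₀ : F₀)
  (hab : ∀ z₁ z₂ : F₀, z₁ ^ 2 + a₀ * z₁ * z₂ + b₀ * z₂ ^ 2 = 0 → z₁ = 0 ∧ z₂ = 0)

theorem map_smul_matrix {K : Type v} [Field K] [Algebra F₀ K] {ι : Type} (c : F₀)
    (M : Matrix ι ι F₀) :
    (c • M).map (algebraMap F₀ K) = algebraMap F₀ K c • M.map (algebraMap F₀ K) := by
  ext i j
  simp

include hab in
/-- preservation of the singular classes of the minus form can be tested over every quadratic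
extension -/
theorem pscMinus_iff_ext (hk : 2 ≤ k) (K : Type v) [Field K] [Algebra F₀ K] [Finite K]
    (hfr : Module.finrank F₀ K = 2) (g : ↥(GO (QfMinus k F₀ a₀ b₀))) :
    Cfsg.PreservesSingularClassesMinus k a₀ b₀
        ((g : GL ((Fin k ⊕ Fin k) ⊕ Fin 2) F₀) :
          Matrix ((Fin k ⊕ Fin k) ⊕ Fin 2) ((Fin k ⊕ Fin k) ⊕ Fin 2) F₀) ↔
      Cfsg.PreservesSingularClasses
        (Cfsg.quadFormMinus k K (algebraMap F₀ K a₀) (algebraMap F₀ K b₀))
        (((g : GL ((Fin k ⊕ Fin k) ⊕ Fin 2) F₀) :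
          Matrix ((Fin k ⊕ Fin k) ⊕ Fin 2) ((Fin k ⊕ Fin k) ⊕ Fin 2) F₀).map
            (algebraMap F₀ K)) := by
  classical
  have : Fintype K := Fintype.ofFinite K
  rcases two_ne_zero_or F₀ with h2 | ⟨h2, hodd⟩
  · -- characteristic two
    obtain ⟨l, s, hmat, -⟩ := exists_scal_mul h2 (QfMinus k F₀ a₀ b₀) (hex_minus a₀ b₀) g
    have hl0 : (l : F₀) ≠ 0 := Units.ne_zero l
    have hlK : algebraMap F₀ K (l : F₀) ≠ 0 := by
      intro h
      exact hl0 ((algebraMap F₀ K).injective (by rw [h, map_zero]))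
    obtain ⟨α, β, h1, h3, hne⟩ := exists_roots' (K := K) hfr a₀ b₀ hab
    rw [hmat, pscMinus_smul a₀ b₀ _ hl0, map_smul_matrix, psc_smul _ hlK,
      pscMinus_iff_char_two h2 a₀ b₀ hab hk, psc_iff_chiM a₀ b₀ h1 h3 hne,
      ker_chiM h2 a₀ b₀ hab hk h1 h3 hne]
  · rw [pscMinus_iff hodd h2 a₀ b₀ hab, psc_ext_iff hodd h2 a₀ b₀ hab K hfr]

end pscany

section inndiag

variable {F : Type*} [Field F] [Fintype F] {F₀ : Type*} [Field F₀] [Fintype F₀]
  (E : FDesc F F₀) {k : ℕ}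
  (a₀ b₀ : F₀) {α β : F} (h1 : α + β = -(E.j a₀)) (h2 : α * β = E.j b₀) (hne : α ≠ β)
  (hαβ : E.σ α = β) (hβα : E.σ β = α)
  (hab : ∀ z₁ z₂ : F₀, z₁ ^ 2 + a₀ * z₁ * z₂ + b₀ * z₂ ^ 2 = 0 → z₁ = 0 ∧ z₂ = 0)

theorem finrank_of_card (hcard : Fintype.card F = Fintype.card F₀ ^ 2) :
    letI : Algebra F₀ F := E.j.toAlgebra
    Module.finrank F₀ F = 2 := by
  let _ : Algebra F₀ F := E.j.toAlgebra
  have h := Module.card_eq_pow_finrank (K := F₀) (V := F)
  rw [hcard] at h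
  have h1 : 1 < Fintype.card F₀ := Fintype.one_lt_card
  exact (Nat.pow_right_injective h1 h).symm

include h1 h2 hab in
/-- preservation of the singular classes over the fixed field is the vanishing of the class
character of the image under `psiT` -/
theorem pscMinus_iff_cls (hk : 2 ≤ k) (hcard : Fintype.card F = Fintype.card F₀ ^ 2)
    (g : ↥(GO (QfMinus k F₀ a₀ b₀))) :
    Cfsg.PreservesSingularClassesMinus k a₀ b₀
        ((g : GL ((Fin k ⊕ Fin k) ⊕ Fin 2) F₀) :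
          Matrix ((Fin k ⊕ Fin k) ⊕ Fin 2) ((Fin k ⊕ Fin k) ⊕ Fin 2) F₀) ↔
      cls (psiT E a₀ b₀ h1 h2 hne g) = 0 := by
  let _ : Algebra F₀ F := E.j.toAlgebra
  have hfr : Module.finrank F₀ F = 2 := finrank_of_card E hcard
  rw [pscMinus_iff_ext a₀ b₀ hab hk F hfr g, ← psc_iff_cls]
  apply psc_iff_psc (splitE k α β hne)
  · intro v
    exact TQ E a₀ b₀ h1 h2 hne v
  · intro v
    rw [gm_psiT, cj_mulVec]
    rfl

/-- the similarities of the minus form over the fixed field preserving the singular classes -/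
noncomputable def GOm : Subgroup ↥(GO (QfMinus k F₀ a₀ b₀)) :=
  ((clsHom (F := F) (m := k + 1)).comp (psiT E a₀ b₀ h1 h2 hne)).ker

theorem mem_GOm (g : ↥(GO (QfMinus k F₀ a₀ b₀))) :
    g ∈ GOm E a₀ b₀ h1 h2 hne ↔ cls (psiT E a₀ b₀ h1 h2 hne g) = 0 := by
  unfold GOm
  rw [MonoidHom.mem_ker, MonoidHom.comp_apply, ← MonoidHom.mem_ker, mem_ker_clsHom]

include hab in
/-- the inner-diagonal group of the minus form is the image of `GOm` -/
theorem inndiagMinus_eq (hk : 2 ≤ k) (hcard : Fintype.card F = Fintype.card F₀ ^ 2) :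
    Cfsg.inndiagPOmegaMinus k F₀ a₀ b₀ =
      (GOm E a₀ b₀ h1 h2 hne).map (cG (QfMinus k F₀ a₀ b₀)) := by
  unfold Cfsg.inndiagPOmegaMinus Cfsg.autSubgroupOf
  have hset : {β : MulAut (Cfsg.POmega F₀ (Cfsg.quadFormMinus k F₀ a₀ b₀)) |
      Cfsg.IsInnerDiagonalAutPOmegaMinus k a₀ b₀ β} =
      (((GOm E a₀ b₀ h1 h2 hne).map (cG (QfMinus k F₀ a₀ b₀)) :
        Subgroup (MulAut (Cfsg.POmega F₀ (Cfsg.quadFormMinus k F₀ a₀ b₀)))) : Set _) := by
    ext β
    constructor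
    · rintro ⟨g, hg, hpsc, hβ⟩
      refine ⟨⟨g, hg⟩, ?_, ((induced_iff (QfMinus k F₀ a₀ b₀) g hg β).1 hβ).symm⟩
      rw [SetLike.mem_coe, mem_GOm, ← pscMinus_iff_cls E a₀ b₀ h1 h2 hne hab hk hcard]
      exact hpsc
    · rintro ⟨g, hg, rfl⟩
      refine ⟨g.1, g.2, ?_, (induced_iff (QfMinus k F₀ a₀ b₀) g.1 g.2 _).2 rfl⟩
      rw [SetLike.mem_coe, mem_GOm, ← pscMinus_iff_cls E a₀ b₀ h1 h2 hne hab hk hcard] at hg
      exact hg
  rw [hset, Subgroup.closure_eq]
  rfl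

include hαβ hβα in
/-- the centralizer of the standard graph-field automorphism in the inner-diagonal group is the
image of `GOm` -/
theorem inndiag_inf_centralizer (hk : 5 ≤ k + 1) (hσ : 0 < orderOf E.σ) :
    innD (k + 1) F ⊓ Subgroup.centralizer {x0 k E.σ} =
      (GOm E a₀ b₀ h1 h2 hne).map
        ((cG (QfPlus (k + 1) F)).comp (psiT E a₀ b₀ h1 h2 hne)) := by
  have hQ := QfPlus_nondeg (F := F) (k + 1)
  have hperf := perf_plus (F := F) hk
  ext y
  rw [Subgroup.mem_inf]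
  constructor
  · rintro ⟨hyD, hyC⟩
    obtain ⟨h, hh, rfl⟩ := exists_of_mem_inndiag' y hyD
    have hy : cG (QfPlus (k + 1) F) h ∈
        Cfsg.pgoAut F ⇑(QfPlus (k + 1) F) ⊓ Subgroup.centralizer {x0 k E.σ} := by
      rw [Subgroup.mem_inf, pgoAut_eq]
      exact ⟨⟨h, rfl⟩, hyC⟩
    rw [← range_psiT E a₀ b₀ h1 h2 hne hαβ hβα hk hσ] at hy
    obtain ⟨g, hg⟩ := hy
    refine ⟨g, ?_, hg⟩
    rw [SetLike.mem_coe, mem_GOm]
    rw [MonoidHom.comp_apply] at hg
    have h3 : cG (QfPlus (k + 1) F) ((psiT E a₀ b₀ h1 h2 hne g)⁻¹ * h) = 1 := by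
      rw [map_mul, map_inv, hg, inv_mul_cancel]
    obtain ⟨c, hc⟩ := (cG_eq_one_iff hQ (frPlus (by omega)) hperf _).1 h3
    have h4 : (psiT E a₀ b₀ h1 h2 hne g)⁻¹ * h = scal (QfPlus (k + 1) F) c := by
      apply Subtype.ext
      apply Units.ext
      rw [hc, scal_val]
    have h5 : psiT E a₀ b₀ h1 h2 hne g = h * (scal (QfPlus (k + 1) F) c)⁻¹ := by
      rw [← h4]; group
    rw [h5, cls_mul, cls_inv, cls_scal, hh, add_zero]
  · rintro ⟨g, hg, rfl⟩
    rw [SetLike.mem_coe, mem_GOm] at hg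
    rw [MonoidHom.comp_apply]
    exact ⟨cG_mem_inndiag _ hg, psiT_mem_centralizer E a₀ b₀ h1 h2 hne hαβ hβα hk g⟩

include h1 h2 hne hαβ hβα hab in
/-- **the centralizer of the standard graph-field automorphism in the inner-diagonal group of
the plus form is the inner-diagonal group of the minus form over the fixed field** -/
theorem nonempty_centralizer_equiv_x0 (hk : 5 ≤ k + 1) (hσ : 0 < orderOf E.σ)
    (hcard : Fintype.card F = Fintype.card F₀ ^ 2) :
    Nonempty (↥(innD (k + 1) F ⊓ Subgroup.centralizer {x0 k E.σ}) ≃*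
      ↥(Cfsg.inndiagPOmegaMinus k F₀ a₀ b₀)) := by
  obtain ⟨e⟩ := nonempty_map_equiv
    ((cG (QfPlus (k + 1) F)).comp (psiT E a₀ b₀ h1 h2 hne)) (cG (QfMinus k F₀ a₀ b₀))
    (fun g => psiT_eq_one_iff E a₀ b₀ h1 h2 hne hk hab g) (GOm E a₀ b₀ h1 h2 hne)
  have e1 := MulEquiv.subgroupCongr (inndiag_inf_centralizer E a₀ b₀ h1 h2 hne hαβ hβα hk hσ)
  have hk2 : 2 ≤ k := by omega
  have e2 := MulEquiv.subgroupCongr
    (inndiagMinus_eq E a₀ b₀ h1 h2 hne hab hk2 hcard).symm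
  exact ⟨e1.trans (e.trans e2)⟩

end inndiag

end Cfsg.Agent.Helper7.PlusG
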