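import Mathlib
import Cfsg.Prelude.Def_LieTypeDatum
import Cfsg.Agent.Helper7.PlusG5
import Cfsg.Agent.Helper7.GraphPSL6
import Cfsg.Agent.Helper7.FieldPSL5

/-!
# Plus-type orthogonal groups: involutory graph-field automorphisms, part 6 (helper7)

Existence of the set-up (fixed field data, anisotropic binary form over the fixed field and its
roots in the big field), and the centralizer of an arbitrary involutory graph-field automorphism.
-/

set_option autoImplicit false
set_option linter.unusedSectionVars false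
set_option linter.unusedVariables false

namespace Cfsg.Agent.Helper7.PlusG

open Module Submodule Matrix Cfsg.Agent.Helper28.QPlus Cfsg.Agent.Helper28.IDP
  Cfsg.Agent.Helper28.Spin Cfsg.Agent.Helper28.PG Cfsg.Agent.Helper28.FO
  Cfsg.Agent.Helper28.SSim Cfsg.Agent.Helper28.GC Cfsg.Agent.Helper28.Sg
  Cfsg.Agent.Helper28.IDM Cfsg.Agent.Helper28.FM
  Cfsg.Agent.Helper7.PlusF
open Cfsg.Agent.Helper7.FieldPSL (FDesc)

/-- every finite field has an anisotropic binary quadratic form -/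
theorem exists_aniso_any (K : Type*) [Field K] [Fintype K] :
    ∃ a b : K, ∀ z₁ z₂ : K, z₁ ^ 2 + a * z₁ * z₂ + b * z₂ ^ 2 = 0 → z₁ = 0 ∧ z₂ = 0 := by
  by_cases h2 : (2 : K) = 0
  · -- characteristic two: `z² + z + b` with `b` not of the form `t² + t`
    have hidx := index_range_asHom (F := K) h2
    have hne : (asHom h2).range ≠ ⊤ := by
      intro h
      rw [h, AddSubgroup.index_top] at hidx
      omega
    obtain ⟨b, hb⟩ : ∃ b : K, b ∉ (asHom h2).range := by
      by_contra hcon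
      push Not at hcon
      exact hne (eq_top_iff.2 fun x _ => hcon x)
    refine ⟨1, b, fun z₁ z₂ h => ?_⟩
    have hneg : ∀ x : K, -x = x := by
      intro x
      have : x + x = 0 := by linear_combination x * h2
      linear_combination -this
    have hz2 : z₂ = 0 := by
      by_contra hz
      apply hb
      refine ⟨z₁ / z₂, ?_⟩
      rw [asHom_apply]
      have h3 : (z₁ / z₂) * (z₁ / z₂) + z₁ / z₂ + b = 0 := by
        field_simp
        linear_combination h
      have h4 : (z₁ / z₂) * (z₁ / z₂) + z₁ / z₂ = -b := by linear_combination h3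
      rw [h4, hneg]
    subst hz2
    refine ⟨?_, rfl⟩
    have : z₁ ^ 2 = 0 := by linear_combination h
    exact (pow_eq_zero_iff two_ne_zero).1 this
  · obtain ⟨a, b, hab, -⟩ := Cfsg.Agent.Helper7.GraphPSL.exists_anisotropic h2
    exact ⟨a, b, hab⟩

section setup

variable {F : Type*} [Field F] [Fintype F] {F₀ : Type*} [Field F₀] [Fintype F₀]

/-- the roots of an anisotropic binary form over the fixed field of an involution are exchanged -/
theorem exists_roots_swapped (E : FDesc F F₀) (hcard : Fintype.card F = Fintype.card F₀ ^ 2)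
    (a₀ b₀ : F₀)
    (hab : ∀ z₁ z₂ : F₀, z₁ ^ 2 + a₀ * z₁ * z₂ + b₀ * z₂ ^ 2 = 0 → z₁ = 0 ∧ z₂ = 0) :
    ∃ α β : F, α + β = -(E.j a₀) ∧ α * β = E.j b₀ ∧ α ≠ β ∧ E.σ α = β ∧ E.σ β = α := by
  let _ : Algebra F₀ F := E.j.toAlgebra
  have hfr : Module.finrank F₀ F = 2 := finrank_of_card E hcard
  obtain ⟨α, β, h1, h2, hne⟩ := exists_roots' (K := F) hfr a₀ b₀ hab
  have h1' : α + β = -(E.j a₀) := h1
  have h2' : α * β = E.j b₀ := h2
  have hroot : ∀ x : F, x ^ 2 + E.j a₀ * x + E.j b₀ = (x - α) * (x - β) := by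
    intro x
    rw [← h2']
    have : E.j a₀ = -(α + β) := by rw [h1']; ring
    rw [this]
    ring
  have hnotfix : ∀ x : F, (x - α) * (x - β) = 0 → E.σ x ≠ x := by
    intro x hx hfix
    obtain ⟨z, rfl⟩ := E.exists_j x hfix
    rw [← hroot] at hx
    have h3 : E.j (z ^ 2 + a₀ * z * 1 + b₀ * 1 ^ 2) = 0 := by
      rw [map_add, map_add, map_mul, map_mul, map_mul, map_pow, map_pow, map_one]
      linear_combination hx
    have h4 := E.j.injective (h3.trans (map_zero E.j).symm)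
    exact one_ne_zero (hab z 1 h4).2
  have hσroot : ∀ x : F, (x - α) * (x - β) = 0 → (E.σ x - α) * (E.σ x - β) = 0 := by
    intro x hx
    rw [← hroot] at hx ⊢
    have := congrArg E.σ hx
    rw [map_add, map_add, map_mul, map_pow, E.fix_j, E.fix_j, map_zero] at this
    exact this
  have hα : (α - α) * (α - β) = 0 := by ring
  have hβ : (β - α) * (β - β) = 0 := by ring
  have hσα : E.σ α = β := by
    rcases mul_eq_zero.1 (hσroot α hα) with h | h
    · exact absurd (sub_eq_zero.1 h) (hnotfix α hα)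
    · exact sub_eq_zero.1 h
  have hσβ : E.σ β = α := by
    rcases mul_eq_zero.1 (hσroot β hβ) with h | h
    · exact sub_eq_zero.1 h
    · exact absurd (sub_eq_zero.1 h) (hnotfix β hβ)
  exact ⟨α, β, h1', h2', hne, hσα, hσβ⟩

theorem card_sq_of_even {p f : ℕ} (hF : Fintype.card F = p ^ f) (hf2 : 2 ∣ f)
    (hF₀ : Fintype.card F₀ = p ^ (f / 2)) : Fintype.card F = Fintype.card F₀ ^ 2 := by
  rw [hF, hF₀, ← pow_mul, Nat.div_mul_cancel hf2]

/-- **the centralizer of an involutory graph-field automorphism** -/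
theorem nonempty_centralizer_equiv_graph_field {k : ℕ} {p f : ℕ} [Fact p.Prime]
    (hF : Fintype.card F = p ^ f) (hf : 1 ≤ f) (hk : 5 ≤ k + 1)
    (x : MulAut (Cfsg.POmega F ⇑(QfPlus (k + 1) F)))
    (hx : Cfsg.IsGraphFieldAutClassPOmegaPlus (k + 1) x) (hx2 : orderOf x = 2)
    (hF₀ : Fintype.card F₀ = p ^ (f / 2)) :
    ∃ a₀ b₀ : F₀, (∀ z₁ z₂ : F₀, z₁ ^ 2 + a₀ * z₁ * z₂ + b₀ * z₂ ^ 2 = 0 → z₁ = 0 ∧ z₂ = 0) ∧
      Nonempty (↥(innD (k + 1) F ⊓ Subgroup.centralizer {x}) ≃*
        ↥(Cfsg.inndiagPOmegaMinus k F₀ a₀ b₀)) := by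
  obtain ⟨σ, hσ2, h, hh, hconj⟩ := conj_x0 hk x hx hx2
  have hdvd := Cfsg.Agent.Helper7.FieldPSL.orderOf_dvd hf hF σ
  rw [hσ2] at hdvd
  have hF₀' : Fintype.card F₀ = p ^ (f / orderOf σ) := by rw [hσ2]; exact hF₀
  obtain ⟨E, rfl⟩ := Cfsg.Agent.Helper7.FieldPSL.exists_FDesc hF σ hF₀'
  have hcard := card_sq_of_even hF hdvd hF₀
  obtain ⟨a₀, b₀, hab⟩ := exists_aniso_any F₀
  obtain ⟨α, β, h1, h2, hne, hαβ, hβα⟩ := exists_roots_swapped E hcard a₀ b₀ hab
  refine ⟨a₀, b₀, hab, ?_⟩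
  have hN : (innD (k + 1) F).Normal := inndiag_normal hk
  obtain ⟨e⟩ := nonempty_centralizer_equiv_x0 E a₀ b₀ h1 h2 hne hαβ hβα hab hk
    (by rw [hσ2]; norm_num) hcard
  have e0 := Cfsg.Agent.Helper7.FieldPSL.centEquiv (innD (k + 1) F) h x
  rw [← hconj] at e0
  exact ⟨e0.trans e⟩

end setup

end Cfsg.Agent.Helper7.PlusG
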