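import Mathlib
import Cfsg.Prelude.Def_LieTypeDatum
import Cfsg.Agent.Helper7.PlusG6

/-!
# Plus-type orthogonal groups: involutory graph-field automorphisms, part 7 (helper7)

The inner automorphisms lie in the inner-diagonal group; in characteristic two they coincide, so
no class splits.
-/

set_option autoImplicit false
set_option linter.unusedSectionVars false
set_option linter.unusedVariables false

namespace Cfsg.Agent.Helper7.PlusG

open Module Submodule Matrix Cfsg.Agent.Helper28.QPlus Cfsg.Agent.Helper28.IDP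
  Cfsg.Agent.Helper28.Spin Cfsg.Agent.Helper28.PG Cfsg.Agent.Helper28.FO
  Cfsg.Agent.Helper28.SSim Cfsg.Agent.Helper28.GC Cfsg.Agent.Helper28.Sg
  Cfsg.Agent.Helper28.IDM Cfsg.Agent.Helper28.FM Cfsg.Agent.Helper28.PA
  Cfsg.Agent.Helper7.PlusF

variable {F : Type*} [Field F] [Fintype F] {m : ℕ}

/-- the class character on isometries -/
noncomputable def clsO : ↥(Cfsg.isometryGroup F ⇑(QfPlus m F)) →* Multiplicative (ZMod 2) :=
  (clsHom (F := F) (m := m)).comp (oGO (QfPlus m F))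

theorem clsO_apply (s : ↥(Cfsg.isometryGroup F ⇑(QfPlus m F))) :
    clsO s = Multiplicative.ofAdd (cls (oGO (QfPlus m F) s)) := rfl

theorem cls_oGO_of_mem_Omega (t : ↥(Cfsg.isometryGroup F ⇑(QfPlus m F)))
    (ht : t ∈ Cfsg.Omega F ⇑(QfPlus m F)) : cls (oGO (QfPlus m F) t) = 0 := by
  have h := hom_eq_one_of_mem_Omega (QfPlus m F) clsO ht
  rw [clsO_apply, ← ofAdd_zero, Multiplicative.ofAdd.apply_eq_iff_eq] at h
  exact h

theorem cls_oGO_reflO (v : Vm m F) (hv : Cfsg.quadFormPlus m F v ≠ 0) :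
    cls (oGO (QfPlus m F) (reflO (QfPlus m F) v hv)) = 1 := by
  have h : oGO (QfPlus m F) (reflO (QfPlus m F) v hv) = rG v hv := by
    apply Subtype.ext
    show ((reflO (QfPlus m F) v hv : ↥(Cfsg.isometryGroup F ⇑(QfPlus m F))) :
      GL (Fin m ⊕ Fin m) F) = ((refl v hv : OQ m F) : GL (Fin m ⊕ Fin m) F)
    rw [refl_eq_reflO]
  rw [h, cls_rG]

/-- the inner automorphisms are inner-diagonal -/
theorem Inn_le_innD : Cfsg.Inn (Cfsg.POmega F ⇑(QfPlus m F)) ≤ innD m F := by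
  classical
  rw [Inn_eq]
  rintro β ⟨t, ht, rfl⟩
  rw [← cG_oGO]
  exact cG_mem_inndiag _ (cls_oGO_of_mem_Omega t ht)

/-- in characteristic two the inner-diagonal group is the inner automorphism group -/
theorem innD_eq_Inn_char_two (h2F : (2 : F) = 0) (hm : 3 ≤ m) :
    innD m F = Cfsg.Inn (Cfsg.POmega F ⇑(QfPlus m F)) := by
  classical
  apply le_antisymm _ Inn_le_innD
  intro β hβ
  obtain ⟨g, hg, rfl⟩ := exists_of_mem_inndiag' β hβ
  have hex := hex_plus (F := F) (m := m) (by omega)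
  have hQ := QfPlus_nondeg (F := F) m
  obtain ⟨l, s, hmat, hcG⟩ := exists_scal_mul h2F (QfPlus m F) hex g
  rw [hcG]
  apply cAut_mem_Inn
  have hgs : g = scal (QfPlus m F) l * oGO (QfPlus m F) s := by
    apply Subtype.ext
    apply Units.ext
    rw [hmat]
    show _ = ((scal (QfPlus m F) l : GL (Fin m ⊕ Fin m) F) :
        Matrix (Fin m ⊕ Fin m) (Fin m ⊕ Fin m) F) *
      ((s : GL (Fin m ⊕ Fin m) F) : Matrix (Fin m ⊕ Fin m) (Fin m ⊕ Fin m) F)
    rw [scal_val, Matrix.smul_mul, Matrix.one_mul]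
  have hcls : cls (oGO (QfPlus m F) s) = 0 := by
    rw [hgs, cls_mul, cls_scal, zero_add] at hg
    exact hg
  have hcard : Fintype.card (Fin m ⊕ Fin m) ≠ 4 := by
    rw [Fintype.card_sum, Fintype.card_fin]; omega
  have hidx := Cfsg.Agent.Helper28.CD2.index_Omega (QfPlus m F) h2F hQ (Or.inr hcard)
    ⟨Sum.inl ⟨0, by omega⟩⟩
  obtain ⟨v, hv⟩ := hex
  have hr := Cfsg.Agent.Helper28.CD2.reflO_not_mem_Omega (QfPlus m F) h2F hQ v hv
  by_contra hs
  have h3 : s * reflO (QfPlus m F) v hv ∈ Cfsg.Omega F ⇑(QfPlus m F) :=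
    (Subgroup.mul_mem_iff_of_index_two hidx).2 (by tauto)
  have h4 := cls_oGO_of_mem_Omega _ h3
  rw [map_mul, cls_mul, hcls, zero_add] at h4
  have h5 := cls_oGO_reflO v hv
  rw [h5] at h4
  exact one_ne_zero h4

/-- in characteristic two no class splits -/
theorem split_char_two (h2F : (2 : F) = 0) (hm : 3 ≤ m)
    (x : MulAut (Cfsg.POmega F ⇑(QfPlus m F))) :
    Cfsg.splitClassCount (innD m F) (Cfsg.Inn (Cfsg.POmega F ⇑(QfPlus m F))) x = 1 := by
  rw [innD_eq_Inn_char_two h2F hm]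
  exact splitClassCount_self _ x

end Cfsg.Agent.Helper7.PlusG
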