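import Mathlib
import Cfsg.Agent.Helper7.S5655.Defs4
import Cfsg.Agent.Helper7.S5655.MonoLib

/-! # S5655 `k = 1`, piece U2POW -/

set_option autoImplicit false

namespace Cfsg.Agent.S5655K1

open Matrix
open Cfsg.Agent.S2644 Cfsg.Agent.Helper2.SUGen Cfsg.Agent.Helper28.SimMax Cfsg.Agent.MonoP

variable {K : Type*} [Field K] {q n : ℕ}

namespace U2POW

/-- Cayley-Hamilton for `2 × 2` matrices -/
theorem cayley (B : Matrix (Fin 2) (Fin 2) K) : B * B = B.trace • B - B.det • (1 : Matrix (Fin 2) (Fin 2) K) := by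
  ext i j
  fin_cases i <;> fin_cases j <;>
    simp [Matrix.mul_apply, Fin.sum_univ_two, Matrix.trace_fin_two, Matrix.det_fin_two] <;> ring

theorem pow_unip (B : Matrix (Fin 2) (Fin 2) K) (hB : B * B = (2 : K) • B - 1) (k : ℕ) :
    B ^ (k + 1) = ((k : K) + 1) • B - (k : K) • (1 : Matrix (Fin 2) (Fin 2) K) := by
  induction k with
  | zero => simp
  | succ k ih =>
    rw [pow_succ, ih, Matrix.sub_mul, Matrix.smul_mul, Matrix.smul_mul, hB, Matrix.one_mul]
    push_cast
    module

theorem cast_q_eq_zero [Fintype K] (hK : Fintype.card K = q ^ 2) : (q : K) = 0 := by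
  have h1 : ((Fintype.card K : ℕ) : K) = 0 := Nat.cast_card_eq_zero K
  rw [hK] at h1
  push_cast at h1
  exact pow_eq_zero_iff (two_ne_zero) |>.mp h1

end U2POW

theorem U2POW.eq (D : Frob K q) [Fintype K] (hK : Fintype.card K = q ^ 2) (g : Matrix (Fin 2) (Fin 2) K)
    (x : K) (hx : IsU D x) (hdet : g.det = x ^ 2) (htr : g.trace = 2 * x) :
    g ^ (q + 1) = x⁻¹ • g := by
  have hx0 : x ≠ 0 := IsU.ne_zero D hx
  set B := x⁻¹ • g with hB
  have hg : g = x • B := by
    rw [hB, smul_smul, mul_inv_cancel₀ hx0, one_smul]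
  have htrB : B.trace = 2 := by
    rw [hB, Matrix.trace_smul, htr, smul_eq_mul]
    field_simp
  have hdetB : B.det = 1 := by
    rw [hB, Matrix.det_smul, hdet, Fintype.card_fin]
    field_simp
  have hBB : B * B = (2 : K) • B - 1 := by
    rw [U2POW.cayley B, htrB, hdetB, one_smul]
  have hpow := U2POW.pow_unip B hBB q
  rw [U2POW.cast_q_eq_zero hK, zero_add, one_smul, zero_smul, sub_zero] at hpow
  have hxq : x ^ (q + 1) = 1 := by
    rw [pow_succ, ← D.pow, mul_comm]
    exact hx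
  rw [hg, smul_pow, hxq, one_smul, hpow]

end Cfsg.Agent.S5655K1
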