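import Mathlib
import Cfsg.Agent.Helper7.S5655.Defs4
import Cfsg.Agent.Helper7.S5655.MonoLib

/-! # S5655 `k = 1`, piece U2TRANS -/

set_option autoImplicit false

namespace Cfsg.Agent.S5655K1

open Matrix
open Cfsg.Agent.S2644 Cfsg.Agent.Helper2.SUGen Cfsg.Agent.Helper28.SimMax Cfsg.Agent.MonoP

variable {K : Type*} [Field K] {q n : ℕ}

local notation "h₂" => Cfsg.hermForm 2 K q
local notation "T₂" => Cfsg.unitaryTransvection 2 q

namespace U2TRANS

theorem h2_eq (D : Frob K q) (x y : Fin 2 → K) : h₂ x y = x 0 * D.σ (y 0) + x 1 * D.σ (y 1) := by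
  rw [h_apply_sigma D, Fin.sum_univ_two]

theorem coords_ne (D : Frob K q) (p : Fin 2 → K) (hp : p ≠ 0) (hpp : h₂ p p = 0) : p 0 ≠ 0 ∧ p 1 ≠ 0 := by
  rw [h2_eq D] at hpp
  constructor
  · intro h0
    rw [h0, zero_mul, zero_add] at hpp
    have h1 : p 1 = 0 := by
      rcases mul_eq_zero.mp hpp with h | h
      · exact h
      · by_contra hne
        exact σ_ne_zero D hne h
    apply hp
    funext i
    fin_cases i
    · exact h0
    · exact h1
  · intro h1
    rw [h1, zero_mul, add_zero] at hpp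
    have h0 : p 0 = 0 := by
      rcases mul_eq_zero.mp hpp with h | h
      · exact h
      · by_contra hne
        exact σ_ne_zero D hne h
    apply hp
    funext i
    fin_cases i
    · exact h0
    · exact h1

end U2TRANS

theorem U2TRANS.exists (D : Frob K q) (p p' : Fin 2 → K) (hp : p ≠ 0) (hp' : p' ≠ 0) (hpp : h₂ p p = 0)
    (hpp' : h₂ p' p' = 0) :
    ∃ ε l : K, IsU D ε ∧ l ≠ 0 ∧ T₂ ![1, 0] (ε - 1) *ᵥ p = l • p' := by
  obtain ⟨hp0, hp1⟩ := U2TRANS.coords_ne D p hp hpp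
  obtain ⟨hp0', hp1'⟩ := U2TRANS.coords_ne D p' hp' hpp'
  rw [U2TRANS.h2_eq D] at hpp hpp'
  have hs0 := σ_ne_zero D hp0
  have hs1 := σ_ne_zero D hp1
  have hs0' := σ_ne_zero D hp0'
  have hs1' := σ_ne_zero D hp1'
  refine ⟨p 1 / p' 1 * p' 0 / p 0, p 1 / p' 1, ?_, div_ne_zero hp1 hp1', ?_⟩
  · unfold IsU
    rw [map_div₀, map_mul, map_div₀]
    field_simp
    have e1 : p 1 * D.σ (p 1) = -(p 0 * D.σ (p 0)) := by linear_combination hpp
    have e2 : p' 1 * D.σ (p' 1) = -(p' 0 * D.σ (p' 0)) := by linear_combination hpp'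
    linear_combination (p' 0 * D.σ (p' 0)) * e1 - (p 0 * D.σ (p 0)) * e2
  · rw [T_mulVec, U2TRANS.h2_eq D]
    funext i
    fin_cases i
    · simp only [Matrix.cons_val_zero, Matrix.cons_val_one, map_one, map_zero, mul_one, mul_zero,
        add_zero, Fin.zero_eta, Pi.add_apply, Pi.smul_apply, smul_eq_mul]
      field_simp
      ring
    · simp only [Matrix.cons_val_zero, Matrix.cons_val_one, map_one, map_zero, mul_one, mul_zero,
        add_zero, Fin.mk_one, Pi.add_apply, Pi.smul_apply, smul_eq_mul]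
      field_simp

end Cfsg.Agent.S5655K1
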