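import Mathlib
import Cfsg.Agent.Helper7.S5655.Defs4
import Cfsg.Agent.Helper7.S5655.MonoLib
import Cfsg.Agent.Helper17.S5655CT

/-! # S5655 `k = 1`, piece U2UNIP -/

set_option autoImplicit false

namespace Cfsg.Agent.S5655K1

open Matrix
open Cfsg.Agent.S2644 Cfsg.Agent.Helper2.SUGen Cfsg.Agent.Helper28.SimMax Cfsg.Agent.MonoP

variable {K : Type*} [Field K] {q n : ℕ}

local notation "h₂" => Cfsg.hermForm 2 K q
local notation "T₂" => Cfsg.unitaryTransvection 2 q

namespace U2UNIP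

theorem h2_eq (D : Frob K q) (x y : Fin 2 → K) : h₂ x y = x 0 * D.σ (y 0) + x 1 * D.σ (y 1) := by
  rw [h_apply_sigma D, Fin.sum_univ_two]

/-- entries of a transvection of `K²` -/
theorem T2_apply (D : Frob K q) (p : Fin 2 → K) (c : K) (i j : Fin 2) :
    T₂ p c i j = (1 : Matrix (Fin 2) (Fin 2) K) i j + c * (p i * D.σ (p j)) := by
  unfold Cfsg.unitaryTransvection
  rw [Matrix.add_apply, Matrix.smul_apply, Matrix.vecMulVec_apply, D.pow, smul_eq_mul]

end U2UNIP

theorem U2UNIP.form (D : Frob K q) (B : Matrix (Fin 2) (Fin 2) K) (hB : Pres (q := q) B) (hdet : B.det = 1)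
    (htr : B.trace = 2) (hne : B ≠ 1) :
    ∃ (p : Fin 2 → K) (c : K), p ≠ 0 ∧ h₂ p p = 0 ∧ D.σ c = -c ∧ c ≠ 0 ∧ B = T₂ p c := by
  obtain ⟨h1, h2⟩ := CT.mul_self D hB
  -- the inverse is the adjugate
  have hadj : ct D B = B.adjugate := by
    calc ct D B = ct D B * (B * B.adjugate) := by
          rw [Matrix.mul_adjugate, hdet, one_smul, Matrix.mul_one]
      _ = B.adjugate := by rw [← Matrix.mul_assoc, h1, Matrix.one_mul]
  rw [Matrix.adjugate_fin_two] at hadj
  have e00 := congrFun (congrFun hadj 0) 0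
  have e01 := congrFun (congrFun hadj 0) 1
  have e10 := congrFun (congrFun hadj 1) 0
  have e11 := congrFun (congrFun hadj 1) 1
  simp only [ct_apply, Matrix.of_apply, Matrix.cons_val_zero, Matrix.cons_val_one,
    Matrix.cons_val', Matrix.cons_val_fin_one] at e00 e01 e10 e11
  rw [Matrix.trace_fin_two] at htr
  rw [Matrix.det_fin_two] at hdet
  set s := B 0 0 - 1 with hs
  set b := B 0 1 with hb
  have hB00 : B 0 0 = 1 + s := by rw [hs]; ring
  have hB11 : B 1 1 = 1 - s := by rw [hs]; linear_combination htr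
  have hB10 : B 1 0 = -D.σ b := by
    have := congrArg D.σ e01
    rw [D.invol, map_neg] at this
    exact this
  have hσs : D.σ s = -s := by
    rw [hB00, hB11] at e00
    rw [map_add, map_one] at e00
    linear_combination e00
  have hss : s * s = b * D.σ b := by
    rw [hB00, hB11, hB10] at hdet
    linear_combination -hdet
  have hs0 : s ≠ 0 := by
    intro h0
    have hb0 : b = 0 := by
      rw [h0, mul_zero] at hss
      rcases mul_eq_zero.mp hss.symm with h | h
      · exact h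
      · by_contra hne'
        exact σ_ne_zero D hne' h
    apply hne
    ext i j
    fin_cases i <;> fin_cases j
    · simp only [Fin.zero_eta, Matrix.one_apply_eq]; rw [hB00, h0, add_zero]
    · simp only [Fin.zero_eta, Fin.mk_one]
      rw [Matrix.one_apply_ne (by decide)]; exact hb0
    · simp only [Fin.zero_eta, Fin.mk_one]
      rw [Matrix.one_apply_ne (by decide), hB10, hb0, map_zero, neg_zero]
    · simp only [Fin.mk_one, Matrix.one_apply_eq]; rw [hB11, h0, sub_zero]
  refine ⟨![s, -D.σ b], -s⁻¹, ?_, ?_, ?_, ?_, ?_⟩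
  · intro h0
    have := congrFun h0 0
    simp at this
    exact hs0 this
  · rw [U2UNIP.h2_eq D]
    simp only [Matrix.cons_val_zero, Matrix.cons_val_one, map_neg, D.invol]
    rw [hσs]
    linear_combination -hss
  · rw [map_neg, map_inv₀, hσs]
    field_simp
  · exact neg_ne_zero.mpr (inv_ne_zero hs0)
  · have p0 : (![s, -D.σ b] : Fin 2 → K) 0 = s := rfl
    have p1 : (![s, -D.σ b] : Fin 2 → K) 1 = -D.σ b := rfl
    have hinv : s⁻¹ * s = 1 := inv_mul_cancel₀ hs0
    ext i j
    rw [U2UNIP.T2_apply D]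
    fin_cases i <;> fin_cases j
    · show B 0 0 = (1 : Matrix (Fin 2) (Fin 2) K) 0 0 + -s⁻¹ * ((![s, -D.σ b] : Fin 2 → K) 0 * D.σ ((![s, -D.σ b] : Fin 2 → K) 0))
      rw [p0, Matrix.one_apply_eq, hB00, hσs]
      linear_combination (-s) * hinv
    · show B 0 1 = (1 : Matrix (Fin 2) (Fin 2) K) 0 1 + -s⁻¹ * ((![s, -D.σ b] : Fin 2 → K) 0 * D.σ ((![s, -D.σ b] : Fin 2 → K) 1))
      rw [p0, p1, Matrix.one_apply_ne (by decide), map_neg, D.invol, ← hb]
      linear_combination (-b) * hinv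
    · show B 1 0 = (1 : Matrix (Fin 2) (Fin 2) K) 1 0 + -s⁻¹ * ((![s, -D.σ b] : Fin 2 → K) 1 * D.σ ((![s, -D.σ b] : Fin 2 → K) 0))
      rw [p0, p1, Matrix.one_apply_ne (by decide), hB10, hσs]
      linear_combination (D.σ b) * hinv
    · show B 1 1 = (1 : Matrix (Fin 2) (Fin 2) K) 1 1 + -s⁻¹ * ((![s, -D.σ b] : Fin 2 → K) 1 * D.σ ((![s, -D.σ b] : Fin 2 → K) 1))
      rw [p1, Matrix.one_apply_eq, hB11, map_neg, D.invol]
      linear_combination (s) * hinv - s⁻¹ * hss

end Cfsg.Agent.S5655K1
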