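import Mathlib
import Cfsg.Agent.Helper7.S5655.Defs4
import Cfsg.Agent.Helper7.S5655.MonoLib
import Cfsg.Agent.Helper25.S5655SECFULL
import Cfsg.Agent.Helper28.S5655QR

/-! # S5655 `k = 1`, piece U2GEN (hedge by helper7) -/

set_option autoImplicit false

namespace Cfsg.Agent.S5655K1

open Matrix Module
open Cfsg.Agent.S2644 Cfsg.Agent.Helper2.SUGen Cfsg.Agent.Helper28.SimMax Cfsg.Agent.MonoP

variable {K : Type*} [Field K] {q n : ℕ}

local notation "h₂" => Cfsg.hermForm 2 K q
local notation "T₂" => Cfsg.unitaryTransvection 2 q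

namespace U2GEN

theorem h2_eq (D : Frob K q) (x y : Fin 2 → K) : h₂ x y = x 0 * D.σ (y 0) + x 1 * D.σ (y 1) := by
  rw [h_apply_sigma D, Fin.sum_univ_two]

/-- a vector of `K²` orthogonal to a hyperbolic pair is zero -/
theorem eq_zero_of_perp (D : Frob K q) {u v : Fin 2 → K} (H : HypPair q u v) {z : Fin 2 → K}
    (h1 : h₂ z u = 0) (h2 : h₂ z v = 0) : z = 0 := by
  have hli : LinearIndependent K ![u, v] := by
    rw [LinearIndependent.pair_iff]
    intro s t hst
    have e1 := congrArg (fun x => h₂ x v) hst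
    have e2 := congrArg (fun x => h₂ x u) hst
    simp only [h_add_left, h_smul_left, H.huv, H.hvv, H.huu, H.hvu, h_zero_left, mul_one, mul_zero,
      add_zero, zero_add] at e1 e2
    exact ⟨e1, e2⟩
  have hspan : Submodule.span K (Set.range ![u, v]) = ⊤ := by
    apply Submodule.eq_top_of_finrank_eq
    rw [finrank_span_eq_card hli, Fintype.card_fin, Module.finrank_fin_fun]
  have hrange : Set.range ![u, v] = ({u, v} : Set (Fin 2 → K)) := by
    ext x
    simp only [Set.mem_range, Set.mem_insert_iff, Set.mem_singleton_iff]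
    constructor
    · rintro ⟨i, rfl⟩
      fin_cases i
      · left; rfl
      · right; rfl
    · rintro (rfl | rfl)
      · exact ⟨0, rfl⟩
      · exact ⟨1, rfl⟩
  rw [hrange] at hspan
  apply h_nondeg D
  intro y
  have hy : y ∈ Submodule.span K ({u, v} : Set (Fin 2 → K)) := by rw [hspan]; trivial
  exact perp_span_pair D h1 h2 y hy

end U2GEN

theorem U2GEN.main (D : Frob K q) [Fintype K] (hK : Fintype.card K = q ^ 2)
    (S : Subgroup (Matrix.GeneralLinearGroup (Fin 2) K))
    (hT : ∀ (p : Fin 2 → K) (c : K), h₂ p p = 0 → D.σ c = -c → T₂ p c ∈ MS S) (hRe : HasR D S ![1, 0]) :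
    ∀ B : Matrix (Fin 2) (Fin 2) K, Pres (q := q) B → B ∈ MS S := by
  have hd : 2 ≤ finrank K (⊤ : Submodule K (Fin 2 → K)) := by
    rw [finrank_top, Module.finrank_fin_fun]
  obtain ⟨u, -, v, -, -, huu, hvv, huv, hvu⟩ := exists_hyp_pair D (nonDeg_top D) hd
  have H : HypPair q u v := ⟨huu, hvv, huv, hvu⟩
  -- determinant one
  have hTT : ∀ X : Matrix (Fin 2) (Fin 2) K,
      X ∈ TT D (Submodule.span K ({u, v} : Set (Fin 2 → K))) → X ∈ MS S := by
    intro X hmem
    unfold TT at hmem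
    induction hmem using Submonoid.closure_induction with
    | mem x hx =>
      obtain ⟨p, c, -, hpp, hc, rfl⟩ := hx
      exact hT p c hpp hc
    | one => exact ⟨1, S.one_mem, rfl⟩
    | mul x y _ _ hx hy => exact MS_mul hx hy
  have hSU : ∀ B : Matrix (Fin 2) (Fin 2) K, Pres (q := q) B → B.det = 1 → B ∈ MS S := by
    intro B hB hdet
    exact hTT B (plane_gen D H hB hdet (fun z h1 h2 => by
      rw [U2GEN.eq_zero_of_perp D H h1 h2, Matrix.mulVec_zero]))
  intro B hB
  have hδ : IsU D B.det := SECFULL.isU_det D hB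
  have hδ0 : B.det ≠ 0 := IsU.ne_zero D hδ
  have he0 : h₂ ![1, 0] ![1, 0] = 1 := by
    rw [U2GEN.h2_eq D]
    simp
  have hU : IsU D (1 + (B.det⁻¹ - 1)) := by
    have : (1 : K) + (B.det⁻¹ - 1) = B.det⁻¹ := by ring
    rw [this]
    exact IsU.inv D hδ
  have hR : T₂ ![1, 0] (B.det⁻¹ - 1) ∈ MS S := hRe _ hU
  have hRP : Pres (q := q) (T₂ ![1, 0] (B.det⁻¹ - 1)) := by
    apply QR.pres D
    rw [he0]
    unfold IsU at hU
    rw [map_add, map_one] at hU
    linear_combination hU
  have hB' : B * T₂ ![1, 0] (B.det⁻¹ - 1) ∈ MS S := by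
    apply hSU _ (hB.mul hRP)
    rw [Matrix.det_mul, det_T', he0]
    field_simp
    ring
  exact Cfsg.Agent.S5658P.MS_of_mul_right hR hB'

end Cfsg.Agent.S5655K1
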