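import Cfsg.Agent.Helper28.S5700.Lib
import Cfsg.Agent.Helper23.S5700CONN
import Cfsg.Agent.Helper22.S5700LOCW

set_option autoImplicit false
set_option linter.unusedSectionVars false
set_option linter.unusedVariables false

/-! # S5700 piece PROP: `Good` spreads to all singular points -/

namespace Cfsg.Agent.S5700P

open Matrix Module Cfsg.Agent.Helper28.Sg Cfsg.Agent.Helper28.Spin Cfsg.Agent.Helper12.OrthGen

variable {F : Type*} [Field F] [Fintype F] {ι : Type} [Fintype ι] [DecidableEq ι]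
  {Q : QuadraticForm F (ι → F)} {J : Matrix ι ι F} {t p : F}

/-- one step: `Good b`, `y` singular `≠ 0`, `hperp y b`, `y ∉ K b` ⇒ `Good y` -/
theorem PROP.step (U : UData Q J t p) (hQ : (QuadraticMap.polarBilin Q).Nondegenerate)
    (hn : 14 ≤ Fintype.card ι) (M : Subgroup ↥(Cfsg.isometryGroup F ⇑Q)) (hM : KPt J M)
    {b : ι → F} (hb : Q b = 0) (hb0 : b ≠ 0) (hgood : Good J M b hb) {y : ι → F} (hy : Q y = 0)
    (hy0 : y ≠ 0) (hyb : hperp Q J y b) (hyK : ¬ InK J b y) : Good J M y hy := by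
  have h1 : y ∈ RR M b hb := hgood y hyb
  have h2 : b ∈ RR M y hy := RR_swap hy h1
  have h3 : ¬ InK J y b := fun h => hyK (h.symm U hb0)
  exact LOCW.good U hQ hn M hM hy hy0 hb (hyb.symm U) h3 h2

theorem PROP.good_all (U : UData Q J t p) (hQ : (QuadraticMap.polarBilin Q).Nondegenerate)
    (hn : 14 ≤ Fintype.card ι) (M : Subgroup ↥(Cfsg.isometryGroup F ⇑Q)) (hM : KPt J M)
    {b₀ : ι → F} (hb₀ : Q b₀ = 0) (hb₀0 : b₀ ≠ 0) (hgood : Good J M b₀ hb₀) :
    ∀ (b : ι → F) (hb : Q b = 0), b ≠ 0 → Good J M b hb := by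
  intro b hb hb0
  obtain ⟨y, hy, hy0, hyb₀, hyb, hyK₀, hyK⟩ := CONN.exists_conn U hQ hn b₀ b
  have hgy : Good J M y hy := PROP.step U hQ hn M hM hb₀ hb₀0 hgood hy hy0 hyb₀ hyK₀
  have h3 : ¬ InK J y b := fun h => hyK (h.symm U hb0)
  exact PROP.step U hQ hn M hM hy hy0 hgy hb hb0 (hyb.symm U) h3

end Cfsg.Agent.S5700P
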