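import Cfsg.Agent.Helper28.S5700.Lib
import Cfsg.Agent.Helper25.S5700DUAL
import Cfsg.Agent.Helper5.S5700EXK

set_option autoImplicit false
set_option linter.unusedSectionVars false
set_option linter.unusedVariables false

/-! # S5700 piece TYPE1: from all type `0` lines to all root lines -/

namespace Cfsg.Agent.S5700P

open Matrix Module Cfsg.Agent.Helper28.Sg Cfsg.Agent.Helper28.Spin Cfsg.Agent.Helper12.OrthGen

variable {F : Type*} [Field F] [Fintype F] {ι : Type} [Fintype ι] [DecidableEq ι]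
  {Q : QuadraticForm F (ι → F)} {J : Matrix ι ι F} {t p : F}

theorem TYPE1.full (U : UData Q J t p) (hQ : (QuadraticMap.polarBilin Q).Nondegenerate)
    (hn : 14 ≤ Fintype.card ι) (M : Subgroup ↥(Cfsg.isometryGroup F ⇑Q)) (hM : KPt J M)
    (hgood : ∀ (b : ι → F) (hb : Q b = 0), b ≠ 0 → Good J M b hb) :
    ∀ (b : ι → F) (hb : Q b = 0), b ≠ 0 → ∀ x : ι → F, B Q b x = 0 → x ∈ RR M b hb := by
  intro b hb hb0 x hbx
  -- a singular `e₁` with `B b e₁ = 0`, `B (J b) e₁ = 1`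
  obtain ⟨z₀, hz1, hz2⟩ := DUAL.exists_dual2 U hQ hb0 0 1
  obtain ⟨w₁, w₂, hw1, hw2, hw12, hbw1, hbw2⟩ := EXK.K1 hQ hn J b
  obtain ⟨c₁, c₂, he1Q⟩ := exists_singular_add hw1 hw2 hw12 z₀
  set e₁ : ι → F := z₀ + c₁ • w₁ + c₂ • w₂ with he₁
  have hbe1 : B Q b e₁ = 0 := by
    rw [he₁, B_add_right, B_add_right, B_smul_right, B_smul_right, hz1, hbw1.1, hbw2.1]; ring
  have hJbe1 : B Q (J *ᵥ b) e₁ = 1 := by
    rw [he₁, B_add_right, B_add_right, B_smul_right, B_smul_right, hz2, hbw1.2, hbw2.2]; ring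
  have he10 : e₁ ≠ 0 := by
    intro h0
    rw [h0, B_zero_right] at hJbe1
    exact zero_ne_one hJbe1
  -- a hyperbolic pair `e₂, a`, `h`-orthogonal to `b` and `e₁`
  obtain ⟨e₂, a, he2Q, haQ, he2a, hbe2, hba, he1e2, he1a⟩ := EXK.K2 hQ hn J b e₁
  have h1 : e₂ ∈ RR M e₁ he1Q := hgood e₁ he1Q he10 e₂ (he1e2.symm U)
  have h2 : a ∈ RR M b hb := hgood b hb hb0 a (hba.symm U)
  have h3 := RR_comm2 (M := M) he1Q he2Q hb he1e2.1 hbe1 hbe2.1 h1 h2
  rw [he2a, he1a.1, one_smul, zero_smul, sub_zero] at h3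
  -- the decomposition of `x`
  set c : F := B Q (J *ᵥ b) x with hc
  have hx' : hperp Q J (x - c • e₁) b := by
    have hxb : B Q x b = 0 := by rw [B_comm]; exact hbx
    have he1b : B Q e₁ b = 0 := by rw [B_comm]; exact hbe1
    have g1 : B Q (x - c • e₁) b = 0 := by
      rw [B_sub_left, B_smul_left, hxb, he1b]; ring
    refine ⟨g1, ?_⟩
    rw [U.adj, g1, B_sub_left, B_smul_left, B_comm Q x, B_comm Q e₁, hJbe1, ← hc]; ring
  have h4 : x - c • e₁ ∈ RR M b hb := hgood b hb hb0 _ hx'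
  have h5 := (RR M b hb).add_mem h4 ((RR M b hb).smul_mem c h3)
  rwa [sub_add_cancel] at h5

end Cfsg.Agent.S5700P
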