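import Mathlib
import Cfsg.Prelude.Def_GeometricClasses
import Cfsg.Prelude.Def_Classical
import Cfsg.Prelude.Def_LieClassical
import Cfsg.Agent.Helper27.S5989Defs
import Cfsg.Agent.Helper27.S5991Defs
import Cfsg.Agent.Helper28.Spin6
import Cfsg.Agent.Helper21.OCa
import Cfsg.Agent.S2171

/-! S5991 piece MINUSTOP (helper7): the standard minus form is nondegenerate and not of plus type. -/

set_option autoImplicit false
open scoped MatrixGroups
universe u

namespace Cfsg.Agent.S5989P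

open Cfsg.Agent.Helper2.SympInvol Cfsg.Agent.Helper2.SympUnits Cfsg.Agent.S5961P
  Cfsg.Agent.S5992P Cfsg.Agent.Helper28.Spin

/-- MINUSTOP -/
theorem minus_top_QfMinus {F : Type*} [Field F] [Fintype F] (h2 : (2 : F) ≠ 0) (k : ℕ) (a b : F)
    (hab : ∀ x y : F, x ^ 2 + a * x * y + b * y ^ 2 = 0 → x = 0 ∧ y = 0) :
    (QuadraticMap.polarBilin (QfMinus k F a b)).Nondegenerate ∧ ¬ Plus (QfMinus k F a b) ⊤ := by
  have hdisc : 4 * b - a ^ 2 ≠ 0 := by
    intro h
    have := hab (-a / 2) 1 (by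
      field_simp
      linear_combination h)
    exact one_ne_zero this.2
  have hnd := Cfsg.Agent.S2171.QfMinus_nondeg_of k a b hdisc
  refine ⟨hnd, ?_⟩
  rintro ⟨U, -, hTS, hdim⟩
  apply Cfsg.Agent.Helper21.OC.not_plus_QfMinus k (a := a) (b := b) hab hnd
  exact ⟨U, hTS, by rw [hdim, finrank_top]⟩

end Cfsg.Agent.S5989P
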