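import Mathlib
import Cfsg.Prelude.Def_GeometricClasses
import Cfsg.Prelude.Def_Classical
import Cfsg.Prelude.Def_LieClassical
import Cfsg.Agent.Helper27.S5989Defs
import Cfsg.Agent.Helper27.S5991Defs
import Cfsg.Agent.Helper7.S5992STDTRANS
import Cfsg.Agent.Helper7.S5989STDTRANSE
import Cfsg.Agent.Helper7.S5989CONJMAT
import Cfsg.Agent.Helper7.S5989OMEGAODDG

/-! S5991 piece STDUNIP (helper7): transport of an abstract odd-order isometry into `omegaGL Q₀`. -/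

set_option autoImplicit false
open scoped MatrixGroups
universe u

namespace Cfsg.Agent.S5989P

open Cfsg.Agent.Helper2.SympInvol Cfsg.Agent.Helper2.SympUnits Cfsg.Agent.S5961P
  Cfsg.Agent.S5992P

/-- STDUNIP -/
theorem exists_std_unip {F V : Type*} [Field F] [Fintype F] [AddCommGroup V] [Module F V]
    [FiniteDimensional F V] (h2 : (2 : F) ≠ 0) (Q : QuadraticForm F V) (hnd : Nondeg (PB Q) ⊤)
    (x : Module.End F V) (hxQ : ∀ v, Q (x v) = Q v) (n : ℕ) (hn : Odd n) (hxn : x ^ n = 1)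
    {ι : Type} [Fintype ι] [DecidableEq ι] (Q₀ : QuadraticForm F (ι → F))
    (hQ₀ : (QuadraticMap.polarBilin Q₀).Nondegenerate)
    (hdim : Module.finrank F V = Fintype.card ι) (hev : Even (Fintype.card ι))
    (hcard : 2 ≤ Fintype.card ι) (hty : Plus Q ⊤ ↔ Plus Q₀ ⊤) :
    ∃ (g : GL ι F) (e : V ≃ₗ[F] (ι → F)), g ∈ Cfsg.Geo.omegaGL ⇑Q₀ ∧ g ^ n = 1 ∧
      (∀ v, Q₀ (e v) = Q v) ∧ (∀ v, e (x v) = Matrix.toLin' (g : Matrix ι ι F) (e v)) ∧
      ∀ j : ℕ, Module.finrank F (LinearMap.ker ((Matrix.toLin' (g : Matrix ι ι F) - 1) ^ j)) =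
        Module.finrank F (LinearMap.ker ((x - 1) ^ j)) := by
  obtain ⟨e, he⟩ := exists_std_of_space_even h2 Q hnd Q₀ hQ₀ hdim hev hty
  have hinj : Function.Injective x := STDTRANS.injective_of_isom Q x hnd hxQ
  obtain ⟨g, hgiso, hconj, hpow, hker⟩ := exists_matrix_of_conj Q x hxQ hinj Q₀ e he
  exact ⟨g, e, mem_omegaGL_of_odd_gen h2 Q₀ hQ₀ hcard g hgiso n hn (hpow n hxn), hpow n hxn, he,
    hconj, hker⟩

end Cfsg.Agent.S5989P
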