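import Mathlib
import Cfsg.Prelude.Def_GeometricClasses
import Cfsg.Prelude.Def_Classical
import Cfsg.Prelude.Def_LieClassical
import Cfsg.Agent.Helper6.S5992Defs
import Cfsg.Agent.Helper8.S5992DISCBASIS
import Cfsg.Agent.Helper25.S5992RESTRYO
import Cfsg.Agent.Helper21.OCa

/-! S5992 (helper7): direct proof of the CARDSING count from `Helper21.OC.nsing_of_plus` /
`nsing_of_not_plus` (backup for the piece CARDSING; the statement is in the sub-namespace
`CARDSINGD` so that it does not clash with the piece itself). -/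

set_option autoImplicit false
open scoped MatrixGroups
universe u

namespace Cfsg.Agent.S5992P

open Cfsg.Agent.Helper2.SympInvol Cfsg.Agent.Helper2.SympUnits Cfsg.Agent.S5961P Cfsg.Agent.S2614
  Cfsg.Agent.S5955P

namespace CARDSINGD

variable {F V : Type*} [Field F] [AddCommGroup V] [Module F V]

theorem nondegenerate_comp (Q : QuadraticForm F V) (W : Submodule F V) (hW : Nondeg (PB Q) W) :
    (QuadraticMap.polarBilin (Q.comp W.subtype)).Nondegenerate := by
  have h := (DISCBASIS.nondeg_iff_nondegenerate Q W).1 hW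
  have he : QuadraticMap.polarBilin (Q.comp W.subtype) = (PB Q).restrict W := by
    apply LinearMap.ext
    intro u
    apply LinearMap.ext
    intro v
    exact restryo_PB Q W u v
  rw [he]
  exact h

theorem plus_comp_iff [FiniteDimensional F V] (Q : QuadraticForm F V) (W : Submodule F V) :
    Cfsg.Agent.Helper21.OC.Plus (Q.comp W.subtype) ↔ Plus Q W := by
  constructor
  · rintro ⟨T, hT, hd⟩
    refine ⟨T.map W.subtype, ?_, ?_, ?_⟩
    · rintro _ ⟨w, -, rfl⟩
      exact w.2
    · rintro _ ⟨w, hw, rfl⟩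
      exact hT w hw
    · rw [← hd]
      congr 1
      exact (Submodule.equivSubtypeMap W T).symm.finrank_eq
  · rintro ⟨U, hUW, hTS, hd⟩
    refine ⟨U.comap W.subtype, ?_, ?_⟩
    · intro w hw
      exact hTS _ hw
    · rw [← hd]
      congr 1
      exact (Submodule.comapSubtypeEquivOfLe hUW).finrank_eq

/-- CARDSING, direct version -/
theorem card_singular_of_ty' [Fintype F] [FiniteDimensional F V] {q : ℕ}
    (hq : Fintype.card F = q) (h2 : (2 : F) ≠ 0)
    (Q : QuadraticForm F V) (W : Submodule F V) (hW : Nondeg (PB Q) W) (a : ℕ) (ha : 1 ≤ a)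
    (hdim : Module.finrank F W = 2 * a) :
    (Plus Q W → Nat.card {w : W // w ≠ 0 ∧ Q (w : V) = 0} = (q ^ a - 1) * (q ^ (a - 1) + 1)) ∧
    (¬ Plus Q W → Nat.card {w : W // w ≠ 0 ∧ Q (w : V) = 0} = (q ^ a + 1) * (q ^ (a - 1) - 1)) := by
  classical
  have hq1 : 1 < q := by rw [← hq]; exact Fintype.one_lt_card
  have hnd := nondegenerate_comp Q W hW
  -- all singular vectors = nonzero singular vectors + 1
  have hcount : Cfsg.Agent.Helper21.OC.nsing (Q.comp W.subtype) =
      Nat.card {w : W // w ≠ 0 ∧ Q (w : V) = 0} + 1 := by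
    unfold Cfsg.Agent.Helper21.OC.nsing
    have hfin : Finite W := Module.finite_of_finite F
    have hsplit : {w : W | (Q.comp W.subtype) w = 0} =
        insert (0 : W) {w : W | w ≠ 0 ∧ Q (w : V) = 0} := by
      ext w
      rw [Set.mem_insert_iff, Set.mem_ofPred_eq, Set.mem_ofPred_eq, QuadraticMap.comp_apply,
        Submodule.subtype_apply]
      constructor
      · intro h
        by_cases hw : w = 0
        · exact Or.inl hw
        · exact Or.inr ⟨hw, h⟩
      · rintro (rfl | ⟨-, h⟩)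
        · rw [Submodule.coe_zero, map_zero]
        · exact h
    have h0 : (0 : W) ∉ {w : W | w ≠ 0 ∧ Q (w : V) = 0} := fun h => h.1 rfl
    have := Set.ncard_insert_of_notMem h0 (Set.toFinite _)
    rw [← hsplit] at this
    rw [← Nat.card_coe_set_eq, ← Nat.card_coe_set_eq] at this
    exact this
  obtain ⟨a', rfl⟩ : ∃ a', a = a' + 1 := ⟨a - 1, by omega⟩
  have hqa : 1 ≤ q ^ a' := Nat.one_le_pow _ _ (by omega)
  have hqa1 : 1 ≤ q ^ (a' + 1) := Nat.one_le_pow _ _ (by omega)
  constructor
  · intro hP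
    have h := Cfsg.Agent.Helper21.OC.nsing_of_plus hdim (Q.comp W.subtype) hnd
      ((plus_comp_iff Q W).2 hP)
    rw [hcount, hq] at h
    simp only [Nat.add_sub_cancel]
    have e1 : q ^ (2 * (a' + 1)) = q ^ (a' + 1) * q ^ a' * q := by ring
    have e2 : q ^ (a' + 1 + 1) = q ^ (a' + 1) * q := by ring
    have e3 : q ^ (a' + 1) = q ^ a' * q := by ring
    rw [e1, e2] at h
    have h' : (Nat.card {w : W // w ≠ 0 ∧ Q (w : V) = 0} + 1) * q + q ^ a' * q =
        (q ^ (a' + 1) * q ^ a' + q ^ (a' + 1)) * q := by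
      rw [← e3]; linarith
    rw [← add_mul] at h'
    have h'' := Nat.eq_of_mul_eq_mul_right (by omega : 0 < q) h'
    obtain ⟨A, hA⟩ : ∃ A, q ^ (a' + 1) = A + 1 := ⟨q ^ (a' + 1) - 1, by omega⟩
    rw [hA] at h'' ⊢
    simp only [Nat.add_sub_cancel]
    rw [hA] at e3
    nlinarith
  · intro hP
    have h := Cfsg.Agent.Helper21.OC.nsing_of_not_plus (by omega) hdim (Q.comp W.subtype) hnd
      (fun h' => hP ((plus_comp_iff Q W).1 h'))
    rw [hcount, hq] at h
    simp only [Nat.add_sub_cancel] at h ⊢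
    have e1 : q ^ (2 * (a' + 1) - 1) = q ^ (a' + 1) * q ^ a' := by
      rw [← pow_add]; congr 1; omega
    rw [e1] at h
    obtain ⟨A, hA⟩ : ∃ A, q ^ a' = A + 1 := ⟨q ^ a' - 1, by omega⟩
    rw [hA] at h ⊢
    simp only [Nat.add_sub_cancel]
    nlinarith

end CARDSINGD

end Cfsg.Agent.S5992P
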