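import Mathlib
import Cfsg.Agent.Helper29.S2264Defs
import Cfsg.Agent.Helper7.OrthUni3

/-! S2264 piece GRAMISO (helper7): an isometry of a quadratic form preserves its Gram matrix. -/

set_option autoImplicit false

namespace Cfsg.Agent.S2264P

open Polynomial
open scoped Classical

noncomputable section

variable {F : Type*} [Field F]

theorem gram_of_isometry {I : Type} [Fintype I] [DecidableEq I] (Q : QuadraticForm F (I → F))
    (g : Matrix I I F) (hg : ∀ v, Q (g.mulVec v) = Q v) :
    g.transpose * Cfsg.Agent.Helper7.OrthUni.gram Q * g = Cfsg.Agent.Helper7.OrthUni.gram Q := by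
  have hpolar : ∀ u v, QuadraticMap.polar (⇑Q) (g.mulVec u) (g.mulVec v)
      = QuadraticMap.polar (⇑Q) u v := by
    intro u v
    unfold QuadraticMap.polar
    rw [← Matrix.mulVec_add, hg, hg, hg]
  have h1 : g.transpose * Cfsg.Agent.Helper7.OrthUni.gram Q * g
      = LinearMap.BilinForm.toMatrix' (LinearMap.BilinForm.comp (QuadraticMap.polarBilin Q)
          (Matrix.toLin' g) (Matrix.toLin' g)) := by
    rw [LinearMap.BilinForm.toMatrix'_comp, LinearMap.toMatrix'_toLin']
    rfl
  rw [h1]
  unfold Cfsg.Agent.Helper7.OrthUni.gram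
  congr 1
  refine LinearMap.ext fun u => LinearMap.ext fun v => ?_
  rw [LinearMap.BilinForm.comp_apply, Matrix.toLin'_apply, Matrix.toLin'_apply,
    QuadraticMap.polarBilin_apply_apply, QuadraticMap.polarBilin_apply_apply]
  exact hpolar _ _

end

end Cfsg.Agent.S2264P
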