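import Cfsg.Agent.Helper29.S5677.Defs
import Cfsg.Agent.Helper20.S5677CMP1
import Cfsg.Agent.Helper20.S5677CMP2
import Cfsg.Agent.Helper22.S5677GEOA
import Cfsg.Agent.Helper24.S5677GEOB
import Cfsg.Agent.Helper2.S5677BLK
import Cfsg.Agent.Helper23.S5677SIEGMEM
import Cfsg.Agent.Helper17.S5677RADT
import Cfsg.Agent.Helper21.S5677LOC

set_option autoImplicit false
set_option linter.unusedSectionVars false
set_option linter.unusedVariables false

/-! # S5677 piece FIN: the final contradiction of chapter C3 -/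

namespace Cfsg.Agent.S5677P

open Matrix Cfsg.Agent.Helper28.Sg Cfsg.Agent.Helper28.Spin Cfsg.Agent.Helper12.OrthGen
  Cfsg.Agent.S2614 Cfsg.Agent.S5683P Cfsg.Agent.Helper28.NDM

variable {F : Type*} [Field F] {m t k : ℕ} {D : Fin t → Submodule F (Idx m → F)}
  {M : Subgroup (OG m F)}

namespace FIN

theorem B_add_r (x y z : Idx m → F) :
    B (QfOdd m F) x (y + z) = B (QfOdd m F) x y + B (QfOdd m F) x z :=
  QuadraticMap.polar_add_right _ _ _ _

theorem B_sub_r (x y z : Idx m → F) :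
    B (QfOdd m F) x (y - z) = B (QfOdd m F) x y - B (QfOdd m F) x z :=
  QuadraticMap.polar_sub_right _ _ _ _

theorem B_smul_r (x y : Idx m → F) (s : F) :
    B (QfOdd m F) x (s • y) = s * B (QfOdd m F) x y := by
  show QuadraticMap.polar _ x (s • y) = _
  rw [QuadraticMap.polar_smul_right]; rfl

theorem B_smul_l (x y : Idx m → F) (s : F) :
    B (QfOdd m F) (s • x) y = s * B (QfOdd m F) x y := by
  show QuadraticMap.polar _ (s • x) y = _
  rw [QuadraticMap.polar_smul_left]; rfl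

theorem B_zero_l (y : Idx m → F) : B (QfOdd m F) 0 y = 0 :=
  QuadraticMap.polar_zero_left _ _

/-- an element of `F` (`2 ≠ 0`) other than `0` and a given `s₀` -/
theorem exists_ne (h2 : (2 : F) ≠ 0) (s₀ : F) : ∃ s : F, s ≠ 0 ∧ s ≠ s₀ := by
  by_cases h : (1 : F) = s₀
  · refine ⟨-1, neg_ne_zero.mpr one_ne_zero, ?_⟩
    rw [← h]
    intro h'
    apply h2
    have : (1 : F) + 1 = 0 := by nth_rewrite 1 [← h']; ring
    rw [← this]; norm_num
  · exact ⟨1, one_ne_zero, h⟩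

end FIN

open FIN in
theorem FIN.false [Fintype F] (h2 : (2 : F) ≠ 0) (hD : HD k D)
    (hex : ¬ (Fintype.card F = 3 ∧ k = 3)) (hHM : HS D ≤ M) (hG1 : ¬ G1 M D) {v : Idx m → F}
    (hv : NPV M D v) : False := by
  classical
  obtain ⟨b₁, c, hb₁c, hvb₁, hvc⟩ := CMP1.exists_two hD hv.np
  -- a singular `u ∈ D c` with `a := B(u, v_c) ≠ 0`
  obtain ⟨u, huc, hQu, hua⟩ :=
    GEOA.sing_nonorth (D c) (BLK.ndon hD c) (BLK.three hD c) (CMP1.mem hD c v) hvc
  set a : F := B (QfOdd m F) u (cmp D c v) with ha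
  have hu0 : u ≠ 0 := by
    rintro rfl
    exact hua (B_zero_l _)
  have huv : B (QfOdd m F) u v = a := (CMP2.B_left hD huc v).symm
  -- a nonsingular `y ∈ P`, and LOC
  obtain ⟨y, hyP, hQy⟩ := RADV.exists_nonsing h2 hD hHM hG1 hv
  obtain ⟨sc, hsc⟩ := LOC.loc h2 hD hex hHM hG1 hv c hyP
  obtain ⟨sb, hsb⟩ := LOC.loc h2 hD hex hHM hG1 hv b₁ hyP
  obtain ⟨s, hs0, hss₀⟩ := exists_ne h2 ((sb - sc) / QfOdd m F y)
  have hsyP : s • y ∈ Rad M v hv.Qv := RADV.smul hD hHM hG1 hv hyP s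
  obtain ⟨hvsy, hρM⟩ := hsyP
  set ρ := siegO (QfOdd m F) v (s • y) hv.Qv hvsy with hρ
  set κ : F := s ^ 2 * QfOdd m F y with hκ
  have hκ0 : κ ≠ 0 := mul_ne_zero (pow_ne_zero 2 hs0) hQy
  -- the action of `ρ` on `D c`
  have key : ∀ x ∈ D c, mt (QfOdd m F) ρ *ᵥ x =
      x + B (QfOdd m F) v x • (s • y - (s * sc + κ) • v) := by
    intro x hx
    rw [hρ, siegO_mulVec, B_smul_l, Q_smul]
    have h1 : B (QfOdd m F) y x = sc * B (QfOdd m F) v x := by
      rw [← CMP2.B_right hD hx y, hsc, B_smul_l, CMP2.B_right hD hx v]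
    rw [h1, hκ]
    module
  have keyc : ∀ x ∈ D c, cmp D c (mt (QfOdd m F) ρ *ᵥ x) =
      x - (B (QfOdd m F) v x * κ) • cmp D c v := by
    intro x hx
    rw [key x hx, map_add, map_smul, map_sub, map_smul, map_smul, hsc, CMP1.of_mem hD hx]
    module
  have keyb : cmp D b₁ (mt (QfOdd m F) ρ *ᵥ u) =
      (a * s * (sb - sc - s * QfOdd m F y)) • cmp D b₁ v := by
    rw [key u huc, map_add, map_smul, map_sub, map_smul, map_smul, hsb,
      CMP1.of_mem_ne hD (Ne.symm hb₁c) huc, B_comm, huv, hκ]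
    module
  have hvu : B (QfOdd m F) v u = a := by rw [B_comm]; exact huv
  -- the new non-pure vector
  set v'' : Idx m → F := mt (QfOdd m F) ρ *ᵥ u with hv''
  have hv''c : cmp D c v'' = u - (a * κ) • cmp D c v := by
    rw [hv'', keyc u huc, hvu]
  have hBu : B (QfOdd m F) u (cmp D c v'') = - (a * κ * a) := by
    rw [hv''c, B_sub_r, B_smul_r, B_self_of_singular _ hQu, ← ha]; ring
  have hv''c0 : cmp D c v'' ≠ 0 := by
    intro h0
    rw [h0] at hBu
    have h00 : B (QfOdd m F) u (0 : Idx m → F) = 0 := QuadraticMap.polar_zero_right _ _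
    rw [h00] at hBu
    have : a * κ * a = 0 := by linear_combination hBu
    exact mul_ne_zero (mul_ne_zero hua hκ0) hua this
  have hv''b0 : cmp D b₁ v'' ≠ 0 := by
    rw [hv'', keyb]
    refine smul_ne_zero (mul_ne_zero (mul_ne_zero hua hs0) ?_) hvb₁
    intro h0
    apply hss₀
    rw [eq_div_iff hQy]
    linear_combination -h0
  have hnp : ¬ Pure D v'' := CMP1.not_pure hD hb₁c hv''b0 hv''c0
  have hNPV : NPV M D v'' :=
    ⟨by rw [hv'', Q_isom]; exact hQu, hnp, ρ, hρM, c, u, huc, hu0, hQu, rfl⟩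
  -- a nonsingular `w ∈ Tu D c u`
  obtain ⟨w, hwc, huw, hQw⟩ :=
    GEOB.nonsing_perp h2 (D c) (BLK.ndon hD c) (BLK.three hD c) huc hu0 hQu
  have hwRad : w ∈ Rad M u hQu := SIEGMEM.Tu_le hD hHM huc hQu ⟨hwc, huw⟩
  have hρw : mt (QfOdd m F) ρ *ᵥ w ∈ Rad M v'' hNPV.Qv := Rad_conj' hρM hwRad hNPV.Qv rfl rfl
  obtain ⟨l, hl⟩ := LOC.loc h2 hD hex hHM hG1 hNPV c hρw
  rw [keyc w hwc, hv''c] at hl
  set a' : F := B (QfOdd m F) v w with ha'
  -- apply `B(u, ·)`
  have h1 := congrArg (fun x => B (QfOdd m F) u x) hl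
  beta_reduce at h1
  rw [B_sub_r, B_smul_r, B_smul_r, B_sub_r, B_smul_r, huw, B_self_of_singular _ hQu, ← ha] at h1
  have h3 : a' = l * a := by
    have : (a' - l * a) * (κ * a) = 0 := by linear_combination -h1
    have := (mul_eq_zero.mp this).resolve_right (mul_ne_zero hκ0 hua)
    linear_combination this
  have hwl : w = l • u := by
    have : w = l • (u - (a * κ) • cmp D c v) + (a' * κ) • cmp D c v := by
      rw [← hl]; abel
    rw [this, h3]; module
  apply hQw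
  rw [hwl, Q_smul, hQu, mul_zero]

end Cfsg.Agent.S5677P
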