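import Mathlib
import Cfsg.Agent.Helper29.SylMaxDefs
set_option autoImplicit false

/-! S2245 piece FIXS (driver helper29): a Sylow 2-subgroup of `Perm α`, `|α| = 2^k+1`, fixes a point
and is transitive on the others (order count with Legendre's formula). -/

namespace Cfsg.Agent.Helper7.SylMax
open MulAction Equiv Cfsg.Agent.Helper29.SylMax
open scoped Pointwise Nat
universe u v

section Arith

theorem val_two_pow_factorial (k : ℕ) : padicValNat 2 (2 ^ k)! = 2 ^ k - 1 := by
  induction k with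
  | zero => simp
  | succ k ih =>
    rw [pow_succ', padicValNat_factorial_mul, ih]
    have : 1 ≤ 2 ^ k := Nat.one_le_two_pow
    omega

theorem val_two_pow_succ_factorial (k : ℕ) (hk : 1 ≤ k) :
    padicValNat 2 (2 ^ k + 1)! = 2 ^ k - 1 := by
  obtain ⟨j, rfl⟩ : ∃ j, k = j + 1 := ⟨k - 1, by omega⟩
  rw [pow_succ', padicValNat_factorial_mul_add (2 ^ j) (by norm_num : 1 < 2), ← pow_succ',
    val_two_pow_factorial]

theorem val_le_pred {a : ℕ} (ha : 1 ≤ a) : padicValNat 2 a ! ≤ a - 1 := by
  have := padicValNat_factorial_lt_of_ne_zero 2 (n := a) (by omega)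
  omega

theorem val_le_of_odd {a : ℕ} (ha : 3 ≤ a) (hodd : Odd a) : padicValNat 2 a ! ≤ a - 2 := by
  obtain ⟨m, rfl⟩ := hodd
  rw [padicValNat_factorial_mul_add m (by norm_num : 1 < 2)]
  have := padicValNat_factorial_lt_of_ne_zero 2 (n := 2 * m) (by omega)
  omega

/-- the key arithmetic: if `2^(2^k-1)` divides `a! b!` with `a + b = 2^k+1`, `a, b ≥ 1`,
then `a = 1` or `b = 1`. -/
theorem arith_split {k a b : ℕ} (hk : 1 ≤ k) (ha : 1 ≤ a) (hb : 1 ≤ b) (hab : a + b = 2 ^ k + 1)
    (hdvd : 2 ^ (2 ^ k - 1) ∣ a ! * b !) : a = 1 ∨ b = 1 := by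
  have hv : 2 ^ k - 1 ≤ padicValNat 2 (a ! * b !) :=
    (padicValNat_dvd_iff_le (by positivity)).mp hdvd
  rw [padicValNat.mul (Nat.factorial_ne_zero _) (Nat.factorial_ne_zero _)] at hv
  have h2k : 2 ≤ 2 ^ k := by
    calc 2 = 2 ^ 1 := by norm_num
      _ ≤ 2 ^ k := Nat.pow_le_pow_right (by norm_num) hk
  have hev : Even (2 ^ k) := (Nat.even_pow' (by omega)).mpr (by decide)
  by_contra hcon
  push Not at hcon
  have hA := val_le_pred ha
  have hB := val_le_pred hb
  rcases Nat.even_or_odd a with hae | hao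
  · -- b is odd
    have hbo : Odd b := by
      rcases Nat.even_or_odd b with hbe | hbo
      · exfalso
        have : Even (a + b) := hae.add hbe
        rw [hab] at this
        exact (Nat.not_even_iff_odd.mpr (hev.add_one)) this
      · exact hbo
    have hb3 : 3 ≤ b := by
      obtain ⟨m, rfl⟩ := hbo
      omega
    have := val_le_of_odd hb3 hbo
    omega
  · have ha3 : 3 ≤ a := by
      obtain ⟨m, rfl⟩ := hao
      omega
    have := val_le_of_odd ha3 hao
    omega

end Arith

variable {𝔾 : Type u} [Group 𝔾] {α : Type v} [Fintype α] [DecidableEq α] [MulAction 𝔾 α]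

omit [DecidableEq α] in
/-- the order of a set stabilizer in the symmetric group. -/
theorem card_stabilizer_perm (s : Set α) :
    Nat.card (stabilizer (Perm α) s) = (s.ncard)! * (sᶜ.ncard)! := by
  classical
  have h := DomMulAct.stabilizer_ncard (α := α) (f := fun x => decide (x ∈ s))
  rw [Fintype.prod_bool] at h
  have e1 : {a : α | decide (a ∈ s) = true} = s := by ext a; simp
  have e2 : {a : α | decide (a ∈ s) = false} = sᶜ := by ext a; simp
  rw [e1, e2] at h
  rw [← h, ← Nat.card_coe_set_eq]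
  apply Nat.card_congr
  refine Equiv.subtypeEquivRight (fun g => ?_)
  rw [mem_stabilizer_set, Set.mem_ofPred_eq, funext_iff]
  simp only [Function.comp_apply, decide_eq_decide, Perm.smul_def]

theorem fixTrans_perm (k : ℕ) (hk : 2 ≤ k) (hα : Nat.card α = 2 ^ k + 1) (R : Sylow 2 (Perm α)) :
    FixTrans (α := α) (R : Subgroup (Perm α)) := by
  classical
  have h2k : 4 ≤ 2 ^ k := by
    calc 4 = 2 ^ 2 := by norm_num
      _ ≤ 2 ^ k := Nat.pow_le_pow_right (by norm_num) hk
  have hR : Nat.card R = 2 ^ (2 ^ k - 1) := by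
    rw [Sylow.card_eq_multiplicity, Nat.card_perm, hα, Nat.factorization_def _ Nat.prime_two,
      val_two_pow_succ_factorial k (by omega)]
  have key : ∀ s : Set α, (∀ r ∈ (R : Subgroup (Perm α)), r • s = s) → s.Nonempty →
      sᶜ.Nonempty → s.ncard = 1 ∨ sᶜ.ncard = 1 := by
    intro s hs hne hne'
    have hle : (R : Subgroup (Perm α)) ≤ stabilizer (Perm α) s := fun r hr => by
      rw [mem_stabilizer_iff]; exact hs r hr
    have hdvd := Subgroup.card_dvd_of_le hle
    rw [card_stabilizer_perm] at hdvd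
    have hR' : Nat.card (R : Subgroup (Perm α)) = 2 ^ (2 ^ k - 1) := hR
    rw [hR'] at hdvd
    refine arith_split (k := k) (by omega) ?_ ?_ ?_ hdvd
    · exact (Set.ncard_pos (Set.toFinite s)).mpr hne
    · exact (Set.ncard_pos (Set.toFinite _)).mpr hne'
    · rw [Set.ncard_add_ncard_compl, hα]
  have hodd : ¬ 2 ∣ Nat.card α := by
    rw [hα]
    have : Even (2 ^ k) := (Nat.even_pow' (by omega)).mpr (by decide)
    intro h
    have := (Nat.dvd_add_right (even_iff_two_dvd.mp this)).mp h
    omega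
  obtain ⟨x₀, hx₀⟩ := R.isPGroup'.nonempty_fixed_point_of_prime_not_dvd_card α hodd
  have hfix : ∀ r ∈ (R : Subgroup (Perm α)), r • x₀ = x₀ := fun r hr => hx₀ ⟨r, hr⟩
  refine ⟨x₀, hfix, ?_⟩
  have horb : ∀ y, y ≠ x₀ → ∀ z, z ≠ x₀ → z ∈ orbit (↥(R : Subgroup (Perm α))) y := by
    intro y hy z hz
    have hs_inv : ∀ r ∈ (R : Subgroup (Perm α)),
        r • (orbit (↥(R : Subgroup (Perm α))) y) = orbit (↥(R : Subgroup (Perm α))) y := by
      intro r hr
      exact smul_orbit (⟨r, hr⟩ : ↥(R : Subgroup (Perm α))) y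
    have hx₀s : x₀ ∉ orbit (↥(R : Subgroup (Perm α))) y := by
      rintro ⟨r, hr⟩
      apply hy
      have : (r : Perm α) • y = x₀ := hr
      have h1 : (r : Perm α)⁻¹ • x₀ = x₀ := hfix _ (inv_mem r.2)
      rw [← this, inv_smul_smul] at h1
      rw [h1]; exact this
    have hne : (orbit (↥(R : Subgroup (Perm α))) y).Nonempty := ⟨y, mem_orbit_self y⟩
    have hne' : (orbit (↥(R : Subgroup (Perm α))) y)ᶜ.Nonempty := ⟨x₀, hx₀s⟩
    rcases key _ hs_inv hne hne' with h1 | h1
    · -- y is a second fixed point: contradiction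
      exfalso
      obtain ⟨a, ha⟩ := Set.ncard_eq_one.mp h1
      have hya : y = a := by
        have : y ∈ orbit (↥(R : Subgroup (Perm α))) y := mem_orbit_self y
        rw [ha] at this; exact this
      have hyfix : ∀ r ∈ (R : Subgroup (Perm α)), r • y = y := by
        intro r hr
        have : (⟨r, hr⟩ : ↥(R : Subgroup (Perm α))) • y ∈ orbit (↥(R : Subgroup (Perm α))) y :=
          mem_orbit y _
        rw [ha, Set.mem_singleton_iff, ← hya] at this
        exact this
      have hinv : ∀ r ∈ (R : Subgroup (Perm α)), r • ({x₀, y} : Set α) = {x₀, y} := by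
        intro r hr
        rw [Set.smul_set_insert, Set.smul_set_singleton, hfix r hr, hyfix r hr]
      have hcard : ({x₀, y} : Set α).ncard = 2 := Set.ncard_pair (Ne.symm hy)
      have hcompl : ({x₀, y} : Set α)ᶜ.ncard = 2 ^ k + 1 - 2 := by
        rw [Set.ncard_compl, hcard, hα]
      have hne2 : ({x₀, y} : Set α)ᶜ.Nonempty := by
        rw [← Set.ncard_pos (Set.toFinite _), hcompl]; omega
      rcases key _ hinv ⟨x₀, by simp⟩ hne2 with h | h
      · omega
      · omega
    · obtain ⟨a, ha⟩ := Set.ncard_eq_one.mp h1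
      have hxa : x₀ = a := by
        have : x₀ ∈ (orbit (↥(R : Subgroup (Perm α))) y)ᶜ := hx₀s
        rw [ha] at this; exact this
      by_contra hzs
      have : z ∈ (orbit (↥(R : Subgroup (Perm α))) y)ᶜ := hzs
      rw [ha, Set.mem_singleton_iff, ← hxa] at this
      exact hz this
  intro y z hy hz
  obtain ⟨r, hr⟩ := horb y hy z hz
  exact ⟨r.1, r.2, hr⟩

end Cfsg.Agent.Helper7.SylMax
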