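import Mathlib
import Cfsg.Agent.Helper3.CPDefs
import Cfsg.Agent.Helper3.CPBasic
set_option autoImplicit false

/-! S4016 piece INH (driver helper3): the hypothesis passes to subgroups. -/

namespace Cfsg.Agent.Helper3.CP
open Subgroup
universe u
variable {G : Type u} [Group G] [Finite G] {p : ℕ} [Fact p.Prime]

/-- INH -/
theorem Hyp.subgroup (h : Hyp p G) (K : Subgroup G) : Hyp p ↥K := by
  refine ⟨fun Q => ?_, fun H hH a ha b hb => ?_⟩
  · -- Sylow subgroups of `K` are cyclic
    have hQ : IsPGroup p ↥((Q : Subgroup ↥K).map K.subtype) := Q.2.map K.subtype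
    obtain ⟨P, hle⟩ := hQ.exists_le_sylow
    have : IsCyclic ↥(P : Subgroup G) := h.1 P
    let f : ↥(Q : Subgroup ↥K) →* ↥(P : Subgroup G) :=
      ((K.subtype).comp (Q : Subgroup ↥K).subtype).codRestrict (P : Subgroup G)
        (fun x => hle (Subgroup.mem_map_of_mem _ x.2))
    have hf : Function.Injective f := by
      intro x y hxy
      have h1 : ((x : ↥K) : G) = ((y : ↥K) : G) := congrArg (fun z : ↥(P : Subgroup G) => (z : G)) hxy
      exact Subtype.ext (Subtype.ext h1)
    exact isCyclic_of_injective f hf
  · -- `p'`-subgroups of `K` are commutative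
    have hcard : Nat.card ↥(H.map K.subtype) = Nat.card ↥H :=
      Subgroup.card_map_of_injective K.subtype_injective
    have := h.2 (H.map K.subtype) (by rw [hcard]; exact hH) (a : G)
      (Subgroup.mem_map_of_mem _ ha) (b : G) (Subgroup.mem_map_of_mem _ hb)
    exact Subtype.ext this

end Cfsg.Agent.Helper3.CP
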