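import Mathlib
import Cfsg.Agent.Helper3.CPDefs
import Cfsg.Agent.Helper3.CPBasic
set_option autoImplicit false

/-! S4016 piece P2 (driver helper3): the case `p = 2` (cyclic Sylow 2-subgroups have a normal
complement). -/

namespace Cfsg.Agent.Helper3.CP
open Subgroup
universe u
variable {G : Type u} [Group G] [Finite G] {p : ℕ} [Fact p.Prime]

/-- P2 -/
theorem concl_two (h : Hyp 2 G) : Concl 2 G := by
  by_cases h2 : 2 ∣ Nat.card G
  · left
    have hmin : (Nat.card G).minFac = 2 := (Nat.minFac_eq_two_iff _).mpr h2
    obtain ⟨P⟩ : Nonempty (Sylow 2 G) := inferInstance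
    have hP : IsCyclic ↥(P : Subgroup G) := h.1 P
    exact ⟨P, _, MonoidHom.normal_ker _, IsCyclic.isComplement' hmin hP⟩
  · right
    intro P
    have hbot : (P : Subgroup G) = ⊥ := by
      obtain ⟨k, hk⟩ := P.2.exists_card_eq
      have hdvd : Nat.card ↥(P : Subgroup G) ∣ Nat.card G := Subgroup.card_subgroup_dvd_card _
      rcases Nat.eq_zero_or_pos k with h0 | h0
      · rw [h0, pow_zero] at hk
        exact Subgroup.card_eq_one.mp hk
      · exfalso
        apply h2
        have : 2 ∣ Nat.card ↥(P : Subgroup G) := by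
          rw [hk]; exact dvd_pow_self 2 (by omega)
        exact this.trans hdvd
    rw [hbot]
    infer_instance

end Cfsg.Agent.Helper3.CP
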