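import Mathlib
import Cfsg.Agent.Helper3.CPDefs
import Cfsg.Agent.Helper3.CPBasic
set_option autoImplicit false

/-! S4016 piece QPP (driver helper3): the hypothesis passes to quotients by normal `p'`-subgroups. -/

namespace Cfsg.Agent.Helper7.CPQPP
universe u
variable {G : Type u} [Group G] [Finite G] {p : ℕ} [Fact p.Prime]

/-- preimage of a `p'`-subgroup under the quotient by a normal `p'`-subgroup is a `p'`-subgroup. -/
theorem not_dvd_card_comap (M : Subgroup G) [M.Normal] (hM : ¬ p ∣ Nat.card ↥M)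
    (H : Subgroup (G ⧸ M)) (hH : ¬ p ∣ Nat.card ↥H) :
    ¬ p ∣ Nat.card ↥(H.comap (QuotientGroup.mk' M)) := by
  intro hdvd
  obtain ⟨x, hx⟩ := exists_prime_orderOf_dvd_card' p hdvd
  have hxG : orderOf (x : G) = p := by rw [Subgroup.orderOf_coe]; exact hx
  have hyH : QuotientGroup.mk' M (x : G) ∈ H := x.2
  have hdiv : orderOf (QuotientGroup.mk' M (x : G)) ∣ p := by
    rw [← hxG]; exact orderOf_map_dvd _ _
  rcases (Nat.dvd_prime (Fact.out : p.Prime)).mp hdiv with h1 | h1
  · rw [orderOf_eq_one_iff] at h1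
    have hxM : (x : G) ∈ M := by
      rw [← QuotientGroup.eq_one_iff]; exact h1
    apply hM
    have : orderOf (⟨(x : G), hxM⟩ : ↥M) = p := by
      rw [← Subgroup.orderOf_coe]; exact hxG
    rw [← this]
    exact orderOf_dvd_natCard _
  · apply hH
    have : orderOf (⟨_, hyH⟩ : ↥H) = p := by
      rw [← Subgroup.orderOf_coe]; exact h1
    rw [← this]
    exact orderOf_dvd_natCard _

end Cfsg.Agent.Helper7.CPQPP

namespace Cfsg.Agent.Helper3.CP
open Subgroup
universe u
variable {G : Type u} [Group G] [Finite G] {p : ℕ} [Fact p.Prime]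

/-- QPP -/
theorem Hyp.quot_pprime (h : Hyp p G) (M : Subgroup G) [M.Normal] (hM : ¬ p ∣ Nat.card ↥M) :
    Hyp p (G ⧸ M) := by
  refine ⟨fun Pb => ?_, fun H hH a ha b hb => ?_⟩
  · obtain ⟨P, hP⟩ := Sylow.mapSurjective_surjective (QuotientGroup.mk'_surjective M) p Pb
    have hcoe : (Pb : Subgroup (G ⧸ M)) = (P : Subgroup G).map (QuotientGroup.mk' M) := by
      rw [← hP]; rfl
    rw [hcoe]
    have : IsCyclic ↥(P : Subgroup G) := h.1 P
    exact isCyclic_of_surjective ((QuotientGroup.mk' M).subgroupMap (P : Subgroup G))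
      ((QuotientGroup.mk' M).subgroupMap_surjective (P : Subgroup G))
  · obtain ⟨a', rfl⟩ := QuotientGroup.mk'_surjective M a
    obtain ⟨b', rfl⟩ := QuotientGroup.mk'_surjective M b
    have := h.2 (H.comap (QuotientGroup.mk' M))
      (Cfsg.Agent.Helper7.CPQPP.not_dvd_card_comap M hM H hH) a' ha b' hb
    rw [← map_mul, ← map_mul, this]

end Cfsg.Agent.Helper3.CP
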