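import Cfsg.Agent.Helper3.OC2Q2.Defs
import Cfsg.Agent.Helper18.OC2Q2R2
import Cfsg.Agent.Helper25.OC2Q2S1A
import Cfsg.Agent.Helper5.OC2Q2S1B
import Cfsg.Agent.Helper19.OC2Q2S1C

set_option autoImplicit false
set_option linter.unusedSectionVars false
set_option linter.unusedVariables false

/-! # S5694 chapter CHAR2, sub-chapter Q2: piece S1 -/

namespace Cfsg.Agent.OC2K

open Matrix Cfsg.Agent.Helper28.Sg Cfsg.Agent.Helper28.Spin Cfsg.Agent.Helper12.OrthGen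
  Cfsg.Agent.S2614 Cfsg.Agent.S5683P Cfsg.Agent.Helper28.NDM

variable {F : Type*} [Field F] {t k : ℕ} {ι : Type} [Fintype ι] [DecidableEq ι] {Q : QuadraticForm F (ι → F)} [QHyp Q] {D : Fin t → Submodule F (ι → F)}
  {M : Subgroup (OGq Q)}

theorem Q2.S1.main [Fintype F] (hF : Q2.IsF2 F) (hD : HD Q k D) (hk : 4 ≤ k) (hHM : HS D ≤ M)
    {v : ι → F} (hQv : Q v = 0) {b : Fin t} {p : ι → F} (hp : p ∈ D b) (hQp : Q p ≠ 0)
    (hpR : p ∈ Rad M v hQv) {d : Fin t} (hzd : Q (cmp D d (p + v)) ≠ 0) (hz : p + v ∉ D d) :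
    G1 M D := by
  have hvp : B Q v p = 0 := Rad_perp hpR
  have hQz1 : Q (p + v) = Q p := by
    rw [Q_add, hQv, add_zero, B_comm, hvp, add_zero]
  have hQz : Q (p + v) ≠ 0 := by rw [hQz1]; exact hQp
  have hQz_one : Q (p + v) = 1 := Q2.Q_eq_one hF hQz
  have hrel := Q2.S1A.main hF hQv hQp hpR hQz
  obtain ⟨x, hx, w, hw, hx0, hQx, hxzd, hxw, hzdw⟩ :=
    Q2.S1C.exists hF hD hk (CMP1.mem hD d (p + v)) hzd
  have hh : siegO Q x w hQx hxw ∈ HS D := SIEGMEM.mem hD hx hw hQx hxw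
  have hBxz : B Q x (p + v) = 0 := by rw [← CMP2.B_left hD hx]; exact hxzd
  have hBwz : B Q w (p + v) = 1 := by
    rw [← CMP2.B_left hD hw, B_comm]; exact hzdw
  have hhz : mt Q (siegO Q x w hQx hxw) *ᵥ (p + v) = p + v + Q (p + v) • x := by
    rw [siegO_mulVec, hBxz, hBwz, hQz_one]
    simp only [zero_smul, mul_zero, one_smul, add_zero, sub_zero]
    rw [Q2.vsub_eq hF]
  have hQhz : Q (mt Q (siegO Q x w hQx hxw) *ᵥ (p + v)) ≠ 0 := by
    rw [Q_isom]; exact hQz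
  have hrel2 := Q2.S1B.main hD hHM hQz hp hQp hrel hh hQhz
  have hQ' : Q (p + v + Q (p + v) • x) ≠ 0 := by rw [← hhz]; exact hQhz
  have e1 : reflO Q (mt Q (siegO Q x w hQx hxw) *ᵥ (p + v)) hQhz =
      reflO Q (p + v + Q (p + v) • x) hQ' := reflO_congr' hhz hQhz hQ'
  rw [e1, Q2.R2.main hQx hBxz hQz hQ'] at hrel2
  exact ⟨d, x, hQx, hx, hx0, p + v, ⟨hBxz, hrel2⟩, hz⟩

end Cfsg.Agent.OC2K
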