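import Mathlib
import Cfsg.Prelude.Def_Solvable
import Cfsg.Prelude.Def_TwoFusion

set_option autoImplicit false
set_option linter.unusedSectionVars false
set_option linter.unusedVariables false

namespace Cfsg.Agent.S3206P

/-- Main argument of PABEL, with CENTER16 (for subgroups of `L`) as a hypothesis. -/
theorem PABEL.aux_main {G : Type*} [Group G] [Finite G] {L : Type*} [Group L] [Finite L]
    (hC16 : ∀ (P : Subgroup L), Nat.card ↥P = 16 → ∀ Z : Subgroup ↥P, Z ≤ Subgroup.center ↥P →
      Nat.card ↥Z = 2 → (∀ x : ↥P, x ^ 2 ∈ Z) → (∃ x y : ↥P, x * y ≠ y * x) →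
      ∃ w ∈ Subgroup.center ↥P, w ∉ Z)
    (π : L →* G) (hπ : Function.Surjective π) (hker : π.ker ≤ Subgroup.center L)
    (hk2 : Nat.card ↥π.ker = 2)
    (S : Sylow 2 G) (hcard : Nat.card ↥(S : Subgroup G) = 8) (hexp : ∀ x ∈ (S : Subgroup G), x ^ 2 = 1)
    (htr : ∀ x ∈ (S : Subgroup G), ∀ y ∈ (S : Subgroup G), x ≠ 1 → y ≠ 1 →
      ∃ g ∈ Subgroup.normalizer ((S : Subgroup G) : Set G), g * x * g⁻¹ = y) :
    ∀ a b : L, π a ∈ (S : Subgroup G) → π b ∈ (S : Subgroup G) → a * b = b * a := by
  classical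
  by_contra hcon
  push Not at hcon
  obtain ⟨a, b, ha, hb, hab⟩ := hcon
  set P : Subgroup L := (S : Subgroup G).comap π with hP
  have hkerP : π.ker ≤ P := by
    intro k hk
    rw [hP, Subgroup.mem_comap, MonoidHom.mem_ker.mp hk]
    exact one_mem _
  set Z : Subgroup ↥P := π.ker.subgroupOf P with hZ
  have hZcard : Nat.card ↥Z = 2 := by
    rw [← hk2]
    exact Nat.card_congr (Subgroup.subgroupOfEquivOfLe hkerP).toEquiv
  have hZcen : Z ≤ Subgroup.center ↥P := by
    intro z hz
    rw [Subgroup.mem_center_iff]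
    intro g
    have hz' : (z : L) ∈ Subgroup.center L := hker (Subgroup.mem_subgroupOf.mp hz)
    rw [Subgroup.mem_center_iff] at hz'
    apply Subtype.ext
    simpa using hz' (g : L)
  have hsq : ∀ x : ↥P, x ^ 2 ∈ Z := by
    intro x
    rw [hZ, Subgroup.mem_subgroupOf, MonoidHom.mem_ker]
    have hx : π (x : L) ∈ (S : Subgroup G) := x.2
    simpa using hexp _ hx
  have hnab : ∃ x y : ↥P, x * y ≠ y * x := by
    refine ⟨⟨a, ha⟩, ⟨b, hb⟩, ?_⟩
    intro h
    exact hab (congrArg Subtype.val h)
  have hcardP : Nat.card ↥P = 16 := by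
    have hsurj : Function.Surjective (π.subgroupComap (S : Subgroup G)) :=
      π.subgroupComap_surjective_of_surjective _ hπ
    have hkerEq : (π.subgroupComap (S : Subgroup G)).ker = Z := by
      ext x
      rw [MonoidHom.mem_ker, hZ, Subgroup.mem_subgroupOf, MonoidHom.mem_ker]
      constructor
      · intro h
        exact congrArg Subtype.val h
      · intro h
        exact Subtype.ext h
    have h1 := Subgroup.card_eq_card_quotient_mul_card_subgroup
      (π.subgroupComap (S : Subgroup G)).ker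
    have h2 : Nat.card (↥P ⧸ (π.subgroupComap (S : Subgroup G)).ker) = 8 := by
      rw [← hcard]
      exact Nat.card_congr (QuotientGroup.quotientKerEquivOfSurjective _ hsurj).toEquiv
    rw [h2, hkerEq, hZcard] at h1
    exact h1
  obtain ⟨w, hwc, hwZ⟩ := hC16 P hcardP Z hZcen hZcard hsq hnab
  -- central elements of `P`, as a predicate on `L`
  have hwS : π (w : L) ∈ (S : Subgroup G) := w.2
  have hw1 : π (w : L) ≠ 1 := by
    intro h
    apply hwZ
    rw [hZ, Subgroup.mem_subgroupOf, MonoidHom.mem_ker]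
    exact h
  have hwcomm : ∀ p : L, π p ∈ (S : Subgroup G) → (w : L) * p = p * (w : L) := by
    intro p hp
    rw [Subgroup.mem_center_iff] at hwc
    have := hwc ⟨p, hp⟩
    have h2 := congrArg Subtype.val this
    simpa using h2.symm
  -- every element of `S` is the image of a central element of `P`
  have hall : ∀ y ∈ (S : Subgroup G), ∃ c : L, π c = y ∧
      ∀ p : L, π p ∈ (S : Subgroup G) → c * p = p * c := by
    intro y hy
    by_cases hy1 : y = 1
    · exact ⟨1, by simp [hy1], fun p _ => by simp⟩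
    · obtain ⟨g, hg, hgy⟩ := htr _ hwS y hy hw1 hy1
      obtain ⟨l, rfl⟩ := hπ g
      refine ⟨l * (w : L) * l⁻¹, by simpa using hgy, ?_⟩
      intro p hp
      have hginv : (π l)⁻¹ ∈ Subgroup.normalizer ((S : Subgroup G) : Set G) := inv_mem hg
      have hp' : π (l⁻¹ * p * l) ∈ (S : Subgroup G) := by
        have := (Subgroup.mem_normalizer_iff.mp hginv (π p)).mp hp
        simpa using this
      have hc := hwcomm _ hp'
      calc l * (w : L) * l⁻¹ * p = l * ((w : L) * (l⁻¹ * p * l)) * l⁻¹ := by group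
        _ = l * ((l⁻¹ * p * l) * (w : L)) * l⁻¹ := by rw [hc]
        _ = p * (l * (w : L) * l⁻¹) := by group
  obtain ⟨c, hca, hcc⟩ := hall _ ha
  have hk : a * c⁻¹ ∈ π.ker := by
    rw [MonoidHom.mem_ker, map_mul, map_inv, hca, mul_inv_cancel]
  have hkc := hker hk
  rw [Subgroup.mem_center_iff] at hkc
  apply hab
  have hcb := hcc b hb
  have hkb := hkc b
  calc a * b = (a * c⁻¹) * (c * b) := by group
    _ = (a * c⁻¹) * (b * c) := by rw [hcb]
    _ = ((a * c⁻¹) * b) * c := by group
    _ = (b * (a * c⁻¹)) * c := by rw [hkb]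
    _ = b * a := by group

end Cfsg.Agent.S3206P
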