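import Mathlib
import Cfsg.Prelude.Def_Solvable
import Cfsg.Prelude.Def_TwoFusion
import Cfsg.Agent.Helper7.S3206PABELMAIN
import Cfsg.Agent.Helper19.S3206CENTER16

set_option autoImplicit false
set_option linter.unusedSectionVars false
set_option linter.unusedVariables false

namespace Cfsg.Agent.S3206P

/-- PABEL: the preimage of `S` in a central extension by a group of order 2 is abelian. -/
theorem PABEL {G : Type*} [Group G] [Finite G] {L : Type*} [Group L] [Finite L]
    (π : L →* G) (hπ : Function.Surjective π) (hker : π.ker ≤ Subgroup.center L)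
    (hk2 : Nat.card ↥π.ker = 2)
    (S : Sylow 2 G) (hcard : Nat.card ↥(S : Subgroup G) = 8) (hexp : ∀ x ∈ (S : Subgroup G), x ^ 2 = 1)
    (htr : ∀ x ∈ (S : Subgroup G), ∀ y ∈ (S : Subgroup G), x ≠ 1 → y ≠ 1 →
      ∃ g ∈ Subgroup.normalizer ((S : Subgroup G) : Set G), g * x * g⁻¹ = y) :
    ∀ a b : L, π a ∈ (S : Subgroup G) → π b ∈ (S : Subgroup G) → a * b = b * a :=
  PABEL.aux_main (fun P hP Z hZ hZ2 hsq hnab => CENTER16 hP Z hZ hZ2 hsq hnab)
    π hπ hker hk2 S hcard hexp htr

end Cfsg.Agent.S3206P
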