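import Mathlib
import Cfsg.Agent.Lead.Coprime3
import Cfsg.Agent.Helper2.S4130Defs
import Cfsg.Agent.Helper7.S4130DIV
import Cfsg.Agent.Helper19.S4130PK2a

/-!
# S4130 board, rows PK2b and PK2
-/

set_option autoImplicit false
set_option linter.style.haveILetI false

namespace Cfsg.Agent.S4130P

open Subgroup
open scoped commutatorElement

/-- (PK2b) pure group theory: `x` a `q'`-element, `Q` a normal `q`-subgroup, `C_Q(x)` abelian of
index `q` in `Q`: then `Q` is abelian. -/
theorem PK2b {G : Type*} [Group G] [Finite G] (q : ℕ) [Fact q.Prime]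
    (Q : Subgroup G) [Q.Normal] (hQ : IsPGroup q Q) (x : G) (hx : (orderOf x).Coprime q)
    (hidx : (centralizer ({x} : Set G)).relIndex Q = q)
    (hab : ∀ y ∈ Q ⊓ centralizer ({x} : Set G), ∀ z ∈ Q ⊓ centralizer ({x} : Set G),
      y * z = z * y) :
    IsMulCommutative Q := by
  have hqp : q.Prime := Fact.out
  set A : Subgroup G := zpowers x with hA
  set C : Subgroup G := Q ⊓ centralizer ({x} : Set G) with hC
  have hcA : centralizer (A : Set G) = centralizer ({x} : Set G) := by
    rw [hA, zpowers_eq_closure, centralizer_closure]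
  obtain ⟨k, hk⟩ := IsPGroup.iff_card.mp hQ
  -- coprime action
  have hcopr : ⁅Q, A⁆ ⊔ (Q ⊓ centralizer (A : Set G)) = Q := by
    apply Cfsg.Agent.Lead.coprime_commutator_sup_centralizer A Q
    · rw [normalizer_eq_top_iff.mpr inferInstance]; exact le_top
    · rw [hA, Nat.card_zpowers, hk]
      exact Nat.Coprime.pow_right k hx
    · left
      rw [hA]
      infer_instance
  rw [hcA] at hcopr
  -- `C` is normalized by `Q`
  have hCn : ((centralizer ({x} : Set G)).subgroupOf Q).Normal := by
    apply Subgroup.normal_of_index_eq_minFac_card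
    have hk0 : k ≠ 0 := by
      rintro rfl
      rw [pow_zero] at hk
      have h1 : (centralizer ({x} : Set G)).relIndex Q ∣ Nat.card Q := relIndex_dvd_card _ _
      rw [hidx, hk] at h1
      exact hqp.one_lt.ne' (Nat.dvd_one.mp h1)
    rw [hk, hqp.pow_minFac hk0]
    exact hidx
  have hCQ : ⁅C, Q⁆ ≤ C := by
    rw [Subgroup.commutator_le]
    intro c hc g hg
    have h1 : (⟨c, hc.1⟩ : Q) ∈ (centralizer ({x} : Set G)).subgroupOf Q := by
      rw [mem_subgroupOf]; exact hc.2
    have h2 := hCn.conj_mem _ (inv_mem h1) ⟨g, hg⟩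
    rw [mem_subgroupOf] at h2
    have h3 : g * c⁻¹ * g⁻¹ ∈ C := ⟨Q.mul_mem (Q.mul_mem hg (Q.inv_mem hc.1)) (Q.inv_mem hg), by
      simpa using h2⟩
    have : ⁅c, g⁆ = c * (g * c⁻¹ * g⁻¹) := by
      rw [commutatorElement_def]; group
    rw [this]
    exact C.mul_mem hc h3
  -- `[C, A] = 1`
  have hCA : ⁅C, A⁆ = ⊥ := by
    rw [Subgroup.commutator_eq_bot_iff_le_centralizer, hcA]
    exact inf_le_right
  have hAC : ⁅A, C⁆ = ⊥ := by rw [Subgroup.commutator_comm]; exact hCA
  -- three subgroups
  have h3 : ⁅⁅Q, A⁆, C⁆ = ⊥ := by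
    apply Subgroup.commutator_commutator_eq_bot_of_rotate
    · rw [hAC]; exact Subgroup.commutator_bot_left Q
    · rw [eq_bot_iff, ← hCA]
      exact Subgroup.commutator_mono hCQ le_rfl
  -- `C` centralizes `Q`
  have hCcent : Q ≤ centralizer (C : Set G) := by
    rw [← hcopr]
    apply sup_le
    · exact Subgroup.commutator_eq_bot_iff_le_centralizer.mp h3
    · intro y hy
      rw [mem_centralizer_iff]
      intro z hz
      exact hab z hz y hy
  -- center of `Q` has index dividing `q`
  have hCZ : (centralizer ({x} : Set G)).subgroupOf Q ≤ center Q := by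
    intro c hc
    rw [mem_subgroupOf] at hc
    rw [Subgroup.mem_center_iff]
    intro g
    have h1 : (g : G) ∈ centralizer (C : Set G) := hCcent g.2
    rw [mem_centralizer_iff] at h1
    have h2 := h1 (c : G) ⟨c.2, hc⟩
    exact Subtype.ext (by simpa using h2.symm)
  have hZidx : (center Q).index ∣ q := by
    have := Subgroup.index_dvd_of_le hCZ
    rwa [show ((centralizer ({x} : Set G)).subgroupOf Q).index = q from hidx] at this
  haveI hcyc : IsCyclic (Q ⧸ center Q) := by
    rcases (Nat.dvd_prime hqp).mp hZidx with h1 | h1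
    · haveI : Subsingleton (Q ⧸ center Q) := by
        rw [← Finite.card_le_one_iff_subsingleton, ← Subgroup.index_eq_card, h1]
      infer_instance
    · haveI : Fact q.Prime := ⟨hqp⟩
      exact isCyclic_of_prime_card (p := q) (by rw [← Subgroup.index_eq_card, h1])
  exact MonoidHom.isMulCommutative_of_isCyclic_of_ker_le_center (QuotientGroup.mk' (center Q))
    (by rw [QuotientGroup.ker_mk'])

/-- (PK2) in an (SQ)-group every `q'`-element centralizes every nonabelian normal `q`-subgroup. -/
theorem PK2 {G : Type*} [Group G] [Finite G] (h : SqfCls G) (q : ℕ) [Fact q.Prime]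
    (Q : Subgroup G) [Q.Normal] (hQ : IsPGroup q Q) (hna : ¬ IsMulCommutative Q) (x : G)
    (hx : (orderOf x).Coprime q) : x ∈ centralizer (Q : Set G) := by
  by_contra hxQ
  apply hna
  apply PK2b q Q hQ x hx _ (PK2a h q Q hQ x hx hxQ)
  rcases DIVR h Q q hQ x with h1 | h1
  · exfalso
    apply hxQ
    rw [relIndex_eq_one] at h1
    rw [mem_centralizer_iff]
    intro y hy
    have := h1 hy
    rw [mem_centralizer_iff] at this
    exact (this x rfl).symm
  · exact h1

end Cfsg.Agent.S4130P
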