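import Mathlib
import Cfsg.Agent.Helper4.McLDefs

/-!
# S5075 (McLaughlin), pieces RHOSL / RHOSP: the restriction homomorphism `K → GL(Wspan K)`
-/

set_option autoImplicit false

namespace Cfsg.Agent.S5075P

variable {p : ℕ} [Fact p.Prime] {V : Type*} [AddCommGroup V] [Module (ZMod p) V]
variable {K : Subgroup (V ≃ₗ[ZMod p] V)}

theorem RHO_mem_Wspan (hgen : K = Subgroup.closure (TV K))
    {g : V ≃ₗ[ZMod p] V} (hg : g ∈ K) {x : V} (hx : x ∈ Wspan K) : g x ∈ Wspan K := by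
  have h := sub_mem_Wspan hgen hg x
  have e : g x = (g x - x) + x := by abel
  rw [e]
  exact Submodule.add_mem _ h hx

/-- the restriction of an element of `K` to `Wspan K` -/
noncomputable def RHOequiv (hgen : K = Subgroup.closure (TV K)) (g : ↥K) :
    ↥(Wspan K) ≃ₗ[ZMod p] ↥(Wspan K) :=
  LinearEquiv.ofLinearMap
    (((g : V ≃ₗ[ZMod p] V) : V →ₗ[ZMod p] V).restrict
      (fun x hx => RHO_mem_Wspan hgen g.2 hx))
    ((((g⁻¹ : ↥K) : V ≃ₗ[ZMod p] V) : V →ₗ[ZMod p] V).restrict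
      (fun x hx => RHO_mem_Wspan hgen (g⁻¹).2 hx))
    (by
      apply LinearMap.ext
      intro v
      apply Subtype.ext
      rw [LinearMap.comp_apply, LinearMap.coe_restrict_apply, LinearMap.coe_restrict_apply]
      show (g : V ≃ₗ[ZMod p] V) (((g⁻¹ : ↥K) : V ≃ₗ[ZMod p] V) (v : V)) = (v : V)
      rw [← LinearEquiv.mul_apply, ← Subgroup.coe_mul, mul_inv_cancel]
      rfl)
    (by
      apply LinearMap.ext
      intro v
      apply Subtype.ext
      rw [LinearMap.comp_apply, LinearMap.coe_restrict_apply, LinearMap.coe_restrict_apply]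
      show ((g⁻¹ : ↥K) : V ≃ₗ[ZMod p] V) ((g : V ≃ₗ[ZMod p] V) (v : V)) = (v : V)
      rw [← LinearEquiv.mul_apply, ← Subgroup.coe_mul, inv_mul_cancel]
      rfl)

theorem RHOequiv_coe (hgen : K = Subgroup.closure (TV K)) (g : ↥K) (v : ↥(Wspan K)) :
    ((RHOequiv hgen g v : ↥(Wspan K)) : V) = (g : V ≃ₗ[ZMod p] V) (v : V) := rfl

/-- the restriction homomorphism -/
noncomputable def RHOhom (hgen : K = Subgroup.closure (TV K)) :
    ↥K →* (↥(Wspan K) ≃ₗ[ZMod p] ↥(Wspan K)) where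
  toFun := RHOequiv hgen
  map_one' := by
    apply LinearEquiv.ext
    intro v
    apply Subtype.ext
    rw [RHOequiv_coe]
    rfl
  map_mul' a b := by
    apply LinearEquiv.ext
    intro v
    apply Subtype.ext
    rw [RHOequiv_coe, LinearEquiv.mul_apply, RHOequiv_coe, RHOequiv_coe]
    rfl

theorem RHOhom_coe (hgen : K = Subgroup.closure (TV K)) (g : ↥K) (v : ↥(Wspan K)) :
    ((RHOhom hgen g v : ↥(Wspan K)) : V) = (g : V ≃ₗ[ZMod p] V) (v : V) := rfl

/-- the restriction of a transvection of `K` with centre in `Wspan K` -/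
theorem RHOhom_tv (hgen : K = Subgroup.closure (TV K)) {v : V} {ξ : Module.Dual (ZMod p) V}
    (h : InI K v ξ) (w : ↥(Wspan K)) :
    ((RHOhom hgen ⟨tv v ξ, h.2⟩ w : ↥(Wspan K)) : V) = (w : V) + ξ (w : V) • v := by
  rw [RHOhom_coe]
  exact tv_apply h.1 _

/-- membership in the range, by generators -/
theorem RHO_le_range (hgen : K = Subgroup.closure (TV K))
    (S : Set (↥(Wspan K) ≃ₗ[ZMod p] ↥(Wspan K)))
    (hS : ∀ t ∈ S, ∃ (v : V) (ξ : Module.Dual (ZMod p) V), InI K v ξ ∧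
      ∀ w : ↥(Wspan K), ((t w : ↥(Wspan K)) : V) = (w : V) + ξ (w : V) • v) :
    Subgroup.closure S ≤ (RHOhom hgen).range := by
  rw [Subgroup.closure_le]
  intro t ht
  obtain ⟨v, ξ, h, hw⟩ := hS t ht
  refine ⟨⟨tv v ξ, h.2⟩, ?_⟩
  apply LinearEquiv.ext
  intro w
  apply Subtype.ext
  rw [RHOhom_tv hgen h, hw]

/-- a property of the restrictions of all elements of `K`, by generators -/
theorem RHO_induction (hgen : K = Subgroup.closure (TV K))
    (S : Subgroup (↥(Wspan K) ≃ₗ[ZMod p] ↥(Wspan K)))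
    (hS : ∀ (v : V) (φ : Module.Dual (ZMod p) V) (h : InI0 K v φ),
      RHOhom hgen ⟨tv v φ, h.1.2⟩ ∈ S) (g : ↥K) : RHOhom hgen g ∈ S := by
  have hle : K ≤ (S.comap (RHOhom hgen)).map K.subtype := by
    refine hgen.le.trans ?_
    rw [Subgroup.closure_le]
    intro t ht
    obtain ⟨v, φ, h, rfl⟩ := ht
    exact ⟨⟨tv v φ, h.1.2⟩, hS v φ h, rfl⟩
  obtain ⟨k, hk, hkg⟩ := hle g.2
  have : k = g := Subtype.ext hkg
  rw [← this]
  exact hk

end Cfsg.Agent.S5075P
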