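import Mathlib
import Cfsg.Agent.Helper4.McLDefs
import Cfsg.Agent.Helper7.McLRHO0
import Cfsg.Agent.Helper26.McLSLGEN

/-!
# S5075 (McLaughlin), piece RHOSL: in the linear case `K` restricted to `Wspan K` is `SL(Wspan K)`
-/

set_option autoImplicit false

namespace Cfsg.Agent.S5075P

variable {p : ℕ} [Fact p.Prime] {V : Type*} [AddCommGroup V] [Module (ZMod p) V]

theorem rho_SL [Finite V] (K : Subgroup (V ≃ₗ[ZMod p] V)) (hgen : K = Subgroup.closure (TV K))
    (hc : IsCompl (Wspan K) (Uker K)) (h : ConclSL K) :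
    ∃ ρ : ↥K →* (↥(Wspan K) ≃ₗ[ZMod p] ↥(Wspan K)),
      (∀ (h : ↥K) (v : ↥(Wspan K)), ((ρ h v : ↥(Wspan K)) : V) = (h : V ≃ₗ[ZMod p] V) (v : V)) ∧
      (ρ.range : Set (↥(Wspan K) ≃ₗ[ZMod p] ↥(Wspan K))) =
        {f : ↥(Wspan K) ≃ₗ[ZMod p] ↥(Wspan K) |
          LinearMap.det (f : ↥(Wspan K) →ₗ[ZMod p] ↥(Wspan K)) = 1} := by
  refine ⟨RHOhom hgen, fun g v => RHOhom_coe hgen g v, ?_⟩
  apply Set.Subset.antisymm
  · -- every restriction has determinant one
    rintro f ⟨g, rfl⟩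
    have hmem : RHOhom hgen g ∈ (LinearEquiv.det :
        (↥(Wspan K) ≃ₗ[ZMod p] ↥(Wspan K)) →* (ZMod p)ˣ).ker := by
      apply RHO_induction hgen
      intro v φ hI
      rw [MonoidHom.mem_ker]
      have hv : v ∈ Wspan K := Submodule.subset_span ⟨φ, hI⟩
      have hfv : (φ ∘ₗ (Wspan K).subtype) (⟨v, hv⟩ : ↥(Wspan K)) = 0 := hI.1.1
      have e : RHOhom hgen ⟨tv v φ, hI.1.2⟩ = LinearEquiv.transvection hfv := by
        apply LinearEquiv.ext
        intro w
        apply Subtype.ext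
        rw [RHOhom_tv hgen hI.1, LinearEquiv.transvection.apply]
        rfl
      rw [e]
      exact LinearEquiv.transvection.det_eq_one hfv
    rw [MonoidHom.mem_ker] at hmem
    show LinearMap.det ((RHOhom hgen g : ↥(Wspan K) ≃ₗ[ZMod p] ↥(Wspan K)) :
      ↥(Wspan K) →ₗ[ZMod p] ↥(Wspan K)) = 1
    rw [← LinearEquiv.coe_det, hmem]
    rfl
  · -- every element of determinant one is a product of restricted transvections
    intro f hf
    have hf' : LinearMap.det (f : ↥(Wspan K) →ₗ[ZMod p] ↥(Wspan K)) = 1 := hf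
    have h1 := sl_gen f hf'
    refine RHO_le_range hgen _ ?_ h1
    rintro t ⟨f', v', hfv, rfl⟩
    refine ⟨(v' : V), f' ∘ₗ ((Wspan K).projectionOnto (Uker K) hc), ?_, ?_⟩
    · apply h (v' : V) v'.2
      · intro u hu
        rw [LinearMap.comp_apply, Submodule.projectionOnto_apply_of_mem_right hc hu, map_zero]
      · rw [LinearMap.comp_apply, Submodule.projectionOnto_apply_left hc v', hfv]
    · intro w
      rw [LinearEquiv.transvection.apply, LinearMap.comp_apply,
        Submodule.projectionOnto_apply_left hc w]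
      rfl

end Cfsg.Agent.S5075P
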