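import Mathlib
import Cfsg.Agent.Helper4.McLDefs
import Cfsg.Agent.Helper7.McLRHO0
import Cfsg.Agent.Helper26.McLSPGEN

/-!
# S5075 (McLaughlin), piece RHOSP: in the symplectic case `K` restricted to `Wspan K` is
`Sp(Wspan K, B)`
-/

set_option autoImplicit false
set_option linter.unusedVariables false

namespace Cfsg.Agent.S5075P

variable {p : ℕ} [Fact p.Prime] {V : Type*} [AddCommGroup V] [Module (ZMod p) V]

/-- all elements of `K` preserve the form of `ConclSp` -/
theorem RHOSP_isom {K : Subgroup (V ≃ₗ[ZMod p] V)} (hgen : K = Subgroup.closure (TV K))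
    {B : LinearMap.BilinForm (ZMod p) V} (halt : B.IsAlt)
    (hform : ∀ v φ, InI0 K v φ → ∃ a : ZMod p, φ = a • B v) {g : V ≃ₗ[ZMod p] V} (hg : g ∈ K) :
    ∀ x y, B (g x) (g y) = B x y := by
  have hg' := hgen.le hg
  clear hg
  induction hg' using Subgroup.closure_induction with
  | mem t ht =>
    obtain ⟨v, φ, hI, rfl⟩ := ht
    obtain ⟨a, rfl⟩ := hform v φ hI
    intro x y
    rw [tv_apply hI.1.1, tv_apply hI.1.1]
    have h1 : B x v = - B v x := by
      have := halt.neg_eq x v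
      rw [← this, neg_neg]
    simp only [map_add, map_smul, LinearMap.add_apply, LinearMap.smul_apply, smul_eq_mul, h1,
      halt v]
    ring
  | one => intro x y; rfl
  | mul a b _ _ ha hb =>
    intro x y
    rw [LinearEquiv.mul_apply, LinearEquiv.mul_apply, ha, hb]
  | inv a _ ha =>
    intro x y
    have e : ∀ z, a (a⁻¹ z) = z := by
      intro z
      rw [← LinearEquiv.mul_apply, mul_inv_cancel]; rfl
    rw [← ha (a⁻¹ x) (a⁻¹ y), e, e]

theorem rho_Sp [Finite V] (K : Subgroup (V ≃ₗ[ZMod p] V)) (hgen : K = Subgroup.closure (TV K))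
    (hc : IsCompl (Wspan K) (Uker K)) (h : ConclSp K) :
    ∃ ρ : ↥K →* (↥(Wspan K) ≃ₗ[ZMod p] ↥(Wspan K)),
      (∀ (h : ↥K) (v : ↥(Wspan K)), ((ρ h v : ↥(Wspan K)) : V) = (h : V ≃ₗ[ZMod p] V) (v : V)) ∧
      ∃ B : LinearMap.BilinForm (ZMod p) ↥(Wspan K), B.IsAlt ∧ B.Nondegenerate ∧
        (ρ.range : Set (↥(Wspan K) ≃ₗ[ZMod p] ↥(Wspan K))) =
          {f : ↥(Wspan K) ≃ₗ[ZMod p] ↥(Wspan K) | ∀ x y, B (f x) (f y) = B x y} := by
  obtain ⟨B, halt, -, hnd, hfull, hform⟩ := h
  have hB' : ∀ x y : ↥(Wspan K), (B.restrict (Wspan K)) x y = B (x : V) (y : V) := by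
    intro x y
    rw [LinearMap.BilinForm.restrict_apply]
    rfl
  have halt' : (B.restrict (Wspan K)).IsAlt := by
    intro x
    rw [hB']
    exact halt _
  have hleft : (B.restrict (Wspan K)).SeparatingLeft := by
    intro x hx
    apply Subtype.ext
    apply hnd (x : V) x.2
    intro y hy
    have := hx ⟨y, hy⟩
    rw [hB'] at this
    exact this
  have hright : (B.restrict (Wspan K)).SeparatingRight := by
    intro y hy
    apply hleft y
    intro x
    have h1 := hy x
    have h2 := halt'.neg_eq y x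
    rw [h1] at h2
    exact neg_eq_zero.mp h2
  refine ⟨RHOhom hgen, fun g v => RHOhom_coe hgen g v, B.restrict (Wspan K), halt',
    ⟨hleft, hright⟩, ?_⟩
  apply Set.Subset.antisymm
  · rintro f ⟨g, rfl⟩
    intro x y
    rw [hB', hB', RHOhom_coe, RHOhom_coe]
    exact RHOSP_isom hgen halt hform g.2 _ _
  · intro f hf
    have hf' : ∀ x y, (B.restrict (Wspan K)) (f x) (f y) = (B.restrict (Wspan K)) x y := hf
    have h1 := sp_gen (B.restrict (Wspan K)) halt' ⟨hleft, hright⟩ f hf'
    refine RHO_le_range hgen _ ?_ h1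
    rintro t ⟨w, c, hcw, rfl⟩
    refine ⟨(w : V), c • B (w : V), (hfull (w : V) w.2).smul_right c, ?_⟩
    intro x
    rw [LinearEquiv.transvection.apply, LinearMap.smul_apply, LinearMap.smul_apply, hB']
    rfl

end Cfsg.Agent.S5075P
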