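import Mathlib
import Cfsg.Agent.Helper4.MinIdxDefs
import Cfsg.Agent.Helper4.MinIdxCommon
import Cfsg.Agent.Helper4.MinIdxLin

set_option autoImplicit false
set_option linter.unusedSectionVars false

/-! S2140 piece DICH2: `WeakB` + numerics ⇒ `CaseB`. -/

namespace Cfsg.Agent.S2140P

open Matrix Cfsg.Agent.Helper12.TVG

namespace DICH2

section abstract

variable {Q : Type*} [Group Q] {X : Type*} [MulAction Q X]

theorem card_eq_sum_orbits [Finite X] [Fintype (MulAction.orbitRel.Quotient Q X)] :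
    Nat.card X = ∑ o : MulAction.orbitRel.Quotient Q X, Nat.card (MulAction.orbit Q o.out) := by
  rw [Nat.card_congr (MulAction.selfEquivSigmaOrbits Q X), Nat.card_sigma]

theorem orbit_out_eq (x : X) :
    MulAction.orbit Q (Quotient.out (Quotient.mk (MulAction.orbitRel Q X) x)) = MulAction.orbit Q x := by
  apply MulAction.orbit_eq_iff.mpr
  have h := Quotient.exact (Quotient.out_eq (Quotient.mk (MulAction.orbitRel Q X) x))
  exact h

theorem all_orbits_eq [Finite X] (q k : ℕ)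
    (hle : ∀ x : X, Nat.card (MulAction.orbit Q x) ≤ q)
    (hk : Nat.card (MulAction.orbitRel.Quotient Q X) = k)
    (hcard : k * q ≤ Nat.card X) (x : X) : Nat.card (MulAction.orbit Q x) = q := by
  classical
  let _ : Fintype (MulAction.orbitRel.Quotient Q X) := Fintype.ofFinite _
  by_contra hne
  have hlt : Nat.card (MulAction.orbit Q x) < q := lt_of_le_of_ne (hle x) hne
  have hsum : ∑ o : MulAction.orbitRel.Quotient Q X, Nat.card (MulAction.orbit Q o.out) <
      ∑ _o : MulAction.orbitRel.Quotient Q X, q := by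
    apply Finset.sum_lt_sum
    · intro o _
      exact hle _
    · refine ⟨Quotient.mk (MulAction.orbitRel Q X) x, Finset.mem_univ _, ?_⟩
      rw [orbit_out_eq]
      exact hlt
  rw [← card_eq_sum_orbits, Finset.sum_const, Finset.card_univ, ← Nat.card_eq_fintype_card, hk,
    smul_eq_mul] at hsum
  omega

end abstract

variable {n : ℕ} {F : Type*} [Field F]

theorem num_aux (q f N P : ℕ) (hq : 1 < q) (h1 : (q - 1) * N = P - 1) (hP : 0 < P)
    (hle : f + 1 ≤ N) : (f + 1) * q ≤ f + P := by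
  obtain ⟨q', rfl⟩ : ∃ q', q = q' + 1 := ⟨q - 1, by omega⟩
  simp only [Nat.add_sub_cancel] at h1
  have h2 : q' * (f + 1) ≤ q' * N := Nat.mul_le_mul_left _ hle
  have h3 : (f + 1) * (q' + 1) = q' * (f + 1) + (f + 1) := by ring
  omega

theorem TS_inj {v φ ψ : Fin n → F} (hv : v ≠ 0) (h : φ ⬝ᵥ v = 0) (h' : ψ ⬝ᵥ v = 0)
    (he : TS v φ h = TS v ψ h') : φ = ψ := by
  obtain ⟨i, hi⟩ := Function.ne_iff.mp hv
  have hM : TM v φ = TM v ψ := congrArg Subtype.val he
  funext j
  have := congrFun (congrFun hM i) j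
  unfold TM at this
  rw [Matrix.add_apply, Matrix.add_apply, vecMulVec_apply, vecMulVec_apply] at this
  have h2 := add_left_cancel this
  exact mul_left_cancel₀ hi h2

variable {Ω : Type*} [MulAction (SLn n F) Ω]

theorem card_stab (v : Fin n → F) (hv : v ≠ 0) (ω : Ω) :
    Nat.card (MulAction.stabilizer (Qc v) ω) = Nat.card (fixCov v ω) := by
  symm
  refine Nat.card_congr (Equiv.ofBijective
    (fun φ : fixCov v ω => (⟨⟨TS v φ.1 φ.2.fst, TS_mem_Qc v φ.1 φ.2.fst⟩, φ.2.snd⟩ :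
      MulAction.stabilizer (Qc v) ω)) ⟨?_, ?_⟩)
  · intro φ ψ h
    apply Subtype.ext
    have h1 := congrArg (fun g : MulAction.stabilizer (Qc v) ω => ((g : Qc v) : SLn n F)) h
    exact TS_inj hv φ.2.fst ψ.2.fst h1
  · rintro ⟨⟨g, φ, h, rfl⟩, hg⟩
    exact ⟨⟨φ, h, hg⟩, rfl⟩

theorem card_Qc [Fintype F] (v : Fin n → F) (hv : v ≠ 0) :
    Nat.card (Qc v) = (Fintype.card F) ^ (n - 1) := by
  rw [← card_annV v hv]
  symm
  refine Nat.card_congr (Equiv.ofBijective
    (fun φ : annV v => (⟨TS v φ.1 φ.2, TS_mem_Qc v φ.1 φ.2⟩ : Qc v)) ⟨?_, ?_⟩)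
  · intro φ ψ h
    apply Subtype.ext
    exact TS_inj hv φ.2 ψ.2 (congrArg Subtype.val h)
  · rintro ⟨g, φ, h, rfl⟩
    exact ⟨⟨φ, h⟩, rfl⟩

/-- orbit-stabilizer in covector coordinates. -/
theorem card_fixCov_mul_orbit [Fintype F] (v : Fin n → F) (hv : v ≠ 0) (ω : Ω) :
    Nat.card (fixCov v ω) * Nat.card (MulAction.orbit (Qc v) ω) = (Fintype.card F) ^ (n - 1) := by
  rw [← card_stab v hv, ← card_Qc v hv, Nat.card_coe_set_eq, ← MulAction.index_stabilizer]
  exact Subgroup.card_mul_index _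

theorem card_Ax [Fintype F] (v x : Fin n → F) (hv : v ≠ 0) (hx : ¬ ∃ c : F, x = c • v) :
    Nat.card {φ : Fin n → F | φ ⬝ᵥ v = 0 ∧ φ ⬝ᵥ x = 0} * Fintype.card F =
      (Fintype.card F) ^ (n - 1) := by
  obtain ⟨φ₀, h0v, h0x⟩ := exists_cov_sep v x hx
  rw [← card_annV v hv, ← Nat.card_eq_fintype_card (α := F), ← Nat.card_prod]
  refine Nat.card_congr ?_
  exact
    { toFun := fun p => ⟨p.1.1 + p.2 • φ₀, by
        show (p.1.1 + p.2 • φ₀) ⬝ᵥ v = 0
        rw [add_dotProduct, smul_dotProduct, h0v, p.1.2.1]; simp⟩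
      invFun := fun φ => (⟨φ.1 - (φ.1 ⬝ᵥ x) • φ₀, by
        constructor
        · rw [sub_dotProduct, smul_dotProduct, h0v, (φ.2 : φ.1 ⬝ᵥ v = 0)]; simp
        · rw [sub_dotProduct, smul_dotProduct, h0x]; simp⟩, φ.1 ⬝ᵥ x)
      left_inv := by
        rintro ⟨⟨ψ, hψv, hψx⟩, c⟩
        have hc : (ψ + c • φ₀) ⬝ᵥ x = c := by
          rw [add_dotProduct, smul_dotProduct, h0x, hψx]; simp
        apply Prod.ext
        · apply Subtype.ext
          show ψ + c • φ₀ - ((ψ + c • φ₀) ⬝ᵥ x) • φ₀ = ψ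
          rw [hc]; abel
        · exact hc
      right_inv := by
        rintro ⟨φ, hφ⟩
        apply Subtype.ext
        show φ - (φ ⬝ᵥ x) • φ₀ + (φ ⬝ᵥ x) • φ₀ = φ
        abel }

theorem card_fixCov_pos [Fintype F] (v : Fin n → F) (ω : Ω) : 0 < Nat.card (fixCov v ω) := by
  have : Nonempty (fixCov v ω) := ⟨⟨0, zero_mem_fixCov v ω⟩⟩
  exact Nat.card_pos

theorem card_fixCov_full [Fintype F] (v : Fin n → F) (hv : v ≠ 0) (ω : Ω)
    (h : fixCov v ω = {φ | φ ⬝ᵥ v = 0}) : Nat.card (fixCov v ω) = (Fintype.card F) ^ (n - 1) := by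
  rw [← card_annV v hv, h]
  exact Nat.card_congr (Equiv.subtypeEquivRight (fun φ => Iff.rfl))

end DICH2

open DICH2 in
theorem dich_exact {n : ℕ} {F : Type*} [Field F] [Fintype F]
    {Ω : Type*} [MulAction (SLn n F) Ω] [Finite Ω]
    (hn : 3 ≤ n) (v : Fin n → F) (hv : v ≠ 0) (f : ℕ) (hW : WeakB Ω v)
    (hd : Nat.card Ω = f + (Fintype.card F) ^ (n - 1))
    (ho : Nat.card (MulAction.orbitRel.Quotient (Qc v) Ω) = f + 1)
    (hle : f + 1 ≤ gsN (Fintype.card F) (n - 1)) : CaseB Ω v := by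
  have hq : 1 < Fintype.card F := Fintype.one_lt_card
  set q := Fintype.card F with hqdef
  have hqpos : 0 < q ^ (n - 1) := pow_pos (by omega) _
  -- every orbit has at most `q` points
  have hL1 : ∀ ω : Ω, q ^ (n - 1) ≤ Nat.card (fixCov v ω) * q := by
    intro ω
    rcases hW ω with h | ⟨x, hx, hsub⟩
    · rw [card_fixCov_full v hv ω h]
      exact Nat.le_mul_of_pos_right _ (by omega)
    · rw [← card_Ax v x hv hx]
      apply Nat.mul_le_mul_right
      exact Nat.card_mono (Set.toFinite _) hsub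
  have hL2 : ∀ ω : Ω, Nat.card (MulAction.orbit (Qc v) ω) ≤ q := by
    intro ω
    have h1 := card_fixCov_mul_orbit v hv ω
    have h2 := hL1 ω
    rw [← h1] at h2
    exact Nat.le_of_mul_le_mul_left h2 (card_fixCov_pos v ω)
  -- numerics
  have hnum : (f + 1) * q ≤ Nat.card Ω := by
    rw [hd]
    exact num_aux q f _ _ hq (gsN_mul q (n - 1) (by omega)) hqpos hle
  have hL3 := all_orbits_eq (Q := Qc v) (X := Ω) q (f + 1) hL2 ho hnum
  intro ω
  have hK := card_fixCov_mul_orbit v hv ω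
  rw [hL3 ω] at hK
  rcases hW ω with h | ⟨x, hx, hsub⟩
  · exfalso
    rw [card_fixCov_full v hv ω h] at hK
    have : q ^ (n - 1) * q = q ^ (n - 1) * 1 := by rw [hK, mul_one]
    have := Nat.eq_of_mul_eq_mul_left hqpos this
    omega
  · refine ⟨x, hx, ?_⟩
    symm
    apply Set.eq_of_subset_of_ncard_le hsub _ (Set.toFinite _)
    rw [← Nat.card_coe_set_eq, ← Nat.card_coe_set_eq]
    have h1 := card_Ax v x hv hx
    rw [← hK] at h1
    exact le_of_eq (Nat.eq_of_mul_eq_mul_right (by omega) h1).symm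

end Cfsg.Agent.S2140P
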