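import Mathlib
import Cfsg.Agent.Helper4.MinIdxDefs

set_option autoImplicit false
set_option linter.unusedSectionVars false

/-! S2140 piece HEISa1: the Heisenberg subgroup `r(a,b,z)` of `SL_(m+2)(F)`. -/

namespace Cfsg.Agent.S2140P

open Matrix Cfsg.Agent.Helper12.TVG

namespace HEISa1

variable {m : ℕ} {F : Type*} [Field F]

/-- index type `1 + m + 1`. -/
abbrev SI (m : ℕ) := Unit ⊕ (Fin m ⊕ Unit)

def E0 (m : ℕ) (F : Type*) [Field F] : SI m → F := Sum.elim (fun _ => 1) (fun _ => 0)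
def EL (m : ℕ) (F : Type*) [Field F] : SI m → F :=
  Sum.elim (fun _ => 0) (Sum.elim (fun _ => 0) (fun _ => 1))
def Mid (a : Fin m → F) : SI m → F := Sum.elim (fun _ => 0) (Sum.elim a (fun _ => 0))

theorem dot_SI (x y : SI m → F) : x ⬝ᵥ y = x (Sum.inl ()) * y (Sum.inl ()) +
    ((∑ i, x (Sum.inr (Sum.inl i)) * y (Sum.inr (Sum.inl i))) +
      x (Sum.inr (Sum.inr ())) * y (Sum.inr (Sum.inr ()))) := by
  simp [dotProduct, Fintype.sum_sum_type]

theorem Mid_add (a a' : Fin m → F) : Mid (a + a') = Mid a + Mid a' := by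
  funext i; rcases i with u | (i | u) <;> simp [Mid]

theorem Mid_smul (c : F) (a : Fin m → F) : Mid (c • a) = c • Mid a := by
  funext i; rcases i with u | (i | u) <;> simp [Mid]

theorem Mid_zero : Mid (0 : Fin m → F) = 0 := by
  funext i; rcases i with u | (i | u) <;> simp [Mid]

theorem d_E0_E0 : E0 m F ⬝ᵥ E0 m F = 1 := by rw [dot_SI]; simp [E0]
theorem d_EL_E0 : EL m F ⬝ᵥ E0 m F = 0 := by rw [dot_SI]; simp [E0, EL]
theorem d_E0_EL : E0 m F ⬝ᵥ EL m F = 0 := by rw [dot_SI]; simp [E0, EL]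
theorem d_EL_EL : EL m F ⬝ᵥ EL m F = 1 := by rw [dot_SI]; simp [EL]
theorem d_Mid_E0 (a : Fin m → F) : Mid a ⬝ᵥ E0 m F = 0 := by rw [dot_SI]; simp [E0, Mid]
theorem d_E0_Mid (a : Fin m → F) : E0 m F ⬝ᵥ Mid a = 0 := by rw [dot_SI]; simp [E0, Mid]
theorem d_Mid_EL (a : Fin m → F) : Mid a ⬝ᵥ EL m F = 0 := by rw [dot_SI]; simp [EL, Mid]
theorem d_EL_Mid (a : Fin m → F) : EL m F ⬝ᵥ Mid a = 0 := by rw [dot_SI]; simp [EL, Mid]
theorem d_Mid_Mid (a b : Fin m → F) : Mid a ⬝ᵥ Mid b = a ⬝ᵥ b := by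
  rw [dot_SI]; simp [Mid, dotProduct]

/-- The row vector `(0, a, z)`. -/
def Row (a : Fin m → F) (z : F) : SI m → F := Mid a + z • EL m F

theorem d_Row_E0 (a : Fin m → F) (z : F) : Row a z ⬝ᵥ E0 m F = 0 := by
  unfold Row; rw [add_dotProduct, smul_dotProduct, d_Mid_E0, d_EL_E0]; simp

theorem d_Row_Mid (a b : Fin m → F) (z : F) : Row a z ⬝ᵥ Mid b = a ⬝ᵥ b := by
  unfold Row; rw [add_dotProduct, smul_dotProduct, d_Mid_Mid, d_EL_Mid]; simp

theorem Row_eq_zero {a : Fin m → F} {z : F} (h : Row a z = 0) : a = 0 ∧ z = 0 := by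
  constructor
  · funext i
    have := congrFun h (Sum.inr (Sum.inl i))
    simpa [Row, Mid, EL] using this
  · have := congrFun h (Sum.inr (Sum.inr ()))
    simpa [Row, Mid, EL] using this

theorem Mid_eq_zero {b : Fin m → F} (h : Mid b = 0) : b = 0 := by
  funext i
  have := congrFun h (Sum.inr (Sum.inl i))
  simpa [Mid] using this

variable {ι : Type*} [Fintype ι] [DecidableEq ι] (e : SI m ≃ ι)

/-- transport of a vector along `e`. -/
def up (x : SI m → F) : ι → F := x ∘ e.symm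

theorem up_dot (x y : SI m → F) : up e x ⬝ᵥ up e y = x ⬝ᵥ y :=
  comp_equiv_dotProduct_comp_equiv x y e.symm

theorem up_add (x y : SI m → F) : up e (x + y) = up e x + up e y := rfl
theorem up_smul (c : F) (x : SI m → F) : up e (c • x) = c • up e x := rfl
theorem up_zero : up e (0 : SI m → F) = 0 := rfl
theorem up_apply (x : SI m → F) (i : SI m) : up e x (e i) = x i := by simp [up]

theorem up_eq_zero {x : SI m → F} (h : up e x = 0) : x = 0 := by
  funext i
  have := congrFun h (e i)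
  rw [up_apply] at this
  exact this

/-- The matrix of `r(a,b,z)`. -/
def RM (a b : Fin m → F) (z : F) : Matrix ι ι F :=
  1 + vecMulVec (up e (E0 m F)) (up e (Row a z)) + vecMulVec (up e (Mid b)) (up e (EL m F))

theorem RM_factor (a b : Fin m → F) (z : F) :
    RM e a b z = TM (up e (E0 m F)) (up e (Row a (z - a ⬝ᵥ b))) * TM (up e (Mid b)) (up e (EL m F)) := by
  unfold RM TM
  simp only [add_mul, mul_add, one_mul, mul_one]
  rw [vecMulVec_mul_vecMulVec, up_dot, d_Row_Mid, ← up_smul]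
  have h : Row a z = Row a (z - a ⬝ᵥ b) + (a ⬝ᵥ b) • EL m F := by
    unfold Row; rw [sub_smul]; abel
  rw [h, up_add, vecMulVec_add]
  abel

theorem det_RM (a b : Fin m → F) (z : F) : (RM e a b z).det = 1 := by
  rw [RM_factor, det_mul, det_TM, det_TM, one_mul]
  · rw [up_dot, d_EL_Mid]
  · rw [up_dot, d_Row_E0]

/-- The element `r(a,b,z)`. -/
def rr (a b : Fin m → F) (z : F) : Matrix.SpecialLinearGroup ι F := ⟨RM e a b z, det_RM e a b z⟩

theorem RM_mul (a b : Fin m → F) (z : F) (a' b' : Fin m → F) (z' : F) :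
    RM e a b z * RM e a' b' z' = RM e (a + a') (b + b') (z + z' + a ⬝ᵥ b') := by
  unfold RM
  simp only [add_mul, mul_add, one_mul, mul_one]
  rw [vecMulVec_mul_vecMulVec, vecMulVec_mul_vecMulVec, vecMulVec_mul_vecMulVec,
    vecMulVec_mul_vecMulVec, up_dot, up_dot, up_dot, up_dot, d_Row_E0, d_Row_Mid, d_EL_E0,
    d_EL_Mid, zero_smul, zero_smul, vecMulVec_zero, vecMulVec_zero]
  have h : Row (a + a') (z + z' + a ⬝ᵥ b') = Row a z + Row a' z' + (a ⬝ᵥ b') • EL m F := by
    unfold Row; rw [Mid_add, add_smul, add_smul]; abel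
  rw [h, Mid_add, up_add, up_add, up_add, vecMulVec_add, vecMulVec_add, add_vecMulVec, ← up_smul]
  abel

theorem rr_mul (a b : Fin m → F) (z : F) (a' b' : Fin m → F) (z' : F) :
    rr e a b z * rr e a' b' z' = rr e (a + a') (b + b') (z + z' + a ⬝ᵥ b') := by
  apply Subtype.ext
  exact RM_mul e a b z a' b' z'

theorem RM_apply (a b : Fin m → F) (z : F) (i j : SI m) :
    RM e a b z (e i) (e j) = (if i = j then 1 else 0) + E0 m F i * Row a z j + Mid b i * EL m F j := by
  unfold RM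
  rw [Matrix.add_apply, Matrix.add_apply, vecMulVec_apply, vecMulVec_apply, up_apply, up_apply,
    up_apply, up_apply, Matrix.one_apply]
  simp [e.injective.eq_iff]

theorem rr_eq_one {a b : Fin m → F} {z : F} (h : rr e a b z = 1) : a = 0 ∧ b = 0 ∧ z = 0 := by
  have hM : RM e a b z = 1 := congrArg Subtype.val h
  have hrow : Row a z = 0 := by
    funext j
    have := RM_apply e a b z (Sum.inl ()) j
    rw [hM, Matrix.one_apply] at this
    simp only [e.injective.eq_iff] at this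
    simpa [E0, Mid] using this.symm
  have hmid : Mid b = 0 := by
    funext i
    have := RM_apply e a b z i (Sum.inr (Sum.inr ()))
    rw [hM, Matrix.one_apply, hrow] at this
    simp only [e.injective.eq_iff] at this
    simpa [EL] using this.symm
  obtain ⟨ha, hz⟩ := Row_eq_zero hrow
  exact ⟨ha, Mid_eq_zero hmid, hz⟩

theorem up_E0_ne : up e (E0 m F) ≠ 0 := by
  intro h
  have := congrFun (up_eq_zero e h) (Sum.inl ())
  simp [E0] at this

theorem up_EL_ne : up e (EL m F) ≠ 0 := by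
  intro h
  have := congrFun (up_eq_zero e h) (Sum.inr (Sum.inr ()))
  simp [EL] at this

theorem rr_b_zero (a : Fin m → F) (z : F) (h : up e (Row a z) ⬝ᵥ up e (E0 m F) = 0) :
    rr e a 0 z = TS (up e (E0 m F)) (up e (Row a z)) h := by
  apply Subtype.ext
  show RM e a 0 z = TM _ _
  unfold RM TM
  rw [Mid_zero, up_zero, zero_vecMulVec, add_zero]

theorem rr_a_zero (b : Fin m → F) (z : F)
    (h : up e (EL m F) ⬝ᵥ up e (z • E0 m F + Mid b) = 0) :
    rr e 0 b z = TS (up e (z • E0 m F + Mid b)) (up e (EL m F)) h := by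
  apply Subtype.ext
  show RM e 0 b z = TM _ _
  unfold RM TM
  have h1 : Row (0 : Fin m → F) z = z • EL m F := by unfold Row; rw [Mid_zero, zero_add]
  rw [h1, up_smul, vecMulVec_smul, up_add, add_vecMulVec, up_smul, smul_vecMulVec, add_assoc]

/-- The Levi matrix on `SI m`. -/
def HM (l μ : F) (A : Matrix (Fin m) (Fin m) F) : Matrix (SI m) (SI m) F :=
  fromBlocks (Matrix.of fun _ _ => l) 0 0 (fromBlocks A 0 0 (Matrix.of fun _ _ => μ))

theorem det_HM (l μ : F) (A : Matrix (Fin m) (Fin m) F) : (HM l μ A).det = l * (A.det * μ) := by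
  unfold HM
  have h1 : (Matrix.of fun (_ _ : Unit) => l).det = l := by rw [det_unique]; rfl
  have h2 : (Matrix.of fun (_ _ : Unit) => μ).det = μ := by rw [det_unique]; rfl
  rw [det_fromBlocks_zero₂₁, det_fromBlocks_zero₂₁, h1, h2]

theorem HM_mulVec_E0 (l μ : F) (A : Matrix (Fin m) (Fin m) F) :
    HM l μ A *ᵥ E0 m F = l • E0 m F := by
  funext i
  rcases i with u | (i | u) <;>
    simp [HM, E0, mulVec, dotProduct, Fintype.sum_sum_type]

theorem HM_mulVec_Mid (l μ : F) (A : Matrix (Fin m) (Fin m) F) (b : Fin m → F) :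
    HM l μ A *ᵥ Mid b = Mid (A *ᵥ b) := by
  funext i
  rcases i with u | (i | u) <;>
    simp [HM, Mid, mulVec, dotProduct, Fintype.sum_sum_type]

theorem EL_vecMul_HM (l μ : F) (A : Matrix (Fin m) (Fin m) F) :
    EL m F ᵥ* HM l μ A = μ • EL m F := by
  funext i
  rcases i with u | (i | u) <;>
    simp [HM, EL, vecMul, dotProduct, Fintype.sum_sum_type]

theorem Mid_vecMul_HM (l μ : F) (A : Matrix (Fin m) (Fin m) F) (a : Fin m → F) :
    Mid a ᵥ* HM l μ A = Mid (a ᵥ* A) := by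
  funext i
  rcases i with u | (i | u) <;>
    simp [HM, Mid, vecMul, dotProduct, Fintype.sum_sum_type]

/-- The Levi matrix on `ι`. -/
def hM (l μ : F) (A : Matrix (Fin m) (Fin m) F) : Matrix ι ι F :=
  (HM l μ A).submatrix e.symm e.symm

theorem det_hM (l μ : F) (A : Matrix (Fin m) (Fin m) F) : (hM e l μ A).det = l * (A.det * μ) := by
  unfold hM
  rw [det_submatrix_equiv_self, det_HM]

theorem hM_mulVec (l μ : F) (A : Matrix (Fin m) (Fin m) F) (x : SI m → F) :
    hM e l μ A *ᵥ up e x = up e (HM l μ A *ᵥ x) := by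
  unfold hM up
  rw [submatrix_mulVec_equiv]
  simp [Function.comp_assoc]

theorem vecMul_hM (l μ : F) (A : Matrix (Fin m) (Fin m) F) (x : SI m → F) :
    up e x ᵥ* hM e l μ A = up e (x ᵥ* HM l μ A) := by
  unfold hM up
  rw [submatrix_vecMul_equiv]
  simp [Function.comp_assoc]

theorem hM_conj (l μ : F) (A : Matrix (Fin m) (Fin m) F) (hdet : l * μ * A.det = 1)
    (a b : Fin m → F) (z : F) :
    hM e l μ A * RM e a b z =
      RM e (l • (a ᵥ* A⁻¹)) (μ⁻¹ • (A *ᵥ b)) (l * μ⁻¹ * z) * hM e l μ A := by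
  have hμ : μ ≠ 0 := by
    rintro rfl
    simp at hdet
  have hA : IsUnit A.det := by
    rw [isUnit_iff_ne_zero]
    intro h0
    rw [h0] at hdet
    simp at hdet
  unfold RM
  simp only [add_mul, mul_add, one_mul, mul_one]
  rw [mul_vecMulVec, mul_vecMulVec, vecMulVec_mul, vecMulVec_mul, hM_mulVec, hM_mulVec, vecMul_hM,
    vecMul_hM, HM_mulVec_E0, HM_mulVec_Mid, EL_vecMul_HM]
  have h1 : Row (l • (a ᵥ* A⁻¹)) (l * μ⁻¹ * z) ᵥ* HM l μ A = l • Row a z := by
    unfold Row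
    rw [add_vecMul, smul_vecMul, Mid_vecMul_HM, EL_vecMul_HM, smul_vecMul, vecMul_vecMul,
      Matrix.nonsing_inv_mul _ hA, vecMul_one, smul_add, Mid_smul, smul_smul, smul_smul]
    congr 2
    field_simp
  rw [h1, Mid_smul, up_smul, up_smul, up_smul, up_smul, smul_vecMulVec, vecMulVec_smul,
    smul_vecMulVec, vecMulVec_smul, smul_smul, inv_mul_cancel₀ hμ, one_smul]

end HEISa1

open HEISa1 in
/-- HEISa1: the Heisenberg subgroup `r(a,b,z)` of `SL_{m+2}(F)` (first row `(1, a, z)`, last column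
`(z, b, 1)ᵀ`), its transvections and the Levi elements normalizing it. -/
theorem heis_matrix (m : ℕ) (F : Type*) [Field F] :
    ∃ r : (Fin m → F) → (Fin m → F) → F → SLn (m + 2) F,
      (∀ a b z a' b' z', r a b z * r a' b' z' = r (a + a') (b + b') (z + z' + a ⬝ᵥ b')) ∧
      (∀ a b z, r a b z = 1 → a = 0 ∧ b = 0 ∧ z = 0) ∧
      (∀ a z, (a ≠ 0 ∨ z ≠ 0) → ∃ (v φ : Fin (m + 2) → F) (h : φ ⬝ᵥ v = 0),
        v ≠ 0 ∧ φ ≠ 0 ∧ r a 0 z = TS v φ h) ∧
      (∀ b z, (b ≠ 0 ∨ z ≠ 0) → ∃ (v φ : Fin (m + 2) → F) (h : φ ⬝ᵥ v = 0),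
        v ≠ 0 ∧ φ ≠ 0 ∧ r 0 b z = TS v φ h) ∧
      (∀ (l μ : F) (A : Matrix (Fin m) (Fin m) F), l * μ * A.det = 1 →
        ∃ h : SLn (m + 2) F, ∀ a b z,
          h * r a b z * h⁻¹ = r (l • (a ᵥ* A⁻¹)) (μ⁻¹ • (A *ᵥ b)) (l * μ⁻¹ * z)) := by
  have hcard : Fintype.card (SI m) = m + 2 := by
    simp [SI]; ring
  let e : SI m ≃ Fin (m + 2) := Fintype.equivFinOfCardEq hcard
  refine ⟨rr e, rr_mul e, fun a b z h => rr_eq_one e h, ?_, ?_, ?_⟩
  · intro a z haz
    have h : up e (Row a z) ⬝ᵥ up e (E0 m F) = 0 := by rw [up_dot, d_Row_E0]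
    refine ⟨up e (E0 m F), up e (Row a z), h, up_E0_ne e, ?_, rr_b_zero e a z h⟩
    intro h0
    obtain ⟨ha, hz⟩ := Row_eq_zero (up_eq_zero e h0)
    rcases haz with h' | h'
    · exact h' ha
    · exact h' hz
  · intro b z hbz
    have h : up e (EL m F) ⬝ᵥ up e (z • E0 m F + Mid b) = 0 := by
      rw [up_dot, dotProduct_add, dotProduct_smul, d_EL_E0, d_EL_Mid]; simp
    refine ⟨up e (z • E0 m F + Mid b), up e (EL m F), h, ?_, up_EL_ne e, rr_a_zero e b z h⟩
    intro h0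
    have h1 := up_eq_zero e h0
    have hz : z = 0 := by
      have := congrFun h1 (Sum.inl ())
      simpa [E0, Mid] using this
    have hb : b = 0 := by
      funext i
      have := congrFun h1 (Sum.inr (Sum.inl i))
      simpa [E0, Mid] using this
    rcases hbz with h' | h'
    · exact h' hb
    · exact h' hz
  · intro l μ A hdet
    have hd : (hM e l μ A).det = 1 := by
      rw [det_hM, ← hdet]; ring
    refine ⟨⟨hM e l μ A, hd⟩, fun a b z => ?_⟩
    refine mul_inv_eq_iff_eq_mul.mpr ?_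
    apply Subtype.ext
    exact hM_conj e l μ A hdet a b z

end Cfsg.Agent.S2140P
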