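import Mathlib
import Cfsg.Agent.Helper4.RU2Defs

set_option autoImplicit false
set_option linter.unusedSectionVars false

/-!
# S2279 piece E2: the `n = 4`, odd characteristic endgame.
-/

open Matrix Polynomial
open Cfsg.Agent.Helper12.TVG Cfsg.Agent.Helper12.RUN Cfsg.Agent.Helper4.RU2

namespace Cfsg.Agent.Helper7.RU2

variable {F : Type*} [Field F]

/-! ### A field-theoretic closure lemma -/

/-- An additive subgroup `A` of a finite field with `d * t * t' ∈ A` for `t, t' ∈ A`, containing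
`κ ≠ 0` with `d * κ = N0 * s` (`N0` a nonzero integer) and `s` generating the field as a ring,
is everything. -/
theorem addSubgroup_eq_top [Fintype F] (A : AddSubgroup F) (d κ s : F) (N0 : ℤ) (hd : d ≠ 0)
    (hκ : κ ∈ A) (hκ0 : κ ≠ 0) (hdκ : d * κ = (N0 : F) * s) (hN0 : (N0 : F) ≠ 0)
    (hmul : ∀ t ∈ A, ∀ t' ∈ A, d * t * t' ∈ A) (hgen : Subring.closure {s} = ⊤) :
    ∀ x : F, x ∈ A := by
  classical
  have hq : 1 < Fintype.card F := Fintype.one_lt_card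
  -- the multiplicatively closed additive subgroup `B = d A`
  have hBmul : ∀ x y : F, d⁻¹ * x ∈ A → d⁻¹ * y ∈ A → d⁻¹ * (x * y) ∈ A := by
    intro x y hx hy
    have := hmul _ hx _ hy
    have e : d * (d⁻¹ * x) * (d⁻¹ * y) = d⁻¹ * (x * y) := by
      field_simp
    rwa [e] at this
  have hBpow : ∀ x : F, d⁻¹ * x ∈ A → ∀ n : ℕ, 1 ≤ n → d⁻¹ * x ^ n ∈ A := by
    intro x hx n hn
    induction n with
    | zero => omega
    | succ n ih =>
      rcases Nat.eq_zero_or_pos n with h0 | hpos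
      · subst h0; simpa using hx
      · rw [pow_succ]
        exact hBmul _ _ (ih hpos) hx
  set x0 : F := d * κ with hx0
  have hx0B : d⁻¹ * x0 ∈ A := by
    rw [hx0, inv_mul_cancel_left₀ hd]; exact hκ
  have hx0ne : x0 ≠ 0 := mul_ne_zero hd hκ0
  have h1B : d⁻¹ * 1 ∈ A := by
    have := hBpow x0 hx0B (Fintype.card F - 1) (by omega)
    rwa [FiniteField.pow_card_sub_one_eq_one x0 hx0ne] at this
  let B : Subring F :=
    { carrier := {x | d⁻¹ * x ∈ A}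
      mul_mem' := fun {x y} hx hy => hBmul x y hx hy
      one_mem' := h1B
      add_mem' := fun {x y} hx hy => by
        show d⁻¹ * (x + y) ∈ A
        rw [mul_add]; exact A.add_mem hx hy
      zero_mem' := by
        show d⁻¹ * 0 ∈ A
        rw [mul_zero]; exact A.zero_mem
      neg_mem' := fun {x} hx => by
        show d⁻¹ * (-x) ∈ A
        rw [mul_neg]; exact A.neg_mem hx }
  have hN0B : (N0 : F) ∈ B := intCast_mem B N0
  have hN0inv : ((N0 : F))⁻¹ ∈ B := by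
    have hp : (N0 : F) ^ (Fintype.card F - 1) = 1 := FiniteField.pow_card_sub_one_eq_one _ hN0
    have : ((N0 : F))⁻¹ = (N0 : F) ^ (Fintype.card F - 2) := by
      have h2 : Fintype.card F - 1 = (Fintype.card F - 2) + 1 := by omega
      rw [h2, pow_succ] at hp
      exact (eq_inv_of_mul_eq_one_left hp).symm
    rw [this]
    exact pow_mem hN0B _
  have hsB : s ∈ B := by
    have hx0B' : x0 ∈ B := hx0B
    have : s = ((N0 : F))⁻¹ * x0 := by
      rw [hdκ, inv_mul_cancel_left₀ hN0]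
    rw [this]
    exact B.mul_mem hN0inv hx0B'
  have hBtop : B = ⊤ := by
    rw [eq_top_iff, ← hgen]
    exact Subring.closure_le.mpr (by
      intro y hy
      rw [Set.mem_singleton_iff] at hy
      rw [hy]; exact hsB)
  intro x
  have : d * x ∈ B := by rw [hBtop]; exact Subring.mem_top _
  have h' : d⁻¹ * (d * x) ∈ A := this
  rwa [inv_mul_cancel_left₀ hd] at h'

/-! ### Concrete `4 × 4` identities -/

theorem ev_dot {m : ℕ} (k : ℕ) (c : F) (v : Fin (m + 4) → F) (h : k < m + 4) :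
    ev m k c ⬝ᵥ v = c * v ⟨k, h⟩ := by
  have := sum_ite_val_eq v k c
  rw [dif_pos h] at this
  rw [← this]
  rfl

/-- `u (e₃ - e₂ + e₁ - e₀) = e₃` (0-based). -/
theorem uM_alt4 (t : F) :
    uM (0 + 4) F *ᵥ (ev 0 3 t - ev 0 2 t + ev 0 1 t - ev 0 0 t) = ev 0 3 t := by
  funext i
  rw [uM_mulVec_apply]
  simp only [Pi.add_apply, Pi.sub_apply, ev_apply]
  split_ifs <;> first | (exfalso; omega) | ring

/-- `u (e₃ - e₂) = e₃ - e₁`. -/
theorem uM_e32 (r : F) :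
    uM (0 + 4) F *ᵥ (ev 0 3 r - ev 0 2 r) = ev 0 3 r - ev 0 1 r := by
  funext i
  rw [uM_mulVec_apply]
  simp only [Pi.sub_apply, ev_apply]
  split_ifs <;> first | (exfalso; omega) | ring

/-- `w (e₃ - e₂) = e₃`. -/
theorem wM_e32 (s3 s4 t : F) :
    wM 0 s3 s4 *ᵥ (ev 0 3 t - ev 0 2 t) = ev 0 3 t := by
  funext i
  rw [wM_mulVec_apply]
  simp only [Pi.sub_apply, ev_apply, j0_val, j1_val, Fin.ext_iff, jL_val, jB_val,
    Nat.reduceAdd, Nat.reduceEqDiff, ↓reduceIte]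
  split_ifs <;> first | (exfalso; omega) | ring

/-- The vector `f₁(r) = r (e₀ + s4 e₁ + s3 e₃)`. -/
def f1 (s3 s4 r : F) : Fin (0 + 4) → F := ev 0 0 r + ev 0 1 (s4 * r) + ev 0 3 (s3 * r)

/-- `T' (e₃ - e₁) = (e₃ - e₁) - f₁`. -/
theorem TpM_e31 (s3 s4 r : F) :
    TpM 0 s3 s4 *ᵥ (ev 0 3 r - ev 0 1 r) = (ev 0 3 r - ev 0 1 r) - f1 s3 s4 r := by
  funext i
  rw [TpM_mulVec_apply]
  simp only [f1, Pi.add_apply, Pi.sub_apply, ev_apply, j0_val, j1_val, j2_val, Fin.ext_iff, jL_val,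
    Nat.reduceAdd, Nat.reduceEqDiff, ↓reduceIte]
  split_ifs <;> first | (exfalso; omega) | ring

/-- `T' f₁ = f₁ + (s4 f₁ + s4 r e₁)`. -/
theorem TpM_f1 (s3 s4 r : F) :
    TpM 0 s3 s4 *ᵥ f1 s3 s4 r = f1 s3 s4 r + (s4 • f1 s3 s4 r + ev 0 1 (s4 * r)) := by
  funext i
  rw [TpM_mulVec_apply]
  simp only [f1, Pi.add_apply, Pi.smul_apply, smul_eq_mul, ev_apply, j0_val, j1_val, j2_val,
    Fin.ext_iff, jL_val,
    Nat.reduceAdd, Nat.reduceEqDiff, ↓reduceIte]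
  split_ifs <;> first | (exfalso; omega) | ring

/-- `e₂ᵀ u = e₂ᵀ + e₃ᵀ`. -/
theorem phi_uM : ev 0 2 (1 : F) ᵥ* uM (0 + 4) F = ev 0 2 1 + ev 0 3 1 := by
  funext j
  rw [vecMul_uM_apply]
  simp only [Pi.add_apply, ev_apply]
  split_ifs <;> first | (exfalso; omega) | ring

/-- `e₂ᵀ w = e₂ᵀ + e₃ᵀ + s3 s4 e₀ᵀ - s3 e₁ᵀ`. -/
theorem phi_wM (s3 s4 : F) :
    ev 0 2 (1 : F) ᵥ* wM 0 s3 s4 = ev 0 2 1 + ev 0 3 1 + ev 0 0 (s3 * s4) - ev 0 1 s3 := by
  funext j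
  rw [vecMul_wM_apply]
  simp only [Pi.add_apply, Pi.sub_apply, ev_apply, j1_val, jL_val, jB_val,
    Nat.reduceAdd, Nat.reduceEqDiff, ↓reduceIte]
  split_ifs <;> first | (exfalso; omega) | ring

/-- `e₂ᵀ T' = e₂ᵀ`. -/
theorem phi_TpM (s3 s4 : F) : ev 0 2 (1 : F) ᵥ* TpM 0 s3 s4 = ev 0 2 1 := by
  funext j
  rw [vecMul_TpM_apply]
  simp only [ev_apply, j0_val, j1_val, jL_val, Nat.reduceAdd, Nat.reduceEqDiff, ↓reduceIte]
  split_ifs <;> first | (exfalso; omega) | ring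


/-- Integer multiples stay in an additive subgroup of vectors. -/
theorem intCast_smul_mem {ι : Type*} (Mv : AddSubgroup (ι → F)) (k : ℤ) {v : ι → F} (hv : v ∈ Mv) :
    ((k : F)) • v ∈ Mv := by
  rw [Int.cast_smul_eq_zsmul]
  exact Mv.zsmul_mem hv k

/-- The core step: from `t e₃, t' e₃ ∈ M₃` to `r (e₃ - e₁), f₁(r), s4 r e₃ ∈ M₃`, `r = c₀ t t'`. -/
theorem step_E2 {H : Subgroup (SpecialLinearGroup (Fin (0 + 4)) F)} {s3 s4 κ : F}
    (S : Setup (m := 0) H s3 s4 κ) (k : ℤ) (hk : s4 = (k : F)) (t t' : F)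
    (ht : ev 0 3 t ∈ Mod H (ev 0 2 (1 : F))) (ht' : ev 0 3 t' ∈ Mod H (ev 0 2 (1 : F))) :
    (ev 0 3 (-(s3 * (1 + s4)) * t * t') - ev 0 1 (-(s3 * (1 + s4)) * t * t')
        ∈ Mod H (ev 0 2 (1 : F))) ∧
      f1 s3 s4 (-(s3 * (1 + s4)) * t * t') ∈ Mod H (ev 0 2 (1 : F)) ∧
      ev 0 3 (s4 * (-(s3 * (1 + s4)) * t * t')) ∈ Mod H (ev 0 2 (1 : F)) := by
  set r : F := -(s3 * (1 + s4)) * t * t' with hr
  -- step 1
  have hx : (ev 0 3 t - ev 0 2 t + ev 0 1 t - ev 0 0 t : Fin (0 + 4) → F)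
      ∈ Mod H (ev 0 2 1 + ev 0 3 1) := by
    refine Mod_conj_inv' S.hu phi_uM ?_
    rw [uM_alt4]; exact ht
  have hy : (ev 0 3 t' - ev 0 2 t' : Fin (0 + 4) → F)
      ∈ Mod H (ev 0 2 1 + ev 0 3 1 + ev 0 0 (s3 * s4) - ev 0 1 s3) := by
    refine Mod_conj_inv' S.hw (phi_wM s3 s4) ?_
    rw [wM_e32]; exact ht'
  -- step 2
  have hdot0 : (ev 0 2 (1 : F) + ev 0 3 1 : Fin (0 + 4) → F) ⬝ᵥ (ev 0 3 t' - ev 0 2 t') = 0 := by
    rw [add_dotProduct, ev_dot 2 _ _ (by omega), ev_dot 3 _ _ (by omega)]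
    simp only [Pi.sub_apply, ev_apply, Nat.reduceEqDiff, ↓reduceIte]
    ring
  have hdot1 : (ev 0 2 (1 : F) + ev 0 3 1 + ev 0 0 (s3 * s4) - ev 0 1 s3 : Fin (0 + 4) → F) ⬝ᵥ
      (ev 0 3 t - ev 0 2 t + ev 0 1 t - ev 0 0 t) = -(s3 * (1 + s4)) * t := by
    rw [sub_dotProduct, add_dotProduct, add_dotProduct, ev_dot 2 _ _ (by omega),
      ev_dot 3 _ _ (by omega), ev_dot 0 _ _ (by omega), ev_dot 1 _ _ (by omega)]
    simp only [Pi.sub_apply, Pi.add_apply, ev_apply, Nat.reduceEqDiff, ↓reduceIte]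
    ring
  have h2 := Mod_transvect hy hdot0 hx
  rw [hdot1] at h2
  have e2 : (-(s3 * (1 + s4)) * t) • (ev 0 3 t' - ev 0 2 t' : Fin (0 + 4) → F)
      = ev 0 3 r - ev 0 2 r := by
    rw [smul_sub, ev_smul, ev_smul]
  rw [e2] at h2
  -- step 3
  have h3 : (ev 0 3 r - ev 0 1 r : Fin (0 + 4) → F) ∈ Mod H (ev 0 2 (1 : F)) := by
    have := Mod_conj' S.hu phi_uM h2
    rwa [uM_e32] at this
  -- step 4
  have h4 : f1 s3 s4 r ∈ Mod H (ev 0 2 (1 : F)) := by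
    have h := Mod_act' S.hT (phi_TpM s3 s4) h3
    rw [TpM_e31] at h
    have := (Mod H (ev 0 2 (1 : F))).sub_mem h3 h
    rwa [sub_sub_cancel] at this
  have h5 : (s4 • f1 s3 s4 r + ev 0 1 (s4 * r) : Fin (0 + 4) → F) ∈ Mod H (ev 0 2 (1 : F)) := by
    have h := Mod_act' S.hT (phi_TpM s3 s4) h4
    rw [TpM_f1] at h
    have := (Mod H (ev 0 2 (1 : F))).sub_mem h h4
    rwa [add_sub_cancel_left] at this
  have h6 : (s4 • f1 s3 s4 r : Fin (0 + 4) → F) ∈ Mod H (ev 0 2 (1 : F)) := by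
    have := intCast_smul_mem (Mod H (ev 0 2 (1 : F))) k h4
    rwa [← hk] at this
  have h7 : (ev 0 1 (s4 * r) : Fin (0 + 4) → F) ∈ Mod H (ev 0 2 (1 : F)) := by
    have := (Mod H (ev 0 2 (1 : F))).sub_mem h5 h6
    rwa [add_sub_cancel_left] at this
  have h8 : (s4 • (ev 0 3 r - ev 0 1 r) : Fin (0 + 4) → F) ∈ Mod H (ev 0 2 (1 : F)) := by
    have := intCast_smul_mem (Mod H (ev 0 2 (1 : F))) k h3
    rwa [← hk] at this
  rw [smul_sub, ev_smul, ev_smul] at h8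
  have h9 := (Mod H (ev 0 2 (1 : F))).add_mem h8 h7
  rw [sub_add_cancel] at h9
  exact ⟨h3, h4, h9⟩

/-- Every vector with vanishing coordinate `2` is a combination of `e₀, e₁, e₃`. -/
theorem decomp4 (v : Fin (0 + 4) → F) (hv : ev 0 2 (1 : F) ⬝ᵥ v = 0) :
    v = ev 0 0 (v ⟨0, by omega⟩) + ev 0 1 (v ⟨1, by omega⟩) + ev 0 3 (v ⟨3, by omega⟩) := by
  rw [ev_dot 2 _ _ (by omega), one_mul] at hv
  funext i
  simp only [Pi.add_apply, ev_apply]
  obtain ⟨iv, hiv⟩ := i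
  have h4 : iv < 4 := by omega
  interval_cases iv
  · simp
  · simp
  · simpa using hv
  · simp

theorem cov3_E2 [Fintype F] {H : Subgroup (SpecialLinearGroup (Fin (0 + 4)) F)} {s3 s4 κ : F}
    (S : Setup (m := 0) H s3 s4 κ) (hκ : κ ≠ 0) (hs3 : s3 ≠ 0) (hs4 : s4 ≠ 0) (h1 : 1 + s4 ≠ 0)
    (k M : ℤ) (hk : s4 = (k : F)) (hM : κ = (M : F) * s3)
    (hgen : Subring.closure {s3 ^ 2} = ⊤) : ev 0 2 (1 : F) ∈ Cov H := by
  classical
  -- the additive group `A = {t | t e₃ ∈ M₃}`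
  let evHom : F →+ (Fin (0 + 4) → F) :=
    { toFun := fun t => ev 0 3 t
      map_zero' := ev_zero 3
      map_add' := fun s t => ev_add 3 s t }
  let A : AddSubgroup F := (Mod H (ev 0 2 (1 : F))).comap evHom
  have hA : ∀ t : F, t ∈ A ↔ ev 0 3 t ∈ Mod H (ev 0 2 (1 : F)) := fun t => Iff.rfl
  have hseed : κ ∈ A := by
    rw [hA]; exact S.seed
  have hc0 : -(s3 * (1 + s4)) ≠ 0 := neg_ne_zero.mpr (mul_ne_zero hs3 h1)
  have hMne : (M : F) ≠ 0 := by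
    intro h0; rw [h0, zero_mul] at hM; exact hκ hM
  have hAtop : ∀ x : F, x ∈ A := by
    refine addSubgroup_eq_top A (s4 * -(s3 * (1 + s4))) κ (s3 ^ 2) (-(k * (1 + k) * M))
      (mul_ne_zero hs4 hc0) hseed hκ ?_ ?_ ?_ hgen
    · rw [hM, hk]; push_cast; ring
    · push_cast
      rw [← hk]
      exact neg_ne_zero.mpr (mul_ne_zero (mul_ne_zero hs4 h1) hMne)
    · intro t ht t' ht'
      have := (step_E2 S k hk t t' ((hA t).mp ht) ((hA t').mp ht')).2.2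
      rw [hA]
      have e : s4 * -(s3 * (1 + s4)) * t * t' = s4 * (-(s3 * (1 + s4)) * t * t') := by ring
      rw [e]; exact this
  -- now everything
  have hall : ∀ r : F, (ev 0 3 r - ev 0 1 r : Fin (0 + 4) → F) ∈ Mod H (ev 0 2 (1 : F)) ∧
      f1 s3 s4 r ∈ Mod H (ev 0 2 (1 : F)) := by
    intro r
    have h := step_E2 S k hk ((-(s3 * (1 + s4)))⁻¹ * r) 1
      ((hA _).mp (hAtop _)) ((hA _).mp (hAtop _))
    have e : -(s3 * (1 + s4)) * ((-(s3 * (1 + s4)))⁻¹ * r) * 1 = r := by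
      rw [mul_one, mul_inv_cancel_left₀ hc0]
    rw [e] at h
    exact ⟨h.1, h.2.1⟩
  have he3 : ∀ r : F, (ev 0 3 r : Fin (0 + 4) → F) ∈ Mod H (ev 0 2 (1 : F)) :=
    fun r => (hA r).mp (hAtop r)
  have he1 : ∀ r : F, (ev 0 1 r : Fin (0 + 4) → F) ∈ Mod H (ev 0 2 (1 : F)) := by
    intro r
    have := (Mod H (ev 0 2 (1 : F))).sub_mem (he3 r) (hall r).1
    rwa [sub_sub_cancel] at this
  have he0 : ∀ r : F, (ev 0 0 r : Fin (0 + 4) → F) ∈ Mod H (ev 0 2 (1 : F)) := by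
    intro r
    have h := (hall r).2
    unfold f1 at h
    have h' := (Mod H (ev 0 2 (1 : F))).sub_mem
      ((Mod H (ev 0 2 (1 : F))).sub_mem h (he3 (s3 * r))) (he1 (s4 * r))
    have e : (ev 0 0 r + ev 0 1 (s4 * r) + ev 0 3 (s3 * r) - ev 0 3 (s3 * r) - ev 0 1 (s4 * r) :
        Fin (0 + 4) → F) = ev 0 0 r := by abel
    rwa [e] at h'
  refine mem_Cov_of_Mod ?_
  intro v hv
  rw [decomp4 v hv]
  exact (Mod H (ev 0 2 (1 : F))).add_mem ((Mod H (ev 0 2 (1 : F))).add_mem (he0 _) (he1 _)) (he3 _)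

end Cfsg.Agent.Helper7.RU2
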