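import Mathlib
import Cfsg.Prelude.Def_GeometricClasses
import Cfsg.Prelude.Def_Classical
import Cfsg.Prelude.Def_LieClassical
import Cfsg.Agent.Helper21.S5949IRR

/-!
# S5982, piece KUMEX: an element of `SL_n` whose `r`-th power is a scalar that is not an `r`-th power
-/

set_option autoImplicit false
open scoped MatrixGroups Matrix
open Polynomial

namespace Cfsg.Agent.S5982P

namespace KUMEX

/-- the scalar `w`: `w ^ s = 1` and `w` is not an `r`-th power -/
theorem exists_w {F : Type*} [Field F] [Fintype F] (r : ℕ) [Fact r.Prime] (s : ℕ)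
    (hr : r ∣ Fintype.card F - 1)
    (hs : r ^ padicValNat r (Fintype.card F - 1) ∣ s) :
    ∃ w : F, w ≠ 0 ∧ w ^ s = 1 ∧ ∀ d : F, d ^ r ≠ w := by
  classical
  have hrp : r.Prime := Fact.out
  have hq : 1 < Fintype.card F := Fintype.one_lt_card
  obtain ⟨N, hNdef⟩ : ∃ N, N = Fintype.card F - 1 := ⟨_, rfl⟩
  rw [← hNdef] at hr hs
  have hN0 : N ≠ 0 := by omega
  obtain ⟨γ, hγ⟩ := IsCyclic.exists_generator (α := Fˣ)
  have hoγ : orderOf γ = N := by
    rw [orderOf_eq_card_of_forall_mem_zpowers hγ, Nat.card_eq_fintype_card, Fintype.card_units,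
      hNdef]
  obtain ⟨c, hc⟩ : r ^ padicValNat r N ∣ N := pow_padicValNat_dvd
  have hrc : ¬ r ∣ c := by
    rintro ⟨c', rfl⟩
    apply pow_succ_padicValNat_not_dvd (p := r) hN0
    refine ⟨c', ?_⟩
    conv_lhs => rw [hc]
    rw [pow_succ]
    ring
  obtain ⟨N', hN'⟩ := hr
  have hN'0 : 0 < N' := by
    rcases Nat.eq_zero_or_pos N' with h | h
    · rw [h, mul_zero] at hN'; exact absurd hN' hN0
    · exact h
  refine ⟨((γ ^ c : Fˣ) : F), Units.ne_zero _, ?_, ?_⟩
  · obtain ⟨t, rfl⟩ := hs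
    rw [← Units.val_pow_eq_pow_val, ← pow_mul]
    have : c * (r ^ padicValNat r N * t) = N * t := by
      conv_rhs => rw [hc]
      ring
    rw [this, pow_mul, ← hoγ, pow_orderOf_eq_one, one_pow, Units.val_one]
  · intro d hd
    have hd0 : d ≠ 0 := by
      rintro rfl
      rw [zero_pow hrp.ne_zero] at hd
      exact Units.ne_zero _ hd.symm
    have h1 : d ^ N = 1 := by
      rw [hNdef]; exact FiniteField.pow_card_sub_one_eq_one d hd0
    have h2 : ((γ ^ c : Fˣ) : F) ^ N' = 1 := by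
      rw [← hd, ← pow_mul, ← hN', h1]
    have h3 : γ ^ (c * N') = 1 := by
      apply Units.ext
      rw [pow_mul, Units.val_pow_eq_pow_val, h2, Units.val_one]
    have h4 : N ∣ c * N' := by
      rw [← hoγ]; exact orderOf_dvd_of_pow_eq_one h3
    rw [hN'] at h4
    exact hrc (Nat.dvd_of_mul_dvd_mul_right hN'0 h4)

/-- the sign `(-1)^(r+1)` is an `r`-th power -/
theorem exists_root_sign {F : Type*} [Field F] [Fintype F] (r : ℕ) [Fact r.Prime]
    (h4 : r = 2 → 4 ∣ Fintype.card F - 1) : ∃ i : F, i ≠ 0 ∧ i ^ r = (-1) ^ (r + 1) := by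
  have hrp : r.Prime := Fact.out
  rcases hrp.eq_two_or_odd' with h | h
  · subst h
    have hq : 1 < Fintype.card F := Fintype.one_lt_card
    have h41 := h4 rfl
    have hsq : IsSquare (-1 : F) := by
      rw [FiniteField.isSquare_neg_one_iff]
      omega
    obtain ⟨i, hi⟩ := hsq
    refine ⟨i, ?_, ?_⟩
    · rintro rfl
      rw [mul_zero] at hi
      exact neg_ne_zero.2 one_ne_zero hi
    · rw [pow_two, ← hi]
      norm_num
  · refine ⟨1, one_ne_zero, ?_⟩
    rw [one_pow, Even.neg_one_pow]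
    exact Odd.add_one h

/-- the scalar `z` -/
theorem exists_z {F : Type*} [Field F] [Fintype F] (r : ℕ) [Fact r.Prime] (s : ℕ)
    (hr : r ∣ Fintype.card F - 1) (h4 : r = 2 → 4 ∣ Fintype.card F - 1)
    (hs : r ^ padicValNat r (Fintype.card F - 1) ∣ s) :
    ∃ z : F, (∀ d : F, d ^ r ≠ z) ∧ ((-1) ^ r * -z) ^ s = 1 := by
  obtain ⟨w, hw0, hws, hwr⟩ := exists_w r s hr hs
  obtain ⟨i, hi0, hi⟩ := exists_root_sign (F := F) r h4
  have hε : ((-1 : F) ^ (r + 1)) * ((-1) ^ (r + 1)) = 1 := by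
    rw [← pow_add, ← two_mul, pow_mul]
    norm_num
  refine ⟨(-1) ^ (r + 1) * w, ?_, ?_⟩
  · intro d hd
    apply hwr (d / i)
    rw [div_pow, hd, hi]
    field_simp
  · have : ((-1 : F) ^ r * -((-1) ^ (r + 1) * w)) = ((-1) ^ (r + 1) * (-1) ^ (r + 1)) * w := by
      rw [pow_succ]; ring
    rw [this, hε, one_mul, hws]

/-- powers of a conjugate -/
theorem conj_pow {F V W : Type*} [Field F] [AddCommGroup V] [Module F V] [AddCommGroup W]
    [Module F W] (e : V ≃ₗ[F] W) (φ : Module.End F V) (k : ℕ) (v : W) :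
    ((((e : V →ₗ[F] W) ∘ₗ φ ∘ₗ (e.symm : W →ₗ[F] V) : Module.End F W)) ^ k) v
      = e ((φ ^ k) (e.symm v)) := by
  induction k generalizing v with
  | zero => simp
  | succ k ih =>
    rw [pow_succ, Module.End.mul_apply, ih, pow_succ, Module.End.mul_apply]
    simp

end KUMEX

/-- KUMEX: an element of `SL_n` whose `r`-th power is a scalar that is not an `r`-th power -/
theorem exists_kummer {F : Type*} [Field F] [Fintype F] (r : ℕ) [Fact r.Prime] (n : ℕ) (hn : 1 ≤ n)
    (hr : r ∣ Fintype.card F - 1) (h4 : r = 2 → 4 ∣ Fintype.card F - 1)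
    (hv : padicValNat r (Fintype.card F - 1) < padicValNat r n) :
    ∃ (x : GL (Fin n) F) (z : F), x ∈ Cfsg.Geo.specialLinear (Fin n) F ∧ (∀ d : F, d ^ r ≠ z) ∧
      ((x ^ r : GL (Fin n) F) : Matrix (Fin n) (Fin n) F) =
        z • (1 : Matrix (Fin n) (Fin n) F) := by
  classical
  have hrp : r.Prime := Fact.out
  have hn0 : n ≠ 0 := by omega
  -- `n = r * s`
  obtain ⟨t, ht⟩ : r ^ (padicValNat r (Fintype.card F - 1) + 1) ∣ n :=
    (padicValNat_dvd_iff_le hn0).2 hv
  obtain ⟨s, hsdef⟩ : ∃ s, s = r ^ padicValNat r (Fintype.card F - 1) * t := ⟨_, rfl⟩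
  have hns : n = s * r := by
    rw [ht, hsdef, pow_succ]; ring
  have hs : r ^ padicValNat r (Fintype.card F - 1) ∣ s := ⟨t, hsdef⟩
  obtain ⟨z, hz, hzs⟩ := KUMEX.exists_z r s hr h4 hs
  -- the polynomial
  obtain ⟨g, hgdef⟩ : ∃ g : F[X], g = X ^ r - C z := ⟨_, rfl⟩
  have hirr : Irreducible g := by
    rw [hgdef]; exact X_pow_sub_C_irreducible_of_prime hrp hz
  have hmon : g.Monic := by
    rw [hgdef]; exact monic_X_pow_sub_C z hrp.ne_zero
  have hdeg : g.natDegree = r := by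
    rw [hgdef]; exact natDegree_X_pow_sub_C
  have hc0 : g.coeff 0 = -z := by
    rw [hgdef, coeff_sub, coeff_X_pow, coeff_C_zero, if_neg (Ne.symm hrp.ne_zero), zero_sub]
  have hg0 : g ≠ 0 := hirr.ne_zero
  have : Fact (Irreducible g) := ⟨hirr⟩
  have : Module.Finite F (AdjoinRoot g) := (AdjoinRoot.powerBasis hg0).finite
  -- the module and the endomorphism
  let φ : Module.End F (Fin s → AdjoinRoot g) :=
    DistribSMul.toLinearMap F (Fin s → AdjoinRoot g) (AdjoinRoot.root g)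
  have hφ : ∀ v, φ v = AdjoinRoot.root g • v := fun v => rfl
  have hpow : ∀ (k : ℕ) (v : Fin s → AdjoinRoot g), (φ ^ k) v = (AdjoinRoot.root g) ^ k • v := by
    intro k
    induction k with
    | zero => intro v; simp
    | succ k ih =>
      intro v
      rw [pow_succ, Module.End.mul_apply, ih, hφ, smul_smul, ← pow_succ]
  have hroot : (AdjoinRoot.root g) ^ r = algebraMap F (AdjoinRoot g) z := by
    have h : aeval (AdjoinRoot.root g) g = 0 := by
      rw [AdjoinRoot.aeval_eq, AdjoinRoot.mk_self]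
    have h2 : aeval (AdjoinRoot.root g) (X ^ r - C z) = 0 := by
      rw [← hgdef]; exact h
    rw [map_sub, map_pow, aeval_X, aeval_C, sub_eq_zero] at h2
    exact h2
  have hφr : φ ^ r = z • (1 : Module.End F (Fin s → AdjoinRoot g)) := by
    apply LinearMap.ext
    intro v
    rw [hpow, hroot, algebraMap_smul]
    rfl
  have hgφ : aeval φ g = 0 := by
    have h1 : aeval φ g = aeval φ (X ^ r - C z) := congrArg (aeval φ) hgdef
    rw [h1, map_sub, map_pow, aeval_X, aeval_C, hφr, Algebra.algebraMap_eq_smul_one,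
      sub_self]
  have hfin : Module.finrank F (Fin s → AdjoinRoot g) = n := by
    rw [Module.finrank_pi_fintype, Finset.sum_const, Finset.card_univ, Fintype.card_fin,
      smul_eq_mul, (AdjoinRoot.powerBasis hg0).finrank, AdjoinRoot.powerBasis_dim, hdeg, hns]
  have hdet : LinearMap.det φ = 1 := by
    have h := (Cfsg.Agent.S5949P.irr_module φ g hirr hmon hgφ).2.2.2
    rw [hdeg, hc0, hfin, hns, Nat.mul_div_cancel _ hrp.pos] at h
    rw [h]
    exact hzs
  -- transport to `Fin n → F`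
  let e : (Fin s → AdjoinRoot g) ≃ₗ[F] (Fin n → F) :=
    LinearEquiv.ofFinrankEq _ _ (by rw [hfin, Module.finrank_fin_fun])
  obtain ⟨φ', hφ'def⟩ : ∃ φ' : Module.End F (Fin n → F),
      φ' = (e : (Fin s → AdjoinRoot g) →ₗ[F] (Fin n → F)) ∘ₗ φ ∘ₗ
        (e.symm : (Fin n → F) →ₗ[F] (Fin s → AdjoinRoot g)) := ⟨_, rfl⟩
  have hdet' : LinearMap.det φ' = 1 := by
    rw [hφ'def, LinearMap.det_conj, hdet]
  have hφ'r : φ' ^ r = z • (1 : Module.End F (Fin n → F)) := by
    apply LinearMap.ext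
    intro v
    rw [hφ'def, KUMEX.conj_pow, hφr]
    simp
  obtain ⟨X0, hX0def⟩ : ∃ X0 : Matrix (Fin n) (Fin n) F, X0 = LinearMap.toMatrixAlgEquiv' φ' :=
    ⟨_, rfl⟩
  have hX0det : X0.det = 1 := by
    rw [hX0def]
    show (LinearMap.toMatrix' φ').det = 1
    rw [LinearMap.det_toMatrix', hdet']
  have hX0r : X0 ^ r = z • (1 : Matrix (Fin n) (Fin n) F) := by
    rw [hX0def, ← map_pow, hφ'r, map_smul, map_one]
  have hne : X0.det ≠ 0 := by rw [hX0det]; exact one_ne_zero
  refine ⟨Matrix.GeneralLinearGroup.mkOfDetNeZero X0 hne, z, ?_, hz, ?_⟩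
  · unfold Cfsg.Geo.specialLinear
    rw [MonoidHom.mem_ker]
    apply Units.ext
    rw [Matrix.GeneralLinearGroup.val_det_apply]
    show X0.det = 1
    exact hX0det
  · rw [Units.val_pow_eq_pow_val]
    show X0 ^ r = z • (1 : Matrix (Fin n) (Fin n) F)
    exact hX0r

end Cfsg.Agent.S5982P
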