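import Mathlib
import Cfsg.Agent.Helper4.SU3Defs
set_option autoImplicit false

/-! S2283 piece CONJ (driver helper4), core: `Y γ δ` is conjugate to `X α β` by a determinant-one
isometry, given a monomial ("Weyl") element as in piece WEYL. -/

namespace Cfsg.Agent.Helper7.SU3G
open Matrix Cfsg.Agent.S2644 Cfsg.Agent.Helper2.SUGen Cfsg.Agent.Helper4.SU3G
variable {K : Type*} [Field K] {q : ℕ}
local notation "h" => Cfsg.hermForm 3 K q

/-- action of a monomial element on frame coordinates. -/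
theorem weyl_vec (B : Frame K q) {μ s : K} {m : Matrix (Fin 3) (Fin 3) K}
    (hm3 : m *ᵥ B.e3 = μ • B.e1) (hm2 : m *ᵥ B.e2 = (-(s / μ)) • B.e2)
    (hm1 : m *ᵥ B.e1 = s⁻¹ • B.e3) (a b c : K) :
    m *ᵥ B.vec a b c = B.vec (c * μ) (-(b * (s / μ))) (a * s⁻¹) := by
  simp only [Frame.vec, Matrix.mulVec_add, Matrix.mulVec_smul, hm1, hm2, hm3]
  module

/-- solving `ε σα - α σε = κ` for skew `κ`. -/
theorem exists_eps (D : Frob K q) {α κ : K} (hα : α ≠ 0) (hκ : D.σ κ = -κ) :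
    ∃ ε : K, ε * D.σ α - α * D.σ ε = κ := by
  have hσα : D.σ α ≠ 0 := σ_ne_zero D hα
  obtain ⟨s, hs0, hs⟩ := exists_skew D
  have hc : D.σ (κ / (α * D.σ α) / s) = κ / (α * D.σ α) / s := by
    rw [map_div₀, map_div₀, map_mul, D.invol, hκ, hs]
    field_simp
  obtain ⟨t, ht⟩ := exists_trace D _ hc
  refine ⟨α * (s * t), ?_⟩
  rw [map_mul, map_mul, hs]
  have : t + D.σ t = κ / (α * D.σ α) / s := ht
  have h2 : s * (t + D.σ t) * (α * D.σ α) = κ := by
    rw [this]; field_simp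
  linear_combination h2

theorem conj_XY_of_weyl (D : Frob K q) (B : Frame K q) {γ δ α β μ : K}
    (hY : δ + D.σ δ + γ * D.σ γ = 0) (hX : β + D.σ β + α * D.σ α = 0) (hμ : μ ≠ 0) (hα : α ≠ 0)
    (hαγ : α * μ = -(D.σ μ) ^ 2 * γ)
    (hW : ∃ g ginv : Matrix (Fin 3) (Fin 3) K, g.det = 1 ∧ Pres (q := q) g ∧ g * ginv = 1 ∧
      ginv * g = 1 ∧ g *ᵥ B.e3 = μ • B.e1 ∧ g *ᵥ B.e2 = (-(D.σ μ / μ)) • B.e2 ∧
      g *ᵥ B.e1 = (D.σ μ)⁻¹ • B.e3) :
    ∃ g ginv : Matrix (Fin 3) (Fin 3) K, g.det = 1 ∧ Pres (q := q) g ∧ g * ginv = 1 ∧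
      ginv * g = 1 ∧ g * B.Y γ δ * ginv = B.X α β := by
  obtain ⟨m, minv, hdet, hpres, hmm, hmm', hm3, hm2, hm1⟩ := hW
  have hsμ : D.σ μ ≠ 0 := σ_ne_zero D hμ
  -- the conjugate relation
  have hαγ' : D.σ α * D.σ μ = -μ ^ 2 * D.σ γ := by
    have := congrArg D.σ hαγ
    rw [map_mul, map_mul, map_neg, map_pow, D.invol] at this
    exact this
  -- step 1: m Y = X α β' m
  have step1 : m * B.Y γ δ = B.X α (μ * D.σ μ * δ) * m := by
    apply B.mat_ext_vec D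
    intro a b c
    rw [← mulVec_mulVec, ← mulVec_mulVec, B.Y_vec D, weyl_vec B hm3 hm2 hm1,
      weyl_vec B hm3 hm2 hm1, B.X_vec D]
    congr 1
    · field_simp
      linear_combination (-b) * hαγ'
    · field_simp
      linear_combination (-a) * hαγ
  -- step 2: the correction in U
  have hκ : D.σ (β - μ * D.σ μ * δ) = -(β - μ * D.σ μ * δ) := by
    rw [map_sub, map_mul, map_mul, D.invol]
    have e1 : α * D.σ α * (μ * D.σ μ) = (μ * D.σ μ) * (μ * D.σ μ) * (γ * D.σ γ) := by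
      linear_combination (D.σ α * D.σ μ) * hαγ + (-(D.σ μ) ^ 2 * γ) * hαγ'
    have hne : μ * D.σ μ ≠ 0 := mul_ne_zero hμ hsμ
    have e2 : α * D.σ α = (μ * D.σ μ) * (γ * D.σ γ) := by
      apply mul_right_cancel₀ hne
      linear_combination e1
    linear_combination hX - (μ * D.σ μ) * hY - e2
  obtain ⟨ε, hε⟩ := exists_eps D hα hκ
  have hfix : D.σ (-(ε * D.σ ε)) = -(ε * D.σ ε) := by
    rw [map_neg, map_mul, D.invol]; ring
  obtain ⟨φ, hφ⟩ := exists_trace D _ hfix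
  have hφ' : φ + D.σ φ + ε * D.σ ε = 0 := by linear_combination hφ
  have hcomm : B.X ε φ * B.X α (μ * D.σ μ * δ) = B.X α β * B.X ε φ := by
    rw [B.X_mul D, B.X_mul D]
    congr 1
    · ring
    · linear_combination hε
  have hinv1 : B.X ε φ * B.X (-ε) (D.σ φ) = 1 := by
    rw [B.X_mul D, ← B.X_zero D]
    congr 1
    · ring
    · linear_combination hφ'
  have hinv2 : B.X (-ε) (D.σ φ) * B.X ε φ = 1 := by
    rw [B.X_mul D, ← B.X_zero D]
    congr 1
    · ring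
    · rw [map_neg]; linear_combination hφ'
  refine ⟨B.X ε φ * m, minv * B.X (-ε) (D.σ φ), ?_, ?_, ?_, ?_, ?_⟩
  · rw [Matrix.det_mul, B.X_det D, hdet, one_mul]
  · exact (B.X_pres D hφ').mul hpres
  · calc B.X ε φ * m * (minv * B.X (-ε) (D.σ φ))
        = B.X ε φ * (m * minv) * B.X (-ε) (D.σ φ) := by simp only [Matrix.mul_assoc]
      _ = 1 := by rw [hmm, Matrix.mul_one, hinv1]
  · calc minv * B.X (-ε) (D.σ φ) * (B.X ε φ * m)
        = minv * (B.X (-ε) (D.σ φ) * B.X ε φ) * m := by simp only [Matrix.mul_assoc]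
      _ = 1 := by rw [hinv2, Matrix.mul_one, hmm']
  · calc B.X ε φ * m * B.Y γ δ * (minv * B.X (-ε) (D.σ φ))
        = B.X ε φ * (m * B.Y γ δ) * minv * B.X (-ε) (D.σ φ) := by simp only [Matrix.mul_assoc]
      _ = B.X ε φ * B.X α (μ * D.σ μ * δ) * (m * minv) * B.X (-ε) (D.σ φ) := by
          rw [step1]; simp only [Matrix.mul_assoc]
      _ = B.X α β * (B.X ε φ * B.X (-ε) (D.σ φ)) := by
          rw [hmm, Matrix.mul_one, hcomm]; simp only [Matrix.mul_assoc]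
      _ = B.X α β := by rw [hinv1, Matrix.mul_one]

end Cfsg.Agent.Helper7.SU3G
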