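import Mathlib
import Cfsg.Agent.Helper4.SU3Defs
import Cfsg.Agent.Helper14.SU3WEYL
import Cfsg.Agent.Helper7.SU3CONJ0
set_option autoImplicit false

/-! S2283 piece CONJ (driver helper4): `Y γ δ` is conjugate to `X α β` by a determinant-one
isometry. -/

namespace Cfsg.Agent.Helper7.SU3G
open Matrix Cfsg.Agent.S2644 Cfsg.Agent.Helper2.SUGen Cfsg.Agent.Helper4.SU3G
variable {K : Type*} [Field K] {q : ℕ}
local notation "h" => Cfsg.hermForm 3 K q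

theorem conj_XY [Finite K] (D : Frob K q) (B : Frame K q) {γ δ α β μ : K}
    (hY : δ + D.σ δ + γ * D.σ γ = 0) (hX : β + D.σ β + α * D.σ α = 0) (hμ : μ ≠ 0) (hα : α ≠ 0)
    (hαγ : α * μ = -(D.σ μ) ^ 2 * γ) :
    ∃ g ginv : Matrix (Fin 3) (Fin 3) K, g.det = 1 ∧ Pres (q := q) g ∧ g * ginv = 1 ∧
      ginv * g = 1 ∧ g * B.Y γ δ * ginv = B.X α β :=
  conj_XY_of_weyl D B hY hX hμ hα hαγ (Cfsg.Agent.Helper14.SU3G.exists_weyl D B hμ)

end Cfsg.Agent.Helper7.SU3G
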