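import Mathlib
import Cfsg.Agent.Helper4.SU3Defs
set_option autoImplicit false

/-! S2283 piece REG (driver helper4): the root element `Y γ δ` (γ ≠ 0) is a regular unipotent:
`Y γ δ - 1` is nilpotent with nonzero square. -/

namespace Cfsg.Agent.Helper7.SU3G
open Matrix Cfsg.Agent.S2644 Cfsg.Agent.Helper2.SUGen Cfsg.Agent.Helper4.SU3G
variable {K : Type*} [Field K] {q : ℕ}
local notation "h" => Cfsg.hermForm 3 K q

theorem Y_sub_one_vec (D : Frob K q) (B : Frame K q) (γ δ a b c : K) :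
    (B.Y γ δ - 1) *ᵥ B.vec a b c = B.vec 0 (γ * a) (-(D.σ γ) * b + δ * a) := by
  rw [Matrix.sub_mulVec, Matrix.one_mulVec, B.Y_vec D]
  simp only [Frame.vec]
  module

theorem Y_regular (D : Frob K q) (B : Frame K q) {γ : K} (hγ : γ ≠ 0) (δ : K) :
    IsNilpotent (B.Y γ δ - 1) ∧ (B.Y γ δ - 1) ^ 2 ≠ 0 := by
  constructor
  · refine ⟨3, ?_⟩
    apply B.mat_ext_vec D
    intro a b c
    rw [pow_succ, pow_two, ← mulVec_mulVec, ← mulVec_mulVec, Y_sub_one_vec D B,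
      Y_sub_one_vec D B, Y_sub_one_vec D B, Matrix.zero_mulVec]
    simp [Frame.vec]
  · intro h0
    have h1 : (B.Y γ δ - 1) ^ 2 *ᵥ B.vec 1 0 0 = B.vec 0 0 (-(D.σ γ) * γ) := by
      rw [pow_two, ← mulVec_mulVec, Y_sub_one_vec D B, Y_sub_one_vec D B]
      congr 1 <;> ring
    rw [h0, Matrix.zero_mulVec] at h1
    have h2 : B.vec (0 : K) 0 0 = B.vec 0 0 (-(D.σ γ) * γ) := by
      rw [← h1]; simp [Frame.vec]
    have h3 := (B.vec_inj D h2).2.2
    have h4 : D.σ γ ≠ 0 := σ_ne_zero D hγ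
    have h5 : -(D.σ γ) * γ ≠ 0 := mul_ne_zero (neg_ne_zero.mpr h4) hγ
    exact h5 h3.symm

end Cfsg.Agent.Helper7.SU3G
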