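import Mathlib
import Cfsg.Prelude.Def_LieTypeDatum
import Cfsg.Agent.Helper7.PlusG7
import Cfsg.Agent.Helper28.FieldO8
import Cfsg.Agent.Helper28.CDGen

/-!
# Plus-type orthogonal groups: involutory graph-field automorphisms, part 8 (helper7)

Odd characteristic: `psiT` maps products of reflections to products of reflections, and the
similarities over the fixed field with square multiplier induce inner automorphisms.
-/

set_option autoImplicit false
set_option linter.unusedSectionVars false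
set_option linter.unusedVariables false

namespace Cfsg.Agent.Helper7.PlusG

open Module Submodule Matrix Cfsg.Agent.Helper28.QPlus Cfsg.Agent.Helper28.IDP
  Cfsg.Agent.Helper28.Spin Cfsg.Agent.Helper28.PG Cfsg.Agent.Helper28.FO
  Cfsg.Agent.Helper28.SSim Cfsg.Agent.Helper28.GC Cfsg.Agent.Helper28.Sg
  Cfsg.Agent.Helper28.IDM Cfsg.Agent.Helper28.FM Cfsg.Agent.Helper28.PA
  Cfsg.Agent.Helper7.PlusF Cfsg.Agent.Helper28.IsoTransport
open Cfsg.Agent.Helper7.FieldPSL (FDesc)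

section generic

variable {K : Type*} [Field K] [Fintype K] {ι ι' : Type} [Fintype ι] [DecidableEq ι] [Fintype ι']
  [DecidableEq ι'] {T : (ι → K) ≃ₗ[K] (ι' → K)} {Q : QuadraticForm K (ι → K)}
  {Q' : QuadraticForm K (ι' → K)} (hTQ : ∀ v, Q' (T v) = Q v)

include hTQ in
theorem polar_T (u v : ι → K) :
    QuadraticMap.polar ⇑Q' (T u) (T v) = QuadraticMap.polar ⇑Q u v := by
  unfold QuadraticMap.polar
  rw [← map_add, hTQ, hTQ, hTQ]

include hTQ in
theorem cj_refl (u : ι → K) :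
    cj T (Cfsg.reflectionMatrix ⇑Q u) = Cfsg.reflectionMatrix ⇑Q' (T u) := by
  apply matrix_ext_mulVec
  intro w
  obtain ⟨v, rfl⟩ := T.surjective w
  rw [cj_mulVec, refl_mulVec, refl_mulVec, map_sub, map_smul, hTQ, polar_T hTQ]

/-- transport of non-singular vectors -/
def TNS (v : NS Q) : NS Q' := ⟨T v.1, by rw [hTQ]; exact v.2⟩

theorem conjGL_prodO (L : List (NS Q)) :
    conjGL T ((prodO Q L : ↥(Cfsg.isometryGroup K ⇑Q)) : GL ι K) =
      ((prodO Q' (L.map (TNS hTQ)) : ↥(Cfsg.isometryGroup K ⇑Q')) : GL ι' K) := by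
  induction L with
  | nil =>
    rw [List.map_nil, prodO_nil, prodO_nil]
    exact map_one _
  | cons v L ih =>
    rw [List.map_cons, prodO_cons, prodO_cons, Subgroup.coe_mul, Subgroup.coe_mul, map_mul, ih]
    congr 1
    apply Units.ext
    rw [conjGL_val, reflO_val, reflO_val, cj_refl hTQ]
    rfl

theorem normProd_TNS (L : List (NS Q)) : normProd Q' (L.map (TNS hTQ)) = normProd Q L := by
  induction L with
  | nil => simp [normProd]
  | cons v L ih =>
    simp only [normProd, List.map_cons, List.prod_cons] at ih ⊢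
    rw [ih]
    congr 1
    exact hTQ v.1

/-- a similarity with square multiplier is a scalar times an isometry -/
theorem exists_scal_mul_of_isSquare (Q : QuadraticForm K (ι → K))
    (hex : ∃ v : ι → K, Q v ≠ 0) (g : ↥(GO Q)) (hsq : IsSquare (mu Q g : K)) :
    ∃ (l : Kˣ) (s : ↥(Cfsg.isometryGroup K ⇑Q)), g = scal Q l * oGO Q s := by
  obtain ⟨r, hr⟩ := hsq
  have hμ0 : (mu Q g : K) ≠ 0 := Units.ne_zero _
  have hr0 : r ≠ 0 := by
    rintro rfl
    rw [mul_zero] at hr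
    exact hμ0 hr
  set l : Kˣ := Units.mk0 r hr0 with hl
  have hlr : (l : K) = r := rfl
  set s : ↥(GO Q) := (scal Q l)⁻¹ * g with hs
  have hmus : mu Q s = 1 := by
    have h4 : mu Q s = (mu Q (scal Q l))⁻¹ * mu Q g := by
      have := (muHom Q hex).map_mul (scal Q l)⁻¹ g
      rw [map_inv] at this
      exact this
    rw [h4, mu_scal Q hex]
    apply Units.ext
    rw [Units.val_mul, Units.val_inv_eq_inv_val, Units.val_mul, hlr, ← hr, Units.val_one]
    exact inv_mul_cancel₀ hμ0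
  have hsO : (s : GL ι K) ∈ Cfsg.isometryGroup K ⇑Q := by
    rw [mem_isometryGroup_iff]
    intro v
    rw [mu_spec, hmus, Units.val_one, one_mul]
  refine ⟨l, ⟨(s : GL ι K), hsO⟩, ?_⟩
  have : oGO Q ⟨(s : GL ι K), hsO⟩ = s := Subtype.ext rfl
  rw [this, hs]
  group

end generic

section plus

variable {F : Type*} [Field F] [Fintype F] {m : ℕ}

theorem cls_oGO_prodO (L : List (NS (QfPlus m F))) :
    cls (oGO (QfPlus m F) (prodO (QfPlus m F) L)) = (L.length : ZMod 2) := by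
  induction L with
  | nil =>
    rw [prodO_nil, map_one, cls_one, List.length_nil, Nat.cast_zero]
  | cons v L ih =>
    rw [prodO_cons, map_mul, cls_mul, ih, List.length_cons, Nat.cast_succ, add_comm]
    congr 1
    exact cls_oGO_reflO v.1 v.2

end plus

section odd

variable {F : Type*} [Field F] [Fintype F] {F₀ : Type*} [Field F₀] [Fintype F₀]
  (E : FDesc F F₀) {k : ℕ}
  (a₀ b₀ : F₀) {α β : F} (h1 : α + β = -(E.j a₀)) (h2 : α * β = E.j b₀) (hne : α ≠ β)
  (hab : ∀ z₁ z₂ : F₀, z₁ ^ 2 + a₀ * z₁ * z₂ + b₀ * z₂ ^ 2 = 0 → z₁ = 0 ∧ z₂ = 0)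

theorem two_ne_zero_sub' (E : FDesc F F₀) (h2F : (2 : F) ≠ 0) : (2 : F₀) ≠ 0 := by
  intro h
  apply h2F
  have := congrArg E.j h
  rw [map_ofNat, map_zero] at this
  exact this

theorem isSquare_j (h2F : (2 : F) ≠ 0) (hcard : Fintype.card F = Fintype.card F₀ ^ 2)
    (d : F₀) : IsSquare (E.j d) := by
  let _ : Algebra F₀ F := E.j.toAlgebra
  have hfr : Module.finrank F₀ F = 2 := finrank_of_card E hcard
  have h20 := two_ne_zero_sub' E h2F
  exact isSquare_algebraMap (Cfsg.Agent.Helper28.Spin.card_odd h20) h20 hfr d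

theorem psiT_scal (l : F₀ˣ) :
    psiT E a₀ b₀ h1 h2 hne (scal (QfMinus k F₀ a₀ b₀) l) =
      scal (QfPlus (k + 1) F) (Units.map (E.j : F₀ →* F) l) := by
  apply Subtype.ext
  apply Units.ext
  show gm (psiT E a₀ b₀ h1 h2 hne (scal (QfMinus k F₀ a₀ b₀) l)) = _
  rw [gm_psiT, scal_val, scal_val]
  have : ((l : F₀) • (1 : Matrix ((Fin k ⊕ Fin k) ⊕ Fin 2) ((Fin k ⊕ Fin k) ⊕ Fin 2) F₀)).map
      E.j = (E.j (l : F₀)) • (1 : Matrix ((Fin k ⊕ Fin k) ⊕ Fin 2) ((Fin k ⊕ Fin k) ⊕ Fin 2) F) := by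
    ext i j
    simp only [Matrix.map_apply, Matrix.smul_apply, Matrix.one_apply, smul_eq_mul]
    split_ifs <;> simp
  rw [this, cj_smul, cj_one]
  rfl

theorem psiT_prodO (L : List (NS (QfMinus k F₀ a₀ b₀))) :
    psiT E a₀ b₀ h1 h2 hne (oGO (QfMinus k F₀ a₀ b₀) (prodO (QfMinus k F₀ a₀ b₀) L)) =
      oGO (QfPlus (k + 1) F) (prodO (QfPlus (k + 1) F)
        ((L.map (jNS E (compat_E E a₀ b₀))).map (TNS (TQ E a₀ b₀ h1 h2 hne)))) := by
  apply Subtype.ext
  show conjGL (splitE k α β hne) (jGLg E ((prodO (QfMinus k F₀ a₀ b₀) L :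
    ↥(Cfsg.isometryGroup F₀ ⇑(QfMinus k F₀ a₀ b₀))) : GL _ F₀)) = _
  rw [jGLg_prodO E (compat_E E a₀ b₀) L, conjGL_prodO (TQ E a₀ b₀ h1 h2 hne)]
  rfl

include hab in
/-- similarities over the fixed field with square multiplier and trivial class induce inner
automorphisms -/
theorem psiT_mem_Inn_of_isSquare (h2F : (2 : F) ≠ 0)
    (hcard : Fintype.card F = Fintype.card F₀ ^ 2) (g : ↥(GO (QfMinus k F₀ a₀ b₀)))
    (hg : cls (psiT E a₀ b₀ h1 h2 hne g) = 0)
    (hsq : IsSquare (mu (QfMinus k F₀ a₀ b₀) g : F₀)) :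
    cG (QfPlus (k + 1) F) (psiT E a₀ b₀ h1 h2 hne g) ∈
      Cfsg.Inn (Cfsg.POmega F ⇑(QfPlus (k + 1) F)) := by
  classical
  have h20 := two_ne_zero_sub' E h2F
  have hQ₀ := nondeg_minus (m := k) a₀ b₀ hab
  obtain ⟨l, s, hgs⟩ := exists_scal_mul_of_isSquare (QfMinus k F₀ a₀ b₀) (hex_minus' a₀ b₀) g hsq
  obtain ⟨L, rfl⟩ := Cfsg.Agent.Helper28.CDG.cd_list (QfMinus k F₀ a₀ b₀) h20 hQ₀ s
  set L'' := (L.map (jNS E (compat_E E a₀ b₀))).map (TNS (TQ E a₀ b₀ h1 h2 hne)) with hL''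
  have hpg : psiT E a₀ b₀ h1 h2 hne g = scal (QfPlus (k + 1) F) (Units.map (E.j : F₀ →* F) l) *
      oGO (QfPlus (k + 1) F) (prodO (QfPlus (k + 1) F) L'') := by
    rw [hgs, map_mul, psiT_scal, psiT_prodO]
  rw [hpg, map_mul, cG_scal, one_mul, cG_oGO]
  apply cAut_mem_Inn
  rw [prodO_mem_Omega_iff (QfPlus (k + 1) F) h2F]
  constructor
  · rw [hpg, cls_mul, cls_scal, zero_add, cls_oGO_prodO] at hg
    exact ZMod.natCast_eq_zero_iff_even.1 hg
  · rw [hL'', normProd_TNS, normProd_map]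
    exact isSquare_j E h2F hcard _

end odd

end Cfsg.Agent.Helper7.PlusG
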