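import Mathlib
import Cfsg.Prelude.Def_LieTypeDatum
import Cfsg.Agent.Helper7.PlusG8
import Cfsg.Agent.Helper28.TwoRankLow

/-!
# Plus-type orthogonal groups: involutory graph-field automorphisms, part 9 (helper7)

The product of the reflections in an orthogonal family, and the explicit "anti-rational"
isometry: the product of the reflections in the vectors `e_i + d_i f_i`.
-/

set_option autoImplicit false
set_option linter.unusedSectionVars false
set_option linter.unusedVariables false

namespace Cfsg.Agent.Helper7.PlusG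

open Module Submodule Matrix Cfsg.Agent.Helper28.QPlus Cfsg.Agent.Helper28.IDP
  Cfsg.Agent.Helper28.Spin Cfsg.Agent.Helper28.PG Cfsg.Agent.Helper28.FO
  Cfsg.Agent.Helper28.SSim Cfsg.Agent.Helper28.GC Cfsg.Agent.Helper28.Sg
  Cfsg.Agent.Helper28.IDM Cfsg.Agent.Helper28.FM Cfsg.Agent.Helper28.PA
  Cfsg.Agent.Helper7.PlusF Cfsg.Agent.Helper28.IsoTransport

section formula

variable {F : Type*} [Field F] {ι : Type} [Fintype ι] [DecidableEq ι]
  (Q : QuadraticForm F (ι → F))

/-- the product of the reflections in an orthogonal family -/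
theorem prod_refl_formula {n : ℕ} (v : Fin n → ι → F)
    (horth : ∀ i j, i ≠ j → QuadraticMap.polar ⇑Q (v i) (v j) = 0) (l : List (Fin n))
    (hl : l.Nodup) (x : ι → F) :
    (l.map (fun i => Cfsg.reflectionMatrix ⇑Q (v i))).prod *ᵥ x =
      x - ∑ i ∈ l.toFinset, ((Q (v i))⁻¹ * QuadraticMap.polar ⇑Q (v i) x) • v i := by
  induction l with
  | nil => simp
  | cons i l ih =>
    rw [List.nodup_cons] at hl
    rw [List.map_cons, List.prod_cons, ← Matrix.mulVec_mulVec, ih hl.2, refl_mulVec]
    have hpol : QuadraticMap.polar ⇑Q (v i)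
        (x - ∑ j ∈ l.toFinset, ((Q (v j))⁻¹ * QuadraticMap.polar ⇑Q (v j) x) • v j) =
        QuadraticMap.polar ⇑Q (v i) x := by
      have hlin : ∀ y, QuadraticMap.polar ⇑Q (v i) y = QuadraticMap.polarBilin Q (v i) y :=
        fun y => rfl
      rw [hlin, hlin, map_sub, map_sum]
      have : ∑ j ∈ l.toFinset, (QuadraticMap.polarBilin Q (v i))
          (((Q (v j))⁻¹ * QuadraticMap.polar ⇑Q (v j) x) • v j) = 0 := by
        apply Finset.sum_eq_zero
        intro j hj
        rw [map_smul]
        have hij : i ≠ j := by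
          rintro rfl
          exact hl.1 (List.mem_toFinset.1 hj)
        have h0 : (QuadraticMap.polarBilin Q (v i)) (v j) = 0 := horth i j hij
        rw [h0, smul_zero]
      rw [this, sub_zero]
    rw [hpol, List.toFinset_cons, Finset.sum_insert (by
      intro h
      exact hl.1 (List.mem_toFinset.1 h))]
    abel

end formula

section family

variable {F : Type*} [Field F] {m : ℕ} (d : Fin m → F)

/-- the vector `e_i + d_i f_i` -/
def uv (i : Fin m) : Vm m F :=
  Sum.elim (fun j => if j = i then 1 else 0) (fun j => if j = i then d i else 0)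

theorem uv_inl (i j : Fin m) : uv d i (Sum.inl j) = if j = i then 1 else 0 := rfl

theorem uv_inr (i j : Fin m) : uv d i (Sum.inr j) = if j = i then d i else 0 := rfl

theorem Q_uv (i : Fin m) : Cfsg.quadFormPlus m F (uv d i) = d i := by
  unfold Cfsg.quadFormPlus
  rw [Finset.sum_eq_single i]
  · rw [uv_inl, uv_inr, if_pos rfl, if_pos rfl, one_mul]
  · intro j _ hj
    rw [uv_inl, if_neg hj, zero_mul]
  · intro h
    exact absurd (Finset.mem_univ i) h

theorem pB_uv (i : Fin m) (x : Vm m F) :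
    pB m F (uv d i) x = x (Sum.inr i) + d i * x (Sum.inl i) := by
  show ∑ j, (uv d i (Sum.inl j) * x (Sum.inr j) + uv d i (Sum.inr j) * x (Sum.inl j)) = _
  rw [Finset.sum_eq_single i]
  · rw [uv_inl, uv_inr, if_pos rfl, if_pos rfl, one_mul]
  · intro j _ hj
    rw [uv_inl, uv_inr, if_neg hj, if_neg hj, zero_mul, zero_mul, add_zero]
  · intro h
    exact absurd (Finset.mem_univ i) h

theorem pB_uv_uv (i j : Fin m) (hij : i ≠ j) : pB m F (uv d i) (uv d j) = 0 := by
  rw [pB_uv, uv_inr, uv_inl, if_neg hij, if_neg hij, mul_zero, add_zero]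

/-- the explicit action of the product of the reflections -/
def MdV (x : Vm m F) : Vm m F :=
  Sum.elim (fun i => -(d i)⁻¹ * x (Sum.inr i)) (fun i => -(d i) * x (Sum.inl i))

theorem MdV_inl (x : Vm m F) (i : Fin m) : MdV d x (Sum.inl i) = -(d i)⁻¹ * x (Sum.inr i) := rfl

theorem MdV_inr (x : Vm m F) (i : Fin m) : MdV d x (Sum.inr i) = -(d i) * x (Sum.inl i) := rfl

variable [Fintype F] (hd : ∀ i, d i ≠ 0)

/-- the list of the vectors `e_i + d_i f_i` -/
noncomputable def LP : List (NS (QfPlus m F)) :=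
  (List.finRange m).map (fun i => ⟨uv d i, by
    rw [QfPlus_coe, Q_uv]
    exact hd i⟩)

theorem length_LP : (LP d hd).length = m := by
  rw [LP, List.length_map, List.length_finRange]

theorem normProd_LP : normProd (QfPlus m F) (LP d hd) = ∏ i, d i := by
  rw [normProd, LP, List.map_map, Fin.prod_univ_def]
  congr 1
  apply List.map_congr_left
  intro i _
  show QfPlus m F (uv d i) = d i
  rw [QfPlus_coe, Q_uv]

theorem prodO_LP_mulVec (x : Vm m F) :
    ((prodO (QfPlus m F) (LP d hd) : GL (Fin m ⊕ Fin m) F) :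
      Matrix (Fin m ⊕ Fin m) (Fin m ⊕ Fin m) F) *ᵥ x = MdV d x := by
  rw [prodO_val, LP, List.map_map]
  have hf : ((fun v : NS (QfPlus m F) => Cfsg.reflectionMatrix ⇑(QfPlus m F) v.1) ∘
      fun i => (⟨uv d i, by rw [QfPlus_coe, Q_uv]; exact hd i⟩ : NS (QfPlus m F))) =
      fun i => Cfsg.reflectionMatrix ⇑(QfPlus m F) (uv d i) := rfl
  rw [hf, prod_refl_formula (QfPlus m F) (uv d) (fun i j hij => by
    rw [polar_QfPlus]; exact pB_uv_uv d i j hij) _ (List.nodup_finRange m),
    List.toFinset_finRange]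
  funext s
  rcases s with j | j
  · rw [MdV_inl, Pi.sub_apply, Finset.sum_apply, Finset.sum_eq_single j]
    · rw [Pi.smul_apply, uv_inl, if_pos rfl, polar_QfPlus, pB_uv, QfPlus_coe, Q_uv, smul_eq_mul]
      have := hd j
      field_simp
      ring
    · intro i _ hij
      rw [Pi.smul_apply, uv_inl, if_neg (Ne.symm hij), smul_zero]
    · intro h
      exact absurd (Finset.mem_univ j) h
  · rw [MdV_inr, Pi.sub_apply, Finset.sum_apply, Finset.sum_eq_single j]
    · rw [Pi.smul_apply, uv_inr, if_pos rfl, polar_QfPlus, pB_uv, QfPlus_coe, Q_uv, smul_eq_mul]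
      have := hd j
      field_simp
      ring
    · intro i _ hij
      rw [Pi.smul_apply, uv_inr, if_neg (Ne.symm hij), smul_zero]
    · intro h
      exact absurd (Finset.mem_univ j) h

end family

section antirational

variable {F : Type*} [Field F] [Fintype F] {k : ℕ} (d : Fin (k + 1) → F) (hd : ∀ i, d i ≠ 0)

/-- the product of the reflections is anti-rational for the graph-field twist -/
theorem antirat_prodO (σ : F ≃+* F) (hσd : ∀ j : Fin k, σ (d j.castSucc) = -d j.castSucc)
    (hlast : d (Fin.last k) * σ (d (Fin.last k)) = -1) :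
    gm (r0 k F) * (((prodO (QfPlus (k + 1) F) (LP d hd) : GL (Fin (k + 1) ⊕ Fin (k + 1)) F) :
      Matrix (Fin (k + 1) ⊕ Fin (k + 1)) (Fin (k + 1) ⊕ Fin (k + 1)) F).map σ) * gm (r0 k F) =
    -((prodO (QfPlus (k + 1) F) (LP d hd) : GL (Fin (k + 1) ⊕ Fin (k + 1)) F) :
      Matrix (Fin (k + 1) ⊕ Fin (k + 1)) (Fin (k + 1) ⊕ Fin (k + 1)) F) := by
  apply matrix_ext_mulVec
  intro x
  rw [← Matrix.mulVec_mulVec, ← Matrix.mulVec_mulVec, gm_r0_mulVec, gm_r0_mulVec,
    Matrix.neg_mulVec, prodO_LP_mulVec]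
  have e1 : swp x = vs σ (vs σ.symm (swp x)) := (vs_symm_vs σ _).symm
  rw [e1, ← vs_mulVec, prodO_LP_mulVec]
  have hl0 := hd (Fin.last k)
  have hσl : σ (d (Fin.last k)) = -(d (Fin.last k))⁻¹ := by
    field_simp
    linear_combination hlast
  funext s
  rcases s with i | i
  · refine Fin.lastCases ?_ (fun j => ?_) i
    · rw [swp_inl_last, Pi.neg_apply, MdV_inl]
      show σ (MdV d (vs σ.symm (swp x)) (Sum.inr (Fin.last k))) = _
      rw [MdV_inr, map_mul, map_neg, hσl]
      show - -(d (Fin.last k))⁻¹ * σ (σ.symm (swp x (Sum.inl (Fin.last k)))) = _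
      rw [RingEquiv.apply_symm_apply, swp_inl_last]
      ring
    · rw [swp_inl_cast, Pi.neg_apply, MdV_inl]
      show σ (MdV d (vs σ.symm (swp x)) (Sum.inl j.castSucc)) = _
      rw [MdV_inl, map_mul, map_neg, map_inv₀, hσd]
      show -(-d j.castSucc)⁻¹ * σ (σ.symm (swp x (Sum.inr j.castSucc))) = _
      rw [RingEquiv.apply_symm_apply, swp_inr_cast, inv_neg]
      ring
  · refine Fin.lastCases ?_ (fun j => ?_) i
    · rw [swp_inr_last, Pi.neg_apply, MdV_inr]
      show σ (MdV d (vs σ.symm (swp x)) (Sum.inl (Fin.last k))) = _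
      rw [MdV_inl, map_mul, map_neg, map_inv₀, hσl]
      show -(-(d (Fin.last k))⁻¹)⁻¹ * σ (σ.symm (swp x (Sum.inr (Fin.last k)))) = _
      rw [RingEquiv.apply_symm_apply, swp_inr_last, inv_neg, inv_inv]
      ring
    · rw [swp_inr_cast, Pi.neg_apply, MdV_inr]
      show σ (MdV d (vs σ.symm (swp x)) (Sum.inr j.castSucc)) = _
      rw [MdV_inr, map_mul, map_neg, hσd]
      show - -d j.castSucc * σ (σ.symm (swp x (Sum.inl j.castSucc))) = _
      rw [RingEquiv.apply_symm_apply, swp_inl_cast]
      ring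

end antirational

end Cfsg.Agent.Helper7.PlusG
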