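import Mathlib
import Cfsg.Prelude.Def_LieTypeDatum
import Cfsg.Agent.Helper7.PlusG9
import Cfsg.Agent.S2613
import Cfsg.Agent.Helper28.InndiagPlus7

/-!
# Plus-type orthogonal groups: involutory graph-field automorphisms, part 10 (helper7)

Odd characteristic: the multiplier of `psiT g`, rationality of `psiT g`, the anti-rational
isometry `hO`, and the covering of the centralizer by two cosets of the inner automorphisms.
-/

set_option autoImplicit false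
set_option linter.unusedSectionVars false
set_option linter.unusedVariables false

namespace Cfsg.Agent.Helper7.PlusG

open Module Submodule Matrix Cfsg.Agent.Helper28.QPlus Cfsg.Agent.Helper28.IDP
  Cfsg.Agent.Helper28.Spin Cfsg.Agent.Helper28.PG Cfsg.Agent.Helper28.FO
  Cfsg.Agent.Helper28.SSim Cfsg.Agent.Helper28.GC Cfsg.Agent.Helper28.Sg
  Cfsg.Agent.Helper28.IDM Cfsg.Agent.Helper28.FM Cfsg.Agent.Helper28.PA
  Cfsg.Agent.Helper7.PlusF Cfsg.Agent.Helper28.IsoTransport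
open Cfsg.Agent.Helper7.FieldPSL (FDesc)

section psi

variable {F : Type*} [Field F] [Fintype F] {F₀ : Type*} [Field F₀] [Fintype F₀]
  (E : FDesc F F₀) {k : ℕ}
  (a₀ b₀ : F₀) {α β : F} (h1 : α + β = -(E.j a₀)) (h2 : α * β = E.j b₀) (hne : α ≠ β)
  (hαβ : E.σ α = β) (hβα : E.σ β = α)
  (hab : ∀ z₁ z₂ : F₀, z₁ ^ 2 + a₀ * z₁ * z₂ + b₀ * z₂ ^ 2 = 0 → z₁ = 0 ∧ z₂ = 0)

/-- the multiplier of `psiT g` -/
theorem mu_psiT (hk : 1 ≤ k + 1) (g : ↥(GO (QfMinus k F₀ a₀ b₀))) :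
    (mu (QfPlus (k + 1) F) (psiT E a₀ b₀ h1 h2 hne g) : F) =
      E.j (mu (QfMinus k F₀ a₀ b₀) g : F₀) := by
  classical
  have hex := hex_plus (F := F) (m := k + 1) hk
  have hc := compat_E (k := k) E a₀ b₀
  set c : Fˣ := Units.map (E.j : F₀ →* F) (mu (QfMinus k F₀ a₀ b₀) g) with hcdef
  have h3 : (QfMinus k F (E.j a₀) (E.j b₀)).comp
      (Matrix.toLin' (((g : GL ((Fin k ⊕ Fin k) ⊕ Fin 2) F₀) : Matrix _ _ F₀).map E.j)) =
      (c : F) • QfMinus k F (E.j a₀) (E.j b₀) := by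
    apply quad_ext_rational E
    intro w
    rw [QuadraticMap.comp_apply, Matrix.toLin'_apply, _root_.smul_apply, ← jv_mulVec, hc,
      mu_spec, map_mul, hc]
    rfl
  have hA : ∀ v, QfPlus (k + 1) F (gm (psiT E a₀ b₀ h1 h2 hne g) *ᵥ v) =
      (c : F) * QfPlus (k + 1) F v := by
    intro v
    obtain ⟨w, rfl⟩ := (splitE k α β hne).surjective v
    rw [gm_psiT, cj_mulVec, TQ E a₀ b₀ h1 h2 hne, TQ E a₀ b₀ h1 h2 hne]
    have h4 := congrArg (fun P : QuadraticForm F (Wm k F) => P w) h3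
    simp only [QuadraticMap.comp_apply, Matrix.toLin'_apply, _root_.smul_apply, smul_eq_mul] at h4
    exact h4
  rw [mu_of_sim (QfPlus (k + 1) F) hex _ c hA]
  rfl

include hαβ hβα in
/-- `psiT g` is rational for the graph-field twist -/
theorem psiT_rational (g : ↥(GO (QfMinus k F₀ a₀ b₀))) :
    gm (r0 k F) * (gm (psiT E a₀ b₀ h1 h2 hne g)).map E.σ * gm (r0 k F) =
      gm (psiT E a₀ b₀ h1 h2 hne g) := by
  apply cj_injective (splitE k α β hne).symm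
  rw [cj_twist E hne hαβ hβα, gm_psiT, cj_symm_cj]
  ext i l
  simp only [Matrix.map_apply]
  exact E.fix_j _

end psi

section index

variable {F : Type*} [Field F] [Fintype F] {m : ℕ}

/-- the inner automorphisms have index four in the inner-diagonal group when `-1 ∈ Ω` -/
theorem relIndex_Inn_innD (h2F : (2 : F) ≠ 0) (hm : 3 ≤ m)
    (hneg : ∃ g : ↥(Cfsg.isometryGroup F ⇑(QfPlus m F)), g ∈ Cfsg.Omega F ⇑(QfPlus m F) ∧
      ((g : GL (Fin m ⊕ Fin m) F) : Matrix (Fin m ⊕ Fin m) (Fin m ⊕ Fin m) F) = -1) :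
    (Cfsg.Inn (Cfsg.POmega F ⇑(QfPlus m F))).relIndex (innD m F) = 4 := by
  classical
  have hQ := QfPlus_nondeg (F := F) m
  have hcardι : Fintype.card (Fin m ⊕ Fin m) = 2 * m := by
    rw [Fintype.card_sum, Fintype.card_fin]; omega
  have hrel := (relIndex_Inn_psoAut (QfPlus m F) hQ h2F (by rw [hcardι]; omega)
    (by rw [hcardι]; exact even_two_mul m)).1 hneg
  have h := index_NN h2F hm 2 hrel
  exact h

/-- `-1 ∈ Ω` when the order of the field is `1` modulo `4` -/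
theorem neg_one_mem_Omega_plus (hm : 1 ≤ m) (hq : Fintype.card F % 4 = 1) :
    ∃ g : ↥(Cfsg.isometryGroup F ⇑(QfPlus m F)), g ∈ Cfsg.Omega F ⇑(QfPlus m F) ∧
      ((g : GL (Fin m ⊕ Fin m) F) : Matrix (Fin m ⊕ Fin m) (Fin m ⊕ Fin m) F) = -1 := by
  have hodd : Odd (Fintype.card F) := by
    rw [Nat.odd_iff]; omega
  have hpow : Fintype.card F ^ m % 4 = 1 := by
    rw [Nat.pow_mod, hq, Nat.one_pow]
  obtain ⟨g, hg, hmat⟩ := (Cfsg.Agent.S2613.result (F := F) rfl hodd m hm le_rfl).2 hpow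
  refine ⟨g, hg, ?_⟩
  rw [hmat]
  ext a b
  rw [Matrix.diagonal_apply, Matrix.neg_apply, Matrix.one_apply]
  by_cases hab : a = b
  · rw [if_pos hab, if_pos hab]
    rcases a with j | j
    · rw [if_pos (by simp)]
    · rw [if_pos (by simp)]
  · rw [if_neg hab, if_neg hab, neg_zero]

end index

section split

variable {F : Type*} [Field F] [Fintype F] {F₀ : Type*} [Field F₀] [Fintype F₀]
  (E : FDesc F F₀) {k : ℕ}
  (a₀ b₀ : F₀) {α β : F} (h1 : α + β = -(E.j a₀)) (h2 : α * β = E.j b₀) (hne : α ≠ β)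
  (hαβ : E.σ α = β) (hβα : E.σ β = α)
  (hab : ∀ z₁ z₂ : F₀, z₁ ^ 2 + a₀ * z₁ * z₂ + b₀ * z₂ ^ 2 = 0 → z₁ = 0 ∧ z₂ = 0)

theorem map_smul_sigma {ι : Type} (σ : F ≃+* F) (c : F) (M : Matrix ι ι F) :
    (c • M).map σ = σ c • M.map σ := by
  ext i j
  simp only [Matrix.map_apply, Matrix.smul_apply, smul_eq_mul, map_mul]

theorem mu_oGO {m : ℕ} (hm : 1 ≤ m) (s : ↥(Cfsg.isometryGroup F ⇑(QfPlus m F))) :
    mu (QfPlus m F) (oGO (QfPlus m F) s) = 1 := by
  classical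
  apply mu_of_sim (QfPlus m F) (hex_plus hm)
  intro v
  rw [Units.val_one, one_mul]
  exact isom_apply (QfPlus m F) s v

include h1 h2 hne hαβ hβα hab in
set_option maxHeartbeats 1600000 in
/-- the class of the standard graph-field automorphism splits into four or two classes according
to whether an anti-rational isometry lies in `Ω` -/
theorem split_of_antirational (h2F : (2 : F) ≠ 0) (hk : 5 ≤ k + 1) (hσ : 0 < orderOf E.σ)
    (hcard : Fintype.card F = Fintype.card F₀ ^ 2)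
    (hneg : ∃ g : ↥(Cfsg.isometryGroup F ⇑(QfPlus (k + 1) F)),
      g ∈ Cfsg.Omega F ⇑(QfPlus (k + 1) F) ∧
      ((g : GL (Fin (k + 1) ⊕ Fin (k + 1)) F) :
        Matrix (Fin (k + 1) ⊕ Fin (k + 1)) (Fin (k + 1) ⊕ Fin (k + 1)) F) = -1)
    (hO : ↥(Cfsg.isometryGroup F ⇑(QfPlus (k + 1) F)))
    (hcls : cls (oGO (QfPlus (k + 1) F) hO) = 0)
    (hanti : gm (r0 k F) * (((hO : GL (Fin (k + 1) ⊕ Fin (k + 1)) F) :
        Matrix (Fin (k + 1) ⊕ Fin (k + 1)) (Fin (k + 1) ⊕ Fin (k + 1)) F).map E.σ) * gm (r0 k F) =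
      -((hO : GL (Fin (k + 1) ⊕ Fin (k + 1)) F) :
        Matrix (Fin (k + 1) ⊕ Fin (k + 1)) (Fin (k + 1) ⊕ Fin (k + 1)) F)) :
    (hO ∈ Cfsg.Omega F ⇑(QfPlus (k + 1) F) →
      Cfsg.splitClassCount (innD (k + 1) F) (Cfsg.Inn (Cfsg.POmega F ⇑(QfPlus (k + 1) F)))
        (x0 k E.σ) = 4) ∧
    (hO ∉ Cfsg.Omega F ⇑(QfPlus (k + 1) F) →
      Cfsg.splitClassCount (innD (k + 1) F) (Cfsg.Inn (Cfsg.POmega F ⇑(QfPlus (k + 1) F)))
        (x0 k E.σ) = 2) := by
  classical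
  have hQ := QfPlus_nondeg (F := F) (k + 1)
  have hperf := perf_plus (F := F) hk
  have hex := hex_plus (F := F) (m := k + 1) (by omega)
  have hex₀ := hex_minus' (k := k) a₀ b₀
  have h20 := two_ne_zero_sub' E h2F
  set H : Matrix (Fin (k + 1) ⊕ Fin (k + 1)) (Fin (k + 1) ⊕ Fin (k + 1)) F :=
    ((hO : GL (Fin (k + 1) ⊕ Fin (k + 1)) F) :
      Matrix (Fin (k + 1) ⊕ Fin (k + 1)) (Fin (k + 1) ⊕ Fin (k + 1)) F) with hH
  set y₀ := cG (QfPlus (k + 1) F) (oGO (QfPlus (k + 1) F) hO) with hy₀def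
  have hy₀C : y₀ ∈ innD (k + 1) F ⊓ Subgroup.centralizer {x0 k E.σ} := by
    rw [Subgroup.mem_inf]
    refine ⟨cG_mem_inndiag _ hcls, ?_⟩
    rw [hy₀def, cG_mem_centralizer_x0_iff hk]
    refine ⟨-1, ?_⟩
    rw [Units.val_neg, Units.val_one, neg_smul, one_smul]
    exact hanti
  have hrep := inndiag_inf_centralizer E a₀ b₀ h1 h2 hne hαβ hβα hk hσ
  obtain ⟨g₀, hg₀m, hg₀⟩ : ∃ g₀ : ↥(GO (QfMinus k F₀ a₀ b₀)),
      cls (psiT E a₀ b₀ h1 h2 hne g₀) = 0 ∧
      cG (QfPlus (k + 1) F) (psiT E a₀ b₀ h1 h2 hne g₀) = y₀ := by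
    rw [hrep] at hy₀C
    obtain ⟨g₀, h, h'⟩ := hy₀C
    rw [SetLike.mem_coe, mem_GOm] at h
    exact ⟨g₀, h, h'⟩
  -- `psiT g₀` is a scalar multiple of `hO`
  have h3 : cG (QfPlus (k + 1) F) ((oGO (QfPlus (k + 1) F) hO)⁻¹ *
      psiT E a₀ b₀ h1 h2 hne g₀) = 1 := by
    rw [map_mul, map_inv, hg₀, hy₀def, inv_mul_cancel]
  obtain ⟨c', hc'⟩ := (cG_eq_one_iff hQ (frPlus (by omega)) hperf _).1 h3
  have h4 : psiT E a₀ b₀ h1 h2 hne g₀ =
      oGO (QfPlus (k + 1) F) hO * scal (QfPlus (k + 1) F) c' := by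
    apply eq_mul_of_inv_mul_eq
    apply Subtype.ext
    apply Units.ext
    rw [hc', scal_val]
  have hmat : gm (psiT E a₀ b₀ h1 h2 hne g₀) = (c' : F) • H := by
    rw [h4]
    show H * ((scal (QfPlus (k + 1) F) c' : GL (Fin (k + 1) ⊕ Fin (k + 1)) F) :
      Matrix (Fin (k + 1) ⊕ Fin (k + 1)) (Fin (k + 1) ⊕ Fin (k + 1)) F) = _
    rw [scal_val, Matrix.mul_smul, Matrix.mul_one]
  have hrat := psiT_rational E a₀ b₀ h1 h2 hne hαβ hβα g₀
  rw [hmat, map_smul_sigma, Matrix.mul_smul, Matrix.smul_mul, hanti] at hrat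
  have hHne : H ≠ 0 := by
    intro h0
    have h5 : H * (((hO : GL (Fin (k + 1) ⊕ Fin (k + 1)) F)⁻¹ :
        GL (Fin (k + 1) ⊕ Fin (k + 1)) F) :
          Matrix (Fin (k + 1) ⊕ Fin (k + 1)) (Fin (k + 1) ⊕ Fin (k + 1)) F) = 1 := by
      rw [hH, ← Units.val_mul, mul_inv_cancel, Units.val_one]
    rw [h0, Matrix.zero_mul] at h5
    have h6 := congrFun (congrFun h5 (Sum.inl 0)) (Sum.inl 0)
    rw [Matrix.zero_apply, Matrix.one_apply_eq] at h6
    exact zero_ne_one h6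
  have hσc : E.σ (c' : F) = -(c' : F) := by
    have h5 : (E.σ (c' : F) + (c' : F)) • H = 0 := by
      rw [add_smul]
      rw [smul_neg] at hrat
      rw [← hrat]
      exact add_neg_cancel _
    rcases smul_eq_zero.1 h5 with h | h
    · linear_combination h
    · exact absurd h hHne
  have hmu : E.j (mu (QfMinus k F₀ a₀ b₀) g₀ : F₀) = (c' : F) * (c' : F) := by
    rw [← mu_psiT E a₀ b₀ h1 h2 hne (by omega), h4]
    have h5 : mu (QfPlus (k + 1) F) (oGO (QfPlus (k + 1) F) hO * scal (QfPlus (k + 1) F) c') =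
        mu (QfPlus (k + 1) F) (oGO (QfPlus (k + 1) F) hO) *
          mu (QfPlus (k + 1) F) (scal (QfPlus (k + 1) F) c') :=
      (muHom (QfPlus (k + 1) F) hex).map_mul _ _
    rw [h5, mu_oGO (by omega), mu_scal _ hex, one_mul, Units.val_mul]
  have hc'0 : (c' : F) ≠ 0 := Units.ne_zero c'
  have hns : ¬ IsSquare (mu (QfMinus k F₀ a₀ b₀) g₀ : F₀) := by
    rintro ⟨ν, hν⟩
    rw [hν, map_mul] at hmu
    have h5 : ((c' : F) - E.j ν) * ((c' : F) + E.j ν) = 0 := by linear_combination -hmu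
    have hfix : E.σ (c' : F) = (c' : F) := by
      rcases mul_eq_zero.1 h5 with h | h
      · rw [sub_eq_zero.1 h, E.fix_j]
      · have : (c' : F) = E.j (-ν) := by rw [map_neg]; linear_combination h
        rw [this, E.fix_j]
    rw [hσc] at hfix
    apply hc'0
    have h6 : (2 : F) * (c' : F) = 0 := by linear_combination -hfix
    rcases mul_eq_zero.1 h6 with h | h
    · exact absurd h h2F
    · exact h
  have hall : ∀ y ∈ innD (k + 1) F ⊓ Subgroup.centralizer {x0 k E.σ},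
      y ∈ Cfsg.Inn (Cfsg.POmega F ⇑(QfPlus (k + 1) F)) ∨
      y * y₀ ∈ Cfsg.Inn (Cfsg.POmega F ⇑(QfPlus (k + 1) F)) := by
    intro y hy
    rw [hrep] at hy
    obtain ⟨g, hgm, rfl⟩ := hy
    rw [SetLike.mem_coe, mem_GOm] at hgm
    rw [MonoidHom.comp_apply]
    by_cases hsq : IsSquare (mu (QfMinus k F₀ a₀ b₀) g : F₀)
    · left
      exact psiT_mem_Inn_of_isSquare E a₀ b₀ h1 h2 hne hab h2F hcard g hgm hsq
    · right
      rw [← hg₀, ← map_mul, ← map_mul]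
      apply psiT_mem_Inn_of_isSquare E a₀ b₀ h1 h2 hne hab h2F hcard (g * g₀)
      · rw [map_mul, cls_mul, hgm, hg₀m, add_zero]
      · have h5 : mu (QfMinus k F₀ a₀ b₀) (g * g₀) =
            mu (QfMinus k F₀ a₀ b₀) g * mu (QfMinus k F₀ a₀ b₀) g₀ :=
          (muHom (QfMinus k F₀ a₀ b₀) hex₀).map_mul _ _
        rw [h5, Units.val_mul, isSquare_mul_iff h20 (Units.ne_zero _) (Units.ne_zero _)]
        exact iff_of_false hsq hns
  have hidx := relIndex_Inn_innD h2F (by omega : 3 ≤ k + 1) hneg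
  have key := splitClassCount_of_index_four (innD (k + 1) F)
    (Cfsg.Inn (Cfsg.POmega F ⇑(QfPlus (k + 1) F))) Inn_le_innD hidx (x0 k E.σ) y₀ hy₀C hall
  have hcardι : Fintype.card (Fin (k + 1) ⊕ Fin (k + 1)) = 2 * (k + 1) := by
    rw [Fintype.card_sum, Fintype.card_fin]; omega
  constructor
  · intro hΩ
    apply key.1
    rw [hy₀def, cG_oGO]
    exact cAut_mem_Inn _ hO hΩ
  · intro hΩ
    apply key.2
    rw [hy₀def, cG_oGO]
    exact cAut_not_mem_Inn _ hQ h2F (by rw [hcardι]; omega) hneg hO hΩ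

end split

end Cfsg.Agent.Helper7.PlusG
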