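import Mathlib
import Cfsg.Prelude.Def_LieTypeDatum
import Cfsg.Agent.Helper7.PlusG10
import Cfsg.Agent.S2621

/-!
# Plus-type orthogonal groups: involutory graph-field automorphisms, part 11 (helper7)

Odd characteristic: the arithmetic of squares in the quadratic extension, and the number of
classes into which the class of the standard graph-field automorphism splits.
-/

set_option autoImplicit false
set_option linter.unusedSectionVars false
set_option linter.unusedVariables false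

namespace Cfsg.Agent.Helper7.PlusG

open Module Submodule Matrix Cfsg.Agent.Helper28.QPlus Cfsg.Agent.Helper28.IDP
  Cfsg.Agent.Helper28.Spin Cfsg.Agent.Helper28.PG Cfsg.Agent.Helper28.FO
  Cfsg.Agent.Helper28.SSim Cfsg.Agent.Helper28.GC Cfsg.Agent.Helper28.Sg
  Cfsg.Agent.Helper28.IDM Cfsg.Agent.Helper28.FM Cfsg.Agent.Helper28.PA
  Cfsg.Agent.Helper7.PlusF Cfsg.Agent.Helper28.IsoTransport
open Cfsg.Agent.Helper7.FieldPSL (FDesc)

section arith

variable {F : Type*} [Field F] [Fintype F] {F₀ : Type*} [Field F₀] [Fintype F₀]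
  (E : FDesc F F₀)

theorem sigma_sigma (hσ2 : orderOf E.σ = 2) (w : F) : E.σ (E.σ w) = w := by
  have h : E.σ ^ 2 = 1 := by rw [← hσ2, pow_orderOf_eq_one]
  have h2 : (E.σ ^ 2) w = w := by rw [h]; rfl
  rw [pow_two] at h2
  exact h2

/-- the norm of a square is the image of a square -/
theorem norm_of_isSquare (hσ2 : orderOf E.σ = 2) {z : F} (hz : IsSquare z) :
    ∃ t : F₀, z * E.σ z = E.j (t * t) := by
  obtain ⟨w, rfl⟩ := hz
  have hfix : E.σ (w * E.σ w) = w * E.σ w := by
    rw [map_mul, sigma_sigma E hσ2, mul_comm]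
  obtain ⟨t, ht⟩ := E.exists_j _ hfix
  refine ⟨t, ?_⟩
  rw [show E.j (t * t) = E.j t * E.j t from map_mul _ _ _, ht, map_mul]
  ring

/-- an element of norm `-1` -/
theorem exists_norm_neg_one (h2F : (2 : F) ≠ 0) {l : F} (hl : E.σ l = -l) (D : F₀)
    (hlD : l * l = E.j D) (hD : D ≠ 0) : ∃ c : F, c * E.σ c = -1 := by
  classical
  have h20 := two_ne_zero_sub' E h2F
  have hodd := Cfsg.Agent.Helper28.Spin.card_odd h20
  have hf : (Polynomial.X ^ 2 + Polynomial.C (1 : F₀)).degree = 2 :=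
    Polynomial.degree_X_pow_add_C (by norm_num) 1
  have hg : (Polynomial.C (-D) * Polynomial.X ^ 2).degree = 2 :=
    Polynomial.degree_C_mul_X_pow 2 (neg_ne_zero.2 hD)
  obtain ⟨a, b, hab⟩ := FiniteField.exists_root_sum_quadratic hf hg (Nat.odd_iff.1 hodd)
  simp only [Polynomial.eval_add, Polynomial.eval_pow, Polynomial.eval_X, Polynomial.eval_C,
    Polynomial.eval_mul] at hab
  refine ⟨E.j a + E.j b * l, ?_⟩
  rw [map_add, map_mul, E.fix_j, E.fix_j, hl]
  have h3 : E.j a * E.j a - E.j b * E.j b * (l * l) = -1 := by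
    rw [hlD, ← map_mul, ← map_mul, ← map_mul, ← map_sub]
    have : a * a - b * b * D = -1 := by linear_combination hab
    rw [this, map_neg, map_one]
  linear_combination h3

end arith

section count

variable {F : Type*} [Field F] [Fintype F] {F₀ : Type*} [Field F₀] [Fintype F₀]
  (E : FDesc F F₀) {k : ℕ}
  (a₀ b₀ : F₀) {α β : F} (h1 : α + β = -(E.j a₀)) (h2 : α * β = E.j b₀) (hne : α ≠ β)
  (hαβ : E.σ α = β) (hβα : E.σ β = α)
  (hab : ∀ z₁ z₂ : F₀, z₁ ^ 2 + a₀ * z₁ * z₂ + b₀ * z₂ ^ 2 = 0 → z₁ = 0 ∧ z₂ = 0)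

/-- the diagonal parameters -/
def dpar (l c : F) : Fin (k + 1) → F := Fin.lastCases c (fun _ => l)

theorem dpar_last (l c : F) : dpar (k := k) l c (Fin.last k) = c := by simp [dpar]

theorem dpar_cast (l c : F) (j : Fin k) : dpar (k := k) l c j.castSucc = l := by simp [dpar]

theorem dpar_ne (l c : F) (hl : l ≠ 0) (hc : c ≠ 0) : ∀ i, dpar (k := k) l c i ≠ 0 := by
  intro i
  refine Fin.lastCases ?_ (fun j => ?_) i
  · rw [dpar_last]; exact hc
  · rw [dpar_cast]; exact hl

theorem prod_dpar (l c : F) : ∏ i, dpar (k := k) l c i = l ^ k * c := by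
  rw [Fin.prod_univ_castSucc, dpar_last]
  simp only [dpar_cast, Finset.prod_const, Finset.card_univ, Fintype.card_fin]

theorem gm_r0_map (σ : F ≃+* F) : (gm (r0 k F)).map σ = gm (r0 k F) := by
  have h := congrArg (fun x : ↥(GO (QfPlus (k + 1) F)) => gm x) (tau_r0 (k := k) σ)
  exact h

theorem gm_r0_sq : gm (r0 k F) * gm (r0 k F) = 1 := by
  have h := congrArg (fun x : ↥(GO (QfPlus (k + 1) F)) => gm x) (r0_mul_self (k := k) (F := F))
  exact h

/-- the non-singular vector `e_last - f_last` -/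
noncomputable def vLns (k : ℕ) (F : Type*) [Field F] : NS (QfPlus (k + 1) F) :=
  ⟨vL k F, by rw [QfPlus_coe]; exact Q_vL_ne⟩

theorem reflO_vL_val :
    ((reflO (QfPlus (k + 1) F) (vLns k F).1 (vLns k F).2 :
      GL (Fin (k + 1) ⊕ Fin (k + 1)) F) :
        Matrix (Fin (k + 1) ⊕ Fin (k + 1)) (Fin (k + 1) ⊕ Fin (k + 1)) F) = gm (r0 k F) := by
  rw [reflO_val]
  exact reflectionMatrix_eq (vL k F) Q_vL_ne

include h1 h2 hne hαβ hβα hab in
/-- the number of classes, when `m = k + 1` is even -/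
theorem split_x0_even (h2F : (2 : F) ≠ 0) (hk : 5 ≤ k + 1) (hσ2 : orderOf E.σ = 2)
    (hcard : Fintype.card F = Fintype.card F₀ ^ 2) (hm : Even (k + 1)) :
    Cfsg.splitClassCount (innD (k + 1) F) (Cfsg.Inn (Cfsg.POmega F ⇑(QfPlus (k + 1) F)))
      (x0 k E.σ) = 2 := by
  classical
  have h20 := two_ne_zero_sub' E h2F
  have hodd₀ := Cfsg.Agent.Helper28.Spin.card_odd h20
  have hσ : 0 < orderOf E.σ := by rw [hσ2]; norm_num
  -- the element `l` with `σ l = -l`
  set l : F := α - β with hl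
  have hl0 : l ≠ 0 := sub_ne_zero.2 hne
  have hσl : E.σ l = -l := by rw [hl, map_sub, hαβ, hβα]; ring
  set D : F₀ := a₀ ^ 2 - 4 * b₀ with hD
  have hlD : l * l = E.j D := by
    rw [hD, map_sub, map_pow, map_mul, map_ofNat, ← h2]
    have : E.j a₀ = -(α + β) := by rw [h1]; ring
    rw [this, hl]
    ring
  have hDns : ¬ IsSquare D := Cfsg.Agent.S2621.not_isSquare_disc h20 a₀ b₀ hab
  have hD0 : D ≠ 0 := by
    intro h0
    exact hDns ⟨0, by rw [h0]; ring⟩
  obtain ⟨c, hc⟩ := exists_norm_neg_one E h2F hσl D hlD hD0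
  have hc0 : c ≠ 0 := by
    rintro rfl
    rw [zero_mul] at hc
    exact one_ne_zero (neg_eq_zero.1 hc.symm)
  have hd := dpar_ne (k := k) l c hl0 hc0
  -- `-1 ∈ Ω`
  have hq4 : Fintype.card F % 4 = 1 := by
    rw [hcard]
    obtain ⟨r, hr⟩ := hodd₀
    rw [hr]
    have : (2 * r + 1) ^ 2 = 4 * (r * r + r) + 1 := by ring
    rw [this]
    omega
  have hneg := neg_one_mem_Omega_plus (F := F) (m := k + 1) (by omega) hq4
  have key := split_of_antirational E a₀ b₀ h1 h2 hne hαβ hβα hab h2F hk hσ hcard hneg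
    (prodO (QfPlus (k + 1) F) (LP (dpar l c) hd))
    (by
      rw [cls_oGO_prodO, length_LP]
      exact ZMod.natCast_eq_zero_iff_even.2 hm)
    (antirat_prodO (dpar l c) hd E.σ (fun j => by rw [dpar_cast]; exact hσl)
      (by rw [dpar_last]; exact hc))
  apply key.2
  rw [prodO_mem_Omega_iff (QfPlus (k + 1) F) h2F, length_LP, normProd_LP, prod_dpar]
  rintro ⟨-, hsq⟩
  -- `k` is odd
  obtain ⟨r, hr⟩ : ∃ r, k = 2 * r + 1 := by
    obtain ⟨s, hs⟩ := hm
    exact ⟨s - 1, by omega⟩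
  have e1 : l ^ k * c = (l ^ r) * (l ^ r) * (l * c) := by rw [hr]; ring
  rw [e1, Cfsg.Agent.Helper13.isSquare_mul_self_mul_iff (pow_ne_zero r hl0)] at hsq
  obtain ⟨t, ht⟩ := norm_of_isSquare E hσ2 hsq
  rw [map_mul, hσl] at ht
  have h3 : E.j D = E.j (t * t) := by
    rw [← ht, ← hlD]
    linear_combination (l * l) * hc
  exact hDns ⟨t, E.j.injective h3⟩

theorem map_mul_sigma {ι : Type} [Fintype ι] (σ : F ≃+* F) (M N : Matrix ι ι F) :
    (M * N).map σ = M.map σ * N.map σ := by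
  ext i j
  simp only [Matrix.map_apply, Matrix.mul_apply, map_sum, map_mul]

/-- appending the rational reflection keeps anti-rationality -/
theorem antirat_append (σ : F ≃+* F)
    (P : Matrix (Fin (k + 1) ⊕ Fin (k + 1)) (Fin (k + 1) ⊕ Fin (k + 1)) F)
    (hP : gm (r0 k F) * P.map σ * gm (r0 k F) = -P) :
    gm (r0 k F) * (P * gm (r0 k F)).map σ * gm (r0 k F) = -(P * gm (r0 k F)) := by
  rw [map_mul_sigma, gm_r0_map, ← Matrix.mul_assoc, hP, Matrix.neg_mul]

theorem normProd_vLns : normProd (QfPlus (k + 1) F) [vLns k F] = -1 := by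
  unfold normProd
  rw [List.map_cons, List.map_nil, List.prod_cons, List.prod_nil, mul_one]
  show QfPlus (k + 1) F (vL k F) = -1
  rw [QfPlus_coe, Q_vL]

include h1 h2 hne hαβ hβα hab in
/-- the number of classes, when `m = k + 1` is odd -/
theorem split_x0_odd (h2F : (2 : F) ≠ 0) (hk : 5 ≤ k + 1) (hσ2 : orderOf E.σ = 2)
    (hcard : Fintype.card F = Fintype.card F₀ ^ 2) (hm : Odd (k + 1)) :
    (Fintype.card F₀ % 4 = 1 →
      Cfsg.splitClassCount (innD (k + 1) F) (Cfsg.Inn (Cfsg.POmega F ⇑(QfPlus (k + 1) F)))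
        (x0 k E.σ) = 4) ∧
    (Fintype.card F₀ % 4 ≠ 1 →
      Cfsg.splitClassCount (innD (k + 1) F) (Cfsg.Inn (Cfsg.POmega F ⇑(QfPlus (k + 1) F)))
        (x0 k E.σ) = 2) := by
  classical
  have h20 := two_ne_zero_sub' E h2F
  have hodd₀ := Cfsg.Agent.Helper28.Spin.card_odd h20
  have hσ : 0 < orderOf E.σ := by rw [hσ2]; norm_num
  set l : F := α - β with hl
  have hl0 : l ≠ 0 := sub_ne_zero.2 hne
  have hσl : E.σ l = -l := by rw [hl, map_sub, hαβ, hβα]; ring
  set D : F₀ := a₀ ^ 2 - 4 * b₀ with hD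
  have hlD : l * l = E.j D := by
    rw [hD, map_sub, map_pow, map_mul, map_ofNat, ← h2]
    have : E.j a₀ = -(α + β) := by rw [h1]; ring
    rw [this, hl]
    ring
  have hDns : ¬ IsSquare D := Cfsg.Agent.S2621.not_isSquare_disc h20 a₀ b₀ hab
  have hD0 : D ≠ 0 := by
    intro h0
    exact hDns ⟨0, by rw [h0]; ring⟩
  have hq4 : Fintype.card F % 4 = 1 := by
    rw [hcard]
    obtain ⟨r, hr⟩ := hodd₀
    rw [hr]
    have : (2 * r + 1) ^ 2 = 4 * (r * r + r) + 1 := by ring
    rw [this]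
    omega
  have hneg := neg_one_mem_Omega_plus (F := F) (m := k + 1) (by omega) hq4
  obtain ⟨r, hr⟩ : ∃ r, k = 2 * r := by
    obtain ⟨s, hs⟩ := hm
    exact ⟨s, by omega⟩
  -- the general consequence for a choice of `c`
  have main : ∀ c : F, c * E.σ c = -1 →
      (IsSquare c → Cfsg.splitClassCount (innD (k + 1) F)
        (Cfsg.Inn (Cfsg.POmega F ⇑(QfPlus (k + 1) F))) (x0 k E.σ) = 4) ∧
      (¬ IsSquare c → Cfsg.splitClassCount (innD (k + 1) F)
        (Cfsg.Inn (Cfsg.POmega F ⇑(QfPlus (k + 1) F))) (x0 k E.σ) = 2) := by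
    intro c hc
    have hc0 : c ≠ 0 := by
      rintro rfl
      rw [zero_mul] at hc
      exact one_ne_zero (neg_eq_zero.1 hc.symm)
    have hd := dpar_ne (k := k) l c hl0 hc0
    have hval : ((prodO (QfPlus (k + 1) F) (LP (dpar l c) hd ++ [vLns k F]) :
        GL (Fin (k + 1) ⊕ Fin (k + 1)) F) :
          Matrix (Fin (k + 1) ⊕ Fin (k + 1)) (Fin (k + 1) ⊕ Fin (k + 1)) F) =
        ((prodO (QfPlus (k + 1) F) (LP (dpar l c) hd) : GL (Fin (k + 1) ⊕ Fin (k + 1)) F) :
          Matrix (Fin (k + 1) ⊕ Fin (k + 1)) (Fin (k + 1) ⊕ Fin (k + 1)) F) * gm (r0 k F) := by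
      rw [Cfsg.Agent.Helper28.TR.prodO_append', prodO_cons, prodO_nil, mul_one, Subgroup.coe_mul,
        Units.val_mul, reflO_vL_val]
    have key := split_of_antirational E a₀ b₀ h1 h2 hne hαβ hβα hab h2F hk hσ hcard hneg
      (prodO (QfPlus (k + 1) F) (LP (dpar l c) hd ++ [vLns k F]))
      (by
        rw [cls_oGO_prodO, List.length_append, length_LP, List.length_singleton]
        exact ZMod.natCast_eq_zero_iff_even.2 hm.add_one)
      (by
        rw [hval]
        exact antirat_append E.σ _ (antirat_prodO (dpar l c) hd E.σ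
          (fun j => by rw [dpar_cast]; exact hσl) (by rw [dpar_last]; exact hc)))
    have hmem : prodO (QfPlus (k + 1) F) (LP (dpar l c) hd ++ [vLns k F]) ∈
        Cfsg.Omega F ⇑(QfPlus (k + 1) F) ↔ IsSquare c := by
      rw [prodO_mem_Omega_iff (QfPlus (k + 1) F) h2F, List.length_append, length_LP,
        List.length_singleton, Cfsg.Agent.Helper28.TR.normProd_append', normProd_LP, prod_dpar,
        normProd_vLns]
      have e1 : l ^ k * c * -1 = (l ^ r) * (l ^ r) * (c * -1) := by rw [hr]; ring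
      rw [e1, Cfsg.Agent.Helper13.isSquare_mul_self_mul_iff (pow_ne_zero r hl0)]
      have hneg1 : IsSquare (-1 : F) := by
        have := isSquare_j E h2F hcard (-1)
        rwa [map_neg, map_one] at this
      constructor
      · rintro ⟨-, hsq⟩
        have := hsq.mul hneg1
        have e2 : c * -1 * -1 = c := by ring
        rwa [e2] at this
      · intro hsq
        exact ⟨hm.add_one, hsq.mul hneg1⟩
    exact ⟨fun h => key.1 (hmem.2 h), fun h => key.2 (fun h' => h (hmem.1 h'))⟩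
  constructor
  · intro hq
    have hsq : IsSquare (-1 : F₀) := FiniteField.isSquare_neg_one_iff.2 (by omega)
    obtain ⟨i, hi⟩ := hsq
    have hc : E.j i * E.σ (E.j i) = -1 := by
      rw [E.fix_j, ← map_mul, ← hi, map_neg, map_one]
    exact (main (E.j i) hc).1 (isSquare_j E h2F hcard i)
  · intro hq
    obtain ⟨c, hc⟩ := exists_norm_neg_one E h2F hσl D hlD hD0
    apply (main c hc).2
    intro hsq
    obtain ⟨t, ht⟩ := norm_of_isSquare E hσ2 hsq
    rw [hc] at ht
    have h3 : E.j (-1) = E.j (t * t) := by rw [map_neg, map_one]; exact ht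
    have h4 : IsSquare (-1 : F₀) := ⟨t, E.j.injective h3⟩
    have h5 := FiniteField.isSquare_neg_one_iff.1 h4
    have h6 : Fintype.card F₀ % 2 = 1 := Nat.odd_iff.1 hodd₀
    omega

end count

end Cfsg.Agent.Helper7.PlusG
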