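import Mathlib
import Cfsg.Prelude.Def_LieTypeDatum
import Cfsg.Agent.Helper7.PlusG11
import Cfsg.Agent.Helper28.FieldO9

/-!
# Plus-type orthogonal groups: field automorphisms of prime order, part 0 (helper7)

Foundations: perfectness of `Ω⁺_{2m}` for `m ≥ 3`, compatibility of the standard plus forms with
the embedding of the fixed field, and a generic criterion for a class not to split.
-/

set_option autoImplicit false
set_option linter.unusedSectionVars false
set_option linter.unusedVariables false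

namespace Cfsg.Agent.Helper7.FieldPlus

open Module Submodule Matrix Cfsg.Agent.Helper28.QPlus Cfsg.Agent.Helper28.IDP
  Cfsg.Agent.Helper28.Spin Cfsg.Agent.Helper28.PG Cfsg.Agent.Helper28.FO
  Cfsg.Agent.Helper28.SSim Cfsg.Agent.Helper28.GC Cfsg.Agent.Helper28.Sg
  Cfsg.Agent.Helper28.PA Cfsg.Agent.Helper7.PlusF Cfsg.Agent.Helper7.PlusG
  Cfsg.Agent.Helper28.IsoTransport
open Cfsg.Agent.Helper7.FieldPSL (FDesc)

section abstract

variable {X : Type*} [Group X]

/-- a class does not split when the centralizer covers the quotient -/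
theorem splitClassCount_eq_one_of_cover (D I : Subgroup X) [hI : I.Normal] (hID : I ≤ D) (x : X)
    (hcov : ∀ δ ∈ D, ∃ ι ∈ I, ∃ c ∈ D ⊓ Subgroup.centralizer {x}, δ = ι * c) :
    Cfsg.splitClassCount D I x = 1 := by
  have hS : (I.subgroupOf D).Normal := inferInstance
  have h1 := Cfsg.Agent.Helper7.GraphSplit.splitClassCount_eq_index D.subtype (I.subgroupOf D) x
  rw [Subgroup.range_subtype, Subgroup.subgroupOf_map_subtype, inf_eq_left.2 hID] at h1
  rw [h1, Subgroup.index_eq_one, eq_top_iff]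
  intro δ _
  obtain ⟨ι, hι, c, hc, hδ⟩ := hcov δ.1 δ.2
  have hιD : ι ∈ D := hID hι
  have hcD : c ∈ D := (Subgroup.mem_inf.1 hc).1
  have e : δ = (⟨ι, hιD⟩ : ↥D) * ⟨c, hcD⟩ := Subtype.ext hδ
  rw [e]
  apply Subgroup.mul_mem
  · apply Subgroup.mem_sup_left
    rw [Subgroup.mem_subgroupOf]
    exact hι
  · apply Subgroup.mem_sup_right
    rw [Subgroup.mem_comap]
    exact (Subgroup.mem_inf.1 hc).2

end abstract

variable {F : Type*} [Field F] {F₀ : Type*} [Field F₀] {m : ℕ}

theorem hgen_plus3 [Fintype F] (hm : 3 ≤ m) :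
    ∀ (H : Subgroup ↥(Cfsg.isometryGroup F ⇑(QfPlus m F))),
      (∀ (v : Fin m ⊕ Fin m → F) (hv : QfPlus m F v ≠ 0), reflO (QfPlus m F) v hv ∈ H) →
        ∀ g, g ∈ H := by
  classical
  have hQ := QfPlus_nondeg (F := F) m
  have hcardι : Fintype.card (Fin m ⊕ Fin m) = 2 * m := by
    rw [Fintype.card_sum, Fintype.card_fin]; omega
  by_cases h2 : (2 : F) = 0
  · exact hgen_even h2 hQ (Or.inr (by rw [hcardι]; omega))
  · exact hgen_odd h2 hQ

/-- `Ω⁺_{2m}(F)` is perfect for `m ≥ 3` -/
theorem perf_plus3 [Fintype F] (hm : 3 ≤ m) : commutator ↥(Cfsg.Omega F ⇑(QfPlus m F)) = ⊤ :=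
  Omega_perfect' (QfPlus_nondeg m) (frPlus hm) (hgen_plus3 hm)

/-- the standard plus forms over `F₀` and `F` are compatible with the embedding -/
theorem compat_plus (E : FDesc F F₀) (m : ℕ) : Compat E (QfPlus m F) (QfPlus m F₀) := by
  intro w
  rw [QfPlus_coe, QfPlus_coe]
  unfold Cfsg.quadFormPlus
  rw [map_sum]
  simp only [map_mul]
  rfl

theorem card_index_plus (m : ℕ) : Fintype.card (Fin m ⊕ Fin m) = 2 * m := by
  rw [Fintype.card_sum, Fintype.card_fin]; omega

end Cfsg.Agent.Helper7.FieldPlus
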