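import Mathlib
import Cfsg.Prelude.Def_Blocks
import Cfsg.Prelude.Def_BlockRank
import Cfsg.Agent.Helper5.S4607Defs

/-!
# S4607, piece ALGCL: the residue field of the ring of algebraic integers is algebraically closed
-/

set_option autoImplicit false

namespace Cfsg.Agent.S4607P

open Cfsg Cfsg.Agent.Helper5.Res Cfsg.Agent.Helper5.CC Cfsg.Agent.Helper24

section Reduction

variable {M : Ideal AlgInt} [hMax : M.IsMaximal]

/-- ALGCL: the residue field of the algebraic integers is algebraically closed -/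
theorem isAlgClosed_quot : IsAlgClosed (AlgInt ⧸ M) := by
  apply IsAlgClosed.of_exists_root
  intro p hpm hpirr
  have hsurj : Function.Surjective (Ideal.Quotient.mk M) := Ideal.Quotient.mk_surjective
  have hlift : p ∈ Polynomial.lifts (Ideal.Quotient.mk M) := by
    rw [Polynomial.mem_lifts]
    exact Polynomial.map_surjective _ hsurj p
  obtain ⟨q, hqp, hqdeg, hqm⟩ := Polynomial.lifts_and_degree_eq_and_monic hlift hpm
  have hdeg : q.degree ≠ 0 := by
    rw [hqdeg]
    exact (Polynomial.degree_pos_of_irreducible hpirr).ne'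
  have hinj : Function.Injective (algebraMap AlgInt ℂ) := Subtype.coe_injective
  have hdegC : (q.map (algebraMap AlgInt ℂ)).degree ≠ 0 := by
    rw [Polynomial.degree_map_eq_of_injective hinj]
    exact hdeg
  obtain ⟨z, hz⟩ := IsAlgClosed.exists_root (q.map (algebraMap AlgInt ℂ)) hdegC
  rw [Polynomial.IsRoot.def, Polynomial.eval_map] at hz
  have hzint : IsIntegral AlgInt z := ⟨q, hqm, hz⟩
  have hzZ : IsIntegral ℤ z := isIntegral_trans z hzint
  refine ⟨Ideal.Quotient.mk M ⟨z, hzZ⟩, ?_⟩
  have hqa : q.eval (⟨z, hzZ⟩ : AlgInt) = 0 := by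
    apply hinj
    rw [map_zero, ← hz]
    exact (Polynomial.eval₂_at_apply (algebraMap AlgInt ℂ) (⟨z, hzZ⟩ : AlgInt)).symm
  rw [← hqp, Polynomial.eval_map, Polynomial.eval₂_at_apply, hqa, map_zero]

end Reduction

end Cfsg.Agent.S4607P
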