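import Mathlib
import Cfsg.Prelude.Def_Blocks
import Cfsg.Prelude.Def_BlockRank
import Cfsg.Agent.Helper5.S4607Defs

/-!
# S4607, piece DIMK: the dimension of `a * k[G]` is the rank of the matrix `(a (g h⁻¹))`
-/

set_option autoImplicit false

namespace Cfsg.Agent.S4607P

open Cfsg Cfsg.Agent.Helper5.Res Cfsg.Agent.Helper5.CC Cfsg.Agent.Helper24

section Generic

/-- DIMK: the dimension of `a * k[G]` is the rank of the matrix `(a (g h⁻¹))` -/
theorem finrank_range_mulLeft {k : Type*} [Field k] {G : Type*} [Group G] [Fintype G] [DecidableEq G]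
    (a : MonoidAlgebra k G) :
    Module.finrank k (LinearMap.range (LinearMap.mulLeft k a)) =
      (Matrix.of fun g h : G => a.coeff (g * h⁻¹)).rank := by
  have hA : LinearMap.toMatrix (MonoidAlgebra.basis G k) (MonoidAlgebra.basis G k)
      (LinearMap.mulLeft k a) = Matrix.of fun g h : G => a.coeff (g * h⁻¹) := by
    ext g h
    rw [LinearMap.toMatrix_apply, Matrix.of_apply, MonoidAlgebra.basis_apply,
      LinearMap.mulLeft_apply]
    show (a * MonoidAlgebra.single h 1).coeff g = _
    rw [MonoidAlgebra.coeff_mul_single_apply, mul_one]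
  rw [← hA, Matrix.rank_eq_finrank_range_toLin _ (MonoidAlgebra.basis G k)
    (MonoidAlgebra.basis G k), Matrix.toLin_toMatrix]

end Generic

end Cfsg.Agent.S4607P
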