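import Mathlib
import Cfsg.Prelude.Def_Blocks
import Cfsg.Prelude.Def_BlockRank
import Cfsg.Agent.Helper5.S4607Defs
import Cfsg.Agent.Helper5.Osima
import Cfsg.Agent.Helper7.S4607DIMK
import Cfsg.Agent.Helper3.S4607RED
import Cfsg.Agent.Helper26.S4607IDEMRANK
import Cfsg.Agent.Helper1.S4607DIMC

/-!
# S4607, piece DIMB: the dimension of the block algebra
-/

set_option autoImplicit false

namespace Cfsg.Agent.S4607P

open Cfsg Cfsg.Agent.Helper5.Res Cfsg.Agent.Helper5.CC Cfsg.Agent.Helper24

section Block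

variable {M : Ideal AlgInt} [hMax : M.IsMaximal] {G : Type*} [Group G] [Fintype G]
  [Fintype (IrrCharacter G)]

open Classical in
/-- DIMB: the dimension of the block algebra -/
theorem finrank_range_eps (B : Set (IrrCharacter G)) (hB : IsPBlock M B) :
    Module.finrank (AlgInt ⧸ M) (LinearMap.range (LinearMap.mulLeft (AlgInt ⧸ M) (eps M B))) =
      ∑ χ : IrrCharacter G, if χ ∈ B then irrDeg χ ^ 2 else 0 := by
  have hMp := hMax.isPrime
  have hlr := osima hMp B hB
  obtain ⟨hE, hrank⟩ := rank_blockMatrix (G := G) B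
  rw [finrank_range_mulLeft, ← hrank,
    ← rank_map_res_eq (M := M) _ hE (fun i j => hlr (i * j⁻¹))]
  congr 1
  ext g h
  rw [Matrix.of_apply, Matrix.map_apply, Matrix.of_apply]
  exact red_coeff _ _

end Block

end Cfsg.Agent.S4607P
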