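import Mathlib
import Cfsg.Agent.Helper6.S3626.Defs
import Cfsg.Agent.Helper12.SL2Torus

/-!
# S3626 pieces EA, EB: elements of orders `q - 1` and `(q + 1) / 2` in `Y`
-/

set_option autoImplicit false

namespace Cfsg.Agent.S3626P

open Matrix

namespace EA

variable {K : Type*} [Field K]

theorem psum_zero_vec (φ : K →+* K) (e : K) (g : Matrix (Fin 2) (Fin 2) K) (n : ℕ) :
    psum φ e g 0 n = 0 := by
  induction n with
  | zero => rfl
  | succ n ih => rw [psum_succ, ih, lin_zero, add_zero]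

/-- powers of a linear element of `Y` -/
theorem pow_affPerm_zero (φ : K →+* K) (e : K) (he : e = 1 ∨ e = -1)
    (g : Matrix.SpecialLinearGroup (Fin 2) K) (n : ℕ) (X : Matrix (Fin 2) (Fin 2) K) :
    ((affPerm φ e he g 0) ^ n) X =
      lin φ (e ^ n) ((g : Matrix (Fin 2) (Fin 2) K) ^ n) X := by
  rw [pow_apply_of_aff φ (affPerm φ e he g 0) e (g : Matrix (Fin 2) (Fin 2) K) 0
    (fun X => rfl) n X, aff_apply, psum_zero_vec, add_zero]

/-- the action of a diagonal matrix -/
theorem lin_diagonal (φ : K →+* K) (e : K) (d : Fin 2 → K) (X : Matrix (Fin 2) (Fin 2) K)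
    (i j : Fin 2) : lin φ e (Matrix.diagonal d) X i j = e * (d i * X i j * φ (d j)) := by
  have h1 : (Matrix.diagonal d).map φ = Matrix.diagonal (fun i => φ (d i)) := by
    rw [Matrix.diagonal_map (map_zero φ)]
  rw [lin_apply, h1, Matrix.diagonal_transpose, Matrix.smul_apply, Matrix.mul_diagonal,
    Matrix.diagonal_mul, smul_eq_mul]

theorem card_mod_four (m : ℕ) : 3 ^ (2 * m + 1) % 4 = 3 := by
  have h : 3 ^ (2 * m + 1) = 3 * 9 ^ m := by
    rw [pow_succ, pow_mul]; norm_num; ring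
  rw [h, Nat.mul_mod, Nat.pow_mod]
  norm_num

theorem one_le_card (m : ℕ) : 1 ≤ 3 ^ (2 * m + 1) := Nat.one_le_pow _ _ (by norm_num)

theorem even_card_sub_one (m : ℕ) : Even (3 ^ (2 * m + 1) - 1) := by
  have := card_mod_four m
  have h1 := one_le_card m
  rw [Nat.even_iff]
  omega

end EA

section finite

variable {K : Type*} [Field K] [Fintype K] {m : ℕ}

/-- EA -/
theorem exists_orderOf_qm1 [CharP K 3] (hK : Fintype.card K = 3 ^ (2 * m + 1)) :
    ∃ σ : ↥(Y (frobS K m)), orderOf σ = 3 ^ (2 * m + 1) - 1 := by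
  classical
  set φ := frobS K m with hφ
  have h2 : (2 : K) ≠ 0 := by
    intro h
    have h3 : ((3 : ℕ) : K) = 0 := CharP.cast_eq_zero K 3
    have : (1 : K) = 0 := by
      have e : (1 : K) = ((3 : ℕ) : K) - 2 := by norm_num
      rw [e, h3, h, sub_zero]
    exact one_ne_zero this
  have hne : (-1 : K) ≠ 1 := by
    intro h
    apply h2
    have : (2 : K) = 1 - (-1) := by norm_num
    rw [this, h, sub_self]
  obtain ⟨lam, hlam⟩ := IsCyclic.exists_generator (α := Kˣ)
  have hord : orderOf lam = 3 ^ (2 * m + 1) - 1 := by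
    rw [orderOf_eq_card_of_forall_mem_zpowers hlam, Nat.card_eq_fintype_card, Fintype.card_units,
      hK]
  set d : Fin 2 → K := ![(lam : K), ((lam⁻¹ : Kˣ) : K)] with hd
  have hdet : (Matrix.diagonal d).det = 1 := by
    rw [Matrix.det_diagonal, Fin.prod_univ_two, hd]
    simp
  set g : Matrix.SpecialLinearGroup (Fin 2) K := ⟨Matrix.diagonal d, hdet⟩ with hg
  have hgk : ∀ k : ℕ, (g : Matrix (Fin 2) (Fin 2) K) ^ k = Matrix.diagonal (d ^ k) := by
    intro k
    rw [hg]
    exact Matrix.diagonal_pow d k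
  set σ0 := affPerm φ (-1) (Or.inr rfl) g 0 with hσ0
  have hpow : ∀ (k : ℕ) (X : Matrix (Fin 2) (Fin 2) K) (i j : Fin 2),
      ((σ0 ^ k) X) i j = (-1) ^ k * ((d i) ^ k * X i j * φ ((d j) ^ k)) := by
    intro k X i j
    rw [hσ0, EA.pow_affPerm_zero, hgk, EA.lin_diagonal]
    rfl
  have hq1 : (lam : K) ^ (3 ^ (2 * m + 1) - 1) = 1 := by
    rw [← hK]
    exact FiniteField.pow_card_sub_one_eq_one _ (Units.ne_zero lam)
  have hq2 : (((lam⁻¹ : Kˣ) : K)) ^ (3 ^ (2 * m + 1) - 1) = 1 := by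
    rw [← hK]
    exact FiniteField.pow_card_sub_one_eq_one _ (Units.ne_zero _)
  have hdq : ∀ i, (d i) ^ (3 ^ (2 * m + 1) - 1) = 1 := by
    intro i
    fin_cases i
    · exact hq1
    · exact hq2
  have h1 : σ0 ^ (3 ^ (2 * m + 1) - 1) = 1 := by
    apply Equiv.ext
    intro X
    ext i j
    rw [hpow, hdq, hdq, map_one, (EA.even_card_sub_one m).neg_one_pow, Equiv.Perm.one_apply]
    ring
  have hdvd : ∀ k : ℕ, σ0 ^ k = 1 → (3 ^ (2 * m + 1) - 1) ∣ k := by
    intro k hk
    set X1 : Matrix (Fin 2) (Fin 2) K := Matrix.of (fun _ _ => (1 : K)) with hX1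
    have hX : ∀ i j, X1 i j = 1 := fun _ _ => rfl
    have e1 := hpow k X1 0 0
    have e2 := hpow k X1 0 1
    rw [hk, Equiv.Perm.one_apply, hX] at e1 e2
    have hd0 : d 0 = (lam : K) := rfl
    have hd1 : d 1 = ((lam⁻¹ : Kˣ) : K) := rfl
    rw [hd0] at e1 e2
    rw [hd1] at e2
    simp only [mul_one] at e1 e2
    set a : K := (lam : K) ^ k with ha
    have ha0 : a ≠ 0 := pow_ne_zero _ (Units.ne_zero lam)
    have hinv : ((lam⁻¹ : Kˣ) : K) ^ k = a⁻¹ := by
      rw [Units.val_inv_eq_inv_val, inv_pow]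
    rw [hinv, map_inv₀] at e2
    have hs : ((-1 : K) ^ k) * ((-1 : K) ^ k) = 1 := by
      rw [← mul_pow]; norm_num
    have hφa0 : φ a ≠ 0 := (map_ne_zero φ).2 ha0
    -- multiply: a^2 = 1
    have haa : a * a = 1 := by
      have := congrArg₂ (· * ·) e1 e2
      simp only [one_mul] at this
      have h3 : (-1 : K) ^ k * (a * φ a) * ((-1 : K) ^ k * (a * (φ a)⁻¹)) =
          ((-1 : K) ^ k * (-1 : K) ^ k) * (a * a) * (φ a * (φ a)⁻¹) := by ring
      rw [h3, hs, mul_inv_cancel₀ hφa0, one_mul, mul_one] at this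
      exact this.symm
    rcases mul_self_eq_one_iff.1 haa with h | h
    · -- `lam ^ k = 1`
      rw [← hord]
      apply orderOf_dvd_of_pow_eq_one
      apply Units.ext
      rw [Units.val_pow_eq_pow_val, Units.val_one]
      exact h
    · -- `lam ^ k = -1`: impossible
      exfalso
      have hφm : φ (-1 : K) = -1 := by rw [map_neg, map_one]
      rw [h, hφm] at e1
      have hk1 : (-1 : K) ^ k = 1 := by
        have : (-1 : K) ^ k * (-1 * -1) = (-1 : K) ^ k := by norm_num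
        rw [← this]; exact e1.symm
      have hkeven : Even k := by
        rcases Nat.even_or_odd k with he | ho
        · exact he
        · rw [ho.neg_one_pow] at hk1
          exact absurd hk1 hne
      obtain ⟨j, hj⟩ := hkeven
      have hsq : IsSquare (-1 : K) := by
        refine ⟨(lam : K) ^ j, ?_⟩
        rw [← h, ha, hj, pow_add]
      rw [FiniteField.isSquare_neg_one_iff, hK] at hsq
      exact hsq (EA.card_mod_four m)
  refine ⟨⟨σ0, affPerm_mem φ (-1) (Or.inr rfl) g 0⟩, ?_⟩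
  rw [← Subgroup.orderOf_coe]
  exact Nat.dvd_antisymm (orderOf_dvd_of_pow_eq_one h1) (hdvd _ (pow_orderOf_eq_one σ0))

end finite

namespace EB

variable {K : Type*} [Field K]

/-- the kernel of the action of `SL₂` is `±1` (own copy of KER) -/
theorem eq_pm_one (φ : K →+* K) (g : Matrix.SpecialLinearGroup (Fin 2) K)
    (h : ∀ X, lin φ 1 (g : Matrix (Fin 2) (Fin 2) K) X = X) :
    (g : Matrix (Fin 2) (Fin 2) K) = 1 ∨ (g : Matrix (Fin 2) (Fin 2) K) = -1 := by
  set A : Matrix (Fin 2) (Fin 2) K := (g : Matrix (Fin 2) (Fin 2) K) with hA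
  have hdet : A.det = 1 := g.2
  have key : ∀ (X : Matrix (Fin 2) (Fin 2) K) (i j : Fin 2),
      X i j = A i 0 * X 0 0 * φ (A j 0) + A i 0 * X 0 1 * φ (A j 1) +
        A i 1 * X 1 0 * φ (A j 0) + A i 1 * X 1 1 * φ (A j 1) := by
    intro X i j
    have := congrFun (congrFun (h X) i) j
    rw [lin_apply, one_smul] at this
    rw [← this]
    simp only [Matrix.mul_apply, Fin.sum_univ_two, Matrix.transpose_apply, Matrix.map_apply]
    ring
  have k1 := key !![1, 0; 0, 0] 0 0
  have k2 := key !![1, 0; 0, 0] 1 1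
  have k3 := key !![0, 0; 0, 1] 0 0
  have k4 := key !![0, 1; 0, 0] 0 1
  simp at k1 k2 k3 k4
  have ha : A 0 0 ≠ 0 := by
    intro h0
    rw [h0, zero_mul] at k1
    exact one_ne_zero k1
  have hc : A 1 0 = 0 := k2
  have hb : A 0 1 = 0 := k3
  have had : A 0 0 = A 1 1 := by
    have : φ (A 0 0) = φ (A 1 1) := by
      apply mul_left_cancel₀ ha
      rw [← k1, ← k4]
    exact φ.injective this
  rw [Matrix.det_fin_two, hb, hc, ← had] at hdet
  have haa : A 0 0 * A 0 0 = 1 := by linear_combination hdet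
  rcases mul_self_eq_one_iff.1 haa with h1 | h1
  · left
    ext i j
    fin_cases i <;> fin_cases j <;> simp [hb, hc, ← had, h1]
  · right
    ext i j
    fin_cases i <;> fin_cases j <;> simp [hb, hc, ← had, h1]

end EB

section finite

variable {K : Type*} [Field K] [Fintype K] {m : ℕ}

/-- EB -/
theorem exists_orderOf_half [CharP K 3] (hK : Fintype.card K = 3 ^ (2 * m + 1)) :
    ∃ σ : ↥(Y (frobS K m)), orderOf σ = (3 ^ (2 * m + 1) + 1) / 2 := by
  classical
  set φ := frobS K m with hφ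
  have : Fact (Nat.Prime 3) := ⟨Nat.prime_three⟩
  obtain ⟨g0, hg0, hsc⟩ := Cfsg.Agent.Helper12.exists_sl2_orderOf_card_add_one (F := K) 3
  rw [hK] at hg0 hsc
  set hh : ℕ := (3 ^ (2 * m + 1) + 1) / 2 with hhh
  have h2h : 2 * hh = 3 ^ (2 * m + 1) + 1 := by
    have := EA.card_mod_four m
    omega
  set σ0 := affPerm φ 1 (Or.inl rfl) g0 0 with hσ0
  have hpow : ∀ (k : ℕ) (X : Matrix (Fin 2) (Fin 2) K),
      (σ0 ^ k) X = lin φ 1 (((g0 ^ k : Matrix.SpecialLinearGroup (Fin 2) K)) :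
        Matrix (Fin 2) (Fin 2) K) X := by
    intro k X
    rw [hσ0, EA.pow_affPerm_zero, one_pow, Matrix.SpecialLinearGroup.coe_pow]
  have h1 : σ0 ^ hh = 1 := by
    apply Equiv.ext
    intro X
    rw [hpow, Equiv.Perm.one_apply]
    obtain ⟨a, ha⟩ := (Cfsg.Agent.Helper12.isScalar2_iff _).1 (hsc hh h2h)
    have hdet := (g0 ^ hh).2
    rw [ha, Matrix.det_fin_two] at hdet
    simp at hdet
    rw [ha]
    rcases mul_self_eq_one_iff.1 hdet with h | h
    · rw [h, one_smul, lin_one]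
    · rw [h]
      have : ((-1 : K) • (1 : Matrix (Fin 2) (Fin 2) K)) = -1 := by
        rw [neg_smul, one_smul]
      rw [this, lin_neg_one]
  have hdvd : ∀ k : ℕ, σ0 ^ k = 1 → hh ∣ k := by
    intro k hk
    have hker : ∀ X, lin φ 1 (((g0 ^ k : Matrix.SpecialLinearGroup (Fin 2) K)) :
        Matrix (Fin 2) (Fin 2) K) X = X := by
      intro X
      rw [← hpow, hk, Equiv.Perm.one_apply]
    have hsq : (g0 ^ k) ^ 2 = 1 := by
      apply Subtype.ext
      rw [sq, Matrix.SpecialLinearGroup.coe_mul, Matrix.SpecialLinearGroup.coe_one]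
      rcases EB.eq_pm_one φ (g0 ^ k) hker with h | h
      · rw [h, one_mul]
      · rw [h, neg_mul_neg, one_mul]
    rw [← pow_mul] at hsq
    have := orderOf_dvd_of_pow_eq_one hsq
    rw [hg0, ← h2h, mul_comm k 2] at this
    exact Nat.dvd_of_mul_dvd_mul_left (by norm_num) this
  refine ⟨⟨σ0, affPerm_mem φ 1 (Or.inl rfl) g0 0⟩, ?_⟩
  rw [← Subgroup.orderOf_coe]
  exact Nat.dvd_antisymm (orderOf_dvd_of_pow_eq_one h1) (hdvd _ (pow_orderOf_eq_one σ0))

end finite

end Cfsg.Agent.S3626P
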