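import Mathlib
import Cfsg.Prelude.Def_GeometricClasses
import Cfsg.Prelude.Def_Classical
import Cfsg.Prelude.Def_LieClassical

/-!
# S5982, piece PERMBASIS: in characteristic two an involution permutes a suitable basis
-/

set_option autoImplicit false
open scoped MatrixGroups Matrix

namespace Cfsg.Agent.S5982P

namespace PERMBASIS

/-- the abstract version, with an arbitrary finite index type -/
theorem exists_perm_basis_aux {F V : Type*} [Field F] [CharP F 2] [AddCommGroup V] [Module F V]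
    [FiniteDimensional F V] (y : Module.End F V) (hy : y ^ 2 = 1) :
    ∃ (ι : Type) (_ : Fintype ι) (b : Module.Basis ι F V) (π : Equiv.Perm ι),
      (∀ j, π (π j) = j) ∧ ∀ j, y (b j) = b (π j) := by
  have h2 : (2 : F) = 0 := CharP.ofNat_eq_zero F 2
  have hyy : ∀ v, y (y v) = v := by
    intro v
    have := LinearMap.congr_fun hy v
    rw [pow_two] at this
    exact this
  -- `N = y - 1`, `N² = 0`
  obtain ⟨N, hNdef⟩ : ∃ N : Module.End F V, N = y - 1 := ⟨_, rfl⟩
  have hN : ∀ v, N v = y v - v := by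
    intro v
    rw [hNdef]
    rfl
  have hyN : ∀ v, y v = v + N v := by
    intro v
    rw [hN]
    abel
  have hNN : ∀ v, N (N v) = 0 := by
    intro v
    rw [hN, hN, map_sub, hyy]
    have : v - y v - (y v - v) = (2 : F) • (v - y v) := by
      rw [two_smul]; abel
    rw [this, h2, zero_smul]
  have hrange_le : LinearMap.range N ≤ LinearMap.ker N := by
    rintro _ ⟨v, rfl⟩
    exact hNN v
  -- complements
  obtain ⟨U, hU⟩ := Submodule.exists_isCompl (LinearMap.ker N)
  obtain ⟨C, hC⟩ := Submodule.exists_isCompl (LinearMap.range N)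
  obtain ⟨K', hK'def⟩ : ∃ K' : Submodule F V, K' = C ⊓ LinearMap.ker N := ⟨_, rfl⟩
  have hK'ker : K' ≤ LinearMap.ker N := by rw [hK'def]; exact inf_le_right
  have hdisjRK : ∀ v, v ∈ LinearMap.range N → v ∈ K' → v = 0 := by
    intro v h1 h2
    rw [hK'def] at h2
    have : v ∈ LinearMap.range N ⊓ C := ⟨h1, h2.1⟩
    rw [hC.inf_eq_bot] at this
    exact (Submodule.mem_bot F).1 this
  have hdisjKU : ∀ v, v ∈ LinearMap.ker N → v ∈ U → v = 0 := by
    intro v h1 h2
    have : v ∈ LinearMap.ker N ⊓ U := ⟨h1, h2⟩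
    rw [hU.inf_eq_bot] at this
    exact (Submodule.mem_bot F).1 this
  -- every vector is `u + k`
  have hdecU : ∀ v : V, ∃ k ∈ LinearMap.ker N, ∃ u ∈ U, v = k + u := by
    intro v
    have : v ∈ LinearMap.ker N ⊔ U := by rw [hU.sup_eq_top]; trivial
    obtain ⟨k, hk, u, hu, rfl⟩ := Submodule.mem_sup.1 this
    exact ⟨k, hk, u, hu, rfl⟩
  have hdecC : ∀ v : V, ∃ r ∈ LinearMap.range N, ∃ c ∈ C, v = r + c := by
    intro v
    have : v ∈ LinearMap.range N ⊔ C := by rw [hC.sup_eq_top]; trivial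
    obtain ⟨r, hr, c, hc, rfl⟩ := Submodule.mem_sup.1 this
    exact ⟨r, hr, c, hc, rfl⟩
  -- the map `((u, u'), k) ↦ u + y u' + k`
  let Φ : ((↥U × ↥U) × ↥K') →ₗ[F] V :=
    (U.subtype ∘ₗ LinearMap.fst F ↥U ↥U + (y ∘ₗ U.subtype) ∘ₗ LinearMap.snd F ↥U ↥U) ∘ₗ
      LinearMap.fst F (↥U × ↥U) ↥K' + K'.subtype ∘ₗ LinearMap.snd F (↥U × ↥U) ↥K'
  have hΦ : ∀ t : (↥U × ↥U) × ↥K', Φ t = (t.1.1 : V) + y (t.1.2 : V) + (t.2 : V) := by
    intro t
    rfl
  have hinj : Function.Injective Φ := by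
    rw [injective_iff_map_eq_zero]
    rintro ⟨⟨u, u'⟩, k⟩ h
    rw [hΦ] at h
    simp only at h
    rw [hyN] at h
    -- `(u + u') + (N u' + k) = 0`
    have hk : (N (u' : V) + (k : V)) ∈ LinearMap.ker N := by
      apply Submodule.add_mem
      · exact hNN _
      · exact hK'ker k.2
    have hu : ((u : V) + (u' : V)) ∈ U := Submodule.add_mem _ u.2 u'.2
    have e1 : (u : V) + (u' : V) = -(N (u' : V) + (k : V)) := by
      rw [eq_neg_iff_add_eq_zero, ← h]; abel
    have h3 : (u : V) + (u' : V) = 0 := by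
      apply hdisjKU _ _ hu
      rw [e1]
      exact Submodule.neg_mem _ hk
    have h4 : N (u' : V) + (k : V) = 0 := by
      rw [h3] at e1
      exact neg_eq_zero.1 e1.symm
    have h5 : N (u' : V) = 0 := by
      apply hdisjRK _ ⟨_, rfl⟩
      have : N (u' : V) = -(k : V) := by
        rw [eq_neg_iff_add_eq_zero]; exact h4
      rw [this]
      exact Submodule.neg_mem _ k.2
    have h6 : (u' : V) = 0 := hdisjKU _ h5 u'.2
    have h7 : (u : V) = 0 := by rw [h6, add_zero] at h3; exact h3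
    have h8 : (k : V) = 0 := by rw [h5, zero_add] at h4; exact h4
    ext
    · exact h7
    · exact h6
    · exact h8
  have hsurj : Function.Surjective Φ := by
    intro v
    obtain ⟨k₀, hk₀, u, hu, rfl⟩ := hdecU v
    obtain ⟨r, hr, c, hc, rfl⟩ := hdecC k₀
    obtain ⟨v', rfl⟩ := hr
    obtain ⟨k'', hk'', u'', hu'', rfl⟩ := hdecU v'
    have hNk'' : N k'' = 0 := hk''
    have hcK : c ∈ K' := by
      rw [hK'def]
      refine ⟨hc, ?_⟩
      have : c = (N (k'' + u'') + c) - N (k'' + u'') := by abel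
      rw [this]
      exact Submodule.sub_mem _ hk₀ (hNN _)
    refine ⟨((⟨u - u'', Submodule.sub_mem _ hu hu''⟩, ⟨u'', hu''⟩), ⟨c, hcK⟩), ?_⟩
    rw [hΦ]
    simp only
    rw [hyN, map_add, hNk'', zero_add]
    abel
  let e : ((↥U × ↥U) × ↥K') ≃ₗ[F] V := LinearEquiv.ofBijective Φ ⟨hinj, hsurj⟩
  have he : ∀ t, e t = (t.1.1 : V) + y (t.1.2 : V) + (t.2 : V) := hΦ
  let bU := Module.finBasis F ↥U
  let bK := Module.finBasis F ↥K'
  let b := ((bU.prod bU).prod bK).map e
  refine ⟨_, inferInstance, b,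
    Equiv.sumCongr (Equiv.sumComm _ _) (Equiv.refl _), ?_, ?_⟩
  · rintro ((j | j) | l) <;> rfl
  · rintro ((j | j) | l)
    · show y (e (((bU.prod bU).prod bK) (Sum.inl (Sum.inl j)))) =
        e (((bU.prod bU).prod bK) (Sum.inl (Sum.inr j)))
      rw [he, he]
      simp
    · show y (e (((bU.prod bU).prod bK) (Sum.inl (Sum.inr j)))) =
        e (((bU.prod bU).prod bK) (Sum.inl (Sum.inl j)))
      rw [he, he]
      simp [hyy]
    · have hb3 : ((bU.prod bU).prod bK) (Sum.inr l) = ((0 : ↥U × ↥U), bK l) := by simp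
      show y (e (((bU.prod bU).prod bK) (Sum.inr l))) =
        e (((bU.prod bU).prod bK) (Sum.inr l))
      rw [hb3, he]
      simp only [Prod.fst_zero, Prod.snd_zero, ZeroMemClass.coe_zero, map_zero, zero_add]
      have : N ((bK l : ↥K') : V) = 0 := hK'ker (bK l).2
      rw [hyN, this, add_zero]

end PERMBASIS

/-- PERMBASIS: in characteristic two an involution permutes a suitable basis -/
theorem exists_perm_basis {F : Type*} [Field F] [CharP F 2] (n : ℕ)
    (y : Module.End F (Fin n → F)) (hy : y ^ 2 = 1) :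
    ∃ (b : Module.Basis (Fin n) F (Fin n → F)) (π : Equiv.Perm (Fin n)),
      (∀ j, π (π j) = j) ∧ ∀ j, y (b j) = b (π j) := by
  obtain ⟨ι, hι, b, π, hπ, hb⟩ := PERMBASIS.exists_perm_basis_aux y hy
  have hcard : Fintype.card ι = n := by
    rw [← Module.finrank_eq_card_basis b, Module.finrank_fin_fun]
  let e : ι ≃ Fin n := Fintype.equivFinOfCardEq hcard
  refine ⟨b.reindex e, e.symm.trans (π.trans e), ?_, ?_⟩
  · intro j
    simp [hπ]
  · intro j
    simp [hb]

end Cfsg.Agent.S5982P
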