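import Mathlib
import Cfsg.Prelude.Def_Local
import Cfsg.Agent.Helper7.Basic
import Cfsg.Agent.Helper7.Quasisimple

set_option autoImplicit false

namespace Cfsg.Agent.Helper7

open Subgroup Equiv

variable {α : Type*} [Fintype α] [DecidableEq α]

/-- The pointwise stabilizer of a finite set `S` in the alternating group. -/
def fixA (S : Finset α) : Subgroup (alternatingGroup α) where
  carrier := {g | ∀ x ∈ S, (g : Perm α) x = x}
  one_mem' := fun x _ => rfl
  mul_mem' := by
    intro a b ha hb x hx
    show ((a : Perm α) * (b : Perm α)) x = x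
    rw [Perm.mul_apply, hb x hx, ha x hx]
  inv_mem' := by
    intro a ha x hx
    show ((a : Perm α)⁻¹) x = x
    rw [Perm.inv_eq_iff_eq]
    exact (ha x hx).symm

theorem mem_fixA {S : Finset α} {g : alternatingGroup α} :
    g ∈ fixA S ↔ ∀ x ∈ S, (g : Perm α) x = x := Iff.rfl

theorem fixA_inf (S T : Finset α) : fixA S ⊓ fixA T = fixA (S ∪ T) := by
  ext g
  simp only [Subgroup.mem_inf, mem_fixA, Finset.mem_union]
  constructor
  · rintro ⟨h1, h2⟩ x (hx | hx)
    · exact h1 x hx
    · exact h2 x hx
  · intro h
    exact ⟨fun x hx => h x (Or.inl hx), fun x hx => h x (Or.inr hx)⟩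

theorem fixA_map_conj (S : Finset α) (g : alternatingGroup α) :
    (fixA S).map (MulAut.conj g).toMonoidHom = fixA (S.image (g : Perm α)) := by
  ext h
  rw [mem_map_conj_iff, mem_fixA, mem_fixA]
  constructor
  · intro H y hy
    obtain ⟨x, hx, rfl⟩ := Finset.mem_image.1 hy
    have := H x hx
    have e : ((g⁻¹ * h * g : alternatingGroup α) : Perm α) x
        = (g : Perm α)⁻¹ ((h : Perm α) ((g : Perm α) x)) := rfl
    rw [e, Perm.inv_eq_iff_eq] at this
    exact this
  · intro H x hx
    have := H _ (Finset.mem_image_of_mem _ hx)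
    have e : ((g⁻¹ * h * g : alternatingGroup α) : Perm α) x
        = (g : Perm α)⁻¹ ((h : Perm α) ((g : Perm α) x)) := rfl
    rw [e, Perm.inv_eq_iff_eq]
    exact this

/-- The three-cycle `(a c b)` as an element of the alternating group. -/
def threeA (a b c : α) (ab : a ≠ b) (ac : a ≠ c) (bc : b ≠ c) : alternatingGroup α :=
  ⟨swap a b * swap a c, (Perm.isThreeCycle_swap_mul_swap_same ab ac bc).mem_alternatingGroup⟩

theorem threeA_apply_self (a b c : α) (ab : a ≠ b) (ac : a ≠ c) (bc : b ≠ c) :
    ((threeA a b c ab ac bc : alternatingGroup α) : Perm α) a = c := by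
  show (swap a b * swap a c) a = c
  rw [Perm.mul_apply, swap_apply_left, swap_apply_of_ne_of_ne ac.symm bc.symm]

theorem threeA_apply_of_ne (a b c : α) (ab : a ≠ b) (ac : a ≠ c) (bc : b ≠ c) {x : α}
    (xa : x ≠ a) (xb : x ≠ b) (xc : x ≠ c) :
    ((threeA a b c ab ac bc : alternatingGroup α) : Perm α) x = x := by
  show (swap a b * swap a c) x = x
  rw [Perm.mul_apply, swap_apply_of_ne_of_ne xa xc, swap_apply_of_ne_of_ne xa xb]

theorem threeA_mem_fixA {S : Finset α} (a b c : α) (ab : a ≠ b) (ac : a ≠ c) (bc : b ≠ c)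
    (ha : a ∉ S) (hb : b ∉ S) (hc : c ∉ S) : threeA a b c ab ac bc ∈ fixA S := by
  intro x hx
  apply threeA_apply_of_ne
  · rintro rfl; exact ha hx
  · rintro rfl; exact hb hx
  · rintro rfl; exact hc hx

/-- Given a point `x` outside `S` and a further point `y`, if at least four points lie outside `S`
there is an element of `fixA S` moving `x` and fixing `y` (for `y ≠ x`). -/
theorem exists_mem_fixA_move {S : Finset α} (hS : S.card + 4 ≤ Fintype.card α) {x y : α}
    (hx : x ∉ S) (hxy : y ≠ x) :
    ∃ l ∈ fixA S, (l : Perm α) x ≠ x ∧ (l : Perm α) y = y := by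
  classical
  have hcard : 2 ≤ (((Sᶜ).erase x).erase y).card := by
    have h1 : (Sᶜ).card = Fintype.card α - S.card := Finset.card_compl S
    have h2 : ((Sᶜ).erase x).card = (Sᶜ).card - 1 :=
      Finset.card_erase_of_mem (Finset.mem_compl.2 hx)
    have h3 := Finset.pred_card_le_card_erase (s := (Sᶜ).erase x) (a := y)
    omega
  obtain ⟨u, hu, v, hv, huv⟩ := Finset.one_lt_card.1 hcard
  simp only [Finset.mem_erase, Finset.mem_compl] at hu hv
  obtain ⟨huy, hux, huS⟩ := hu
  obtain ⟨hvy, hvx, hvS⟩ := hv
  refine ⟨threeA x u v (Ne.symm hux) (Ne.symm hvx) huv,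
    threeA_mem_fixA _ _ _ _ _ _ hx huS hvS, ?_, ?_⟩
  · rw [threeA_apply_self]; exact hvx
  · exact threeA_apply_of_ne _ _ _ _ _ _ hxy (Ne.symm huy) (Ne.symm hvy)

/-- Given a point `x` outside `S`, if at least three points lie outside `S`
there is an element of `fixA S` moving `x`. -/
theorem exists_mem_fixA_move' {S : Finset α} (hS : S.card + 3 ≤ Fintype.card α) {x : α}
    (hx : x ∉ S) : ∃ l ∈ fixA S, (l : Perm α) x ≠ x := by
  classical
  have hcard : 2 ≤ ((Sᶜ).erase x).card := by
    have h1 : (Sᶜ).card = Fintype.card α - S.card := Finset.card_compl S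
    have h2 : ((Sᶜ).erase x).card = (Sᶜ).card - 1 :=
      Finset.card_erase_of_mem (Finset.mem_compl.2 hx)
    omega
  obtain ⟨u, hu, v, hv, huv⟩ := Finset.one_lt_card.1 hcard
  simp only [Finset.mem_erase, Finset.mem_compl] at hu hv
  obtain ⟨hux, huS⟩ := hu
  obtain ⟨hvx, hvS⟩ := hv
  refine ⟨threeA x u v (Ne.symm hux) (Ne.symm hvx) huv,
    threeA_mem_fixA _ _ _ _ _ _ hx huS hvS, ?_⟩
  rw [threeA_apply_self]; exact hvx

/-- `fixA S` determines `S` when at least three points lie outside `S`. -/
theorem subset_of_fixA_le {S T : Finset α} (hS : S.card + 3 ≤ Fintype.card α)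
    (h : fixA S ≤ fixA T) : T ⊆ S := by
  intro x hxT
  by_contra hxS
  obtain ⟨l, hl, hlx⟩ := exists_mem_fixA_move' hS hxS
  exact hlx (h hl x hxT)

/-- The centralizer of `fixA S` is `fixA Sᶜ` when at least four points lie outside `S`. -/
theorem centralizer_fixA {S : Finset α} (hS : S.card + 4 ≤ Fintype.card α) :
    centralizer (fixA S : Set (alternatingGroup α)) = fixA Sᶜ := by
  apply le_antisymm
  · intro c hc x hx
    rw [Finset.mem_compl] at hx
    by_contra hne
    obtain ⟨l, hl, hlx, hly⟩ := exists_mem_fixA_move hS hx hne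
    have hcomm : l * c = c * l := mem_centralizer_iff.1 hc l hl
    have h1 : (l : Perm α) ((c : Perm α) x) = (c : Perm α) ((l : Perm α) x) := by
      have := congrArg (fun z : alternatingGroup α => (z : Perm α) x) hcomm
      exact this
    rw [hly] at h1
    exact hlx ((c : Perm α).injective h1).symm
  · intro c hc
    rw [mem_centralizer_iff]
    intro l hl
    have hdis : Perm.Disjoint (l : Perm α) (c : Perm α) := by
      intro x
      by_cases hx : x ∈ S
      · exact Or.inl (hl x hx)
      · exact Or.inr (hc x (Finset.mem_compl.2 hx))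
    apply Subtype.ext
    exact hdis.commute.eq

/-- The normalizer of `fixA S` is the setwise stabilizer of `S` when at least three points lie
outside `S`. -/
theorem mem_normalizer_fixA {S : Finset α} (hS : S.card + 3 ≤ Fintype.card α)
    {g : alternatingGroup α} :
    g ∈ normalizer (fixA S : Set (alternatingGroup α)) ↔ S.image (g : Perm α) = S := by
  rw [mem_normalizer_iff_map_conj_eq', fixA_map_conj]
  constructor
  · intro h
    apply Finset.eq_of_subset_of_card_le
    · exact subset_of_fixA_le hS h.ge
    · rw [Finset.card_image_of_injective _ (g : Perm α).injective]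
  · intro h; rw [h]

omit [Fintype α] in
theorem image_eq_iff_forall {S : Finset α} (g : Perm α) :
    S.image g = S ↔ ∀ x, g x ∈ S ↔ x ∈ S := by
  constructor
  · intro h x
    constructor
    · intro hx
      rw [← h] at hx
      obtain ⟨y, hy, hyx⟩ := Finset.mem_image.1 hx
      rwa [← g.injective hyx]
    · intro hx
      rw [← h]; exact Finset.mem_image_of_mem _ hx
  · intro h
    ext y
    constructor
    · intro hy
      obtain ⟨x, hx, rfl⟩ := Finset.mem_image.1 hy
      exact (h x).2 hx
    · intro hy
      refine Finset.mem_image.2 ⟨g⁻¹ y, (h _).1 (by simpa using hy), by simp⟩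

theorem image_compl_eq_iff {S : Finset α} (g : Perm α) :
    (Sᶜ).image g = Sᶜ ↔ S.image g = S := by
  rw [image_eq_iff_forall, image_eq_iff_forall]
  simp only [Finset.mem_compl, not_iff_not]

/-- If at most three points lie outside `T` then `fixA T` has odd order. -/
theorem odd_card_fixA {T : Finset α} (hT : Fintype.card α ≤ T.card + 3) :
    Odd (Nat.card (fixA T)) := by
  have hp : IsPGroup 3 (fixA T) := by
    intro h
    refine ⟨1, ?_⟩
    rw [pow_one]
    apply Subtype.ext
    apply Subtype.ext
    show ((h : alternatingGroup α) : Perm α) ^ 3 = 1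
    set σ : Perm α := ((h : alternatingGroup α) : Perm α) with hσ
    have hsupp : σ.support ⊆ Tᶜ := by
      intro x hx
      rw [Perm.mem_support] at hx
      rw [Finset.mem_compl]
      intro hxT
      exact hx (h.2 x hxT)
    have hle : σ.support.card ≤ 3 := by
      have h1 := Finset.card_le_card hsupp
      rw [Finset.card_compl] at h1
      omega
    have hsign : Perm.sign σ = 1 := Perm.mem_alternatingGroup.1 (h : alternatingGroup α).2
    have h0 : σ.support.card = 0 ∨ σ.support.card = 1 ∨ σ.support.card = 2 ∨ σ.support.card = 3 := by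
      omega
    rcases h0 with h0 | h0 | h0 | h0
    · rw [Finset.card_eq_zero, Perm.support_eq_empty_iff] at h0
      rw [h0]; simp
    · exact absurd h0 (Perm.card_support_ne_one σ)
    · have := (Perm.card_support_eq_two.1 h0).sign_eq
      rw [hsign] at this
      exact absurd this (by decide)
    · have h3 := _root_.card_support_eq_three_iff.1 h0
      rw [← h3.orderOf]
      exact pow_orderOf_eq_one σ
  obtain ⟨k, hk⟩ := hp.exists_card_eq
  rw [hk]
  exact Odd.pow (by decide)

end Cfsg.Agent.Helper7
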