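import Mathlib
import Cfsg.Prelude.Def_Local
import Cfsg.Agent.Helper7.AltStandard

set_option autoImplicit false

namespace Cfsg.Agent.Helper7

open Subgroup Equiv
open scoped commutatorElement

/-- A non-abelian simple group is quasisimple. -/
theorem isQuasisimple_of_isSimpleGroup {S : Type*} [Group S] [IsSimpleGroup S]
    (hna : ¬ IsMulCommutative S) : Cfsg.IsQuasisimple S := by
  apply isQuasisimple_of_surjective hna (MonoidHom.id S) Function.surjective_id
  · intro x hx
    rw [MonoidHom.mem_ker, MonoidHom.id_apply] at hx
    rw [hx]; exact one_mem _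
  · have hn : (commutator S).Normal := inferInstance
    rcases hn.eq_bot_or_eq_top with hb | ht
    · exfalso
      apply hna
      refine ⟨⟨fun a b => ?_⟩⟩
      have : ⁅a, b⁆ ∈ commutator S := by
        rw [_root_.commutator_def]
        exact Subgroup.commutator_mem_commutator (Subgroup.mem_top a) (Subgroup.mem_top b)
      rw [hb, Subgroup.mem_bot, commutatorElement_eq_one_iff_mul_comm] at this
      exact this
    · exact ⟨ht⟩

variable {α : Type*} [Fintype α] [DecidableEq α]

theorem fixA_eq_range (S : Finset α) : fixA S = (alternatingGroup.ofSubtype Sᶜ).range := by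
  ext k
  rw [alternatingGroup.mem_range_ofSubtype_iff, mem_fixA]
  constructor
  · intro h x hx
    rw [Finset.mem_compl]
    intro hxS
    exact (Perm.mem_support.1 hx) (h x hxS)
  · intro h x hx
    by_contra hne
    have := h (Perm.mem_support.2 hne)
    rw [Finset.mem_compl] at this
    exact this hx

theorem isQuasisimple_fixA {S : Finset α} (hS : S.card + 5 ≤ Fintype.card α) :
    Cfsg.IsQuasisimple (fixA S) := by
  have hc : Nat.card ↥(Sᶜ) = Fintype.card α - S.card := by
    rw [Nat.card_eq_fintype_card, Fintype.card_coe, Finset.card_compl]
  have h5 : 5 ≤ Nat.card ↥(Sᶜ) := by omega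
  have : IsSimpleGroup (alternatingGroup ↥(Sᶜ)) := alternatingGroup.isSimpleGroup h5
  have hna : ¬ IsMulCommutative (alternatingGroup ↥(Sᶜ)) := by
    rw [alternatingGroup.isMulCommutative_iff_card_le_three]
    omega
  have hq := isQuasisimple_of_isSimpleGroup hna
  have e : alternatingGroup ↥(Sᶜ) ≃* (alternatingGroup.ofSubtype Sᶜ).range :=
    MonoidHom.ofInjective (alternatingGroup.ofSubtype_injective (s := Sᶜ))
  have e2 : (alternatingGroup.ofSubtype Sᶜ).range ≃* fixA S :=
    MulEquiv.subgroupCongr (fixA_eq_range S).symm
  exact isQuasisimple_of_mulEquiv (e.trans e2) hq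

/-- For a 4-point subset `S` of a set of at least 9 points, the pointwise stabilizer of `S` in the
alternating group is a standard subgroup. -/
theorem isStandardSubgroup_fixA {S : Finset α} (h4 : S.card = 4) (h9 : 9 ≤ Fintype.card α) :
    Cfsg.IsStandardSubgroup (fixA S) := by
  have hcent : centralizer (fixA S : Set (alternatingGroup α)) = fixA Sᶜ :=
    centralizer_fixA (by omega)
  have hcc : (Sᶜ).card = Fintype.card α - 4 := by rw [Finset.card_compl, h4]
  refine ⟨isQuasisimple_fixA (by omega), ?_, ?_, ?_⟩
  · rw [hcent]
    refine ⟨?_, ?_⟩
    · -- even order: a double transposition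
      obtain ⟨T, hTS, hT3⟩ := Finset.exists_subset_card_eq (s := S) (n := 3) (by omega)
      obtain ⟨a, b, c, ab, ac, bc, rfl⟩ := Finset.card_eq_three.1 hT3
      have haS : a ∈ S := hTS (by simp)
      have hbS : b ∈ S := hTS (by simp)
      have hcS : c ∈ S := hTS (by simp)
      have hd : ∃ d ∈ S, d ≠ a ∧ d ≠ b ∧ d ≠ c := by
        by_contra hno
        push Not at hno
        have : S ⊆ {a, b, c} := by
          intro x hx
          by_cases h1 : x = a
          · simp [h1]
          by_cases h2 : x = b
          · simp [h2]
          have := hno x hx h1 h2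
          simp [this]
        have := Finset.card_le_card this
        rw [hT3, h4] at this
        omega
      obtain ⟨d, hdS, da, db, dc⟩ := hd
      let t : Perm α := swap a b * swap c d
      have ht : t ∈ alternatingGroup α := by
        rw [Perm.mem_alternatingGroup, Perm.sign_mul, Perm.sign_swap ab, Perm.sign_swap (Ne.symm dc)]
        decide
      have htfix : (⟨t, ht⟩ : alternatingGroup α) ∈ fixA Sᶜ := by
        intro x hx
        rw [Finset.mem_compl] at hx
        show (swap a b * swap c d) x = x
        have xa : x ≠ a := by rintro rfl; exact hx haS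
        have xb : x ≠ b := by rintro rfl; exact hx hbS
        have xc : x ≠ c := by rintro rfl; exact hx hcS
        have xd : x ≠ d := by rintro rfl; exact hx hdS
        rw [Perm.mul_apply, swap_apply_of_ne_of_ne xc xd, swap_apply_of_ne_of_ne xa xb]
      let t' : fixA (Sᶜ : Finset α) := ⟨⟨t, ht⟩, htfix⟩
      have ht2 : t' ^ 2 = 1 := by
        apply Subtype.ext
        apply Subtype.ext
        show t ^ 2 = 1
        have hcomm : Commute (swap a b) (swap c d) := by
          apply Perm.Disjoint.commute
          intro x
          by_cases hxa : x = a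
          · right; rw [hxa]; exact swap_apply_of_ne_of_ne ac (Ne.symm da)
          by_cases hxb : x = b
          · right; rw [hxb]; exact swap_apply_of_ne_of_ne bc (Ne.symm db)
          left; exact swap_apply_of_ne_of_ne hxa hxb
        show (swap a b * swap c d) ^ 2 = 1
        rw [hcomm.mul_pow, sq, sq, swap_mul_self, swap_mul_self, one_mul]
      have ht1 : t' ≠ 1 := by
        intro h
        have h1 : t a = a := by
          have := congrArg (fun z : fixA (Sᶜ : Finset α) => ((z : alternatingGroup α) : Perm α) a) h
          exact this
        have h2 : t a = b := by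
          show (swap a b * swap c d) a = b
          rw [Perm.mul_apply, swap_apply_of_ne_of_ne ac (Ne.symm da), swap_apply_left]
        rw [h2] at h1
        exact ab h1.symm
      have ho : orderOf t' = 2 := orderOf_eq_prime ht2 ht1
      rw [even_iff_two_dvd, ← ho]
      exact orderOf_dvd_natCard t'
    · intro g hg
      rw [fixA_map_conj, fixA_inf]
      apply odd_card_fixA
      have hne : (Sᶜ).image (g : Perm α) ≠ Sᶜ := by
        intro h
        apply hg
        rw [mem_normalizer_iff_map_conj_eq', fixA_map_conj, h]
      have hnot : ¬ (Sᶜ).image (g : Perm α) ⊆ Sᶜ := by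
        intro hsub
        apply hne
        apply Finset.eq_of_subset_of_card_le hsub
        rw [Finset.card_image_of_injective _ (g : Perm α).injective]
      have hlt : Sᶜ ⊂ Sᶜ ∪ (Sᶜ).image (g : Perm α) := by
        rw [Finset.ssubset_iff_subset_ne]
        refine ⟨Finset.subset_union_left, ?_⟩
        intro h
        apply hnot
        intro x hx
        have hx' : x ∈ Sᶜ ∪ (Sᶜ).image (g : Perm α) := Finset.mem_union_right _ hx
        rwa [← h] at hx'
      have := Finset.card_lt_card hlt
      omega
  · intro g _ hbot
    rw [Subgroup.commutator_comm, commutator_eq_bot_iff_le_centralizer, hcent, fixA_map_conj] at hbot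
    have hsub := subset_of_fixA_le (S := S.image (g : Perm α)) (T := Sᶜ)
      (by rw [Finset.card_image_of_injective _ (g : Perm α).injective]; omega) hbot
    have := Finset.card_le_card hsub
    rw [Finset.card_image_of_injective _ (g : Perm α).injective] at this
    omega
  · rw [hcent]
    ext g
    have hS3 : S.card + 3 ≤ Fintype.card α := by omega
    have hSc3 : (Sᶜ).card + 3 ≤ Fintype.card α := by omega
    rw [mem_normalizer_fixA hS3, mem_normalizer_fixA hSc3, image_compl_eq_iff]

end Cfsg.Agent.Helper7
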