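import Cfsg.Agent.Helper7.AutPSL9

/-!
# Automorphisms of `PSL_n(F)`, part 10 (helper7)

The elementary root elements `xb i j a` of `PSL_n`; an automorphism fixing the frame acts on
each root group through an additive bijection `f i j` of `F`, and these satisfy
`f i k (a b) = f i j a * f j k b`.
-/

set_option autoImplicit false
set_option linter.unusedSectionVars false
set_option linter.unusedVariables false

namespace Cfsg.Agent.Helper7.AutPSL

open Matrix Cfsg.Agent.Helper2.RootSLn Cfsg.Agent.Helper7.GraphPSL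
open scoped Pointwise

variable {n : ℕ} {F : Type*} [Field F]

theorem xs_add (i j : Fin n) (hij : i ≠ j) (a b : F) :
    xs i j hij (a + b) = xs i j hij a * xs i j hij b :=
  (ts_mul _ _ _ a b).symm

theorem xs_zero (i j : Fin n) (hij : i ≠ j) : xs i j hij (0 : F) = 1 := ts_zero _ _ _

theorem xs_inv (i j : Fin n) (hij : i ≠ j) (a : F) : (xs i j hij a)⁻¹ = xs i j hij (-a) :=
  ts_inv _ _ _ a

theorem xs_injective (i j : Fin n) (hij : i ≠ j) : Function.Injective (xs i j hij : F → _) := by
  intro a b h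
  have h1 := congrFun (congrFun (congrArg Subtype.val h) i) j
  change ((xs i j hij a : Matrix.SpecialLinearGroup (Fin n) F) : Matrix (Fin n) (Fin n) F) i j
    = ((xs i j hij b : Matrix.SpecialLinearGroup (Fin n) F) : Matrix (Fin n) (Fin n) F) i j at h1
  rw [xs_coe, xs_coe, Matrix.add_apply, Matrix.add_apply, Matrix.one_apply_ne hij,
    Matrix.single_apply_same, Matrix.single_apply_same, zero_add, zero_add] at h1
  exact h1

/-- the Steinberg commutator relation -/
theorem xs_comm {i j k : Fin n} (hij : i ≠ j) (hjk : j ≠ k) (hik : i ≠ k) (a b : F) :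
    xs i j hij a * xs j k hjk b * (xs i j hij a)⁻¹ * (xs j k hjk b)⁻¹ = xs i k hik (a * b) := by
  rw [xs_inv, xs_inv]
  apply Subtype.ext
  simp only [Matrix.SpecialLinearGroup.coe_mul, xs_coe]
  rw [← Matrix.single_neg, ← Matrix.single_neg]
  rw [Cfsg.Agent.Helper2.comm_elt_eq (Matrix.single i j a) (Matrix.single j k b)
    (Matrix.single_mul_single_of_ne _ _ _ _ hij.symm _)
    (Matrix.single_mul_single_of_ne _ _ _ _ hjk.symm _)
    (Matrix.single_mul_single_of_ne _ _ _ _ hik.symm _),
    Matrix.single_mul_single_same]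

/-- the elementary root elements of `PSL_n` -/
noncomputable def xb (i j : Fin n) (hij : i ≠ j) (a : F) :
    Matrix.ProjectiveSpecialLinearGroup (Fin n) F :=
  pr (xs i j hij a)

theorem xb_add (i j : Fin n) (hij : i ≠ j) (a b : F) :
    xb i j hij (a + b) = xb i j hij a * xb i j hij b := by
  unfold xb
  rw [xs_add, map_mul]

theorem xb_zero (i j : Fin n) (hij : i ≠ j) : xb i j hij (0 : F) = 1 := by
  unfold xb
  rw [xs_zero, map_one]

theorem xb_inv (i j : Fin n) (hij : i ≠ j) (a : F) : (xb i j hij a)⁻¹ = xb i j hij (-a) := by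
  unfold xb
  rw [← map_inv, xs_inv]

theorem isTm_xs (i j : Fin n) (hij : i ≠ j) (a : F) : IsTm (xs i j hij a) := isTm_ts _ _ _ a

theorem xb_injective (hn : 3 ≤ n) (i j : Fin n) (hij : i ≠ j) :
    Function.Injective (xb i j hij : F → _) := by
  intro a b h
  exact xs_injective i j hij (pr_inj_of_isTm hn (isTm_xs i j hij a) (isTm_xs i j hij b) h)

theorem xb_comm {i j k : Fin n} (hij : i ≠ j) (hjk : j ≠ k) (hik : i ≠ k) (a b : F) :
    xb i j hij a * xb j k hjk b * (xb i j hij a)⁻¹ * (xb j k hjk b)⁻¹ = xb i k hik (a * b) := by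
  unfold xb
  rw [← map_inv, ← map_inv, ← map_mul, ← map_mul, ← map_mul, xs_comm hij hjk hik]

theorem mem_Xb_iff (i j : Fin n) (hij : i ≠ j)
    (x : Matrix.ProjectiveSpecialLinearGroup (Fin n) F) :
    x ∈ Xb (Pi.single i 1 : Fin n → F) (Pi.single j 1) ↔ ∃ a : F, x = xb i j hij a := by
  constructor
  · rintro ⟨g, hg, rfl⟩
    obtain ⟨a, rfl⟩ := (mem_X (single_dot_single_of_ne hij)).1 hg
    exact ⟨a, rfl⟩
  · rintro ⟨a, rfl⟩
    exact ⟨_, xs_mem_X i j hij a, rfl⟩

section fixframe

variable {α : MulAut (Matrix.ProjectiveSpecialLinearGroup (Fin n) F)} (hα : FixFrame α)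

include hα in
theorem exists_f (i j : Fin n) (hij : i ≠ j) (a : F) :
    ∃ b : F, α (xb i j hij a) = xb i j hij b := by
  rw [← mem_Xb_iff, ← hα i j hij]
  exact ⟨_, (mem_Xb_iff i j hij _).2 ⟨a, rfl⟩, rfl⟩

/-- the action of `α` on the root group `Xb e_i e_j` -/
noncomputable def ff (i j : Fin n) (hij : i ≠ j) (a : F) : F :=
  (exists_f hα i j hij a).choose

theorem ff_spec (i j : Fin n) (hij : i ≠ j) (a : F) :
    α (xb i j hij a) = xb i j hij (ff hα i j hij a) :=
  (exists_f hα i j hij a).choose_spec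

theorem ff_add (hn : 3 ≤ n) (i j : Fin n) (hij : i ≠ j) (a b : F) :
    ff hα i j hij (a + b) = ff hα i j hij a + ff hα i j hij b := by
  apply xb_injective hn i j hij
  rw [← ff_spec, xb_add, map_mul, ff_spec hα, ff_spec hα, xb_add]

theorem ff_zero (hn : 3 ≤ n) (i j : Fin n) (hij : i ≠ j) : ff hα i j hij 0 = 0 := by
  apply xb_injective hn i j hij
  rw [← ff_spec, xb_zero, map_one]

theorem ff_injective (hn : 3 ≤ n) (i j : Fin n) (hij : i ≠ j) :
    Function.Injective (ff hα i j hij) := by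
  intro a b h
  apply xb_injective hn i j hij
  apply α.injective
  rw [ff_spec hα, ff_spec hα, h]

theorem ff_surjective (hn : 3 ≤ n) (i j : Fin n) (hij : i ≠ j) :
    Function.Surjective (ff hα i j hij) := by
  intro b
  have h1 : xb i j hij b ∈ (Xb (Pi.single i 1 : Fin n → F) (Pi.single j 1)).map α.toMonoidHom := by
    rw [hα i j hij]
    exact (mem_Xb_iff i j hij _).2 ⟨b, rfl⟩
  obtain ⟨x, hx, hxb⟩ := h1
  obtain ⟨a, rfl⟩ := (mem_Xb_iff i j hij _).1 hx
  refine ⟨a, ?_⟩
  apply xb_injective hn i j hij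
  rw [← ff_spec]
  exact hxb

theorem ff_mul (hn : 3 ≤ n) {i j k : Fin n} (hij : i ≠ j) (hjk : j ≠ k) (hik : i ≠ k) (a b : F) :
    ff hα i k hik (a * b) = ff hα i j hij a * ff hα j k hjk b := by
  apply xb_injective hn i k hik
  rw [← ff_spec, ← xb_comm hij hjk hik, map_mul, map_mul, map_mul, map_inv, map_inv, ff_spec hα,
    ff_spec hα, xb_comm hij hjk hik]

end fixframe

end Cfsg.Agent.Helper7.AutPSL
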