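import Cfsg.Agent.Helper7.AutPSL10

/-!
# Automorphisms of `PSL_n(F)`, part 11 (helper7)

An automorphism fixing the frame acts on the elementary root elements by
`xb i j a ↦ xb i j (d i * σ a * (d j)⁻¹)` for a field automorphism `σ` and units `d i`.
-/

set_option autoImplicit false
set_option linter.unusedSectionVars false
set_option linter.unusedVariables false

namespace Cfsg.Agent.Helper7.AutPSL

open Matrix Cfsg.Agent.Helper2.RootSLn Cfsg.Agent.Helper7.GraphPSL
open scoped Pointwise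

variable {n : ℕ} {F : Type*} [Field F]

/-- the abstract computation: a system of additive maps `g i j` with
`g i k (a b) = g i j a * g j k b` normalised by `g 0 j 1 = 1` consists of one multiplicative map -/
theorem system_eq (hn : 3 ≤ n) (g : ∀ i j : Fin n, i ≠ j → F → F) (i0 : Fin n)
    (hmul : ∀ (i j k : Fin n) (hij : i ≠ j) (hjk : j ≠ k) (hik : i ≠ k) (a b : F),
      g i k hik (a * b) = g i j hij a * g j k hjk b)
    (hone : ∀ (j : Fin n) (hj : i0 ≠ j), g i0 j hj 1 = 1) :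
    ∃ σ : F → F, (∀ (i j : Fin n) (hij : i ≠ j) (a : F), g i j hij a = σ a) ∧
      (∀ a b : F, σ (a * b) = σ a * σ b) ∧ σ 1 = 1 := by
  have h3 : 3 ≤ Fintype.card (Fin n) := by rw [Fintype.card_fin]; exact hn
  -- (1) `g j k = g 0 k` for `j, k ≠ 0`
  have s1 : ∀ (j k : Fin n) (hj : i0 ≠ j) (hk : i0 ≠ k) (hjk : j ≠ k) (b : F),
      g j k hjk b = g i0 k hk b := by
    intro j k hj hk hjk b
    have := hmul i0 j k hj hjk hk 1 b
    rw [one_mul, hone j hj, one_mul] at this
    exact this.symm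
  -- (2) `g 0 j = g 0 k`
  have s2 : ∀ (j k : Fin n) (hj : i0 ≠ j) (hk : i0 ≠ k) (a : F), g i0 j hj a = g i0 k hk a := by
    intro j k hj hk a
    by_cases hjk : j = k
    · subst hjk
      rfl
    · have := hmul i0 j k hj hjk hk a 1
      rw [mul_one, s1 j k hj hk hjk 1, hone k hk, mul_one] at this
      exact this.symm
  obtain ⟨i1, hi1, -⟩ := Cfsg.Agent.Helper2.exists_ne_ne_of_three_le_card h3 i0 i0
  obtain ⟨i2, hi2, hi21⟩ := Cfsg.Agent.Helper2.exists_ne_ne_of_three_le_card h3 i0 i1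
  refine ⟨g i0 i1 hi1.symm, ?_, ?_, hone i1 hi1.symm⟩
  · intro i j hij a
    by_cases hi : i = i0
    · subst hi
      exact s2 j i1 hij hi1.symm a
    · by_cases hj : j = i0
      · subst hj
        -- choose `k ≠ j, i`
        obtain ⟨k, hkj, hki⟩ := Cfsg.Agent.Helper2.exists_ne_ne_of_three_le_card h3 j i
        have := hmul i j k hij hkj.symm hki.symm a 1
        rw [mul_one, hone k hkj.symm, mul_one] at this
        rw [← this, s1 i k (Ne.symm hi) hkj.symm hki.symm a]
        exact s2 k i1 hkj.symm hi1.symm a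
      · rw [s1 i j (Ne.symm hi) (Ne.symm hj) hij a]
        exact s2 j i1 (Ne.symm hj) hi1.symm a
  · intro a b
    have := hmul i0 i2 i1 hi2.symm hi21 hi1.symm a b
    rw [this, s2 i2 i1 hi2.symm hi1.symm a, s1 i2 i1 hi2.symm hi1.symm hi21 b]

/-- **the field automorphism of an automorphism fixing the frame** -/
theorem exists_sigma (hn : 3 ≤ n) {α : MulAut (Matrix.ProjectiveSpecialLinearGroup (Fin n) F)}
    (hα : FixFrame α) :
    ∃ (d : Fin n → Fˣ) (σ : F ≃+* F), ∀ (i j : Fin n) (hij : i ≠ j) (a : F),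
      α (xb i j hij a) = xb i j hij ((d i : F) * σ a * ((d j)⁻¹ : Fˣ)) := by
  classical
  set i0 : Fin n := ⟨0, by omega⟩ with hi0
  -- the constants
  have hc : ∀ (j : Fin n) (hj : i0 ≠ j), ff hα i0 j hj 1 ≠ 0 := by
    intro j hj h
    rw [← ff_zero hα hn i0 j hj] at h
    exact one_ne_zero (ff_injective hα hn i0 j hj h)
  set d : Fin n → Fˣ := fun j => if hj : i0 = j then 1 else (Units.mk0 _ (hc j hj))⁻¹ with hd
  have hd0 : d i0 = 1 := by rw [hd]; simp
  have hdj : ∀ (j : Fin n) (hj : i0 ≠ j), ((d j : Fˣ) : F) = (ff hα i0 j hj 1)⁻¹ := by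
    intro j hj
    rw [hd]
    simp only [dif_neg hj]
    rw [Units.val_inv_eq_inv_val, Units.val_mk0]
  set g : ∀ i j : Fin n, i ≠ j → F → F := fun i j hij a =>
    (((d i)⁻¹ : Fˣ) : F) * ff hα i j hij a * (d j : F) with hg
  have hmul : ∀ (i j k : Fin n) (hij : i ≠ j) (hjk : j ≠ k) (hik : i ≠ k) (a b : F),
      g i k hik (a * b) = g i j hij a * g j k hjk b := by
    intro i j k hij hjk hik a b
    simp only [hg]
    rw [ff_mul hα hn hij hjk hik]
    have : ((d j : Fˣ) : F) * (((d j)⁻¹ : Fˣ) : F) = 1 := by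
      rw [← Units.val_mul, mul_inv_cancel, Units.val_one]
    calc (((d i)⁻¹ : Fˣ) : F) * (ff hα i j hij a * ff hα j k hjk b) * (d k : F)
        = (((d i)⁻¹ : Fˣ) : F) * ff hα i j hij a * 1 * ff hα j k hjk b * (d k : F) := by ring
      _ = _ := by rw [← this]; ring
  have hone : ∀ (j : Fin n) (hj : i0 ≠ j), g i0 j hj 1 = 1 := by
    intro j hj
    simp only [hg]
    rw [hd0, inv_one, Units.val_one, one_mul, hdj j hj, mul_inv_cancel₀ (hc j hj)]
  obtain ⟨σ, hσ, hσmul, hσ1⟩ := system_eq hn g i0 hmul hone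
  -- `σ` is additive and bijective
  obtain ⟨i1, hi1, -⟩ := Cfsg.Agent.Helper2.exists_ne_ne_of_three_le_card
    (by rw [Fintype.card_fin]; exact hn) i0 i0
  have hσeq : ∀ a : F, σ a = ff hα i0 i1 hi1.symm a * (d i1 : F) := by
    intro a
    rw [← hσ i0 i1 hi1.symm a]
    simp only [hg]
    rw [hd0, inv_one, Units.val_one, one_mul]
  have hd1 : ((d i1 : Fˣ) : F) ≠ 0 := (d i1).ne_zero
  have hσadd : ∀ a b : F, σ (a + b) = σ a + σ b := by
    intro a b
    rw [hσeq, hσeq, hσeq, ff_add hα hn, add_mul]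
  have hσ0 : σ 0 = 0 := by rw [hσeq, ff_zero hα hn, zero_mul]
  have hσinj : Function.Injective σ := by
    intro a b hab
    rw [hσeq, hσeq] at hab
    exact ff_injective hα hn i0 i1 hi1.symm (mul_right_cancel₀ hd1 hab)
  have hσsurj : Function.Surjective σ := by
    intro b
    obtain ⟨a, ha⟩ := ff_surjective hα hn i0 i1 hi1.symm (b * ((d i1 : Fˣ) : F)⁻¹)
    refine ⟨a, ?_⟩
    rw [hσeq, ha, mul_assoc, inv_mul_cancel₀ hd1, mul_one]
  let σhom : F →+* F :=
    { toFun := σ
      map_one' := hσ1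
      map_mul' := hσmul
      map_zero' := hσ0
      map_add' := hσadd }
  refine ⟨d, RingEquiv.ofBijective σhom ⟨hσinj, hσsurj⟩, ?_⟩
  intro i j hij a
  rw [ff_spec hα]
  congr 1
  have h1 : g i j hij a = σ a := hσ i j hij a
  simp only [hg] at h1
  show ff hα i j hij a = (d i : F) * σ a * (((d j)⁻¹ : Fˣ) : F)
  rw [← h1]
  have e1 : ((d i : Fˣ) : F) * (((d i)⁻¹ : Fˣ) : F) = 1 := by
    rw [← Units.val_mul, mul_inv_cancel, Units.val_one]
  have e2 : ((d j : Fˣ) : F) * (((d j)⁻¹ : Fˣ) : F) = 1 := by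
    rw [← Units.val_mul, mul_inv_cancel, Units.val_one]
  calc ff hα i j hij a = (((d i : Fˣ) : F) * (((d i)⁻¹ : Fˣ) : F)) * ff hα i j hij a
        * (((d j : Fˣ) : F) * (((d j)⁻¹ : Fˣ) : F)) := by rw [e1, e2, one_mul, mul_one]
    _ = _ := by ring

end Cfsg.Agent.Helper7.AutPSL
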