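import Cfsg.Agent.Helper7.AutPSL11

/-!
# Automorphisms of `PSL_n(F)`, part 12 (helper7)

Field automorphisms and diagonal automorphisms of `PSL_n`; every automorphism of `PSL_n(F)`
(`n ≥ 3`, `F` finite) is `cGL g * fieldPSL σ * γ` with `γ ∈ {1, iotaT}`.
-/

set_option autoImplicit false
set_option linter.unusedSectionVars false
set_option linter.unusedVariables false

namespace Cfsg.Agent.Helper7.AutPSL

open Matrix Cfsg.Agent.Helper2.RootSLn Cfsg.Agent.Helper7.GraphPSL
open scoped Pointwise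

variable {n : ℕ} {F : Type*} [Field F]

/-- a field automorphism applied to every entry, as an automorphism of `SL_n` -/
def fieldSL (σ : F ≃+* F) : MulAut (Matrix.SpecialLinearGroup (Fin n) F) where
  toFun := Matrix.SpecialLinearGroup.map σ.toRingHom
  invFun := Matrix.SpecialLinearGroup.map σ.symm.toRingHom
  left_inv s := by
    apply Subtype.ext
    ext i j
    simp
  right_inv s := by
    apply Subtype.ext
    ext i j
    simp
  map_mul' := map_mul _

theorem fieldSL_coe (σ : F ≃+* F) (s : Matrix.SpecialLinearGroup (Fin n) F) :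
    ((fieldSL σ s : Matrix.SpecialLinearGroup (Fin n) F) : Matrix (Fin n) (Fin n) F)
      = (s : Matrix (Fin n) (Fin n) F).map σ := rfl

/-- the standard field automorphism of `PSL_n` -/
noncomputable def fieldPSL (σ : F ≃+* F) :
    MulAut (Matrix.ProjectiveSpecialLinearGroup (Fin n) F) :=
  liftCenter _ (fieldSL σ)

theorem fieldPSL_mk (σ : F ≃+* F) (s : Matrix.SpecialLinearGroup (Fin n) F) :
    fieldPSL σ (QuotientGroup.mk s) = QuotientGroup.mk (fieldSL σ s) := rfl

theorem fieldPSL_pr (σ : F ≃+* F) (s : Matrix.SpecialLinearGroup (Fin n) F) :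
    fieldPSL σ (pr s) = pr (fieldSL σ s) := rfl

theorem isStdFieldAutPSL_iff (σ : F ≃+* F)
    (β : MulAut (Matrix.ProjectiveSpecialLinearGroup (Fin n) F)) :
    Cfsg.IsStdFieldAutPSL σ β ↔ β = fieldPSL σ := by
  constructor
  · intro h
    ext x
    induction x using QuotientGroup.induction_on with
    | H s =>
      rw [fieldPSL_mk]
      exact h s (fieldSL σ s) (fieldSL_coe σ s)
  · rintro rfl s s' hs'
    rw [fieldPSL_mk]
    congr 1
    apply Subtype.ext
    rw [fieldSL_coe, hs']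

theorem fieldSL_xs (σ : F ≃+* F) (i j : Fin n) (hij : i ≠ j) (a : F) :
    fieldSL σ (xs i j hij a) = xs i j hij (σ a) := by
  apply Subtype.ext
  rw [fieldSL_coe, xs_coe, xs_coe]
  ext k l
  rw [Matrix.map_apply, Matrix.add_apply, Matrix.add_apply, map_add]
  congr 1
  · by_cases hkl : k = l
    · rw [hkl, Matrix.one_apply_eq, map_one]
    · rw [Matrix.one_apply_ne hkl, map_zero]
  · by_cases h : i = k ∧ j = l
    · obtain ⟨rfl, rfl⟩ := h
      rw [Matrix.single_apply_same, Matrix.single_apply_same]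
    · rw [Matrix.single_apply_of_ne _ _ _ _ _ h, Matrix.single_apply_of_ne _ _ _ _ _ h, map_zero]

theorem fieldPSL_xb (σ : F ≃+* F) (i j : Fin n) (hij : i ≠ j) (a : F) :
    fieldPSL σ (xb i j hij a) = xb i j hij (σ a) := by
  unfold xb
  rw [fieldPSL_pr, fieldSL_xs]

/-- diagonal elements of `GL_n` -/
def dgl (d : Fin n → Fˣ) : GL (Fin n) F :=
  ⟨Matrix.diagonal fun i => ((d i : Fˣ) : F), Matrix.diagonal fun i => (((d i)⁻¹ : Fˣ) : F),
    by rw [Matrix.diagonal_mul_diagonal]; simp,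
    by rw [Matrix.diagonal_mul_diagonal]; simp⟩

theorem dgl_coe (d : Fin n → Fˣ) :
    ((dgl d : GL (Fin n) F) : Matrix (Fin n) (Fin n) F)
      = Matrix.diagonal fun i => ((d i : Fˣ) : F) := rfl

theorem dgl_inv_coe (d : Fin n → Fˣ) :
    (((dgl d)⁻¹ : GL (Fin n) F) : Matrix (Fin n) (Fin n) F)
      = Matrix.diagonal fun i => (((d i)⁻¹ : Fˣ) : F) := rfl

theorem conjSL_dgl_xs (d : Fin n → Fˣ) (i j : Fin n) (hij : i ≠ j) (a : F) :
    conjSL (dgl d) (xs i j hij a) = xs i j hij ((d i : F) * a * ((d j)⁻¹ : Fˣ)) := by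
  apply Subtype.ext
  rw [conjSL_coe, xs_coe, xs_coe, dgl_coe, dgl_inv_coe]
  ext k l
  rw [Matrix.mul_diagonal, Matrix.diagonal_mul, Matrix.add_apply, Matrix.add_apply]
  by_cases hkl : k = l
  · subst hkl
    have h : ¬ (i = k ∧ j = k) := fun h => hij (h.1.trans h.2.symm)
    rw [Matrix.one_apply_eq, Matrix.single_apply_of_ne _ _ _ _ _ h,
      Matrix.single_apply_of_ne _ _ _ _ _ h, add_zero, mul_one, ← Units.val_mul,
      mul_inv_cancel, Units.val_one]
  · rw [Matrix.one_apply_ne hkl, zero_add, zero_add]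
    by_cases h : i = k ∧ j = l
    · obtain ⟨rfl, rfl⟩ := h
      rw [Matrix.single_apply_same, Matrix.single_apply_same]
    · rw [Matrix.single_apply_of_ne _ _ _ _ _ h, Matrix.single_apply_of_ne _ _ _ _ _ h, mul_zero,
        zero_mul]

theorem cGL_dgl_xb (d : Fin n → Fˣ) (i j : Fin n) (hij : i ≠ j) (a : F) :
    cGL (dgl d) (xb i j hij a) = xb i j hij ((d i : F) * a * ((d j)⁻¹ : Fˣ)) := by
  unfold xb
  show cGL (dgl d) (QuotientGroup.mk (xs i j hij a)) = _
  rw [cGL_mk, conjSL_dgl_xs]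
  rfl

theorem xs_eq_transvection (i j : Fin n) (hij : i ≠ j) (a : F) :
    xs i j hij a = Matrix.SpecialLinearGroup.transvection hij a := by
  apply Subtype.ext
  rw [xs_coe, Matrix.SpecialLinearGroup.transvection_coe]

/-- two automorphisms of `PSL_n` agreeing on the elementary root elements are equal -/
theorem aut_ext_xb (hn : 2 ≤ n) {α β : MulAut (Matrix.ProjectiveSpecialLinearGroup (Fin n) F)}
    (h : ∀ (i j : Fin n) (hij : i ≠ j) (a : F), α (xb i j hij a) = β (xb i j hij a)) : α = β := by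
  have : Nontrivial (Fin n) := Fin.nontrivial_iff_two_le.2 hn
  ext x
  obtain ⟨s, rfl⟩ := pr_surjective x
  refine Cfsg.Agent.Helper2.SL_transvection_induction (fun s => α (pr s) = β (pr s)) ?_ ?_ s
  · intro i j hij c
    rw [← xs_eq_transvection]
    exact h i j hij c
  · intro A B hA hB
    rw [map_mul, map_mul, map_mul, hA, hB]

theorem iotaT_fieldPSL (σ : F ≃+* F) :
    (iotaT : MulAut (Matrix.ProjectiveSpecialLinearGroup (Fin n) F)) * fieldPSL σ
      = fieldPSL σ * iotaT := by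
  ext x
  induction x using QuotientGroup.induction_on with
  | H s =>
    rw [MulAut.mul_apply, MulAut.mul_apply, fieldPSL_mk, iotaT_mk, iotaT_mk, fieldPSL_mk]
    congr 1
    apply Subtype.ext
    have e : (fieldSL σ s)⁻¹ = fieldSL σ s⁻¹ := (map_inv (fieldSL σ) s).symm
    rw [invT_coe, e, fieldSL_coe, fieldSL_coe, invT_coe, Matrix.transpose_map]

/-- **the automorphisms of `PSL_n(F)`, `n ≥ 3`** -/
theorem aut_decomp [Fintype F] (p : ℕ) [Fact p.Prime] [CharP F p] (hn : 3 ≤ n)
    (α : MulAut (Matrix.ProjectiveSpecialLinearGroup (Fin n) F)) :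
    ∃ (g : GL (Fin n) F) (σ : F ≃+* F),
      α = cGL g * fieldPSL σ ∨ α = cGL g * fieldPSL σ * iotaT := by
  have key : ∀ β : MulAut (Matrix.ProjectiveSpecialLinearGroup (Fin n) F), FixFrame β →
      ∃ (d : Fin n → Fˣ) (σ : F ≃+* F), β = cGL (dgl d) * fieldPSL σ := by
    intro β hβ
    obtain ⟨d, σ, h⟩ := exists_sigma hn hβ
    refine ⟨d, σ, aut_ext_xb (by omega) ?_⟩
    intro i j hij a
    rw [h, MulAut.mul_apply, fieldPSL_xb, cGL_dgl_xb]
  obtain ⟨g, hg | hg⟩ := exists_fixFrame p hn α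
  · obtain ⟨d, σ, h⟩ := key _ hg
    refine ⟨g * dgl d, σ, Or.inl ?_⟩
    rw [map_mul, mul_assoc, ← h, ← mul_assoc, mul_inv_cancel, one_mul]
  · obtain ⟨d, σ, h⟩ := key _ hg
    refine ⟨invTGL (g * dgl d), σ, Or.inr ?_⟩
    have h1 : iotaT * α = cGL (g * dgl d) * fieldPSL σ := by
      rw [map_mul, mul_assoc, ← h, ← mul_assoc, mul_inv_cancel, one_mul]
    have h2 : α = iotaT * (cGL (g * dgl d) * fieldPSL σ) := by
      rw [← h1, ← mul_assoc, iotaT_mul_self, one_mul]
    rw [h2, ← mul_assoc, iotaT_mul_cGL, mul_assoc, iotaT_fieldPSL, mul_assoc]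

end Cfsg.Agent.Helper7.AutPSL
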