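import Cfsg.Agent.Helper7.AutPSL13

/-!
# Automorphisms of `PSL_n(F)`, part 14 (helper7)

The field automorphisms as a homomorphism `(F ≃+* F) →* MulAut (PSL_n F)`, the homomorphism
`Multiplicative (ZMod 2) →* MulAut (PSL_n F)` onto `⟨iotaT⟩`, the commutation relation with
`cGL`, and normality of the inner-diagonal group.
-/

set_option autoImplicit false
set_option linter.unusedSectionVars false
set_option linter.unusedVariables false

namespace Cfsg.Agent.Helper7.AutPSL

open Matrix Cfsg.Agent.Helper2.RootSLn Cfsg.Agent.Helper7.GraphPSL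

variable {n : ℕ} {F : Type*} [Field F]

theorem fieldPSL_mul (σ τ : F ≃+* F) :
    (fieldPSL (σ * τ) : MulAut (Matrix.ProjectiveSpecialLinearGroup (Fin n) F))
      = fieldPSL σ * fieldPSL τ := by
  ext x
  induction x using QuotientGroup.induction_on with
  | H s =>
    rw [MulAut.mul_apply, fieldPSL_mk, fieldPSL_mk, fieldPSL_mk]
    congr 1

theorem fieldPSL_one :
    (fieldPSL (1 : F ≃+* F) : MulAut (Matrix.ProjectiveSpecialLinearGroup (Fin n) F)) = 1 := by
  ext x
  induction x using QuotientGroup.induction_on with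
  | H s =>
    rw [fieldPSL_mk]
    congr 1

/-- the field automorphisms of `PSL_n` as a homomorphism -/
noncomputable def fieldHom :
    (F ≃+* F) →* MulAut (Matrix.ProjectiveSpecialLinearGroup (Fin n) F) where
  toFun := fieldPSL
  map_one' := fieldPSL_one
  map_mul' := fieldPSL_mul

theorem fieldHom_apply (σ : F ≃+* F) :
    (fieldHom σ : MulAut (Matrix.ProjectiveSpecialLinearGroup (Fin n) F)) = fieldPSL σ := rfl

/-- the relation `φ_σ c_h = c_{σ(h)} φ_σ` -/
theorem fieldPSL_mul_cGL (σ : F ≃+* F) (h : GL (Fin n) F) :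
    (fieldPSL σ : MulAut (Matrix.ProjectiveSpecialLinearGroup (Fin n) F)) * cGL h
      = cGL (Matrix.GeneralLinearGroup.map σ.toRingHom h) * fieldPSL σ := by
  ext x
  induction x using QuotientGroup.induction_on with
  | H s =>
    rw [MulAut.mul_apply, MulAut.mul_apply, cGL_mk, fieldPSL_mk, fieldPSL_mk, cGL_mk]
    congr 1
    apply Subtype.ext
    rw [fieldSL_coe, conjSL_coe, conjSL_coe, fieldSL_coe, ← map_inv]
    ext i j
    simp only [Matrix.map_apply, Matrix.mul_apply, map_sum, map_mul]
    rfl

/-- the homomorphism `C₂ → Aut(PSL_n)` onto `⟨iotaT⟩` -/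
noncomputable def iotaHom :
    Multiplicative (ZMod 2) →* MulAut (Matrix.ProjectiveSpecialLinearGroup (Fin n) F) where
  toFun x := if Multiplicative.toAdd x = 0 then 1 else iotaT
  map_one' := by simp
  map_mul' x y := by
    have key : ∀ a b : ZMod 2,
        (if a + b = 0 then (1 : MulAut (Matrix.ProjectiveSpecialLinearGroup (Fin n) F)) else iotaT)
          = (if a = 0 then (1 : MulAut _) else iotaT) * (if b = 0 then (1 : MulAut _) else iotaT) := by
      intro a b
      fin_cases a <;> fin_cases b
      · show (if (0 : ZMod 2) + 0 = 0 then (1 : MulAut _) else iotaT)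
          = (if (0 : ZMod 2) = 0 then (1 : MulAut _) else iotaT)
            * (if (0 : ZMod 2) = 0 then (1 : MulAut _) else iotaT)
        rw [if_pos (by decide), if_pos (by decide), one_mul]
      · show (if (0 : ZMod 2) + 1 = 0 then (1 : MulAut _) else iotaT)
          = (if (0 : ZMod 2) = 0 then (1 : MulAut _) else iotaT)
            * (if (1 : ZMod 2) = 0 then (1 : MulAut _) else iotaT)
        rw [if_neg (by decide), if_pos (by decide), if_neg (by decide), one_mul]
      · show (if (1 : ZMod 2) + 0 = 0 then (1 : MulAut _) else iotaT)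
          = (if (1 : ZMod 2) = 0 then (1 : MulAut _) else iotaT)
            * (if (0 : ZMod 2) = 0 then (1 : MulAut _) else iotaT)
        rw [if_neg (by decide), if_neg (by decide), if_pos (by decide), mul_one]
      · show (if (1 : ZMod 2) + 1 = 0 then (1 : MulAut _) else iotaT)
          = (if (1 : ZMod 2) = 0 then (1 : MulAut _) else iotaT)
            * (if (1 : ZMod 2) = 0 then (1 : MulAut _) else iotaT)
        rw [if_pos (by decide), if_neg (by decide), iotaT_mul_self]
    exact key (Multiplicative.toAdd x) (Multiplicative.toAdd y)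

theorem iotaHom_one :
    (iotaHom (Multiplicative.ofAdd (1 : ZMod 2)) :
      MulAut (Matrix.ProjectiveSpecialLinearGroup (Fin n) F)) = iotaT := by
  show (if (1 : ZMod 2) = 0 then (1 : MulAut _) else iotaT) = iotaT
  rw [if_neg (by decide)]

theorem iotaHom_cases (x : Multiplicative (ZMod 2)) :
    (iotaHom x : MulAut (Matrix.ProjectiveSpecialLinearGroup (Fin n) F)) = 1 ∧ x = 1 ∨
      (iotaHom x : MulAut (Matrix.ProjectiveSpecialLinearGroup (Fin n) F)) = iotaT ∧
        x = Multiplicative.ofAdd (1 : ZMod 2) := by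
  have key : ∀ a : ZMod 2,
      (iotaHom (Multiplicative.ofAdd a) : MulAut (Matrix.ProjectiveSpecialLinearGroup (Fin n) F)) = 1
          ∧ Multiplicative.ofAdd a = 1 ∨
        (iotaHom (Multiplicative.ofAdd a) : MulAut (Matrix.ProjectiveSpecialLinearGroup (Fin n) F))
          = iotaT ∧ Multiplicative.ofAdd a = Multiplicative.ofAdd (1 : ZMod 2) := by
    intro a
    fin_cases a
    · left
      exact ⟨map_one _, rfl⟩
    · right
      exact ⟨iotaHom_one, rfl⟩
  exact key (Multiplicative.toAdd x)

theorem commute_fieldHom_iotaHom (σ : F ≃+* F) (x : Multiplicative (ZMod 2)) :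
    Commute (fieldHom σ : MulAut (Matrix.ProjectiveSpecialLinearGroup (Fin n) F)) (iotaHom x) := by
  rcases iotaHom_cases (n := n) (F := F) x with ⟨h, -⟩ | ⟨h, -⟩
  · rw [h]
    exact Commute.one_right _
  · rw [h, fieldHom_apply]
    exact (iotaT_fieldPSL σ).symm

/-- the inner-diagonal group is normal in the automorphism group -/
theorem normal_range_cGL [Fintype F] {p f : ℕ} [Fact p.Prime] (hF : Fintype.card F = p ^ f)
    (hf : 1 ≤ f) (hn : 2 ≤ n) (hs : n = 2 → 4 ≤ Fintype.card F) :
    ((cGL : GL (Fin n) F →* MulAut (Matrix.ProjectiveSpecialLinearGroup (Fin n) F)).range).Normal := by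
  constructor
  rintro _ ⟨h, rfl⟩ α
  have key : ∀ (g : GL (Fin n) F) (σ : F ≃+* F) (k : GL (Fin n) F),
      (cGL g * fieldPSL σ) * cGL k * (cGL g * fieldPSL σ)⁻¹
        ∈ (cGL : GL (Fin n) F →* MulAut (Matrix.ProjectiveSpecialLinearGroup (Fin n) F)).range := by
    intro g σ k
    refine ⟨g * Matrix.GeneralLinearGroup.map σ.toRingHom k * g⁻¹, ?_⟩
    have e : fieldPSL σ * cGL k * (fieldPSL σ)⁻¹
        = (cGL (Matrix.GeneralLinearGroup.map σ.toRingHom k) :
            MulAut (Matrix.ProjectiveSpecialLinearGroup (Fin n) F)) := by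
      rw [fieldPSL_mul_cGL, mul_inv_cancel_right]
    rw [map_mul, map_mul, map_inv, ← e]
    group
  obtain ⟨g, σ, hα | ⟨-, hα⟩⟩ := aut_decomp_all hF hf hn hs α
  · rw [hα]
    exact key g σ h
  · rw [hα]
    have e : cGL g * fieldPSL σ * iotaT * cGL h * (cGL g * fieldPSL σ * iotaT)⁻¹
        = (cGL g * fieldPSL σ) * cGL (invTGL h) * (cGL g * fieldPSL σ)⁻¹ := by
      rw [← iotaT_cGL_iotaT, _root_.mul_inv_rev, iotaT_inv]
      group
    rw [e]
    exact key g σ (invTGL h)

end Cfsg.Agent.Helper7.AutPSL
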