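import Cfsg.Agent.Helper7.AutPSL14

/-!
# Automorphisms of `PSL_n(F)`, part 15 (helper7)

Field automorphisms preserve types; uniqueness of the decomposition
`cGL g * fieldPSL σ * iotaHom ε` modulo the inner-diagonal group (`n ≥ 3`).
-/

set_option autoImplicit false
set_option linter.unusedSectionVars false
set_option linter.unusedVariables false

namespace Cfsg.Agent.Helper7.AutPSL

open Matrix Cfsg.Agent.Helper2.RootSLn Cfsg.Agent.Helper7.GraphPSL

variable {n : ℕ} {F : Type*} [Field F]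

theorem map_tm (σ : F ≃+* F) (v ψ : Fin n → F) (c : F) :
    (tm v ψ c).map σ = tm (fun i => σ (v i)) (fun i => σ (ψ i)) (σ c) := by
  ext i j
  rw [Matrix.map_apply, tm, tm, Matrix.add_apply, Matrix.add_apply, Matrix.smul_apply,
    Matrix.smul_apply, vecMulVec_apply, vecMulVec_apply, map_add, smul_eq_mul, smul_eq_mul,
    map_mul, map_mul]
  congr 1
  by_cases hij : i = j
  · rw [hij, Matrix.one_apply_eq, map_one]
  · rw [Matrix.one_apply_ne hij, map_zero]

theorem map_dot (σ : F ≃+* F) (ψ v : Fin n → F) :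
    (fun i => σ (ψ i)) ⬝ᵥ (fun i => σ (v i)) = σ (ψ ⬝ᵥ v) := by
  unfold dotProduct
  rw [map_sum]
  simp only [map_mul]

theorem map_fieldSL_TP (σ : F ≃+* F) (v : Fin n → F) :
    (TP v).map (fieldSL σ).toMonoidHom = TP (fun i => σ (v i)) := by
  have key : ∀ (σ : F ≃+* F) (v : Fin n → F),
      (TP v).map (fieldSL σ).toMonoidHom ≤ TP (fun i => σ (v i)) := by
    intro σ v
    rintro _ ⟨s, ⟨ψ, hψ, hs⟩, rfl⟩
    refine ⟨fun i => σ (ψ i), by rw [map_dot, hψ, map_zero], ?_⟩
    show ((fieldSL σ s : Matrix.SpecialLinearGroup (Fin n) F) : Matrix (Fin n) (Fin n) F) = _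
    rw [fieldSL_coe, hs, map_tm, map_one]
  apply le_antisymm (key σ v)
  intro s hs
  have h1 := key σ.symm _ (Subgroup.mem_map_of_mem _ hs)
  simp only [RingEquiv.symm_apply_apply] at h1
  refine ⟨_, h1, ?_⟩
  apply Subtype.ext
  ext i j
  show σ (σ.symm ((s : Matrix (Fin n) (Fin n) F) i j)) = _
  rw [RingEquiv.apply_symm_apply]

theorem map_fieldSL_TH (σ : F ≃+* F) (φ : Fin n → F) :
    (TH φ).map (fieldSL σ).toMonoidHom = TH (fun i => σ (φ i)) := by
  have key : ∀ (σ : F ≃+* F) (φ : Fin n → F),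
      (TH φ).map (fieldSL σ).toMonoidHom ≤ TH (fun i => σ (φ i)) := by
    intro σ φ
    rintro _ ⟨s, ⟨w, hw, hs⟩, rfl⟩
    refine ⟨fun i => σ (w i), by rw [map_dot, hw, map_zero], ?_⟩
    show ((fieldSL σ s : Matrix.SpecialLinearGroup (Fin n) F) : Matrix (Fin n) (Fin n) F) = _
    rw [fieldSL_coe, hs, map_tm, map_one]
  apply le_antisymm (key σ φ)
  intro s hs
  have h1 := key σ.symm _ (Subgroup.mem_map_of_mem _ hs)
  simp only [RingEquiv.symm_apply_apply] at h1
  refine ⟨_, h1, ?_⟩
  apply Subtype.ext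
  ext i j
  show σ (σ.symm ((s : Matrix (Fin n) (Fin n) F) i j)) = _
  rw [RingEquiv.apply_symm_apply]

theorem fieldPSL_comp_pr (σ : F ≃+* F) :
    (fieldPSL σ : MulAut (Matrix.ProjectiveSpecialLinearGroup (Fin n) F)).toMonoidHom.comp pr
      = (pr : Matrix.SpecialLinearGroup (Fin n) F →* _).comp (fieldSL σ).toMonoidHom := rfl

theorem sigma_ne_zero (σ : F ≃+* F) {v : Fin n → F} (hv : v ≠ 0) : (fun i => σ (v i)) ≠ 0 := by
  intro h
  apply hv
  ext i
  have := congrFun h i
  simp only [Pi.zero_apply] at this ⊢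
  exact (map_eq_zero_iff σ σ.injective).1 this

theorem typ_fieldPSL (σ : F ≃+* F) (t : Bool) :
    Typ (fieldPSL σ : MulAut (Matrix.ProjectiveSpecialLinearGroup (Fin n) F)) t t := by
  intro v hv
  refine ⟨fun i => σ (v i), sigma_ne_zero σ hv, ?_⟩
  cases t
  · rw [TT_false, TT_false]
    unfold THb
    rw [Subgroup.map_map, fieldPSL_comp_pr, ← Subgroup.map_map, map_fieldSL_TH]
  · rw [TT_true, TT_true]
    unfold TPb
    rw [Subgroup.map_map, fieldPSL_comp_pr, ← Subgroup.map_map, map_fieldSL_TP]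

/-- an inner-diagonal automorphism which is a field automorphism is trivial -/
theorem sigma_eq_one_of_eq_cGL (hn : 3 ≤ n) {σ : F ≃+* F} {g : GL (Fin n) F}
    (h : (fieldPSL σ : MulAut (Matrix.ProjectiveSpecialLinearGroup (Fin n) F)) = cGL g) :
    σ = 1 := by
  -- `g` fixes every point of the frame
  have h1 : ∀ i : Fin n, ∃ a : F, a ≠ 0 ∧
      (g : Matrix (Fin n) (Fin n) F) *ᵥ (Pi.single i 1) = a • (Pi.single i 1 : Fin n → F) := by
    intro i
    have e1 : (TPb (Pi.single i 1 : Fin n → F)).map (fieldPSL σ).toMonoidHom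
        = TPb (Pi.single i 1) := by
      unfold TPb
      rw [Subgroup.map_map, fieldPSL_comp_pr, ← Subgroup.map_map, map_fieldSL_TP]
      congr 2
      ext k
      by_cases hk : k = i
      · rw [hk, Pi.single_eq_same, map_one]
      · rw [Pi.single_eq_of_ne hk, map_zero]
    rw [h, map_cGL_TPb] at e1
    have := TT_le (t := true) (t' := true) hn (GL_mulVec_ne_zero g (single_ne_zero i))
      (single_ne_zero i) e1.le
    exact this.2
  choose a ha hga using h1
  have h2 : ∀ (i j : Fin n) (hij : i ≠ j) (x : F),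
      σ x = a i * x * (a j)⁻¹ := by
    intro i j hij x
    have e1 : cGL g (xb i j hij x) = xb i j hij (σ x) := by rw [← h, fieldPSL_xb]
    -- compute `cGL g (xb i j x)` using the eigenvector property
    have e2 : cGL g (xb i j hij x) = pr (conjSL g (xs i j hij x)) := rfl
    rw [e2] at e1
    have e3 : (conjSL g (xs i j hij x) : Matrix.SpecialLinearGroup (Fin n) F)
        = xs i j hij (σ x) :=
      pr_inj_of_isTm hn ⟨(g : Matrix (Fin n) (Fin n) F) *ᵥ (Pi.single i 1),
        (Pi.single j 1 : Fin n → F) ᵥ* ((g⁻¹ : GL (Fin n) F) : Matrix (Fin n) (Fin n) F), x, by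
          rw [GL_dot]; exact single_dot_single_of_ne hij, by
        rw [conjSL_coe]
        unfold xs
        rw [coe_ts, conj_tm_GL]⟩ (isTm_xs i j hij _) e1
    have e4 := congrArg (fun s : Matrix.SpecialLinearGroup (Fin n) F =>
      (s : Matrix (Fin n) (Fin n) F) *ᵥ ((g : Matrix (Fin n) (Fin n) F) *ᵥ (Pi.single j 1))) e3
    beta_reduce at e4
    rw [conjSL_coe, Matrix.mulVec_mulVec, Matrix.mul_assoc, ← Units.val_mul, inv_mul_cancel,
      Units.val_one, Matrix.mul_one, ← Matrix.mulVec_mulVec] at e4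
    unfold xs at e4
    rw [coe_ts, coe_ts, tm_mulVec, tm_mulVec, single_dot_single, if_pos rfl, mul_one,
      Matrix.mulVec_add, Matrix.mulVec_smul, hga j, hga i, dotProduct_smul, single_dot_single,
      if_pos rfl, smul_eq_mul, mul_one] at e4
    have e5 := congrFun e4 i
    simp only [Pi.add_apply, Pi.smul_apply, Pi.single_eq_same, Pi.single_eq_of_ne hij, smul_eq_mul,
      mul_one, mul_zero, zero_add] at e5
    have haj : a j ≠ 0 := ha j
    field_simp
    linear_combination -e5
  -- three indices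
  obtain ⟨i, j, hij⟩ : ∃ i j : Fin n, i ≠ j := ⟨⟨0, by omega⟩, ⟨1, by omega⟩, by
    intro h
    have := congrArg Fin.val h
    simp at this⟩
  have h3 := h2 i j hij 1
  rw [map_one, mul_one] at h3
  ext x
  rw [h2 i j hij x, RingAut.one_apply]
  have haj : a j ≠ 0 := ha j
  have h4 : a i = a j := by
    field_simp at h3
    exact h3.symm
  rw [h4]
  field_simp

end Cfsg.Agent.Helper7.AutPSL
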