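import Cfsg.Agent.Helper7.AutPSL16

/-!
# Automorphisms of `PSL_n(F)`, part 17 (helper7)

The structure of `Out(PSL_n(F))`, `n ≥ 3`.
-/

set_option autoImplicit false
set_option linter.unusedSectionVars false
set_option linter.unusedVariables false

namespace Cfsg.Agent.Helper7.AutPSL

open Matrix Cfsg.Agent.Helper2.RootSLn Cfsg.Agent.Helper7.GraphPSL

variable {n : ℕ} {F : Type*} [Field F]

theorem scalarGL_det (c : Fˣ) :
    ((scalarGL c : GL (Fin n) F) : Matrix (Fin n) (Fin n) F).det = (c : F) ^ n := by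
  rw [scalarGL_coe, Matrix.det_smul, Matrix.det_one, mul_one, Fintype.card_fin]

/-- `cGL g` is inner iff `det g` is an `n`-th power -/
theorem cGL_mem_inn_iff (g : GL (Fin n) F) :
    cGL g ∈ Cfsg.Inn (Matrix.ProjectiveSpecialLinearGroup (Fin n) F)
      ↔ ∃ c : Fˣ, Matrix.GeneralLinearGroup.det g = c ^ n := by
  rw [Cfsg.Agent.Helper7.GraphSplit.inn_eq_map]
  constructor
  · rintro ⟨s, hs, hsg⟩
    rw [SetLike.mem_coe, MonoidHom.mem_ker] at hs
    obtain ⟨c, hc⟩ := (cGL_eq_iff_smul s g).1 hsg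
    refine ⟨c, ?_⟩
    apply Units.ext
    have h1 : ((Matrix.GeneralLinearGroup.det s : Fˣ) : F) = 1 := by rw [hs]; rfl
    have h2 : ((Matrix.GeneralLinearGroup.det s : Fˣ) : F)
        = (s : Matrix (Fin n) (Fin n) F).det := rfl
    show (g : Matrix (Fin n) (Fin n) F).det = ((c ^ n : Fˣ) : F)
    rw [hc, Matrix.det_smul, ← h2, h1, mul_one, Fintype.card_fin, Units.val_pow_eq_pow_val]
  · rintro ⟨c, hc⟩
    refine ⟨(scalarGL c)⁻¹ * g, ?_, ?_⟩
    · rw [SetLike.mem_coe, MonoidHom.mem_ker, map_mul, map_inv, hc]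
      have : Matrix.GeneralLinearGroup.det (scalarGL c : GL (Fin n) F) = c ^ n := by
        apply Units.ext
        show ((scalarGL c : GL (Fin n) F) : Matrix (Fin n) (Fin n) F).det = ((c ^ n : Fˣ) : F)
        rw [scalarGL_det, Units.val_pow_eq_pow_val]
      rw [this, inv_mul_cancel]
    · rw [map_mul, map_inv, cGL_of_mem_scalars _ (scalarGL_mem c), inv_one, one_mul]

/-- **the structure of `Out(PSL_n(F))`, `n ≥ 3`** -/
theorem out_psl [Fintype F] {p f : ℕ} [Fact p.Prime] (hf : 1 ≤ f) (hF : Fintype.card F = p ^ f)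
    (hn : 3 ≤ n) :
    ∃ φ : Cfsg.Out (Matrix.ProjectiveSpecialLinearGroup (Fin n) F) →*
        Multiplicative (ZMod f × ZMod 2),
      Function.Surjective φ ∧ IsCyclic φ.ker ∧ Nat.card φ.ker = Nat.gcd n (p ^ f - 1) := by
  classical
  have hchar : CharP F p := charP_of_card_eq_prime_pow hF
  have : NeZero n := ⟨by omega⟩
  set N : Subgroup (MulAut (Matrix.ProjectiveSpecialLinearGroup (Fin n) F)) :=
    (cGL : GL (Fin n) F →* _).range with hN
  have hNn : N.Normal := normal_range_cGL hF hf (by omega) (by omega)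
  -- the isomorphism `Gal × C₂ ≃ Aut / N`
  set Θ : (F ≃+* F) × Multiplicative (ZMod 2) →*
      MulAut (Matrix.ProjectiveSpecialLinearGroup (Fin n) F) ⧸ N :=
    (QuotientGroup.mk' N).comp thetaHom with hΘ
  have hΘinj : Function.Injective Θ := by
    rw [injective_iff_map_eq_one]
    intro x hx
    have h1 : thetaHom x ∈ N := (QuotientGroup.eq_one_iff _).1 hx
    exact thetaHom_mem_range_cGL p hn x h1
  have hmkN : ∀ g : GL (Fin n) F, (QuotientGroup.mk' N) (cGL g) = 1 := fun g =>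
    (QuotientGroup.eq_one_iff _).2 ⟨g, rfl⟩
  have hΘsurj : Function.Surjective Θ := by
    intro y
    obtain ⟨α, rfl⟩ := QuotientGroup.mk_surjective y
    obtain ⟨g, σ, hα | hα⟩ := aut_decomp p hn α
    · refine ⟨(σ, 1), ?_⟩
      show (QuotientGroup.mk' N) (thetaHom (σ, 1)) = (QuotientGroup.mk' N) α
      rw [thetaHom_apply, hα, map_mul, map_mul, hmkN, one_mul, map_one, map_one, mul_one]
    · refine ⟨(σ, Multiplicative.ofAdd (1 : ZMod 2)), ?_⟩
      show (QuotientGroup.mk' N) (thetaHom (σ, Multiplicative.ofAdd (1 : ZMod 2)))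
        = (QuotientGroup.mk' N) α
      rw [thetaHom_apply, hα, map_mul, map_mul, map_mul, hmkN, one_mul, iotaHom_one]
  let E : (MulAut (Matrix.ProjectiveSpecialLinearGroup (Fin n) F) ⧸ N) ≃*
      (F ≃+* F) × Multiplicative (ZMod 2) := (MulEquiv.ofBijective Θ ⟨hΘinj, hΘsurj⟩).symm
  obtain ⟨e₃⟩ := exists_ringAut_equiv (F := F) hF
  let E' : (F ≃+* F) × Multiplicative (ZMod 2) ≃* Multiplicative (ZMod f × ZMod 2) :=
    (MulEquiv.prodCongr e₃ (MulEquiv.refl _)).trans (MulEquiv.prodMultiplicative (ZMod f) (ZMod 2)).symm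
  -- the map `Out → Aut / N`
  have hle : Cfsg.Inn (Matrix.ProjectiveSpecialLinearGroup (Fin n) F)
      ≤ N.comap (MonoidHom.id _) := by
    rintro _ ⟨x, rfl⟩
    obtain ⟨s, rfl⟩ := pr_surjective x
    exact ⟨Matrix.SpecialLinearGroup.toGL s, (conj_eq_cGL s).symm⟩
  let φ₀ : Cfsg.Out (Matrix.ProjectiveSpecialLinearGroup (Fin n) F) →*
      MulAut (Matrix.ProjectiveSpecialLinearGroup (Fin n) F) ⧸ N :=
    QuotientGroup.map _ N (MonoidHom.id _) hle
  have hφ₀ : ∀ α, φ₀ (QuotientGroup.mk α) = QuotientGroup.mk α := fun α => rfl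
  have hφ₀surj : Function.Surjective φ₀ := by
    intro y
    obtain ⟨α, rfl⟩ := QuotientGroup.mk_surjective y
    exact ⟨QuotientGroup.mk α, rfl⟩
  -- the diagonal part
  let δ : GL (Fin n) F →* Cfsg.Out (Matrix.ProjectiveSpecialLinearGroup (Fin n) F) :=
    (QuotientGroup.mk' _).comp cGL
  have hδ : ∀ g, δ g = QuotientGroup.mk (cGL g) := fun g => rfl
  have hkerφ₀ : φ₀.ker = δ.range := by
    ext x
    obtain ⟨α, rfl⟩ := QuotientGroup.mk_surjective x
    rw [MonoidHom.mem_ker, hφ₀, QuotientGroup.eq_one_iff, MonoidHom.mem_range]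
    constructor
    · rintro ⟨g, rfl⟩
      exact ⟨g, rfl⟩
    · rintro ⟨g, hg⟩
      rw [hδ, QuotientGroup.eq] at hg
      obtain ⟨x, hx⟩ := hg
      obtain ⟨s, rfl⟩ := pr_surjective x
      rw [conj_eq_cGL] at hx
      refine ⟨g * Matrix.SpecialLinearGroup.toGL s, ?_⟩
      rw [map_mul, hx, mul_inv_cancel_left]
  set i0 : Fin n := ⟨0, by omega⟩ with hi0
  have hright : Function.RightInverse (diagRep i0)
      (Matrix.GeneralLinearGroup.det : GL (Fin n) F →* Fˣ) := by
    intro x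
    apply Units.ext
    exact diagRep_det i0 x
  have hdetker : (Matrix.GeneralLinearGroup.det : GL (Fin n) F →* Fˣ).ker ≤ δ.ker := by
    intro g hg
    rw [MonoidHom.mem_ker] at hg ⊢
    rw [hδ, QuotientGroup.eq_one_iff, cGL_mem_inn_iff]
    exact ⟨1, by rw [hg, one_pow]⟩
  let d' : Fˣ →* Cfsg.Out (Matrix.ProjectiveSpecialLinearGroup (Fin n) F) :=
    (Matrix.GeneralLinearGroup.det : GL (Fin n) F →* Fˣ).liftOfRightInverse (diagRep i0) hright
      ⟨δ, hdetker⟩
  have hd' : ∀ g, d' (Matrix.GeneralLinearGroup.det g) = δ g := fun g =>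
    MonoidHom.liftOfRightInverse_comp_apply _ _ hright ⟨δ, hdetker⟩ g
  have hrange : δ.range = d'.range := by
    ext x
    constructor
    · rintro ⟨g, rfl⟩
      exact ⟨_, hd' g⟩
    · rintro ⟨c, rfl⟩
      exact ⟨diagRep i0 c, by rw [← hd', hright c]⟩
  have hd'ker : d'.ker = (powMonoidHom n : Fˣ →* Fˣ).range := by
    ext c
    rw [MonoidHom.mem_ker, ← hright c, hd', hδ, QuotientGroup.eq_one_iff, cGL_mem_inn_iff, hright c,
      MonoidHom.mem_range]
    constructor
    · rintro ⟨e, he⟩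
      exact ⟨e, by rw [powMonoidHom_apply, he]⟩
    · rintro ⟨e, he⟩
      exact ⟨e, by rw [← he, powMonoidHom_apply]⟩
  have hcardU : Nat.card Fˣ = p ^ f - 1 := by
    rw [Nat.card_units, Nat.card_eq_fintype_card, hF]
  refine ⟨((E.trans E' : _ ≃* _) : _ →* _).comp φ₀, ?_, ?_, ?_⟩
  · exact (E.trans E').surjective.comp hφ₀surj
  · rw [MonoidHom.ker_mulEquiv_comp, hkerφ₀, hrange]
    exact isCyclic_of_surjective d'.rangeRestrict d'.rangeRestrict_surjective
  · rw [MonoidHom.ker_mulEquiv_comp, hkerφ₀, hrange, ← Subgroup.index_ker, hd'ker,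
      IsCyclic.index_powMonoidHom_range, hcardU, Nat.gcd_comm]

end Cfsg.Agent.Helper7.AutPSL
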