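import Cfsg.Agent.Helper7.AutPSL1

/-!
# Automorphisms of `PSL_n(F)`, part 2 (helper7)

Action of `GL_n`-conjugation and of inverse-transpose on the groups `TP v`, `TH φ`; the images
`TPb v`, `THb φ`, `Xb v φ` in `PSL_n` and their intersections.
-/

set_option autoImplicit false
set_option linter.unusedSectionVars false
set_option linter.unusedVariables false

namespace Cfsg.Agent.Helper7.AutPSL

open Matrix Cfsg.Agent.Helper2.RootSLn Cfsg.Agent.Helper7.GraphPSL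

variable {n : ℕ} {F : Type*} [Field F]

theorem conj_tm_GL (g : GL (Fin n) F) (v φ : Fin n → F) (c : F) :
    (g : Matrix (Fin n) (Fin n) F) * tm v φ c * ((g⁻¹ : GL (Fin n) F) : Matrix (Fin n) (Fin n) F)
      = tm ((g : Matrix (Fin n) (Fin n) F) *ᵥ v)
          (φ ᵥ* ((g⁻¹ : GL (Fin n) F) : Matrix (Fin n) (Fin n) F)) c := by
  have hg : (g : Matrix (Fin n) (Fin n) F) * ((g⁻¹ : GL (Fin n) F) : Matrix (Fin n) (Fin n) F) = 1 := by
    rw [← Units.val_mul, mul_inv_cancel, Units.val_one]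
  simp only [tm, Matrix.mul_add, Matrix.add_mul, Matrix.mul_one, hg, Matrix.mul_smul,
    Matrix.smul_mul, mul_vecMulVec, vecMulVec_mul]

theorem GL_inv_mulVec (g : GL (Fin n) F) (v : Fin n → F) :
    ((g⁻¹ : GL (Fin n) F) : Matrix (Fin n) (Fin n) F) *ᵥ ((g : Matrix (Fin n) (Fin n) F) *ᵥ v) = v := by
  rw [Matrix.mulVec_mulVec, ← Units.val_mul, inv_mul_cancel, Units.val_one, Matrix.one_mulVec]

theorem GL_mulVec_inv (g : GL (Fin n) F) (v : Fin n → F) :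
    (g : Matrix (Fin n) (Fin n) F) *ᵥ (((g⁻¹ : GL (Fin n) F) : Matrix (Fin n) (Fin n) F) *ᵥ v) = v := by
  rw [Matrix.mulVec_mulVec, ← Units.val_mul, mul_inv_cancel, Units.val_one, Matrix.one_mulVec]

theorem GL_vecMul_inv (g : GL (Fin n) F) (φ : Fin n → F) :
    (φ ᵥ* ((g⁻¹ : GL (Fin n) F) : Matrix (Fin n) (Fin n) F)) ᵥ* (g : Matrix (Fin n) (Fin n) F) = φ := by
  rw [Matrix.vecMul_vecMul, ← Units.val_mul, inv_mul_cancel, Units.val_one, Matrix.vecMul_one]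

theorem GL_inv_vecMul (g : GL (Fin n) F) (φ : Fin n → F) :
    (φ ᵥ* (g : Matrix (Fin n) (Fin n) F)) ᵥ* ((g⁻¹ : GL (Fin n) F) : Matrix (Fin n) (Fin n) F) = φ := by
  rw [Matrix.vecMul_vecMul, ← Units.val_mul, mul_inv_cancel, Units.val_one, Matrix.vecMul_one]

theorem GL_dot (g : GL (Fin n) F) (φ v : Fin n → F) :
    (φ ᵥ* ((g⁻¹ : GL (Fin n) F) : Matrix (Fin n) (Fin n) F)) ⬝ᵥ ((g : Matrix (Fin n) (Fin n) F) *ᵥ v)
      = φ ⬝ᵥ v := by
  rw [← Matrix.dotProduct_mulVec, GL_inv_mulVec]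

theorem GL_mulVec_ne_zero (g : GL (Fin n) F) {v : Fin n → F} (hv : v ≠ 0) :
    (g : Matrix (Fin n) (Fin n) F) *ᵥ v ≠ 0 := by
  intro h
  apply hv
  rw [← GL_inv_mulVec g v, h, Matrix.mulVec_zero]

theorem GL_vecMul_ne_zero (g : GL (Fin n) F) {φ : Fin n → F} (hφ : φ ≠ 0) :
    φ ᵥ* (g : Matrix (Fin n) (Fin n) F) ≠ 0 := by
  intro h
  apply hφ
  rw [← GL_inv_vecMul g φ, h, Matrix.zero_vecMul]

/-- conjugation by `g ∈ GL_n` maps `TP v` onto `TP (g v)` -/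
theorem map_conjSL_TP (g : GL (Fin n) F) (v : Fin n → F) :
    (TP v).map (conjSL g).toMonoidHom = TP ((g : Matrix (Fin n) (Fin n) F) *ᵥ v) := by
  have key : ∀ (g : GL (Fin n) F) (v : Fin n → F),
      (TP v).map (conjSL g).toMonoidHom ≤ TP ((g : Matrix (Fin n) (Fin n) F) *ᵥ v) := by
    intro g v
    rintro _ ⟨s, ⟨ψ, hψ, hs⟩, rfl⟩
    refine ⟨ψ ᵥ* ((g⁻¹ : GL (Fin n) F) : Matrix (Fin n) (Fin n) F), ?_, ?_⟩
    · rw [GL_dot, hψ]
    · show ((conjSL g s : Matrix.SpecialLinearGroup (Fin n) F) : Matrix (Fin n) (Fin n) F) = _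
      rw [conjSL_coe, hs, conj_tm_GL]
  apply le_antisymm (key g v)
  intro s hs
  have h1 := key g⁻¹ _ (Subgroup.mem_map_of_mem _ hs)
  rw [GL_inv_mulVec] at h1
  refine ⟨_, h1, ?_⟩
  show conjSL g (conjSL g⁻¹ s) = s
  rw [← MulAut.mul_apply, ← map_mul, mul_inv_cancel, map_one, MulAut.one_apply]

/-- conjugation by `g ∈ GL_n` maps `TH φ` onto `TH (φ g⁻¹)` -/
theorem map_conjSL_TH (g : GL (Fin n) F) (φ : Fin n → F) :
    (TH φ).map (conjSL g).toMonoidHom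
      = TH (φ ᵥ* ((g⁻¹ : GL (Fin n) F) : Matrix (Fin n) (Fin n) F)) := by
  have key : ∀ (g : GL (Fin n) F) (φ : Fin n → F),
      (TH φ).map (conjSL g).toMonoidHom
        ≤ TH (φ ᵥ* ((g⁻¹ : GL (Fin n) F) : Matrix (Fin n) (Fin n) F)) := by
    intro g φ
    rintro _ ⟨s, ⟨w, hw, hs⟩, rfl⟩
    refine ⟨(g : Matrix (Fin n) (Fin n) F) *ᵥ w, ?_, ?_⟩
    · rw [GL_dot, hw]
    · show ((conjSL g s : Matrix.SpecialLinearGroup (Fin n) F) : Matrix (Fin n) (Fin n) F) = _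
      rw [conjSL_coe, hs, conj_tm_GL]
  apply le_antisymm (key g φ)
  intro s hs
  have h1 := key g⁻¹ _ (Subgroup.mem_map_of_mem _ hs)
  rw [inv_inv, GL_vecMul_inv] at h1
  refine ⟨_, h1, ?_⟩
  show conjSL g (conjSL g⁻¹ s) = s
  rw [← MulAut.mul_apply, ← map_mul, mul_inv_cancel, map_one, MulAut.one_apply]

theorem invT_tm {v ψ : Fin n → F} (h : ψ ⬝ᵥ v = 0) :
    ((invT (ts v ψ h 1) : Matrix.SpecialLinearGroup (Fin n) F) : Matrix (Fin n) (Fin n) F)
      = tm (-ψ) v 1 := by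
  rw [invT_coe, ts_inv, coe_ts, tm, tm, Matrix.transpose_add, Matrix.transpose_one,
    Matrix.transpose_smul, Matrix.transpose_vecMulVec, Matrix.neg_vecMulVec, neg_smul, one_smul,
    one_smul]

/-- inverse-transpose maps `TP v` onto `TH v` -/
theorem map_invT_TP (v : Fin n → F) : (TP v).map (invT).toMonoidHom = TH v := by
  apply le_antisymm
  · rintro _ ⟨s, ⟨ψ, hψ, hs⟩, rfl⟩
    have h1 : s = ts v ψ hψ 1 := Subtype.ext hs
    refine ⟨-ψ, by rw [dotProduct_neg, dotProduct_comm, hψ, neg_zero], ?_⟩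
    show ((invT s : Matrix.SpecialLinearGroup (Fin n) F) : Matrix (Fin n) (Fin n) F) = _
    rw [h1, invT_tm]
  · rintro s ⟨w, hw, hs⟩
    have hw' : (-w) ⬝ᵥ v = 0 := by rw [neg_dotProduct, dotProduct_comm, hw, neg_zero]
    refine ⟨ts v (-w) hw' 1, ⟨-w, hw', rfl⟩, ?_⟩
    apply Subtype.ext
    show ((invT (ts v (-w) hw' 1) : Matrix.SpecialLinearGroup (Fin n) F) : Matrix (Fin n) (Fin n) F) = _
    rw [invT_tm, neg_neg, hs]

/-- inverse-transpose maps `TH φ` onto `TP φ` -/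
theorem map_invT_TH (φ : Fin n → F) : (TH φ).map (invT).toMonoidHom = TP φ := by
  rw [← map_invT_TP φ, Subgroup.map_map]
  have : (invT : MulAut (Matrix.SpecialLinearGroup (Fin n) F)).toMonoidHom.comp invT.toMonoidHom
      = MonoidHom.id _ := by
    ext s : 1
    exact invT_invT s
  rw [this, Subgroup.map_id]

/-! ### The images in `PSL_n` -/

/-- image of `TP v` in `PSL_n` -/
noncomputable def TPb (v : Fin n → F) : Subgroup (Matrix.ProjectiveSpecialLinearGroup (Fin n) F) :=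
  (TP v).map pr

/-- image of `TH φ` in `PSL_n` -/
noncomputable def THb (φ : Fin n → F) : Subgroup (Matrix.ProjectiveSpecialLinearGroup (Fin n) F) :=
  (TH φ).map pr

/-- image of the root group `X v φ` in `PSL_n` -/
noncomputable def Xb (v φ : Fin n → F) : Subgroup (Matrix.ProjectiveSpecialLinearGroup (Fin n) F) :=
  (X v φ).map pr

theorem cGL_comp_pr (g : GL (Fin n) F) :
    (cGL g).toMonoidHom.comp pr = (pr : Matrix.SpecialLinearGroup (Fin n) F →* _).comp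
      (conjSL g).toMonoidHom := rfl

theorem iotaT_comp_pr :
    (iotaT : MulAut (Matrix.ProjectiveSpecialLinearGroup (Fin n) F)).toMonoidHom.comp pr
      = (pr : Matrix.SpecialLinearGroup (Fin n) F →* _).comp invT.toMonoidHom := rfl

theorem map_cGL_TPb (g : GL (Fin n) F) (v : Fin n → F) :
    (TPb v).map (cGL g).toMonoidHom = TPb ((g : Matrix (Fin n) (Fin n) F) *ᵥ v) := by
  unfold TPb
  rw [Subgroup.map_map, cGL_comp_pr, ← Subgroup.map_map, map_conjSL_TP]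

theorem map_cGL_THb (g : GL (Fin n) F) (φ : Fin n → F) :
    (THb φ).map (cGL g).toMonoidHom
      = THb (φ ᵥ* ((g⁻¹ : GL (Fin n) F) : Matrix (Fin n) (Fin n) F)) := by
  unfold THb
  rw [Subgroup.map_map, cGL_comp_pr, ← Subgroup.map_map, map_conjSL_TH]

theorem map_iotaT_TPb (v : Fin n → F) :
    (TPb v).map (iotaT : MulAut (Matrix.ProjectiveSpecialLinearGroup (Fin n) F)).toMonoidHom
      = THb v := by
  unfold TPb THb
  rw [Subgroup.map_map, iotaT_comp_pr, ← Subgroup.map_map, map_invT_TP]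

theorem map_iotaT_THb (φ : Fin n → F) :
    (THb φ).map (iotaT : MulAut (Matrix.ProjectiveSpecialLinearGroup (Fin n) F)).toMonoidHom
      = TPb φ := by
  unfold TPb THb
  rw [Subgroup.map_map, iotaT_comp_pr, ← Subgroup.map_map, map_invT_TH]

/-! ### `pr` is an order embedding on subgroups of transvections -/

theorem map_pr_inf (hn : 3 ≤ n) {A B : Subgroup (Matrix.SpecialLinearGroup (Fin n) F)}
    (hA : ∀ g ∈ A, IsTm g) (hB : ∀ g ∈ B, IsTm g) :
    A.map pr ⊓ B.map pr = (A ⊓ B).map pr := by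
  apply le_antisymm
  · rintro x ⟨⟨a, ha, rfl⟩, ⟨b, hb, hab⟩⟩
    have : b = a := pr_inj_of_isTm hn (hB b hb) (hA a ha) hab
    subst this
    exact ⟨b, ⟨ha, hb⟩, rfl⟩
  · exact le_inf (Subgroup.map_mono inf_le_left) (Subgroup.map_mono inf_le_right)

theorem map_pr_le_iff (hn : 3 ≤ n) {A B : Subgroup (Matrix.SpecialLinearGroup (Fin n) F)}
    (hA : ∀ g ∈ A, IsTm g) (hB : ∀ g ∈ B, IsTm g) :
    A.map pr ≤ B.map pr ↔ A ≤ B := by
  constructor
  · intro h a ha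
    obtain ⟨b, hb, hab⟩ := h (Subgroup.mem_map_of_mem pr ha)
    have : b = a := pr_inj_of_isTm hn (hB b hb) (hA a ha) hab
    rwa [← this]
  · exact fun h => Subgroup.map_mono h

theorem map_pr_eq_bot_iff (hn : 3 ≤ n) {A : Subgroup (Matrix.SpecialLinearGroup (Fin n) F)}
    (hA : ∀ g ∈ A, IsTm g) : A.map pr = ⊥ ↔ A = ⊥ := by
  constructor
  · intro h
    rw [eq_bot_iff]
    intro a ha
    have h1 : pr a ∈ A.map pr := Subgroup.mem_map_of_mem pr ha
    rw [h, Subgroup.mem_bot] at h1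
    rw [Subgroup.mem_bot]
    exact pr_inj_of_isTm hn (hA a ha) isTm_one (by rw [h1, map_one])
  · rintro rfl
    exact Subgroup.map_bot _

theorem isTm_of_mem_X {v φ : Fin n → F} (h : φ ⬝ᵥ v = 0)
    {g : Matrix.SpecialLinearGroup (Fin n) F} (hg : g ∈ X v φ) : IsTm g :=
  isTm_of_mem_TP (X_le_TP h hg)

theorem TPb_inf_THb (hn : 3 ≤ n) {v φ : Fin n → F} (hv : v ≠ 0) (h : φ ⬝ᵥ v = 0) :
    TPb v ⊓ THb φ = Xb v φ := by
  unfold TPb THb Xb
  rw [map_pr_inf hn (fun g => isTm_of_mem_TP) (fun g => isTm_of_mem_TH), TP_inf_TH hv h]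

theorem TPb_inf_THb_eq_bot (hn : 3 ≤ n) {v φ : Fin n → F} (hv : v ≠ 0) (h : φ ⬝ᵥ v ≠ 0) :
    TPb v ⊓ THb φ = ⊥ := by
  unfold TPb THb
  rw [map_pr_inf hn (fun g => isTm_of_mem_TP) (fun g => isTm_of_mem_TH), TP_inf_TH_eq_bot hv h,
    Subgroup.map_bot]

theorem TPb_inf_TPb_eq_bot (hn : 3 ≤ n) {v v' : Fin n → F} (h : ∀ a : F, v ≠ a • v') :
    TPb v ⊓ TPb v' = ⊥ := by
  unfold TPb
  rw [map_pr_inf hn (fun g => isTm_of_mem_TP) (fun g => isTm_of_mem_TP), TP_inf_TP_eq_bot h,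
    Subgroup.map_bot]

theorem THb_inf_THb_eq_bot (hn : 3 ≤ n) {φ φ' : Fin n → F} (h : ∀ a : F, φ ≠ a • φ') :
    THb φ ⊓ THb φ' = ⊥ := by
  unfold THb
  rw [map_pr_inf hn (fun g => isTm_of_mem_TH) (fun g => isTm_of_mem_TH), TH_inf_TH_eq_bot h,
    Subgroup.map_bot]

theorem TPb_smul {a : F} (ha : a ≠ 0) (v : Fin n → F) : TPb (a • v) = TPb v := by
  unfold TPb
  rw [TP_smul ha]

theorem THb_smul {a : F} (ha : a ≠ 0) (φ : Fin n → F) : THb (a • φ) = THb φ := by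
  unfold THb
  rw [TH_smul ha]

end Cfsg.Agent.Helper7.AutPSL
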