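import Cfsg.Agent.Helper7.AutPSL2

/-!
# Automorphisms of `PSL_n(F)`, part 3 (helper7)

Root-closed subgroups of `PSL_n` (`n ≥ 3`): a subgroup all of whose elements are images of
transvections lies in some `TPb v` or some `THb φ`.
-/

set_option autoImplicit false
set_option linter.unusedSectionVars false
set_option linter.unusedVariables false

namespace Cfsg.Agent.Helper7.AutPSL

open Matrix Cfsg.Agent.Helper2.RootSLn Cfsg.Agent.Helper7.GraphPSL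

variable {n : ℕ} {F : Type*} [Field F]

theorem isTm_cases {g : Matrix.SpecialLinearGroup (Fin n) F} (hg : IsTm g) :
    g = 1 ∨ ∃ (v φ : Fin n → F) (h : φ ⬝ᵥ v = 0), v ≠ 0 ∧ φ ≠ 0 ∧ g = ts v φ h 1 := by
  obtain ⟨w, ψ, c, hwψ, hg⟩ := hg
  by_cases hc : c = 0
  · left
    apply Subtype.ext
    rw [hg, hc, tm_zero, Matrix.SpecialLinearGroup.coe_one]
  by_cases hw : w = 0
  · left
    apply Subtype.ext
    rw [hg, hw, tm, Matrix.zero_vecMulVec, smul_zero, add_zero, Matrix.SpecialLinearGroup.coe_one]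
  by_cases hψ : ψ = 0
  · left
    apply Subtype.ext
    rw [hg, hψ, tm, Matrix.vecMulVec_zero, smul_zero, add_zero, Matrix.SpecialLinearGroup.coe_one]
  right
  have h : ψ ⬝ᵥ (c • w) = 0 := by rw [dotProduct_smul, hwψ, smul_zero]
  refine ⟨c • w, ψ, h, smul_ne_zero hc hw, hψ, ?_⟩
  apply Subtype.ext
  rw [hg, coe_ts, ← tm_smul_eq']

theorem ts_mem_TP_of_smul {v₀ v φ : Fin n → F} (h : φ ⬝ᵥ v = 0) {a : F} (ha : v = a • v₀) :
    ts v φ h 1 ∈ TP v₀ := by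
  refine ⟨a • φ, ?_, ?_⟩
  · rw [smul_dotProduct, ← dotProduct_smul, ← ha, h]
  · rw [coe_ts, ha, tm, tm, Matrix.smul_vecMulVec, Matrix.vecMulVec_smul]

theorem ts_mem_TH_of_smul {φ₀ v φ : Fin n → F} (h : φ ⬝ᵥ v = 0) {a : F} (ha : φ = a • φ₀) :
    ts v φ h 1 ∈ TH φ₀ := by
  refine ⟨a • v, ?_, ?_⟩
  · rw [dotProduct_smul, ← smul_dotProduct, ← ha, h]
  · rw [coe_ts, ha, tm, tm, Matrix.smul_vecMulVec, Matrix.vecMulVec_smul]

/-- if the product of two (images of) transvections is again the image of a transvection then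
they have the same centre or the same axis -/
theorem parallel_of_mul (hn : 3 ≤ n) {v φ v' φ' : Fin n → F} (hvφ : φ ⬝ᵥ v = 0)
    (hv'φ' : φ' ⬝ᵥ v' = 0) (hv0 : v ≠ 0) (hφ0 : φ ≠ 0) (hv'0 : v' ≠ 0) (hφ'0 : φ' ≠ 0)
    {u : Matrix.SpecialLinearGroup (Fin n) F} (hu : IsTm u)
    (h : pr (ts v φ hvφ 1) * pr (ts v' φ' hv'φ' 1) = pr u) :
    (∃ a : F, v' = a • v) ∨ (∃ a : F, φ' = a • φ) := by
  obtain ⟨w, ψ, c, hwψ, hu⟩ := hu
  rw [← map_mul] at h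
  obtain ⟨r, hr⟩ := (pr_eq_iff _ _).1 h
  rw [hu, Matrix.SpecialLinearGroup.coe_mul, coe_ts, coe_ts] at hr
  have hr1 : r = 1 := by
    apply eq_of_smul_eq_tm hn (φ := φ) (φ' := φ') _ hwψ hr
    intro x hx hx'
    rw [← Matrix.mulVec_mulVec, tm_mulVec v' φ', hx', mul_zero, zero_smul, add_zero, tm_mulVec, hx,
      mul_zero, zero_smul, add_zero]
  rw [hr1, one_smul, tm_mul_tm, tm, one_smul, one_smul, one_mul, one_mul, add_assoc, add_assoc] at hr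
  have hr' : c • vecMulVec w ψ = vecMulVec v φ + (vecMulVec v' φ' + (φ ⬝ᵥ v') • vecMulVec v φ') :=
    add_left_cancel hr
  by_cases hpar : ∃ a : F, v' = a • v
  · exact Or.inl hpar
  · right
    push Not at hpar
    have hpar' : ∀ a : F, v ≠ a • v' := by
      intro a ha
      by_cases ha0 : a = 0
      · rw [ha0, zero_smul] at ha
        exact hv0 ha
      · apply hpar a⁻¹
        rw [ha, smul_smul, inv_mul_cancel₀ ha0, one_smul]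
    obtain ⟨χ, hχ1, hχ2⟩ := exists_dot_zero_one v v' hpar
    obtain ⟨χ', hχ'1, hχ'2⟩ := exists_dot_zero_one v' v hpar'
    have e1 := congrArg (fun N => χ ᵥ* N) hr'
    simp only [Matrix.vecMul_smul, Matrix.vecMul_add, vecMul_vecMulVec, hχ1, hχ2, zero_smul,
      one_smul, smul_zero, zero_add, add_zero] at e1
    have e2 := congrArg (fun N => χ' ᵥ* N) hr'
    simp only [Matrix.vecMul_smul, Matrix.vecMul_add, vecMul_vecMulVec, hχ'1, hχ'2, zero_smul,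
      one_smul, smul_zero, zero_add, add_zero] at e2
    -- `e1 : c • (χ ⬝ᵥ w) • ψ = φ'`, `e2 : c • (χ' ⬝ᵥ w) • ψ = φ + (φ ⬝ᵥ v') • φ'`
    have e1' : (c * (χ ⬝ᵥ w)) • ψ = φ' := by rw [← smul_smul]; exact e1
    have e2' : (c * (χ' ⬝ᵥ w)) • ψ = φ + (φ ⬝ᵥ v') • φ' := by rw [← smul_smul]; exact e2
    have hb : c * (χ ⬝ᵥ w) ≠ 0 := by
      intro hb
      apply hφ'0
      rw [← e1', hb, zero_smul]
    have hψ : ψ = (c * (χ ⬝ᵥ w))⁻¹ • φ' := by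
      rw [← e1', smul_smul, inv_mul_cancel₀ hb, one_smul]
    have hφ : φ = (c * (χ' ⬝ᵥ w) * (c * (χ ⬝ᵥ w))⁻¹ - φ ⬝ᵥ v') • φ' := by
      rw [sub_smul, ← smul_smul, ← hψ, e2']
      abel
    set a := c * (χ' ⬝ᵥ w) * (c * (χ ⬝ᵥ w))⁻¹ - φ ⬝ᵥ v' with ha
    have ha0 : a ≠ 0 := by
      intro h0
      apply hφ0
      rw [hφ, h0, zero_smul]
    refine ⟨a⁻¹, ?_⟩
    rw [hφ, smul_smul, inv_mul_cancel₀ ha0, one_smul]

/-- an element of `PSL_n` which is the image of a transvection (or the identity) -/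
def IsRootElt (x : Matrix.ProjectiveSpecialLinearGroup (Fin n) F) : Prop :=
  ∃ g : Matrix.SpecialLinearGroup (Fin n) F, IsTm g ∧ pr g = x

theorem isRootElt_of_mem_TPb {v : Fin n → F} {x : Matrix.ProjectiveSpecialLinearGroup (Fin n) F}
    (hx : x ∈ TPb v) : IsRootElt x := by
  obtain ⟨g, hg, rfl⟩ := hx
  exact ⟨g, isTm_of_mem_TP hg, rfl⟩

theorem isRootElt_of_mem_THb {φ : Fin n → F} {x : Matrix.ProjectiveSpecialLinearGroup (Fin n) F}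
    (hx : x ∈ THb φ) : IsRootElt x := by
  obtain ⟨g, hg, rfl⟩ := hx
  exact ⟨g, isTm_of_mem_TH hg, rfl⟩

/-- a subgroup of `PSL_n` consisting of root elements lies in some `TPb v` or some `THb φ` -/
theorem rootClosed_le (hn : 3 ≤ n) (T : Subgroup (Matrix.ProjectiveSpecialLinearGroup (Fin n) F))
    (hT : ∀ x ∈ T, IsRootElt x) :
    (∃ v : Fin n → F, v ≠ 0 ∧ T ≤ TPb v) ∨ (∃ φ : Fin n → F, φ ≠ 0 ∧ T ≤ THb φ) := by
  by_cases hbot : T = ⊥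
  · left
    refine ⟨Pi.single ⟨0, by omega⟩ 1, single_ne_zero _, ?_⟩
    rw [hbot]
    exact bot_le
  obtain ⟨⟨x₀, hx₀T⟩, hx₀⟩ := (Subgroup.ne_bot_iff_exists_ne_one.1 hbot)
  have hx₀1 : x₀ ≠ 1 := fun h => hx₀ (Subtype.ext h)
  obtain ⟨g₀, hg₀, rfl⟩ := hT x₀ hx₀T
  rcases isTm_cases hg₀ with rfl | ⟨v₀, φ₀, h₀, hv₀, hφ₀, rfl⟩
  · exact absurd (map_one pr) hx₀1
  by_contra hcon
  push Not at hcon
  obtain ⟨hcon1, hcon2⟩ := hcon
  obtain ⟨x₁, hx₁T, hx₁⟩ := SetLike.not_le_iff_exists.1 (hcon1 v₀ hv₀)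
  obtain ⟨x₂, hx₂T, hx₂⟩ := SetLike.not_le_iff_exists.1 (hcon2 φ₀ hφ₀)
  obtain ⟨g₁, hg₁, rfl⟩ := hT x₁ hx₁T
  obtain ⟨g₂, hg₂, rfl⟩ := hT x₂ hx₂T
  rcases isTm_cases hg₁ with rfl | ⟨v₁, φ₁, h₁, hv₁, hφ₁, rfl⟩
  · exact hx₁ (by rw [map_one]; exact Subgroup.one_mem _)
  rcases isTm_cases hg₂ with rfl | ⟨v₂, φ₂, h₂, hv₂, hφ₂, rfl⟩
  · exact hx₂ (by rw [map_one]; exact Subgroup.one_mem _)
  have hnp1 : ∀ a : F, v₁ ≠ a • v₀ := fun a ha =>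
    hx₁ (Subgroup.mem_map_of_mem pr (ts_mem_TP_of_smul h₁ ha))
  have hnp2 : ∀ a : F, φ₂ ≠ a • φ₀ := fun a ha =>
    hx₂ (Subgroup.mem_map_of_mem pr (ts_mem_TH_of_smul h₂ ha))
  -- `x₀ x₁` is a root element
  obtain ⟨u₁, hu₁, hu₁'⟩ := hT _ (T.mul_mem hx₀T hx₁T)
  obtain ⟨a₁, ha₁⟩ : ∃ a : F, φ₁ = a • φ₀ := by
    rcases parallel_of_mul hn h₀ h₁ hv₀ hφ₀ hv₁ hφ₁ hu₁ hu₁'.symm with ⟨a, ha⟩ | h
    · exact absurd ha (hnp1 a)
    · exact h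
  obtain ⟨u₂, hu₂, hu₂'⟩ := hT _ (T.mul_mem hx₀T hx₂T)
  obtain ⟨a₂, ha₂⟩ : ∃ a : F, v₂ = a • v₀ := by
    rcases parallel_of_mul hn h₀ h₂ hv₀ hφ₀ hv₂ hφ₂ hu₂ hu₂'.symm with h | ⟨a, ha⟩
    · exact h
    · exact absurd ha (hnp2 a)
  obtain ⟨u₃, hu₃, hu₃'⟩ := hT _ (T.mul_mem hx₁T hx₂T)
  rcases parallel_of_mul hn h₁ h₂ hv₁ hφ₁ hv₂ hφ₂ hu₃ hu₃'.symm with ⟨b, hb⟩ | ⟨b, hb⟩
  · have hb0 : b ≠ 0 := by
      rintro rfl
      rw [zero_smul] at hb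
      exact hv₂ hb
    apply hnp1 (b⁻¹ * a₂)
    rw [← smul_smul, ← ha₂, hb, smul_smul, inv_mul_cancel₀ hb0, one_smul]
  · apply hnp2 (b * a₁)
    rw [hb, ha₁, smul_smul]

end Cfsg.Agent.Helper7.AutPSL
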