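import Cfsg.Agent.Helper7.AutPSL3
import Cfsg.Agent.Helper12.BlkSLG
import Cfsg.Agent.Helper12.GGUniF

/-!
# Automorphisms of `PSL_n(F)`, part 4 (helper7)

The upper unitriangular subgroup `USL` of `SL_n(F)`: its order, it is a Sylow `p`-subgroup,
and its centre is the root group `X e₀ e_last`.
-/

set_option autoImplicit false
set_option linter.unusedSectionVars false
set_option linter.unusedVariables false

namespace Cfsg.Agent.Helper7.AutPSL

open Matrix Cfsg.Agent.Helper2.RootSLn Cfsg.Agent.Helper7.GraphPSL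

variable {n : ℕ} {F : Type*} [Field F]

/-- the upper unitriangular subgroup of `SL_n` -/
def USL (n : ℕ) (F : Type*) [Field F] : Subgroup (Matrix.SpecialLinearGroup (Fin n) F) :=
  (Cfsg.Agent.Helper12.GG.unitri n F).comap Matrix.SpecialLinearGroup.toGL

theorem mem_USL {g : Matrix.SpecialLinearGroup (Fin n) F} :
    g ∈ USL n F ↔ (g : Matrix (Fin n) (Fin n) F).BlockTriangular id ∧
      ∀ i, (g : Matrix (Fin n) (Fin n) F) i i = 1 := Iff.rfl

theorem USL_apply_of_lt {g : Matrix.SpecialLinearGroup (Fin n) F} (hg : g ∈ USL n F)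
    {i j : Fin n} (h : j < i) : (g : Matrix (Fin n) (Fin n) F) i j = 0 :=
  (mem_USL.1 hg).1 h

/-- the strictly upper triangular positions -/
abbrev UpPairs (n : ℕ) : Type := {p : Fin n × Fin n // p.1 < p.2}

/-- the unitriangular matrix with prescribed strictly upper triangular entries -/
def upMat (f : UpPairs n → F) : Matrix (Fin n) (Fin n) F :=
  fun i j => if h : i < j then f ⟨(i, j), h⟩ else if i = j then 1 else 0

theorem upMat_blockTriangular (f : UpPairs n → F) : (upMat f).BlockTriangular id := by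
  intro i j hij
  have hij' : j < i := hij
  unfold upMat
  rw [dif_neg (not_lt.2 hij'.le), if_neg hij'.ne']

theorem upMat_diag (f : UpPairs n → F) (i : Fin n) : upMat f i i = 1 := by
  unfold upMat
  rw [dif_neg (lt_irrefl i), if_pos rfl]

theorem upMat_det (f : UpPairs n → F) : (upMat f).det = 1 := by
  rw [Matrix.det_of_isUpperTriangular (upMat_blockTriangular f)]
  simp only [upMat_diag]
  exact Finset.prod_const_one

/-- unitriangular element of `SL_n` with prescribed entries -/
def upSL (f : UpPairs n → F) : Matrix.SpecialLinearGroup (Fin n) F := ⟨upMat f, upMat_det f⟩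

theorem upSL_mem (f : UpPairs n → F) : upSL f ∈ USL n F :=
  mem_USL.2 ⟨upMat_blockTriangular f, upMat_diag f⟩

theorem upSL_injective : Function.Injective (upSL : (UpPairs n → F) → _) := by
  intro f f' h
  funext p
  have h1 := congrFun (congrFun (congrArg Subtype.val h) p.1.1) p.1.2
  show f p = f' p
  have h2 : ∀ f'' : UpPairs n → F, (upSL f'' : Matrix (Fin n) (Fin n) F) p.1.1 p.1.2 = f'' p := by
    intro f''
    show upMat f'' p.1.1 p.1.2 = f'' p
    unfold upMat
    rw [dif_pos p.2]
  rw [← h2 f, ← h2 f']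
  exact h1

theorem card_UpPairs (n : ℕ) : Fintype.card (UpPairs n) = n * (n - 1) / 2 := by
  classical
  have e : UpPairs n ≃ Σ j : Fin n, {i : Fin n // i < j} :=
    { toFun := fun p => ⟨p.1.2, ⟨p.1.1, p.2⟩⟩
      invFun := fun q => ⟨(q.2.1, q.1), q.2.2⟩
      left_inv := fun p => rfl
      right_inv := fun q => rfl }
  rw [Fintype.card_congr e, Fintype.card_sigma]
  have h1 : ∀ j : Fin n, Fintype.card {i : Fin n // i < j} = (j : ℕ) := by
    intro j
    rw [Fintype.card_subtype]
    have : (Finset.univ.filter fun i : Fin n => i < j) = Finset.Iio j := by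
      ext i
      simp
    rw [this, Fin.card_Iio]
  simp only [h1]
  rw [Fin.sum_univ_eq_sum_range (fun i => i) n, Finset.sum_range_id]

theorem card_USL_ge [Fintype F] :
    Fintype.card F ^ (n * (n - 1) / 2) ≤ Nat.card (USL n F) := by
  classical
  rw [← card_UpPairs n, ← Fintype.card_fun, ← Nat.card_eq_fintype_card]
  apply Nat.card_le_card_of_injective (fun f => (⟨upSL f, upSL_mem f⟩ : USL n F))
  intro f f' h
  exact upSL_injective (congrArg Subtype.val h)

theorem isPGroup_USL (p : ℕ) [Fact p.Prime] [CharP F p] : IsPGroup p (USL n F) := by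
  intro u
  obtain ⟨k, hk⟩ := Cfsg.Agent.Helper12.GG.isPGroup_unitri (F := F) (n := n) p
    ⟨Matrix.SpecialLinearGroup.toGL (u : Matrix.SpecialLinearGroup (Fin n) F), u.2⟩
  refine ⟨k, ?_⟩
  have h1 := congrArg Subtype.val hk
  rw [Subgroup.coe_pow, Subgroup.coe_one] at h1
  simp only at h1
  rw [← map_pow] at h1
  apply Subtype.ext
  rw [Subgroup.coe_pow, Subgroup.coe_one]
  exact Matrix.SpecialLinearGroup.toGL_injective (by rw [h1, map_one])

/-- `USL` is a Sylow `p`-subgroup of `SL_n(F)` -/
theorem exists_sylow_USL [Fintype F] (p : ℕ) [Fact p.Prime] [CharP F p] (hn : 1 ≤ n) :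
    ∃ P : Sylow p (Matrix.SpecialLinearGroup (Fin n) F),
      (P : Subgroup (Matrix.SpecialLinearGroup (Fin n) F)) = USL n F := by
  classical
  obtain ⟨P, hP⟩ := (isPGroup_USL (F := F) (n := n) p).exists_le_sylow
  refine ⟨P, ?_⟩
  symm
  apply Subgroup.eq_of_le_of_card_ge hP
  have h1 := Cfsg.Agent.Helper12.BlkSL.card_sylow_SL (F := F) p hn P
  have h2 : Nat.card (P : Subgroup (Matrix.SpecialLinearGroup (Fin n) F)) = Nat.card P := rfl
  rw [h2, h1]
  exact card_USL_ge

end Cfsg.Agent.Helper7.AutPSL
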