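import Cfsg.Agent.Helper7.AutPSL5
import Cfsg.Agent.Helper7.GraphSplit1

/-!
# Automorphisms of `PSL_n(F)`, part 6 (helper7)

Every automorphism of `PSL_n(F)` (`n ≥ 3`, `F` finite) permutes the root groups `Xb v φ`:
they are the centres of the Sylow `p`-subgroups.
-/

set_option autoImplicit false
set_option linter.unusedSectionVars false
set_option linter.unusedVariables false

namespace Cfsg.Agent.Helper7.AutPSL

open Matrix Cfsg.Agent.Helper2.RootSLn Cfsg.Agent.Helper7.GraphPSL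
open scoped Pointwise

section generic

variable {G : Type*} [Group G]

/-- the centre of a subgroup, as a subgroup of the ambient group -/
def zz (H : Subgroup G) : Subgroup G := H ⊓ Subgroup.centralizer (H : Set G)

theorem mem_zz {H : Subgroup G} {x : G} : x ∈ zz H ↔ x ∈ H ∧ ∀ y ∈ H, y * x = x * y := by
  unfold zz
  rw [Subgroup.mem_inf, Subgroup.mem_centralizer_iff]
  rfl

theorem zz_map (α : MulAut G) (H : Subgroup G) :
    zz (H.map α.toMonoidHom) = (zz H).map α.toMonoidHom := by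
  ext x
  constructor
  · intro hx
    rw [mem_zz] at hx
    obtain ⟨⟨y, hy, rfl⟩, hc⟩ := hx
    refine ⟨y, mem_zz.2 ⟨hy, fun z hz => ?_⟩, rfl⟩
    have := hc (α z) ⟨z, hz, rfl⟩
    apply α.injective
    rw [map_mul, map_mul]
    exact this
  · rintro ⟨y, hy', rfl⟩
    have hy : y ∈ zz H := hy'
    rw [mem_zz] at hy ⊢
    refine ⟨⟨y, hy.1, rfl⟩, ?_⟩
    rintro _ ⟨z, hz, rfl⟩
    show α z * α y = α y * α z
    rw [← map_mul, ← map_mul, hy.2 z hz]

/-- automorphisms map a Sylow subgroup to a conjugate -/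
theorem exists_conj_of_sylow [Finite G] {p : ℕ} [Fact p.Prime] (P : Sylow p G) (α : MulAut G) :
    ∃ g : G, (P : Subgroup G).map α.toMonoidHom = (P : Subgroup G).map (MulAut.conj g).toMonoidHom := by
  have hp : IsPGroup p ((P : Subgroup G).map α.toMonoidHom) := P.2.map _
  obtain ⟨Q, hQ⟩ := hp.exists_le_sylow
  obtain ⟨g, hg⟩ := MulAction.exists_smul_eq G P Q
  refine ⟨g, ?_⟩
  have h1 : (Q : Subgroup G) = (P : Subgroup G).map (MulAut.conj g).toMonoidHom := by
    rw [← hg]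
    rfl
  rw [← h1]
  apply Subgroup.eq_of_le_of_card_ge hQ
  rw [h1, Subgroup.card_map_of_injective (MulAut.conj g).injective,
    Subgroup.card_map_of_injective α.injective]

end generic

variable {n : ℕ} {F : Type*} [Field F]

/-- the image of the unitriangular group in `PSL_n` -/
noncomputable def Ub (n : ℕ) (F : Type*) [Field F] :
    Subgroup (Matrix.ProjectiveSpecialLinearGroup (Fin n) F) :=
  (USL n F).map pr

theorem exists_sylow_Ub [Fintype F] (p : ℕ) [Fact p.Prime] [CharP F p] (hn : 1 ≤ n) :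
    ∃ P : Sylow p (Matrix.ProjectiveSpecialLinearGroup (Fin n) F),
      (P : Subgroup (Matrix.ProjectiveSpecialLinearGroup (Fin n) F)) = Ub n F := by
  obtain ⟨P, hP⟩ := exists_sylow_USL (F := F) p hn
  refine ⟨P.mapSurjective pr_surjective, ?_⟩
  rw [Sylow.coe_mapSurjective, hP]
  rfl

section center

variable (i0 il : Fin n) (h0 : ∀ j : Fin n, i0 ≤ j) (hl : ∀ j : Fin n, j ≤ il) (hne : i0 ≠ il)

include h0 hl hne in
/-- the centre of `Ub` is the root group `Xb e_first e_last` -/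
theorem zz_Ub : zz (Ub n F) = Xb (Pi.single i0 1 : Fin n → F) (Pi.single il 1) := by
  have hX := USL_inf_centralizer (F := F) i0 il h0 hl hne
  apply le_antisymm
  · intro x hx
    rw [mem_zz] at hx
    obtain ⟨⟨u, hu, rfl⟩, hc⟩ := hx
    refine ⟨u, ?_, rfl⟩
    rw [← hX]
    refine ⟨hu, ?_⟩
    show u ∈ Subgroup.centralizer (USL n F : Set _)
    rw [Subgroup.mem_centralizer_iff]
    intro u' hu'
    have hu'' : u' ∈ USL n F := hu'
    have h1 := hc (pr u') ⟨u', hu', rfl⟩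
    rw [← map_mul, ← map_mul] at h1
    obtain ⟨r, hr⟩ := (pr_eq_iff _ _).1 h1
    have h2 := congrFun (congrFun hr i0) i0
    rw [Matrix.smul_apply, (mem_USL.1 ((USL n F).mul_mem hu hu'')).2,
      (mem_USL.1 ((USL n F).mul_mem hu'' hu)).2, smul_eq_mul, mul_one] at h2
    apply Subtype.ext
    rw [hr, ← h2, one_smul]
  · rintro _ ⟨x, hx, rfl⟩
    rw [← hX] at hx
    obtain ⟨hx1, hx2'⟩ := hx
    have hx2 : x ∈ Subgroup.centralizer (USL n F : Set _) := hx2'
    rw [Subgroup.mem_centralizer_iff] at hx2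
    rw [mem_zz]
    refine ⟨⟨x, hx1, rfl⟩, ?_⟩
    rintro _ ⟨u', hu', rfl⟩
    rw [← map_mul, ← map_mul, hx2 u' hu']

end center

/-- conjugation by an element of `GL_n` permutes the root groups -/
theorem map_cGL_Xb (hn : 3 ≤ n) (g : GL (Fin n) F) {v φ : Fin n → F} (hv : v ≠ 0)
    (h : φ ⬝ᵥ v = 0) :
    (Xb v φ).map (cGL g).toMonoidHom
      = Xb ((g : Matrix (Fin n) (Fin n) F) *ᵥ v)
          (φ ᵥ* ((g⁻¹ : GL (Fin n) F) : Matrix (Fin n) (Fin n) F)) := by
  rw [← TPb_inf_THb hn hv h,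
    Subgroup.map_inf (TPb v) (THb φ) (cGL g).toMonoidHom (cGL g).injective, map_cGL_TPb, map_cGL_THb,
    TPb_inf_THb hn (GL_mulVec_ne_zero g hv) (by rw [GL_dot, h])]

theorem conj_eq_cGL (s : Matrix.SpecialLinearGroup (Fin n) F) :
    MulAut.conj (pr s) = cGL (Matrix.SpecialLinearGroup.toGL s) :=
  (Cfsg.Agent.Helper7.GraphSplit.cGL_toGL s).symm

/-- every root group is conjugate to the standard one -/
theorem exists_cGL_Xb (hn : 3 ≤ n) (i0 il : Fin n) (hne : i0 ≠ il) {v φ : Fin n → F} (hv : v ≠ 0)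
    (hφ : φ ≠ 0) (h : φ ⬝ᵥ v = 0) :
    ∃ s : Matrix.SpecialLinearGroup (Fin n) F,
      (Xb (Pi.single i0 1 : Fin n → F) (Pi.single il 1)).map (MulAut.conj (pr s)).toMonoidHom
        = Xb v φ := by
  have h3 : 3 ≤ Fintype.card (Fin n) := by rw [Fintype.card_fin]; exact hn
  obtain ⟨s, hs1, hs2⟩ := moves_pair h3 (single_ne_zero i0) (single_ne_zero il)
    (single_dot_single_of_ne hne) hv hφ h
  refine ⟨s, ?_⟩
  rw [conj_eq_cGL, map_cGL_Xb hn _ (single_ne_zero i0) (single_dot_single_of_ne hne)]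
  have e1 : ((Matrix.SpecialLinearGroup.toGL s : GL (Fin n) F) : Matrix (Fin n) (Fin n) F)
      = (s : Matrix (Fin n) (Fin n) F) := rfl
  have e2 : (((Matrix.SpecialLinearGroup.toGL s)⁻¹ : GL (Fin n) F) : Matrix (Fin n) (Fin n) F)
      = ((s⁻¹ : Matrix.SpecialLinearGroup (Fin n) F) : Matrix (Fin n) (Fin n) F) := by
    rw [← map_inv]
    rfl
  rw [e1, e2, hs1, hs2]

/-- **automorphisms of `PSL_n(F)` permute the root groups** -/
theorem map_aut_Xb [Fintype F] (p : ℕ) [Fact p.Prime] [CharP F p] (hn : 3 ≤ n)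
    (α : MulAut (Matrix.ProjectiveSpecialLinearGroup (Fin n) F)) {v φ : Fin n → F} (hv : v ≠ 0)
    (hφ : φ ≠ 0) (h : φ ⬝ᵥ v = 0) :
    ∃ v' φ' : Fin n → F, v' ≠ 0 ∧ φ' ≠ 0 ∧ φ' ⬝ᵥ v' = 0 ∧
      (Xb v φ).map α.toMonoidHom = Xb v' φ' := by
  set i0 : Fin n := ⟨0, by omega⟩ with hi0
  set il : Fin n := ⟨n - 1, by omega⟩ with hil
  have h0 : ∀ j : Fin n, i0 ≤ j := fun j => Fin.mk_le_of_le_val (Nat.zero_le _)
  have hl : ∀ j : Fin n, j ≤ il := fun j => by
    rw [Fin.le_def]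
    show (j : ℕ) ≤ n - 1
    have := j.2
    omega
  have hne : i0 ≠ il := by
    intro h
    have := congrArg Fin.val h
    simp only [hi0, hil] at this
    omega
  obtain ⟨s, hs⟩ := exists_cGL_Xb hn i0 il hne hv hφ h
  obtain ⟨P, hP⟩ := exists_sylow_Ub (F := F) (n := n) p (by omega)
  -- the automorphism `α ∘ conj (pr s)` maps `Ub` to a conjugate
  obtain ⟨g, hg⟩ := exists_conj_of_sylow P (α * MulAut.conj (pr s))
  rw [hP] at hg
  have h1 : (Xb v φ).map α.toMonoidHom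
      = (zz (Ub n F)).map (α * MulAut.conj (pr s)).toMonoidHom := by
    rw [zz_Ub i0 il h0 hl hne, ← hs, Subgroup.map_map]
    rfl
  rw [h1, ← zz_map, hg, zz_map, zz_Ub i0 il h0 hl hne]
  obtain ⟨t, rfl⟩ := pr_surjective g
  rw [conj_eq_cGL, map_cGL_Xb hn _ (single_ne_zero i0) (single_dot_single_of_ne hne)]
  refine ⟨_, _, GL_mulVec_ne_zero _ (single_ne_zero i0), GL_vecMul_ne_zero _ (single_ne_zero il),
    ?_, rfl⟩
  rw [GL_dot, single_dot_single_of_ne hne]

end Cfsg.Agent.Helper7.AutPSL
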