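import Cfsg.Agent.Helper7.AutPSL6

/-!
# Automorphisms of `PSL_n(F)`, part 7 (helper7)

The family `TT t v` (`TPb v` for `t = true`, `THb v` for `t = false`) of maximal root-closed
subgroups is permuted by every automorphism; the induced map on types is a bijection.
-/

set_option autoImplicit false
set_option linter.unusedSectionVars false
set_option linter.unusedVariables false

namespace Cfsg.Agent.Helper7.AutPSL

open Matrix Cfsg.Agent.Helper2.RootSLn Cfsg.Agent.Helper7.GraphPSL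
open scoped Pointwise

variable {n : ℕ} {F : Type*} [Field F]

/-- `TPb v` or `THb v` -/
noncomputable def TT (t : Bool) (v : Fin n → F) :
    Subgroup (Matrix.ProjectiveSpecialLinearGroup (Fin n) F) :=
  bif t then TPb v else THb v

theorem TT_true (v : Fin n → F) : TT true v = TPb v := rfl

theorem TT_false (v : Fin n → F) : TT false v = THb v := rfl

theorem isRootElt_of_mem_TT {t : Bool} {v : Fin n → F}
    {x : Matrix.ProjectiveSpecialLinearGroup (Fin n) F} (hx : x ∈ TT t v) : IsRootElt x := by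
  cases t
  · exact isRootElt_of_mem_THb hx
  · exact isRootElt_of_mem_TPb hx

theorem TT_smul (t : Bool) {a : F} (ha : a ≠ 0) (v : Fin n → F) : TT t (a • v) = TT t v := by
  cases t
  · exact THb_smul ha v
  · exact TPb_smul ha v

theorem exists_dot_zero (hn : 3 ≤ n) {v : Fin n → F} (hv : v ≠ 0) (φ : Fin n → F) :
    ∃ u : Fin n → F, u ≠ 0 ∧ u ⬝ᵥ v = 0 ∧ ∀ a : F, u ≠ a • φ := by
  have h3 : 3 ≤ Fintype.card (Fin n) := by rw [Fintype.card_fin]; exact hn
  by_cases hφ : φ = 0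
  · obtain ⟨u, hu0, hu1, -⟩ := exists_orth h3 v v
    refine ⟨u, hu0, by rw [dotProduct_comm]; exact hu1, ?_⟩
    intro a ha
    rw [hφ, smul_zero] at ha
    exact hu0 ha
  · obtain ⟨u, hu0, hu1, hu2, -⟩ := exists_indep_orth h3 hφ v
    exact ⟨u, hu0, by rw [dotProduct_comm]; exact hu1, hu2⟩

theorem TP_ne_bot (hn : 3 ≤ n) {v : Fin n → F} (hv : v ≠ 0) : TP v ≠ ⊥ := by
  obtain ⟨u, hu0, hu1, -⟩ := exists_dot_zero hn hv 0
  intro h
  have h1 : ts v u hu1 1 ∈ TP v := ts_mem_TP hu1 1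
  rw [h, Subgroup.mem_bot, ts_eq_one_iff hv hu0] at h1
  exact one_ne_zero h1

theorem TH_ne_bot (hn : 3 ≤ n) {φ : Fin n → F} (hφ : φ ≠ 0) : TH φ ≠ ⊥ := by
  obtain ⟨u, hu0, hu1, -⟩ := exists_dot_zero hn hφ 0
  have hu1' : φ ⬝ᵥ u = 0 := by rw [dotProduct_comm]; exact hu1
  intro h
  have h1 : ts u φ hu1' 1 ∈ TH φ := ts_mem_TH hu1' 1
  rw [h, Subgroup.mem_bot, ts_eq_one_iff hu0 hφ] at h1
  exact one_ne_zero h1

theorem not_TP_le_TH (hn : 3 ≤ n) {v φ : Fin n → F} (hv : v ≠ 0) : ¬ TP v ≤ TH φ := by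
  intro h
  obtain ⟨u, hu0, hu1, hu2⟩ := exists_dot_zero hn hv φ
  obtain ⟨w, hw, h1⟩ := h (ts_mem_TP hu1 1)
  rw [coe_ts] at h1
  obtain ⟨a, ha⟩ := smul_of_vecMulVec_eq_left (vecMulVec_eq_of_tm_eq h1) hv
  exact hu2 a ha

theorem not_TH_le_TP (hn : 3 ≤ n) {v φ : Fin n → F} (hφ : φ ≠ 0) : ¬ TH φ ≤ TP v := by
  intro h
  obtain ⟨u, hu0, hu1, hu2⟩ := exists_dot_zero hn hφ v
  have hu1' : φ ⬝ᵥ u = 0 := by rw [dotProduct_comm]; exact hu1
  obtain ⟨ψ, hψ, h1⟩ := h (ts_mem_TH hu1' 1)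
  rw [coe_ts] at h1
  obtain ⟨a, ha⟩ := smul_of_vecMulVec_eq_right (vecMulVec_eq_of_tm_eq h1) hφ
  exact hu2 a ha

/-- inclusions among the groups `TT t v` -/
theorem TT_le (hn : 3 ≤ n) {t t' : Bool} {v v' : Fin n → F} (hv : v ≠ 0) (hv' : v' ≠ 0)
    (h : TT t v ≤ TT t' v') : t = t' ∧ ∃ a : F, a ≠ 0 ∧ v = a • v' := by
  cases t <;> cases t'
  · refine ⟨rfl, ?_⟩
    by_contra hcon
    have hpar : ∀ a : F, v ≠ a • v' := by
      intro a ha
      by_cases ha0 : a = 0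
      · rw [ha0, zero_smul] at ha
        exact hv ha
      · exact hcon ⟨a, ha0, ha⟩
    have h1 : THb v = ⊥ := by
      rw [← THb_inf_THb_eq_bot hn hpar]
      exact (inf_eq_left.2 h).symm
    exact TH_ne_bot hn hv ((map_pr_eq_bot_iff hn (fun g => isTm_of_mem_TH)).1 h1)
  · exfalso
    exact not_TH_le_TP hn hv
      ((map_pr_le_iff hn (fun g => isTm_of_mem_TH) (fun g => isTm_of_mem_TP)).1 h)
  · exfalso
    exact not_TP_le_TH hn hv
      ((map_pr_le_iff hn (fun g => isTm_of_mem_TP) (fun g => isTm_of_mem_TH)).1 h)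
  · refine ⟨rfl, ?_⟩
    by_contra hcon
    have hpar : ∀ a : F, v ≠ a • v' := by
      intro a ha
      by_cases ha0 : a = 0
      · rw [ha0, zero_smul] at ha
        exact hv ha
      · exact hcon ⟨a, ha0, ha⟩
    have h1 : TPb v = ⊥ := by
      rw [← TPb_inf_TPb_eq_bot hn hpar]
      exact (inf_eq_left.2 h).symm
    exact TP_ne_bot hn hv ((map_pr_eq_bot_iff hn (fun g => isTm_of_mem_TP)).1 h1)

theorem TT_eq_of_le (hn : 3 ≤ n) {t t' : Bool} {v v' : Fin n → F} (hv : v ≠ 0) (hv' : v' ≠ 0)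
    (h : TT t v ≤ TT t' v') : TT t v = TT t' v' := by
  obtain ⟨rfl, a, ha, rfl⟩ := TT_le hn hv hv' h
  exact TT_smul t ha v'

/-- every element of `TT t v` lies in a root group or is trivial, so its image under an
automorphism is a root element -/
theorem isRootElt_map_aut [Fintype F] (p : ℕ) [Fact p.Prime] [CharP F p] (hn : 3 ≤ n)
    (α : MulAut (Matrix.ProjectiveSpecialLinearGroup (Fin n) F)) {t : Bool} {v : Fin n → F}
    (hv : v ≠ 0) {x : Matrix.ProjectiveSpecialLinearGroup (Fin n) F} (hx : x ∈ TT t v) :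
    IsRootElt (α x) := by
  have key : ∀ (w ψ : Fin n → F) (h : ψ ⬝ᵥ w = 0), IsRootElt (α (pr (ts w ψ h 1))) := by
    intro w ψ h
    by_cases hw : w = 0
    · refine ⟨1, isTm_one, ?_⟩
      have : ts w ψ h 1 = 1 := by
        apply Subtype.ext
        rw [coe_ts, hw, tm, Matrix.zero_vecMulVec, smul_zero, add_zero,
          Matrix.SpecialLinearGroup.coe_one]
      rw [this, map_one, map_one]
    by_cases hψ : ψ = 0
    · refine ⟨1, isTm_one, ?_⟩
      have : ts w ψ h 1 = 1 := by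
        apply Subtype.ext
        rw [coe_ts, hψ, tm, Matrix.vecMulVec_zero, smul_zero, add_zero,
          Matrix.SpecialLinearGroup.coe_one]
      rw [this, map_one, map_one]
    obtain ⟨w', ψ', hw', hψ', h', heq⟩ := map_aut_Xb p hn α hw hψ h
    have h1 : α (pr (ts w ψ h 1)) ∈ (Xb w ψ).map α.toMonoidHom :=
      ⟨_, ⟨_, ts_mem_X h 1, rfl⟩, rfl⟩
    rw [heq] at h1
    obtain ⟨g', hg', hg''⟩ := h1
    exact ⟨g', isTm_of_mem_X h' hg', hg''⟩
  cases t
  · obtain ⟨g, ⟨w, hw, hg⟩, rfl⟩ := hx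
    have : g = ts w v hw 1 := Subtype.ext hg
    rw [this]
    exact key w v hw
  · obtain ⟨g, ⟨ψ, hψ, hg⟩, rfl⟩ := hx
    have : g = ts v ψ hψ 1 := Subtype.ext hg
    rw [this]
    exact key v ψ hψ

/-- an automorphism maps `TT t v` into some `TT t' v'` -/
theorem exists_map_aut_TT_le [Fintype F] (p : ℕ) [Fact p.Prime] [CharP F p] (hn : 3 ≤ n)
    (α : MulAut (Matrix.ProjectiveSpecialLinearGroup (Fin n) F)) (t : Bool) {v : Fin n → F}
    (hv : v ≠ 0) :
    ∃ (t' : Bool) (v' : Fin n → F), v' ≠ 0 ∧ (TT t v).map α.toMonoidHom ≤ TT t' v' := by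
  have h1 : ∀ y ∈ (TT t v).map α.toMonoidHom, IsRootElt y := by
    rintro _ ⟨x, hx, rfl⟩
    exact isRootElt_map_aut p hn α hv hx
  rcases rootClosed_le hn _ h1 with ⟨w, hw, h2⟩ | ⟨ψ, hψ, h2⟩
  · exact ⟨true, w, hw, h2⟩
  · exact ⟨false, ψ, hψ, h2⟩

/-- an automorphism maps `TT t v` onto some `TT t' v'` -/
theorem exists_map_aut_TT [Fintype F] (p : ℕ) [Fact p.Prime] [CharP F p] (hn : 3 ≤ n)
    (α : MulAut (Matrix.ProjectiveSpecialLinearGroup (Fin n) F)) (t : Bool) {v : Fin n → F}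
    (hv : v ≠ 0) :
    ∃ (t' : Bool) (v' : Fin n → F), v' ≠ 0 ∧ (TT t v).map α.toMonoidHom = TT t' v' := by
  obtain ⟨t', v', hv', h1⟩ := exists_map_aut_TT_le p hn α t hv
  obtain ⟨t'', v'', hv'', h2⟩ := exists_map_aut_TT_le p hn α⁻¹ t' hv'
  refine ⟨t', v', hv', le_antisymm h1 ?_⟩
  have h3 : TT t v ≤ TT t'' v'' := by
    intro x hx
    apply h2
    refine ⟨α x, h1 ⟨x, hx, rfl⟩, ?_⟩
    show α⁻¹ (α x) = x
    rw [MulAut.inv_apply_self]
  have h4 := TT_eq_of_le hn hv hv'' h3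
  rw [← h4] at h2
  intro y hy
  have hx : α⁻¹ y ∈ TT t v := h2 ⟨y, hy, rfl⟩
  refine ⟨α⁻¹ y, hx, ?_⟩
  show α (α⁻¹ y) = y
  rw [MulAut.apply_inv_self]

end Cfsg.Agent.Helper7.AutPSL
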