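import Cfsg.Agent.Helper7.AutPSL7

/-!
# Automorphisms of `PSL_n(F)`, part 8 (helper7)

The type map of an automorphism: either it maps point-groups to point-groups and
hyperplane-groups to hyperplane-groups, or its composition with inverse-transpose does.
-/

set_option autoImplicit false
set_option linter.unusedSectionVars false
set_option linter.unusedVariables false

namespace Cfsg.Agent.Helper7.AutPSL

open Matrix Cfsg.Agent.Helper2.RootSLn Cfsg.Agent.Helper7.GraphPSL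
open scoped Pointwise

variable {n : ℕ} {F : Type*} [Field F]

theorem exists_SL_mulVec (hn : 3 ≤ n) {v₀ v : Fin n → F} (hv₀ : v₀ ≠ 0) (hv : v ≠ 0) :
    ∃ s : Matrix.SpecialLinearGroup (Fin n) F, (s : Matrix (Fin n) (Fin n) F) *ᵥ v₀ = v := by
  have h3 : 3 ≤ Fintype.card (Fin n) := by rw [Fintype.card_fin]; exact hn
  obtain ⟨φ₀, hφ₀, h₀, -⟩ := exists_dot_zero hn hv₀ 0
  obtain ⟨φ, hφ, h, -⟩ := exists_dot_zero hn hv 0
  obtain ⟨s, hs, -⟩ := moves_pair h3 hv₀ hφ₀ h₀ hv hφ h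
  exact ⟨s, hs⟩

theorem exists_SL_vecMul (hn : 3 ≤ n) {φ₀ φ : Fin n → F} (hφ₀ : φ₀ ≠ 0) (hφ : φ ≠ 0) :
    ∃ s : Matrix.SpecialLinearGroup (Fin n) F,
      φ₀ ᵥ* ((s⁻¹ : Matrix.SpecialLinearGroup (Fin n) F) : Matrix (Fin n) (Fin n) F) = φ := by
  have h3 : 3 ≤ Fintype.card (Fin n) := by rw [Fintype.card_fin]; exact hn
  obtain ⟨v₀, hv₀, h₀, -⟩ := exists_dot_zero hn hφ₀ 0
  obtain ⟨v, hv, h, -⟩ := exists_dot_zero hn hφ 0
  rw [dotProduct_comm] at h₀ h
  obtain ⟨s, -, hs⟩ := moves_pair h3 hv₀ hφ₀ h₀ hv hφ h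
  exact ⟨s, hs⟩

theorem toGL_inv_coe (s : Matrix.SpecialLinearGroup (Fin n) F) :
    (((Matrix.SpecialLinearGroup.toGL s)⁻¹ : GL (Fin n) F) : Matrix (Fin n) (Fin n) F)
      = ((s⁻¹ : Matrix.SpecialLinearGroup (Fin n) F) : Matrix (Fin n) (Fin n) F) := by
  rw [← map_inv]
  rfl

/-- `GL_n`-conjugation preserves the type -/
theorem exists_map_cGL_TT (g : GL (Fin n) F) (t : Bool) {v : Fin n → F} (hv : v ≠ 0) :
    ∃ w : Fin n → F, w ≠ 0 ∧ (TT t v).map (cGL g).toMonoidHom = TT t w := by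
  cases t
  · exact ⟨_, GL_vecMul_ne_zero _ hv, map_cGL_THb g v⟩
  · exact ⟨_, GL_mulVec_ne_zero _ hv, map_cGL_TPb g v⟩

/-- `PSL_n` is transitive on the groups `TT t v` of a given type -/
theorem exists_conj_TT (hn : 3 ≤ n) (t : Bool) {v₀ v : Fin n → F} (hv₀ : v₀ ≠ 0) (hv : v ≠ 0) :
    ∃ x : Matrix.ProjectiveSpecialLinearGroup (Fin n) F,
      (TT t v₀).map (MulAut.conj x).toMonoidHom = TT t v := by
  cases t
  · obtain ⟨s, hs⟩ := exists_SL_vecMul hn hv₀ hv
    refine ⟨pr s, ?_⟩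
    rw [conj_eq_cGL, TT_false, map_cGL_THb, toGL_inv_coe, hs]
    rfl
  · obtain ⟨s, hs⟩ := exists_SL_mulVec hn hv₀ hv
    refine ⟨pr s, ?_⟩
    rw [conj_eq_cGL, TT_true, map_cGL_TPb]
    show TPb ((s : Matrix (Fin n) (Fin n) F) *ᵥ v₀) = _
    rw [hs]
    rfl

/-- the automorphism `α` maps groups of type `t` to groups of type `t'` -/
def Typ (α : MulAut (Matrix.ProjectiveSpecialLinearGroup (Fin n) F)) (t t' : Bool) : Prop :=
  ∀ v : Fin n → F, v ≠ 0 → ∃ w : Fin n → F, w ≠ 0 ∧ (TT t v).map α.toMonoidHom = TT t' w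

theorem typ_cGL (g : GL (Fin n) F) (t : Bool) : Typ (cGL g) t t :=
  fun v hv => exists_map_cGL_TT g t hv

theorem typ_conj (x : Matrix.ProjectiveSpecialLinearGroup (Fin n) F) (t : Bool) :
    Typ (MulAut.conj x) t t := by
  obtain ⟨s, rfl⟩ := pr_surjective x
  rw [conj_eq_cGL]
  exact typ_cGL _ t

theorem typ_iotaT (t : Bool) :
    Typ (iotaT : MulAut (Matrix.ProjectiveSpecialLinearGroup (Fin n) F)) t (!t) := by
  intro v hv
  cases t
  · exact ⟨v, hv, map_iotaT_THb v⟩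
  · exact ⟨v, hv, map_iotaT_TPb v⟩

theorem typ_one (t : Bool) :
    Typ (1 : MulAut (Matrix.ProjectiveSpecialLinearGroup (Fin n) F)) t t := by
  intro v hv
  refine ⟨v, hv, ?_⟩
  have : (1 : MulAut (Matrix.ProjectiveSpecialLinearGroup (Fin n) F)).toMonoidHom
      = MonoidHom.id _ := rfl
  rw [this, Subgroup.map_id]

theorem Typ.mul {α β : MulAut (Matrix.ProjectiveSpecialLinearGroup (Fin n) F)} {t t' t'' : Bool}
    (hα : Typ α t t') (hβ : Typ β t' t'') : Typ (β * α) t t'' := by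
  intro v hv
  obtain ⟨w, hw, h1⟩ := hα v hv
  obtain ⟨u, hu, h2⟩ := hβ w hw
  refine ⟨u, hu, ?_⟩
  rw [← h2, ← h1, Subgroup.map_map]
  rfl

theorem Typ.unique (hn : 3 ≤ n) {α : MulAut (Matrix.ProjectiveSpecialLinearGroup (Fin n) F)}
    {t t' t'' : Bool} (h1 : Typ α t t') (h2 : Typ α t t'') : t' = t'' := by
  set v : Fin n → F := Pi.single ⟨0, by omega⟩ 1 with hv
  have hv0 : v ≠ 0 := single_ne_zero _
  obtain ⟨w, hw, e1⟩ := h1 v hv0
  obtain ⟨u, hu, e2⟩ := h2 v hv0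
  exact (TT_le hn hw hu (by rw [← e1, ← e2])).1

/-- the type of the image does not depend on the vector -/
theorem exists_typ [Fintype F] (p : ℕ) [Fact p.Prime] [CharP F p] (hn : 3 ≤ n)
    (α : MulAut (Matrix.ProjectiveSpecialLinearGroup (Fin n) F)) (t : Bool) :
    ∃ t' : Bool, Typ α t t' := by
  set v₀ : Fin n → F := Pi.single ⟨0, by omega⟩ 1 with hv₀
  have hv₀0 : v₀ ≠ 0 := single_ne_zero _
  obtain ⟨t', w₀, hw₀, h₀⟩ := exists_map_aut_TT p hn α t hv₀0
  refine ⟨t', fun v hv => ?_⟩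
  obtain ⟨x, hx⟩ := exists_conj_TT hn t hv₀0 hv
  obtain ⟨w, hw, h1⟩ := typ_conj (α x) t' w₀ hw₀
  refine ⟨w, hw, ?_⟩
  rw [← h1, ← h₀, ← hx, Subgroup.map_map, Subgroup.map_map]
  congr 1
  ext y
  show α (x * y * x⁻¹) = α x * α y * (α x)⁻¹
  rw [map_mul, map_mul, map_inv]

/-- point-groups and hyperplane-groups cannot have images of the same type -/
theorem typ_ne (hn : 3 ≤ n) {α : MulAut (Matrix.ProjectiveSpecialLinearGroup (Fin n) F)}
    {t₁ t₂ : Bool} (h1 : Typ α true t₁) (h2 : Typ α false t₂) : t₁ ≠ t₂ := by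
  rintro rfl
  set i0 : Fin n := ⟨0, by omega⟩ with hi0
  set i1 : Fin n := ⟨1, by omega⟩ with hi1
  have hne : i0 ≠ i1 := by
    intro h
    have := congrArg Fin.val h
    simp [hi0, hi1] at this
  set v : Fin n → F := Pi.single i0 1 with hv
  set φ : Fin n → F := Pi.single i1 1 with hφ
  have hv0 : v ≠ 0 := single_ne_zero _
  have hφ0 : φ ≠ 0 := single_ne_zero _
  have hvφ : φ ⬝ᵥ v = 0 := single_dot_single_of_ne hne
  obtain ⟨w, hw, e1⟩ := h1 v hv0
  obtain ⟨u, hu, e2⟩ := h2 φ hφ0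
  -- the intersection `TPb v ⊓ THb φ` is nontrivial
  have h3 : TT true v ⊓ TT false φ ≠ ⊥ := by
    rw [TT_true, TT_false, TPb_inf_THb hn hv0 hvφ]
    unfold Xb
    rw [Ne, map_pr_eq_bot_iff hn (fun g => isTm_of_mem_X hvφ)]
    intro h
    have h4 : ts v φ hvφ 1 ∈ X v φ := ts_mem_X hvφ 1
    rw [h, Subgroup.mem_bot, ts_eq_one_iff hv0 hφ0] at h4
    exact one_ne_zero h4
  have h4 : (TT true v ⊓ TT false φ).map α.toMonoidHom = TT t₁ w ⊓ TT t₁ u := by
    rw [Subgroup.map_inf _ _ α.toMonoidHom α.injective, e1, e2]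
  -- so `w` and `u` are parallel
  have hpar : ∃ a : F, a ≠ 0 ∧ w = a • u := by
    by_contra hcon
    have hpar : ∀ a : F, w ≠ a • u := by
      intro a ha
      by_cases ha0 : a = 0
      · rw [ha0, zero_smul] at ha
        exact hw ha
      · exact hcon ⟨a, ha0, ha⟩
    have h5 : TT t₁ w ⊓ TT t₁ u = ⊥ := by
      cases t₁
      · exact THb_inf_THb_eq_bot hn hpar
      · exact TPb_inf_TPb_eq_bot hn hpar
    rw [h5] at h4
    exact h3 ((Subgroup.map_eq_bot_iff_of_injective _ α.injective).1 h4)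
  obtain ⟨a, ha, rfl⟩ := hpar
  rw [TT_smul t₁ ha] at e1
  have h6 : TT true v = TT false φ := by
    apply Subgroup.map_injective (f := α.toMonoidHom) α.injective
    rw [e1, e2]
  exact Bool.noConfusion (TT_le hn hv0 hφ0 h6.le).1

/-- **type dichotomy** -/
theorem typ_dichotomy [Fintype F] (p : ℕ) [Fact p.Prime] [CharP F p] (hn : 3 ≤ n)
    (α : MulAut (Matrix.ProjectiveSpecialLinearGroup (Fin n) F)) :
    (Typ α true true ∧ Typ α false false) ∨
      (Typ (iotaT * α) true true ∧ Typ (iotaT * α) false false) := by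
  obtain ⟨t₁, h1⟩ := exists_typ p hn α true
  obtain ⟨t₂, h2⟩ := exists_typ p hn α false
  have hne := typ_ne hn h1 h2
  cases t₁ <;> cases t₂
  · exact absurd rfl hne
  · right
    exact ⟨h1.mul (typ_iotaT false), h2.mul (typ_iotaT true)⟩
  · left
    exact ⟨h1, h2⟩
  · exact absurd rfl hne

/-- the inverse of a type-preserving automorphism is type-preserving -/
theorem typ_inv [Fintype F] (p : ℕ) [Fact p.Prime] [CharP F p] (hn : 3 ≤ n)
    {α : MulAut (Matrix.ProjectiveSpecialLinearGroup (Fin n) F)}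
    (h : Typ α true true ∧ Typ α false false) : Typ α⁻¹ true true ∧ Typ α⁻¹ false false := by
  obtain ⟨t₁, h1⟩ := exists_typ p hn α⁻¹ true
  obtain ⟨t₂, h2⟩ := exists_typ p hn α⁻¹ false
  have e : α * α⁻¹ = 1 := mul_inv_cancel α
  constructor
  · cases t₁
    · have h3 := h1.mul h.2
      rw [e] at h3
      exact absurd (Typ.unique hn h3 (typ_one true)) (by decide)
    · exact h1
  · cases t₂
    · exact h2
    · have h3 := h2.mul h.1
      rw [e] at h3
      exact absurd (Typ.unique hn h3 (typ_one false)) (by decide)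

end Cfsg.Agent.Helper7.AutPSL
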