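import Cfsg.Agent.Helper7.AutPSL8

/-!
# Automorphisms of `PSL_n(F)`, part 9 (helper7)

Frame normalisation: after composing with an inner-diagonal automorphism (and possibly the
inverse-transpose), an automorphism fixes every elementary root group `Xb e_i e_j`.
-/

set_option autoImplicit false
set_option linter.unusedSectionVars false
set_option linter.unusedVariables false

namespace Cfsg.Agent.Helper7.AutPSL

open Matrix Cfsg.Agent.Helper2.RootSLn Cfsg.Agent.Helper7.GraphPSL
open scoped Pointwise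

variable {n : ℕ} {F : Type*} [Field F]

theorem Xb_ne_bot (hn : 3 ≤ n) {v φ : Fin n → F} (hv : v ≠ 0) (hφ : φ ≠ 0) (h : φ ⬝ᵥ v = 0) :
    Xb v φ ≠ ⊥ := by
  unfold Xb
  rw [Ne, map_pr_eq_bot_iff hn (fun g => isTm_of_mem_X h)]
  intro h'
  have h4 : ts v φ h 1 ∈ X v φ := ts_mem_X h 1
  rw [h', Subgroup.mem_bot, ts_eq_one_iff hv hφ] at h4
  exact one_ne_zero h4

theorem inf_ne_bot_iff (hn : 3 ≤ n) {v φ : Fin n → F} (hv : v ≠ 0) (hφ : φ ≠ 0) :
    TPb v ⊓ THb φ ≠ ⊥ ↔ φ ⬝ᵥ v = 0 := by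
  constructor
  · intro h
    by_contra h'
    exact h (TPb_inf_THb_eq_bot hn hv h')
  · intro h
    rw [TPb_inf_THb hn hv h]
    exact Xb_ne_bot hn hv hφ h

/-- automorphisms preserve incidence -/
theorem incidence_iff (hn : 3 ≤ n) (α : MulAut (Matrix.ProjectiveSpecialLinearGroup (Fin n) F))
    {v w φ ψ : Fin n → F} (hv : v ≠ 0) (hw : w ≠ 0) (hφ : φ ≠ 0) (hψ : ψ ≠ 0)
    (h1 : (TPb v).map α.toMonoidHom = TPb w) (h2 : (THb φ).map α.toMonoidHom = THb ψ) :
    φ ⬝ᵥ v = 0 ↔ ψ ⬝ᵥ w = 0 := by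
  rw [← inf_ne_bot_iff hn hv hφ, ← inf_ne_bot_iff hn hw hψ, ← h1, ← h2,
    ← Subgroup.map_inf _ _ α.toMonoidHom α.injective, Ne, Ne,
    Subgroup.map_eq_bot_iff_of_injective _ α.injective]

/-- type-preserving automorphisms -/
def Good (α : MulAut (Matrix.ProjectiveSpecialLinearGroup (Fin n) F)) : Prop :=
  Typ α true true ∧ Typ α false false

/-- the automorphism fixes every elementary root group -/
def FixFrame (α : MulAut (Matrix.ProjectiveSpecialLinearGroup (Fin n) F)) : Prop :=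
  ∀ i j : Fin n, i ≠ j →
    (Xb (Pi.single i 1 : Fin n → F) (Pi.single j 1)).map α.toMonoidHom
      = Xb (Pi.single i 1) (Pi.single j 1)

theorem single_dotProduct' (φ : Fin n → F) (j : Fin n) :
    φ ⬝ᵥ (Pi.single j 1 : Fin n → F) = φ j := by
  rw [dotProduct_single, mul_one]

/-- a type-preserving automorphism fixing the points of the standard frame fixes the frame -/
theorem fixFrame_of_fix_points (hn : 3 ≤ n)
    {α : MulAut (Matrix.ProjectiveSpecialLinearGroup (Fin n) F)} (hα : Good α)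
    (hfix : ∀ i : Fin n, (TPb (Pi.single i 1 : Fin n → F)).map α.toMonoidHom
      = TPb (Pi.single i 1)) : FixFrame α := by
  have hH : ∀ j : Fin n, (THb (Pi.single j 1 : Fin n → F)).map α.toMonoidHom
      = THb (Pi.single j 1) := by
    intro j
    obtain ⟨ψ, hψ, h1⟩ := hα.2 (Pi.single j 1) (single_ne_zero j)
    rw [TT_false, TT_false] at h1
    have h2 : ∀ i : Fin n, i ≠ j → ψ i = 0 := by
      intro i hij
      have := (incidence_iff hn α (single_ne_zero i) (single_ne_zero i) (single_ne_zero j) hψ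
        (hfix i) h1).1 (single_dot_single_of_ne hij)
      rwa [single_dotProduct'] at this
    have h3 : ψ = ψ j • (Pi.single j 1 : Fin n → F) := by
      ext i
      rw [Pi.smul_apply, smul_eq_mul]
      by_cases hij : i = j
      · rw [hij, Pi.single_eq_same, mul_one]
      · rw [h2 i hij, Pi.single_eq_of_ne hij, mul_zero]
    have h4 : ψ j ≠ 0 := by
      intro h0
      apply hψ
      rw [h3, h0, zero_smul]
    rw [h1, h3, THb_smul h4]
  intro i j hij
  rw [← TPb_inf_THb hn (single_ne_zero i) (single_dot_single_of_ne hij),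
    Subgroup.map_inf _ _ α.toMonoidHom α.injective, hfix i, hH j]

/-- **frame normalisation** for type-preserving automorphisms -/
theorem exists_fixFrame_of_good [Fintype F] (p : ℕ) [Fact p.Prime] [CharP F p] (hn : 3 ≤ n)
    {α : MulAut (Matrix.ProjectiveSpecialLinearGroup (Fin n) F)} (hα : Good α) :
    ∃ g : GL (Fin n) F, FixFrame ((cGL g)⁻¹ * α) := by
  classical
  have h1 : ∀ j : Fin n, ∃ w : Fin n → F, w ≠ 0 ∧
      (TPb (Pi.single j 1 : Fin n → F)).map α.toMonoidHom = TPb w := fun j =>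
    hα.1 (Pi.single j 1) (single_ne_zero j)
  choose w hw hwα using h1
  set M : Matrix (Fin n) (Fin n) F := Matrix.of (fun i j => w j i) with hM
  have hdet : M.det ≠ 0 := by
    intro hdet
    obtain ⟨ψ, hψ, hψM⟩ := Matrix.exists_vecMul_eq_zero_iff.2 hdet
    have hψw : ∀ j : Fin n, ψ ⬝ᵥ w j = 0 := by
      intro j
      have := congrFun hψM j
      rw [Pi.zero_apply] at this
      rw [← this]
      rfl
    obtain ⟨φ, hφ, hφα⟩ := (typ_inv p hn hα).2 ψ hψ
    rw [TT_false, TT_false] at hφα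
    have hφα' : (THb φ).map α.toMonoidHom = THb ψ := by
      rw [← hφα, Subgroup.map_map]
      have : α.toMonoidHom.comp (α⁻¹).toMonoidHom = MonoidHom.id _ := by
        ext y
        show α (α⁻¹ y) = y
        rw [MulAut.apply_inv_self]
      rw [this, Subgroup.map_id]
    apply hφ
    ext j
    have := (incidence_iff hn α (single_ne_zero j) (hw j) hφ hψ (hwα j) hφα').2 (hψw j)
    rwa [single_dotProduct'] at this
  set g : GL (Fin n) F := Matrix.GeneralLinearGroup.mkOfDetNeZero M hdet with hg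
  have hgcoe : (g : Matrix (Fin n) (Fin n) F) = M := rfl
  have hge : ∀ j : Fin n, (g : Matrix (Fin n) (Fin n) F) *ᵥ (Pi.single j 1) = w j := by
    intro j
    rw [hgcoe, Matrix.mulVec_single_one]
    rfl
  refine ⟨g, ?_⟩
  apply fixFrame_of_fix_points hn
  · have h2 : Good (cGL g)⁻¹ := by
      rw [← map_inv]
      exact ⟨typ_cGL _ true, typ_cGL _ false⟩
    exact ⟨hα.1.mul h2.1, hα.2.mul h2.2⟩
  · intro j
    have : ((cGL g)⁻¹ * α).toMonoidHom = ((cGL g)⁻¹).toMonoidHom.comp α.toMonoidHom := rfl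
    rw [this, ← Subgroup.map_map, hwα j, ← map_inv, map_cGL_TPb, ← hge j, GL_inv_mulVec]

/-- **frame normalisation** -/
theorem exists_fixFrame [Fintype F] (p : ℕ) [Fact p.Prime] [CharP F p] (hn : 3 ≤ n)
    (α : MulAut (Matrix.ProjectiveSpecialLinearGroup (Fin n) F)) :
    ∃ g : GL (Fin n) F, FixFrame ((cGL g)⁻¹ * α) ∨ FixFrame ((cGL g)⁻¹ * (iotaT * α)) := by
  rcases typ_dichotomy p hn α with h | h
  · obtain ⟨g, hg⟩ := exists_fixFrame_of_good p hn (α := α) h
    exact ⟨g, Or.inl hg⟩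
  · obtain ⟨g, hg⟩ := exists_fixFrame_of_good p hn (α := iotaT * α) h
    exact ⟨g, Or.inr hg⟩

end Cfsg.Agent.Helper7.AutPSL
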