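import Cfsg.Agent.Helper7.GraphPSU5
import Cfsg.Agent.Helper2.SU.Main

/-!
# Automorphisms of `PSU_n`, part 1 (helper7)

Siegel elements `sgS e w c` of `SU_n` (a total function, equal to `1` for invalid parameters), their
multiplication, inverses, conjugation, and the subgroups `Qs e` (all Siegel elements with centre
`e`) and `Ts e` (the transvections with centre `e`).
-/

set_option autoImplicit false
set_option linter.unusedSectionVars false

namespace Cfsg.Agent.Helper7.AutPSU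

open Matrix Cfsg.Agent.Helper2.SUGen Cfsg.Agent.S2644

variable {F : Type*} [Field F] {n q : ℕ} (D : Frob F q)

local notation "h" => Cfsg.hermForm n F q
local notation "tm" => Cfsg.Agent.S2644.toM F n q

/-- validity of Siegel parameters -/
def Valid (e w : Fin n → F) (c : F) : Prop :=
  h e e = 0 ∧ h w e = 0 ∧ c + D.σ c + h w w = 0

open Classical in
/-- Siegel elements of `SU_n` -/
noncomputable def sgS (e w : Fin n → F) (c : F) : ↥(Cfsg.SU n F q) :=
  if hv : Valid D e w c then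
    mkSU (Sg (q := q) e w c) (Sg_det D e w c hv.1 hv.2.1) (Sg_pres D e w c hv.1 hv.2.1 hv.2.2)
  else 1

theorem tm_sgS {e w : Fin n → F} {c : F} (hv : Valid D e w c) :
    tm (sgS D e w c) = Sg (q := q) e w c := by
  unfold sgS
  rw [dif_pos hv]
  rfl

theorem tm_mul (g g' : ↥(Cfsg.SU n F q)) : tm (g * g') = tm g * tm g' := map_mul _ _ _

theorem tm_one : tm (1 : ↥(Cfsg.SU n F q)) = 1 := map_one _

theorem tm_inv_mul (g : ↥(Cfsg.SU n F q)) : tm g⁻¹ * tm g = 1 := by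
  rw [← tm_mul, inv_mul_cancel, tm_one]

theorem tm_mul_inv (g : ↥(Cfsg.SU n F q)) : tm g * tm g⁻¹ = 1 := by
  rw [← tm_mul, mul_inv_cancel, tm_one]

theorem valid_zero {e : Fin n → F} (hee : h e e = 0) : Valid D e 0 0 :=
  ⟨hee, h_zero_left e, by rw [map_zero, h_zero_left, add_zero, add_zero]⟩

theorem sgS_zero {e : Fin n → F} (hee : h e e = 0) : sgS D e 0 0 = 1 := by
  apply toM_injective
  rw [tm_sgS D (valid_zero D hee), Sg_zero D, tm_one]
  exact Cfsg.Agent.S0781.T_zero_coeff e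

theorem valid_mul {e w₁ w₂ : Fin n → F} {c₁ c₂ : F} (h₁ : Valid D e w₁ c₁)
    (h₂ : Valid D e w₂ c₂) : Valid D e (w₁ + w₂) (c₁ + c₂ - h w₂ w₁) := by
  refine ⟨h₁.1, by rw [h_add_left, h₁.2.1, h₂.2.1, add_zero], ?_⟩
  have e1 : D.σ (h w₂ w₁) = h w₁ w₂ := h_conj D _ _
  rw [map_sub, map_add, e1, h_add_left, h_add_right D, h_add_right D]
  linear_combination h₁.2.2 + h₂.2.2

theorem sgS_mul {e w₁ w₂ : Fin n → F} {c₁ c₂ : F} (h₁ : Valid D e w₁ c₁)
    (h₂ : Valid D e w₂ c₂) :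
    sgS D e w₁ c₁ * sgS D e w₂ c₂ = sgS D e (w₁ + w₂) (c₁ + c₂ - h w₂ w₁) := by
  apply toM_injective
  rw [tm_mul, tm_sgS D h₁, tm_sgS D h₂, tm_sgS D (valid_mul D h₁ h₂),
    Sg_mul D e w₁ w₂ c₁ c₂ h₁.1 h₁.2.1 h₂.2.1]

theorem valid_inv {e w : Fin n → F} {c : F} (hv : Valid D e w c) : Valid D e (-w) (D.σ c) :=
  ⟨hv.1, by rw [h_neg_left, hv.2.1, neg_zero], cond_inv D w c hv.2.2⟩

theorem sgS_inv {e w : Fin n → F} {c : F} (hv : Valid D e w c) :
    (sgS D e w c)⁻¹ = sgS D e (-w) (D.σ c) := by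
  rw [inv_eq_iff_mul_eq_one]
  apply toM_injective
  rw [tm_mul, tm_sgS D hv, tm_sgS D (valid_inv D hv), tm_one]
  exact (Sg_inv D e w c hv.1 hv.2.1 hv.2.2).1

/-- conjugation of Siegel elements -/
theorem valid_conj {e w : Fin n → F} {c : F} (hv : Valid D e w c) (g : ↥(Cfsg.SU n F q)) :
    Valid D (tm g *ᵥ e) (tm g *ᵥ w) c := by
  have hp := toM_pres g
  exact ⟨by rw [hp, hv.1], by rw [hp, hv.2.1], by rw [hp]; exact hv.2.2⟩

theorem sgS_conj {e w : Fin n → F} {c : F} (hv : Valid D e w c) (g : ↥(Cfsg.SU n F q)) :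
    g * sgS D e w c * g⁻¹ = sgS D (tm g *ᵥ e) (tm g *ᵥ w) c := by
  apply toM_injective
  rw [tm_mul, tm_mul, tm_sgS D hv, tm_sgS D (valid_conj D hv g),
    Sg_conj D (tm g) (toM_pres g) e w c, Matrix.mul_assoc, tm_mul_inv, Matrix.mul_one]

/-- rescaling the centre -/
theorem Sg_smul (l : F) (x w : Fin n → F) (c : F) :
    Sg (q := q) (l • x) w c = Sg (q := q) x (D.σ l • w) (l * D.σ l * c) := by
  apply mat_ext
  intro z
  rw [Sg_mulVec, Sg_mulVec, h_smul_right D, h_smul_right D, D.invol]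
  module

theorem valid_smul {e w : Fin n → F} {c l : F} (hv : Valid D (l • e) w c) (hl : l ≠ 0) :
    Valid D e (D.σ l • w) (l * D.σ l * c) := by
  obtain ⟨h1, h2, h3⟩ := hv
  have hσl : D.σ l ≠ 0 := σ_ne_zero D hl
  rw [h_smul_left, h_smul_right D] at h1
  rw [h_smul_right D] at h2
  have hee : h e e = 0 := by
    rcases mul_eq_zero.mp h1 with h4 | h4
    · exact absurd h4 hl
    · rcases mul_eq_zero.mp h4 with h5 | h5
      · exact absurd h5 hσl
      · exact h5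
  have hwe : h w e = 0 := by
    rcases mul_eq_zero.mp h2 with h4 | h4
    · exact absurd h4 hσl
    · exact h4
  refine ⟨hee, by rw [h_smul_left, hwe, mul_zero], ?_⟩
  rw [h_smul_left, h_smul_right D, map_mul, map_mul, D.invol]
  linear_combination (l * D.σ l) * h3

theorem sgS_smul {e w : Fin n → F} {c l : F} (hv : Valid D (l • e) w c) (hl : l ≠ 0) :
    sgS D (l • e) w c = sgS D e (D.σ l • w) (l * D.σ l * c) := by
  apply toM_injective
  rw [tm_sgS D hv, tm_sgS D (valid_smul D hv hl), Sg_smul D]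

/-- adding a multiple of the centre to the second vector -/
theorem Sg_add_smul (x w : Fin n → F) (a c : F) :
    Sg (q := q) x (w + a • x) c = Sg (q := q) x w (c + a - D.σ a) := by
  apply mat_ext
  intro z
  rw [Sg_mulVec, Sg_mulVec, h_add_right D, h_smul_right D]
  module

theorem valid_add_smul {e w : Fin n → F} {a c : F} (hv : Valid D e (w + a • e) c) :
    Valid D e w (c + a - D.σ a) := by
  obtain ⟨h1, h2, h3⟩ := hv
  have hwe : h w e = 0 := by
    rw [h_add_left, h_smul_left, h1, mul_zero, add_zero] at h2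
    exact h2
  have hew : h e w = 0 := h_symm_zero D hwe
  refine ⟨h1, hwe, ?_⟩
  rw [h_add_left, h_add_right D, h_add_right D, h_smul_left, h_smul_left, h_smul_right D,
    h_smul_right D, h1, hwe, hew] at h3
  rw [map_sub, map_add, D.invol]
  linear_combination h3

theorem sgS_add_smul {e w : Fin n → F} {a c : F} (hv : Valid D e (w + a • e) c) :
    sgS D e (w + a • e) c = sgS D e w (c + a - D.σ a) := by
  apply toM_injective
  rw [tm_sgS D hv, tm_sgS D (valid_add_smul D hv), Sg_add_smul D]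

/-- the action of a Siegel element on its centre -/
theorem Sg_mulVec_self {e w : Fin n → F} {c : F} (hv : Valid D e w c) :
    Sg (q := q) e w c *ᵥ e = e := by
  rw [Sg_mulVec, hv.1, h_symm_zero D hv.2.1]
  module

theorem sgS_of_not_valid {e w : Fin n → F} {c : F} (hv : ¬ Valid D e w c) : sgS D e w c = 1 := by
  unfold sgS
  rw [dif_neg hv]

/-- the subgroup of all Siegel elements with centre `e` -/
def Qs (e : Fin n → F) : Subgroup ↥(Cfsg.SU n F q) where
  carrier := {g | ∃ w c, g = sgS D e w c}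
  one_mem' := by
    by_cases hee : h e e = 0
    · exact ⟨0, 0, (sgS_zero D hee).symm⟩
    · exact ⟨0, 0, (sgS_of_not_valid D (fun hv => hee hv.1)).symm⟩
  mul_mem' := by
    rintro a b ⟨w₁, c₁, rfl⟩ ⟨w₂, c₂, rfl⟩
    by_cases h₁ : Valid D e w₁ c₁
    · by_cases h₂ : Valid D e w₂ c₂
      · exact ⟨_, _, sgS_mul D h₁ h₂⟩
      · exact ⟨w₁, c₁, by rw [sgS_of_not_valid D h₂, mul_one]⟩
    · exact ⟨w₂, c₂, by rw [sgS_of_not_valid D h₁, one_mul]⟩
  inv_mem' := by
    rintro a ⟨w, c, rfl⟩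
    by_cases hv : Valid D e w c
    · exact ⟨_, _, sgS_inv D hv⟩
    · exact ⟨w, c, by rw [sgS_of_not_valid D hv, inv_one]⟩

theorem mem_Qs {e : Fin n → F} {g : ↥(Cfsg.SU n F q)} :
    g ∈ Qs D e ↔ ∃ w c, g = sgS D e w c := Iff.rfl

theorem sgS_mem_Qs (e w : Fin n → F) (c : F) : sgS D e w c ∈ Qs D e := ⟨w, c, rfl⟩

/-- the subgroup of transvections with centre `e` -/
def Ts (e : Fin n → F) : Subgroup ↥(Cfsg.SU n F q) where
  carrier := {g | ∃ c, g = sgS D e 0 c}
  one_mem' := by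
    by_cases hee : h e e = 0
    · exact ⟨0, (sgS_zero D hee).symm⟩
    · exact ⟨0, (sgS_of_not_valid D (fun hv => hee hv.1)).symm⟩
  mul_mem' := by
    rintro a b ⟨c₁, rfl⟩ ⟨c₂, rfl⟩
    by_cases h₁ : Valid D e 0 c₁
    · by_cases h₂ : Valid D e 0 c₂
      · refine ⟨c₁ + c₂, ?_⟩
        rw [sgS_mul D h₁ h₂, add_zero, h_zero_left, sub_zero]
      · exact ⟨c₁, by rw [sgS_of_not_valid D h₂, mul_one]⟩
    · exact ⟨c₂, by rw [sgS_of_not_valid D h₁, one_mul]⟩
  inv_mem' := by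
    rintro a ⟨c, rfl⟩
    by_cases hv : Valid D e 0 c
    · refine ⟨D.σ c, ?_⟩
      rw [sgS_inv D hv, neg_zero]
    · exact ⟨c, by rw [sgS_of_not_valid D hv, inv_one]⟩

theorem mem_Ts {e : Fin n → F} {g : ↥(Cfsg.SU n F q)} :
    g ∈ Ts D e ↔ ∃ c, g = sgS D e 0 c := Iff.rfl

theorem Ts_le_Qs (e : Fin n → F) : Ts D e ≤ Qs D e := by
  rintro g ⟨c, rfl⟩
  exact ⟨0, c, rfl⟩

theorem valid_T_iff {e : Fin n → F} {c : F} (hee : h e e = 0) :
    Valid D e 0 c ↔ c + D.σ c = 0 := by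
  unfold Valid
  rw [h_zero_left, h_zero_left, add_zero]
  exact ⟨fun hh => hh.2.2, fun hh => ⟨hee, rfl, hh⟩⟩

theorem tm_sgS_zero {e : Fin n → F} {c : F} (hv : Valid D e 0 c) :
    tm (sgS D e 0 c) = Cfsg.unitaryTransvection n q e c := by
  rw [tm_sgS D hv, Sg_zero D]

/-- conjugation of the subgroups -/
theorem conj_mem_Qs {e : Fin n → F} {x : ↥(Cfsg.SU n F q)} (hx : x ∈ Qs D e)
    (g : ↥(Cfsg.SU n F q)) : g * x * g⁻¹ ∈ Qs D (tm g *ᵥ e) := by
  obtain ⟨w, c, rfl⟩ := hx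
  by_cases hv : Valid D e w c
  · rw [sgS_conj D hv]
    exact sgS_mem_Qs D _ _ _
  · rw [sgS_of_not_valid D hv, mul_one, mul_inv_cancel]
    exact Subgroup.one_mem _

theorem conj_mem_Ts {e : Fin n → F} {x : ↥(Cfsg.SU n F q)} (hx : x ∈ Ts D e)
    (g : ↥(Cfsg.SU n F q)) : g * x * g⁻¹ ∈ Ts D (tm g *ᵥ e) := by
  obtain ⟨c, rfl⟩ := hx
  by_cases hv : Valid D e 0 c
  · rw [sgS_conj D hv, Matrix.mulVec_zero]
    exact ⟨c, rfl⟩
  · rw [sgS_of_not_valid D hv, mul_one, mul_inv_cancel]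
    exact Subgroup.one_mem _

/-- rescaling the centre does not change the subgroups -/
theorem Qs_smul (e : Fin n → F) {l : F} (hl : l ≠ 0) : Qs D (l • e) = Qs D e := by
  have key : ∀ (e : Fin n → F) (l : F), l ≠ 0 → Qs D (l • e) ≤ Qs D e := by
    rintro e l hl g ⟨w, c, rfl⟩
    by_cases hv : Valid D (l • e) w c
    · rw [sgS_smul D hv hl]
      exact sgS_mem_Qs D _ _ _
    · rw [sgS_of_not_valid D hv]
      exact Subgroup.one_mem _
  apply le_antisymm (key e l hl)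
  have := key (l • e) l⁻¹ (inv_ne_zero hl)
  rwa [smul_smul, inv_mul_cancel₀ hl, one_smul] at this

theorem Ts_smul (e : Fin n → F) {l : F} (hl : l ≠ 0) : Ts D (l • e) = Ts D e := by
  have key : ∀ (e : Fin n → F) (l : F), l ≠ 0 → Ts D (l • e) ≤ Ts D e := by
    rintro e l hl g ⟨c, rfl⟩
    by_cases hv : Valid D (l • e) 0 c
    · rw [sgS_smul D hv hl, smul_zero]
      exact ⟨_, rfl⟩
    · rw [sgS_of_not_valid D hv]
      exact Subgroup.one_mem _
  apply le_antisymm (key e l hl)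
  have := key (l • e) l⁻¹ (inv_ne_zero hl)
  rwa [smul_smul, inv_mul_cancel₀ hl, one_smul] at this

end Cfsg.Agent.Helper7.AutPSU
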