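import Cfsg.Agent.Helper7.AutPSU9
import Cfsg.Agent.Helper1.SylowBasic

/-!
# Automorphisms of `PSU_n`, part 10 (helper7)

Step III: an automorphism fixing the transvection group `Tb e` fixes the Siegel group `Qb e`
(it is the intersection of the Sylow `p`-subgroups with centre `Tb e`).
-/

set_option autoImplicit false
set_option linter.unusedSectionVars false

namespace Cfsg.Agent.Helper7.AutPSU

open Matrix Cfsg.Agent.Helper2.SUGen Cfsg.Agent.S2644 Module
open Cfsg.Agent.Helper7.AutPSL (zz mem_zz zz_map exists_conj_of_sylow)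

variable {F : Type*} [Field F] [Fintype F] {n q : ℕ} (D : Frob F q)

local notation "h" => Cfsg.hermForm n F q
local notation "tm" => Cfsg.Agent.S2644.toM F n q

variable (p : ℕ) [Fact p.Prime] [CharP F p]

theorem sylow_pElement (P : Sylow p ↥(Cfsg.SU n F q)) {x : ↥(Cfsg.SU n F q)} (hx : x ∈ P) :
    ∃ k : ℕ, x ^ p ^ k = 1 := by
  obtain ⟨k, hk⟩ := P.isPGroup' ⟨x, hx⟩
  refine ⟨k, ?_⟩
  have := congrArg Subtype.val hk
  rwa [Subgroup.coe_pow, Subgroup.coe_one] at this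

/-- a conjugate of a Sylow subgroup fixing `u` fixes the image of `u` -/
theorem smul_sylow_fix (P : Sylow p ↥(Cfsg.SU n F q)) {u : Fin n → F}
    (hP : ∀ y ∈ P, tm y *ᵥ u = u) (g : ↥(Cfsg.SU n F q)) :
    ∀ y ∈ (g • P : Sylow p ↥(Cfsg.SU n F q)), tm y *ᵥ (tm g *ᵥ u) = tm g *ᵥ u := by
  intro y hy
  rw [Cfsg.Agent.Helper1.mem_sylow_smul_iff] at hy
  have h1 := hP _ hy
  rw [tm_mul, tm_mul, ← Matrix.mulVec_mulVec, ← Matrix.mulVec_mulVec] at h1
  have h2 := congrArg (fun v => tm g *ᵥ v) h1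
  beta_reduce at h2
  rwa [Matrix.mulVec_mulVec, tm_mul_inv, Matrix.one_mulVec] at h2

section pair

variable {e f : Fin n → F} (H : HypPair q e f)

include D H

/-- the centre of the image of a Sylow subgroup fixing `e` -/
theorem zz_map_sylow (hF : Fintype.card F = q ^ 2) (hn : 3 ≤ n) (P : Sylow p ↥(Cfsg.SU n F q))
    (hP : ∀ y ∈ P, tm y *ᵥ e = e) :
    zz ((P : Subgroup ↥(Cfsg.SU n F q)).map prU) = Tb D e := by
  rw [zz_map_prU p hF (by omega) P.isPGroup', zz_sylow D p P (e_ne_zero D H) H.huu hP]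
  rfl

/-- (A) the Sylow subgroups with centre `Tb e` contain `Qb e` -/
theorem Qb_le_of_zz (hF : Fintype.card F = q ^ 2) (hn : 3 ≤ n) (P : Sylow p (Cfsg.PSU n F q))
    (hP : zz (P : Subgroup (Cfsg.PSU n F q)) = Tb D e) :
    Qb D e ≤ (P : Subgroup (Cfsg.PSU n F q)) := by
  obtain ⟨P₀, rfl⟩ := Sylow.mapSurjective_surjective prU_surjective p P
  obtain ⟨u, hu0, huu, hfix⟩ := exists_fixed_isotropic D p (by omega) P₀.isPGroup'
  have h1 : Tb D u = Tb D e := by
    rw [← hP, Sylow.coe_mapSurjective, zz_map_prU p hF (by omega) P₀.isPGroup',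
      zz_sylow D p P₀ hu0 huu hfix]
    rfl
  obtain ⟨l, -, hl⟩ := smul_of_Tb_le D p H hF (by omega) h1.ge
  have hfixe : ∀ g ∈ P₀, tm g *ᵥ e = e := by
    intro g hg
    rw [hl, Matrix.mulVec_smul, hfix g hg]
  rw [Sylow.coe_mapSurjective]
  exact Subgroup.map_mono (Qs_le_sylow D p P₀ hfixe)

/-- a Sylow subgroup of `SU_n` fixing `e` -/
theorem exists_sylow_fix (hn : 3 ≤ n) :
    ∃ P : Sylow p ↥(Cfsg.SU n F q), ∀ y ∈ P, tm y *ᵥ e = e := by
  obtain ⟨P₁⟩ : Nonempty (Sylow p ↥(Cfsg.SU n F q)) := inferInstance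
  obtain ⟨u, hu0, huu, hfix⟩ := exists_fixed_isotropic D p (by omega) P₁.isPGroup'
  obtain ⟨g, hg⟩ := exists_SU_mulVec D hn hu0 huu (e_ne_zero D H) H.huu
  refine ⟨g • P₁, ?_⟩
  have := smul_sylow_fix p P₁ hfix g
  rwa [hg] at this

/-- (B) an element lying in all Sylow subgroups with centre `Tb e` lies in `Qb e` -/
theorem mem_Qb_of_forall (hF : Fintype.card F = q ^ 2) (hn : 3 ≤ n) {y : Cfsg.PSU n F q}
    (hy : ∀ P : Sylow p (Cfsg.PSU n F q), zz (P : Subgroup (Cfsg.PSU n F q)) = Tb D e →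
      y ∈ (P : Subgroup (Cfsg.PSU n F q))) : y ∈ Qb D e := by
  obtain ⟨P₀, hP₀⟩ := exists_sylow_fix D p H hn
  have hk : ∀ k : ↥(Cfsg.SU n F q), tm k *ᵥ e = e →
      ∃ x ∈ (k • P₀ : Sylow p ↥(Cfsg.SU n F q)), prU x = y := by
    intro k hke
    have h1 := smul_sylow_fix p P₀ hP₀ k
    rw [hke] at h1
    have h2 := zz_map_sylow D p H hF hn (k • P₀) h1
    have h3 := hy ((k • P₀ : Sylow p ↥(Cfsg.SU n F q)).mapSurjective prU_surjective)
      (by rw [Sylow.coe_mapSurjective]; exact h2)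
    rw [Sylow.coe_mapSurjective] at h3
    obtain ⟨x, hx, hxy⟩ := h3
    exact ⟨x, hx, hxy⟩
  obtain ⟨x, hx, hxy⟩ := hk 1 (by rw [tm_one, Matrix.one_mulVec])
  rw [one_smul] at hx
  -- the core subgroup
  let O : Subgroup ↥(Cfsg.SU n F q) :=
    { carrier := {x | ∀ k : ↥(Cfsg.SU n F q), tm k *ᵥ e = e → k⁻¹ * x * k ∈ P₀}
      one_mem' := by
        intro k _
        rw [mul_one, inv_mul_cancel]
        exact Subgroup.one_mem _
      mul_mem' := by
        intro a b ha hb k hk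
        have : k⁻¹ * (a * b) * k = (k⁻¹ * a * k) * (k⁻¹ * b * k) := by group
        rw [this]
        exact Subgroup.mul_mem _ (ha k hk) (hb k hk)
      inv_mem' := by
        intro a ha k hk
        have : k⁻¹ * a⁻¹ * k = (k⁻¹ * a * k)⁻¹ := by group
        rw [this]
        exact Subgroup.inv_mem _ (ha k hk) }
  have hOmem : ∀ x, x ∈ O ↔ ∀ k : ↥(Cfsg.SU n F q), tm k *ᵥ e = e → k⁻¹ * x * k ∈ P₀ :=
    fun x => Iff.rfl
  have hOP : O ≤ (P₀ : Subgroup ↥(Cfsg.SU n F q)) := by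
    intro x hx
    have := (hOmem x).mp hx 1 (by rw [tm_one, Matrix.one_mulVec])
    rwa [inv_one, one_mul, mul_one] at this
  have hxO : x ∈ O := by
    rw [hOmem]
    intro k hke
    obtain ⟨x', hx', hxy'⟩ := hk k hke
    obtain ⟨a, ha⟩ := sylow_pElement p P₀ hx
    obtain ⟨b, hb⟩ := sylow_pElement p (k • P₀) hx'
    have := prU_inj_pElements p hF (by omega) ha hb (hxy.trans hxy'.symm)
    rw [this]
    exact (Cfsg.Agent.Helper1.mem_sylow_smul_iff P₀ k x').mp hx'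
  have hQO : Qs D e ≤ O := by
    intro u hu
    rw [hOmem]
    intro k hke
    have hke' : tm k⁻¹ *ᵥ e = e := by
      have := tm_inv_mulVec' k e
      rwa [hke] at this
    have := conj_mem_Qs D hu k⁻¹
    rw [hke', inv_inv] at this
    exact Qs_le_sylow D p P₀ hP₀ this
  have hle := le_Qs_of_normal D p H (O' := O) (P₀.isPGroup'.to_le hOP) hQO
    (fun x hx => hP₀ x (hOP hx)) (by
      intro g hge _ x hx
      rw [hOmem] at hx ⊢
      intro k hke
      have hge' : tm g⁻¹ *ᵥ e = e := by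
        have := tm_inv_mulVec' g e
        rwa [hge] at this
      have h1 := hx (g⁻¹ * k) (by rw [tm_mul, ← Matrix.mulVec_mulVec, hke, hge'])
      have : (g⁻¹ * k)⁻¹ * x * (g⁻¹ * k) = k⁻¹ * (g * x * g⁻¹) * k := by group
      rwa [this] at h1)
  exact ⟨x, hle hxO, hxy⟩

include p in
/-- one inclusion of step III -/
theorem map_aut_Qb_le (hF : Fintype.card F = q ^ 2) (hn : 3 ≤ n) (α : MulAut (Cfsg.PSU n F q))
    (hα : (Tb D e).map α.toMonoidHom = Tb D e) : (Qb D e).map α.toMonoidHom ≤ Qb D e := by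
  rintro _ ⟨x, hx, rfl⟩
  apply mem_Qb_of_forall D p H hF hn
  intro P hP
  have hα' : (Tb D e).map (α⁻¹ : MulAut (Cfsg.PSU n F q)).toMonoidHom = Tb D e := by
    conv_lhs => rw [← hα]
    rw [← map_mul_aut, inv_mul_cancel]
    exact Subgroup.map_id _
  have h1 : zz ((α⁻¹ • P : Sylow p (Cfsg.PSU n F q)) : Subgroup (Cfsg.PSU n F q)) = Tb D e := by
    have : ((α⁻¹ • P : Sylow p (Cfsg.PSU n F q)) : Subgroup (Cfsg.PSU n F q))
        = (P : Subgroup (Cfsg.PSU n F q)).map (α⁻¹ : MulAut (Cfsg.PSU n F q)).toMonoidHom := rfl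
    rw [this, zz_map, hP, hα']
  have h2 := Qb_le_of_zz D p H hF hn (α⁻¹ • P) h1 hx
  have h3 : ((α⁻¹ • P : Sylow p (Cfsg.PSU n F q)) : Subgroup (Cfsg.PSU n F q))
      = (P : Subgroup (Cfsg.PSU n F q)).map (α⁻¹ : MulAut (Cfsg.PSU n F q)).toMonoidHom := rfl
  rw [h3] at h2
  obtain ⟨y, hy, hyx⟩ := h2
  have : α x = y := by
    rw [← hyx]
    show α ((α⁻¹ : MulAut (Cfsg.PSU n F q)) y) = y
    exact MulAut.apply_inv_self _ _ _
  show α x ∈ P
  rw [this]
  exact hy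

include p in
/-- **Step III**: an automorphism fixing `Tb e` fixes `Qb e` -/
theorem map_aut_Qb (hF : Fintype.card F = q ^ 2) (hn : 3 ≤ n) (α : MulAut (Cfsg.PSU n F q))
    (hα : (Tb D e).map α.toMonoidHom = Tb D e) : (Qb D e).map α.toMonoidHom = Qb D e := by
  apply le_antisymm (map_aut_Qb_le D p H hF hn α hα)
  have hα' : (Tb D e).map (α⁻¹ : MulAut (Cfsg.PSU n F q)).toMonoidHom = Tb D e := by
    conv_lhs => rw [← hα]
    rw [← map_mul_aut, inv_mul_cancel]
    exact Subgroup.map_id _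
  intro x hx
  have h1 := map_aut_Qb_le D p H hF hn α⁻¹ hα' ⟨x, hx, rfl⟩
  refine ⟨_, h1, ?_⟩
  show α ((α⁻¹ : MulAut (Cfsg.PSU n F q)) x) = x
  exact MulAut.apply_inv_self _ _ _

end pair

end Cfsg.Agent.Helper7.AutPSU
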