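import Cfsg.Agent.Helper7.AutPSU10

/-!
# Automorphisms of `PSU_n`, part 11 (helper7)

Parametrisation of `Qb e` by pairs `(w, c)` with `w ∈ W`; the data `(A, B)` of an automorphism
fixing `Tb e` and `Qb e`.
-/

set_option autoImplicit false
set_option linter.unusedSectionVars false

namespace Cfsg.Agent.Helper7.AutPSU

open Matrix Cfsg.Agent.Helper2.SUGen Cfsg.Agent.S2644 Module

variable {F : Type*} [Field F] [Fintype F] {n q : ℕ} (D : Frob F q)

local notation "h" => Cfsg.hermForm n F q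
local notation "tm" => Cfsg.Agent.S2644.toM F n q

omit [Fintype F] in
theorem exists_T_param {e : Fin n → F} (hee : h e e = 0) {x : ↥(Cfsg.SU n F q)} (hx : x ∈ Ts D e) :
    ∃ s, Valid D e 0 s ∧ x = sgS D e 0 s := by
  obtain ⟨s, rfl⟩ := hx
  by_cases hv : Valid D e 0 s
  · exact ⟨s, hv, rfl⟩
  · exact ⟨0, valid_zero D hee, by rw [sgS_of_not_valid D hv, sgS_zero D hee]⟩

variable (p : ℕ) [Fact p.Prime] [CharP F p]

section pair

variable {e f : Fin n → F} (H : HypPair q e f)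

include D H

omit [Fintype F] in
/-- every element of `Qs e` has parameters in `W` -/
theorem exists_W_param {x : ↥(Cfsg.SU n F q)} (hx : x ∈ Qs D e) :
    ∃ w c, w ∈ Wsub q e f ∧ Valid D e w c ∧ x = sgS D e w c := by
  obtain ⟨w', c', rfl⟩ := hx
  by_cases hv : Valid D e w' c'
  · set a := h w' f with ha
    have hw : w' - a • e ∈ Wsub q e f := by
      constructor
      · rw [h_sub_left, h_smul_left, hv.2.1, H.huu]; ring
      · rw [h_sub_left, h_smul_left, H.huv]; ring
    have hw' : w' = (w' - a • e) + a • e := by module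
    have hv' : Valid D e ((w' - a • e) + a • e) c' := by rw [← hw']; exact hv
    refine ⟨w' - a • e, c' + a - D.σ a, hw, valid_add_smul D hv', ?_⟩
    rw [← sgS_add_smul D hv', ← hw']
  · exact ⟨0, 0, Submodule.zero_mem _, valid_zero D H.huu, by
      rw [sgS_of_not_valid D hv, sgS_zero D H.huu]⟩

include p in
/-- uniqueness of the parameters -/
theorem sgS_inj_W (hF : Fintype.card F = q ^ 2) (hn : 2 ≤ n) {w w' : Fin n → F} {c c' : F}
    (hw : w ∈ Wsub q e f) (hw' : w' ∈ Wsub q e f) (hv : Valid D e w c) (hv' : Valid D e w' c')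
    (heq : prU (sgS D e w c) = prU (sgS D e w' c')) : w = w' ∧ c = c' := by
  have h1 := prU_inj_pElements p hF hn (sgS_pElement D p e w c) (sgS_pElement D p e w' c') heq
  have h2 := congrArg tm h1
  rw [tm_sgS D hv, tm_sgS D hv'] at h2
  exact Sg_inj D H hw.1 hw.2 hw'.1 hw'.2 h2

end pair

/-- the data of an automorphism on `Qb e` -/
def IsQData (α : MulAut (Cfsg.PSU n F q)) (e f : Fin n → F) (A : (Fin n → F) → (Fin n → F))
    (B : (Fin n → F) → F → F) : Prop :=
  ∀ w c, w ∈ Wsub q e f → Valid D e w c →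
    A w ∈ Wsub q e f ∧ Valid D e (A w) (B w c) ∧
      α (prU (sgS D e w c)) = prU (sgS D e (A w) (B w c))

omit [Fintype F] in
theorem exists_QData {e f : Fin n → F} (H : HypPair q e f) (α : MulAut (Cfsg.PSU n F q))
    (hT : (Tb D e).map α.toMonoidHom = Tb D e) (hQ : (Qb D e).map α.toMonoidHom = Qb D e) :
    ∃ A B, IsQData D α e f A B := by
  have L1 : ∀ w, w ∈ Wsub q e f → ∃ w', w' ∈ Wsub q e f ∧ ∀ c, Valid D e w c →
      ∃ c', Valid D e w' c' ∧ α (prU (sgS D e w c)) = prU (sgS D e w' c') := by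
    intro w hw
    obtain ⟨c₀, hc₀⟩ := exists_trace D (-(h w w)) (by rw [map_neg, h_self_fix D])
    have hv₀ : Valid D e w c₀ := ⟨H.huu, hw.1, by rw [hc₀, neg_add_cancel]⟩
    have h1 : α (prU (sgS D e w c₀)) ∈ Qb D e := by
      rw [← hQ]
      exact ⟨_, ⟨_, sgS_mem_Qs D e w c₀, rfl⟩, rfl⟩
    obtain ⟨x', hx', hx'eq⟩ := h1
    obtain ⟨w', c₀', hw', hv₀', rfl⟩ := exists_W_param D H hx'
    refine ⟨w', hw', ?_⟩
    intro c hv
    have hvs : Valid D e 0 (c - c₀) := by
      rw [valid_T_iff D H.huu, map_sub]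
      linear_combination hv.2.2 - hv₀.2.2
    have h2 : α (prU (sgS D e 0 (c - c₀))) ∈ Tb D e := by
      rw [← hT]
      exact ⟨_, ⟨_, ⟨c - c₀, rfl⟩, rfl⟩, rfl⟩
    obtain ⟨t', ht', ht'eq⟩ := h2
    obtain ⟨s', hvs', rfl⟩ := exists_T_param D H.huu ht'
    have h3 : sgS D e w c = sgS D e w c₀ * sgS D e 0 (c - c₀) := by
      rw [sgS_mul D hv₀ hvs, add_zero, h_zero_left]
      congr 1
      ring
    refine ⟨c₀' + s', ?_, ?_⟩
    · have := valid_mul D hv₀' hvs'
      rwa [add_zero, h_zero_left, sub_zero] at this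
    · rw [h3, map_mul, map_mul, ← hx'eq, ← ht'eq, ← map_mul, sgS_mul D hv₀' hvs', add_zero,
        h_zero_left, sub_zero]
  choose! A hAW hA using L1
  choose! B hB using hA
  exact ⟨A, B, fun w c hw hv => ⟨hAW w hw, hB w hw c hv⟩⟩

end Cfsg.Agent.Helper7.AutPSU
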