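import Cfsg.Agent.Helper7.AutPSU11

/-!
# Automorphisms of `PSU_n`, part 12 (helper7)

Basic properties of the data `(A, B)`: additivity, injectivity, compatibility with inverses.
-/

set_option autoImplicit false
set_option linter.unusedSectionVars false

namespace Cfsg.Agent.Helper7.AutPSU

open Matrix Cfsg.Agent.Helper2.SUGen Cfsg.Agent.S2644 Module

variable {F : Type*} [Field F] [Fintype F] {n q : ℕ} (D : Frob F q)

local notation "h" => Cfsg.hermForm n F q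
local notation "tm" => Cfsg.Agent.S2644.toM F n q

variable (p : ℕ) [Fact p.Prime] [CharP F p]

omit [Fintype F] in
/-- a valid parameter for every vector orthogonal to `e` -/
theorem exists_valid {e w : Fin n → F} (hee : h e e = 0) (hwe : h w e = 0) :
    ∃ c, Valid D e w c := by
  obtain ⟨c, hc⟩ := exists_trace D (-(h w w)) (by rw [map_neg, h_self_fix D])
  exact ⟨c, hee, hwe, by rw [hc, neg_add_cancel]⟩

section pair

variable {e f : Fin n → F} (H : HypPair q e f) (hF : Fintype.card F = q ^ 2) (hn : 2 ≤ n)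
  {α : MulAut (Cfsg.PSU n F q)} {A : (Fin n → F) → (Fin n → F)} {B : (Fin n → F) → F → F}
  (hAB : IsQData D α e f A B)

include D H p hF hn hAB

theorem qdata_mul {w₁ w₂ : Fin n → F} {c₁ c₂ : F} (hw₁ : w₁ ∈ Wsub q e f)
    (hw₂ : w₂ ∈ Wsub q e f) (hv₁ : Valid D e w₁ c₁) (hv₂ : Valid D e w₂ c₂) :
    A (w₁ + w₂) = A w₁ + A w₂ ∧
      B (w₁ + w₂) (c₁ + c₂ - h w₂ w₁) = B w₁ c₁ + B w₂ c₂ - h (A w₂) (A w₁) := by
  obtain ⟨hA₁, hV₁, hE₁⟩ := hAB w₁ c₁ hw₁ hv₁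
  obtain ⟨hA₂, hV₂, hE₂⟩ := hAB w₂ c₂ hw₂ hv₂
  have hw₁₂ : w₁ + w₂ ∈ Wsub q e f := Submodule.add_mem _ hw₁ hw₂
  obtain ⟨hA₃, hV₃, hE₃⟩ := hAB (w₁ + w₂) _ hw₁₂ (valid_mul D hv₁ hv₂)
  rw [← sgS_mul D hv₁ hv₂, map_mul, map_mul, hE₁, hE₂, ← map_mul, sgS_mul D hV₁ hV₂] at hE₃
  exact (sgS_inj_W D p H hF hn (Submodule.add_mem _ hA₁ hA₂) hA₃ (valid_mul D hV₁ hV₂) hV₃
    hE₃).imp Eq.symm Eq.symm

theorem qdata_A_add {w₁ w₂ : Fin n → F} (hw₁ : w₁ ∈ Wsub q e f) (hw₂ : w₂ ∈ Wsub q e f) :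
    A (w₁ + w₂) = A w₁ + A w₂ := by
  obtain ⟨c₁, hv₁⟩ := exists_valid D H.huu hw₁.1
  obtain ⟨c₂, hv₂⟩ := exists_valid D H.huu hw₂.1
  exact (qdata_mul D p H hF hn hAB hw₁ hw₂ hv₁ hv₂).1

theorem qdata_A_zero : A 0 = 0 := by
  have := qdata_A_add D p H hF hn hAB (Submodule.zero_mem _) (Submodule.zero_mem _)
  rw [add_zero] at this
  exact left_eq_add.mp this

theorem qdata_B_shift {w : Fin n → F} {c s : F} (hw : w ∈ Wsub q e f) (hv : Valid D e w c)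
    (hs : Valid D e 0 s) : B w (c + s) = B w c + B 0 s := by
  have := (qdata_mul D p H hF hn hAB hw (Submodule.zero_mem _) hv hs).2
  rw [add_zero, h_zero_left, sub_zero, qdata_A_zero D p H hF hn hAB, h_zero_left, sub_zero] at this
  exact this

theorem qdata_B_zero : B 0 0 = 0 := by
  have := qdata_B_shift D p H hF hn hAB (Submodule.zero_mem _) (valid_zero D H.huu)
    (valid_zero D H.huu)
  rw [add_zero] at this
  exact left_eq_add.mp this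

/-- compatibility with inverses -/
theorem qdata_inv {w : Fin n → F} {c : F} (hw : w ∈ Wsub q e f) (hv : Valid D e w c) :
    A (-w) = - A w ∧ B (-w) (D.σ c) = D.σ (B w c) := by
  obtain ⟨hA₁, hV₁, hE₁⟩ := hAB w c hw hv
  have hnw : -w ∈ Wsub q e f := Submodule.neg_mem _ hw
  obtain ⟨hA₂, hV₂, hE₂⟩ := hAB (-w) _ hnw (valid_inv D hv)
  rw [← sgS_inv D hv, map_inv, map_inv, hE₁, ← map_inv, sgS_inv D hV₁] at hE₂
  exact (sgS_inj_W D p H hF hn (Submodule.neg_mem _ hA₁) hA₂ (valid_inv D hV₁) hV₂ hE₂).imp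
    Eq.symm Eq.symm

theorem qdata_A_neg {w : Fin n → F} (hw : w ∈ Wsub q e f) : A (-w) = - A w := by
  obtain ⟨c, hv⟩ := exists_valid D H.huu hw.1
  exact (qdata_inv D p H hF hn hAB hw hv).1

theorem qdata_A_sub {w₁ w₂ : Fin n → F} (hw₁ : w₁ ∈ Wsub q e f) (hw₂ : w₂ ∈ Wsub q e f) :
    A (w₁ - w₂) = A w₁ - A w₂ := by
  rw [sub_eq_add_neg, qdata_A_add D p H hF hn hAB hw₁ (Submodule.neg_mem _ hw₂),
    qdata_A_neg D p H hF hn hAB hw₂, ← sub_eq_add_neg]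

/-- injectivity -/
theorem qdata_A_inj (hT : (Tb D e).map α.toMonoidHom = Tb D e) {w : Fin n → F}
    (hw : w ∈ Wsub q e f) (hA0 : A w = 0) : w = 0 := by
  obtain ⟨c, hv⟩ := exists_valid D H.huu hw.1
  obtain ⟨-, hV₁, hE₁⟩ := hAB w c hw hv
  rw [hA0] at hV₁ hE₁
  have h1 : α (prU (sgS D e w c)) ∈ (Tb D e).map α.toMonoidHom := by
    rw [hT, hE₁]
    exact ⟨_, ⟨_, rfl⟩, rfl⟩
  obtain ⟨y, hy, hyeq⟩ := h1
  have h2 : y = prU (sgS D e w c) := α.injective hyeq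
  rw [h2] at hy
  obtain ⟨t, ht, hteq⟩ := hy
  obtain ⟨s, hvs, rfl⟩ := exists_T_param D H.huu ht
  exact ((sgS_inj_W D p H hF hn (Submodule.zero_mem _) hw hvs hv hteq).1).symm

theorem qdata_A_inj' (hT : (Tb D e).map α.toMonoidHom = Tb D e) {w₁ w₂ : Fin n → F}
    (hw₁ : w₁ ∈ Wsub q e f) (hw₂ : w₂ ∈ Wsub q e f) (heq : A w₁ = A w₂) : w₁ = w₂ := by
  have := qdata_A_inj D p H hF hn hAB hT (Submodule.sub_mem _ hw₁ hw₂)
    (by rw [qdata_A_sub D p H hF hn hAB hw₁ hw₂, heq, sub_self])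
  exact sub_eq_zero.mp this

/-- surjectivity -/
theorem qdata_A_surj (hQ : (Qb D e).map α.toMonoidHom = Qb D e) {w' : Fin n → F}
    (hw' : w' ∈ Wsub q e f) : ∃ w ∈ Wsub q e f, A w = w' := by
  obtain ⟨c', hv'⟩ := exists_valid D H.huu hw'.1
  have h1 : prU (sgS D e w' c') ∈ (Qb D e).map α.toMonoidHom := by
    rw [hQ]
    exact ⟨_, sgS_mem_Qs D e w' c', rfl⟩
  obtain ⟨y, ⟨x, hx, rfl⟩, hyeq⟩ := h1
  obtain ⟨w, c, hw, hv, rfl⟩ := exists_W_param D H hx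
  obtain ⟨hA₁, hV₁, hE₁⟩ := hAB w c hw hv
  refine ⟨w, hw, ?_⟩
  have : α (prU (sgS D e w c)) = prU (sgS D e w' c') := hyeq
  rw [hE₁] at this
  exact (sgS_inj_W D p H hF hn hA₁ hw' hV₁ hv' this).1

/-- the image of a nonzero transvection parameter is nonzero -/
theorem qdata_B_zero_ne {s : F} (hs : Valid D e 0 s) (hs0 : s ≠ 0) : B 0 s ≠ 0 := by
  intro h0
  obtain ⟨-, hV₁, hE₁⟩ := hAB 0 s (Submodule.zero_mem _) hs
  rw [qdata_A_zero D p H hF hn hAB, h0, sgS_zero D H.huu, map_one] at hE₁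
  have h1 : prU (sgS D e 0 s) = 1 := by
    apply α.injective
    rw [hE₁, map_one]
  rw [← map_one prU, ← sgS_zero D H.huu] at h1
  exact hs0 (sgS_inj_W D p H hF hn (Submodule.zero_mem _) (Submodule.zero_mem _) hs
    (valid_zero D H.huu) h1).2

end pair

end Cfsg.Agent.Helper7.AutPSU
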