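import Cfsg.Agent.Helper7.AutPSU12

/-!
# Automorphisms of `PSU_n`, part 13 (helper7)

The relation between the data of a normalised automorphism on `Qb e` and on `Qb f`:
`A (c⁻¹ w) = (B' w c)⁻¹ A' w` and `B (c⁻¹ w) c⁻¹ = (B' w c)⁻¹`.
-/

set_option autoImplicit false
set_option linter.unusedSectionVars false

namespace Cfsg.Agent.Helper7.AutPSU

open Matrix Cfsg.Agent.Helper2.SUGen Cfsg.Agent.S2644 Module

variable {F : Type*} [Field F] [Fintype F] {n q : ℕ} (D : Frob F q)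

local notation "h" => Cfsg.hermForm n F q
local notation "tm" => Cfsg.Agent.S2644.toM F n q

omit [Fintype F] in
theorem Wsub_comm (e f : Fin n → F) : Wsub q f e = Wsub q e f := by
  ext w
  exact and_comm

theorem map_conj_map {G : Type*} [Group G] (α : MulAut G) (x : G) (K : Subgroup G) :
    (K.map (MulAut.conj x).toMonoidHom).map α.toMonoidHom
      = (K.map α.toMonoidHom).map (MulAut.conj (α x)).toMonoidHom := by
  ext y
  constructor
  · rintro ⟨_, ⟨k, hk, rfl⟩, rfl⟩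
    refine ⟨α k, ⟨k, hk, rfl⟩, ?_⟩
    show α x * α k * (α x)⁻¹ = α (x * k * x⁻¹)
    rw [map_mul, map_mul, map_inv]
  · rintro ⟨_, ⟨k, hk, rfl⟩, rfl⟩
    refine ⟨x * k * x⁻¹, ⟨k, hk, rfl⟩, ?_⟩
    show α (x * k * x⁻¹) = α x * α k * (α x)⁻¹
    rw [map_mul, map_mul, map_inv]

variable (p : ℕ) [Fact p.Prime] [CharP F p]

omit [Fintype F] in
/-- validity of the inverted parameters -/
theorem valid_invert {e w : Fin n → F} {c : F} (hee : h e e = 0) (hwe : h w e = 0)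
    (hc : c + D.σ c + h w w = 0) (hc0 : c ≠ 0) : Valid D e (c⁻¹ • w) c⁻¹ := by
  refine ⟨hee, by rw [h_smul_left, hwe, mul_zero], ?_⟩
  have hσc : D.σ c ≠ 0 := σ_ne_zero D hc0
  rw [h_smul_left, h_smul_right D, map_inv₀]
  field_simp
  linear_combination hc

section pair

variable {e f : Fin n → F} (H : HypPair q e f) (hF : Fintype.card F = q ^ 2) (hn : 2 ≤ n)
  {α : MulAut (Cfsg.PSU n F q)} {A A' : (Fin n → F) → (Fin n → F)} {B B' : (Fin n → F) → F → F}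
  (hN : Nrm D α e f) (hAB : IsQData D α e f A B) (hAB' : IsQData D α f e A' B')

include D H p hF hn hN hAB hAB'

/-- **the inversion relation** -/
theorem qdata_invert {w : Fin n → F} {c : F} (hw : w ∈ Wsub q e f) (hv : Valid D f w c)
    (hc0 : c ≠ 0) :
    B' w c ≠ 0 ∧ A (c⁻¹ • w) = (B' w c)⁻¹ • A' w ∧ B (c⁻¹ • w) c⁻¹ = (B' w c)⁻¹ := by
  have Hs := hypPair_symm H
  have hw' : w ∈ Wsub q f e := by rw [Wsub_comm]; exact hw
  have hv₁ : Valid D e (c⁻¹ • w) c⁻¹ := valid_invert D H.huu hw.1 hv.2.2 hc0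
  have hw₁ : c⁻¹ • w ∈ Wsub q e f := Submodule.smul_mem _ _ hw
  obtain ⟨hA₁, hV₁, hE₁⟩ := hAB _ _ hw₁ hv₁
  obtain ⟨hA₂, hV₂, hE₂⟩ := hAB' w c hw' hv
  rw [Wsub_comm] at hA₂
  -- the geometric relation before applying `α`
  have hue : tm (sgS D f w c) *ᵥ e = e + w + c • f := by
    rw [tm_sgS D hv, Sg_mulVec_f D Hs w c hw.1]
  have hvf : tm (sgS D e (c⁻¹ • w) c⁻¹) *ᵥ f = c⁻¹ • (e + w + c • f) := by
    rw [tm_sgS D hv₁, Sg_mulVec_f D H _ _ hw₁.2, smul_add, smul_add, smul_smul,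
      inv_mul_cancel₀ hc0, one_smul]
    abel
  have h1 : (Tb D f).map (MulAut.conj (prU (sgS D e (c⁻¹ • w) c⁻¹))).toMonoidHom
      = (Tb D e).map (MulAut.conj (prU (sgS D f w c))).toMonoidHom := by
    rw [map_conj_Tb, map_conj_Tb, hvf, hue, Tb_smul D _ (inv_ne_zero hc0)]
  have h2 := congrArg (fun K => K.map α.toMonoidHom) h1
  beta_reduce at h2
  rw [map_conj_map, map_conj_map, hN.1, hN.2, hE₁, hE₂, map_conj_Tb, map_conj_Tb,
    tm_sgS D hV₁, tm_sgS D hV₂, Sg_mulVec_f D H _ _ hA₁.2, Sg_mulVec_f D Hs _ _ hA₂.1] at h2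
  set y₁ := f + A (c⁻¹ • w) + B (c⁻¹ • w) c⁻¹ • e with hy₁
  set y₂ := e + A' w + B' w c • f with hy₂
  have hy₁e : h y₁ e = 1 := by
    rw [hy₁, h_add_left, h_add_left, h_smul_left, H.hvu, hA₁.1, H.huu]
    ring
  have hy₁f : h y₁ f = B (c⁻¹ • w) c⁻¹ := by
    rw [hy₁, h_add_left, h_add_left, h_smul_left, H.hvv, hA₁.2, H.huv]
    ring
  have hy₂e : h y₂ e = B' w c := by
    rw [hy₂, h_add_left, h_add_left, h_smul_left, H.huu, hA₂.1, H.hvu]
    ring
  have hy₂f : h y₂ f = 1 := by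
    rw [hy₂, h_add_left, h_add_left, h_smul_left, H.huv, hA₂.2, H.hvv]
    ring
  have hy₁0 : y₁ ≠ 0 := by
    intro h0
    rw [h0, h_zero_left] at hy₁e
    exact zero_ne_one hy₁e
  have hy₁y₁ : h y₁ y₁ = 0 := by
    have := toM_pres (sgS D e (A (c⁻¹ • w)) (B (c⁻¹ • w) c⁻¹)) f f
    rw [tm_sgS D hV₁, Sg_mulVec_f D H _ _ hA₁.2, H.hvv] at this
    exact this
  obtain ⟨f₁, H₁⟩ := exists_hypPair D hy₁0 hy₁y₁
  obtain ⟨l, hl0, hl⟩ := smul_of_Tb_le D p H₁ hF hn h2.le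
  have e1 : (1 : F) = l * B' w c := by
    have := congrArg (fun z => h z e) hl
    beta_reduce at this
    rwa [hy₁e, h_smul_left, hy₂e] at this
  have e2 : B (c⁻¹ • w) c⁻¹ = l := by
    have := congrArg (fun z => h z f) hl
    beta_reduce at this
    rwa [hy₁f, h_smul_left, hy₂f, mul_one] at this
  have hB0 : B' w c ≠ 0 := by
    intro h0
    rw [h0, mul_zero] at e1
    exact one_ne_zero e1
  have hl' : l = (B' w c)⁻¹ := by
    exact eq_inv_of_mul_eq_one_left e1.symm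
  refine ⟨hB0, ?_, by rw [e2, hl']⟩
  have e3 : A (c⁻¹ • w) = y₁ - h y₁ f • e - h y₁ e • f := by
    rw [hy₁f, hy₁e, hy₁]
    module
  have e4 : l • A' w = l • y₂ - h (l • y₂) f • e - h (l • y₂) e • f := by
    rw [h_smul_left, h_smul_left, hy₂f, hy₂e, hy₂]
    module
  rw [e3, hl, ← hl', e4]

end pair

end Cfsg.Agent.Helper7.AutPSU
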