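import Cfsg.Agent.Helper7.AutPSU13

/-!
# Automorphisms of `PSU_n`, part 14 (helper7)

The bundled setup of a normalised automorphism, and the preservation of anisotropic lines.
-/

set_option autoImplicit false
set_option linter.unusedSectionVars false

namespace Cfsg.Agent.Helper7.AutPSU

open Matrix Cfsg.Agent.Helper2.SUGen Cfsg.Agent.S2644 Module

variable {F : Type*} [Field F] [Fintype F] {n q : ℕ} (D : Frob F q)

local notation "h" => Cfsg.hermForm n F q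
local notation "tm" => Cfsg.Agent.S2644.toM F n q

/-- a normalised automorphism together with its data on `Qb e` and `Qb f` -/
structure NSetup (D : Frob F q) (p : ℕ) (e f : Fin n → F) (α : MulAut (Cfsg.PSU n F q))
    (A A' : (Fin n → F) → (Fin n → F)) (B B' : (Fin n → F) → F → F) : Prop where
  H : HypPair q e f
  hF : Fintype.card F = q ^ 2
  hn : 3 ≤ n
  hN : Nrm D α e f
  hAB : IsQData D α e f A B
  hAB' : IsQData D α f e A' B'

variable (p : ℕ) [Fact p.Prime] [CharP F p]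

theorem exists_NSetup (hF : Fintype.card F = q ^ 2) (hn : 3 ≤ n) {e f : Fin n → F}
    (H : HypPair q e f) {α : MulAut (Cfsg.PSU n F q)} (hN : Nrm D α e f) :
    ∃ A A' B B', NSetup D p e f α A A' B B' := by
  have Hs := hypPair_symm H
  obtain ⟨A, B, hAB⟩ := exists_QData D H α hN.1 (map_aut_Qb D p H hF hn α hN.1)
  obtain ⟨A', B', hAB'⟩ := exists_QData D Hs α hN.2 (map_aut_Qb D p Hs hF hn α hN.2)
  exact ⟨A, A', B, B', H, hF, hn, hN, hAB, hAB'⟩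

namespace NSetup

variable {D p}
variable {e f : Fin n → F} {α : MulAut (Cfsg.PSU n F q)}
  {A A' : (Fin n → F) → (Fin n → F)} {B B' : (Fin n → F) → F → F}
  (S : NSetup D p e f α A A' B B')

include S

theorem symm : NSetup D p f e α A' A B' B :=
  ⟨hypPair_symm S.H, S.hF, S.hn, ⟨S.hN.2, S.hN.1⟩, S.hAB', S.hAB⟩

theorem hn2 : 2 ≤ n := le_trans (by norm_num) S.hn

theorem hQ : (Qb D e).map α.toMonoidHom = Qb D e := map_aut_Qb D p S.H S.hF S.hn α S.hN.1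

theorem A_mem {w : Fin n → F} (hw : w ∈ Wsub q e f) : A w ∈ Wsub q e f := by
  obtain ⟨c, hv⟩ := exists_valid D S.H.huu hw.1
  exact (S.hAB w c hw hv).1

theorem B_valid {w : Fin n → F} {c : F} (hw : w ∈ Wsub q e f) (hv : Valid D e w c) :
    Valid D e (A w) (B w c) := (S.hAB w c hw hv).2.1

theorem map_sgS {w : Fin n → F} {c : F} (hw : w ∈ Wsub q e f) (hv : Valid D e w c) :
    α (prU (sgS D e w c)) = prU (sgS D e (A w) (B w c)) := (S.hAB w c hw hv).2.2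

theorem A_add {w₁ w₂ : Fin n → F} (hw₁ : w₁ ∈ Wsub q e f) (hw₂ : w₂ ∈ Wsub q e f) :
    A (w₁ + w₂) = A w₁ + A w₂ := qdata_A_add D p S.H S.hF S.hn2 S.hAB hw₁ hw₂

theorem A_zero : A 0 = 0 := qdata_A_zero D p S.H S.hF S.hn2 S.hAB

theorem A_neg {w : Fin n → F} (hw : w ∈ Wsub q e f) : A (-w) = - A w :=
  qdata_A_neg D p S.H S.hF S.hn2 S.hAB hw

theorem A_sub {w₁ w₂ : Fin n → F} (hw₁ : w₁ ∈ Wsub q e f) (hw₂ : w₂ ∈ Wsub q e f) :
    A (w₁ - w₂) = A w₁ - A w₂ := qdata_A_sub D p S.H S.hF S.hn2 S.hAB hw₁ hw₂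

theorem A_inj {w : Fin n → F} (hw : w ∈ Wsub q e f) (hA0 : A w = 0) : w = 0 :=
  qdata_A_inj D p S.H S.hF S.hn2 S.hAB S.hN.1 hw hA0

theorem A_inj' {w₁ w₂ : Fin n → F} (hw₁ : w₁ ∈ Wsub q e f) (hw₂ : w₂ ∈ Wsub q e f)
    (heq : A w₁ = A w₂) : w₁ = w₂ := qdata_A_inj' D p S.H S.hF S.hn2 S.hAB S.hN.1 hw₁ hw₂ heq

theorem A_surj {w' : Fin n → F} (hw' : w' ∈ Wsub q e f) : ∃ w ∈ Wsub q e f, A w = w' :=
  qdata_A_surj D p S.H S.hF S.hn2 S.hAB S.hQ hw'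

theorem B_mul {w₁ w₂ : Fin n → F} {c₁ c₂ : F} (hw₁ : w₁ ∈ Wsub q e f)
    (hw₂ : w₂ ∈ Wsub q e f) (hv₁ : Valid D e w₁ c₁) (hv₂ : Valid D e w₂ c₂) :
    B (w₁ + w₂) (c₁ + c₂ - h w₂ w₁) = B w₁ c₁ + B w₂ c₂ - h (A w₂) (A w₁) :=
  (qdata_mul D p S.H S.hF S.hn2 S.hAB hw₁ hw₂ hv₁ hv₂).2

theorem B_shift {w : Fin n → F} {c s : F} (hw : w ∈ Wsub q e f) (hv : Valid D e w c)
    (hs : Valid D e 0 s) : B w (c + s) = B w c + B 0 s :=
  qdata_B_shift D p S.H S.hF S.hn2 S.hAB hw hv hs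

theorem B_zero_ne {s : F} (hs : Valid D e 0 s) (hs0 : s ≠ 0) : B 0 s ≠ 0 :=
  qdata_B_zero_ne D p S.H S.hF S.hn2 S.hAB hs hs0

theorem invert {w : Fin n → F} {c : F} (hw : w ∈ Wsub q e f) (hv : Valid D f w c)
    (hc0 : c ≠ 0) :
    B' w c ≠ 0 ∧ A (c⁻¹ • w) = (B' w c)⁻¹ • A' w ∧ B (c⁻¹ • w) c⁻¹ = (B' w c)⁻¹ :=
  qdata_invert D p S.H S.hF S.hn2 S.hN S.hAB S.hAB' hw hv hc0

end NSetup

end Cfsg.Agent.Helper7.AutPSU
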