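import Cfsg.Agent.Helper7.AutPSU14

/-!
# Automorphisms of `PSU_n`, part 15 (helper7)

A normalised automorphism preserves the anisotropic lines of `⟨e, f⟩^⊥`.
-/

set_option autoImplicit false
set_option linter.unusedSectionVars false

namespace Cfsg.Agent.Helper7.AutPSU

open Matrix Cfsg.Agent.Helper2.SUGen Cfsg.Agent.S2644 Module

variable {F : Type*} [Field F] {n q : ℕ} (D : Frob F q)

local notation "h" => Cfsg.hermForm n F q
local notation "tm" => Cfsg.Agent.S2644.toM F n q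

/-- two elements with the same nonzero trace give a decomposition of the field into two
skew lines -/
theorem skew_decomp {d₀ d₁ θ : F} (h0 : d₀ + D.σ d₀ = θ) (h1 : d₁ + D.σ d₁ = θ) (hθ : θ ≠ 0)
    (hne : d₀ ≠ d₁) (t : F) :
    ∃ s₀ s₁, D.σ s₀ = -s₀ ∧ D.σ s₁ = -s₁ ∧ t = s₀ / d₀ + s₁ / d₁ := by
  have hd₀ : d₀ ≠ 0 := by
    rintro rfl
    rw [map_zero, add_zero] at h0
    exact hθ h0.symm
  have hd₁ : d₁ ≠ 0 := by
    rintro rfl
    rw [map_zero, add_zero] at h1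
    exact hθ h1.symm
  have hdd : d₁ - d₀ ≠ 0 := sub_ne_zero.mpr (Ne.symm hne)
  have hσθ : D.σ θ = θ := by rw [← h0, map_add, D.invol, add_comm]
  obtain ⟨T, hT⟩ : ∃ T, T = t * d₀ * d₁ / (d₁ - d₀) := ⟨_, rfl⟩
  obtain ⟨m, hm⟩ : ∃ m, m = (T + D.σ T) / θ := ⟨_, rfl⟩
  have hσm : D.σ m = m := by
    rw [hm, map_div₀, map_add, D.invol, hσθ, add_comm]
  have hmθ : m * θ = T + D.σ T := by
    rw [hm]
    field_simp
  refine ⟨T - m * d₀, m * d₁ - T, ?_, ?_, ?_⟩
  · rw [map_sub, map_mul, hσm]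
    have : D.σ d₀ = θ - d₀ := by rw [← h0]; ring
    rw [this]
    linear_combination -hmθ
  · rw [map_sub, map_mul, hσm]
    have : D.σ d₁ = θ - d₁ := by rw [← h1]; ring
    rw [this]
    linear_combination hmθ
  · have hT' : T * (d₁ - d₀) = t * d₀ * d₁ := by
      rw [hT]
      field_simp
    field_simp
    linear_combination -hT'

variable [Fintype F] {p : ℕ} [Fact p.Prime] [CharP F p]
variable {e f : Fin n → F} {α : MulAut (Cfsg.PSU n F q)}
  {A A' : (Fin n → F) → (Fin n → F)} {B B' : (Fin n → F) → F → F}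

namespace NSetup

variable {D}
variable (S : NSetup D p e f α A A' B B')

include S

/-- the set of scalars along which `A'` stays on the line of `w` is closed under subtraction -/
theorem line_sub' {w : Fin n → F} (hw : w ∈ Wsub q e f) {t₁ t₂ : F}
    (h₁ : ∃ r : F, A' (t₁ • w) = r • A' w) (h₂ : ∃ r : F, A' (t₂ • w) = r • A' w) :
    ∃ r : F, A' ((t₁ - t₂) • w) = r • A' w := by
  obtain ⟨r₁, hr₁⟩ := h₁
  obtain ⟨r₂, hr₂⟩ := h₂
  have hw' : w ∈ Wsub q f e := by rw [Wsub_comm]; exact hw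
  refine ⟨r₁ - r₂, ?_⟩
  rw [sub_smul, S.symm.A_sub (Submodule.smul_mem _ _ hw') (Submodule.smul_mem _ _ hw'), hr₁, hr₂,
    sub_smul]

theorem line_add' {w : Fin n → F} (hw : w ∈ Wsub q e f) {t₁ t₂ : F}
    (h₁ : ∃ r : F, A' (t₁ • w) = r • A' w) (h₂ : ∃ r : F, A' (t₂ • w) = r • A' w) :
    ∃ r : F, A' ((t₁ + t₂) • w) = r • A' w := by
  obtain ⟨r₁, hr₁⟩ := h₁
  obtain ⟨r₂, hr₂⟩ := h₂
  have hw' : w ∈ Wsub q f e := by rw [Wsub_comm]; exact hw
  refine ⟨r₁ + r₂, ?_⟩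
  rw [add_smul, S.symm.A_add (Submodule.smul_mem _ _ hw') (Submodule.smul_mem _ _ hw'), hr₁, hr₂,
    add_smul]

/-- the basic quotients `σ c / d` -/
theorem line_quot' {w : Fin n → F} (hw : w ∈ Wsub q e f) (hww : h w w ≠ 0) {c d : F}
    (hc : c + D.σ c + h w w = 0) (hd : d + D.σ d + h w w = 0) :
    ∃ r : F, A' ((D.σ c / d) • w) = r • A' w := by
  have hw' : w ∈ Wsub q f e := by rw [Wsub_comm]; exact hw
  have hc0 : c ≠ 0 := by
    rintro rfl
    rw [map_zero, add_zero, zero_add] at hc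
    exact hww hc
  have hd0 : d ≠ 0 := by
    rintro rfl
    rw [map_zero, add_zero, zero_add] at hd
    exact hww hd
  have hσc : D.σ c ≠ 0 := σ_ne_zero D hc0
  obtain ⟨hB', hA1, -⟩ := S.invert hw ⟨S.H.hvv, hw.2, hc⟩ hc0
  have hw₁ : c⁻¹ • w ∈ Wsub q f e := Submodule.smul_mem _ _ hw'
  have hv₁ : Valid D e (c⁻¹ • w) (d / (c * D.σ c)) := by
    refine ⟨S.H.huu, by rw [h_smul_left, hw.1, mul_zero], ?_⟩
    rw [h_smul_left, h_smul_right D, map_div₀, map_mul, D.invol, map_inv₀]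
    field_simp
    linear_combination hd
  have hd1 : d / (c * D.σ c) ≠ 0 := div_ne_zero hd0 (mul_ne_zero hc0 hσc)
  obtain ⟨hB, hA2, -⟩ := S.symm.invert hw₁ hv₁ hd1
  have e1 : (d / (c * D.σ c))⁻¹ • c⁻¹ • w = (D.σ c / d) • w := by
    rw [smul_smul]
    congr 1
    field_simp
  rw [e1, hA1, smul_smul] at hA2
  exact ⟨_, hA2⟩

/-- **anisotropic lines**, for the data on `Qb f` -/
theorem line_aniso' {w : Fin n → F} (hw : w ∈ Wsub q e f) (hww : h w w ≠ 0) (t : F) :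
    ∃ r : F, A' (t • w) = r • A' w := by
  obtain ⟨d₀, hd₀⟩ := exists_trace D (-(h w w)) (by rw [map_neg, h_self_fix D])
  obtain ⟨ε, hε0, hε⟩ := exists_skew D
  have hθ : -(h w w) ≠ 0 := neg_ne_zero.mpr hww
  have hd₁ : (d₀ + ε) + D.σ (d₀ + ε) = -(h w w) := by
    rw [map_add, hε]
    linear_combination hd₀
  have hne : d₀ ≠ d₀ + ε := by
    intro h0
    exact hε0 (left_eq_add.mp h0)
  -- skew elements over a point of the trace line
  have key : ∀ d s : F, d + D.σ d = -(h w w) → D.σ s = -s → ∃ r : F, A' ((s / d) • w) = r • A' w := by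
    intro d s hd hs
    have hd' : d + D.σ d + h w w = 0 := by rw [hd, neg_add_cancel]
    have hc : (D.σ d - s) + D.σ (D.σ d - s) + h w w = 0 := by
      rw [map_sub, D.invol, hs]
      linear_combination hd'
    have hc' : D.σ d + D.σ (D.σ d) + h w w = 0 := by
      rw [D.invol]
      linear_combination hd'
    have h1 := S.line_quot' hw hww hc hd'
    have h2 := S.line_quot' hw hww hc' hd'
    have h3 := S.line_sub' hw h1 h2
    have e1 : D.σ (D.σ d - s) / d - D.σ (D.σ d) / d = s / d := by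
      rw [map_sub, D.invol, hs]
      ring
    rwa [e1] at h3
  obtain ⟨s₀, s₁, hs₀, hs₁, rfl⟩ := skew_decomp D hd₀ hd₁ hθ hne t
  exact S.line_add' hw (key d₀ s₀ hd₀ hs₀) (key (d₀ + ε) s₁ hd₁ hs₁)

/-- **anisotropic lines**, for the data on `Qb e` -/
theorem line_aniso {w : Fin n → F} (hw : w ∈ Wsub q e f) (hww : h w w ≠ 0) (t : F) :
    ∃ r : F, A (t • w) = r • A w :=
  S.symm.line_aniso' (by rw [Wsub_comm]; exact hw) hww t

end NSetup

end Cfsg.Agent.Helper7.AutPSU
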