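import Cfsg.Agent.Helper7.AutPSU15

/-!
# Automorphisms of `PSU_n`, part 16 (helper7)

A normalised automorphism preserves the isotropic lines of `⟨e, f⟩^⊥`.
-/

set_option autoImplicit false
set_option linter.unusedSectionVars false

namespace Cfsg.Agent.Helper7.AutPSU

open Matrix Cfsg.Agent.Helper2.SUGen Cfsg.Agent.S2644 Module

variable {F : Type*} [Field F] {n q : ℕ} (D : Frob F q)

local notation "h" => Cfsg.hermForm n F q
local notation "tm" => Cfsg.Agent.S2644.toM F n q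

/-- conjugating a Siegel element at `e` by a transvection with centre `x ⟂ e` -/
theorem sgS_conj_T {e x w : Fin n → F} {c s : F} (hv : Valid D e w c) (hvx : Valid D x 0 s)
    (hex : h e x = 0) :
    Valid D e (w + (s * h w x) • x) c ∧
    sgS D x 0 s * sgS D e w c * (sgS D x 0 s)⁻¹ = sgS D e (w + (s * h w x) • x) c := by
  have h1 : tm (sgS D x 0 s) *ᵥ e = e := by
    rw [tm_sgS D hvx, Sg_mulVec, hex, h_zero_right D]
    module
  have h2 : tm (sgS D x 0 s) *ᵥ w = w + (s * h w x) • x := by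
    rw [tm_sgS D hvx, Sg_mulVec, h_zero_right D]
    module
  have h3 := valid_conj D hv (sgS D x 0 s)
  have h4 := sgS_conj D hv (sgS D x 0 s)
  rw [h1, h2] at h3 h4
  exact ⟨h3, h4⟩

variable [Fintype F] {p : ℕ} [Fact p.Prime] [CharP F p]
variable {e f : Fin n → F} {α : MulAut (Cfsg.PSU n F q)}
  {A A' : (Fin n → F) → (Fin n → F)} {B B' : (Fin n → F) → F → F}

namespace NSetup

variable {D}
variable (S : NSetup D p e f α A A' B B')

include S

/-- the image of the transvection group of an isotropic vector of `⟨e, f⟩^⊥` -/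
theorem exists_image_iso {x : Fin n → F} (hx : x ∈ Wsub q e f) (hx0 : x ≠ 0) (hxx : h x x = 0) :
    ∃ x' ∈ Wsub q e f, x' ≠ 0 ∧ h x' x' = 0 ∧ (Tb D x).map α.toMonoidHom = Tb D x' := by
  obtain ⟨x', hx'0, hx'x', hmap⟩ := map_aut_Tb D p S.hF S.hn α hx0 hxx
  have hn1 : 1 ≤ n := le_trans (by norm_num) S.hn
  have key : ∀ u : Fin n → F, h u u = 0 → h x u = 0 → (Tb D u).map α.toMonoidHom = Tb D u →
      h x' u = 0 := by
    intro u huu hxu hu
    apply orth_of_Tb_commute D S.hF hn1 hx'0 hx'x' huu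
    intro y hy z hz
    rw [← hmap] at hy
    rw [← hu] at hz
    obtain ⟨y₀, hy₀, rfl⟩ := hy
    obtain ⟨z₀, hz₀, rfl⟩ := hz
    show α y₀ * α z₀ = α z₀ * α y₀
    rw [← map_mul, ← map_mul, Tb_commute D hxu y₀ hy₀ z₀ hz₀]
  exact ⟨x', ⟨key e S.H.huu hx.1 S.hN.1, key f S.H.hvv hx.2 S.hN.2⟩, hx'0, hx'x', hmap⟩

/-- **isotropic lines** -/
theorem line_iso {x : Fin n → F} (hx : x ∈ Wsub q e f) (hxx : h x x = 0) (t : F) :
    ∃ r : F, A (t • x) = r • A x := by
  by_cases hx0 : x = 0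
  · subst hx0
    exact ⟨0, by rw [smul_zero, S.A_zero, smul_zero]⟩
  obtain ⟨x', hx', hx'0, hx'x', hmap⟩ := S.exists_image_iso hx hx0 hxx
  obtain ⟨ε, hε0, hε⟩ := exists_skew D
  have hvx : Valid D x 0 ε := (valid_T_iff D hxx).mpr (by rw [hε, add_neg_cancel])
  -- the image of the transvection
  have h1 : α (prU (sgS D x 0 ε)) ∈ Tb D x' := by
    rw [← hmap]
    exact ⟨_, ⟨_, ⟨ε, rfl⟩, rfl⟩, rfl⟩
  obtain ⟨t', ht', ht'eq⟩ := h1
  obtain ⟨s', hvx', rfl⟩ := exists_T_param D hx'x' ht'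
  -- a vector of `W` not orthogonal to `x`
  obtain ⟨w₁, hw₁, hw₁x⟩ : ∃ w₁ ∈ Wsub q e f, h w₁ x ≠ 0 := by
    by_contra hcon
    push Not at hcon
    apply hx0
    apply Wsub_nonDeg D S.H x hx
    intro y hy
    exact h_symm_zero D (hcon y hy)
  have key : ∀ a : F, ∃ r : F, A (a • x) = r • x' := by
    intro a
    obtain ⟨w, hw, hwa⟩ : ∃ w ∈ Wsub q e f, ε * h w x = a := by
      refine ⟨(a / (ε * h w₁ x)) • w₁, Submodule.smul_mem _ _ hw₁, ?_⟩
      rw [h_smul_left]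
      field_simp
    obtain ⟨c, hv⟩ := exists_valid D S.H.huu hw.1
    obtain ⟨hv₂, hconj⟩ := sgS_conj_T D hv hvx (h_symm_zero D hx.1)
    have hAw := S.A_mem hw
    obtain ⟨hv₃, hconj'⟩ := sgS_conj_T D (S.B_valid hw hv) hvx' (h_symm_zero D hx'.1)
    have hax : (ε * h w x) • x ∈ Wsub q e f := Submodule.smul_mem _ _ hx
    have hwax : w + (ε * h w x) • x ∈ Wsub q e f := Submodule.add_mem _ hw hax
    have e1 := congrArg (fun g => α (prU g)) hconj
    beta_reduce at e1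
    rw [map_mul, map_mul, map_inv, map_mul, map_mul, map_inv, ← ht'eq, S.map_sgS hw hv,
      S.map_sgS hwax hv₂, ← map_inv, ← map_mul, ← map_mul, hconj'] at e1
    have e2 := (sgS_inj_W D p S.H S.hF S.hn2
      (Submodule.add_mem _ hAw (Submodule.smul_mem _ _ hx')) (S.A_mem hwax) hv₃
      (S.B_valid hwax hv₂) e1).1
    rw [S.A_add hw hax, hwa] at e2
    exact ⟨s' * h (A w) x', (add_left_cancel e2).symm⟩
  obtain ⟨r₁, hr₁⟩ := key 1
  rw [one_smul] at hr₁
  have hr₁0 : r₁ ≠ 0 := by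
    rintro rfl
    rw [zero_smul] at hr₁
    exact hx0 (S.A_inj hx hr₁)
  obtain ⟨r, hr⟩ := key t
  refine ⟨r / r₁, ?_⟩
  rw [hr, hr₁, smul_smul, div_mul_cancel₀ _ hr₁0]

/-- **all lines** -/
theorem line_all {w : Fin n → F} (hw : w ∈ Wsub q e f) (t : F) :
    ∃ r : F, A (t • w) = r • A w := by
  by_cases hww : h w w = 0
  · exact S.line_iso hw hww t
  · exact S.line_aniso hw hww t

end NSetup

end Cfsg.Agent.Helper7.AutPSU
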