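import Mathlib

/-!
# Automorphisms of `PSU_n`, part 17 (helper7)

An additive injective map preserving all lines of a subspace of dimension at least two is
semilinear (the easy half of the fundamental theorem of projective geometry).
-/

set_option autoImplicit false

namespace Cfsg.Agent.Helper7.AutPSU

variable {F V : Type*} [Field F] [Finite F] [AddCommGroup V] [Module F V]

theorem semilinear_of_lines (W : Submodule F V) (A : V → V)
    (hadd : ∀ w₁ ∈ W, ∀ w₂ ∈ W, A (w₁ + w₂) = A w₁ + A w₂)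
    (hinj : ∀ w ∈ W, A w = 0 → w = 0)
    (hline : ∀ w ∈ W, ∀ t : F, ∃ r : F, A (t • w) = r • A w)
    (hdim : ∀ a : V, ∃ y ∈ W, ∀ c : F, y ≠ c • a) :
    ∃ τ : F →+* F, ∀ w ∈ W, ∀ t : F, A (t • w) = τ t • A w := by
  classical
  have hA0 : A 0 = 0 := by
    have := hadd 0 W.zero_mem 0 W.zero_mem
    rw [add_zero] at this
    exact left_eq_add.mp this
  choose! φ hφ using hline
  have hAne : ∀ w ∈ W, w ≠ 0 → A w ≠ 0 := fun w hw hw0 h0 => hw0 (hinj w hw h0)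
  -- basic properties of the scalar maps
  have φ_zero : ∀ w ∈ W, w ≠ 0 → φ w 0 = 0 := by
    intro w hw hw0
    have h1 := hφ w hw 0
    rw [zero_smul, hA0] at h1
    rcases smul_eq_zero.mp h1.symm with h2 | h2
    · exact h2
    · exact absurd h2 (hAne w hw hw0)
  have φ_one : ∀ w ∈ W, w ≠ 0 → φ w 1 = 1 := by
    intro w hw hw0
    have h1 := hφ w hw 1
    rw [one_smul] at h1
    have h2 : (φ w 1 - 1) • A w = 0 := by rw [sub_smul, one_smul, ← h1, sub_self]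
    rcases smul_eq_zero.mp h2 with h3 | h3
    · exact sub_eq_zero.mp h3
    · exact absurd h3 (hAne w hw hw0)
  have φ_add : ∀ w ∈ W, w ≠ 0 → ∀ s t, φ w (s + t) = φ w s + φ w t := by
    intro w hw hw0 s t
    have h1 := hφ w hw (s + t)
    rw [add_smul, hadd _ (W.smul_mem s hw) _ (W.smul_mem t hw), hφ w hw s, hφ w hw t,
      ← add_smul] at h1
    have h2 : (φ w s + φ w t - φ w (s + t)) • A w = 0 := by rw [sub_smul, h1, sub_self]
    rcases smul_eq_zero.mp h2 with h3 | h3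
    · exact (sub_eq_zero.mp h3).symm
    · exact absurd h3 (hAne w hw hw0)
  have φ_inj : ∀ w ∈ W, w ≠ 0 → Function.Injective (φ w) := by
    intro w hw hw0 s t hst
    have h1 : A ((s - t) • w) = 0 := by
      rw [sub_smul, sub_eq_add_neg, ← neg_smul, hadd _ (W.smul_mem s hw) _ (W.smul_mem (-t) hw),
        hφ w hw s, hφ w hw (-t)]
      have h2 : φ w (-t) = - φ w t := by
        have := φ_add w hw hw0 t (-t)
        rw [add_neg_cancel, φ_zero w hw hw0] at this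
        exact eq_neg_of_add_eq_zero_right this.symm
      rw [h2, hst, neg_smul, add_neg_cancel]
    have h3 := hinj _ (W.smul_mem _ hw) h1
    rcases smul_eq_zero.mp h3 with h4 | h4
    · exact sub_eq_zero.mp h4
    · exact absurd h4 hw0
  have φ_surj : ∀ w ∈ W, w ≠ 0 → Function.Surjective (φ w) := fun w hw hw0 =>
    Finite.injective_iff_surjective.mp (φ_inj w hw hw0)
  -- independent vectors have the same scalar map
  have indep : ∀ w₁ ∈ W, ∀ w₂ ∈ W, w₁ ≠ 0 → (∀ c : F, w₂ ≠ c • w₁) → φ w₁ = φ w₂ := by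
    intro w₁ hw₁ w₂ hw₂ hw₁0 hne
    have hw₂0 : w₂ ≠ 0 := by
      intro h0
      exact hne 0 (by rw [h0, zero_smul])
    have hind : ∀ a b : F, a • w₁ + b • w₂ = 0 → a = 0 ∧ b = 0 := by
      intro a b hab
      have hb : b = 0 := by
        by_contra hb
        apply hne (-(a / b))
        have : b • w₂ = -(a • w₁) := eq_neg_of_add_eq_zero_right hab
        calc w₂ = b⁻¹ • (b • w₂) := by rw [smul_smul, inv_mul_cancel₀ hb, one_smul]
          _ = -(a / b) • w₁ := by rw [this, smul_neg, smul_smul, neg_smul]; congr 2; field_simp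
      rw [hb, zero_smul, add_zero] at hab
      rcases smul_eq_zero.mp hab with h4 | h4
      · exact ⟨h4, hb⟩
      · exact absurd h4 hw₁0
    have hindA : ∀ a b : F, a • A w₁ + b • A w₂ = 0 → a = 0 ∧ b = 0 := by
      intro a b hab
      obtain ⟨t₁, rfl⟩ := φ_surj w₁ hw₁ hw₁0 a
      obtain ⟨t₂, rfl⟩ := φ_surj w₂ hw₂ hw₂0 b
      rw [← hφ w₁ hw₁, ← hφ w₂ hw₂, ← hadd _ (W.smul_mem _ hw₁) _ (W.smul_mem _ hw₂)] at hab
      have h1 := hinj _ (W.add_mem (W.smul_mem _ hw₁) (W.smul_mem _ hw₂)) hab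
      obtain ⟨h2, h3⟩ := hind _ _ h1
      rw [h2, h3, φ_zero w₁ hw₁ hw₁0, φ_zero w₂ hw₂ hw₂0]
      exact ⟨rfl, rfl⟩
    have hsum : w₁ + w₂ ∈ W := W.add_mem hw₁ hw₂
    funext t
    have h1 := hφ (w₁ + w₂) hsum t
    rw [smul_add, hadd _ (W.smul_mem _ hw₁) _ (W.smul_mem _ hw₂), hφ w₁ hw₁, hφ w₂ hw₂,
      hadd _ hw₁ _ hw₂, smul_add] at h1
    have h2 : (φ w₁ t - φ (w₁ + w₂) t) • A w₁ + (φ w₂ t - φ (w₁ + w₂) t) • A w₂ = 0 := by
      rw [sub_smul, sub_smul]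
      have : φ w₁ t • A w₁ - φ (w₁ + w₂) t • A w₁ + (φ w₂ t • A w₂ - φ (w₁ + w₂) t • A w₂)
          = (φ w₁ t • A w₁ + φ w₂ t • A w₂)
            - (φ (w₁ + w₂) t • A w₁ + φ (w₁ + w₂) t • A w₂) := by abel
      rw [this, h1, sub_self]
    obtain ⟨h3, h4⟩ := hindA _ _ h2
    rw [sub_eq_zero.mp h3, sub_eq_zero.mp h4]
  -- all nonzero vectors have the same scalar map
  have all_eq : ∀ w₁ ∈ W, ∀ w₂ ∈ W, w₁ ≠ 0 → w₂ ≠ 0 → φ w₁ = φ w₂ := by
    intro w₁ hw₁ w₂ hw₂ hw₁0 hw₂0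
    by_cases hdep : ∃ c : F, w₂ = c • w₁
    · obtain ⟨c, hc⟩ := hdep
      have hc0 : c ≠ 0 := by
        rintro rfl
        rw [zero_smul] at hc
        exact hw₂0 hc
      obtain ⟨w₃, hw₃, hne⟩ := hdim w₁
      have h1 := indep w₁ hw₁ w₃ hw₃ hw₁0 hne
      have h2 := indep w₂ hw₂ w₃ hw₃ hw₂0 (by
        intro c' h0
        apply hne (c' * c)
        rw [h0, hc, smul_smul])
      rw [h1, h2]
    · push Not at hdep
      exact indep w₁ hw₁ w₂ hw₂ hw₁0 hdep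
  -- the common map is a ring homomorphism
  obtain ⟨w₀, hw₀, hw₀ne⟩ := hdim 0
  have hw₀0 : w₀ ≠ 0 := by
    intro h0
    exact hw₀ne 0 (by rw [h0, smul_zero])
  have φ_mul : ∀ s t, φ w₀ (s * t) = φ w₀ s * φ w₀ t := by
    intro s t
    by_cases ht : t = 0
    · rw [ht, mul_zero, φ_zero w₀ hw₀ hw₀0, mul_zero]
    have htw : t • w₀ ≠ 0 := smul_ne_zero ht hw₀0
    have h1 := hφ w₀ hw₀ (s * t)
    rw [mul_smul, hφ (t • w₀) (W.smul_mem _ hw₀) s, hφ w₀ hw₀ t,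
      all_eq (t • w₀) (W.smul_mem _ hw₀) w₀ hw₀ htw hw₀0, smul_smul] at h1
    have h2 : (φ w₀ s * φ w₀ t - φ w₀ (s * t)) • A w₀ = 0 := by rw [sub_smul, h1, sub_self]
    rcases smul_eq_zero.mp h2 with h3 | h3
    · exact (sub_eq_zero.mp h3).symm
    · exact absurd h3 (hAne w₀ hw₀ hw₀0)
  refine ⟨{ toFun := φ w₀, map_one' := φ_one w₀ hw₀ hw₀0, map_mul' := φ_mul,
            map_zero' := φ_zero w₀ hw₀ hw₀0, map_add' := φ_add w₀ hw₀ hw₀0 }, ?_⟩
  intro w hw t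
  show A (t • w) = φ w₀ t • A w
  by_cases hw0 : w = 0
  · rw [hw0, smul_zero, hA0, smul_zero]
  · rw [hφ w hw t, all_eq w hw w₀ hw₀ hw0 hw₀0]

end Cfsg.Agent.Helper7.AutPSU
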