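import Cfsg.Agent.Helper7.AutPSU16

/-!
# Automorphisms of `PSU_n`, part 18 (helper7)

The torus elements `e ↦ λ e`, `f ↦ (σ λ)⁻¹ f`, `w₀ ↦ (σ λ / λ) w₀` of `SU_n`.
-/

set_option autoImplicit false
set_option linter.unusedSectionVars false

namespace Cfsg.Agent.Helper7.AutPSU

open Matrix Cfsg.Agent.Helper2.SUGen Cfsg.Agent.S2644 Module

variable {F : Type*} [Field F] {n q : ℕ} (D : Frob F q)

local notation "h" => Cfsg.hermForm n F q
local notation "tm" => Cfsg.Agent.S2644.toM F n q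
local notation "T" => Cfsg.unitaryTransvection n q

theorem Dg_pres {e f : Fin n → F} (H : HypPair q e f) {l δ : F} (hl : l * D.σ δ = 1) :
    Pres (q := q) (Dg q e f l δ) := by
  intro z z'
  have hl' : D.σ l * δ = 1 := by
    have := congrArg D.σ hl
    rwa [map_mul, D.invol, map_one] at this
  rw [Dg_mulVec, Dg_mulVec]
  simp only [h_add_left, h_add_right D, h_smul_left, h_smul_right D, H.huu, H.hvv, H.huv, H.hvu,
    map_mul, map_sub, map_one]
  rw [h_conj D f z', h_conj D e z']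
  linear_combination (h z e * h f z') * hl' + (h z f * h e z') * hl

/-- a quasi-reflection is unitary -/
theorem T_pres {w : Fin n → F} {c : F} (hc : c + D.σ c + c * D.σ c * h w w = 0) :
    Pres (q := q) (T w c) := by
  intro z z'
  rw [T_mulVec, T_mulVec]
  simp only [h_add_left, h_add_right D, h_smul_left, h_smul_right D, map_mul]
  rw [h_conj D w z']
  linear_combination (h z w * h w z') * hc

/-- **the torus elements** -/
theorem exists_torus {e f w₀ : Fin n → F} (H : HypPair q e f) (hw₀ : w₀ ∈ Wsub q e f)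
    (hw₀w₀ : h w₀ w₀ ≠ 0) {l : F} (hl : l ≠ 0) :
    ∃ g : ↥(Cfsg.SU n F q), tm g *ᵥ e = l • e ∧ tm g *ᵥ f = (D.σ l)⁻¹ • f ∧
      tm g *ᵥ w₀ = (D.σ l / l) • w₀ := by
  have hσl : D.σ l ≠ 0 := σ_ne_zero D hl
  have hσh : D.σ (h w₀ w₀) = h w₀ w₀ := h_self_fix D w₀
  obtain ⟨c, hcdef⟩ : ∃ c, c = (D.σ l / l - 1) / h w₀ w₀ := ⟨_, rfl⟩
  have hch : c * h w₀ w₀ = D.σ l / l - 1 := by
    rw [hcdef]
    field_simp
  have hσc : D.σ c * h w₀ w₀ = l / D.σ l - 1 := by
    rw [hcdef, map_div₀, map_sub, map_div₀, D.invol, map_one, hσh]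
    field_simp
  have h1 : Pres (q := q) (Dg q e f l (D.σ l)⁻¹) := by
    apply Dg_pres D H
    rw [map_inv₀, D.invol, mul_inv_cancel₀ hl]
  have h2 : Pres (q := q) (T w₀ c) := by
    apply T_pres D
    have e1 : (D.σ l / l - 1) + (l / D.σ l - 1) + (D.σ l / l - 1) * (l / D.σ l - 1) = 0 := by
      field_simp
      ring
    have e2 : c * D.σ c * h w₀ w₀ * h w₀ w₀ = (D.σ l / l - 1) * (l / D.σ l - 1) := by
      rw [← hch, ← hσc]
      ring
    have e3 : (c + D.σ c + c * D.σ c * h w₀ w₀) * h w₀ w₀ = 0 := by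
      rw [← e1, ← hch, ← hσc]
      ring
    rcases mul_eq_zero.mp e3 with h4 | h4
    · exact h4
    · exact absurd h4 hw₀w₀
  have hdet : (Dg q e f l (D.σ l)⁻¹ * T w₀ c).det = 1 := by
    rw [det_mul, det_Dg H, det_T', hch]
    field_simp
    ring
  refine ⟨mkSU _ hdet (h1.mul h2), ?_, ?_, ?_⟩
  · rw [toM_mkSU, ← mulVec_mulVec, T_mulVec, h_symm_zero D hw₀.1, mul_zero, zero_smul, add_zero,
      Dg_mulVec, H.huv, H.huu]
    module
  · rw [toM_mkSU, ← mulVec_mulVec, T_mulVec, h_symm_zero D hw₀.2, mul_zero, zero_smul, add_zero,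
      Dg_mulVec, H.hvv, H.hvu]
    module
  · rw [toM_mkSU, ← mulVec_mulVec, T_mulVec, hch, mulVec_add, mulVec_smul, Dg_mulVec, hw₀.1,
      hw₀.2]
    module

end Cfsg.Agent.Helper7.AutPSU
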