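import Cfsg.Agent.Helper7.AutPSU18

/-!
# Automorphisms of `PSU_n`, part 19 (helper7)

The action of a normalised automorphism on the elements stabilising the two lines `⟨e⟩`, `⟨f⟩`.
-/

set_option autoImplicit false
set_option linter.unusedSectionVars false

namespace Cfsg.Agent.Helper7.AutPSU

open Matrix Cfsg.Agent.Helper2.SUGen Cfsg.Agent.S2644 Module

variable {F : Type*} [Field F] {n q : ℕ} (D : Frob F q)

local notation "h" => Cfsg.hermForm n F q
local notation "tm" => Cfsg.Agent.S2644.toM F n q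

include D in
/-- an element scaling `e` and `f` preserves `⟨e, f⟩^⊥` -/
theorem levi_mem_Wsub {e f w : Fin n → F} {g : ↥(Cfsg.SU n F q)} {l d : F} (hl : l ≠ 0)
    (hd : d ≠ 0) (hge : tm g *ᵥ e = l • e) (hgf : tm g *ᵥ f = d • f) (hw : w ∈ Wsub q e f) :
    tm g *ᵥ w ∈ Wsub q e f := by
  have hp := toM_pres g
  constructor
  · have h1 := hp w e
    rw [hge, h_smul_right D, hw.1] at h1
    rcases mul_eq_zero.mp h1 with h2 | h2
    · exact absurd h2 (σ_ne_zero D hl)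
    · exact h2
  · have h1 := hp w f
    rw [hgf, h_smul_right D, hw.2] at h1
    rcases mul_eq_zero.mp h1 with h2 | h2
    · exact absurd h2 (σ_ne_zero D hd)
    · exact h2

/-- conjugation of a Siegel element by an element scaling `e` -/
theorem sgS_conj_levi {e w : Fin n → F} {c : F} (hv : Valid D e w c) {g : ↥(Cfsg.SU n F q)}
    {l : F} (hl : l ≠ 0) (hge : tm g *ᵥ e = l • e) :
    Valid D e (D.σ l • tm g *ᵥ w) (l * D.σ l * c) ∧
      g * sgS D e w c * g⁻¹ = sgS D e (D.σ l • tm g *ᵥ w) (l * D.σ l * c) := by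
  have h1 := valid_conj D hv g
  have h2 := sgS_conj D hv g
  rw [hge] at h1 h2
  exact ⟨valid_smul D h1 hl, by rw [h2, sgS_smul D h1 hl]⟩

variable [Fintype F] {p : ℕ} [Fact p.Prime] [CharP F p]
variable {e f : Fin n → F} {α : MulAut (Cfsg.PSU n F q)}
  {A A' : (Fin n → F) → (Fin n → F)} {B B' : (Fin n → F) → F → F}

namespace NSetup

variable {D}
variable (S : NSetup D p e f α A A' B B')

include S

/-- the image of an element scaling `e` scales `e` -/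
theorem levi_image_e {g g' : ↥(Cfsg.SU n F q)} {l : F} (hl : l ≠ 0) (hge : tm g *ᵥ e = l • e)
    (hg' : α (prU g) = prU g') : ∃ l' : F, l' ≠ 0 ∧ tm g' *ᵥ e = l' • e := by
  have h1 : Tb D (tm g' *ᵥ e) = Tb D e := by
    rw [← map_conj_Tb, ← hg']
    conv_lhs => rw [← S.hN.1]
    rw [← map_conj_map, map_conj_Tb, hge, Tb_smul D e hl, S.hN.1]
  obtain ⟨l₁, hl₁0, hl₁⟩ := smul_of_Tb_le D p S.H S.hF S.hn2 h1.ge
  refine ⟨l₁⁻¹, inv_ne_zero hl₁0, ?_⟩
  calc tm g' *ᵥ e = l₁⁻¹ • (l₁ • tm g' *ᵥ e) := by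
        rw [smul_smul, inv_mul_cancel₀ hl₁0, one_smul]
    _ = l₁⁻¹ • e := by rw [← hl₁]

/-- **the relation of the data with the elements scaling `e` and `f`** -/
theorem levi_rel {g g' : ↥(Cfsg.SU n F q)} {l d l' d' : F} (hl : l ≠ 0) (hd : d ≠ 0)
    (hl' : l' ≠ 0) (hd' : d' ≠ 0) (hge : tm g *ᵥ e = l • e) (hgf : tm g *ᵥ f = d • f)
    (hge' : tm g' *ᵥ e = l' • e) (hgf' : tm g' *ᵥ f = d' • f) (hg' : α (prU g) = prU g')
    {w : Fin n → F} (hw : w ∈ Wsub q e f) :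
    A (D.σ l • tm g *ᵥ w) = D.σ l' • tm g' *ᵥ (A w) := by
  obtain ⟨c, hv⟩ := exists_valid D S.H.huu hw.1
  obtain ⟨hv₁, hc₁⟩ := sgS_conj_levi D hv hl hge
  obtain ⟨hv₂, hc₂⟩ := sgS_conj_levi D (S.B_valid hw hv) hl' hge'
  have hw₁ : D.σ l • tm g *ᵥ w ∈ Wsub q e f :=
    Submodule.smul_mem _ _ (levi_mem_Wsub D hl hd hge hgf hw)
  have hw₂ : D.σ l' • tm g' *ᵥ (A w) ∈ Wsub q e f :=
    Submodule.smul_mem _ _ (levi_mem_Wsub D hl' hd' hge' hgf' (S.A_mem hw))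
  have e1 := congrArg (fun x => α (prU x)) hc₁
  beta_reduce at e1
  rw [map_mul, map_mul, map_inv, map_mul, map_mul, map_inv, hg', S.map_sgS hw hv,
    S.map_sgS hw₁ hv₁, ← map_inv, ← map_mul, ← map_mul, hc₂] at e1
  exact ((sgS_inj_W D p S.H S.hF S.hn2 hw₂ (S.A_mem hw₁) hv₂ (S.B_valid hw₁ hv₁) e1).1).symm

end NSetup

end Cfsg.Agent.Helper7.AutPSU
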