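import Cfsg.Agent.Helper7.AutPSU1

/-!
# Automorphisms of `PSU_n`, part 2 (helper7)

`Qs e` and `Ts e` are `p`-groups; a `p`-subgroup of `SU_n` fixes a nonzero isotropic vector.
-/

set_option autoImplicit false
set_option linter.unusedSectionVars false

namespace Cfsg.Agent.Helper7.AutPSU

open Matrix Cfsg.Agent.Helper2.SUGen Cfsg.Agent.S2644 Module

variable {F : Type*} [Field F] {n q : ℕ} (D : Frob F q)

local notation "h" => Cfsg.hermForm n F q
local notation "tm" => Cfsg.Agent.S2644.toM F n q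

theorem sgS_zero_pow {e : Fin n → F} {c : F} (hv : Valid D e 0 c) (k : ℕ) :
    Valid D e 0 (k • c) ∧ sgS D e 0 c ^ k = sgS D e 0 (k • c) := by
  induction k with
  | zero =>
    rw [zero_smul, pow_zero]
    exact ⟨valid_zero D hv.1, (sgS_zero D hv.1).symm⟩
  | succ k ih =>
    obtain ⟨h1, h2⟩ := ih
    have h3 := valid_mul D h1 hv
    have h4 := sgS_mul D h1 hv
    rw [add_zero, h_zero_left, sub_zero, ← succ_nsmul] at h3 h4
    exact ⟨h3, by rw [pow_succ, h2, h4]⟩

theorem sgS_pow {e w : Fin n → F} {c : F} (hv : Valid D e w c) (k : ℕ) :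
    ∃ c', Valid D e (k • w) c' ∧ sgS D e w c ^ k = sgS D e (k • w) c' := by
  induction k with
  | zero =>
    rw [zero_smul, pow_zero]
    exact ⟨0, valid_zero D hv.1, (sgS_zero D hv.1).symm⟩
  | succ k ih =>
    obtain ⟨c', h1, h2⟩ := ih
    have h3 := valid_mul D h1 hv
    have h4 := sgS_mul D h1 hv
    rw [← succ_nsmul] at h3 h4
    exact ⟨_, h3, by rw [pow_succ, h2, h4]⟩

variable (p : ℕ) [Fact p.Prime] [CharP F p]

theorem nsmul_char_vec (w : Fin n → F) : p • w = 0 := by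
  rw [← Nat.cast_smul_eq_nsmul F p w, CharP.cast_eq_zero F p, zero_smul]

theorem nsmul_char (c : F) : p • c = 0 := by
  rw [nsmul_eq_mul, CharP.cast_eq_zero F p, zero_mul]

theorem sgS_pow_sq (e w : Fin n → F) (c : F) : sgS D e w c ^ (p ^ 2) = 1 := by
  by_cases hv : Valid D e w c
  · obtain ⟨c', hv', hpow⟩ := sgS_pow D hv p
    rw [nsmul_char_vec p w] at hv' hpow
    obtain ⟨-, h2⟩ := sgS_zero_pow D hv' p
    rw [pow_two, pow_mul, hpow, h2, nsmul_char p c', sgS_zero D hv.1]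
  · rw [sgS_of_not_valid D hv, one_pow]

theorem Qs_isPGroup (e : Fin n → F) : IsPGroup p (Qs D e) := by
  rintro ⟨g, w, c, rfl⟩
  refine ⟨2, ?_⟩
  apply Subtype.ext
  rw [Subgroup.coe_pow, Subgroup.coe_one]
  exact sgS_pow_sq D p e w c

theorem Ts_isPGroup (e : Fin n → F) : IsPGroup p (Ts D e) :=
  (Qs_isPGroup D p e).to_le (Ts_le_Qs D e)

variable [Fintype F]

theorem prime_dvd_card_submodule (Y : Submodule F (Fin n → F)) (hY : Y ≠ ⊥) :
    p ∣ Nat.card ↥Y := by
  classical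
  rw [Nat.card_eq_fintype_card, Module.card_eq_pow_finrank (K := F)]
  obtain ⟨k, -, hk⟩ := FiniteField.card F p
  have hpos : 0 < finrank F ↥Y := by
    rw [Module.finrank_pos_iff]
    exact Submodule.nontrivial_iff_ne_bot.mpr hY
  rw [hk]
  apply dvd_pow _ hpos.ne'
  exact dvd_pow_self p k.pos.ne'

/-- a `p`-subgroup of `SU_n` fixes a nonzero vector in every nonzero invariant subspace -/
theorem exists_fixed_of_invariant {P : Subgroup ↥(Cfsg.SU n F q)} (hP : IsPGroup p P)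
    (Y : Submodule F (Fin n → F)) (hY : Y ≠ ⊥) (hinv : ∀ g ∈ P, ∀ y ∈ Y, tm g *ᵥ y ∈ Y) :
    ∃ y ∈ Y, y ≠ 0 ∧ ∀ g ∈ P, tm g *ᵥ y = y := by
  let _inst : MulAction ↥P ↥Y :=
    { smul := fun g y => ⟨tm g.1 *ᵥ y.1, hinv g.1 g.2 y.1 y.2⟩
      one_smul := by
        intro y
        apply Subtype.ext
        show tm (1 : ↥(Cfsg.SU n F q)) *ᵥ y.1 = y.1
        rw [tm_one, Matrix.one_mulVec]
      mul_smul := by
        intro g g' y
        apply Subtype.ext
        show tm (g.1 * g'.1) *ᵥ y.1 = tm g.1 *ᵥ (tm g'.1 *ᵥ y.1)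
        rw [tm_mul, Matrix.mulVec_mulVec] }
  have h0 : (0 : ↥Y) ∈ MulAction.fixedPoints ↥P ↥Y := by
    intro g
    apply Subtype.ext
    show tm g.1 *ᵥ (0 : Fin n → F) = 0
    rw [Matrix.mulVec_zero]
  obtain ⟨b, hb, hne⟩ := hP.exists_fixed_point_of_prime_dvd_card_of_fixed_point ↥Y
    (prime_dvd_card_submodule p Y hY) h0
  refine ⟨b.1, b.2, ?_, ?_⟩
  · intro hb0
    apply hne
    apply Subtype.ext
    rw [hb0]
    rfl
  · intro g hg
    have := hb ⟨g, hg⟩
    exact congrArg Subtype.val this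

include D in
/-- a `p`-subgroup of `SU_n` fixes a nonzero isotropic vector -/
theorem exists_fixed_isotropic (hn : 2 ≤ n) {P : Subgroup ↥(Cfsg.SU n F q)} (hP : IsPGroup p P) :
    ∃ u : Fin n → F, u ≠ 0 ∧ h u u = 0 ∧ ∀ g ∈ P, tm g *ᵥ u = u := by
  have : Nontrivial (Fin n → F) := by
    have : Nonempty (Fin n) := ⟨⟨0, by omega⟩⟩
    infer_instance
  obtain ⟨v, -, hv0, hvfix⟩ := exists_fixed_of_invariant p hP (⊤ : Submodule F (Fin n → F))
    top_ne_bot (fun _ _ _ _ => Submodule.mem_top)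
  by_cases hvv : h v v = 0
  · exact ⟨v, hv0, hvv, hvfix⟩
  set Y₁ := perpL q (Submodule.span F {v}) with hY₁
  have hY₁ne : Y₁ ≠ ⊥ := by
    intro hbot
    have h1 := finrank_perpL D (Submodule.span F {v})
    rw [← hY₁, hbot, finrank_bot, zero_add, finrank_span_singleton hv0] at h1
    omega
  obtain ⟨w, hw, hw0, hwfix⟩ := exists_fixed_of_invariant p hP Y₁ hY₁ne (by
    intro g hg y hy
    rw [hY₁, mem_perpL_singleton D] at hy ⊢
    have := toM_pres g y v
    rw [hvfix g hg] at this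
    rw [this, hy])
  rw [hY₁, mem_perpL_singleton D] at hw
  by_cases hww : h w w = 0
  · exact ⟨w, hw0, hww, hwfix⟩
  have hfix : D.σ (-(h v v) / h w w) = -(h v v) / h w w := by
    rw [map_div₀, map_neg, h_self_fix D, h_self_fix D]
  obtain ⟨c, hc⟩ := exists_norm D (-(h v v) / h w w)
    (div_ne_zero (neg_ne_zero.mpr hvv) hww) hfix
  have hvw : h v w = 0 := h_symm_zero D hw
  have huu : h (v + c • w) (v + c • w) = 0 := by
    rw [h_add_left, h_add_right D, h_add_right D, h_smul_left, h_smul_left, h_smul_right D,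
      h_smul_right D, hw, hvw]
    have : c * D.σ c * h w w = -(h v v) := by
      rw [hc]
      field_simp
    linear_combination this
  refine ⟨v + c • w, ?_, huu, ?_⟩
  · intro h0
    apply hvv
    have h1 : h (v + c • w) v = 0 := by rw [h0, h_zero_left]
    rw [h_add_left, h_smul_left, hw, mul_zero, add_zero] at h1
    exact h1
  · intro g hg
    rw [Matrix.mulVec_add, Matrix.mulVec_smul, hvfix g hg, hwfix g hg]

end Cfsg.Agent.Helper7.AutPSU
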