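import Cfsg.Agent.Helper7.AutPSU19

/-!
# Automorphisms of `PSU_n`, part 20 (helper7)

Semilinearity of the data of a normalised automorphism when `⟨e, f⟩^⊥` is a line (`n = 3`).
-/

set_option autoImplicit false
set_option linter.unusedSectionVars false

namespace Cfsg.Agent.Helper7.AutPSU

open Matrix Cfsg.Agent.Helper2.SUGen Cfsg.Agent.S2644 Module

variable {F : Type*} [Field F] {n q : ℕ} (D : Frob F q)

local notation "h" => Cfsg.hermForm n F q
local notation "tm" => Cfsg.Agent.S2644.toM F n q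

theorem exists_pow_ne_one [Fintype F] (hF : Fintype.card F = q ^ 2) (hq : q ≠ 2) :
    ∃ l : F, l ≠ 0 ∧ l ^ (3 * (q - 1)) ≠ 1 := by
  classical
  have hq2 : 2 ≤ q := by
    by_contra hlt
    push Not at hlt
    have h1 : 1 < Fintype.card F := Fintype.one_lt_card
    rw [hF] at h1
    interval_cases q <;> simp at h1
  obtain ⟨g, hg⟩ := IsCyclic.exists_generator (α := Fˣ)
  have hord : orderOf g = q ^ 2 - 1 := by
    rw [orderOf_eq_card_of_forall_mem_zpowers hg, Nat.card_eq_fintype_card, Fintype.card_units, hF]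
  refine ⟨(g : F), g.ne_zero, ?_⟩
  intro h1
  have h2 : g ^ (3 * (q - 1)) = 1 := by
    apply Units.ext
    rw [Units.val_pow_eq_pow_val, h1, Units.val_one]
  have h3 := orderOf_dvd_of_pow_eq_one h2
  rw [hord] at h3
  have h4 : q ^ 2 - 1 = (q - 1) * (q + 1) := by
    obtain ⟨k, rfl⟩ : ∃ k, q = k + 1 := ⟨q - 1, by omega⟩
    rw [Nat.add_sub_cancel]
    have : (k + 1) ^ 2 = k * (k + 1 + 1) + 1 := by ring
    rw [this, Nat.add_sub_cancel]
  rw [h4, mul_comm 3] at h3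
  have h5 : q + 1 ∣ 3 := Nat.dvd_of_mul_dvd_mul_left (by omega) h3
  have h6 := Nat.le_of_dvd (by norm_num) h5
  omega

/-- an element `σ(l)² / l` which is not fixed by `σ` -/
theorem exists_not_fixed [Fintype F] (hF : Fintype.card F = q ^ 2) (hq : q ≠ 2) :
    ∃ l : F, l ≠ 0 ∧ D.σ (D.σ l ^ 2 / l) ≠ D.σ l ^ 2 / l := by
  obtain ⟨l, hl0, hl⟩ := exists_pow_ne_one hF hq
  refine ⟨l, hl0, ?_⟩
  intro h1
  apply hl
  have hσl : D.σ l ≠ 0 := σ_ne_zero D hl0
  rw [map_div₀, map_pow, D.invol] at h1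
  have h2 : l ^ 3 = D.σ l ^ 3 := by
    field_simp at h1
    linear_combination h1
  rw [D.pow, ← pow_mul] at h2
  have hq1 : 1 ≤ q := by
    rcases Nat.eq_zero_or_pos q with h0 | h0
    · subst h0
      have : 0 < Fintype.card F := Fintype.card_pos
      rw [hF] at this
      simp at this
    · exact h0
  have h3 : l ^ (q * 3) = l ^ 3 * l ^ (3 * (q - 1)) := by
    rw [← pow_add]
    congr 1
    omega
  rw [h3] at h2
  have h4 : l ^ 3 ≠ 0 := pow_ne_zero _ hl0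
  have h5 : l ^ 3 * 1 = l ^ 3 * l ^ (3 * (q - 1)) := by rw [mul_one]; exact h2
  exact (mul_left_cancel₀ h4 h5).symm

variable [Fintype F] {p : ℕ} [Fact p.Prime] [CharP F p]
variable {e f : Fin n → F} {α : MulAut (Cfsg.PSU n F q)}
  {A A' : (Fin n → F) → (Fin n → F)} {B B' : (Fin n → F) → F → F}

namespace NSetup

variable {D}
variable (S : NSetup D p e f α A A' B B')

include S

/-- **semilinearity when `⟨e, f⟩^⊥` is a line** -/
theorem semilinear_of_line (hq : q ≠ 2) {w₀ : Fin n → F} (hw₀ : w₀ ∈ Wsub q e f) (hw₀0 : w₀ ≠ 0)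
    (hW : ∀ y ∈ Wsub q e f, ∃ c : F, y = c • w₀) :
    ∃ τ : F →+* F, ∀ w ∈ Wsub q e f, ∀ t : F, A (t • w) = τ t • A w := by
  classical
  have hh₀ : h w₀ w₀ ≠ 0 := by
    intro h0
    apply hw₀0
    apply Wsub_nonDeg D S.H w₀ hw₀
    intro y hy
    obtain ⟨c, rfl⟩ := hW y hy
    rw [h_smul_right D, h0, mul_zero]
  have hAw₀ : A w₀ ∈ Wsub q e f := S.A_mem hw₀
  have hAw₀0 : A w₀ ≠ 0 := fun h0 => hw₀0 (S.A_inj hw₀ h0)
  obtain ⟨c₁, hc₁⟩ := hW _ hAw₀
  have hc₁0 : c₁ ≠ 0 := by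
    rintro rfl
    rw [zero_smul] at hc₁
    exact hAw₀0 hc₁
  -- every vector of `W` is a multiple of `A w₀`
  have hW' : ∀ y ∈ Wsub q e f, ∃ r : F, y = r • A w₀ := by
    intro y hy
    obtain ⟨c, hc⟩ := hW y hy
    refine ⟨c / c₁, ?_⟩
    rw [hc₁, smul_smul, div_mul_cancel₀ _ hc₁0, hc]
  have hex : ∀ t : F, ∃ r : F, A (t • w₀) = r • A w₀ := fun t =>
    hW' _ (S.A_mem (Submodule.smul_mem _ t hw₀))
  choose a ha using hex
  have cancel : ∀ {x y : F}, x • A w₀ = y • A w₀ → x = y := by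
    intro x y hxy
    have h1 : (x - y) • A w₀ = 0 := by rw [sub_smul, hxy, sub_self]
    rcases smul_eq_zero.mp h1 with h2 | h2
    · exact sub_eq_zero.mp h2
    · exact absurd h2 hAw₀0
  have a_zero : a 0 = 0 := by
    apply cancel
    rw [← ha, zero_smul, zero_smul, S.A_zero]
  have a_one : a 1 = 1 := by
    apply cancel
    rw [← ha, one_smul, one_smul]
  have a_add : ∀ s t, a (s + t) = a s + a t := by
    intro s t
    apply cancel
    rw [← ha, add_smul, S.A_add (Submodule.smul_mem _ s hw₀) (Submodule.smul_mem _ t hw₀), ha, ha,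
      add_smul]
  -- the torus
  have key : ∀ l : F, l ≠ 0 → ∀ t, a (D.σ l ^ 2 / l * t) = a (D.σ l ^ 2 / l) * a t := by
    intro l hl
    have hσl : D.σ l ≠ 0 := σ_ne_zero D hl
    obtain ⟨g, hge, hgf, hgw⟩ := exists_torus D S.H hw₀ hh₀ hl
    obtain ⟨g', hg'⟩ := prU_surjective (α (prU g))
    obtain ⟨l', hl'0, hge'⟩ := S.levi_image_e hl hge hg'.symm
    obtain ⟨d', hd'0, hgf'⟩ := S.symm.levi_image_e (inv_ne_zero hσl) hgf hg'.symm
    obtain ⟨m', hm'⟩ := hW' _ (levi_mem_Wsub D hl'0 hd'0 hge' hgf' hAw₀)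
    have main : ∀ t, a (D.σ l ^ 2 / l * t) = D.σ l' * m' * a t := by
      intro t
      have h1 := S.levi_rel hl (inv_ne_zero hσl) hl'0 hd'0 hge hgf hge' hgf' hg'.symm
        (Submodule.smul_mem _ t hw₀)
      rw [mulVec_smul, hgw, ha t, mulVec_smul, hm', smul_smul, smul_smul, smul_smul, smul_smul]
        at h1
      have e1 : D.σ l * t * (D.σ l / l) = D.σ l ^ 2 / l * t := by
        field_simp
      rw [e1, ha] at h1
      rw [cancel h1]
      ring
    intro t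
    have h1 := main 1
    rw [mul_one, a_one, mul_one] at h1
    rw [main t, h1]
  -- the set of good scalars
  have P_add : ∀ k₁ k₂ : F, (∀ t, a (k₁ * t) = a k₁ * a t) → (∀ t, a (k₂ * t) = a k₂ * a t) →
      ∀ t, a ((k₁ + k₂) * t) = a (k₁ + k₂) * a t := by
    intro k₁ k₂ h1 h2 t
    rw [add_mul, a_add, h1, h2, a_add, add_mul]
  have P_mul : ∀ k₁ k₂ : F, (∀ t, a (k₁ * t) = a k₁ * a t) → (∀ t, a (k₂ * t) = a k₂ * a t) →
      ∀ t, a ((k₁ * k₂) * t) = a (k₁ * k₂) * a t := by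
    intro k₁ k₂ h1 h2 t
    rw [mul_assoc, h1, h2, h1, mul_assoc]
  have P_fix : ∀ x : F, D.σ x = x → ∀ t, a (x * t) = a x * a t := by
    intro x hx t
    by_cases hx0 : x = 0
    · rw [hx0, zero_mul, a_zero, zero_mul]
    · have := key x hx0 t
      have e1 : D.σ x ^ 2 / x = x := by
        rw [hx]
        field_simp
      rwa [e1] at this
  obtain ⟨l₁, hl₁0, hl₁⟩ := exists_not_fixed D S.hF hq
  obtain ⟨k₁, hk₁⟩ : ∃ k₁, k₁ = D.σ l₁ ^ 2 / l₁ := ⟨_, rfl⟩
  rw [← hk₁] at hl₁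
  have Pk₁ : ∀ t, a (k₁ * t) = a k₁ * a t := by
    rw [hk₁]
    exact key l₁ hl₁0
  have hk₁' : k₁ - D.σ k₁ ≠ 0 := sub_ne_zero.mpr (Ne.symm hl₁)
  have P_all : ∀ y : F, ∀ t, a (y * t) = a y * a t := by
    intro y
    obtain ⟨x₂, hx₂⟩ : ∃ x₂, x₂ = (y - D.σ y) / (k₁ - D.σ k₁) := ⟨_, rfl⟩
    have hx₂k : x₂ * (k₁ - D.σ k₁) = y - D.σ y := by
      rw [hx₂]
      field_simp
    have hσx₂ : D.σ x₂ = x₂ := by
      rw [hx₂, map_div₀, map_sub, map_sub, D.invol, D.invol, ← neg_sub y, ← neg_sub k₁, neg_div_neg_eq]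
    have hσx₁ : D.σ (y - x₂ * k₁) = y - x₂ * k₁ := by
      rw [map_sub, map_mul, hσx₂]
      linear_combination hx₂k
    have e1 : y = (y - x₂ * k₁) + x₂ * k₁ := by ring
    rw [e1]
    exact P_add _ _ (P_fix _ hσx₁) (P_mul _ _ (P_fix _ hσx₂) Pk₁)
  refine ⟨{ toFun := a, map_one' := a_one, map_mul' := fun s t => by
              have := P_all s t
              exact this
            map_zero' := a_zero, map_add' := a_add }, ?_⟩
  intro w hw t
  show A (t • w) = a t • A w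
  obtain ⟨c, rfl⟩ := hW w hw
  rw [smul_smul, ha, ha, smul_smul, P_all]

end NSetup

end Cfsg.Agent.Helper7.AutPSU
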