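import Cfsg.Agent.Helper7.AutPSU20
import Cfsg.Agent.Helper7.AutPSU17

/-!
# Automorphisms of `PSU_n`, part 21 (helper7)

Semilinearity of the data of a normalised automorphism, in all cases.
-/

set_option autoImplicit false
set_option linter.unusedSectionVars false

namespace Cfsg.Agent.Helper7.AutPSU

open Matrix Cfsg.Agent.Helper2.SUGen Cfsg.Agent.S2644 Module

variable {F : Type*} [Field F] {n q : ℕ} (D : Frob F q)

local notation "h" => Cfsg.hermForm n F q
local notation "tm" => Cfsg.Agent.S2644.toM F n q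

theorem exists_not_triple (hn : 4 ≤ n) (a b c : Fin n → F) :
    ∃ y : Fin n → F, ∀ r s t : F, y ≠ r • a + s • b + t • c := by
  classical
  by_contra hcon
  push Not at hcon
  have hle : (⊤ : Submodule F (Fin n → F)) ≤ Submodule.span F {a, b, c} := by
    intro y _
    obtain ⟨r, s, t, hc⟩ := hcon y
    rw [hc]
    exact Submodule.add_mem _ (Submodule.add_mem _
      (Submodule.smul_mem _ _ (Submodule.subset_span (by simp)))
      (Submodule.smul_mem _ _ (Submodule.subset_span (by simp))))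
      (Submodule.smul_mem _ _ (Submodule.subset_span (by simp)))
  have h1 := Submodule.finrank_mono hle
  rw [finrank_top, Module.finrank_fin_fun] at h1
  have h2 : finrank F (Submodule.span F ({a, b, c} : Set (Fin n → F))) ≤ 3 := by
    have := finrank_span_finset_le_card (R := F) ({a, b, c} : Finset (Fin n → F))
    have h3 : ({a, b, c} : Finset (Fin n → F)).card ≤ 3 := Finset.card_le_three
    rw [Finset.coe_insert, Finset.coe_insert, Finset.coe_singleton] at this
    exact le_trans this h3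
  omega

variable [Fintype F] {p : ℕ} [Fact p.Prime] [CharP F p]
variable {e f : Fin n → F} {α : MulAut (Cfsg.PSU n F q)}
  {A A' : (Fin n → F) → (Fin n → F)} {B B' : (Fin n → F) → F → F}

namespace NSetup

variable {D}
variable (S : NSetup D p e f α A A' B B')

include S

/-- **semilinearity** -/
theorem exists_semilinear (h32 : ¬ (n = 3 ∧ q = 2)) :
    ∃ τ : F →+* F, ∀ w ∈ Wsub q e f, ∀ t : F, A (t • w) = τ t • A w := by
  by_cases hdim : ∀ a : Fin n → F, ∃ y ∈ Wsub q e f, ∀ c : F, y ≠ c • a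
  · exact semilinear_of_lines (Wsub q e f) A (fun w₁ hw₁ w₂ hw₂ => S.A_add hw₁ hw₂)
      (fun w hw => S.A_inj hw) (fun w hw t => S.line_all hw t) hdim
  push Not at hdim
  obtain ⟨a, ha⟩ := hdim
  obtain ⟨w₀, hw₀, hw₀0⟩ := Submodule.exists_mem_ne_zero_of_ne_bot (Wsub_ne_bot D S.H S.hn)
  obtain ⟨c₀, hc₀⟩ := ha w₀ hw₀
  have hc₀0 : c₀ ≠ 0 := by
    rintro rfl
    rw [zero_smul] at hc₀
    exact hw₀0 hc₀
  have hW : ∀ y ∈ Wsub q e f, ∃ c : F, y = c • w₀ := by
    intro y hy
    obtain ⟨c, hc⟩ := ha y hy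
    refine ⟨c / c₀, ?_⟩
    rw [hc₀, smul_smul, div_mul_cancel₀ _ hc₀0, hc]
  have hn3 : n = 3 := by
    by_contra hne
    have hn4 : 4 ≤ n := by
      have := S.hn
      omega
    obtain ⟨z, hz⟩ := exists_not_triple hn4 e f w₀
    obtain ⟨z₀, hz₀e, hz₀f, hzz⟩ := exists_decomp D S.H z
    obtain ⟨c, hc⟩ := hW z₀ ⟨hz₀e, hz₀f⟩
    have : z = h z f • e + h z e • f + c • w₀ := by
      conv_lhs => rw [hzz, hc]
      abel
    exact hz _ _ _ this
  have hq : q ≠ 2 := fun hq2 => h32 ⟨hn3, hq2⟩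
  exact S.semilinear_of_line hq hw₀ hw₀0 hW

end NSetup

end Cfsg.Agent.Helper7.AutPSU
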