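import Cfsg.Agent.Helper7.AutPSU21

/-!
# Automorphisms of `PSU_n`, part 22 (helper7)

The data of a normalised automorphism is a semilinear similitude.
-/

set_option autoImplicit false
set_option linter.unusedSectionVars false

namespace Cfsg.Agent.Helper7.AutPSU

open Matrix Cfsg.Agent.Helper2.SUGen Cfsg.Agent.S2644 Module

variable {F : Type*} [Field F] {n q : ℕ} (D : Frob F q)

local notation "h" => Cfsg.hermForm n F q
local notation "tm" => Cfsg.Agent.S2644.toM F n q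

/-- ring homomorphisms commute with the involution -/
theorem tau_comm (τ : F →+* F) (x : F) : τ (D.σ x) = D.σ (τ x) := by
  rw [D.pow, D.pow, map_pow]

/-- every skew element is of the form `t - σ t` -/
theorem exists_sub_conj {s : F} (hs : D.σ s = -s) : ∃ t : F, t - D.σ t = s := by
  obtain ⟨ε, hε0, hε⟩ := exists_skew D
  obtain ⟨t', ht'⟩ := exists_trace D (s / ε) (by rw [map_div₀, hs, hε, neg_div_neg_eq])
  refine ⟨ε * t', ?_⟩
  rw [map_mul, hε]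
  have : ε * t' - -ε * D.σ t' = ε * (t' + D.σ t') := by ring
  rw [this, ht', mul_div_cancel₀ _ hε0]

variable [Fintype F] {p : ℕ} [Fact p.Prime] [CharP F p]
variable {e f : Fin n → F} {α : MulAut (Cfsg.PSU n F q)}
  {A A' : (Fin n → F) → (Fin n → F)} {B B' : (Fin n → F) → F → F}

namespace NSetup

variable {D}
variable (S : NSetup D p e f α A A' B B')

include S

theorem B_zero_zero : B 0 0 = 0 := qdata_B_zero D p S.H S.hF S.hn2 S.hAB

/-- the commutator relation -/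
theorem omega_rel {w₁ w₂ : Fin n → F} (hw₁ : w₁ ∈ Wsub q e f) (hw₂ : w₂ ∈ Wsub q e f) :
    B 0 (h w₁ w₂ - h w₂ w₁) = h (A w₁) (A w₂) - h (A w₂) (A w₁) := by
  obtain ⟨c₁, hv₁⟩ := exists_valid D S.H.huu hw₁.1
  obtain ⟨c₂, hv₂⟩ := exists_valid D S.H.huu hw₂.1
  have e1 := S.B_mul hw₁ hw₂ hv₁ hv₂
  have e2 := S.B_mul hw₂ hw₁ hv₂ hv₁
  have hvs : Valid D e 0 (h w₁ w₂ - h w₂ w₁) :=
    (valid_T_iff D S.H.huu).mpr (by rw [map_sub, h_conj D, h_conj D]; ring)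
  have hv12 : Valid D e (w₂ + w₁) (c₂ + c₁ - h w₁ w₂) := valid_mul D hv₂ hv₁
  have e3 := S.B_shift (Submodule.add_mem _ hw₂ hw₁) hv12 hvs
  have e4 : c₂ + c₁ - h w₁ w₂ + (h w₁ w₂ - h w₂ w₁) = c₁ + c₂ - h w₂ w₁ := by ring
  rw [e4, e2, add_comm w₂ w₁, e1] at e3
  linear_combination -e3

/-- **the similitude factor** -/
theorem exists_kappa {τ : F →+* F}
    (hτ : ∀ w ∈ Wsub q e f, ∀ t : F, A (t • w) = τ t • A w) :
    ∃ κ : F, κ ≠ 0 ∧ D.σ κ = κ ∧ (∀ s, D.σ s = -s → B 0 s = κ * τ s) ∧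
      ∀ w₁ ∈ Wsub q e f, ∀ w₂ ∈ Wsub q e f, h (A w₁) (A w₂) = κ * τ (h w₁ w₂) := by
  -- a pair of vectors with `h w₁ w₂ = 1`
  obtain ⟨w₁, hw₁, hw₁0⟩ := Submodule.exists_mem_ne_zero_of_ne_bot (Wsub_ne_bot D S.H S.hn)
  obtain ⟨w₂', hw₂', hne⟩ : ∃ w₂' ∈ Wsub q e f, h w₁ w₂' ≠ 0 := by
    by_contra hcon
    push Not at hcon
    exact hw₁0 (Wsub_nonDeg D S.H w₁ hw₁ hcon)
  obtain ⟨w₂, hw₂, h12⟩ : ∃ w₂ ∈ Wsub q e f, h w₁ w₂ = 1 := by
    refine ⟨(D.σ (h w₁ w₂'))⁻¹ • w₂', Submodule.smul_mem _ _ hw₂', ?_⟩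
    rw [h_smul_right D, map_inv₀, D.invol, inv_mul_cancel₀ hne]
  have h21 : h w₂ w₁ = 1 := by rw [← h_conj D w₂ w₁, h12, map_one]
  -- the general relation
  have rel : ∀ u₁ ∈ Wsub q e f, ∀ u₂ ∈ Wsub q e f, ∀ t : F,
      B 0 (t * h u₁ u₂ - D.σ (t * h u₁ u₂))
        = τ t * h (A u₁) (A u₂) - D.σ (τ t * h (A u₁) (A u₂)) := by
    intro u₁ hu₁ u₂ hu₂ t
    have := S.omega_rel (Submodule.smul_mem _ t hu₁) hu₂
    rw [hτ u₁ hu₁, h_smul_left, h_smul_right D, h_smul_left, h_smul_right D] at this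
    rw [map_mul, map_mul, h_conj D, h_conj D]
    exact this
  obtain ⟨κ, hκ⟩ : ∃ κ, κ = h (A w₁) (A w₂) := ⟨_, rfl⟩
  have rel1 : ∀ t : F, B 0 (t - D.σ t) = τ t * κ - D.σ (τ t * κ) := by
    intro t
    have := rel w₁ hw₁ w₂ hw₂ t
    rwa [h12, mul_one, ← hκ] at this
  have hσκ : D.σ κ = κ := by
    have := rel1 1
    rw [map_one, sub_self, S.B_zero_zero, map_one, one_mul] at this
    exact (sub_eq_zero.mp this.symm).symm
  have hB0 : ∀ s, D.σ s = -s → B 0 s = κ * τ s := by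
    intro s hs
    obtain ⟨t, rfl⟩ := exists_sub_conj D hs
    rw [rel1, map_mul, hσκ, map_sub, tau_comm D]
    ring
  have hκ0 : κ ≠ 0 := by
    obtain ⟨ε, hε0, hε⟩ := exists_skew D
    have hv : Valid D e 0 ε := (valid_T_iff D S.H.huu).mpr (by rw [hε, add_neg_cancel])
    have h1 := S.B_zero_ne hv hε0
    rw [hB0 ε hε] at h1
    exact left_ne_zero_of_mul h1
  refine ⟨κ, hκ0, hσκ, hB0, ?_⟩
  intro u₁ hu₁ u₂ hu₂
  obtain ⟨z, hz⟩ : ∃ z, z = κ * τ (h u₁ u₂) - h (A u₁) (A u₂) := ⟨_, rfl⟩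
  have key : ∀ t : F, τ t * z = D.σ (τ t * z) := by
    intro t
    have h1 := rel u₁ hu₁ u₂ hu₂ t
    have hskew : D.σ (t * h u₁ u₂ - D.σ (t * h u₁ u₂)) = -(t * h u₁ u₂ - D.σ (t * h u₁ u₂)) := by
      rw [map_sub, D.invol]
      ring
    rw [hB0 _ hskew, map_sub, tau_comm D, map_mul] at h1
    rw [hz, mul_sub, map_sub, map_mul, map_mul, map_mul, hσκ]
    rw [map_mul, map_mul] at h1
    linear_combination h1
  have hσz : D.σ z = z := by
    have := key 1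
    rw [map_one, one_mul] at this
    exact this.symm
  obtain ⟨t₀, ht₀⟩ : ∃ t₀, D.σ t₀ ≠ t₀ := by
    by_contra hcon
    push Not at hcon
    exact D.ne_id (RingHom.ext hcon)
  have h2 := key t₀
  rw [map_mul, hσz, ← tau_comm D] at h2
  have h3 : τ (t₀ - D.σ t₀) * z = 0 := by
    rw [map_sub, sub_mul]
    exact sub_eq_zero.mpr h2
  rcases mul_eq_zero.mp h3 with h4 | h4
  · rw [map_eq_zero] at h4
    exact absurd (sub_eq_zero.mp h4).symm ht₀
  · rw [hz] at h4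
    exact (sub_eq_zero.mp h4).symm

end NSetup

end Cfsg.Agent.Helper7.AutPSU
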