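import Cfsg.Agent.Helper7.AutPSU22

/-!
# Automorphisms of `PSU_n`, part 23 (helper7)

The normal form of the data of a normalised automorphism: `B w c = κ τ(c)`,
`A' = κ⁻¹ A`, `B' w c = κ⁻¹ τ(c)`.
-/

set_option autoImplicit false
set_option linter.unusedSectionVars false

namespace Cfsg.Agent.Helper7.AutPSU

open Matrix Cfsg.Agent.Helper2.SUGen Cfsg.Agent.S2644 Module

variable {F : Type*} [Field F] {n q : ℕ} (D : Frob F q)

local notation "h" => Cfsg.hermForm n F q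
local notation "tm" => Cfsg.Agent.S2644.toM F n q

/-- the data `(A, B)` is a `τ`-semilinear similitude with factor `κ` -/
structure SData (e f : Fin n → F) (A : (Fin n → F) → (Fin n → F)) (B : (Fin n → F) → F → F)
    (τ : F →+* F) (κ : F) : Prop where
  hτ : ∀ w ∈ Wsub q e f, ∀ t : F, A (t • w) = τ t • A w
  hκ0 : κ ≠ 0
  hσκ : D.σ κ = κ
  hB0 : ∀ s, D.σ s = -s → B 0 s = κ * τ s
  hsim : ∀ w₁ ∈ Wsub q e f, ∀ w₂ ∈ Wsub q e f, h (A w₁) (A w₂) = κ * τ (h w₁ w₂)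

include D in
/-- an isotropic vector of a nondegenerate space is a sum of two anisotropic ones -/
theorem exists_aniso_decomp {Y : Submodule F (Fin n → F)} (hY : NonDeg q Y) {x : Fin n → F}
    (hx : x ∈ Y) (hx0 : x ≠ 0) (hxx : h x x = 0) :
    ∃ u ∈ Y, h u u ≠ 0 ∧ h (x - u) (x - u) ≠ 0 := by
  obtain ⟨v, hv, hvv, hxv, hvx⟩ := exists_partner D hY hx hx0 hxx
  obtain ⟨ε, hε0, hε⟩ := exists_skew D
  obtain ⟨a, ha⟩ : ∃ a, D.σ a ≠ a := by
    by_contra hcon
    push Not at hcon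
    exact D.ne_id (RingHom.ext hcon)
  have hne : ε * (D.σ a - a) ≠ 0 := mul_ne_zero hε0 (sub_ne_zero.mpr ha)
  refine ⟨a • x + ε • v, Y.add_mem (Y.smul_mem _ hx) (Y.smul_mem _ hv), ?_, ?_⟩
  · have : h (a • x + ε • v) (a • x + ε • v) = ε * (D.σ a - a) := by
      simp only [h_add_left, h_add_right D, h_smul_left, h_smul_right D, hxx, hvv, hxv, hvx, hε]
      ring
    rw [this]
    exact hne
  · have e1 : x - (a • x + ε • v) = (1 - a) • x + (-ε) • v := by module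
    have : h (x - (a • x + ε • v)) (x - (a • x + ε • v)) = ε * (D.σ a - a) := by
      rw [e1]
      simp only [h_add_left, h_add_right D, h_smul_left, h_smul_right D, hxx, hvv, hxv, hvx, hε,
        map_neg, map_sub, map_one]
      ring
    rw [this]
    exact hne

variable [Fintype F] {p : ℕ} [Fact p.Prime] [CharP F p]
variable {e f : Fin n → F} {α : MulAut (Cfsg.PSU n F q)}
  {A A' : (Fin n → F) → (Fin n → F)} {B B' : (Fin n → F) → F → F}

namespace NSetup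

variable {D}
variable (S : NSetup D p e f α A A' B B')

include S

theorem exists_SData (h32 : ¬ (n = 3 ∧ q = 2)) : ∃ τ κ, SData D e f A B τ κ := by
  obtain ⟨τ, hτ⟩ := S.exists_semilinear h32
  obtain ⟨κ, h1, h2, h3, h4⟩ := S.exists_kappa hτ
  exact ⟨τ, κ, hτ, h1, h2, h3, h4⟩

variable {τ τ' : F →+* F} {κ κ' : F}

/-- the relation between the two sides on an anisotropic vector -/
theorem aniso_rel (hd : SData D e f A B τ κ) (hd' : SData D f e A' B' τ' κ') {ε : F}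
    (hε0 : ε ≠ 0) (hε : D.σ ε = -ε) {w : Fin n → F} (hw : w ∈ Wsub q e f) (hww : h w w ≠ 0)
    {c : F} (hv : Valid D f w c) :
    B' w c ≠ 0 ∧ A' w = (κ' * τ' ε / τ ε) • A w ∧ B' w c = (κ' * τ' ε / τ ε) * τ c := by
  have hw' : w ∈ Wsub q f e := by rw [Wsub_comm]; exact hw
  have hw0 : w ≠ 0 := by
    rintro rfl
    exact hww (h_zero_left _)
  have hAw0 : A w ≠ 0 := fun h0 => hw0 (S.A_inj hw h0)
  have hτε : τ ε ≠ 0 := by rwa [Ne, map_eq_zero]
  have hne : ∀ c', Valid D f w c' → c' ≠ 0 := by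
    rintro c' hv' rfl
    have := hv'.2.2
    rw [map_zero, add_zero, zero_add] at this
    exact hww this
  have hvε : Valid D f 0 ε := (valid_T_iff D S.H.hvv).mpr (by rw [hε, add_neg_cancel])
  have hv2 : Valid D f w (c + ε) := by
    refine ⟨hv.1, hv.2.1, ?_⟩
    rw [map_add, hε]
    linear_combination hv.2.2
  have hc0 := hne c hv
  have hc20 := hne _ hv2
  have hτc : τ c ≠ 0 := by rwa [Ne, map_eq_zero]
  have hτc2 : τ (c + ε) ≠ 0 := by rwa [Ne, map_eq_zero]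
  obtain ⟨hB1, hA1, -⟩ := S.invert hw hv hc0
  obtain ⟨hB2, hA2, -⟩ := S.invert hw hv2 hc20
  rw [hd.hτ w hw, map_inv₀] at hA1 hA2
  have E1 : A' w = (B' w c / τ c) • A w := by
    rw [div_eq_mul_inv, ← smul_smul, hA1, smul_smul, mul_inv_cancel₀ hB1, one_smul]
  have E2 : A' w = (B' w (c + ε) / τ (c + ε)) • A w := by
    rw [div_eq_mul_inv, ← smul_smul, hA2, smul_smul, mul_inv_cancel₀ hB2, one_smul]
  have E3 : B' w c / τ c = B' w (c + ε) / τ (c + ε) := by
    have h1 : (B' w c / τ c - B' w (c + ε) / τ (c + ε)) • A w = 0 := by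
      rw [sub_smul, ← E1, ← E2, sub_self]
    rcases smul_eq_zero.mp h1 with h2 | h2
    · exact sub_eq_zero.mp h2
    · exact absurd h2 hAw0
  have E4 : B' w (c + ε) = B' w c + κ' * τ' ε := by
    rw [S.symm.B_shift hw' hv hvε, hd'.hB0 ε hε]
  have E5 : B' w c = (κ' * τ' ε / τ ε) * τ c := by
    have hτc2' : τ c + τ ε ≠ 0 := by rw [← map_add]; exact hτc2
    rw [E4, map_add, div_eq_div_iff hτc hτc2'] at E3
    rw [div_mul_eq_mul_div, eq_div_iff hτε]
    linear_combination E3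
  refine ⟨hB1, ?_, E5⟩
  rw [E1, E5]
  congr 1
  field_simp

/-- an anisotropic vector of `⟨e, f⟩^⊥` -/
theorem exists_aniso : ∃ w ∈ Wsub q e f, h w w ≠ 0 := by
  obtain ⟨w₁, hw₁, hw₁0⟩ := Submodule.exists_mem_ne_zero_of_ne_bot (Wsub_ne_bot D S.H S.hn)
  by_cases hww : h w₁ w₁ = 0
  · obtain ⟨u, hu, huu, -⟩ := exists_aniso_decomp D (Wsub_nonDeg D S.H) hw₁ hw₁0 hww
    exact ⟨u, hu, huu⟩
  · exact ⟨w₁, hw₁, hww⟩

/-- the ratio of the two sides is the inverse of the similitude factor -/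
theorem rho_props (hd : SData D e f A B τ κ) (hd' : SData D f e A' B' τ' κ') {ε : F}
    (hε0 : ε ≠ 0) (hε : D.σ ε = -ε) : (κ' * τ' ε / τ ε) * κ = 1 := by
  obtain ⟨w, hw, hww⟩ := S.exists_aniso
  have hw' : w ∈ Wsub q f e := by rw [Wsub_comm]; exact hw
  obtain ⟨c, hv⟩ := exists_valid D S.H.hvv hw.2
  have hv2 : Valid D f w (c + ε) := by
    refine ⟨hv.1, hv.2.1, ?_⟩
    rw [map_add, hε]
    linear_combination hv.2.2
  obtain ⟨hB1, hA1, hBc⟩ := S.aniso_rel hd hd' hε0 hε hw hww hv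
  obtain ⟨-, -, hBc2⟩ := S.aniso_rel hd hd' hε0 hε hw hww hv2
  obtain ⟨ρ, hρ⟩ : ∃ ρ, ρ = κ' * τ' ε / τ ε := ⟨_, rfl⟩
  rw [← hρ] at hA1 hBc hBc2 ⊢
  have V1 := (S.symm.B_valid hw' hv).2.2
  have V2 := (S.symm.B_valid hw' hv2).2.2
  rw [hBc] at V1
  rw [hBc2] at V2
  have hτε : τ ε ≠ 0 := by rwa [Ne, map_eq_zero]
  have hστε : D.σ (τ ε) = - τ ε := by rw [← tau_comm D, hε, map_neg]
  rw [map_add, map_mul, map_add, hστε] at V2
  rw [map_mul] at V1
  have hσρ : D.σ ρ = ρ := by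
    have h1 : (ρ - D.σ ρ) * τ ε = 0 := by linear_combination V2 - V1
    rcases mul_eq_zero.mp h1 with h2 | h2
    · exact (sub_eq_zero.mp h2).symm
    · exact absurd h2 hτε
  have hρ0 : ρ ≠ 0 := by
    intro h0
    rw [h0, zero_mul] at hBc
    exact hB1 hBc
  have hτh : τ (h w w) ≠ 0 := by rwa [Ne, map_eq_zero]
  have e1 : τ c + D.σ (τ c) + τ (h w w) = 0 := by
    rw [← tau_comm D, ← map_add, ← map_add, hv.2.2, map_zero]
  rw [hA1, h_smul_left, h_smul_right D, hσρ, hd.hsim w hw w hw] at V1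
  have h1 : ρ * τ (h w w) * (ρ * κ - 1) = 0 := by linear_combination V1 - ρ * e1
  rcases mul_eq_zero.mp h1 with h2 | h2
  · exact absurd h2 (mul_ne_zero hρ0 hτh)
  · exact sub_eq_zero.mp h2

/-- the two sides have the same field automorphism and inverse similitude factors -/
theorem tau_eq (hd : SData D e f A B τ κ) (hd' : SData D f e A' B' τ' κ') :
    τ' = τ ∧ κ' = κ⁻¹ := by
  obtain ⟨ε, hε0, hε⟩ := exists_skew D
  have hρκ := S.rho_props hd hd' hε0 hε
  obtain ⟨w, hw, hww⟩ := S.exists_aniso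
  have hw' : w ∈ Wsub q f e := by rw [Wsub_comm]; exact hw
  obtain ⟨ρ, hρ⟩ : ∃ ρ, ρ = κ' * τ' ε / τ ε := ⟨_, rfl⟩
  rw [← hρ] at hρκ
  have hρ0 : ρ ≠ 0 := left_ne_zero_of_mul_eq_one hρκ
  have hw0 : w ≠ 0 := by
    rintro rfl
    exact hww (h_zero_left _)
  have hAw0 : A w ≠ 0 := fun h0 => hw0 (S.A_inj hw h0)
  obtain ⟨c, hv⟩ := exists_valid D S.H.hvv hw.2
  obtain ⟨-, hA1, -⟩ := S.aniso_rel hd hd' hε0 hε hw hww hv
  rw [← hρ] at hA1
  have hτ : τ' = τ := by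
    apply RingHom.ext
    intro t
    by_cases ht : t = 0
    · rw [ht, map_zero, map_zero]
    have htw : t • w ∈ Wsub q e f := Submodule.smul_mem _ _ hw
    have htww : h (t • w) (t • w) ≠ 0 := by
      rw [h_smul_left, h_smul_right D]
      exact mul_ne_zero ht (mul_ne_zero (σ_ne_zero D ht) hww)
    obtain ⟨c', hv'⟩ := exists_valid D S.H.hvv htw.2
    obtain ⟨-, hA2, -⟩ := S.aniso_rel hd hd' hε0 hε htw htww hv'
    rw [← hρ, hd'.hτ w hw', hd.hτ w hw, hA1, smul_smul, smul_smul] at hA2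
    have h1 : (τ' t * ρ - ρ * τ t) • A w = 0 := by rw [sub_smul, hA2, sub_self]
    rcases smul_eq_zero.mp h1 with h2 | h2
    · have h3 : (τ' t - τ t) * ρ = 0 := by linear_combination h2
      rcases mul_eq_zero.mp h3 with h4 | h4
      · exact sub_eq_zero.mp h4
      · exact absurd h4 hρ0
    · exact absurd h2 hAw0
  refine ⟨hτ, ?_⟩
  have hτε : τ ε ≠ 0 := by rwa [Ne, map_eq_zero]
  have : ρ = κ' := by rw [hρ, hτ, mul_div_assoc, div_self hτε, mul_one]
  rw [this] at hρκ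
  exact eq_inv_of_mul_eq_one_left hρκ

/-- the normal form of `B` on anisotropic vectors -/
theorem B_aniso (hd : SData D e f A B τ κ) (hd' : SData D f e A' B' τ' κ') {w : Fin n → F}
    (hw : w ∈ Wsub q e f) (hww : h w w ≠ 0) {c : F} (hv : Valid D e w c) : B w c = κ * τ c := by
  obtain ⟨ε, hε0, hε⟩ := exists_skew D
  have hρκ := S.rho_props hd hd' hε0 hε
  have hc0 : c ≠ 0 := by
    rintro rfl
    have := hv.2.2
    rw [map_zero, add_zero, zero_add] at this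
    exact hww this
  have hw₁ : c⁻¹ • w ∈ Wsub q e f := Submodule.smul_mem _ _ hw
  have hv₁ : Valid D f (c⁻¹ • w) c⁻¹ := valid_invert D S.H.hvv hw.2 hv.2.2 hc0
  have hww₁ : h (c⁻¹ • w) (c⁻¹ • w) ≠ 0 := by
    rw [h_smul_left, h_smul_right D]
    exact mul_ne_zero (inv_ne_zero hc0) (mul_ne_zero (σ_ne_zero D (inv_ne_zero hc0)) hww)
  obtain ⟨hB1, -, hinv⟩ := S.invert hw₁ hv₁ (inv_ne_zero hc0)
  obtain ⟨-, -, hB2⟩ := S.aniso_rel hd hd' hε0 hε hw₁ hww₁ hv₁
  rw [inv_inv, smul_smul, mul_inv_cancel₀ hc0, one_smul, hB2, map_inv₀] at hinv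
  rw [hinv, mul_inv, inv_inv, ← eq_inv_of_mul_eq_one_right hρκ]

/-- extension of the normal form of `B` to all vectors -/
theorem B_all (hd : SData D e f A B τ κ)
    (hA : ∀ w ∈ Wsub q e f, h w w ≠ 0 → ∀ c, Valid D e w c → B w c = κ * τ c) :
    ∀ w ∈ Wsub q e f, ∀ c, Valid D e w c → B w c = κ * τ c := by
  intro x hx c hv
  by_cases hxx : h x x = 0
  · by_cases hx0 : x = 0
    · subst hx0
      apply hd.hB0
      have := hv.2.2
      rw [h_zero_left, add_zero] at this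
      exact eq_neg_of_add_eq_zero_right this
    obtain ⟨u, hu, huu, hvv⟩ := exists_aniso_decomp D (Wsub_nonDeg D S.H) hx hx0 hxx
    have hxu : x - u ∈ Wsub q e f := Submodule.sub_mem _ hx hu
    obtain ⟨c₁, hv₁⟩ := exists_valid D S.H.huu hu.1
    obtain ⟨c₂, hv₂⟩ := exists_valid D S.H.huu hxu.1
    have hmul := S.B_mul hu hxu hv₁ hv₂
    have hvm := valid_mul D hv₁ hv₂
    rw [add_sub_cancel] at hmul hvm
    rw [hA u hu huu c₁ hv₁, hA (x - u) hxu hvv c₂ hv₂, hd.hsim _ hxu _ hu] at hmul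
    have hs : Valid D e 0 (c - (c₁ + c₂ - h (x - u) u)) := by
      rw [valid_T_iff D S.H.huu, map_sub]
      linear_combination hv.2.2 - hvm.2.2
    have hshift := S.B_shift hx hvm hs
    rw [add_sub_cancel, hmul, hd.hB0 _ (eq_neg_of_add_eq_zero_right ((valid_T_iff D S.H.huu).mp hs))]
      at hshift
    rw [hshift, map_sub, map_sub, map_add]
    ring
  · exact hA x hx hxx c hv

/-- **the normal form** -/
theorem normal_form (hd : SData D e f A B τ κ) (hd' : SData D f e A' B' τ' κ') :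
    τ' = τ ∧ κ' = κ⁻¹ ∧ (∀ w ∈ Wsub q e f, A' w = κ⁻¹ • A w) ∧
      (∀ w ∈ Wsub q e f, ∀ c, Valid D e w c → B w c = κ * τ c) ∧
      (∀ w ∈ Wsub q e f, ∀ c, Valid D f w c → B' w c = κ⁻¹ * τ c) := by
  obtain ⟨hτ, hκ⟩ := S.tau_eq hd hd'
  obtain ⟨ε, hε0, hε⟩ := exists_skew D
  have hρκ := S.rho_props hd hd' hε0 hε
  have hτε : τ ε ≠ 0 := by rwa [Ne, map_eq_zero]
  have hρ : κ' * τ' ε / τ ε = κ⁻¹ := by rw [hτ, mul_div_assoc, div_self hτε, mul_one, hκ]
  have hA'aniso : ∀ w ∈ Wsub q e f, h w w ≠ 0 → A' w = κ⁻¹ • A w := by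
    intro w hw hww
    obtain ⟨c, hv⟩ := exists_valid D S.H.hvv hw.2
    obtain ⟨-, hA1, -⟩ := S.aniso_rel hd hd' hε0 hε hw hww hv
    rwa [hρ] at hA1
  refine ⟨hτ, hκ, ?_, S.B_all hd (fun w hw hww c hv => S.B_aniso hd hd' hw hww hv), ?_⟩
  · intro x hx
    by_cases hxx : h x x = 0
    · by_cases hx0 : x = 0
      · subst hx0
        rw [S.symm.A_zero, S.A_zero, smul_zero]
      obtain ⟨u, hu, huu, hvv⟩ := exists_aniso_decomp D (Wsub_nonDeg D S.H) hx hx0 hxx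
      have hxu : x - u ∈ Wsub q e f := Submodule.sub_mem _ hx hu
      have hu' : u ∈ Wsub q f e := by rw [Wsub_comm]; exact hu
      have hxu' : x - u ∈ Wsub q f e := by rw [Wsub_comm]; exact hxu
      have e1 : x = u + (x - u) := by abel
      rw [e1, S.symm.A_add hu' hxu', S.A_add hu hxu, hA'aniso u hu huu, hA'aniso _ hxu hvv,
        smul_add]
    · exact hA'aniso x hx hxx
  · intro w hw c hv
    have hw' : w ∈ Wsub q f e := by rw [Wsub_comm]; exact hw
    have := S.symm.B_all hd' (fun w hw hww c hv => by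
      have hw₂ : w ∈ Wsub q e f := by rw [Wsub_comm]; exact hw
      obtain ⟨-, -, hB⟩ := S.aniso_rel hd hd' hε0 hε hw₂ hww hv
      rw [hB, hρ, hκ, hτ]) w hw' c hv
    rw [this, hκ, hτ]

end NSetup

end Cfsg.Agent.Helper7.AutPSU
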