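import Cfsg.Agent.Helper7.AutPSU23

/-!
# Automorphisms of `PSU_n`, part 24 (helper7)

The semilinear similitude of `F^n` extending the data of a normalised automorphism.
-/

set_option autoImplicit false
set_option linter.unusedSectionVars false

namespace Cfsg.Agent.Helper7.AutPSU

open Matrix Cfsg.Agent.Helper2.SUGen Cfsg.Agent.S2644 Module

variable {F : Type*} [Field F] {n q : ℕ} (D : Frob F q)

local notation "h" => Cfsg.hermForm n F q
local notation "tm" => Cfsg.Agent.S2644.toM F n q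

/-- the hypotheses on a semilinear similitude of `⟨e, f⟩^⊥` -/
structure GHyp (e f : Fin n → F) (τ : F →+* F) (κ : F) (A : (Fin n → F) → (Fin n → F)) :
    Prop where
  H : HypPair q e f
  hAadd : ∀ w₁ ∈ Wsub q e f, ∀ w₂ ∈ Wsub q e f, A (w₁ + w₂) = A w₁ + A w₂
  hAmem : ∀ w ∈ Wsub q e f, A w ∈ Wsub q e f
  hτ : ∀ w ∈ Wsub q e f, ∀ t : F, A (t • w) = τ t • A w
  hκ0 : κ ≠ 0
  hσκ : D.σ κ = κ
  hsim : ∀ w₁ ∈ Wsub q e f, ∀ w₂ ∈ Wsub q e f, h (A w₁) (A w₂) = κ * τ (h w₁ w₂)

/-- the semilinear extension -/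
def Gfun (e f : Fin n → F) (τ : F →+* F) (κ : F) (A : (Fin n → F) → (Fin n → F))
    (v : Fin n → F) : Fin n → F :=
  (κ * τ (h v f)) • e + τ (h v e) • f + A (v - h v f • e - h v e • f)

variable {D}
variable {e f : Fin n → F} {τ : F →+* F} {κ : F} {A : (Fin n → F) → (Fin n → F)}
  (G : GHyp D e f τ κ A)

local notation "Gf" => Gfun (q := q) e f τ κ A

namespace GHyp

include G

theorem proj_mem (v : Fin n → F) : v - h v f • e - h v e • f ∈ Wsub q e f := decomp_perp D G.H v

theorem A_zero : A 0 = 0 := by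
  have := G.hAadd 0 (Submodule.zero_mem _) 0 (Submodule.zero_mem _)
  rw [add_zero] at this
  exact left_eq_add.mp this

theorem Gfun_add (v v' : Fin n → F) : Gf (v + v') = Gf v + Gf v' := by
  unfold Gfun
  have e1 : v + v' - h (v + v') f • e - h (v + v') e • f
      = (v - h v f • e - h v e • f) + (v' - h v' f • e - h v' e • f) := by
    rw [h_add_left, h_add_left]
    module
  rw [e1, G.hAadd _ (G.proj_mem v) _ (G.proj_mem v'), h_add_left, h_add_left, map_add, map_add]
  module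

theorem Gfun_smul (t : F) (v : Fin n → F) : Gf (t • v) = τ t • Gf v := by
  unfold Gfun
  have e1 : t • v - h (t • v) f • e - h (t • v) e • f = t • (v - h v f • e - h v e • f) := by
    rw [h_smul_left, h_smul_left]
    module
  rw [e1, G.hτ _ (G.proj_mem v), h_smul_left, h_smul_left, map_mul, map_mul]
  module

theorem Gfun_e : Gf e = κ • e := by
  unfold Gfun
  have e1 : e - h e f • e - h e e • f = 0 := by
    rw [G.H.huv, G.H.huu]
    module
  rw [e1, G.A_zero, G.H.huv, G.H.huu, map_one, map_zero]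
  module

theorem Gfun_f : Gf f = f := by
  unfold Gfun
  have e1 : f - h f f • e - h f e • f = 0 := by
    rw [G.H.hvu, G.H.hvv]
    module
  rw [e1, G.A_zero, G.H.hvu, G.H.hvv, map_one, map_zero]
  module

theorem Gfun_W {w : Fin n → F} (hw : w ∈ Wsub q e f) : Gf w = A w := by
  unfold Gfun
  rw [hw.1, hw.2, map_zero]
  have e1 : w - (0 : F) • e - (0 : F) • f = w := by module
  rw [e1]
  module

/-- the decomposition of the form along `⟨e, f⟩ ⊕ ⟨e, f⟩^⊥` -/
theorem h_decomp (v v' : Fin n → F) :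
    h v v' = h (v - h v f • e - h v e • f) (v' - h v' f • e - h v' e • f)
      + h v f * D.σ (h v' e) + h v e * D.σ (h v' f) := by
  simp only [h_sub_left, h_sub_right D, h_smul_left, h_smul_right D, G.H.huu, G.H.hvv, G.H.huv,
    G.H.hvu]
  rw [← h_conj D e v', ← h_conj D f v']
  ring

/-- the extension is a similitude -/
theorem Gfun_sim (v v' : Fin n → F) : h (Gf v) (Gf v') = κ * τ (h v v') := by
  have hw := G.proj_mem v
  have hw' := G.proj_mem v'
  have hAw := G.hAmem _ hw
  have hAw' := G.hAmem _ hw'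
  rw [G.h_decomp v v']
  unfold Gfun
  simp only [h_add_left, h_add_right D, h_smul_left, h_smul_right D, G.H.huu, G.H.hvv, G.H.huv,
    G.H.hvu, hAw.1, hAw.2, h_symm_zero D hAw'.1, h_symm_zero D hAw'.2, G.hsim _ hw _ hw', map_mul,
    map_add, G.hσκ, tau_comm D]
  ring

/-- the extension conjugates Siegel elements to Siegel elements -/
theorem Gfun_Sg (x w z : Fin n → F) (c : F) :
    Gf (Sg (q := q) x w c *ᵥ z)
      = Sg (q := q) (Gf x) (κ⁻¹ • Gf w) (κ⁻¹ * τ c) *ᵥ (Gf z) := by
  have hσκ' : D.σ κ⁻¹ = κ⁻¹ := by rw [map_inv₀, G.hσκ]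
  rw [Sg_mulVec, Sg_mulVec, h_smul_right D, hσκ', G.Gfun_sim, G.Gfun_sim]
  have e1 : z + h z x • w - h z w • x + (c * h z x) • x
      = z + h z x • w + (-(h z w)) • x + (c * h z x) • x := by module
  rw [e1, G.Gfun_add, G.Gfun_add, G.Gfun_add, G.Gfun_smul, G.Gfun_smul, G.Gfun_smul, map_neg,
    map_mul]
  have hκ0 := G.hκ0
  have e2 : κ * τ (h z x) * κ⁻¹ = τ (h z x) := by field_simp
  have e3 : κ⁻¹ * (κ * τ (h z w)) = τ (h z w) := by field_simp
  have e4 : κ⁻¹ * τ c * (κ * τ (h z x)) = τ c * τ (h z x) := by field_simp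
  rw [smul_smul, e2, e3, e4]
  module

end GHyp

end Cfsg.Agent.Helper7.AutPSU
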