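import Cfsg.Agent.Helper7.GraphPSU4
import Cfsg.Agent.Helper2.SU.Basic

/-!
# Graph automorphisms of `PSU_n`, part 5 (helper7)

Unitary transvections; the centre of `SU_n` is scalar; a field automorphism of `PSU_n` that is
inner-diagonal is trivial; the kernel of `cU` consists of the scalars (`n ≥ 3`).
-/

set_option autoImplicit false
set_option linter.unusedSectionVars false

namespace Cfsg.Agent.Helper7.GraphPSU

open Matrix
open Cfsg.Agent.Helper7.GraphPSL (gT gT_coe gT_mul gT_inv gT_gT liftCenter liftCenter_mk)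

variable {F : Type*} [Field F] {n q : ℕ} (D : UData F q)

/-- the data in the format of helper2's library -/
def toFrob : Cfsg.Agent.Helper2.SUGen.Frob F q :=
  ⟨(D.bar : F →+* F), D.bar_apply, D.bar_bar, bar_ne_id D⟩

local notation "T" => Cfsg.unitaryTransvection n q
local notation "h" => Cfsg.hermForm n F q

include D in
theorem T_det (v : Fin n → F) (a : F) (hv : h v v = 0) : (T v a).det = 1 := by
  rw [← Cfsg.Agent.Helper2.SUGen.Sg_zero (toFrob D)]
  exact Cfsg.Agent.Helper2.SUGen.Sg_det (toFrob D) v 0 a hv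
    (Cfsg.Agent.Helper28.hermForm_zero_left v)

theorem T_isU (v : Fin n → F) (a : F) (hv : h v v = 0) (ha : a + D.bar a = 0) :
    IsU D (T v a) := by
  rw [isU_iff_preserves]
  have := Cfsg.Agent.Helper2.SUGen.Sg_pres (toFrob D) v 0 a hv
    (Cfsg.Agent.Helper28.hermForm_zero_left v) (by
      rw [Cfsg.Agent.Helper28.hermForm_zero_left, add_zero]
      exact ha)
  rw [Cfsg.Agent.Helper2.SUGen.Sg_zero (toFrob D)] at this
  exact this

/-- unitary transvections as elements of `SU_n` -/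
def tSU (v : Fin n → F) (a : F) (hv : h v v = 0) (ha : a + D.bar a = 0) : ↥(Cfsg.SU n F q) :=
  mkSU D (T v a) (T_det D v a hv) (T_isU D v a hv ha)

theorem suMat_tSU (v : Fin n → F) (a : F) (hv : h v v = 0) (ha : a + D.bar a = 0) :
    suMat (tSU D v a hv ha) = T v a := rfl

theorem exists_skew : ∃ a : F, a ≠ 0 ∧ a + D.bar a = 0 := by
  obtain ⟨t, ht⟩ := D.bar_ne
  refine ⟨t - D.bar t, ?_, ?_⟩
  · intro h0
    exact ht (sub_eq_zero.mp h0).symm
  · rw [map_sub, D.bar_bar]
    ring

theorem herm_single_left (w : Fin n → F) (i : Fin n) : h (Pi.single i 1) w = (w i) ^ q := by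
  classical
  unfold Cfsg.hermForm
  rw [Finset.sum_eq_single i]
  · rw [Pi.single_eq_same, one_mul]
  · intro j _ hji
    rw [Pi.single_eq_of_ne hji, zero_mul]
  · intro hi
    exact absurd (Finset.mem_univ i) hi

include D in
/-- **Lemma R**: proportional unitary transvections have proportional vectors. -/
theorem lemma_R [NeZero n] (w w' : Fin n → F) (a₁ a₂ l : F) (hw : h w w = 0) (hw' : h w' w' = 0)
    (hw'0 : w' ≠ 0) (ha₂ : a₂ ≠ 0) (heq : T w a₁ = l • T w' a₂) : ∃ ρ : F, w' = ρ • w := by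
  classical
  have hq : q ≠ 0 := q_ne_zero D
  have E : ∀ y : Fin n → F, y + (a₁ * h y w) • w = l • (y + (a₂ * h y w') • w') := by
    intro y
    have := congrArg (fun M : Matrix (Fin n) (Fin n) F => M *ᵥ y) heq
    simp only [Matrix.smul_mulVec, Cfsg.Agent.Helper28.unitaryTransvection_mulVec] at this
    exact this
  -- `A y := (1 - l) y + a₁ h(y,w) w` equals `B y := l a₂ h(y,w') w'`
  have EA : ∀ y : Fin n → F, (1 - l) • y + (a₁ * h y w) • w = (l * a₂ * h y w') • w' := by
    intro y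
    have := E y
    rw [smul_add, smul_smul] at this
    rw [sub_smul, one_smul, mul_assoc]
    calc y - l • y + (a₁ * h y w) • w = (y + (a₁ * h y w) • w) - l • y := by abel
      _ = (l • y + (l * (a₂ * h y w')) • w') - l • y := by rw [this]
      _ = _ := by abel
  -- `l = 1`
  have hl : l = 1 := by
    by_contra hl1
    have h1l : (1 - l) ≠ 0 := fun h0 => hl1 (sub_eq_zero.mp h0).symm
    -- apply `A` twice
    have key : ∀ y : Fin n → F, ((1 - l) ^ 2) • y + (2 * (1 - l) * a₁ * h y w) • w = 0 := by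
      intro y
      have e1 := EA y
      have e2 := EA ((l * a₂ * h y w') • w')
      have hB : h ((l * a₂ * h y w') • w') w' = 0 := by
        rw [Cfsg.Agent.Helper28.hermForm_smul_left, hw', mul_zero]
      rw [hB, mul_zero, zero_smul] at e2
      rw [← e1] at e2
      rw [Cfsg.Agent.Helper28.hermForm_add_left, Cfsg.Agent.Helper28.hermForm_smul_left,
        Cfsg.Agent.Helper28.hermForm_smul_left, hw, mul_zero, add_zero] at e2
      rw [← e2]
      module
    have hw0 : w = 0 := by
      have := key w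
      rw [hw, mul_zero, zero_smul, add_zero] at this
      rcases smul_eq_zero.mp this with h3 | h3
      · exact absurd ((pow_eq_zero_iff (two_ne_zero)).mp h3) h1l
      · exact h3
    have hall : ∀ y : Fin n → F, y = 0 := by
      intro y
      have := key y
      rw [hw0, smul_zero, add_zero] at this
      rcases smul_eq_zero.mp this with h3 | h3
      · exact absurd ((pow_eq_zero_iff (two_ne_zero)).mp h3) h1l
      · exact h3
    have := congrFun (hall (Pi.single 0 1)) 0
    rw [Pi.single_eq_same, Pi.zero_apply] at this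
    exact one_ne_zero this
  subst hl
  -- choose `y` with `h y w' ≠ 0`
  obtain ⟨i, hi⟩ : ∃ i, w' i ≠ 0 := by
    by_contra hcon
    push Not at hcon
    exact hw'0 (funext hcon)
  have hy : h (Pi.single i 1) w' ≠ 0 := by
    rw [herm_single_left]
    exact pow_ne_zero _ hi
  have := EA (Pi.single i 1)
  rw [sub_self, zero_smul, zero_add, one_mul] at this
  refine ⟨(a₂ * h (Pi.single i 1) w')⁻¹ * (a₁ * h (Pi.single i 1) w), ?_⟩
  rw [← smul_smul, this, smul_smul, inv_mul_cancel₀ (mul_ne_zero ha₂ hy), one_smul]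

/-- conjugating a transvection by a unitary matrix -/
theorem T_conj' (G : Matrix (Fin n) (Fin n) F) (hG : IsU D G) (v : Fin n → F) (a : F) :
    G * T v a = T (G *ᵥ v) a * G :=
  Cfsg.Agent.S2644.T_conj G ((isU_iff_preserves D G).1 hG) v a

theorem T_map (τ : F ≃+* F) (v : Fin n → F) (a : F) :
    (T v a).map τ = T (fun i => τ (v i)) (τ a) := by
  classical
  ext i j
  unfold Cfsg.unitaryTransvection
  simp only [Matrix.map_apply, Matrix.add_apply, Matrix.smul_apply, Matrix.vecMulVec_apply,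
    smul_eq_mul, map_add, map_mul, map_pow]
  congr 1
  by_cases hij : i = j
  · subst hij
    simp
  · simp [hij]

theorem hermForm_map (τ : F ≃+* F) (u w : Fin n → F) :
    h (fun i => τ (u i)) (fun i => τ (w i)) = τ (h u w) := by
  unfold Cfsg.hermForm
  rw [map_sum]
  apply Finset.sum_congr rfl
  intro i _
  rw [map_mul, map_pow]

theorem suMat_unit (s : ↥(Cfsg.SU n F q)) : suMat s * (suMat s)⁻¹ = 1 :=
  Matrix.mul_nonsing_inv _ (by rw [suMat_det]; exact isUnit_one)

include D in
/-- the centre of `SU_n` consists of scalar matrices -/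
theorem center_scalar [Finite F] (hn : 3 ≤ n) (z : ↥(Cfsg.SU n F q))
    (hz : z ∈ Subgroup.center ↥(Cfsg.SU n F q)) :
    ∃ m : F, suMat z = m • (1 : Matrix (Fin n) (Fin n) F) := by
  have : NeZero n := ⟨by omega⟩
  refine (core_lemma D hn (RingHom.id F) (suMat z) (by rw [suMat_det]; exact one_ne_zero) ?_).2
  intro v hv
  by_cases hv0 : v = 0
  · refine ⟨0, ?_⟩
    subst hv0
    rw [zero_smul]
    exact Matrix.mulVec_zero _
  obtain ⟨a, ha0, ha⟩ := exists_skew D
  have hcomm : z * tSU D v a hv ha = tSU D v a hv ha * z :=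
    (Subgroup.mem_center_iff.mp hz (tSU D v a hv ha)).symm
  have hc2 : suMat z * T v a = T v a * suMat z := by
    have := congrArg suMat hcomm
    rwa [suMat_mul, suMat_mul, suMat_tSU] at this
  rw [T_conj' D _ (suMat_isU D z)] at hc2
  have hTT : T (suMat z *ᵥ v) a = T v a := by
    calc T (suMat z *ᵥ v) a = T (suMat z *ᵥ v) a * (suMat z * (suMat z)⁻¹) := by
          rw [suMat_unit, Matrix.mul_one]
      _ = (T (suMat z *ᵥ v) a * suMat z) * (suMat z)⁻¹ := by rw [Matrix.mul_assoc]
      _ = (T v a * suMat z) * (suMat z)⁻¹ := by rw [hc2]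
      _ = _ := by rw [Matrix.mul_assoc, suMat_unit, Matrix.mul_one]
  have hpres := (isU_iff_preserves D _).1 (suMat_isU D z)
  have hZv0 : suMat z *ᵥ v ≠ 0 := by
    intro h0
    apply hv0
    have : (suMat z)⁻¹ *ᵥ (suMat z *ᵥ v) = v := by
      rw [Matrix.mulVec_mulVec, Matrix.nonsing_inv_mul _ (by rw [suMat_det]; exact isUnit_one),
        Matrix.one_mulVec]
    rw [← this, h0, Matrix.mulVec_zero]
  obtain ⟨ρ, hρ⟩ := lemma_R D v (suMat z *ᵥ v) a a 1 hv (by rw [hpres, hv]) hZv0 ha0
    (by rw [one_smul, hTT])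
  exact ⟨ρ, hρ⟩

/-- **Theorem A** (unitary case): a field automorphism of `PSU_n` induced by a unitary matrix -/
theorem phiU_eq_cU_unitary [Finite F] (hn : 3 ≤ n) (τ : F ≃+* F) (x : ↥(HS D n))
    (hx : IsUG D (x : GL (Fin n) F)) (heq : phiU D τ = cU D x) :
    τ = RingEquiv.refl F ∧ (x : GL (Fin n) F) ∈ Cfsg.Geo.scalars (Fin n) F := by
  have : NeZero n := ⟨by omega⟩
  set X : Matrix (Fin n) (Fin n) F := ((x : GL (Fin n) F) : Matrix (Fin n) (Fin n) F) with hX
  set X' : Matrix (Fin n) (Fin n) F :=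
    (((x : GL (Fin n) F)⁻¹ : GL (Fin n) F) : Matrix (Fin n) (Fin n) F) with hX'
  have hXX' : X * X' = 1 := by rw [hX, hX', ← Units.val_mul, mul_inv_cancel, Units.val_one]
  have hX'X : X' * X = 1 := by rw [hX, hX', ← Units.val_mul, inv_mul_cancel, Units.val_one]
  have hXU : IsU D X := (isUG_iff D _).1 hx
  have hdet : X'.det ≠ 0 := by
    intro h0
    have := congrArg Matrix.det hX'X
    rw [Matrix.det_mul, h0, zero_mul, Matrix.det_one] at this
    exact zero_ne_one this
  have key := core_lemma D hn (τ : F →+* F) X' hdet (by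
    intro v hv
    by_cases hv0 : v = 0
    · refine ⟨0, ?_⟩
      subst hv0
      rw [zero_smul]
      have : (fun i : Fin n => τ ((0 : Fin n → F) i)) = 0 := by
        funext i
        simp
      show X' *ᵥ (fun i : Fin n => τ ((0 : Fin n → F) i)) = 0
      rw [this, Matrix.mulVec_zero]
    obtain ⟨a, ha0, ha⟩ := exists_skew D
    set t := tSU D v a hv ha with ht
    have h1 : (QuotientGroup.mk (phiSU D τ t) : Cfsg.PSU n F q)
        = QuotientGroup.mk (conjSU D x t) := by
      rw [← phiU_mk, ← cU_mk, heq]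
    rw [QuotientGroup.eq] at h1
    obtain ⟨m, hm⟩ := center_scalar D hn _ h1
    have h2 : suMat (conjSU D x t) = suMat (phiSU D τ t) * (m • 1) := by
      rw [← hm, ← suMat_mul, mul_inv_cancel_left]
    rw [suMat_conjSU, suMat_phiSU, suMat_tSU, T_map, Matrix.mul_smul, Matrix.mul_one,
      T_conj' D _ hXU, Matrix.mul_assoc, hXX', Matrix.mul_one] at h2
    have hpres := (isU_iff_preserves D _).1 hXU
    have hτv0 : (fun i => τ (v i)) ≠ 0 := by
      intro h0
      apply hv0
      funext i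
      have := congrFun h0 i
      exact (map_eq_zero τ).mp this
    obtain ⟨ρ, hρ⟩ := lemma_R D (X *ᵥ v) (fun i => τ (v i)) a (τ a) m (by rw [hpres, hv])
      (by rw [hermForm_map, hv, map_zero]) hτv0 ((map_ne_zero τ).mpr ha0) h2
    refine ⟨ρ, ?_⟩
    show X' *ᵥ (fun i => τ (v i)) = ρ • v
    rw [hρ, Matrix.mulVec_smul, Matrix.mulVec_mulVec, hX'X, Matrix.one_mulVec])
  obtain ⟨hτ, m, hm⟩ := key
  refine ⟨RingEquiv.ext hτ, ?_⟩
  have hm0 : m ≠ 0 := by
    rintro rfl
    rw [zero_smul] at hm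
    apply hdet
    rw [hm, Matrix.det_zero]
  have hinv : (x : GL (Fin n) F)⁻¹ ∈ Cfsg.Geo.scalars (Fin n) F := by
    rw [Cfsg.Geo.mem_scalars_iff]
    exact ⟨Units.mk0 m hm0, hm⟩
  have := (Cfsg.Geo.scalars (Fin n) F).inv_mem hinv
  rwa [inv_inv] at this

/-- **Theorem A**: a field automorphism of `PSU_n` (`n ≥ 3`) which is inner-diagonal is trivial,
and only scalar similitudes act trivially. -/
theorem phiU_eq_cU [Finite F] (hn : 3 ≤ n) (τ : F ≃+* F) (x : ↥(HS D n))
    (heq : phiU D τ = cU D x) :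
    τ = RingEquiv.refl F ∧ (x : GL (Fin n) F) ∈ Cfsg.Geo.scalars (Fin n) F := by
  have : NeZero n := ⟨by omega⟩
  obtain ⟨ν, hν⟩ := exists_unitary_mul D x.2
  have h1 : cU D (scalarHS D ν * x) = cU D x := by rw [map_mul, cU_scalarHS, one_mul]
  obtain ⟨hτ, hs⟩ := phiU_eq_cU_unitary D hn τ (scalarHS D ν * x) hν (by rw [h1, heq])
  refine ⟨hτ, ?_⟩
  have h2 : (x : GL (Fin n) F) = (scalarGL ν)⁻¹ * ((scalarHS D ν * x : ↥(HS D n)) : GL (Fin n) F) := by
    rw [Subgroup.coe_mul]
    show _ = (scalarGL ν)⁻¹ * (scalarGL ν * (x : GL (Fin n) F))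
    rw [inv_mul_cancel_left]
  rw [h2]
  exact Subgroup.mul_mem _ (Subgroup.inv_mem _ (scalarGL_mem ν)) hs

theorem cU_eq_one_iff [Finite F] (hn : 3 ≤ n) (x : ↥(HS D n)) :
    cU D x = 1 ↔ (x : GL (Fin n) F) ∈ Cfsg.Geo.scalars (Fin n) F := by
  constructor
  · intro h1
    exact (phiU_eq_cU D hn (RingEquiv.refl F) x (by
      rw [h1]
      exact map_one (phiU D))).2
  · exact cU_of_mem_scalars D x

theorem cU_eq_iff [Finite F] (hn : 3 ≤ n) (x y : ↥(HS D n)) :
    cU D x = cU D y ↔ ((x⁻¹ * y : ↥(HS D n)) : GL (Fin n) F) ∈ Cfsg.Geo.scalars (Fin n) F := by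
  rw [← cU_eq_one_iff D hn, map_mul, map_inv, inv_mul_eq_one]

theorem phiU_ne_cU [Finite F] (hn : 3 ≤ n) (τ : F ≃+* F) (hτ : τ ≠ RingEquiv.refl F)
    (x : ↥(HS D n)) : phiU D τ ≠ cU D x :=
  fun heq => hτ (phiU_eq_cU D hn τ x heq).1

end Cfsg.Agent.Helper7.GraphPSU
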