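import Cfsg.Agent.Helper7.AutPSU24
import Cfsg.Agent.Helper7.GraphPSU5

/-!
# Automorphisms of `PSU_n`, part 25 (helper7)

The matrix of the semilinear similitude extending the data of a normalised automorphism.
-/

set_option autoImplicit false
set_option linter.unusedSectionVars false

namespace Cfsg.Agent.Helper7.AutPSU

open Matrix Cfsg.Agent.Helper2.SUGen Cfsg.Agent.S2644 Module

variable {F : Type*} [Field F] {n q : ℕ} {D : Frob F q}

local notation "h" => Cfsg.hermForm n F q
local notation "tm" => Cfsg.Agent.S2644.toM F n q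

variable {e f : Fin n → F} {τ : F ≃+* F} {κ : F} {A : (Fin n → F) → (Fin n → F)}
  (G : GHyp D e f (τ : F →+* F) κ A)

local notation "Gf" => Gfun (q := q) e f (τ : F →+* F) κ A

namespace GHyp

/-- the linear map `v ↦ G (τ⁻¹ v)` -/
noncomputable def Glin : (Fin n → F) →ₗ[F] (Fin n → F) where
  toFun v := Gf (fun i => τ.symm (v i))
  map_add' v v' := by
    have : (fun i => τ.symm ((v + v') i))
        = (fun i => τ.symm (v i)) + (fun i => τ.symm (v' i)) := by
      ext i
      simp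
    rw [this, G.Gfun_add]
  map_smul' t v := by
    have : (fun i => τ.symm ((t • v) i)) = τ.symm t • (fun i => τ.symm (v i)) := by
      ext i
      simp
    rw [this, G.Gfun_smul]
    simp

/-- the matrix of the similitude -/
noncomputable def Xm : Matrix (Fin n) (Fin n) F := LinearMap.toMatrix' G.Glin

theorem Xm_mulVec' (v : Fin n → F) : G.Xm *ᵥ v = Gf (fun i => τ.symm (v i)) := by
  unfold Xm
  rw [LinearMap.toMatrix'_mulVec]
  rfl

theorem Xm_mulVec (v : Fin n → F) : G.Xm *ᵥ (fun i => τ (v i)) = Gf v := by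
  rw [G.Xm_mulVec']
  congr 1
  ext i
  simp

theorem Xm_sim (u v : Fin n → F) : h (G.Xm *ᵥ u) (G.Xm *ᵥ v) = κ * h u v := by
  rw [G.Xm_mulVec', G.Xm_mulVec', G.Gfun_sim, Cfsg.Agent.Helper7.GraphPSU.hermForm_map]
  simp

theorem Xm_gram : G.Xmᵀ * G.Xm.map D.σ = κ • (1 : Matrix (Fin n) (Fin n) F) := by
  ext i j
  have := G.Xm_sim (Pi.single i 1) (Pi.single j 1)
  rw [Cfsg.Agent.Helper28.GUlib.herm_mulVec D.σ D.pow,
    Cfsg.Agent.Helper28.GUlib.hermForm_eq_dot D.σ D.pow] at this
  have hs : D.σ ∘ (Pi.single j (1 : F) : Fin n → F) = Pi.single j 1 := by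
    ext k
    simp only [Function.comp_apply, Pi.single_apply]
    split_ifs <;> simp
  rw [hs] at this
  simpa [Matrix.one_apply, Pi.single_apply, eq_comm] using this

theorem Xm_det_ne : G.Xm.det ≠ 0 := by
  intro h0
  have := congrArg Matrix.det G.Xm_gram
  rw [Matrix.det_mul, Matrix.det_transpose, h0, zero_mul, Matrix.det_smul, Matrix.det_one,
    mul_one] at this
  exact pow_ne_zero _ G.hκ0 this.symm

/-- the conjugation formula -/
theorem Xm_conj (x w : Fin n → F) (c : F) :
    G.Xm * (Sg (q := q) x w c).map τ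
      = Sg (q := q) (Gf x) (κ⁻¹ • Gf w) (κ⁻¹ * τ c) * G.Xm := by
  apply mat_ext
  intro v
  have hv : v = (τ : F →+* F) ∘ (fun i => τ.symm (v i)) := by
    ext i
    simp
  rw [← Matrix.mulVec_mulVec, ← Matrix.mulVec_mulVec]
  conv_lhs => rw [hv]
  have e1 := Cfsg.Agent.Helper28.GUlib.comp_mulVec (τ : F →+* F) (Sg (q := q) x w c)
    (fun i => τ.symm (v i))
  have e2 : (Sg (q := q) x w c).map (τ : F →+* F) = (Sg (q := q) x w c).map τ := rfl
  rw [e2] at e1
  rw [← e1]
  have e3 : (τ : F →+* F) ∘ (Sg (q := q) x w c *ᵥ fun i => τ.symm (v i))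
      = fun i => τ ((Sg (q := q) x w c *ᵥ fun i => τ.symm (v i)) i) := rfl
  rw [e3, G.Xm_mulVec, G.Gfun_Sg, G.Xm_mulVec']
  rfl

end GHyp

end Cfsg.Agent.Helper7.AutPSU
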