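import Cfsg.Agent.Helper7.AutPSU25

/-!
# Automorphisms of `PSU_n`, part 26 (helper7)

`PSU_n` is generated by `Qb e` and `Tb f`.
-/

set_option autoImplicit false
set_option linter.unusedSectionVars false

namespace Cfsg.Agent.Helper7.AutPSU

open Matrix Cfsg.Agent.Helper2.SUGen Cfsg.Agent.S2644 Module

variable {F : Type*} [Field F] [Fintype F] {n q : ℕ} (D : Frob F q)

local notation "h" => Cfsg.hermForm n F q
local notation "tm" => Cfsg.Agent.S2644.toM F n q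

/-- a subgroup containing all transvection groups is everything -/
theorem eq_top_of_Tb_le (hF : Fintype.card F = q ^ 2) (hn : 3 ≤ n) (h32 : ¬ (n = 3 ∧ q = 2))
    (K : Subgroup (Cfsg.PSU n F q)) (hK : ∀ y : Fin n → F, h y y = 0 → Tb D y ≤ K) : K = ⊤ := by
  rw [eq_top_iff]
  intro x _
  obtain ⟨g, rfl⟩ := prU_surjective x
  have hdet : (tm g).det = 1 := g.1.2
  have hmem : tm g ∈ TT D (⊤ : Submodule F (Fin n → F)) :=
    SU_le_TT D hF hn h32 (toM_pres g) hdet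
  have key : ∀ M ∈ TT D (⊤ : Submodule F (Fin n → F)),
      ∃ g' : ↥(Cfsg.SU n F q), tm g' = M ∧ prU g' ∈ K := by
    intro M hM
    unfold TT at hM
    induction hM using Submonoid.closure_induction with
    | mem M hM =>
      obtain ⟨x, c, -, hxx, hc, rfl⟩ := hM
      have hv : Valid D x 0 c := (valid_T_iff D hxx).mpr (by rw [hc, add_neg_cancel])
      exact ⟨sgS D x 0 c, tm_sgS_zero D hv, hK x hxx ⟨_, ⟨c, rfl⟩, rfl⟩⟩
    | one => exact ⟨1, tm_one, by rw [map_one]; exact K.one_mem⟩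
    | mul M₁ M₂ _ _ ih₁ ih₂ =>
      obtain ⟨g₁, rfl, hg₁⟩ := ih₁
      obtain ⟨g₂, rfl, hg₂⟩ := ih₂
      exact ⟨g₁ * g₂, tm_mul g₁ g₂, by rw [map_mul]; exact K.mul_mem hg₁ hg₂⟩
  obtain ⟨g', hg', hg'K⟩ := key _ hmem
  rw [← toM_injective hg']
  exact hg'K

/-- conjugates by elements of a subgroup -/
theorem map_conj_le {G : Type*} [Group G] {K T : Subgroup G} {k : G} (hk : k ∈ K) (hT : T ≤ K) :
    T.map (MulAut.conj k).toMonoidHom ≤ K := by
  rintro _ ⟨t, ht, rfl⟩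
  show k * t * k⁻¹ ∈ K
  exact K.mul_mem (K.mul_mem hk (hT ht)) (K.inv_mem hk)

theorem le_of_map_conj_le {G : Type*} [Group G] {K T : Subgroup G} {k : G} (hk : k ∈ K)
    (hT : T.map (MulAut.conj k).toMonoidHom ≤ K) : T ≤ K := by
  intro t ht
  have h1 : k * t * k⁻¹ ∈ K := hT ⟨t, ht, rfl⟩
  have h2 : t = k⁻¹ * (k * t * k⁻¹) * k := by group
  rw [h2]
  exact K.mul_mem (K.mul_mem (K.inv_mem hk) h1) hk

/-- **generation** -/
theorem eq_top_of_Qb_le {e f : Fin n → F} (H : HypPair q e f) (hF : Fintype.card F = q ^ 2)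
    (hn : 3 ≤ n) (h32 : ¬ (n = 3 ∧ q = 2)) (K : Subgroup (Cfsg.PSU n F q))
    (he : Qb D e ≤ K) (hf : Tb D f ≤ K) : K = ⊤ := by
  have he0 := e_ne_zero D H
  -- isotropic vectors not orthogonal to `e`
  have G1 : ∀ y : Fin n → F, h y y = 0 → h y e ≠ 0 → Tb D y ≤ K := by
    intro y hyy hye
    have hl : (h y e)⁻¹ ≠ 0 := inv_ne_zero hye
    rw [← Tb_smul D y hl]
    have hy'y' : h ((h y e)⁻¹ • y) ((h y e)⁻¹ • y) = 0 := by
      rw [h_smul_left, h_smul_right D, hyy, mul_zero, mul_zero]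
    have hy'e : h ((h y e)⁻¹ • y) e = h f e := by
      rw [h_smul_left, inv_mul_cancel₀ hye, H.hvu]
    obtain ⟨w, c, -, hwe, hc, hmap⟩ := Sg_map D e f ((h y e)⁻¹ • y) H.huu H.hvv hy'y'
      (by rw [H.hvu]; exact one_ne_zero) hy'e
    have hv : Valid D e w c := ⟨H.huu, hwe, hc⟩
    have h1 := map_conj_Tb D (sgS D e w c) f
    rw [tm_sgS D hv, hmap] at h1
    rw [← h1]
    exact map_conj_le (he ⟨_, sgS_mem_Qs D e w c, rfl⟩) hf
  apply eq_top_of_Tb_le D hF hn h32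
  intro y hyy
  by_cases hy0 : y = 0
  · subst hy0
    rintro _ ⟨x, ⟨c, rfl⟩, rfl⟩
    have : sgS D (0 : Fin n → F) 0 c = 1 := by
      by_cases hv : Valid D (0 : Fin n → F) 0 c
      · apply toM_injective
        rw [tm_sgS D hv, tm_one]
        apply mat_ext
        intro z
        rw [Sg_mulVec, h_zero_right D]
        simp
      · exact sgS_of_not_valid D hv
    rw [this, map_one]
    exact K.one_mem
  by_cases hye : h y e = 0
  · obtain ⟨z, -, hzz, hzy, hze⟩ := exists_iso_both D (nonDeg_top D)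
      (Submodule.mem_top : y ∈ (⊤ : Submodule F (Fin n → F))) (Submodule.mem_top : e ∈ _)
      hyy H.huu hy0 he0
    have hTz := G1 z hzz hze
    obtain ⟨ε, hε0, hε⟩ := exists_skew D
    have hvz : Valid D z 0 ε := (valid_T_iff D hzz).mpr (by rw [hε, add_neg_cancel])
    have hy'' : tm (sgS D z 0 ε) *ᵥ y = y + (ε * h y z) • z := by
      rw [tm_sgS D hvz, Sg_mulVec, h_zero_right D]
      module
    have hy''iso : h (tm (sgS D z 0 ε) *ᵥ y) (tm (sgS D z 0 ε) *ᵥ y) = 0 := by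
      rw [toM_pres, hyy]
    have hy''e : h (tm (sgS D z 0 ε) *ᵥ y) e ≠ 0 := by
      rw [hy'', h_add_left, h_smul_left, hye, zero_add]
      exact mul_ne_zero (mul_ne_zero hε0 (h_symm_ne D hzy)) hze
    have h1 := map_conj_Tb D (sgS D z 0 ε) y
    have h2 := G1 _ hy''iso hy''e
    rw [← h1] at h2
    exact le_of_map_conj_le (hTz ⟨_, ⟨ε, rfl⟩, rfl⟩) h2
  · exact G1 y hyy hye

end Cfsg.Agent.Helper7.AutPSU
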