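import Cfsg.Agent.Helper7.AutPSU26

/-!
# Automorphisms of `PSU_n`, part 27 (helper7)

**Every automorphism of `PSU_n(q)` is the product of the conjugation by a Hermitian similitude
and a field automorphism.**
-/

set_option autoImplicit false
set_option linter.unusedSectionVars false

namespace Cfsg.Agent.Helper7.AutPSU

open Matrix Cfsg.Agent.Helper2.SUGen Cfsg.Agent.S2644 Module
open Cfsg.Agent.Helper7.GraphPSU (UData toFrob HS cU phiU cU_mk phiU_mk conjSU phiSU suGL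
  suGL_conjSU suGL_injective suMat suMat_phiSU suGL_coe mem_HS_iff barGL_coe isUG_mem_HS suGL_isUG)
open Cfsg.Agent.Helper7.GraphPSL (gT gT_coe)

variable {F : Type*} [Field F] [Fintype F] {n q : ℕ} (U : UData F q)

local notation "h" => Cfsg.hermForm n F q
local notation "tm" => Cfsg.Agent.S2644.toM F n q

/-- inner automorphisms are conjugations by unitary matrices -/
theorem conj_eq_cU (g : ↥(Cfsg.SU n F q)) :
    MulAut.conj (prU g) = cU U ⟨suGL g, isUG_mem_HS U (suGL_isUG U g)⟩ := by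
  ext x
  induction x using QuotientGroup.induction_on with
  | H s =>
    rw [cU_mk]
    show prU g * prU s * (prU g)⁻¹ = prU _
    rw [← map_inv, ← map_mul, ← map_mul]
    congr 1

variable {p : ℕ} [Fact p.Prime] [CharP F p]
variable {e f : Fin n → F} {α : MulAut (Cfsg.PSU n F q)}
  {A A' : (Fin n → F) → (Fin n → F)} {B B' : (Fin n → F) → F → F}

/-- **normalised automorphisms** -/
theorem NSetup.eq_cU_phiU (S : NSetup (toFrob U) p e f α A A' B B')
    (h32 : ¬ (n = 3 ∧ q = 2)) :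
    ∃ (x : ↥(HS U n)) (τ : F ≃+* F), α = cU U x * phiU U τ := by
  obtain ⟨τ₀, κ, hd⟩ := S.exists_SData h32
  obtain ⟨τ₀', κ', hd'⟩ := S.symm.exists_SData h32
  obtain ⟨-, -, hA', hB, hB'⟩ := S.normal_form hd hd'
  obtain ⟨τ, hττ⟩ : ∃ τ : F ≃+* F, (τ : F →+* F) = τ₀ :=
    ⟨RingEquiv.ofBijective τ₀ ⟨τ₀.injective, Finite.injective_iff_surjective.mp τ₀.injective⟩,
      by ext; rfl⟩
  subst hττ
  have hκ0 := hd.hκ0
  have hσκ := hd.hσκ
  have G : GHyp (toFrob U) e f (τ : F →+* F) κ A :=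
    ⟨S.H, fun w₁ h₁ w₂ h₂ => S.A_add h₁ h₂, fun w hw => S.A_mem hw, hd.hτ, hd.hκ0, hd.hσκ,
      hd.hsim⟩
  obtain ⟨xGL, hxGL⟩ : ∃ xGL : GL (Fin n) F, (xGL : Matrix (Fin n) (Fin n) F) = G.Xm :=
    ⟨Matrix.GeneralLinearGroup.mkOfDetNeZero G.Xm G.Xm_det_ne, rfl⟩
  have hx : xGL ∈ HS U n := by
    rw [mem_HS_iff, Cfsg.Geo.mem_scalars_iff]
    refine ⟨Units.mk0 κ hκ0, ?_⟩
    rw [Units.val_mul, gT_coe, barGL_coe, hxGL]
    exact G.Xm_gram
  obtain ⟨xH, hxH⟩ : ∃ xH : ↥(HS U n), (xH : GL (Fin n) F) = xGL := ⟨⟨xGL, hx⟩, rfl⟩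
  refine ⟨xH, τ, ?_⟩
  obtain ⟨β, hβdef⟩ : ∃ β : MulAut (Cfsg.PSU n F q), β = cU U xH * phiU U τ := ⟨_, rfl⟩
  rw [← hβdef]
  -- the action of the candidate on Siegel elements
  have general : ∀ (x w : Fin n → F) (c : F), Valid (toFrob U) x w c →
      Valid (toFrob U) (Gfun (q := q) e f (τ : F →+* F) κ A x)
        (κ⁻¹ • Gfun (q := q) e f (τ : F →+* F) κ A w) (κ⁻¹ * τ c) ∧
      β (prU (sgS (toFrob U) x w c))
        = prU (sgS (toFrob U) (Gfun (q := q) e f (τ : F →+* F) κ A x)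
            (κ⁻¹ • Gfun (q := q) e f (τ : F →+* F) κ A w) (κ⁻¹ * τ c)) := by
    intro x w c hv
    have hσκ' : (toFrob U).σ κ⁻¹ = κ⁻¹ := by rw [map_inv₀, hσκ]
    have hv' : Valid (toFrob U) (Gfun (q := q) e f (τ : F →+* F) κ A x)
        (κ⁻¹ • Gfun (q := q) e f (τ : F →+* F) κ A w) (κ⁻¹ * τ c) := by
      refine ⟨by rw [G.Gfun_sim, hv.1, map_zero, mul_zero],
        by rw [h_smul_left, G.Gfun_sim, hv.2.1, map_zero, mul_zero, mul_zero], ?_⟩
      rw [h_smul_left, h_smul_right (toFrob U), G.Gfun_sim, map_mul, hσκ']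
      have e1 : (τ : F →+* F) c + (toFrob U).σ ((τ : F →+* F) c) + (τ : F →+* F) (h w w) = 0 := by
        rw [← tau_comm (toFrob U), ← map_add, ← map_add, hv.2.2, map_zero]
      have e2 : (τ : F →+* F) c = τ c := rfl
      rw [e2] at e1
      have e3 : κ⁻¹ * (κ⁻¹ * (κ * (τ : F →+* F) (h w w))) = κ⁻¹ * (τ : F →+* F) (h w w) := by
        field_simp
      rw [e3]
      linear_combination κ⁻¹ * e1
    refine ⟨hv', ?_⟩
    rw [hβdef, MulAut.mul_apply]
    show cU U xH (phiU U τ (QuotientGroup.mk (sgS (toFrob U) x w c))) = _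
    rw [phiU_mk, cU_mk]
    show prU _ = prU _
    congr 1
    apply suGL_injective
    rw [suGL_conjSU, mul_inv_eq_iff_eq_mul, hxH]
    apply Units.ext
    rw [Units.val_mul, Units.val_mul, suGL_coe, suGL_coe, suMat_phiSU]
    show (xGL : Matrix (Fin n) (Fin n) F) * (tm (sgS (toFrob U) x w c)).map τ
      = tm (sgS (toFrob U) _ _ _) * (xGL : Matrix (Fin n) (Fin n) F)
    rw [tm_sgS (toFrob U) hv, tm_sgS (toFrob U) hv', hxGL]
    exact G.Xm_conj x w c
  -- agreement on `Qb e` and `Tb f`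
  have he : Qb (toFrob U) e ≤ (α.toMonoidHom).eqLocus β.toMonoidHom := by
    rintro _ ⟨g, hg, rfl⟩
    obtain ⟨w, c, hw, hv, rfl⟩ := exists_W_param (toFrob U) S.H hg
    show α (prU _) = β (prU _)
    obtain ⟨hv', hβ⟩ := general e w c hv
    rw [S.map_sgS hw hv, hB w hw c hv, hβ]
    rw [G.Gfun_e, G.Gfun_W hw] at hv' ⊢
    rw [sgS_smul (toFrob U) hv' hκ0, hσκ, smul_smul, mul_inv_cancel₀ hκ0, one_smul]
    congr 2
    have e2 : (τ : F →+* F) c = τ c := rfl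
    rw [e2]
    field_simp
  have hf : Tb (toFrob U) f ≤ (α.toMonoidHom).eqLocus β.toMonoidHom := by
    rintro _ ⟨g, hg, rfl⟩
    obtain ⟨s, hv, rfl⟩ := exists_T_param (toFrob U) S.H.hvv hg
    show α (prU _) = β (prU _)
    obtain ⟨hv', hβ⟩ := general f 0 s hv
    have h0 : (0 : Fin n → F) ∈ Wsub q e f := Submodule.zero_mem _
    have h0' : (0 : Fin n → F) ∈ Wsub q f e := Submodule.zero_mem _
    rw [S.symm.map_sgS h0' hv, hB' 0 h0 s hv, S.symm.A_zero, hβ, G.Gfun_f, G.Gfun_W h0, S.A_zero,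
      smul_zero]
    rfl
  have htop := eq_top_of_Qb_le (toFrob U) S.H S.hF S.hn h32 _ he hf
  apply MulEquiv.ext
  intro x
  have hx' : x ∈ (α.toMonoidHom).eqLocus β.toMonoidHom := by
    rw [htop]
    trivial
  exact hx'

/-- **the automorphisms of `PSU_n(q)`** -/
theorem aut_PSU (hF : Fintype.card F = q ^ 2) (hn : 3 ≤ n) (h32 : ¬ (n = 3 ∧ q = 2))
    (α : MulAut (Cfsg.PSU n F q)) :
    ∃ (x : ↥(HS U n)) (τ : F ≃+* F), α = cU U x * phiU U τ := by
  obtain ⟨p, hp⟩ := CharP.exists F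
  have hprime : Fact p.Prime := ⟨CharP.char_is_prime F p⟩
  obtain ⟨-, u, hu0, huu, -⟩ := exists_sylow_zz (toFrob U) p hF hn
  obtain ⟨f, H⟩ := exists_hypPair (toFrob U) hu0 huu
  obtain ⟨g, hN⟩ := exists_normalize (toFrob U) p hF hn H α
  obtain ⟨A, A', B, B', S⟩ := exists_NSetup (toFrob U) p hF hn H hN
  obtain ⟨x, τ, hβ⟩ := S.eq_cU_phiU U h32
  refine ⟨⟨suGL g, isUG_mem_HS U (suGL_isUG U g)⟩⁻¹ * x, τ, ?_⟩
  rw [map_mul, map_inv, ← conj_eq_cU, mul_assoc, ← hβ, inv_mul_cancel_left]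

end Cfsg.Agent.Helper7.AutPSU
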