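import Cfsg.Agent.Helper7.AutPSU27
import Cfsg.Agent.Helper7.AutPSL16
import Cfsg.Agent.S0783

/-!
# Automorphisms of `PSU_n`, part 28 (helper7)

The structure of `Out(PSU_n(q))`.
-/

set_option autoImplicit false
set_option linter.unusedSectionVars false
set_option linter.unusedVariables false

namespace Cfsg.Agent.Helper7.AutPSU

open Matrix
open Cfsg.Agent.Helper7.GraphPSU (UData toFrob HS cU phiU cU_mk phiU_mk conjSU phiSU suGL
  suGL_conjSU suGL_injective suMat suMat_phiSU suGL_coe mem_HS_iff barGL_coe isUG_mem_HS suGL_isUG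
  phiU_cU tauHS phiU_eq_cU cU_eq_one_iff cU_eq_iff scalarHS cU_scalarHS exists_unitary_mul IsUG
  isUG_iff mem_GU_iff mkSUG suGL_mkSUG scalars_comm)

variable {F : Type*} [Field F] [Fintype F] {n q : ℕ} (U : UData F q)

section psi

variable (hF : Fintype.card F = q ^ 2) (hn : 3 ≤ n) (h32 : ¬ (n = 3 ∧ q = 2))

include hn in
/-- uniqueness of the field automorphism -/
theorem tau_unique {x x' : ↥(HS U n)} {τ τ' : F ≃+* F}
    (heq : cU U x * phiU U τ = cU U x' * phiU U τ') : τ = τ' := by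
  have h1 : phiU U (τ * τ'⁻¹) = cU U (x⁻¹ * x') := by
    rw [map_mul, map_inv, map_mul, map_inv]
    calc phiU U τ * (phiU U τ')⁻¹
        = (cU U x)⁻¹ * (cU U x * phiU U τ) * (phiU U τ')⁻¹ := by group
      _ = (cU U x)⁻¹ * (cU U x' * phiU U τ') * (phiU U τ')⁻¹ := by rw [heq]
      _ = (cU U x)⁻¹ * cU U x' := by group
  have h2 := (phiU_eq_cU U hn _ _ h1).1
  have h3 : τ * τ'⁻¹ = 1 := h2
  exact mul_inv_eq_one.mp h3

/-- the field automorphism of an automorphism of `PSU_n` -/
noncomputable def psiFun (α : MulAut (Cfsg.PSU n F q)) : F ≃+* F :=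
  Classical.choose (Classical.choose_spec (aut_PSU U hF hn h32 α))

theorem psiFun_spec (α : MulAut (Cfsg.PSU n F q)) :
    ∃ x : ↥(HS U n), α = cU U x * phiU U (psiFun U hF hn h32 α) :=
  ⟨Classical.choose (aut_PSU U hF hn h32 α),
    Classical.choose_spec (Classical.choose_spec (aut_PSU U hF hn h32 α))⟩

theorem psiFun_eq {α : MulAut (Cfsg.PSU n F q)} {x : ↥(HS U n)} {τ : F ≃+* F}
    (hα : α = cU U x * phiU U τ) : psiFun U hF hn h32 α = τ := by
  obtain ⟨x', hx'⟩ := psiFun_spec U hF hn h32 α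
  exact tau_unique U hn (hx'.symm.trans hα)

/-- the homomorphism `Aut(PSU_n) → Aut(F)` -/
noncomputable def psiHom : MulAut (Cfsg.PSU n F q) →* (F ≃+* F) :=
  MonoidHom.mk' (psiFun U hF hn h32) (by
    intro α α'
    obtain ⟨x, hx⟩ := psiFun_spec U hF hn h32 α
    obtain ⟨x', hx'⟩ := psiFun_spec U hF hn h32 α'
    apply psiFun_eq U hF hn h32 (x := x * tauHS U (psiFun U hF hn h32 α) x')
    conv_lhs => rw [hx, hx']
    rw [map_mul, map_mul]
    calc cU U x * phiU U (psiFun U hF hn h32 α) * (cU U x' * phiU U (psiFun U hF hn h32 α'))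
        = cU U x * (phiU U (psiFun U hF hn h32 α) * cU U x') * phiU U (psiFun U hF hn h32 α') := by
          group
      _ = _ := by
          rw [phiU_cU]
          group)

theorem psiHom_apply {α : MulAut (Cfsg.PSU n F q)} {x : ↥(HS U n)} {τ : F ≃+* F}
    (hα : α = cU U x * phiU U τ) : psiHom U hF hn h32 α = τ := psiFun_eq U hF hn h32 hα

theorem psiHom_surjective : Function.Surjective (psiHom U hF hn h32) := by
  intro τ
  exact ⟨phiU U τ, psiHom_apply U hF hn h32 (x := 1) (by rw [map_one, one_mul])⟩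

theorem psiHom_ker : (psiHom U hF hn h32).ker = (cU U : ↥(HS U n) →* _).range := by
  ext α
  rw [MonoidHom.mem_ker, MonoidHom.mem_range]
  constructor
  · intro h1
    obtain ⟨x, hx⟩ := psiFun_spec U hF hn h32 α
    have h2 : psiFun U hF hn h32 α = 1 := h1
    rw [h2, map_one, mul_one] at hx
    exact ⟨x, hx.symm⟩
  · rintro ⟨x, rfl⟩
    exact psiHom_apply U hF hn h32 (x := x) (τ := 1) (by rw [map_one, mul_one])

end psi

end Cfsg.Agent.Helper7.AutPSU
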