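import Cfsg.Agent.Helper7.AutPSU28
import Cfsg.Agent.Helper7.FieldPSL10

/-!
# Automorphisms of `PSU_n`, part 29 (helper7)

The structure of `Out(PSU_n(q))`.
-/

set_option autoImplicit false
set_option linter.unusedSectionVars false
set_option linter.unusedVariables false

namespace Cfsg.Agent.Helper7.AutPSU

open Matrix
open Cfsg.Agent.Helper7.GraphPSU (UData toFrob HS cU phiU cU_mk phiU_mk conjSU phiSU suGL
  suGL_conjSU suGL_injective suMat suMat_phiSU suGL_coe mem_HS_iff barGL_coe isUG_mem_HS suGL_isUG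
  phiU_cU tauHS phiU_eq_cU cU_eq_one_iff cU_eq_iff scalarHS cU_scalarHS exists_unitary_mul IsUG
  isUG_iff mem_GU_iff mkSUG suGL_mkSUG scalars_comm suGL_det)

variable {F : Type*} [Field F] [Fintype F] {n q : ℕ}

/-- **the structure of `Out(PSU_n(q))`** -/
theorem out_psu {p f : ℕ} [Fact p.Prime] (hf : 1 ≤ f) (hq : q = p ^ f)
    (hF : Fintype.card F = q ^ 2) (hn : 3 ≤ n) (h32 : ¬ (n = 3 ∧ q = 2)) :
    ∃ φ : Cfsg.Out (Cfsg.PSU n F q) →* Multiplicative (ZMod (2 * f)),
      Function.Surjective φ ∧ IsCyclic φ.ker ∧ Nat.card φ.ker = Nat.gcd n (q + 1) := by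
  classical
  obtain ⟨U⟩ := Cfsg.Agent.Helper7.FieldPSL.exists_UData hF
  have hNZ : NeZero n := ⟨by omega⟩
  -- the map to the Galois group
  have hInn : Cfsg.Inn (Cfsg.PSU n F q) ≤ (psiHom U hF hn h32).ker := by
    rintro _ ⟨y, rfl⟩
    obtain ⟨g, rfl⟩ := prU_surjective y
    rw [psiHom_ker, conj_eq_cU U]
    exact ⟨_, rfl⟩
  let φ₀ : Cfsg.Out (Cfsg.PSU n F q) →* (F ≃+* F) :=
    QuotientGroup.lift (Cfsg.Inn (Cfsg.PSU n F q)) (psiHom U hF hn h32) hInn
  have hφ₀ : ∀ α, φ₀ (QuotientGroup.mk α) = psiHom U hF hn h32 α := fun α => rfl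
  have hφ₀surj : Function.Surjective φ₀ := by
    intro τ
    obtain ⟨α, hα⟩ := psiHom_surjective U hF hn h32 τ
    exact ⟨QuotientGroup.mk α, by rw [hφ₀, hα]⟩
  -- the diagonal part
  let δ : ↥(HS U n) →* Cfsg.Out (Cfsg.PSU n F q) := (QuotientGroup.mk' _).comp (cU U)
  have hδ : ∀ x, δ x = QuotientGroup.mk (cU U x) := fun x => rfl
  have hkerφ₀ : φ₀.ker = δ.range := by
    ext y
    obtain ⟨α, rfl⟩ := QuotientGroup.mk_surjective y
    rw [MonoidHom.mem_ker, hφ₀, ← MonoidHom.mem_ker, psiHom_ker, MonoidHom.mem_range,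
      MonoidHom.mem_range]
    constructor
    · rintro ⟨x, rfl⟩
      exact ⟨x, rfl⟩
    · rintro ⟨x, hx⟩
      rw [hδ, QuotientGroup.eq] at hx
      obtain ⟨y, hy⟩ := hx
      obtain ⟨g, rfl⟩ := prU_surjective y
      rw [conj_eq_cU U] at hy
      refine ⟨x * ⟨suGL g, isUG_mem_HS U (suGL_isUG U g)⟩, ?_⟩
      rw [map_mul, hy, mul_inv_cancel_left]
  -- reduction to the unitary group
  have hle : Cfsg.GU n F q ≤ HS U n := fun g hg =>
    isUG_mem_HS U ((isUG_iff U g).2 ((mem_GU_iff U g).1 hg))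
  let δ' : ↥(Cfsg.GU n F q) →* Cfsg.Out (Cfsg.PSU n F q) := δ.comp (Subgroup.inclusion hle)
  have hδ' : ∀ u : ↥(Cfsg.GU n F q), δ' u = QuotientGroup.mk (cU U ⟨u.1, hle u.2⟩) := fun u => rfl
  have hrange : δ.range = δ'.range := by
    ext y
    constructor
    · rintro ⟨x, rfl⟩
      obtain ⟨ν, hν⟩ := exists_unitary_mul U x.2
      have hmem : (scalarHS U ν * x : ↥(HS U n)).1 ∈ Cfsg.GU n F q :=
        (mem_GU_iff U _).2 ((isUG_iff U _).1 hν)
      refine ⟨⟨_, hmem⟩, ?_⟩
      rw [hδ', hδ]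
      have : (⟨(scalarHS U ν * x : ↥(HS U n)).1, hle hmem⟩ : ↥(HS U n)) = scalarHS U ν * x := rfl
      rw [this, map_mul, cU_scalarHS, one_mul]
    · rintro ⟨u, rfl⟩
      exact ⟨_, rfl⟩
  obtain ⟨φG, hφGsurj, hφGker⟩ := Cfsg.Agent.S0783.result hF n (by omega)
  have hSU : ∀ s : ↥(Cfsg.SU n F q), (suGL s : GL (Fin n) F) ∈ Cfsg.GU n F q := fun s =>
    (mem_GU_iff U _).2 ((isUG_iff U _).1 (suGL_isUG U s))
  have hker : δ'.ker = φG.ker := by
    rw [hφGker]
    apply le_antisymm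
    · intro u hu
      rw [MonoidHom.mem_ker, hδ', QuotientGroup.eq_one_iff] at hu
      obtain ⟨y, hy⟩ := hu
      obtain ⟨s, rfl⟩ := prU_surjective y
      rw [conj_eq_cU U, cU_eq_iff U hn] at hy
      have hz : (suGL s : GL (Fin n) F)⁻¹ * u.1 ∈ Cfsg.Geo.scalars (Fin n) F := hy
      have hzGU : (suGL s : GL (Fin n) F)⁻¹ * u.1 ∈ Cfsg.GU n F q :=
        Subgroup.mul_mem _ (Subgroup.inv_mem _ (hSU s)) u.2
      have hu' : u = (⟨suGL s, hSU s⟩ : ↥(Cfsg.GU n F q)) * ⟨_, hzGU⟩ := by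
        apply Subtype.ext
        show u.1 = suGL s * ((suGL s : GL (Fin n) F)⁻¹ * u.1)
        rw [mul_inv_cancel_left]
      rw [hu']
      apply Subgroup.mul_mem_sup
      · rw [Subgroup.mem_subgroupOf, MonoidHom.mem_ker]
        exact suGL_det s
      · rw [Subgroup.mem_center_iff]
        intro g
        apply Subtype.ext
        exact (scalars_comm hz g.1).symm
    · apply sup_le
      · intro u hu
        rw [Subgroup.mem_subgroupOf, MonoidHom.mem_ker] at hu
        have hU : IsUG U u.1 := (isUG_iff U _).2 ((mem_GU_iff U _).1 u.2)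
        rw [MonoidHom.mem_ker, hδ', QuotientGroup.eq_one_iff]
        refine ⟨prU (mkSUG U u.1 hu hU), ?_⟩
        rw [conj_eq_cU U]
        congr 1
        apply Subtype.ext
        exact suGL_mkSUG U u.1 hu hU
      · intro u hu
        rw [Subgroup.mem_center_iff] at hu
        rw [MonoidHom.mem_ker, hδ']
        have : cU U ⟨u.1, hle u.2⟩ = 1 := by
          ext y
          induction y using QuotientGroup.induction_on with
          | H s =>
            rw [cU_mk]
            show QuotientGroup.mk _ = QuotientGroup.mk s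
            congr 1
            apply suGL_injective
            rw [suGL_conjSU]
            have h1 := congrArg Subtype.val (hu ⟨suGL s, hSU s⟩)
            have h2 : (suGL s : GL (Fin n) F) * u.1 = u.1 * suGL s := h1
            show u.1 * suGL s * u.1⁻¹ = suGL s
            rw [← h2, mul_inv_cancel_right]
        rw [this]
        rfl
  let E : ↥δ'.range ≃* Multiplicative (ZMod (Nat.gcd n (q + 1))) :=
    (QuotientGroup.quotientKerEquivRange δ').symm.trans
      ((QuotientGroup.quotientMulEquivOfEq hker).trans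
        (QuotientGroup.quotientKerEquivOfSurjective φG hφGsurj))
  have hF' : Fintype.card F = p ^ (2 * f) := by rw [hF, hq, ← pow_mul, mul_comm]
  obtain ⟨e₃⟩ := Cfsg.Agent.Helper7.AutPSL.exists_ringAut_equiv (F := F) hF'
  refine ⟨(e₃ : _ →* _).comp φ₀, ?_, ?_, ?_⟩
  · exact e₃.surjective.comp hφ₀surj
  · rw [MonoidHom.ker_mulEquiv_comp, hkerφ₀, hrange]
    exact isCyclic_of_surjective E.symm E.symm.surjective
  · rw [MonoidHom.ker_mulEquiv_comp, hkerφ₀, hrange, Nat.card_congr E.toEquiv]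
    show Nat.card (ZMod (Nat.gcd n (q + 1))) = _
    rw [Nat.card_zmod]

end Cfsg.Agent.Helper7.AutPSU
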