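import Cfsg.Agent.Helper7.AutPSU2
import Cfsg.Agent.Helper2.SU.Plane

/-!
# Automorphisms of `PSU_n`, part 3 (helper7)

A Sylow `p`-subgroup fixing the isotropic vector `e` contains `Qs e`; the structure lemma (a
unitary matrix fixing `e` and acting trivially on `e^⊥ / e` is a Siegel element); the centraliser
of `Qs e`.
-/

set_option autoImplicit false
set_option linter.unusedSectionVars false

namespace Cfsg.Agent.Helper7.AutPSU

open Matrix Cfsg.Agent.Helper2.SUGen Cfsg.Agent.S2644 Module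

theorem le_sylow_of_normalizes {G : Type*} [Group G] {p : ℕ} [Fact p.Prime] (P : Sylow p G)
    {R : Subgroup G} (hR : IsPGroup p R) (hPR : (P : Subgroup G) ≤ Subgroup.normalizer (R : Set G)) :
    R ≤ (P : Subgroup G) := by
  have h1 : IsPGroup p ((P : Subgroup G) ⊔ R : Subgroup G) :=
    P.isPGroup'.to_sup_of_normal_right' hR hPR
  have h2 := P.is_maximal' h1 le_sup_left
  calc R ≤ (P : Subgroup G) ⊔ R := le_sup_right
    _ = (P : Subgroup G) := h2

variable {F : Type*} [Field F] {n q : ℕ} (D : Frob F q)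

local notation "h" => Cfsg.hermForm n F q
local notation "tm" => Cfsg.Agent.S2644.toM F n q

theorem tm_inv_mulVec' (g : ↥(Cfsg.SU n F q)) (x : Fin n → F) : tm g⁻¹ *ᵥ (tm g *ᵥ x) = x := by
  rw [Matrix.mulVec_mulVec, tm_inv_mul, Matrix.one_mulVec]

/-- an element fixing `e` normalises `Qs e` -/
theorem mem_normalizer_Qs {e : Fin n → F} {g : ↥(Cfsg.SU n F q)} (hg : tm g *ᵥ e = e) :
    g ∈ Subgroup.normalizer ((Qs D e : Subgroup ↥(Cfsg.SU n F q)) : Set ↥(Cfsg.SU n F q)) := by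
  have hg' : tm g⁻¹ *ᵥ e = e := by
    have := tm_inv_mulVec' g e
    rwa [hg] at this
  rw [Subgroup.mem_normalizer_iff]
  intro x
  constructor
  · intro hx
    have := conj_mem_Qs D hx g
    rwa [hg] at this
  · intro hx
    have := conj_mem_Qs D hx g⁻¹
    rw [hg', inv_inv] at this
    have e1 : g⁻¹ * (g * x * g⁻¹) * g = x := by group
    rwa [e1] at this

theorem Qs_le_sylow (p : ℕ) [Fact p.Prime] [CharP F p] (P : Sylow p ↥(Cfsg.SU n F q))
    {e : Fin n → F} (hP : ∀ g ∈ P, tm g *ᵥ e = e) : Qs D e ≤ (P : Subgroup ↥(Cfsg.SU n F q)) :=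
  le_sylow_of_normalizes P (Qs_isPGroup D p e) (fun g hg => mem_normalizer_Qs D (hP g hg))

section plane

variable {e f : Fin n → F} (H : HypPair q e f)

include D H

/-- **Structure lemma**: a unitary matrix fixing `e` and acting trivially on `e^⊥ / e` is a Siegel
element. -/
theorem eq_Sg_of_fix {M : Matrix (Fin n) (Fin n) F} (hM : Pres (q := q) M) (hMe : M *ᵥ e = e)
    (hW : ∀ w, h w e = 0 → h w f = 0 → ∃ μ : F, M *ᵥ w = w + μ • e) :
    ∃ w₀ c₀, h w₀ e = 0 ∧ h w₀ f = 0 ∧ Valid D e w₀ c₀ ∧ M = Sg (q := q) e w₀ c₀ := by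
  obtain ⟨w₀, hw₀e, hw₀f, hy⟩ := exists_decomp D H (M *ᵥ f)
  have hye : h (M *ᵥ f) e = 1 := by
    have := hM f e
    rw [hMe] at this
    rw [this, H.hvu]
  rw [hye, one_smul] at hy
  set c₀ := h (M *ᵥ f) f with hc₀
  have hew₀ : h e w₀ = 0 := h_symm_zero D hw₀e
  have hfw₀ : h f w₀ = 0 := h_symm_zero D hw₀f
  have hval : c₀ + D.σ c₀ + h w₀ w₀ = 0 := by
    have h1 := hM f f
    rw [H.hvv, hy] at h1
    simp only [h_add_left, h_add_right D, h_smul_left, h_smul_right D, hw₀e, hw₀f, hew₀, hfw₀,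
      H.huu, H.hvv, H.huv, H.hvu] at h1
    linear_combination h1
  have hv : Valid D e w₀ c₀ := ⟨H.huu, hw₀e, hval⟩
  refine ⟨w₀, c₀, hw₀e, hw₀f, hv, ?_⟩
  apply ext_plane D H
  · intro z hze hzf
    obtain ⟨μ, hμ⟩ := hW z hze hzf
    have h1 := hM z f
    rw [hμ, hy, hzf] at h1
    simp only [h_add_left, h_add_right D, h_smul_left, h_smul_right D, hze, hzf, H.huu, H.huv,
      hew₀] at h1
    have hμ' : μ = - h z w₀ := by linear_combination h1
    rw [hμ, Sg_mulVec, hze, hμ']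
    module
  · rw [hMe, Sg_mulVec_self D hv]
  · rw [hy, Sg_mulVec, H.hvu, hfw₀]
    module

theorem e_ne_zero : e ≠ 0 := by
  intro h0
  have := H.huv
  rw [h0, h_zero_left] at this
  exact zero_ne_one this

theorem Sg_mulVec_f (w : Fin n → F) (c : F) (hwf : h w f = 0) :
    Sg (q := q) e w c *ᵥ f = f + w + c • e := by
  rw [Sg_mulVec, H.hvu, h_symm_zero D hwf]
  module

/-- the parameters of a Siegel element with second vector in `W` are unique -/
theorem Sg_inj {w w' : Fin n → F} {c c' : F} (_hwe : h w e = 0) (hwf : h w f = 0)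
    (_hwe' : h w' e = 0) (hwf' : h w' f = 0)
    (heq : Sg (q := q) e w c = Sg (q := q) e w' c') : w = w' ∧ c = c' := by
  have h1 := congrArg (fun M => M *ᵥ f) heq
  beta_reduce at h1
  rw [Sg_mulVec_f D H w c hwf, Sg_mulVec_f D H w' c' hwf'] at h1
  have h2 : w + c • e = w' + c' • e := by
    have : f + (w + c • e) = f + (w' + c' • e) := by rw [← add_assoc, ← add_assoc, h1]
    exact add_left_cancel this
  have h3 := congrArg (fun z => h z f) h2
  beta_reduce at h3
  rw [h_add_left, h_add_left, h_smul_left, h_smul_left, hwf, hwf', H.huv] at h3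
  have hc : c = c' := by linear_combination h3
  refine ⟨?_, hc⟩
  rw [hc] at h2
  exact add_right_cancel h2

/-- **the centraliser of `Qs e`** consists of scalar multiples of transvections with centre `e` -/
theorem centralizer_Qs (g : ↥(Cfsg.SU n F q)) (hg : ∀ x ∈ Qs D e, g * x = x * g) :
    ∃ ρ c, ρ * D.σ ρ = 1 ∧ Valid D e 0 c ∧ tm g = ρ • Sg (q := q) e 0 c := by
  have he0 := e_ne_zero D H
  -- step a
  obtain ⟨s, hs0, hs⟩ := exists_skew D
  have hvs : Valid D e 0 s := by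
    rw [valid_T_iff D H.huu, hs, add_neg_cancel]
  have hconj : ∀ {w c}, Valid D e w c → sgS D (tm g *ᵥ e) (tm g *ᵥ w) c = sgS D e w c := by
    intro w c hv
    rw [← sgS_conj D hv g, hg _ (sgS_mem_Qs D e w c), mul_inv_cancel_right]
  have h1 := congrArg (fun x => tm x *ᵥ f) (hconj hvs)
  beta_reduce at h1
  rw [tm_sgS D (valid_conj D hvs g), tm_sgS D hvs, Matrix.mulVec_zero, Sg_mulVec, Sg_mulVec,
    H.hvu, h_zero_right D] at h1
  set κ := h f (tm g *ᵥ e) with hκ
  have h2 : e = κ • (tm g *ᵥ e) := by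
    have h3 : (s * κ) • (tm g *ᵥ e) = s • e := by
      have : f + (s * κ) • (tm g *ᵥ e) = f + s • e := by
        rw [mul_one] at h1
        calc f + (s * κ) • (tm g *ᵥ e)
            = f + κ • (0 : Fin n → F) - (0 : F) • (tm g *ᵥ e) + (s * κ) • (tm g *ᵥ e) := by module
          _ = f + (1 : F) • (0 : Fin n → F) - (0 : F) • e + s • e := h1
          _ = f + s • e := by module
      exact add_left_cancel this
    have : s • e = s • (κ • (tm g *ᵥ e)) := by rw [smul_smul, h3]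
    exact smul_right_injective _ hs0 this
  have hκ0 : κ ≠ 0 := by
    intro h0
    rw [h0, zero_smul] at h2
    exact he0 h2
  set ρ := κ⁻¹ with hρ
  have hρ0 : ρ ≠ 0 := inv_ne_zero hκ0
  have hge : tm g *ᵥ e = ρ • e := by
    calc tm g *ᵥ e = κ⁻¹ • (κ • (tm g *ᵥ e)) := by rw [smul_smul, inv_mul_cancel₀ hκ0, one_smul]
      _ = ρ • e := by rw [← h2]
  have hρρ : ρ * D.σ ρ = 1 := by
    have : κ = D.σ ρ := by
      rw [hκ, hge, h_smul_right D, H.hvu, mul_one]
    rw [← this, hρ, inv_mul_cancel₀ hκ0]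
  have hσρ0 : D.σ ρ ≠ 0 := σ_ne_zero D hρ0
  -- step b
  have hstepb : ∀ w, h w e = 0 → h w f = 0 →
      ∃ μ : F, (D.σ ρ • tm g) *ᵥ w = w + μ • e := by
    intro w hwe hwf
    obtain ⟨c, hc⟩ := exists_trace D (-(h w w)) (by rw [map_neg, h_self_fix D])
    have hv : Valid D e w c := ⟨H.huu, hwe, by rw [hc, neg_add_cancel]⟩
    have h3 := hconj hv
    have hv' := valid_conj D hv g
    rw [hge] at h3 hv'
    rw [sgS_smul D hv' hρ0, hρρ, one_mul] at h3
    have hv'' := valid_smul D hv' hρ0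
    rw [hρρ, one_mul] at hv''
    have h4 := congrArg (fun x => tm x *ᵥ f) h3
    beta_reduce at h4
    rw [tm_sgS D hv'', tm_sgS D hv, Sg_mulVec_f D H w c hwf, Sg_mulVec, H.hvu] at h4
    refine ⟨h f (D.σ ρ • tm g *ᵥ w), ?_⟩
    rw [Matrix.smul_mulVec]
    have : f + (D.σ ρ • tm g *ᵥ w) - h f (D.σ ρ • tm g *ᵥ w) • e + c • e = f + w + c • e := by
      rw [← h4]
      module
    have h5 : f + ((D.σ ρ • tm g *ᵥ w) - h f (D.σ ρ • tm g *ᵥ w) • e) + c • e
        = f + w + c • e := by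
      rw [← this]
      module
    have h6 := add_left_cancel (add_right_cancel h5)
    exact eq_add_of_sub_eq h6
  -- step c
  have hMpres : Pres (q := q) (D.σ ρ • tm g) := by
    intro x y
    rw [Matrix.smul_mulVec, Matrix.smul_mulVec, h_smul_left, h_smul_right D, D.invol,
      toM_pres g x y, ← mul_assoc, mul_comm (D.σ ρ), hρρ, one_mul]
  have hMe : (D.σ ρ • tm g) *ᵥ e = e := by
    rw [Matrix.smul_mulVec, hge, smul_smul, mul_comm, hρρ, one_smul]
  obtain ⟨w₀, c₀, hw₀e, hw₀f, hv₀, hM⟩ := eq_Sg_of_fix D H hMpres hMe hstepb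
  -- step d
  have hsym : ∀ w, h w e = 0 → h w f = 0 → h w w₀ = h w₀ w := by
    intro w hwe hwf
    obtain ⟨c, hc⟩ := exists_trace D (-(h w w)) (by rw [map_neg, h_self_fix D])
    have hv : Valid D e w c := ⟨H.huu, hwe, by rw [hc, neg_add_cancel]⟩
    have h3 := congrArg tm (hg _ (sgS_mem_Qs D e w c))
    rw [tm_mul, tm_mul, tm_sgS D hv] at h3
    have h4 : (D.σ ρ • tm g) * Sg (q := q) e w c = Sg (q := q) e w c * (D.σ ρ • tm g) := by
      rw [Matrix.smul_mul, Matrix.mul_smul, h3]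
    rw [hM, Sg_mul D e w₀ w c₀ c H.huu hw₀e hwe, Sg_mul D e w w₀ c c₀ H.huu hwe hw₀e] at h4
    have h5 := Sg_inj D H (by rw [h_add_left, hw₀e, hwe, add_zero])
      (by rw [h_add_left, hw₀f, hwf, add_zero]) (by rw [h_add_left, hw₀e, hwe, add_zero])
      (by rw [h_add_left, hw₀f, hwf, add_zero]) h4
    linear_combination -h5.2
  have hzero : ∀ w, h w e = 0 → h w f = 0 → h w w₀ = 0 := by
    intro w hwe hwf
    obtain ⟨t, ht⟩ : ∃ t, D.σ t ≠ t := by
      by_contra hcon
      push Not at hcon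
      exact D.ne_id (RingHom.ext hcon)
    have h1 := hsym (t • w) (by rw [h_smul_left, hwe, mul_zero]) (by rw [h_smul_left, hwf, mul_zero])
    rw [h_smul_left, h_smul_right D, ← hsym w hwe hwf] at h1
    have h2 : (t - D.σ t) * h w w₀ = 0 := by linear_combination h1
    rcases mul_eq_zero.mp h2 with h3 | h3
    · exact absurd (sub_eq_zero.mp h3).symm ht
    · exact h3
  have hw₀ : w₀ = 0 := by
    apply h_nondeg D
    intro y
    obtain ⟨y₀, hy₀e, hy₀f, hy⟩ := exists_decomp D H y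
    rw [hy, h_add_right D, h_add_right D, h_smul_right D, h_smul_right D, hw₀e, hw₀f,
      h_symm_zero D (hzero y₀ hy₀e hy₀f)]
    ring
  -- step e
  refine ⟨ρ, c₀, hρρ, by rw [← hw₀]; exact hv₀, ?_⟩
  rw [← hw₀, ← hM, smul_smul, hρρ, one_smul]

end plane

end Cfsg.Agent.Helper7.AutPSU
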