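import Cfsg.Agent.Helper7.AutPSU29

/-!
# Automorphisms of `PSU_n`, part 30 (helper7)

The order of `Aut(PSU_n(q))`.
-/

set_option autoImplicit false
set_option linter.unusedSectionVars false
set_option linter.unusedVariables false

namespace Cfsg.Agent.Helper7.AutPSU

open Matrix
open Cfsg.Agent.Helper7.GraphPSU (UData HS cU suGL suGL_injective isUG_mem_HS suGL_isUG
  cU_eq_one_iff scalars_comm)

variable {F : Type*} [Field F] [Fintype F] {n q : ℕ}

/-- `PSU_n(q)` has trivial centre: conjugation is injective -/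
theorem conj_injective (hF : Fintype.card F = q ^ 2) (hn : 3 ≤ n) :
    Function.Injective (MulAut.conj : Cfsg.PSU n F q →* MulAut (Cfsg.PSU n F q)) := by
  obtain ⟨U⟩ := Cfsg.Agent.Helper7.FieldPSL.exists_UData hF
  rw [injective_iff_map_eq_one]
  intro y hy
  obtain ⟨g, rfl⟩ := prU_surjective y
  rw [conj_eq_cU U, cU_eq_one_iff U hn] at hy
  rw [prU_eq_one_iff, Subgroup.mem_center_iff]
  intro s
  apply suGL_injective
  rw [map_mul, map_mul]
  exact (scalars_comm hy (suGL s)).symm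

/-- **the order of `Aut(PSU_n(q))`** -/
theorem card_aut_psu {p f : ℕ} [Fact p.Prime] (hf : 1 ≤ f) (hq : q = p ^ f)
    (hF : Fintype.card F = q ^ 2) (hn : 3 ≤ n) (h32 : ¬ (n = 3 ∧ q = 2)) :
    Nat.card (MulAut (Cfsg.PSU n F q)) = Nat.gcd n (q + 1) * (2 * f) * Nat.card (Cfsg.PSU n F q) := by
  obtain ⟨φ, hsurj, -, hker⟩ := out_psu (F := F) hf hq hF hn h32
  have h1 : Nat.card (Cfsg.Out (Cfsg.PSU n F q)) = Nat.gcd n (q + 1) * (2 * f) := by
    rw [Subgroup.card_eq_card_quotient_mul_card_subgroup φ.ker, hker,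
      Nat.card_congr (QuotientGroup.quotientKerEquivOfSurjective φ hsurj).toEquiv, mul_comm]
    congr 1
    show Nat.card (ZMod (2 * f)) = _
    rw [Nat.card_zmod]
  have h2 : Nat.card (Cfsg.Inn (Cfsg.PSU n F q)) = Nat.card (Cfsg.PSU n F q) :=
    Nat.card_congr (MonoidHom.ofInjective (conj_injective hF hn)).toEquiv.symm
  rw [Subgroup.card_eq_card_quotient_mul_card_subgroup (Cfsg.Inn (Cfsg.PSU n F q)), h2]
  congr 1

end Cfsg.Agent.Helper7.AutPSU
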