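import Cfsg.Agent.Helper7.AutPSU3
import Cfsg.Agent.Helper7.AutPSL6
import Cfsg.Agent.Helper2.UnitaryCenter
import Cfsg.Agent.Helper2.SU.Iso

/-!
# Automorphisms of `PSU_n`, part 4 (helper7)

The centre of a Sylow `p`-subgroup of `SU_n` fixing the isotropic vector `e` is the transvection
group `Ts e`; the same in `PSU_n`.
-/

set_option autoImplicit false
set_option linter.unusedSectionVars false

namespace Cfsg.Agent.Helper7.AutPSU

open Matrix Cfsg.Agent.Helper2.SUGen Cfsg.Agent.S2644 Module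
open Cfsg.Agent.Helper7.AutPSL (zz mem_zz zz_map exists_conj_of_sylow)

variable {F : Type*} [Field F] {n q : ℕ} (D : Frob F q)

local notation "h" => Cfsg.hermForm n F q
local notation "tm" => Cfsg.Agent.S2644.toM F n q

theorem tm_pow_mulVec {x : ↥(Cfsg.SU n F q)} {e : Fin n → F} {ρ : F} (hx : tm x *ᵥ e = ρ • e)
    (m : ℕ) : tm (x ^ m) *ᵥ e = ρ ^ m • e := by
  induction m with
  | zero => rw [pow_zero, pow_zero, tm_one, Matrix.one_mulVec, one_smul]
  | succ m ih =>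
    rw [pow_succ, tm_mul, ← Matrix.mulVec_mulVec, hx, Matrix.mulVec_smul, ih, smul_smul, pow_succ,
      mul_comm]

variable (p : ℕ) [Fact p.Prime] [CharP F p]

theorem eq_one_of_pow_char_pow {ρ : F} {k : ℕ} (hρ : ρ ^ p ^ k = 1) : ρ = 1 := by
  have := iterateFrobenius_inj F p k
  apply this
  rw [iterateFrobenius_def, iterateFrobenius_def, hρ, one_pow]

include D in
/-- the partner of an isotropic vector -/
theorem exists_hypPair {e : Fin n → F} (he0 : e ≠ 0) (hee : h e e = 0) :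
    ∃ f, HypPair q e f := by
  obtain ⟨v, -, hvv, huv, hvu⟩ := exists_partner D (nonDeg_top D) (Submodule.mem_top) he0 hee
  exact ⟨v, ⟨hee, hvv, huv, hvu⟩⟩

/-- the centre of a Sylow subgroup fixing `e` -/
theorem zz_sylow (P : Sylow p ↥(Cfsg.SU n F q)) {e : Fin n → F} (he0 : e ≠ 0) (hee : h e e = 0)
    (hP : ∀ g ∈ P, tm g *ᵥ e = e) :
    zz (P : Subgroup ↥(Cfsg.SU n F q)) = Ts D e := by
  obtain ⟨f, H⟩ := exists_hypPair D he0 hee
  have hQ := Qs_le_sylow D p P hP
  apply le_antisymm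
  · intro x hx
    rw [mem_zz] at hx
    obtain ⟨hxP, hxc⟩ := hx
    obtain ⟨ρ, c, -, hv, hxm⟩ := centralizer_Qs D H x (fun y hy => (hxc y (hQ hy)).symm)
    have hxe : tm x *ᵥ e = ρ • e := by
      rw [hxm, Matrix.smul_mulVec, Sg_mulVec_self D hv]
    obtain ⟨k, hk⟩ := P.isPGroup' ⟨x, hxP⟩
    have hk' : x ^ p ^ k = 1 := by
      have := congrArg Subtype.val hk
      rwa [Subgroup.coe_pow, Subgroup.coe_one] at this
    have h1 := tm_pow_mulVec hxe (p ^ k)
    rw [hk', tm_one, Matrix.one_mulVec] at h1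
    have hρ : ρ ^ p ^ k = 1 := by
      have h2 : (ρ ^ p ^ k - 1) • e = 0 := by rw [sub_smul, one_smul, ← h1, sub_self]
      rcases smul_eq_zero.mp h2 with h3 | h3
      · exact sub_eq_zero.mp h3
      · exact absurd h3 he0
    have hρ1 := eq_one_of_pow_char_pow p hρ
    rw [hρ1, one_smul] at hxm
    refine ⟨c, ?_⟩
    apply toM_injective
    rw [hxm, tm_sgS D hv]
  · intro x hx
    rw [mem_zz]
    refine ⟨hQ (Ts_le_Qs D e hx), ?_⟩
    obtain ⟨c, rfl⟩ := hx
    intro y hy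
    by_cases hv : Valid D e 0 c
    · have := sgS_conj D hv y
      rw [hP y hy, Matrix.mulVec_zero] at this
      calc y * sgS D e 0 c = (y * sgS D e 0 c * y⁻¹) * y := by group
        _ = sgS D e 0 c * y := by rw [this]
    · rw [sgS_of_not_valid D hv, mul_one, one_mul]

variable [Fintype F]

/-- a central `p`-element of `SU_n` is trivial -/
theorem center_pElement_eq_one (hF : Fintype.card F = q ^ 2) (hn : 2 ≤ n)
    {z : ↥(Cfsg.SU n F q)} (hz : z ∈ Subgroup.center ↥(Cfsg.SU n F q)) {k : ℕ}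
    (hzk : z ^ p ^ k = 1) : z = 1 := by
  have h1 : orderOf z ∣ p ^ k := orderOf_dvd_of_pow_eq_one hzk
  have h2 : orderOf z ∣ Nat.gcd n (q + 1) := by
    rw [← Cfsg.Agent.Helper2.Herm.card_center_SU hF n hn]
    have := orderOf_dvd_natCard (⟨z, hz⟩ : Subgroup.center ↥(Cfsg.SU n F q))
    rwa [Subgroup.orderOf_mk] at this
  have hpq : p ∣ q := by
    obtain ⟨j, -, hj⟩ := FiniteField.card F p
    have : p ∣ q ^ 2 := by
      rw [← hF, hj]
      exact dvd_pow_self p j.pos.ne'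
    exact (Fact.out : p.Prime).dvd_of_dvd_pow this
  have hcop : Nat.Coprime (p ^ k) (q + 1) := by
    apply Nat.Coprime.pow_left
    rw [Nat.Prime.coprime_iff_not_dvd (Fact.out : p.Prime)]
    intro hdvd
    have := (Nat.dvd_add_right hpq).mp hdvd
    exact (Fact.out : p.Prime).one_lt.ne' (Nat.dvd_one.mp this)
  have h3 : orderOf z ∣ 1 := by
    have := Nat.dvd_gcd h1 (h2.trans (Nat.gcd_dvd_right n (q + 1)))
    rwa [hcop] at this
  exact orderOf_eq_one_iff.mp (Nat.dvd_one.mp h3)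

/-- the projection `SU_n → PSU_n` -/
noncomputable def prU : ↥(Cfsg.SU n F q) →* Cfsg.PSU n F q :=
  QuotientGroup.mk' _

theorem prU_surjective : Function.Surjective (prU : ↥(Cfsg.SU n F q) →* _) :=
  QuotientGroup.mk'_surjective _

theorem prU_eq_one_iff (g : ↥(Cfsg.SU n F q)) :
    prU g = 1 ↔ g ∈ Subgroup.center ↥(Cfsg.SU n F q) := by
  unfold prU
  rw [QuotientGroup.mk'_apply, QuotientGroup.eq_one_iff]

/-- `prU` is injective on `p`-subgroups -/
theorem prU_injOn_pGroup (hF : Fintype.card F = q ^ 2) (hn : 2 ≤ n)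
    {P : Subgroup ↥(Cfsg.SU n F q)} (hP : IsPGroup p P) {x y : ↥(Cfsg.SU n F q)} (hx : x ∈ P)
    (hy : y ∈ P) (hxy : prU x = prU y) : x = y := by
  have h1 : prU (x⁻¹ * y) = 1 := by rw [map_mul, map_inv, hxy, inv_mul_cancel]
  rw [prU_eq_one_iff] at h1
  obtain ⟨k, hk⟩ := hP ⟨x⁻¹ * y, P.mul_mem (P.inv_mem hx) hy⟩
  have hk' : (x⁻¹ * y) ^ p ^ k = 1 := by
    have := congrArg Subtype.val hk
    rwa [Subgroup.coe_pow, Subgroup.coe_one] at this
  have := center_pElement_eq_one p hF hn h1 hk'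
  exact inv_mul_eq_one.mp this

/-- the centre of the image of a `p`-subgroup -/
theorem zz_map_prU (hF : Fintype.card F = q ^ 2) (hn : 2 ≤ n)
    {P : Subgroup ↥(Cfsg.SU n F q)} (hP : IsPGroup p P) :
    zz (P.map prU) = (zz P).map prU := by
  apply le_antisymm
  · intro x hx
    rw [mem_zz] at hx
    obtain ⟨⟨y, hy, rfl⟩, hc⟩ := hx
    refine ⟨y, ?_, rfl⟩
    show y ∈ zz P
    rw [mem_zz]
    refine ⟨hy, fun z hz => ?_⟩
    apply prU_injOn_pGroup p hF hn hP (P.mul_mem hz hy) (P.mul_mem hy hz)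
    rw [map_mul, map_mul]
    exact hc _ ⟨z, hz, rfl⟩
  · rintro x ⟨y, hy, rfl⟩
    have hy' : y ∈ zz P := hy
    clear hy
    rename' hy' => hy
    rw [mem_zz] at hy ⊢
    refine ⟨⟨y, hy.1, rfl⟩, ?_⟩
    rintro z ⟨z', hz', rfl⟩
    rw [← map_mul, ← map_mul, hy.2 z' hz']

end Cfsg.Agent.Helper7.AutPSU
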