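import Cfsg.Agent.Helper7.AutPSU4
import Cfsg.Agent.Helper2.SU.Trans

/-!
# Automorphisms of `PSU_n`, part 5 (helper7)

Every automorphism of `PSU_n` (`n ≥ 3`) permutes the transvection groups `Tb e`: they are the
centres of the Sylow `p`-subgroups.
-/

set_option autoImplicit false
set_option linter.unusedSectionVars false

namespace Cfsg.Agent.Helper7.AutPSU

open Matrix Cfsg.Agent.Helper2.SUGen Cfsg.Agent.S2644 Module
open Cfsg.Agent.Helper7.AutPSL (zz mem_zz zz_map exists_conj_of_sylow)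

variable {F : Type*} [Field F] [Fintype F] {n q : ℕ} (D : Frob F q)

local notation "h" => Cfsg.hermForm n F q
local notation "tm" => Cfsg.Agent.S2644.toM F n q

/-- the transvection groups of `PSU_n` -/
noncomputable def Tb (e : Fin n → F) : Subgroup (Cfsg.PSU n F q) := (Ts D e).map prU

/-- the Siegel groups of `PSU_n` -/
noncomputable def Qb (e : Fin n → F) : Subgroup (Cfsg.PSU n F q) := (Qs D e).map prU

theorem Tb_le_Qb (e : Fin n → F) : Tb D e ≤ Qb D e := Subgroup.map_mono (Ts_le_Qs D e)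

/-- a generic lemma on conjugating families of subgroups indexed by vectors -/
theorem map_conj_family (S : (Fin n → F) → Subgroup ↥(Cfsg.SU n F q))
    (hS : ∀ (e : Fin n → F) (x : ↥(Cfsg.SU n F q)), x ∈ S e → ∀ g : ↥(Cfsg.SU n F q),
      g * x * g⁻¹ ∈ S (tm g *ᵥ e)) (g : ↥(Cfsg.SU n F q)) (e : Fin n → F) :
    ((S e).map prU).map (MulAut.conj (prU g)).toMonoidHom = (S (tm g *ᵥ e)).map prU := by
  ext y
  constructor
  · rintro ⟨_, ⟨x, hx, rfl⟩, rfl⟩
    refine ⟨g * x * g⁻¹, hS e x hx g, ?_⟩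
    rw [map_mul, map_mul, map_inv]
    rfl
  · rintro ⟨x, hx, rfl⟩
    refine ⟨prU (g⁻¹ * x * g), ⟨g⁻¹ * x * g, ?_, rfl⟩, ?_⟩
    · have := hS _ x hx g⁻¹
      rwa [tm_inv_mulVec', inv_inv] at this
    · show prU g * prU (g⁻¹ * x * g) * (prU g)⁻¹ = prU x
      rw [← map_inv, ← map_mul, ← map_mul]
      congr 1
      group

theorem map_conj_Tb (g : ↥(Cfsg.SU n F q)) (e : Fin n → F) :
    (Tb D e).map (MulAut.conj (prU g)).toMonoidHom = Tb D (tm g *ᵥ e) :=
  map_conj_family (Ts D) (fun _ _ hx g => conj_mem_Ts D hx g) g e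

theorem map_conj_Qb (g : ↥(Cfsg.SU n F q)) (e : Fin n → F) :
    (Qb D e).map (MulAut.conj (prU g)).toMonoidHom = Qb D (tm g *ᵥ e) :=
  map_conj_family (Qs D) (fun _ _ hx g => conj_mem_Qs D hx g) g e

include D in
/-- `SU_n` is transitive on nonzero isotropic vectors -/
theorem exists_SU_mulVec (hn : 3 ≤ n) {u u' : Fin n → F} (hu0 : u ≠ 0) (huu : h u u = 0)
    (hu0' : u' ≠ 0) (huu' : h u' u' = 0) : ∃ g : ↥(Cfsg.SU n F q), tm g *ᵥ u = u' := by
  obtain ⟨t, ht, htu⟩ := trans_iso D (nonDeg_top D) (by rw [finrank_top, Module.finrank_fin_fun]; exact hn)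
    (Submodule.mem_top) (Submodule.mem_top) huu huu' hu0 hu0'
  exact ⟨mkSU t (Gen_det D ht) (Gen_pres D ht), htu⟩

variable (p : ℕ) [Fact p.Prime] [CharP F p]

/-- a Sylow subgroup of `PSU_n` whose centre is a transvection group -/
theorem exists_sylow_zz (hF : Fintype.card F = q ^ 2) (hn : 3 ≤ n) :
    ∃ (P : Sylow p (Cfsg.PSU n F q)) (u : Fin n → F), u ≠ 0 ∧ h u u = 0 ∧
      zz (P : Subgroup (Cfsg.PSU n F q)) = Tb D u := by
  obtain ⟨P₀⟩ : Nonempty (Sylow p ↥(Cfsg.SU n F q)) := inferInstance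
  obtain ⟨u, hu0, huu, hfix⟩ := exists_fixed_isotropic D p (by omega) P₀.isPGroup'
  refine ⟨P₀.mapSurjective prU_surjective, u, hu0, huu, ?_⟩
  rw [Sylow.coe_mapSurjective, zz_map_prU p hF (by omega) P₀.isPGroup', zz_sylow D p P₀ hu0 huu hfix]
  rfl

include p in
/-- **every automorphism permutes the transvection groups** -/
theorem map_aut_Tb (hF : Fintype.card F = q ^ 2) (hn : 3 ≤ n) (α : MulAut (Cfsg.PSU n F q))
    {e : Fin n → F} (he0 : e ≠ 0) (hee : h e e = 0) :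
    ∃ e' : Fin n → F, e' ≠ 0 ∧ h e' e' = 0 ∧ (Tb D e).map α.toMonoidHom = Tb D e' := by
  obtain ⟨P, u, hu0, huu, hzz⟩ := exists_sylow_zz D p hF hn
  obtain ⟨g, hg⟩ := exists_SU_mulVec D hn hu0 huu he0 hee
  have h1 : Tb D e = (Tb D u).map (MulAut.conj (prU g)).toMonoidHom := by
    rw [map_conj_Tb, hg]
  obtain ⟨x, hx⟩ := exists_conj_of_sylow P (α * MulAut.conj (prU g))
  obtain ⟨g', rfl⟩ := prU_surjective x
  refine ⟨tm g' *ᵥ u, ?_, ?_, ?_⟩
  · intro h0
    apply hu0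
    have := tm_inv_mulVec' g' u
    rw [h0, Matrix.mulVec_zero] at this
    exact this.symm
  · rw [toM_pres g', huu]
  · have hcomp : (α.toMonoidHom).comp (MulAut.conj (prU g)).toMonoidHom
        = (α * MulAut.conj (prU g)).toMonoidHom := rfl
    rw [h1, Subgroup.map_map, hcomp, ← map_conj_Tb, ← hzz, ← zz_map, ← zz_map, hx]

end Cfsg.Agent.Helper7.AutPSU
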