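import Cfsg.Agent.Helper7.AutPSU6

/-!
# Automorphisms of `PSU_n`, part 7 (helper7)

Normalisation: after composing with an inner automorphism, an automorphism of `PSU_n` fixes the
transvection groups `Tb e`, `Tb f` of a given hyperbolic pair.
-/

set_option autoImplicit false
set_option linter.unusedSectionVars false

namespace Cfsg.Agent.Helper7.AutPSU

open Matrix Cfsg.Agent.Helper2.SUGen Cfsg.Agent.S2644 Module

variable {F : Type*} [Field F] [Fintype F] {n q : ℕ} (D : Frob F q)

local notation "h" => Cfsg.hermForm n F q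
local notation "tm" => Cfsg.Agent.S2644.toM F n q

/-- `α` is normalised with respect to the pair `(e, f)` -/
def Nrm (α : MulAut (Cfsg.PSU n F q)) (e f : Fin n → F) : Prop :=
  (Tb D e).map α.toMonoidHom = Tb D e ∧ (Tb D f).map α.toMonoidHom = Tb D f

omit [Fintype F] in
theorem Tb_smul (e : Fin n → F) {l : F} (hl : l ≠ 0) : Tb D (l • e) = Tb D e := by
  unfold Tb
  rw [Ts_smul D e hl]

omit [Fintype F] in
theorem Qb_smul (e : Fin n → F) {l : F} (hl : l ≠ 0) : Qb D (l • e) = Qb D e := by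
  unfold Qb
  rw [Qs_smul D e hl]

omit [Fintype F] in
theorem hypPair_symm {e f : Fin n → F} (H : HypPair q e f) : HypPair q f e :=
  ⟨H.hvv, H.huu, H.hvu, H.huv⟩

theorem map_mul_aut {G : Type*} [Group G] (α β : MulAut G) (K : Subgroup G) :
    K.map (α * β).toMonoidHom = (K.map β.toMonoidHom).map α.toMonoidHom := by
  rw [Subgroup.map_map]
  rfl

variable (p : ℕ) [Fact p.Prime] [CharP F p]

include p in
/-- the images of non-commuting transvection groups do not have orthogonal centres -/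
theorem not_orth_of_map (hF : Fintype.card F = q ^ 2) (hn : 1 ≤ n) {e f e' f' : Fin n → F}
    (he0 : e ≠ 0) (hee : h e e = 0) (hff : h f f = 0) (hef : h e f ≠ 0)
    (α : MulAut (Cfsg.PSU n F q)) (he : (Tb D e).map α.toMonoidHom = Tb D e')
    (hf : (Tb D f).map α.toMonoidHom = Tb D f') : h e' f' ≠ 0 := by
  intro h0
  apply hef
  apply orth_of_Tb_commute D hF hn he0 hee hff
  intro x hx y hy
  have h1 : α x ∈ Tb D e' := by
    rw [← he]
    exact ⟨x, hx, rfl⟩
  have h2 : α y ∈ Tb D f' := by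
    rw [← hf]
    exact ⟨y, hy, rfl⟩
  have := Tb_commute D h0 _ h1 _ h2
  rw [← map_mul, ← map_mul] at this
  exact α.injective this

include p in
/-- **normalisation** -/
theorem exists_normalize (hF : Fintype.card F = q ^ 2) (hn : 3 ≤ n) {e f : Fin n → F}
    (H : HypPair q e f) (α : MulAut (Cfsg.PSU n F q)) :
    ∃ g : ↥(Cfsg.SU n F q), Nrm D (MulAut.conj (prU g) * α) e f := by
  have he0 := e_ne_zero D H
  have hf0 := e_ne_zero D (hypPair_symm H)
  obtain ⟨e', he0', hee', he'⟩ := map_aut_Tb D p hF hn α he0 H.huu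
  obtain ⟨f', hf0', hff', hf'⟩ := map_aut_Tb D p hF hn α hf0 H.hvv
  have hne : h e' f' ≠ 0 := not_orth_of_map D p hF (by omega) he0 H.huu H.hvv
    (by rw [H.huv]; exact one_ne_zero) α he' hf'
  have hne' : h f' e' ≠ 0 := h_symm_ne D hne
  set l := (h f' e')⁻¹ with hl
  have hl0 : l ≠ 0 := inv_ne_zero hne'
  have h1 : h (l • f') e' = 1 := by rw [h_smul_left, hl, inv_mul_cancel₀ hne']
  have h2 : h (l • f') (l • f') = 0 := by rw [h_smul_left, h_smul_right D, hff', mul_zero, mul_zero]
  obtain ⟨t, ht, hte, htf⟩ := trans_pair D (nonDeg_top D)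
    (by rw [finrank_top, Module.finrank_fin_fun]; exact hn)
    (Submodule.mem_top) (Submodule.mem_top) (Submodule.mem_top) (Submodule.mem_top)
    hee' h2 h1 H.huu H.hvv H.hvu
  refine ⟨mkSU t (Gen_det D ht) (Gen_pres D ht), ?_, ?_⟩
  · rw [map_mul_aut, he', map_conj_Tb]
    show Tb D (t *ᵥ e') = Tb D e
    rw [hte]
  · rw [map_mul_aut, hf', ← Tb_smul D f' hl0, map_conj_Tb]
    show Tb D (t *ᵥ (l • f')) = Tb D f
    rw [htf]

end Cfsg.Agent.Helper7.AutPSU
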