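import Cfsg.Agent.Helper7.AutPSU7

/-!
# Automorphisms of `PSU_n`, part 8 (helper7)

The subspace `W = ⟨e, f⟩^⊥`; a `p`-subgroup of the stabiliser of `e` containing `Qs e` and
normalised by the pointwise stabiliser of `e`, `f` is `Qs e`.
-/

set_option autoImplicit false
set_option linter.unusedSectionVars false

namespace Cfsg.Agent.Helper7.AutPSU

open Matrix Cfsg.Agent.Helper2.SUGen Cfsg.Agent.S2644 Module

variable {F : Type*} [Field F] {n q : ℕ} (D : Frob F q)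

local notation "h" => Cfsg.hermForm n F q
local notation "tm" => Cfsg.Agent.S2644.toM F n q

/-- the subspace `⟨e, f⟩^⊥` -/
def Wsub (q : ℕ) (e f : Fin n → F) : Submodule F (Fin n → F) where
  carrier := {w | Cfsg.hermForm n F q w e = 0 ∧ Cfsg.hermForm n F q w f = 0}
  add_mem' := by
    rintro a b ⟨h1, h2⟩ ⟨h3, h4⟩
    exact ⟨by rw [h_add_left, h1, h3, add_zero], by rw [h_add_left, h2, h4, add_zero]⟩
  zero_mem' := ⟨h_zero_left e, h_zero_left f⟩
  smul_mem' := by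
    rintro c a ⟨h1, h2⟩
    exact ⟨by rw [h_smul_left, h1, mul_zero], by rw [h_smul_left, h2, mul_zero]⟩

theorem mem_Wsub {e f w : Fin n → F} : w ∈ Wsub q e f ↔ h w e = 0 ∧ h w f = 0 := Iff.rfl

/-- the stabiliser of a vector -/
def stabVec (v : Fin n → F) : Subgroup ↥(Cfsg.SU n F q) where
  carrier := {g | tm g *ᵥ v = v}
  one_mem' := by
    show tm 1 *ᵥ v = v
    rw [tm_one, Matrix.one_mulVec]
  mul_mem' := by
    intro a b ha hb
    show tm (a * b) *ᵥ v = v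
    rw [tm_mul, ← Matrix.mulVec_mulVec, hb, ha]
  inv_mem' := by
    intro a ha
    show tm a⁻¹ *ᵥ v = v
    have := tm_inv_mulVec' a v
    rw [ha] at this
    exact this

theorem mem_stabVec {v : Fin n → F} {g : ↥(Cfsg.SU n F q)} : g ∈ stabVec v ↔ tm g *ᵥ v = v :=
  Iff.rfl

section pair

variable {e f : Fin n → F} (H : HypPair q e f)

include D H

theorem Wsub_nonDeg : NonDeg q (Wsub q e f) := by
  intro y hy hall
  apply h_nondeg D
  intro z
  obtain ⟨z₀, hz₀e, hz₀f, hz⟩ := exists_decomp D H z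
  rw [hz, h_add_right D, h_add_right D, h_smul_right D, h_smul_right D, hy.1, hy.2,
    hall z₀ ⟨hz₀e, hz₀f⟩]
  ring

theorem Wsub_ne_bot (hn : 3 ≤ n) : Wsub q e f ≠ ⊥ := by
  obtain ⟨z, -, hz⟩ := exists_not_pair (K := F) (Y := (⊤ : Submodule F (Fin n → F)))
    (by rw [finrank_top, Module.finrank_fin_fun]; exact hn) e f
  have hmem := decomp_perp D H z
  intro hbot
  have h0 : z - h z f • e - h z e • f ∈ Wsub q e f := hmem
  rw [hbot, Submodule.mem_bot] at h0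
  apply hz (h z f) (h z e)
  have : z = (z - h z f • e - h z e • f) + h z f • e + h z e • f := by module
  rw [h0, zero_add] at this
  exact this

/-- the pointwise stabiliser of `e`, `f` preserves `W` -/
theorem mulVec_mem_Wsub {g : ↥(Cfsg.SU n F q)} (hge : tm g *ᵥ e = e) (hgf : tm g *ᵥ f = f)
    {w : Fin n → F} (hw : w ∈ Wsub q e f) : tm g *ᵥ w ∈ Wsub q e f := by
  constructor
  · have := toM_pres g w e
    rw [hge] at this
    rw [this, hw.1]
  · have := toM_pres g w f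
    rw [hgf] at this
    rw [this, hw.2]

/-- an element fixing `e`, `f` and `W` pointwise is trivial -/
theorem eq_one_of_fix {g : ↥(Cfsg.SU n F q)} (hge : tm g *ᵥ e = e) (hgf : tm g *ᵥ f = f)
    (hW : ∀ w ∈ Wsub q e f, tm g *ᵥ w = w) : g = 1 := by
  apply toM_injective
  rw [tm_one]
  apply ext_plane D H
  · intro z hze hzf
    rw [hW z ⟨hze, hzf⟩, Matrix.one_mulVec]
  · rw [hge, Matrix.one_mulVec]
  · rw [hgf, Matrix.one_mulVec]

/-- transvections with centre in `W` fix `e` and `f` -/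
theorem sgS_W_fix {y : Fin n → F} {s : F} (hy : y ∈ Wsub q e f) (hv : Valid D y 0 s) :
    tm (sgS D y 0 s) *ᵥ e = e ∧ tm (sgS D y 0 s) *ᵥ f = f := by
  rw [tm_sgS D hv]
  constructor
  · rw [Sg_mulVec, h_symm_zero D hy.1, h_zero_right D]
    module
  · rw [Sg_mulVec, h_symm_zero D hy.2, h_zero_right D]
    module

/-- a subspace of `W` invariant under the stabiliser of `e`, `f` and containing a nonzero isotropic
vector is `W` -/
theorem invariant_eq_W {Y : Submodule F (Fin n → F)}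
    (hinv : ∀ g : ↥(Cfsg.SU n F q), tm g *ᵥ e = e → tm g *ᵥ f = f → ∀ w ∈ Y, tm g *ᵥ w ∈ Y)
    {x₀ : Fin n → F} (hx₀Y : x₀ ∈ Y) (hx₀W : x₀ ∈ Wsub q e f) (hx₀ : x₀ ≠ 0) (hxx : h x₀ x₀ = 0) :
    Wsub q e f ≤ Y := by
  obtain ⟨s, hs0, hs⟩ := exists_skew D
  -- isotropic vectors of `W` not orthogonal to `x₀` lie in `Y`
  have key : ∀ y ∈ Wsub q e f, h y y = 0 → h x₀ y ≠ 0 → y ∈ Y := by
    intro y hyW hyy hne
    have hv : Valid D y 0 s := by rw [valid_T_iff D hyy, hs, add_neg_cancel]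
    obtain ⟨h1, h2⟩ := sgS_W_fix D H hyW hv
    have h3 := hinv _ h1 h2 x₀ hx₀Y
    rw [tm_sgS D hv, Sg_mulVec, h_zero_right D] at h3
    have h4 : (s * h x₀ y) • y ∈ Y := by
      have : (s * h x₀ y) • y
          = (x₀ + h x₀ y • (0 : Fin n → F) - (0 : F) • y + (s * h x₀ y) • y) - x₀ := by module
      rw [this]
      exact Y.sub_mem h3 hx₀Y
    have h5 := Y.smul_mem (s * h x₀ y)⁻¹ h4
    rwa [smul_smul, inv_mul_cancel₀ (mul_ne_zero hs0 hne), one_smul] at h5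
  obtain ⟨y₀, hy₀W, hyy₀, hxy₀, hyx₀⟩ := exists_partner D (Wsub_nonDeg D H) hx₀W hx₀ hxx
  have H' : HypPair q x₀ y₀ := ⟨hxx, hyy₀, hxy₀, hyx₀⟩
  have hy₀Y : y₀ ∈ Y := key y₀ hy₀W hyy₀ (by rw [hxy₀]; exact one_ne_zero)
  intro w hw
  obtain ⟨w₂, hw₂x, hw₂y, hw₂⟩ := exists_decomp D H' w
  have hw₂W : w₂ ∈ Wsub q e f := by
    have : w₂ = w - h w y₀ • x₀ - h w x₀ • y₀ := by
      have h1 : w - h w y₀ • x₀ - h w x₀ • y₀
          = (w₂ + h w y₀ • x₀ + h w x₀ • y₀) - h w y₀ • x₀ - h w x₀ • y₀ := by rw [← hw₂]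
      rw [h1]
      module
    rw [this]
    exact Submodule.sub_mem _ (Submodule.sub_mem _ hw (Submodule.smul_mem _ _ hx₀W))
      (Submodule.smul_mem _ _ hy₀W)
  obtain ⟨c, hc⟩ := exists_trace D (-(h w₂ w₂)) (by rw [map_neg, h_self_fix D])
  set y₁ := y₀ + w₂ + c • x₀ with hy₁
  have hy₁W : y₁ ∈ Wsub q e f :=
    Submodule.add_mem _ (Submodule.add_mem _ hy₀W hw₂W) (Submodule.smul_mem _ _ hx₀W)
  have hyy₁ : h y₁ y₁ = 0 := by
    rw [hy₁]
    simp only [h_add_left, h_add_right D, h_smul_left, h_smul_right D, hxx, hyy₀, hxy₀, hyx₀,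
      hw₂x, hw₂y, h_symm_zero D hw₂x, h_symm_zero D hw₂y]
    linear_combination hc
  have hxy₁ : h x₀ y₁ = 1 := by
    rw [hy₁, h_add_right D, h_add_right D, h_smul_right D, hxx, hxy₀, h_symm_zero D hw₂x]
    ring
  have hy₁Y : y₁ ∈ Y := key y₁ hy₁W hyy₁ (by rw [hxy₁]; exact one_ne_zero)
  have hw₂Y : w₂ ∈ Y := by
    have : w₂ = y₁ - y₀ - c • x₀ := by
      rw [hy₁]
      module
    rw [this]
    exact Y.sub_mem (Y.sub_mem hy₁Y hy₀Y) (Y.smul_mem _ hx₀Y)
  rw [hw₂]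
  exact Y.add_mem (Y.add_mem hw₂Y (Y.smul_mem _ hx₀Y)) (Y.smul_mem _ hy₀Y)

end pair

end Cfsg.Agent.Helper7.AutPSU
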