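import Cfsg.Agent.Helper7.AutPSU8

/-!
# Automorphisms of `PSU_n`, part 9 (helper7)

A `p`-subgroup of the stabiliser of `e` containing `Qs e` and normalised by the pointwise
stabiliser of `e`, `f` is `Qs e`.
-/

set_option autoImplicit false
set_option linter.unusedSectionVars false

namespace Cfsg.Agent.Helper7.AutPSU

open Matrix Cfsg.Agent.Helper2.SUGen Cfsg.Agent.S2644 Module

variable {F : Type*} [Field F] [Fintype F] {n q : ℕ} (D : Frob F q)

local notation "h" => Cfsg.hermForm n F q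
local notation "tm" => Cfsg.Agent.S2644.toM F n q

variable (p : ℕ) [Fact p.Prime] [CharP F p]

section pair

variable {e f : Fin n → F} (H : HypPair q e f)

include D H

/-- a `p`-subgroup fixing `e`, `f` and normalised by the pointwise stabiliser of `e`, `f` is
trivial -/
theorem eq_bot_of_normal {O₀ : Subgroup ↥(Cfsg.SU n F q)} (hO : IsPGroup p O₀)
    (hfixe : ∀ x ∈ O₀, tm x *ᵥ e = e) (hfixf : ∀ x ∈ O₀, tm x *ᵥ f = f)
    (hnorm : ∀ g : ↥(Cfsg.SU n F q), tm g *ᵥ e = e → tm g *ᵥ f = f → ∀ x ∈ O₀, g * x * g⁻¹ ∈ O₀) :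
    O₀ = ⊥ := by
  -- the fixed space
  let Fix : Submodule F (Fin n → F) :=
    { carrier := {w | w ∈ Wsub q e f ∧ ∀ y ∈ O₀, tm y *ᵥ w = w}
      add_mem' := by
        rintro a b ⟨h1, h2⟩ ⟨h3, h4⟩
        exact ⟨Submodule.add_mem _ h1 h3, fun y hy => by
          rw [Matrix.mulVec_add, h2 y hy, h4 y hy]⟩
      zero_mem' := ⟨Submodule.zero_mem _, fun y _ => Matrix.mulVec_zero _⟩
      smul_mem' := by
        rintro c a ⟨h1, h2⟩
        exact ⟨Submodule.smul_mem _ _ h1, fun y hy => by rw [Matrix.mulVec_smul, h2 y hy]⟩ }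
  have hFixmem : ∀ w, w ∈ Fix ↔ w ∈ Wsub q e f ∧ ∀ y ∈ O₀, tm y *ᵥ w = w := fun w => Iff.rfl
  have hFixinv : ∀ g : ↥(Cfsg.SU n F q), tm g *ᵥ e = e → tm g *ᵥ f = f →
      ∀ w ∈ Fix, tm g *ᵥ w ∈ Fix := by
    intro g hge hgf w hw
    rw [hFixmem] at hw ⊢
    refine ⟨mulVec_mem_Wsub D H hge hgf hw.1, fun y hy => ?_⟩
    have hge' : tm g⁻¹ *ᵥ e = e := by
      have := tm_inv_mulVec' g e
      rwa [hge] at this
    have hgf' : tm g⁻¹ *ᵥ f = f := by
      have := tm_inv_mulVec' g f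
      rwa [hgf] at this
    have h1 := hnorm g⁻¹ hge' hgf' y hy
    rw [inv_inv] at h1
    have h2 := hw.2 _ h1
    rw [tm_mul, tm_mul, ← Matrix.mulVec_mulVec, ← Matrix.mulVec_mulVec] at h2
    have h3 := congrArg (fun v => tm g *ᵥ v) h2
    beta_reduce at h3
    rw [Matrix.mulVec_mulVec, tm_mul_inv, Matrix.one_mulVec] at h3
    exact h3
  have hWinv : ∀ g ∈ O₀, ∀ y ∈ Wsub q e f, tm g *ᵥ y ∈ Wsub q e f :=
    fun g hg y hy => mulVec_mem_Wsub D H (hfixe g hg) (hfixf g hg) hy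
  -- `Fix = W`
  have hFixW : Wsub q e f ≤ Fix := by
    by_cases hY' : Wsub q e f ⊓ perpL q Fix = ⊥
    · -- `Fix ⊔ ⟨e, f⟩ = ⊤`
      have h1 : perpL q (Submodule.span F {e, f} ⊔ Fix) = ⊥ := by
        rw [eq_bot_iff]
        intro z hz
        rw [← hY']
        rw [mem_perpL] at hz
        refine ⟨⟨hz e (Submodule.mem_sup_left (Submodule.subset_span (by simp))),
          hz f (Submodule.mem_sup_left (Submodule.subset_span (by simp)))⟩, ?_⟩
        show z ∈ perpL q Fix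
        rw [mem_perpL]
        intro x hx
        exact hz x (Submodule.mem_sup_right hx)
      have h2 : Submodule.span F {e, f} ⊔ Fix = ⊤ := by
        rw [← perpL_perpL D (Submodule.span F {e, f} ⊔ Fix), h1, perpL_bot D]
      intro w hw
      have h3 : w ∈ Submodule.span F {e, f} ⊔ Fix := by rw [h2]; exact Submodule.mem_top
      obtain ⟨x, hx, y, hy, rfl⟩ := Submodule.mem_sup.mp h3
      obtain ⟨a, b, rfl⟩ := Submodule.mem_span_pair.mp hx
      have hyW : y ∈ Wsub q e f := ((hFixmem y).mp hy).1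
      have h4 := hw.1
      have h5 := hw.2
      rw [h_add_left, h_add_left, h_smul_left, h_smul_left, H.huu, H.hvu, hyW.1] at h4
      rw [h_add_left, h_add_left, h_smul_left, h_smul_left, H.huv, H.hvv, hyW.2] at h5
      have hb : b = 0 := by linear_combination h4
      have ha : a = 0 := by linear_combination h5
      rw [ha, hb, zero_smul, zero_smul, zero_add, zero_add]
      exact hy
    · obtain ⟨x₀, hx₀mem, hx₀, hx₀fix⟩ := exists_fixed_of_invariant p hO
        (Wsub q e f ⊓ perpL q Fix) hY' (by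
          intro g hg y hy
          refine ⟨hWinv g hg y hy.1, ?_⟩
          have hy2 : y ∈ perpL q Fix := hy.2
          show tm g *ᵥ y ∈ perpL q Fix
          rw [mem_perpL] at hy2 ⊢
          intro x hx
          have h1 := toM_pres g y x
          rw [((hFixmem x).mp hx).2 g hg] at h1
          rw [h1]
          exact hy2 x hx)
      have hx₀Fix : x₀ ∈ Fix := (hFixmem x₀).mpr ⟨hx₀mem.1, hx₀fix⟩
      have hxx : h x₀ x₀ = 0 := (mem_perpL.mp hx₀mem.2) x₀ hx₀Fix
      exact invariant_eq_W D H hFixinv hx₀Fix hx₀mem.1 hx₀ hxx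
  rw [eq_bot_iff]
  intro y hy
  rw [Subgroup.mem_bot]
  exact eq_one_of_fix D H (hfixe y hy) (hfixf y hy)
    (fun w hw => ((hFixmem w).mp (hFixW hw)).2 y hy)

/-- **the core of step III** -/
theorem le_Qs_of_normal {O' : Subgroup ↥(Cfsg.SU n F q)} (hO : IsPGroup p O')
    (hQ : Qs D e ≤ O') (hfix : ∀ x ∈ O', tm x *ᵥ e = e)
    (hnorm : ∀ g : ↥(Cfsg.SU n F q), tm g *ᵥ e = e → tm g *ᵥ f = f → ∀ x ∈ O', g * x * g⁻¹ ∈ O') :
    O' ≤ Qs D e := by
  have hbot : O' ⊓ stabVec f = ⊥ := by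
    apply eq_bot_of_normal D p H (hO.to_le inf_le_left)
    · intro x hx
      exact hfix x hx.1
    · intro x hx
      exact hx.2
    · intro g hge hgf x hx
      refine ⟨hnorm g hge hgf x hx.1, ?_⟩
      have hgf' : tm g⁻¹ *ᵥ f = f := by
        have := tm_inv_mulVec' g f
        rwa [hgf] at this
      show tm (g * x * g⁻¹) *ᵥ f = f
      rw [tm_mul, tm_mul, ← Matrix.mulVec_mulVec, ← Matrix.mulVec_mulVec, hgf',
        (mem_stabVec.mp hx.2), hgf]
  intro x hx
  have hxe := hfix x hx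
  have h1 : h (tm x *ᵥ f) (tm x *ᵥ f) = 0 := by rw [toM_pres x, H.hvv]
  have h2 : h (tm x *ᵥ f) e = h f e := by
    have := toM_pres x f e
    rwa [hxe] at this
  obtain ⟨w, c, -, hwe, hc, hmap⟩ := Sg_map D e f (tm x *ᵥ f) H.huu H.hvv h1
    (by rw [H.hvu]; exact one_ne_zero) h2
  have hv : Valid D e w c := ⟨H.huu, hwe, hc⟩
  have hu : sgS D e w c ∈ O' := hQ (sgS_mem_Qs D e w c)
  have hy : (sgS D e w c)⁻¹ * x ∈ O' ⊓ stabVec f := by
    refine ⟨O'.mul_mem (O'.inv_mem hu) hx, ?_⟩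
    show tm ((sgS D e w c)⁻¹ * x) *ᵥ f = f
    rw [tm_mul, ← Matrix.mulVec_mulVec, ← hmap, ← tm_sgS D hv, tm_inv_mulVec']
  rw [hbot, Subgroup.mem_bot] at hy
  have : x = sgS D e w c := by
    rw [inv_mul_eq_one] at hy
    exact hy.symm
  rw [this]
  exact sgS_mem_Qs D e w c

end pair

end Cfsg.Agent.Helper7.AutPSU
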