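import Cfsg.Agent.Helper2.SpSimple
import Cfsg.Agent.Helper2.SpRel
import Cfsg.Agent.Helper2.SpCenter

/-!
# Automorphisms of `PSp_{2m}`, part 1 (helper7)

Siegel matrices `Sg e w c` for the symplectic form: `x ↦ x + ω(e,x) w + ω(w,x) e + c ω(e,x) e`,
their multiplication, inverses, conjugation and rescaling.
-/

set_option autoImplicit false
set_option linter.unusedSectionVars false

namespace Cfsg.Agent.Helper7.AutPSp

open Matrix Cfsg.Agent.Helper2.Sp

variable {F : Type*} [Field F] {m : ℕ}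

local notation "V" => (Fin m ⊕ Fin m → F)
local notation "Mt" => Matrix (Fin m ⊕ Fin m) (Fin m ⊕ Fin m) F
local notation "SpG" => Matrix.symplecticGroup (Fin m) F

/-- the Siegel matrix -/
def Sg (e w : V) (c : F) : Mt :=
  1 + vecMulVec w (e ᵥ* J (Fin m) F) + vecMulVec e (w ᵥ* J (Fin m) F)
    + c • vecMulVec e (e ᵥ* J (Fin m) F)

theorem Sg_mulVec (e w : V) (c : F) (x : V) :
    Sg e w c *ᵥ x = x + om e x • w + om w x • e + (c * om e x) • e := by
  unfold Sg om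
  rw [add_mulVec, add_mulVec, add_mulVec, one_mulVec, smul_mulVec, vecMulVec_mulVec,
    vecMulVec_mulVec, vecMulVec_mulVec, ← dotProduct_mulVec, ← dotProduct_mulVec]
  ext i
  simp only [Pi.add_apply, Pi.smul_apply, smul_eq_mul, MulOpposite.smul_eq_mul_unop,
    MulOpposite.unop_op]
  ring

theorem Sg_pres {e w : V} (h : om w e = 0) (c : F) : PresS (Sg e w c) := by
  intro x y
  have h' : om e w = 0 := by rw [om_swap w e, h, neg_zero]
  rw [Sg_mulVec, Sg_mulVec]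
  simp only [om_add_left, om_add_right, om_smul_left, om_smul_right, om_self, h, h']
  rw [om_swap e x, om_swap w x]
  ring

theorem Sg_mem {e w : V} (h : om w e = 0) (c : F) :
    Sg e w c ∈ Matrix.symplecticGroup (Fin m) F :=
  mem_symplectic_iff_om.mpr (Sg_pres h c)

theorem Sg_mul (e w w' : V) (c c' : F) (h : om w e = 0) (h' : om w' e = 0) :
    Sg e w c * Sg e w' c' = Sg e (w + w') (c + c' + om w w') := by
  apply mat_ext'
  intro x
  have h1 : om e w' = 0 := by rw [om_swap w' e, h', neg_zero]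
  rw [← mulVec_mulVec, Sg_mulVec, Sg_mulVec, Sg_mulVec]
  simp only [om_add_left, om_add_right, om_smul_right, om_self, h, h1]
  module

theorem Sg_zero_zero (e : V) : Sg e 0 0 = 1 := by
  apply mat_ext'
  intro x
  rw [Sg_mulVec, om_zero_left, one_mulVec]
  module

theorem Sg_inv (e w : V) (c : F) (h : om w e = 0) : Sg e w c * Sg e (-w) (-c) = 1 := by
  rw [Sg_mul e w (-w) c (-c) h (by rw [om_neg_left, h, neg_zero]), ← Sg_zero_zero e]
  congr 1
  · exact add_neg_cancel w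
  · have : om w (-w) = 0 := by
      rw [om_swap (-w) w, om_neg_left, om_self, neg_zero, neg_zero]
    rw [this]
    ring

theorem Sg_conj (g ginv : Mt) (hg : PresS g) (hgi : g * ginv = 1)
    (e w : V) (c : F) :
    g * Sg e w c * ginv = Sg (g *ᵥ e) (g *ᵥ w) c := by
  apply mat_ext'
  intro x
  have hx : x = g *ᵥ (ginv *ᵥ x) := by rw [mulVec_mulVec, hgi, one_mulVec]
  rw [← mulVec_mulVec, ← mulVec_mulVec, Sg_mulVec, Sg_mulVec]
  conv_rhs => rw [hx]
  rw [hg, hg]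
  simp only [mulVec_add, mulVec_smul]

/-- conjugation by a similitude -/
theorem Sg_conj_sim (g ginv : Mt) (κ : F) (hκ : κ ≠ 0)
    (hg : ∀ x y, om (g *ᵥ x) (g *ᵥ y) = κ * om x y) (hgi : g * ginv = 1)
    (e w : V) (c : F) :
    g * Sg e w c * ginv = Sg (g *ᵥ e) (κ⁻¹ • (g *ᵥ w)) (κ⁻¹ * c) := by
  apply mat_ext'
  intro x
  have hx : x = g *ᵥ (ginv *ᵥ x) := by rw [mulVec_mulVec, hgi, one_mulVec]
  rw [← mulVec_mulVec, ← mulVec_mulVec, Sg_mulVec, Sg_mulVec]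
  conv_rhs => rw [hx]
  rw [om_smul_left, hg, hg]
  simp only [mulVec_add, mulVec_smul]
  have e1 : κ⁻¹ * (κ * om w (ginv *ᵥ x)) = om w (ginv *ᵥ x) := by field_simp
  have e2 : κ⁻¹ * c * (κ * om e (ginv *ᵥ x)) = c * om e (ginv *ᵥ x) := by field_simp
  rw [e1, e2, smul_smul, mul_comm (κ * om e (ginv *ᵥ x)) κ⁻¹, ← mul_assoc, inv_mul_cancel₀ hκ,
    one_mul]

theorem Sg_smul (l : F) (e w : V) (c : F) : Sg (l • e) w c = Sg e (l • w) (l * l * c) := by
  apply mat_ext'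
  intro x
  rw [Sg_mulVec, Sg_mulVec, om_smul_left, om_smul_left]
  module

theorem Sg_add_smul (e w : V) (a c : F) : Sg e (w + a • e) c = Sg e w (c + 2 * a) := by
  apply mat_ext'
  intro x
  rw [Sg_mulVec, Sg_mulVec, om_add_left, om_smul_left]
  module

theorem Sg_zero (e : V) (c : F) : Sg e 0 c = T e c := by
  apply mat_ext'
  intro x
  rw [Sg_mulVec, T_mulVec, om_zero_left]
  module

theorem Sg_mulVec_self {e w : V} (h : om w e = 0) (c : F) : Sg e w c *ᵥ e = e := by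
  rw [Sg_mulVec, om_self, h]
  module

theorem Sg_mulVec_f {e f w : V} (H : om e f = 1) (hwf : om w f = 0) (c : F) :
    Sg e w c *ᵥ f = f + w + c • e := by
  rw [Sg_mulVec, H, hwf]
  module

/-! ### group elements -/

theorem tm_mul (g g' : SpG) : (g * g').1 = g.1 * g'.1 := rfl

theorem tm_one : (1 : SpG).1 = 1 := rfl

theorem tm_inv_mul (g : SpG) : (g⁻¹).1 * g.1 = 1 := by
  rw [← tm_mul, inv_mul_cancel, tm_one]

theorem tm_mul_inv (g : SpG) : g.1 * (g⁻¹).1 = 1 := by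
  rw [← tm_mul, mul_inv_cancel, tm_one]

theorem tm_pres (g : SpG) : PresS g.1 := mem_symplectic_iff_om.mp g.2

theorem tm_inv_mulVec (g : SpG) (x : V) : (g⁻¹).1 *ᵥ (g.1 *ᵥ x) = x := by
  rw [mulVec_mulVec, tm_inv_mul, one_mulVec]

theorem tm_mulVec_inv (g : SpG) (x : V) : g.1 *ᵥ ((g⁻¹).1 *ᵥ x) = x := by
  rw [mulVec_mulVec, tm_mul_inv, one_mulVec]

open Classical in
/-- Siegel elements of `Sp_{2m}` (equal to `1` when `ω(w, e) ≠ 0`) -/
noncomputable def sgS (e w : V) (c : F) : SpG :=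
  if hv : om w e = 0 then ⟨Sg e w c, Sg_mem hv c⟩ else 1

theorem tm_sgS {e w : V} (hv : om w e = 0) (c : F) : (sgS e w c).1 = Sg e w c := by
  unfold sgS
  rw [dif_pos hv]

theorem sgS_of_not_valid {e w : V} (hv : ¬ om w e = 0) (c : F) : sgS e w c = 1 := by
  unfold sgS
  rw [dif_neg hv]

theorem sgS_zero_zero (e : V) : sgS e 0 0 = 1 := by
  apply Subtype.ext
  rw [tm_sgS (om_zero_left e), Sg_zero_zero, tm_one]

theorem sgS_mul {e w₁ w₂ : V} (h₁ : om w₁ e = 0) (h₂ : om w₂ e = 0) (c₁ c₂ : F) :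
    sgS e w₁ c₁ * sgS e w₂ c₂ = sgS e (w₁ + w₂) (c₁ + c₂ + om w₁ w₂) := by
  apply Subtype.ext
  rw [tm_mul, tm_sgS h₁, tm_sgS h₂, tm_sgS (by rw [om_add_left, h₁, h₂, add_zero]),
    Sg_mul e w₁ w₂ c₁ c₂ h₁ h₂]

theorem sgS_inv {e w : V} (hv : om w e = 0) (c : F) : (sgS e w c)⁻¹ = sgS e (-w) (-c) := by
  rw [inv_eq_iff_mul_eq_one]
  apply Subtype.ext
  rw [tm_mul, tm_sgS hv, tm_sgS (by rw [om_neg_left, hv, neg_zero]), tm_one]
  exact Sg_inv e w c hv

theorem sgS_conj {e w : V} (hv : om w e = 0) (c : F) (g : SpG) :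
    g * sgS e w c * g⁻¹ = sgS (g.1 *ᵥ e) (g.1 *ᵥ w) c := by
  apply Subtype.ext
  rw [tm_mul, tm_mul, tm_sgS hv, tm_sgS (by rw [tm_pres g, hv]),
    Sg_conj g.1 (g⁻¹).1 (tm_pres g) (tm_mul_inv g)]

theorem sgS_smul {e w : V} {l : F} (hl : l ≠ 0) (hv : om w (l • e) = 0) (c : F) :
    sgS (l • e) w c = sgS e (l • w) (l * l * c) := by
  have hv' : om w e = 0 := by
    rw [om_smul_right] at hv
    rcases mul_eq_zero.mp hv with h | h
    · exact absurd h hl
    · exact h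
  apply Subtype.ext
  rw [tm_sgS hv, tm_sgS (by rw [om_smul_left, hv', mul_zero]), Sg_smul]

theorem sgS_add_smul {e w : V} (hv : om w e = 0) (a c : F) :
    sgS e (w + a • e) c = sgS e w (c + 2 * a) := by
  apply Subtype.ext
  rw [tm_sgS (by rw [om_add_left, om_smul_left, om_self, hv, mul_zero, add_zero]), tm_sgS hv,
    Sg_add_smul]

/-- the subgroup of all Siegel elements with centre `e` -/
def Qs (e : V) : Subgroup SpG where
  carrier := {g | ∃ w c, g = sgS e w c}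
  one_mem' := ⟨0, 0, (sgS_zero_zero e).symm⟩
  mul_mem' := by
    rintro a b ⟨w₁, c₁, rfl⟩ ⟨w₂, c₂, rfl⟩
    by_cases h₁ : om w₁ e = 0
    · by_cases h₂ : om w₂ e = 0
      · exact ⟨_, _, sgS_mul h₁ h₂ c₁ c₂⟩
      · exact ⟨w₁, c₁, by rw [sgS_of_not_valid h₂, mul_one]⟩
    · exact ⟨w₂, c₂, by rw [sgS_of_not_valid h₁, one_mul]⟩
  inv_mem' := by
    rintro a ⟨w, c, rfl⟩
    by_cases hv : om w e = 0
    · exact ⟨_, _, sgS_inv hv c⟩
    · exact ⟨w, c, by rw [sgS_of_not_valid hv, inv_one]⟩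

theorem mem_Qs {e : V} {g : SpG} : g ∈ Qs e ↔ ∃ w c, g = sgS e w c := Iff.rfl

theorem sgS_mem_Qs (e w : V) (c : F) : sgS e w c ∈ Qs e := ⟨w, c, rfl⟩

/-- the subgroup of transvections with centre `e` -/
def Ts (e : V) : Subgroup SpG where
  carrier := {g | ∃ c, g = sgS e 0 c}
  one_mem' := ⟨0, (sgS_zero_zero e).symm⟩
  mul_mem' := by
    rintro a b ⟨c₁, rfl⟩ ⟨c₂, rfl⟩
    refine ⟨c₁ + c₂, ?_⟩
    rw [sgS_mul (om_zero_left e) (om_zero_left e), add_zero, om_zero_left, add_zero]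
  inv_mem' := by
    rintro a ⟨c, rfl⟩
    refine ⟨-c, ?_⟩
    rw [sgS_inv (om_zero_left e), neg_zero]

theorem mem_Ts {e : V} {g : SpG} : g ∈ Ts e ↔ ∃ c, g = sgS e 0 c := Iff.rfl

theorem Ts_le_Qs (e : V) : Ts e ≤ Qs e := by
  rintro g ⟨c, rfl⟩
  exact ⟨0, c, rfl⟩

theorem tm_sgS_zero (e : V) (c : F) : (sgS e 0 c).1 = T e c := by
  rw [tm_sgS (om_zero_left e), Sg_zero]

theorem conj_mem_Qs {e : V} {x : SpG} (hx : x ∈ Qs e) (g : SpG) :
    g * x * g⁻¹ ∈ Qs (g.1 *ᵥ e) := by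
  obtain ⟨w, c, rfl⟩ := hx
  by_cases hv : om w e = 0
  · rw [sgS_conj hv]
    exact sgS_mem_Qs _ _ _
  · rw [sgS_of_not_valid hv, mul_one, mul_inv_cancel]
    exact Subgroup.one_mem _

theorem conj_mem_Ts {e : V} {x : SpG} (hx : x ∈ Ts e) (g : SpG) :
    g * x * g⁻¹ ∈ Ts (g.1 *ᵥ e) := by
  obtain ⟨c, rfl⟩ := hx
  rw [sgS_conj (om_zero_left e), mulVec_zero]
  exact ⟨c, rfl⟩

theorem Qs_smul (e : V) {l : F} (hl : l ≠ 0) : Qs (l • e) = Qs e := by
  have key : ∀ (e : V) (l : F), l ≠ 0 → Qs (l • e) ≤ Qs e := by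
    rintro e l hl g ⟨w, c, rfl⟩
    by_cases hv : om w (l • e) = 0
    · rw [sgS_smul hl hv]
      exact sgS_mem_Qs _ _ _
    · rw [sgS_of_not_valid hv]
      exact Subgroup.one_mem _
  apply le_antisymm (key e l hl)
  have := key (l • e) l⁻¹ (inv_ne_zero hl)
  rwa [smul_smul, inv_mul_cancel₀ hl, one_smul] at this

theorem Ts_smul (e : V) {l : F} (hl : l ≠ 0) : Ts (l • e) = Ts e := by
  have key : ∀ (e : V) (l : F), l ≠ 0 → Ts (l • e) ≤ Ts e := by
    rintro e l hl g ⟨c, rfl⟩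
    rw [sgS_smul hl (om_zero_left _), smul_zero]
    exact ⟨_, rfl⟩
  apply le_antisymm (key e l hl)
  have := key (l • e) l⁻¹ (inv_ne_zero hl)
  rwa [smul_smul, inv_mul_cancel₀ hl, one_smul] at this

end Cfsg.Agent.Helper7.AutPSp
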