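import Cfsg.Agent.Helper7.GraphSplit5
import Cfsg.Agent.Helper2.SpPerfect

/-!
# Class splitting, part 6 (helper7)

An isomorphism invariant separating `PGSp_{2m}(q)` from the centralizers of orthogonal type:
the existence of two distinct non-trivial homomorphisms to `Fˣ`.
-/

set_option autoImplicit false
set_option linter.unusedSectionVars false

namespace Cfsg.Agent.Helper7.GraphSplit

open scoped Matrix
open Cfsg.Agent.Helper7.GraphPSL Cfsg.Agent.Helper2.Sp

/-- two distinct non-trivial homomorphisms to `Fˣ` -/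
def HasTwoChars (F : Type*) [Field F] (G : Type*) [Group G] : Prop :=
  ∃ χ₁ χ₂ : G →* Fˣ, χ₁ ≠ 1 ∧ χ₂ ≠ 1 ∧ χ₁ ≠ χ₂

theorem HasTwoChars.of_equiv {F : Type*} [Field F] {G G' : Type*} [Group G] [Group G']
    (e : G ≃* G') (h : HasTwoChars F G) : HasTwoChars F G' := by
  obtain ⟨χ₁, χ₂, h1, h2, h12⟩ := h
  have key : ∀ χ χ' : G →* Fˣ, χ.comp e.symm.toMonoidHom = χ'.comp e.symm.toMonoidHom →
      χ = χ' := by
    intro χ χ' h
    ext x
    have := DFunLike.congr_fun h (e x)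
    simp only [MonoidHom.comp_apply, MulEquiv.toMonoidHom_eq_coe, MonoidHom.coe_coe,
      MulEquiv.symm_apply_apply] at this
    rw [this]
  refine ⟨χ₁.comp e.symm.toMonoidHom, χ₂.comp e.symm.toMonoidHom, ?_, ?_, ?_⟩
  · intro h
    exact h1 (key χ₁ 1 (by rw [h]; rfl))
  · intro h
    exact h2 (key χ₂ 1 (by rw [h]; rfl))
  · intro h
    exact h12 (key χ₁ χ₂ h)

variable {F : Type*} [Field F] (m : ℕ)

/-- `k` multiplies the symplectic form by `c` -/
def Mult (k : GL (Fin m ⊕ Fin m) F) (c : Fˣ) : Prop :=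
  ∀ u v, om ((k : Matrix (Fin m ⊕ Fin m) (Fin m ⊕ Fin m) F) *ᵥ u)
    ((k : Matrix (Fin m ⊕ Fin m) (Fin m ⊕ Fin m) F) *ᵥ v) = (c : F) * om u v

variable {m}

theorem Mult.mul {k k' : GL (Fin m ⊕ Fin m) F} {c c' : Fˣ} (h : Mult m k c) (h' : Mult m k' c') :
    Mult m (k * k') (c * c') := by
  intro u v
  rw [Units.val_mul, ← Matrix.mulVec_mulVec, ← Matrix.mulVec_mulVec, h, h', Units.val_mul,
    mul_assoc]

theorem Mult.inv {k : GL (Fin m ⊕ Fin m) F} {c : Fˣ} (h : Mult m k c) : Mult m k⁻¹ c⁻¹ := by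
  intro u v
  have h1 := h (((k⁻¹ : GL (Fin m ⊕ Fin m) F) : Matrix (Fin m ⊕ Fin m) (Fin m ⊕ Fin m) F) *ᵥ u)
    (((k⁻¹ : GL (Fin m ⊕ Fin m) F) : Matrix (Fin m ⊕ Fin m) (Fin m ⊕ Fin m) F) *ᵥ v)
  rw [Matrix.mulVec_mulVec, Matrix.mulVec_mulVec, ← Units.val_mul, mul_inv_cancel, Units.val_one,
    Matrix.one_mulVec, Matrix.one_mulVec] at h1
  rw [h1, ← mul_assoc, ← Units.val_mul, inv_mul_cancel, Units.val_one, one_mul]

theorem Mult.scalar (μ : Fˣ) : Mult m (scalarGLgen μ : GL (Fin m ⊕ Fin m) F) (μ ^ 2) := by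
  intro u v
  rw [scalarGLgen_coe, Matrix.smul_mulVec, Matrix.smul_mulVec, Matrix.one_mulVec,
    Matrix.one_mulVec, om_smul_left, om_smul_right, Units.val_pow_eq_pow_val]
  ring

theorem mem_GSp_of_mult {k : GL (Fin m ⊕ Fin m) F} {c : Fˣ} (h : Mult m k c) :
    k ∈ Cfsg.GSp m F := (mem_GSp_iff m k).2 ⟨c, h⟩

/-- the inclusion `Sp → GSp` -/
def spToGSp (m : ℕ) (F : Type*) [Field F] :
    Matrix.symplecticGroup (Fin m) F →* ↥(Cfsg.GSp m F) :=
  (spGLhom m F).codRestrict (Cfsg.GSp m F) (fun B => by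
    rw [mem_GSp_iff]
    refine ⟨1, fun u v => ?_⟩
    rw [spGLhom_coe, Units.val_one, one_mul]
    exact mem_symplectic_iff_om.1 B.2 u v)

theorem spToGSp_coe (B : Matrix.symplecticGroup (Fin m) F) :
    ((spToGSp m F B : GL (Fin m ⊕ Fin m) F) : Matrix (Fin m ⊕ Fin m) (Fin m ⊕ Fin m) F)
      = (B : Matrix (Fin m ⊕ Fin m) (Fin m ⊕ Fin m) F) := rfl

/-- an element with multiplier one is symplectic -/
theorem exists_sp_of_mult_one {k : GL (Fin m ⊕ Fin m) F} (h : Mult m k 1) :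
    ∃ B : Matrix.symplecticGroup (Fin m) F, (spToGSp m F B : GL (Fin m ⊕ Fin m) F) = k := by
  have hmem : (k : Matrix (Fin m ⊕ Fin m) (Fin m ⊕ Fin m) F) ∈ Matrix.symplecticGroup (Fin m) F := by
    rw [mem_symplectic_iff_om]
    intro u v
    rw [h, Units.val_one, one_mul]
  exact ⟨⟨_, hmem⟩, Units.ext rfl⟩

section finite

variable [Fintype F]

/-- a character of `PGSp` kills the elements with square multiplier -/
theorem char_eq_one_of_sq (hperf : commutator (Matrix.symplecticGroup (Fin m) F) = ⊤)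
    (χ : Cfsg.PGSp m F →* Fˣ) (k : ↥(Cfsg.GSp m F)) (μ : Fˣ)
    (hk : Mult m (k : GL (Fin m ⊕ Fin m) F) (μ ^ 2)) :
    χ (QuotientGroup.mk k) = 1 := by
  -- `k = B * scalar μ`
  have h1 : Mult m ((k : GL (Fin m ⊕ Fin m) F) * (scalarGLgen μ)⁻¹) 1 := by
    have := hk.mul (Mult.scalar (m := m) μ).inv
    rwa [mul_inv_cancel] at this
  obtain ⟨B, hB⟩ := exists_sp_of_mult_one h1
  have hs : (scalarGLgen μ : GL (Fin m ⊕ Fin m) F) ∈ Cfsg.GSp m F :=
    mem_GSp_of_mult (Mult.scalar μ)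
  have hk' : k = spToGSp m F B * ⟨scalarGLgen μ, hs⟩ := by
    apply Subtype.ext
    rw [Subgroup.coe_mul, hB]
    simp
  have hB1 : χ (QuotientGroup.mk (spToGSp m F B)) = 1 := by
    set f : Matrix.symplecticGroup (Fin m) F →* Fˣ :=
      (χ.comp (QuotientGroup.mk' _)).comp (spToGSp m F) with hf
    have hker : commutator (Matrix.symplecticGroup (Fin m) F) ≤ f.ker :=
      Abelianization.commutator_subset_ker f
    rw [hperf] at hker
    have := hker (Subgroup.mem_top B)
    rw [MonoidHom.mem_ker] at this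
    exact this
  have hs1 : (QuotientGroup.mk (⟨scalarGLgen μ, hs⟩ : ↥(Cfsg.GSp m F)) : Cfsg.PGSp m F) = 1 := by
    rw [QuotientGroup.eq_one_iff, Subgroup.mem_subgroupOf]
    exact scalarGLgen_mem μ
  rw [hk', QuotientGroup.mk_mul, map_mul, hB1, hs1, map_one, one_mul]

theorem exists_mult (k : ↥(Cfsg.GSp m F)) : ∃ c : Fˣ, Mult m (k : GL (Fin m ⊕ Fin m) F) c :=
  (mem_GSp_iff m _).1 k.2

/-- the quotient of two non-squares is a square -/
theorem exists_sq_of_nonsquares (hodd : Odd (Fintype.card F)) {c c' : Fˣ}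
    (hc : ¬ IsSquare (c : F)) (hc' : ¬ IsSquare (c' : F)) : ∃ μ : Fˣ, c * c'⁻¹ = μ ^ 2 := by
  have h2 := two_ne_zero_of_odd_card hodd
  have hr := ringChar_ne_two h2
  have e1 : (c : F) ^ (Fintype.card F / 2) = -1 := by
    rcases FiniteField.pow_dichotomy hr c.ne_zero with h | h
    · exact absurd ((FiniteField.isSquare_iff hr c.ne_zero).2 h) hc
    · exact h
  have e2 : (c' : F) ^ (Fintype.card F / 2) = -1 := by
    rcases FiniteField.pow_dichotomy hr c'.ne_zero with h | h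
    · exact absurd ((FiniteField.isSquare_iff hr c'.ne_zero).2 h) hc'
    · exact h
  have e3 : (((c * c'⁻¹ : Fˣ) : F)) ^ (Fintype.card F / 2) = 1 := by
    rw [Units.val_mul, mul_pow, e1, Units.val_inv_eq_inv_val, inv_pow, e2]
    norm_num
  obtain ⟨r, hr'⟩ := (FiniteField.isSquare_iff hr (c * c'⁻¹).ne_zero).2 e3
  have hr0 : r ≠ 0 := by
    rintro rfl
    rw [mul_zero] at hr'
    exact (c * c'⁻¹).ne_zero hr'
  refine ⟨Units.mk0 r hr0, ?_⟩
  apply Units.ext
  rw [hr', Units.val_pow_eq_pow_val, Units.val_mk0, pow_two]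

/-- `PGSp_{2m}(q)` does not have two characters -/
theorem not_hasTwoChars_PGSp (hodd : Odd (Fintype.card F))
    (hperf : commutator (Matrix.symplecticGroup (Fin m) F) = ⊤) :
    ¬ HasTwoChars F (Cfsg.PGSp m F) := by
  rintro ⟨χ₁, χ₂, h1, h2, h12⟩
  -- the value of a character on an element of non-square multiplier
  have key : ∀ χ : Cfsg.PGSp m F →* Fˣ, χ ≠ 1 →
      ∀ (k : ↥(Cfsg.GSp m F)) (c : Fˣ), Mult m (k : GL (Fin m ⊕ Fin m) F) c →
        ¬ IsSquare (c : F) → χ (QuotientGroup.mk k) = -1 := by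
    intro χ hχ k c hk hc
    -- some element is not killed
    have hex : ∃ x, χ x ≠ 1 := by
      by_contra hcon
      push Not at hcon
      exact hχ (MonoidHom.ext hcon)
    obtain ⟨x, hx⟩ := hex
    induction x using QuotientGroup.induction_on with
    | H k₁ =>
      obtain ⟨c₁, hk₁⟩ := exists_mult k₁
      have hc₁ : ¬ IsSquare (c₁ : F) := by
        rintro ⟨r, hr⟩
        have hr0 : r ≠ 0 := by
          rintro rfl
          rw [mul_zero] at hr
          exact c₁.ne_zero hr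
        apply hx
        apply char_eq_one_of_sq hperf χ k₁ (Units.mk0 r hr0)
        have : c₁ = (Units.mk0 r hr0) ^ 2 := by
          apply Units.ext
          rw [hr, Units.val_pow_eq_pow_val, Units.val_mk0, pow_two]
        rw [← this]
        exact hk₁
      -- `χ k₁ = -1`
      have hsq : χ (QuotientGroup.mk k₁) * χ (QuotientGroup.mk k₁) = 1 := by
        rw [← map_mul, ← QuotientGroup.mk_mul]
        apply char_eq_one_of_sq hperf χ (k₁ * k₁) c₁
        rw [Subgroup.coe_mul, pow_two]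
        exact hk₁.mul hk₁
      have hneg : χ (QuotientGroup.mk k₁) = -1 := by
        have h3 : ((χ (QuotientGroup.mk k₁) : Fˣ) : F) * ((χ (QuotientGroup.mk k₁) : Fˣ) : F) = 1 := by
          rw [← Units.val_mul, hsq, Units.val_one]
        rcases mul_self_eq_one_iff.1 h3 with h4 | h4
        · exact absurd (Units.ext h4) hx
        · apply Units.ext
          rw [h4, Units.val_neg, Units.val_one]
      -- `k = (k k₁⁻¹) k₁`
      obtain ⟨μ, hμ⟩ := exists_sq_of_nonsquares hodd hc hc₁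
      have h5 : χ (QuotientGroup.mk (k * k₁⁻¹)) = 1 := by
        apply char_eq_one_of_sq hperf χ (k * k₁⁻¹) μ
        rw [Subgroup.coe_mul, Subgroup.coe_inv, ← hμ]
        exact hk.mul hk₁.inv
      have h6 : k = (k * k₁⁻¹) * k₁ := by group
      rw [h6, QuotientGroup.mk_mul, map_mul, h5, one_mul, hneg]
  apply h12
  apply MonoidHom.ext
  intro x
  induction x using QuotientGroup.induction_on with
  | H k =>
    obtain ⟨c, hk⟩ := exists_mult k
    by_cases hc : IsSquare (c : F)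
    · obtain ⟨r, hr⟩ := hc
      have hr0 : r ≠ 0 := by
        rintro rfl
        rw [mul_zero] at hr
        exact c.ne_zero hr
      have : c = (Units.mk0 r hr0) ^ 2 := by
        apply Units.ext
        rw [hr, Units.val_pow_eq_pow_val, Units.val_mk0, pow_two]
      rw [this] at hk
      rw [char_eq_one_of_sq hperf χ₁ k _ hk, char_eq_one_of_sq hperf χ₂ k _ hk]
    · rw [key χ₁ h1 k c hk hc, key χ₂ h2 k c hk hc]

end finite

end Cfsg.Agent.Helper7.GraphSplit
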