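import Cfsg.Agent.Helper7.AutPSp9
import Cfsg.Agent.Helper7.GraphSplit6

/-!
# Automorphisms of `PSp_{2m}`, part 10 (helper7)

The conjugation hom `cSp : GSp_{2m} →* MulAut (PSp_{2m})`, the field automorphisms
`phiSp : (F ≃+* F) →* MulAut (PSp_{2m})`, and the Prelude predicates in terms of them.
-/

set_option autoImplicit false
set_option linter.unusedSectionVars false

namespace Cfsg.Agent.Helper7.AutPSp

open Matrix Cfsg.Agent.Helper2.Sp
open Cfsg.Agent.Helper7.GraphPSL (liftCenter liftCenter_mk spGLhom spGLhom_coe spGLhom_injective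
  mem_GSp_iff scalarGLgen scalarGLgen_mem scalarGLgen_coe)
open Cfsg.Agent.Helper7.GraphSplit (Mult exists_mult mem_GSp_of_mult)

variable {F : Type*} [Field F] {m : ℕ}

local notation "V" => (Fin m ⊕ Fin m → F)
local notation "Mt" => Matrix (Fin m ⊕ Fin m) (Fin m ⊕ Fin m) F
local notation "SpG" => Matrix.symplecticGroup (Fin m) F
local notation "GLm" => GL (Fin m ⊕ Fin m) F

/-- symplectic elements of `GL_{2m}` -/
def IsSpG (g : GLm) : Prop := (g : Mt) ∈ Matrix.symplecticGroup (Fin m) F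

theorem isSpG_iff (g : GLm) : IsSpG g ↔ ∀ u v, om ((g : Mt) *ᵥ u) ((g : Mt) *ᵥ v) = om u v :=
  mem_symplectic_iff_om

/-- an automorphism of `Sp_{2m}` from a pair of inverse endomorphisms of `GL_{2m}` -/
def spAut (φ ψ : GLm →* GLm) (hφ : ∀ g, IsSpG g → IsSpG (φ g)) (hψ : ∀ g, IsSpG g → IsSpG (ψ g))
    (h1 : ∀ g, ψ (φ g) = g) (h2 : ∀ g, φ (ψ g) = g) : MulAut SpG where
  toFun s := ⟨((φ (spGLhom m F s) : GLm) : Mt), hφ _ s.2⟩
  invFun s := ⟨((ψ (spGLhom m F s) : GLm) : Mt), hψ _ s.2⟩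
  left_inv s := by
    apply Subtype.ext
    have : spGLhom m F ⟨((φ (spGLhom m F s) : GLm) : Mt), hφ _ s.2⟩ = φ (spGLhom m F s) :=
      Units.ext rfl
    show ((ψ (spGLhom m F ⟨((φ (spGLhom m F s) : GLm) : Mt), hφ _ s.2⟩) : GLm) : Mt) = s.1
    rw [this, h1]
    rfl
  right_inv s := by
    apply Subtype.ext
    have : spGLhom m F ⟨((ψ (spGLhom m F s) : GLm) : Mt), hψ _ s.2⟩ = ψ (spGLhom m F s) :=
      Units.ext rfl
    show ((φ (spGLhom m F ⟨((ψ (spGLhom m F s) : GLm) : Mt), hψ _ s.2⟩) : GLm) : Mt) = s.1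
    rw [this, h2]
    rfl
  map_mul' s t := by
    apply Subtype.ext
    show ((φ (spGLhom m F (s * t)) : GLm) : Mt)
      = ((φ (spGLhom m F s) : GLm) : Mt) * ((φ (spGLhom m F t) : GLm) : Mt)
    rw [map_mul, map_mul]
    rfl

theorem spGLhom_spAut (φ ψ : GLm →* GLm) (hφ : ∀ g, IsSpG g → IsSpG (φ g))
    (hψ : ∀ g, IsSpG g → IsSpG (ψ g)) (h1 : ∀ g, ψ (φ g) = g) (h2 : ∀ g, φ (ψ g) = g) (s : SpG) :
    spGLhom m F (spAut φ ψ hφ hψ h1 h2 s) = φ (spGLhom m F s) := Units.ext rfl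

/-- conjugation by a symplectic similitude preserves the symplectic group -/
theorem isSpG_conj {x : GLm} (hx : x ∈ Cfsg.GSp m F) {g : GLm} (hg : IsSpG g) :
    IsSpG (x * g * x⁻¹) := by
  obtain ⟨c, hc⟩ := (mem_GSp_iff m x).1 hx
  have hci := Cfsg.Agent.Helper7.GraphSplit.Mult.inv (m := m) (k := x) (c := c) hc
  rw [isSpG_iff] at hg ⊢
  intro u v
  rw [Units.val_mul, Units.val_mul, ← Matrix.mulVec_mulVec, ← Matrix.mulVec_mulVec,
    ← Matrix.mulVec_mulVec, ← Matrix.mulVec_mulVec, hc, hg, hci, ← mul_assoc, ← Units.val_mul,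
    mul_inv_cancel, Units.val_one, one_mul]

/-- conjugation of `Sp_{2m}` by a symplectic similitude, as an automorphism -/
def conjSpaut (x : GLm) (hx : x ∈ Cfsg.GSp m F) : MulAut SpG :=
  spAut (MulAut.conj x).toMonoidHom (MulAut.conj x⁻¹).toMonoidHom
    (fun g hg => show IsSpG ((MulAut.conj x).toMonoidHom g) from isSpG_conj hx hg)
    (fun g hg => show IsSpG ((MulAut.conj x⁻¹).toMonoidHom g) from
      isSpG_conj ((Cfsg.GSp m F).inv_mem hx) hg)
    (fun g => by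
      show x⁻¹ * (x * g * x⁻¹) * (x⁻¹)⁻¹ = g
      group)
    (fun g => by
      show x * (x⁻¹ * g * (x⁻¹)⁻¹) * x⁻¹ = g
      group)

theorem spGLhom_conjSpaut (x : GLm) (hx : x ∈ Cfsg.GSp m F) (s : SpG) :
    spGLhom m F (conjSpaut x hx s) = x * spGLhom m F s * x⁻¹ := by
  unfold conjSpaut
  rw [spGLhom_spAut]
  rfl

/-- conjugation of `Sp_{2m}` by a symplectic similitude -/
def conjSp : ↥(Cfsg.GSp m F) →* MulAut SpG where
  toFun x := conjSpaut x.1 x.2
  map_one' := by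
    apply MulEquiv.ext
    intro s
    apply spGLhom_injective
    rw [spGLhom_conjSpaut]
    show ((1 : ↥(Cfsg.GSp m F)) : GLm) * spGLhom m F s * ((1 : ↥(Cfsg.GSp m F)) : GLm)⁻¹ = _
    rw [Subgroup.coe_one, inv_one, one_mul, mul_one]
    rfl
  map_mul' x y := by
    apply MulEquiv.ext
    intro s
    apply spGLhom_injective
    rw [spGLhom_conjSpaut, MulAut.mul_apply, spGLhom_conjSpaut, spGLhom_conjSpaut]
    show ((x * y : ↥(Cfsg.GSp m F)) : GLm) * spGLhom m F s * ((x * y : ↥(Cfsg.GSp m F)) : GLm)⁻¹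
      = (x : GLm) * ((y : GLm) * spGLhom m F s * (y : GLm)⁻¹) * (x : GLm)⁻¹
    rw [Subgroup.coe_mul]
    group

theorem spGLhom_conjSp (x : ↥(Cfsg.GSp m F)) (s : SpG) :
    spGLhom m F (conjSp x s) = (x : GLm) * spGLhom m F s * (x : GLm)⁻¹ :=
  spGLhom_conjSpaut x.1 x.2 s

/-- the conjugation hom from the symplectic similitudes to `Aut(PSp_{2m})` -/
noncomputable def cSp : ↥(Cfsg.GSp m F) →* MulAut (Cfsg.PSp m F) :=
  (liftCenter SpG).comp conjSp

theorem cSp_mk (x : ↥(Cfsg.GSp m F)) (s : SpG) :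
    cSp x (QuotientGroup.mk s) = QuotientGroup.mk (conjSp x s) := rfl

theorem cSp_prS (x : ↥(Cfsg.GSp m F)) (s : SpG) : cSp x (prS s) = prS (conjSp x s) := rfl

/-! ### field automorphisms -/

/-- entrywise application of a field automorphism on `GL_{2m}` -/
def tauGLs (τ : F ≃+* F) : GLm →* GLm :=
  Matrix.GeneralLinearGroup.map (τ : F →+* F)

theorem tauGLs_coe (τ : F ≃+* F) (g : GLm) : ((tauGLs τ g : GLm) : Mt) = (g : Mt).map τ := rfl

theorem tauGLs_symm (τ : F ≃+* F) (g : GLm) : tauGLs τ.symm (tauGLs τ g) = g := by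
  apply Units.ext
  rw [tauGLs_coe, tauGLs_coe]
  ext i j
  simp only [Matrix.map_apply, RingEquiv.symm_apply_apply]

theorem tauGLs_symm' (τ : F ≃+* F) (g : GLm) : tauGLs τ (tauGLs τ.symm g) = g := by
  apply Units.ext
  rw [tauGLs_coe, tauGLs_coe]
  ext i j
  simp only [Matrix.map_apply, RingEquiv.apply_symm_apply]

theorem map_mulVec_equiv (τ : F ≃+* F) (M : Mt) (v : V) :
    M.map τ *ᵥ v = fun i => τ ((M *ᵥ (fun j => τ.symm (v j))) i) := by
  have h1 := map_mulVec_fun (τ : F →+* F) M (fun j => τ.symm (v j))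
  have h2 : (fun i => (τ : F →+* F) ((fun j => τ.symm (v j)) i)) = v := by
    ext i
    simp
  rw [h2] at h1
  exact h1.symm

theorem om_map_equiv (τ : F ≃+* F) (u v : V) :
    om (fun i => τ (u i)) (fun i => τ (v i)) = τ (om u v) := om_map (τ : F →+* F) u v

theorem tauGLs_isSpG (τ : F ≃+* F) {g : GLm} (hg : IsSpG g) : IsSpG (tauGLs τ g) := by
  rw [isSpG_iff] at hg ⊢
  intro u v
  rw [tauGLs_coe, map_mulVec_equiv, map_mulVec_equiv, om_map_equiv, hg,
    ← om_map_equiv]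
  simp

/-- entrywise field automorphism of `Sp_{2m}` -/
def phiSpaut (τ : F ≃+* F) : MulAut SpG :=
  spAut (tauGLs τ) (tauGLs τ.symm) (fun _ hg => tauGLs_isSpG τ hg)
    (fun _ hg => tauGLs_isSpG τ.symm hg) (tauGLs_symm τ) (tauGLs_symm' τ)

theorem spGLhom_phiSpaut (τ : F ≃+* F) (s : SpG) :
    spGLhom m F (phiSpaut τ s) = tauGLs τ (spGLhom m F s) := by
  unfold phiSpaut
  rw [spGLhom_spAut]

/-- entrywise field automorphisms of `Sp_{2m}` -/
def phiSpS : (F ≃+* F) →* MulAut SpG where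
  toFun τ := phiSpaut τ
  map_one' := by
    apply MulEquiv.ext
    intro s
    apply spGLhom_injective
    rw [spGLhom_phiSpaut]
    apply Units.ext
    rw [tauGLs_coe]
    ext i j
    rfl
  map_mul' τ ρ := by
    apply MulEquiv.ext
    intro s
    apply spGLhom_injective
    rw [spGLhom_phiSpaut, MulAut.mul_apply, spGLhom_phiSpaut, spGLhom_phiSpaut]
    apply Units.ext
    rw [tauGLs_coe, tauGLs_coe, tauGLs_coe]
    ext i j
    rfl

theorem spGLhom_phiSpS (τ : F ≃+* F) (s : SpG) :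
    spGLhom m F (phiSpS τ s) = tauGLs τ (spGLhom m F s) := spGLhom_phiSpaut τ s

theorem phiSpS_coe (τ : F ≃+* F) (s : SpG) : (phiSpS τ s).1 = s.1.map τ := by
  have := congrArg (fun g : GLm => (g : Mt)) (spGLhom_phiSpS τ s)
  exact this

theorem conjSp_coe (x : ↥(Cfsg.GSp m F)) (s : SpG) :
    (conjSp x s).1 = ((x : GLm) : Mt) * s.1 * (((x : GLm)⁻¹ : GLm) : Mt) := by
  have := congrArg (fun g : GLm => (g : Mt)) (spGLhom_conjSp x s)
  exact this

/-- the field automorphisms of `PSp_{2m}` -/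
noncomputable def phiSp : (F ≃+* F) →* MulAut (Cfsg.PSp m F) :=
  (liftCenter SpG).comp phiSpS

theorem phiSp_mk (τ : F ≃+* F) (s : SpG) :
    phiSp τ (QuotientGroup.mk s) = QuotientGroup.mk (phiSpS τ s) := rfl

theorem phiSp_prS (τ : F ≃+* F) (s : SpG) : phiSp τ (prS s) = prS (phiSpS τ s) := rfl

/-! ### the Prelude predicates -/

theorem isStdFieldAutPSp_iff (τ : F ≃+* F) (φ : MulAut (Cfsg.PSp m F)) :
    Cfsg.IsStdFieldAutPSp τ φ ↔ φ = phiSp τ := by
  constructor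
  · intro h
    ext x
    induction x using QuotientGroup.induction_on with
    | H s =>
      rw [phiSp_mk]
      exact h s (phiSpS τ s) (phiSpS_coe τ s)
  · rintro rfl s s' hs'
    rw [phiSp_mk]
    congr 1
    apply Subtype.ext
    rw [phiSpS_coe]
    exact hs'.symm

theorem isInducedRefl_iff (x : ↥(Cfsg.GSp m F)) (δ : MulAut (Cfsg.PSp m F)) :
    Cfsg.IsInducedBySemilinearPSp (x : GLm) (RingEquiv.refl F) δ ↔ δ = cSp x := by
  have hmap : ∀ s : SpG, s.1.map (RingEquiv.refl F) = s.1 := by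
    intro s
    ext i j
    rfl
  constructor
  · intro h
    ext y
    induction y using QuotientGroup.induction_on with
    | H s =>
      rw [cSp_mk]
      apply h s (conjSp x s)
      rw [conjSp_coe, hmap]
  · rintro rfl s s' hs'
    rw [cSp_mk]
    congr 1
    apply Subtype.ext
    rw [conjSp_coe, hs', hmap]

theorem isInnerDiagonalAutPSp_iff (δ : MulAut (Cfsg.PSp m F)) :
    Cfsg.IsInnerDiagonalAutPSp δ ↔ ∃ x : ↥(Cfsg.GSp m F), δ = cSp x := by
  constructor
  · rintro ⟨g, hg, h⟩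
    exact ⟨⟨g, hg⟩, (isInducedRefl_iff ⟨g, hg⟩ δ).1 h⟩
  · rintro ⟨x, rfl⟩
    exact ⟨x.1, x.2, (isInducedRefl_iff x _).2 rfl⟩

theorem inndiagPSp_eq_range :
    Cfsg.inndiagPSp m F = (cSp : ↥(Cfsg.GSp m F) →* _).range := by
  unfold Cfsg.inndiagPSp Cfsg.autSubgroupOf
  have h : {β : MulAut (Cfsg.PSp m F) | Cfsg.IsInnerDiagonalAutPSp β}
      = ((cSp : ↥(Cfsg.GSp m F) →* _).range : Set _) := by
    ext β
    rw [Set.mem_ofPred_eq, isInnerDiagonalAutPSp_iff]
    constructor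
    · rintro ⟨x, rfl⟩
      exact ⟨x, rfl⟩
    · rintro ⟨x, rfl⟩
      exact ⟨x, rfl⟩
  rw [h, Subgroup.closure_eq]

/-- inner automorphisms are conjugations by symplectic matrices -/
theorem conj_eq_cSp (g : SpG) :
    MulAut.conj (prS g) = cSp (Cfsg.Agent.Helper7.GraphSplit.spToGSp m F g) := by
  ext x
  induction x using QuotientGroup.induction_on with
  | H s =>
    rw [cSp_mk]
    show prS g * prS s * (prS g)⁻¹ = prS _
    rw [← map_inv, ← map_mul, ← map_mul]
    congr 1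

end Cfsg.Agent.Helper7.AutPSp
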