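import Cfsg.Agent.Helper7.AutPSp10
import Cfsg.Agent.Helper7.AutPSU26

/-!
# Automorphisms of `PSp_{2m}`, part 11 (helper7)

`PSp_{2m}` is generated by `Qb e` and `Tb f`; **every automorphism of `PSp_{2m}(q)`, `q` odd,
`m ≥ 2`, is the product of the conjugation by a symplectic similitude and a field automorphism.**
-/

set_option autoImplicit false
set_option linter.unusedSectionVars false

namespace Cfsg.Agent.Helper7.AutPSp

open Matrix Cfsg.Agent.Helper2.Sp Module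
open Cfsg.Agent.Helper7.AutPSU (map_conj_le le_of_map_conj_le)
open Cfsg.Agent.Helper7.GraphPSL (spGLhom spGLhom_coe spGLhom_injective mem_GSp_iff)

variable {F : Type*} [Field F] {m : ℕ}

local notation "V" => (Fin m ⊕ Fin m → F)
local notation "Mt" => Matrix (Fin m ⊕ Fin m) (Fin m ⊕ Fin m) F
local notation "SpG" => Matrix.symplecticGroup (Fin m) F
local notation "GLm" => GL (Fin m ⊕ Fin m) F

theorem Tg_eq_sgS (v : V) (c : F) : Tg v c = sgS v 0 c := by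
  apply Subtype.ext
  rw [tm_sgS_zero]
  rfl

/-- a subgroup containing all transvection groups is everything -/
theorem eq_top_of_Tb_le (K : Subgroup (Cfsg.PSp m F)) (hK : ∀ y : V, Tb y ≤ K) : K = ⊤ := by
  have key : ∀ g : SpG, g ∈ TV (Fin m) F → prS g ∈ K := by
    intro g hmem
    unfold TV at hmem
    induction hmem using Subgroup.closure_induction with
    | mem g hg =>
      obtain ⟨⟨v, c⟩, rfl⟩ := hg
      show prS (Tg v c) ∈ K
      rw [Tg_eq_sgS]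
      exact hK v ⟨_, ⟨c, rfl⟩, rfl⟩
    | one => rw [map_one]; exact K.one_mem
    | mul g₁ g₂ _ _ ih₁ ih₂ => rw [map_mul]; exact K.mul_mem ih₁ ih₂
    | inv g _ ih => rw [map_inv]; exact K.inv_mem ih
  rw [eq_top_iff]
  intro x _
  obtain ⟨g, rfl⟩ := prS_surjective x
  apply key
  rw [TV_eq_top]
  trivial

theorem sgS_zero_center (c : F) : sgS (0 : V) 0 c = 1 := by
  apply Subtype.ext
  rw [tm_sgS_zero, tm_one]
  apply mat_ext'
  intro x
  rw [T_mulVec, one_mulVec, smul_zero, add_zero]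

/-- **generation** -/
theorem eq_top_of_Qb_le {e f : V} (H : om e f = 1) (K : Subgroup (Cfsg.PSp m F))
    (he : Qb e ≤ K) (hf : Tb f ≤ K) : K = ⊤ := by
  have he0 := e_ne_zero H
  -- vectors not orthogonal to `e`
  have G1 : ∀ y : V, om e y ≠ 0 → Tb y ≤ K := by
    intro y hye
    have hl : (om e y)⁻¹ ≠ 0 := inv_ne_zero hye
    rw [← Tb_smul y hl]
    obtain ⟨y', hy'⟩ : ∃ y', y' = (om e y)⁻¹ • y := ⟨_, rfl⟩
    rw [← hy']
    have hy'e : om e y' = 1 := by rw [hy', om_smul_right, inv_mul_cancel₀ hye]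
    obtain ⟨w, hwe, hwf, hdec⟩ := exists_decomp H y'
    rw [hy'e, one_smul] at hdec
    have hmap : (sgS e w (om y' f)).1 *ᵥ f = y' := by
      rw [tm_sgS hwe, Sg_mulVec_f H hwf]
      conv_rhs => rw [hdec]
      module
    have h1 := map_conj_Tb (sgS e w (om y' f)) f
    rw [hmap] at h1
    rw [← h1]
    exact map_conj_le (he ⟨_, sgS_mem_Qs e w _, rfl⟩) hf
  apply eq_top_of_Tb_le
  intro y
  by_cases hy0 : y = 0
  · subst hy0
    rintro _ ⟨x, ⟨c, rfl⟩, rfl⟩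
    rw [sgS_zero_center, map_one]
    exact K.one_mem
  by_cases hye : om e y = 0
  · obtain ⟨z, hyz, hze⟩ := exists_om_ne_zero_both hy0 he0
    have hez : om e z ≠ 0 := by rw [om_swap z e]; exact neg_ne_zero.mpr hze
    have hzy : om z y ≠ 0 := by rw [om_swap y z]; exact neg_ne_zero.mpr hyz
    have hTz := G1 z hez
    have hy'' : (sgS z 0 1).1 *ᵥ y = y + om z y • z := by
      rw [tm_sgS_zero, T_mulVec, one_mul]
    have hy''e : om e ((sgS z 0 1).1 *ᵥ y) ≠ 0 := by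
      rw [hy'', om_add_right, om_smul_right, hye, zero_add]
      exact mul_ne_zero hzy hez
    have h1 := map_conj_Tb (sgS z 0 1) y
    have h2 := G1 _ hy''e
    rw [← h1] at h2
    exact le_of_map_conj_le (hTz ⟨_, ⟨1, rfl⟩, rfl⟩) h2
  · exact G1 y hye

variable [Fintype F] {p : ℕ} [Fact p.Prime] [CharP F p]
variable {e f : Fin m ⊕ Fin m → F} {α : MulAut (Cfsg.PSp m F)}
  {A A' : (Fin m ⊕ Fin m → F) → (Fin m ⊕ Fin m → F)} {B B' : (Fin m ⊕ Fin m → F) → F → F}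

/-- **normalised automorphisms** -/
theorem NSetup.eq_cSp_phiSp (S : NSetup p e f α A A' B B') :
    ∃ (x : ↥(Cfsg.GSp m F)) (τ : F ≃+* F), α = cSp x * phiSp τ := by
  obtain ⟨τ₀, κ, hd⟩ := S.exists_SData
  obtain ⟨τ, hττ⟩ : ∃ τ : F ≃+* F, (τ : F →+* F) = τ₀ :=
    ⟨RingEquiv.ofBijective τ₀ ⟨τ₀.injective, Finite.injective_iff_surjective.mp τ₀.injective⟩,
      by ext; rfl⟩
  subst hττ
  have hκ0 := hd.hκ0
  have G : GHyp e f (τ : F →+* F) κ A :=
    ⟨S.H, fun w₁ h₁ w₂ h₂ => S.A_add h₁ h₂, fun w hw => S.A_mem hw, hd.hτ, hd.hκ0, hd.hsim⟩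
  obtain ⟨xGL, hxGL⟩ : ∃ xGL : GLm, (xGL : Mt) = G.Xm :=
    ⟨Matrix.GeneralLinearGroup.mkOfDetNeZero G.Xm G.Xm_det_ne, rfl⟩
  have hx : xGL ∈ Cfsg.GSp m F := by
    rw [mem_GSp_iff]
    refine ⟨Units.mk0 κ hκ0, fun u v => ?_⟩
    rw [hxGL, Units.val_mk0]
    exact G.Xm_sim u v
  obtain ⟨xH, hxH⟩ : ∃ xH : ↥(Cfsg.GSp m F), (xH : GLm) = xGL := ⟨⟨xGL, hx⟩, rfl⟩
  refine ⟨xH, τ, ?_⟩
  obtain ⟨β, hβdef⟩ : ∃ β : MulAut (Cfsg.PSp m F), β = cSp xH * phiSp τ := ⟨_, rfl⟩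
  rw [← hβdef]
  -- the action of the candidate on Siegel elements
  have general : ∀ (x w : V) (c : F), om w x = 0 →
      om (κ⁻¹ • Gfun e f (τ : F →+* F) κ A w) (Gfun e f (τ : F →+* F) κ A x) = 0 ∧
      β (prS (sgS x w c))
        = prS (sgS (Gfun e f (τ : F →+* F) κ A x)
            (κ⁻¹ • Gfun e f (τ : F →+* F) κ A w) (κ⁻¹ * τ c)) := by
    intro x w c hv
    have hv' : om (κ⁻¹ • Gfun e f (τ : F →+* F) κ A w) (Gfun e f (τ : F →+* F) κ A x) = 0 := by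
      rw [om_smul_left, G.Gfun_sim, hv, map_zero, mul_zero, mul_zero]
    refine ⟨hv', ?_⟩
    rw [hβdef, MulAut.mul_apply, phiSp_prS, cSp_prS]
    congr 1
    apply Subtype.ext
    rw [conjSp_coe, phiSpS_coe, hxH, tm_sgS hv, tm_sgS hv', hxGL, G.Xm_conj x w c,
      Matrix.mul_assoc, ← hxGL, ← Units.val_mul, mul_inv_cancel, Units.val_one, Matrix.mul_one]
  -- agreement on `Qb e` and `Tb f`
  have he : Qb e ≤ (α.toMonoidHom).eqLocus β.toMonoidHom := by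
    rintro _ ⟨g, hg, rfl⟩
    obtain ⟨w, c, hw, rfl⟩ := exists_W_param S.H hg
    show α (prS _) = β (prS _)
    obtain ⟨hv', hβ⟩ := general e w c hw.1
    rw [S.map_sgS c hw, hd.hB w hw c, hβ]
    rw [G.Gfun_e, G.Gfun_W hw] at hv' ⊢
    rw [sgS_smul hκ0 hv', smul_smul, mul_inv_cancel₀ hκ0, one_smul]
    congr 2
    have e2 : (τ : F →+* F) c = τ c := rfl
    rw [e2]
    field_simp
  have hf : Tb f ≤ (α.toMonoidHom).eqLocus β.toMonoidHom := by
    rintro _ ⟨g, ⟨s, rfl⟩, rfl⟩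
    show α (prS _) = β (prS _)
    obtain ⟨hv', hβ⟩ := general f 0 s (om_zero_left f)
    have h0 : (0 : V) ∈ Wsub e f := Submodule.zero_mem _
    rw [S.map_sgS' s h0, hd.hB' 0 h0 s, S.A'_zero, hβ, G.Gfun_f, G.Gfun_zero, smul_zero]
    rfl
  have htop := eq_top_of_Qb_le S.H _ he hf
  apply MulEquiv.ext
  intro x
  have hx' : x ∈ (α.toMonoidHom).eqLocus β.toMonoidHom := by
    rw [htop]
    trivial
  exact hx'

/-- **the automorphisms of `PSp_{2m}(q)`, `q` odd** -/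
theorem aut_PSp (h2 : (2 : F) ≠ 0) (hm : 2 ≤ m) (α : MulAut (Cfsg.PSp m F)) :
    ∃ (x : ↥(Cfsg.GSp m F)) (τ : F ≃+* F), α = cSp x * phiSp τ := by
  obtain ⟨p, hp⟩ := CharP.exists F
  have hprime : Fact p.Prime := ⟨CharP.char_is_prime F p⟩
  obtain ⟨-, u, hu0, -⟩ := exists_sylow_zz p h2 (by omega : 1 ≤ m)
  obtain ⟨f, H⟩ := exists_hypPair hu0
  obtain ⟨g, hN⟩ := exists_normalize p h2 (by omega) H α
  obtain ⟨A, A', B, B', S⟩ := exists_NSetup p h2 hm H hN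
  obtain ⟨x, τ, hβ⟩ := S.eq_cSp_phiSp
  refine ⟨(Cfsg.Agent.Helper7.GraphSplit.spToGSp m F g)⁻¹ * x, τ, ?_⟩
  rw [map_mul, map_inv, ← conj_eq_cSp, mul_assoc, ← hβ, inv_mul_cancel_left]

end Cfsg.Agent.Helper7.AutPSp
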