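import Cfsg.Agent.Helper7.AutPSp11

/-!
# Automorphisms of `PSp_{2m}`, part 12 (helper7)

The commutation of field automorphisms with conjugations, the kernel of `cSp`, the injectivity of
`phiSp`, and the normality of `Inndiag(PSp_{2m}(q))` in `Aut(PSp_{2m}(q))`.
-/

set_option autoImplicit false
set_option linter.unusedSectionVars false

namespace Cfsg.Agent.Helper7.AutPSp

open Matrix Cfsg.Agent.Helper2.Sp Module
open Cfsg.Agent.Helper7.GraphPSL (spGLhom spGLhom_coe spGLhom_injective mem_GSp_iff scalarGLgen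
  scalarGLgen_mem scalarGLgen_coe)
open Cfsg.Agent.Helper7.GraphSplit (Mult exists_mult mem_GSp_of_mult spToGSp spToGSp_coe
  exists_sp_of_mult_one)

variable {F : Type*} [Field F] {m : ℕ}

local notation "V" => (Fin m ⊕ Fin m → F)
local notation "Mt" => Matrix (Fin m ⊕ Fin m) (Fin m ⊕ Fin m) F
local notation "SpG" => Matrix.symplecticGroup (Fin m) F
local notation "GLm" => GL (Fin m ⊕ Fin m) F

/-- a matrix for which every nonzero vector is an eigenvector is scalar -/
theorem eq_smul_one_of_eigen {ι : Type*} [Fintype ι] [DecidableEq ι] [Nonempty ι]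
    (M : Matrix ι ι F) (h : ∀ v : ι → F, v ≠ 0 → ∃ a : F, M *ᵥ v = a • v) :
    ∃ a : F, M = a • (1 : Matrix ι ι F) := by
  classical
  have hb : ∀ k : ι, ∃ a : F, M *ᵥ Pi.single k 1 = a • Pi.single k 1 := by
    intro k
    apply h
    intro h0
    have := congrFun h0 k
    simp at this
  choose lam hlam using hb
  have hconst : ∀ k k' : ι, lam k = lam k' := by
    intro k k'
    by_cases hkk : k = k'
    · rw [hkk]
    have hne : (Pi.single k 1 + Pi.single k' 1 : ι → F) ≠ 0 := by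
      intro h0
      have := congrFun h0 k
      simp [Pi.single_apply, hkk] at this
    obtain ⟨μ, hμ⟩ := h _ hne
    rw [mulVec_add, hlam, hlam] at hμ
    have h1 := congrFun hμ k
    have h2 := congrFun hμ k'
    simp [Pi.single_apply, hkk, Ne.symm hkk] at h1 h2
    rw [h1, h2]
  obtain ⟨k₀⟩ := ‹Nonempty ι›
  refine ⟨lam k₀, ?_⟩
  rw [Matrix.ext_iff_mulVec]
  intro v
  rw [smul_mulVec, one_mulVec]
  have : v = ∑ k, v k • (Pi.single k 1 : ι → F) := by
    funext j
    simp [Finset.sum_apply, Pi.single_apply]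
  conv_lhs => rw [this]
  rw [mulVec_sum]
  simp_rw [mulVec_smul, hlam, hconst _ k₀]
  conv_rhs => rw [this]
  rw [Finset.smul_sum]
  apply Finset.sum_congr rfl
  intro k _
  rw [smul_comm]

/-! ### field automorphisms and conjugations -/

theorem tauGLs_mem_GSp (τ : F ≃+* F) {x : GLm} (hx : x ∈ Cfsg.GSp m F) :
    tauGLs τ x ∈ Cfsg.GSp m F := by
  obtain ⟨c, hc⟩ := (mem_GSp_iff m x).1 hx
  rw [mem_GSp_iff]
  refine ⟨Units.map (τ : F →* F) c, fun u v => ?_⟩
  rw [tauGLs_coe, map_mulVec_equiv, map_mulVec_equiv, om_map_equiv, hc, map_mul, ← om_map_equiv]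
  simp

/-- entrywise field automorphism on the symplectic similitudes -/
def tauGSp (τ : F ≃+* F) : ↥(Cfsg.GSp m F) →* ↥(Cfsg.GSp m F) where
  toFun x := ⟨tauGLs τ x.1, tauGLs_mem_GSp τ x.2⟩
  map_one' := by
    apply Subtype.ext
    show tauGLs τ ((1 : ↥(Cfsg.GSp m F)) : GLm) = _
    rw [Subgroup.coe_one, map_one]
  map_mul' x y := by
    apply Subtype.ext
    show tauGLs τ ((x * y : ↥(Cfsg.GSp m F)) : GLm) = _
    rw [Subgroup.coe_mul, map_mul]
    rfl

theorem tauGSp_coe (τ : F ≃+* F) (x : ↥(Cfsg.GSp m F)) :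
    ((tauGSp τ x : ↥(Cfsg.GSp m F)) : GLm) = tauGLs τ (x : GLm) := rfl

theorem phiSpS_conjSp (τ : F ≃+* F) (x : ↥(Cfsg.GSp m F)) :
    phiSpS τ * conjSp x = conjSp (tauGSp τ x) * phiSpS τ := by
  apply MulEquiv.ext
  intro s
  apply spGLhom_injective
  rw [MulAut.mul_apply, MulAut.mul_apply, spGLhom_phiSpS, spGLhom_conjSp, spGLhom_conjSp,
    spGLhom_phiSpS, map_mul, map_mul, map_inv, tauGSp_coe]

theorem phiSp_cSp (τ : F ≃+* F) (x : ↥(Cfsg.GSp m F)) :
    phiSp τ * cSp x = cSp (tauGSp τ x) * phiSp τ := by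
  unfold phiSp cSp
  rw [MonoidHom.comp_apply, MonoidHom.comp_apply, MonoidHom.comp_apply, ← map_mul, ← map_mul,
    phiSpS_conjSp]

/-! ### the kernel of `cSp` -/

theorem scalars_comm {z : GLm} (hz : z ∈ Cfsg.Geo.scalars (Fin m ⊕ Fin m) F) (g : GLm) :
    z * g = g * z := by
  rw [Cfsg.Geo.mem_scalars_iff] at hz
  obtain ⟨c, hc⟩ := hz
  apply Units.ext
  rw [Units.val_mul, Units.val_mul, hc, Matrix.smul_mul, Matrix.mul_smul, Matrix.one_mul,
    Matrix.mul_one]

theorem cSp_of_mem_scalars (x : ↥(Cfsg.GSp m F))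
    (hx : (x : GLm) ∈ Cfsg.Geo.scalars (Fin m ⊕ Fin m) F) : cSp x = 1 := by
  ext y
  induction y using QuotientGroup.induction_on with
  | H s =>
    rw [cSp_mk]
    congr 1
    apply spGLhom_injective
    rw [spGLhom_conjSp, scalars_comm hx, mul_assoc, mul_inv_cancel, mul_one]

section charp

variable (p : ℕ) [Fact p.Prime] [CharP F p]

include p in
/-- an automorphism of `Sp` inducing the identity on `PSp` fixes the transvections -/
theorem fix_sgS_of_lift_eq_one (hm : 1 ≤ m) (φ : MulAut SpG)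
    (hφ : ∀ s : SpG, prS (φ s) = prS s) (v : V) (c : F) : φ (sgS v 0 c) = sgS v 0 c := by
  have h1 : (φ (sgS v 0 c)) ^ p ^ 1 = 1 := by
    rw [← map_pow, sgS_pElement p, map_one]
  exact prS_inj_pElements p hm h1 (sgS_pElement p v 0 c) (hφ _)

include p in
theorem cSp_eq_one_iff (hm : 1 ≤ m) (x : ↥(Cfsg.GSp m F)) :
    cSp x = 1 ↔ (x : GLm) ∈ Cfsg.Geo.scalars (Fin m ⊕ Fin m) F := by
  constructor
  · intro h
    have hφ : ∀ s : SpG, prS (conjSp x s) = prS s := by
      intro s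
      have := congrArg (fun β : MulAut (Cfsg.PSp m F) => β (prS s)) h
      exact this
    have : Nonempty (Fin m ⊕ Fin m) := ⟨Sum.inl ⟨0, by omega⟩⟩
    have hx0 : ∀ v : V, ((x : GLm) : Mt) *ᵥ v = 0 → v = 0 := by
      intro v hv
      have := congrArg (fun w => (((x : GLm)⁻¹ : GLm) : Mt) *ᵥ w) hv
      beta_reduce at this
      rwa [Matrix.mulVec_mulVec, ← Units.val_mul, inv_mul_cancel, Units.val_one,
        Matrix.one_mulVec, Matrix.mulVec_zero] at this
    have heig : ∀ v : V, v ≠ 0 → ∃ a : F, ((x : GLm) : Mt) *ᵥ v = a • v := by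
      intro v hv0
      have h1 := fix_sgS_of_lift_eq_one p hm (conjSp x) hφ v 1
      have h2 := congrArg Subtype.val h1
      rw [conjSp_coe, tm_sgS_zero] at h2
      -- `x T = T x`
      have h3 : ((x : GLm) : Mt) * T v 1 = T v 1 * ((x : GLm) : Mt) := by
        have := congrArg (fun M : Mt => M * ((x : GLm) : Mt)) h2
        beta_reduce at this
        rwa [Matrix.mul_assoc, ← Units.val_mul, inv_mul_cancel, Units.val_one, Matrix.mul_one]
          at this
      obtain ⟨y, hy⟩ := exists_hypPair hv0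
      have h4 := congrArg (fun M : Mt => M *ᵥ y) h3
      beta_reduce at h4
      rw [← Matrix.mulVec_mulVec, ← Matrix.mulVec_mulVec, T_mulVec, T_mulVec, hy, one_mul,
        one_mul, one_smul, Matrix.mulVec_add] at h4
      exact ⟨om v (((x : GLm) : Mt) *ᵥ y), add_left_cancel h4⟩
    obtain ⟨a, ha⟩ := eq_smul_one_of_eigen ((x : GLm) : Mt) heig
    rw [Cfsg.Geo.mem_scalars_iff]
    have ha0 : a ≠ 0 := by
      intro h0
      rw [h0, zero_smul] at ha
      obtain ⟨v, hv⟩ : ∃ v : V, v ≠ 0 := ⟨Pi.single (Sum.inl ⟨0, by omega⟩) 1, by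
        intro h0
        have := congrFun h0 (Sum.inl ⟨0, by omega⟩)
        simp at this⟩
      exact hv (hx0 v (by rw [ha, Matrix.zero_mulVec]))
    exact ⟨Units.mk0 a ha0, ha⟩
  · exact cSp_of_mem_scalars x

include p in
theorem cSp_eq_iff (hm : 1 ≤ m) (x y : ↥(Cfsg.GSp m F)) :
    cSp x = cSp y ↔ ((x⁻¹ * y : ↥(Cfsg.GSp m F)) : GLm) ∈ Cfsg.Geo.scalars (Fin m ⊕ Fin m) F := by
  rw [← cSp_eq_one_iff p hm, map_mul, map_inv, inv_mul_eq_one]

include p in
/-- a field automorphism which is a conjugation is trivial -/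
theorem phiSp_eq_cSp (hm : 1 ≤ m) (τ : F ≃+* F) (x : ↥(Cfsg.GSp m F))
    (h : phiSp τ = cSp x) : τ = 1 := by
  -- `β := conjSp x⁻¹ * phiSpS τ` induces the identity
  have hφ : ∀ s : SpG, prS ((conjSp x⁻¹ * phiSpS τ : MulAut SpG) s) = prS s := by
    intro s
    have h1 : cSp x⁻¹ * phiSp τ = 1 := by rw [h, ← map_mul, inv_mul_cancel, map_one]
    have := congrArg (fun β : MulAut (Cfsg.PSp m F) => β (prS s)) h1
    exact this
  obtain ⟨c₀, hc₀⟩ := (mem_GSp_iff m _).1 (x⁻¹).2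
  have hxi : ∀ u v : V, om (((x⁻¹ : ↥(Cfsg.GSp m F)) : GLm).1 *ᵥ u)
      (((x⁻¹ : ↥(Cfsg.GSp m F)) : GLm).1 *ᵥ v) = (c₀ : F) * om u v := hc₀
  ext c
  -- a hyperbolic pair with entries in the prime field
  have hm0 : 0 < m := by omega
  obtain ⟨e, he⟩ : ∃ e : V, e = Pi.single (Sum.inl ⟨0, hm0⟩) 1 := ⟨_, rfl⟩
  obtain ⟨f, hf⟩ : ∃ f : V, f = Pi.single (Sum.inr ⟨0, hm0⟩) (-1) := ⟨_, rfl⟩
  have hτe : (fun i => τ (e i)) = e := by
    ext i
    rw [he]
    by_cases hi : i = Sum.inl ⟨0, hm0⟩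
    · rw [hi]; simp
    · simp [Pi.single_apply, hi]
  have hτf : (fun i => τ (f i)) = f := by
    ext i
    rw [hf]
    by_cases hi : i = Sum.inr ⟨0, hm0⟩
    · rw [hi]; simp
    · simp [Pi.single_apply, hi]
  have hef : om e f = 1 := by
    rw [om_eq_sum, he, hf]
    rw [Finset.sum_eq_single (⟨0, hm0⟩ : Fin m)]
    · simp
    · intro b _ hb
      simp [Pi.single_apply, hb]
    · intro h0
      exact absurd (Finset.mem_univ _) h0
  -- the image of the transvection `T e c` under `phiSpS τ` is `T e (τ c)`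
  have hmapT : ∀ c' : F, (phiSpS τ (sgS e 0 c')).1 = T e (τ c') := by
    intro c'
    rw [phiSpS_coe, tm_sgS_zero]
    apply mat_ext'
    intro y
    rw [map_mulVec_equiv, T_mulVec, T_mulVec]
    ext i
    simp only [Pi.add_apply, Pi.smul_apply, smul_eq_mul, map_add, map_mul]
    have h1 : τ (om e (fun j => τ.symm (y j))) = om e y := by
      rw [← om_map_equiv, hτe]
      congr 1
      ext j
      simp
    have h2 : τ (e i) = e i := congrFun hτe i
    rw [h1, h2]
    simp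
  obtain ⟨xi, hxi'⟩ : ∃ xi : Mt, xi = (((x⁻¹ : ↥(Cfsg.GSp m F)) : GLm) : Mt) := ⟨_, rfl⟩
  obtain ⟨xii, hxii⟩ : ∃ xii : Mt, xii = ((((x⁻¹ : ↥(Cfsg.GSp m F)) : GLm)⁻¹ : GLm) : Mt) :=
    ⟨_, rfl⟩
  have hxx : xii * xi = 1 := by
    rw [hxi', hxii, ← Units.val_mul, inv_mul_cancel, Units.val_one]
  have hcomm : ∀ c' : F, xi * T e (τ c') = T e c' * xi := by
    intro c'
    have h1 := fix_sgS_of_lift_eq_one p hm (conjSp x⁻¹ * phiSpS τ) hφ e c'
    have h2 := congrArg Subtype.val h1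
    rw [MulAut.mul_apply, conjSp_coe, hmapT, tm_sgS_zero, ← hxi', ← hxii] at h2
    have := congrArg (fun M : Mt => M * xi) h2
    beta_reduce at this
    rwa [Matrix.mul_assoc, hxx, Matrix.mul_one] at this
  obtain ⟨e', he'⟩ : ∃ e' : V, e' = xi *ᵥ e := ⟨_, rfl⟩
  obtain ⟨f', hf'⟩ : ∃ f' : V, f' = xi *ᵥ f := ⟨_, rfl⟩
  have hrel : ∀ c' : F, τ c' • e' = (c' * om e f') • e := by
    intro c'
    have h3 := congrArg (fun M : Mt => M *ᵥ f) (hcomm c')
    beta_reduce at h3
    rw [← Matrix.mulVec_mulVec, ← Matrix.mulVec_mulVec, T_mulVec, T_mulVec, hef, mul_one,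
      Matrix.mulVec_add, Matrix.mulVec_smul, ← he', ← hf'] at h3
    exact add_left_cancel h3
  have h4 := hrel c
  have h4' := hrel 1
  rw [map_one, one_smul, one_mul] at h4'
  rw [h4', smul_smul] at h4
  have he0 : e ≠ 0 := e_ne_zero hef
  have h5 : (τ c * om e f' - c * om e f') • e = 0 := by rw [sub_smul, h4, sub_self]
  have hne : om e f' ≠ 0 := by
    intro h0
    rw [h0, zero_smul] at h4'
    have h6 : om e' f' = (c₀ : F) * om e f := by rw [he', hf', hxi']; exact hxi e f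
    rw [h4', om_zero_left, hef, mul_one] at h6
    exact c₀.ne_zero h6.symm
  rcases smul_eq_zero.mp h5 with h6 | h6
  · have h7 : (τ c - c) * om e f' = 0 := by linear_combination h6
    rcases mul_eq_zero.mp h7 with h8 | h8
    · exact sub_eq_zero.mp h8
    · exact absurd h8 hne
  · exact absurd h6 he0

include p in
theorem phiSp_injective (hm : 1 ≤ m) :
    Function.Injective (phiSp : (F ≃+* F) →* MulAut (Cfsg.PSp m F)) := by
  rw [injective_iff_map_eq_one]
  intro τ hτ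
  have h1 : phiSp τ = cSp (1 : ↥(Cfsg.GSp m F)) := by rw [hτ, map_one]
  exact phiSp_eq_cSp p hm τ 1 h1

end charp

end Cfsg.Agent.Helper7.AutPSp
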