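import Cfsg.Agent.Helper7.AutPSp12

/-!
# Automorphisms of `PSp_{2m}`, part 13 (helper7)

The multiplier homomorphism `muGSp : GSp_{2m} →* Fˣ`; `cSp x` is inner iff the multiplier of `x`
is a square; `Inndiag(PSp_{2m}(q))` is normal in `Aut(PSp_{2m}(q))`.
-/

set_option autoImplicit false
set_option linter.unusedSectionVars false

namespace Cfsg.Agent.Helper7.AutPSp

open Matrix Cfsg.Agent.Helper2.Sp Module
open Cfsg.Agent.Helper7.GraphPSL (spGLhom spGLhom_coe spGLhom_injective mem_GSp_iff scalarGLgen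
  scalarGLgen_mem scalarGLgen_coe)
open Cfsg.Agent.Helper7.GraphSplit (Mult mem_GSp_of_mult spToGSp spToGSp_coe
  exists_sp_of_mult_one)

variable {F : Type*} [Field F] {m : ℕ}

local notation "V" => (Fin m ⊕ Fin m → F)
local notation "Mt" => Matrix (Fin m ⊕ Fin m) (Fin m ⊕ Fin m) F
local notation "SpG" => Matrix.symplecticGroup (Fin m) F
local notation "GLm" => GL (Fin m ⊕ Fin m) F

/-- a standard hyperbolic pair -/
theorem exists_std_pair (hm : 1 ≤ m) : ∃ e f : V, om e f = 1 := by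
  have hm0 : 0 < m := by omega
  have he0 : (Pi.single (Sum.inl ⟨0, hm0⟩) 1 : V) ≠ 0 := by
    intro h0
    have := congrFun h0 (Sum.inl ⟨0, hm0⟩)
    simp at this
  obtain ⟨f, hf⟩ := exists_hypPair he0
  exact ⟨_, f, hf⟩

theorem mult_unique (hm : 1 ≤ m) {k : GLm} {c c' : Fˣ} (h : Mult m k c) (h' : Mult m k c') :
    c = c' := by
  obtain ⟨e, f, hef⟩ := exists_std_pair (F := F) hm
  have h1 := h e f
  rw [h' e f, hef, mul_one, mul_one] at h1
  exact (Units.ext h1).symm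

theorem mult_one : Mult m (1 : GLm) 1 := by
  intro u v
  rw [Units.val_one, Matrix.one_mulVec, Matrix.one_mulVec, Units.val_one, one_mul]

/-- the multiplier of a symplectic similitude -/
noncomputable def muGSp (hm : 1 ≤ m) : ↥(Cfsg.GSp m F) →* Fˣ where
  toFun x := Classical.choose ((mem_GSp_iff m x.1).1 x.2)
  map_one' := mult_unique hm (Classical.choose_spec ((mem_GSp_iff m _).1 (1 : ↥(Cfsg.GSp m F)).2))
    mult_one
  map_mul' x y := mult_unique hm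
    (Classical.choose_spec ((mem_GSp_iff m _).1 (x * y : ↥(Cfsg.GSp m F)).2))
    (Cfsg.Agent.Helper7.GraphSplit.Mult.mul
      (Classical.choose_spec ((mem_GSp_iff m x.1).1 x.2))
      (Classical.choose_spec ((mem_GSp_iff m y.1).1 y.2)))

theorem muGSp_spec (hm : 1 ≤ m) (x : ↥(Cfsg.GSp m F)) : Mult m (x : GLm) (muGSp hm x) :=
  Classical.choose_spec ((mem_GSp_iff m x.1).1 x.2)

theorem muGSp_eq (hm : 1 ≤ m) {x : ↥(Cfsg.GSp m F)} {c : Fˣ} (h : Mult m (x : GLm) c) :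
    muGSp hm x = c := mult_unique hm (muGSp_spec hm x) h

theorem muGSp_spToGSp (hm : 1 ≤ m) (g : SpG) : muGSp hm (spToGSp m F g) = 1 := by
  apply muGSp_eq
  intro u v
  rw [Units.val_one, one_mul]
  exact tm_pres g u v

/-- scalar similitudes -/
def scalarGSp (ν : Fˣ) : ↥(Cfsg.GSp m F) :=
  ⟨scalarGLgen ν, mem_GSp_of_mult (Cfsg.Agent.Helper7.GraphSplit.Mult.scalar ν)⟩

theorem scalarGSp_coe (ν : Fˣ) : ((scalarGSp ν : ↥(Cfsg.GSp m F)) : GLm) = scalarGLgen ν := rfl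

theorem muGSp_scalarGSp (hm : 1 ≤ m) (ν : Fˣ) :
    muGSp hm (scalarGSp ν : ↥(Cfsg.GSp m F)) = ν ^ 2 :=
  muGSp_eq hm (Cfsg.Agent.Helper7.GraphSplit.Mult.scalar ν)

theorem cSp_scalarGSp (ν : Fˣ) : cSp (scalarGSp ν : ↥(Cfsg.GSp m F)) = 1 :=
  cSp_of_mem_scalars _ (scalarGLgen_mem ν)

theorem exists_scalar_of_mem {z : GLm} (hz : z ∈ Cfsg.Geo.scalars (Fin m ⊕ Fin m) F) :
    ∃ ν : Fˣ, z = scalarGLgen ν := by
  obtain ⟨c, hc⟩ := hz
  exact ⟨c, hc.symm⟩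

/-- an element with multiplier one is symplectic -/
theorem exists_sp_of_mu_one (hm : 1 ≤ m) {x : ↥(Cfsg.GSp m F)} (h : muGSp hm x = 1) :
    ∃ g : SpG, spToGSp m F g = x := by
  have h1 := muGSp_spec hm x
  rw [h] at h1
  obtain ⟨B, hB⟩ := exists_sp_of_mult_one h1
  exact ⟨B, Subtype.ext hB⟩

/-- an element with square multiplier is a scalar times a symplectic element -/
theorem exists_sp_of_mu_sq (hm : 1 ≤ m) {x : ↥(Cfsg.GSp m F)} {ν : Fˣ}
    (h : muGSp hm x = ν ^ 2) : ∃ g : SpG, x = scalarGSp ν * spToGSp m F g := by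
  have h1 : muGSp hm ((scalarGSp ν)⁻¹ * x) = 1 := by
    rw [map_mul, map_inv, muGSp_scalarGSp, h, inv_mul_cancel]
  obtain ⟨g, hg⟩ := exists_sp_of_mu_one hm h1
  exact ⟨g, by rw [hg, mul_inv_cancel_left]⟩

theorem cSp_mem_Inn_of_sq (hm : 1 ≤ m) {x : ↥(Cfsg.GSp m F)} {ν : Fˣ}
    (h : muGSp hm x = ν ^ 2) : cSp x ∈ Cfsg.Inn (Cfsg.PSp m F) := by
  obtain ⟨g, rfl⟩ := exists_sp_of_mu_sq hm h
  rw [map_mul, cSp_scalarGSp, one_mul, ← conj_eq_cSp]
  exact ⟨prS g, rfl⟩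

section charp

variable (p : ℕ) [Fact p.Prime] [CharP F p]

include p in
theorem sq_of_cSp_mem_Inn (hm : 1 ≤ m) {x : ↥(Cfsg.GSp m F)}
    (h : cSp x ∈ Cfsg.Inn (Cfsg.PSp m F)) : ∃ ν : Fˣ, muGSp hm x = ν ^ 2 := by
  obtain ⟨y, hy⟩ := h
  obtain ⟨g, rfl⟩ := prS_surjective y
  have h1 : cSp (spToGSp m F g) = cSp x := by rw [← conj_eq_cSp]; exact hy
  rw [cSp_eq_iff p hm] at h1
  obtain ⟨ν, hν⟩ := exists_scalar_of_mem h1
  have h2 : (spToGSp m F g)⁻¹ * x = scalarGSp ν := Subtype.ext hν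
  have h3 := congrArg (muGSp hm) h2
  rw [map_mul, map_inv, muGSp_spToGSp, inv_one, one_mul, muGSp_scalarGSp] at h3
  exact ⟨ν, h3⟩

end charp

/-! ### normality of the inner-diagonal group -/

theorem normal_range_cSp_odd [Fintype F] (h2 : (2 : F) ≠ 0) (hm : 2 ≤ m) :
    ((cSp : ↥(Cfsg.GSp m F) →* MulAut (Cfsg.PSp m F)).range).Normal := by
  constructor
  rintro _ ⟨x, rfl⟩ α
  obtain ⟨a, τ, rfl⟩ := aut_PSp h2 hm α
  refine ⟨a * tauGSp τ x * a⁻¹, ?_⟩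
  rw [map_mul, map_mul, map_inv]
  have h1 := phiSp_cSp τ x
  calc cSp a * cSp (tauGSp τ x) * (cSp a)⁻¹
      = cSp a * (cSp (tauGSp τ x) * phiSp τ) * (phiSp τ)⁻¹ * (cSp a)⁻¹ := by group
    _ = cSp a * (phiSp τ * cSp x) * (phiSp τ)⁻¹ * (cSp a)⁻¹ := by rw [h1]
    _ = cSp a * phiSp τ * cSp x * (cSp a * phiSp τ)⁻¹ := by group

theorem range_cSp_eq_Inn_of_char_two [Fintype F] [CharP F 2] (hm : 1 ≤ m) :
    (cSp : ↥(Cfsg.GSp m F) →* MulAut (Cfsg.PSp m F)).range = Cfsg.Inn (Cfsg.PSp m F) := by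
  apply le_antisymm
  · rintro _ ⟨x, rfl⟩
    obtain ⟨r, hr⟩ := FiniteField.isSquare_of_char_two (CharP.ringChar_of_prime_eq_zero
      Nat.prime_two (CharP.cast_eq_zero F 2)) ((muGSp hm x : Fˣ) : F)
    have hr0 : r ≠ 0 := by
      rintro rfl
      rw [mul_zero] at hr
      exact (muGSp hm x).ne_zero hr
    apply cSp_mem_Inn_of_sq hm (ν := Units.mk0 r hr0)
    apply Units.ext
    rw [hr, Units.val_pow_eq_pow_val, Units.val_mk0, pow_two]
  · rintro _ ⟨y, rfl⟩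
    obtain ⟨g, rfl⟩ := prS_surjective y
    exact ⟨spToGSp m F g, (conj_eq_cSp g).symm⟩

/-- **`Inndiag(PSp_{2m}(q))` is normal in `Aut(PSp_{2m}(q))`** -/
theorem normal_inndiagPSp [Fintype F] (hm : 2 ≤ m) : (Cfsg.inndiagPSp m F).Normal := by
  rw [inndiagPSp_eq_range]
  by_cases h2 : (2 : F) = 0
  · have : CharP F 2 := CharTwo.of_one_ne_zero_of_two_eq_zero one_ne_zero h2
    rw [range_cSp_eq_Inn_of_char_two (by omega)]
    infer_instance
  · exact normal_range_cSp_odd h2 hm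

end Cfsg.Agent.Helper7.AutPSp
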