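import Cfsg.Agent.Helper7.AutPSp13

/-!
# Automorphisms of `PSp_{2m}`, part 14 (helper7)

Characteristic two, first steps: the characteristic-free part of the centraliser of `Qs e`, the
triviality of the centre, and a relative transitivity lemma for the symplectic group.
-/

set_option autoImplicit false
set_option linter.unusedSectionVars false

namespace Cfsg.Agent.Helper7.AutPSp

open Matrix Cfsg.Agent.Helper2.Sp Module
open Cfsg.Agent.Helper7.AutPSL (zz mem_zz zz_map exists_conj_of_sylow)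

variable {F : Type*} [Field F] {m : ℕ}

local notation "V" => (Fin m ⊕ Fin m → F)
local notation "Mt" => Matrix (Fin m ⊕ Fin m) (Fin m ⊕ Fin m) F
local notation "SpG" => Matrix.symplecticGroup (Fin m) F

section plane

variable {e f : Fin m ⊕ Fin m → F} (H : om e f = 1)

include H

/-- the characteristic-free part of the computation of the centraliser of `Qs e` -/
theorem centralizer_Qs_weak (g : SpG) (hg : ∀ x ∈ Qs e, g * x = x * g) :
    ∃ (ρ : F) (w₀ : V) (c₀ : F), ρ * ρ = 1 ∧ om w₀ e = 0 ∧ om w₀ f = 0 ∧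
      ρ • g.1 = Sg e w₀ c₀ := by
  have he0 := e_ne_zero H
  have hconj : ∀ (w : V) (c : F), om w e = 0 → sgS (g.1 *ᵥ e) (g.1 *ᵥ w) c = sgS e w c := by
    intro w c hv
    rw [← sgS_conj hv c g, hg _ (sgS_mem_Qs e w c), mul_inv_cancel_right]
  -- step a
  have h1 := congrArg (fun x : SpG => x.1 *ᵥ f) (hconj 0 1 (om_zero_left e))
  beta_reduce at h1
  rw [mulVec_zero, tm_sgS (om_zero_left _), tm_sgS (om_zero_left _), Sg_mulVec, Sg_mulVec, H,
    om_zero_left] at h1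
  obtain ⟨κ, hκ⟩ : ∃ κ, κ = om (g.1 *ᵥ e) f := ⟨_, rfl⟩
  rw [← hκ] at h1
  have h2' : e = κ • (g.1 *ᵥ e) := by
    have : f + κ • (g.1 *ᵥ e) = f + e := by
      calc f + κ • (g.1 *ᵥ e)
          = f + κ • (0 : V) + (0 : F) • (g.1 *ᵥ e) + (1 * κ) • (g.1 *ᵥ e) := by module
        _ = f + (1 : F) • (0 : V) + (0 : F) • e + (1 * 1 : F) • e := h1
        _ = f + e := by module
    exact (add_left_cancel this).symm
  have hκ0 : κ ≠ 0 := by
    intro h0
    rw [h0, zero_smul] at h2'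
    exact he0 h2'
  have hge : g.1 *ᵥ e = κ⁻¹ • e := by
    calc g.1 *ᵥ e = κ⁻¹ • (κ • (g.1 *ᵥ e)) := by rw [smul_smul, inv_mul_cancel₀ hκ0, one_smul]
      _ = κ⁻¹ • e := by rw [← h2']
  have hκκ : κ = κ⁻¹ := by
    conv_lhs => rw [hκ, hge, om_smul_left, H, mul_one]
  obtain ⟨ρ, hρ⟩ : ∃ ρ, ρ = κ⁻¹ := ⟨_, rfl⟩
  rw [← hρ] at hge
  have hρ0 : ρ ≠ 0 := by rw [hρ]; exact inv_ne_zero hκ0
  have hρρ : ρ * ρ = 1 := by
    have h3 : κ * κ = 1 := by
      have := mul_inv_cancel₀ hκ0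
      rwa [← hκκ] at this
    rw [hρ, ← hκκ]
    exact h3
  -- step b
  have hstepb : ∀ w, om w e = 0 → om w f = 0 → ∃ μ : F, (ρ • g.1) *ᵥ w = w + μ • e := by
    intro w hwe hwf
    have h3 := hconj w 0 hwe
    have hv' : om (g.1 *ᵥ w) (g.1 *ᵥ e) = 0 := by rw [tm_pres g, hwe]
    rw [hge] at h3 hv'
    rw [sgS_smul hρ0 hv', hρρ, one_mul] at h3
    have hv'' : om (ρ • (g.1 *ᵥ w)) e = 0 := by
      rw [om_smul_right] at hv'
      rw [om_smul_left]
      rcases mul_eq_zero.mp hv' with h | h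
      · exact absurd h hρ0
      · rw [h, mul_zero]
    have h4 := congrArg (fun x : SpG => x.1 *ᵥ f) h3
    beta_reduce at h4
    rw [tm_sgS hv'', tm_sgS hwe, Sg_mulVec_f H hwf, Sg_mulVec, H] at h4
    refine ⟨-om (ρ • (g.1 *ᵥ w)) f, ?_⟩
    rw [Matrix.smul_mulVec]
    have h5 : f + (ρ • (g.1 *ᵥ w) + om (ρ • (g.1 *ᵥ w)) f • e) = f + w := by
      calc f + (ρ • (g.1 *ᵥ w) + om (ρ • (g.1 *ᵥ w)) f • e)
          = f + (1 : F) • ρ • (g.1 *ᵥ w) + om (ρ • (g.1 *ᵥ w)) f • e + (0 * 1 : F) • e := by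
            module
        _ = f + w + (0 : F) • e := h4
        _ = f + w := by module
    have h6 := add_left_cancel h5
    rw [neg_smul, ← sub_eq_add_neg]
    exact eq_sub_of_add_eq h6
  -- step c
  have hMpres : PresS (ρ • g.1) := by
    intro x y
    rw [Matrix.smul_mulVec, Matrix.smul_mulVec, om_smul_left, om_smul_right, tm_pres g x y,
      ← mul_assoc, hρρ, one_mul]
  have hMe : (ρ • g.1) *ᵥ e = e := by
    rw [Matrix.smul_mulVec, hge, smul_smul, hρρ, one_smul]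
  obtain ⟨w₀, c₀, hw₀e, hw₀f, hM⟩ := eq_Sg_of_fix H hMpres hMe hstepb
  exact ⟨ρ, w₀, c₀, hρρ, hw₀e, hw₀f, hM⟩

/-- relative transitivity: the pointwise stabiliser of a hyperbolic pair is transitive on the
nonzero vectors of the orthogonal complement -/
theorem exists_fix_pair_map {x y : V} (hx : x ∈ Wsub e f) (hy : y ∈ Wsub e f)
    (hx0 : x ≠ 0) (hy0 : y ≠ 0) :
    ∃ g : SpG, g.1 *ᵥ e = e ∧ g.1 *ᵥ f = f ∧ g.1 *ᵥ x = y := by
  have hfixT : ∀ (a b : V) (c : F), a ∈ Wsub e f → b ∈ Wsub e f →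
      T (a - b) c *ᵥ e = e ∧ T (a - b) c *ᵥ f = f := by
    intro a b c ha hb
    have h1 : om (a - b) e = 0 := by rw [om_sub_left, ha.1, hb.1, sub_zero]
    have h2 : om (a - b) f = 0 := by rw [om_sub_left, ha.2, hb.2, sub_zero]
    constructor
    · rw [T_mulVec, h1, mul_zero, zero_smul, add_zero]
    · rw [T_mulVec, h2, mul_zero, zero_smul, add_zero]
  by_cases h : om x y = 0
  · -- an intermediate vector
    obtain ⟨u, hu, hxu, huy⟩ : ∃ u ∈ Wsub e f, om x u ≠ 0 ∧ om u y ≠ 0 := by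
      obtain ⟨u₁, hu₁, h1⟩ := Wsub_nondeg H hx hx0
      obtain ⟨u₂, hu₂, h2⟩ := Wsub_nondeg H hy hy0
      have hsw : ∀ z, om z y ≠ 0 ↔ om y z ≠ 0 := by
        intro z; rw [om_swap y z, neg_ne_zero]
      by_cases h3 : om y u₁ = 0
      · by_cases h4 : om x u₂ = 0
        · refine ⟨u₁ + u₂, Submodule.add_mem _ hu₁ hu₂, ?_, ?_⟩
          · rw [om_add_right, h4, add_zero, h1]; exact one_ne_zero
          · rw [hsw, om_add_right, h3, zero_add, h2]; exact one_ne_zero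
        · exact ⟨u₂, hu₂, h4, (hsw u₂).mpr (by rw [h2]; exact one_ne_zero)⟩
      · exact ⟨u₁, hu₁, by rw [h1]; exact one_ne_zero, (hsw u₁).mpr h3⟩
    refine ⟨Tg (u - y) (-(om u y)⁻¹) * Tg (x - u) (-(om x u)⁻¹), ?_, ?_, ?_⟩
    · rw [tm_mul, Tg_val, Tg_val, ← mulVec_mulVec, (hfixT x u _ hx hu).1, (hfixT u y _ hu hy).1]
    · rw [tm_mul, Tg_val, Tg_val, ← mulVec_mulVec, (hfixT x u _ hx hu).2, (hfixT u y _ hu hy).2]
    · rw [tm_mul, Tg_val, Tg_val, ← mulVec_mulVec, T_map_of_om_ne_zero hxu,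
        T_map_of_om_ne_zero huy]
  · exact ⟨Tg (x - y) (-(om x y)⁻¹), (hfixT x y _ hx hy).1, (hfixT x y _ hx hy).2,
      T_map_of_om_ne_zero h⟩

end plane

/-! ### characteristic two -/

section chartwo

variable [CharP F 2]

theorem two_eq_zero_F : (2 : F) = 0 := CharTwo.two_eq_zero

theorem eq_one_of_mul_self_char_two {ρ : F} (h : ρ * ρ = 1) : ρ = 1 := by
  have h2 : (2 : F) = 0 := CharTwo.two_eq_zero
  have h1 : (ρ - 1) * (ρ - 1) = 0 := by linear_combination h + (1 - ρ) * h2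
  rcases mul_eq_zero.mp h1 with h3 | h3 <;> exact sub_eq_zero.mp h3

/-- the centre of `Sp_{2m}` is trivial in characteristic two -/
theorem center_eq_bot_char_two (hm : 1 ≤ m) : Subgroup.center SpG = ⊥ := by
  have : Nonempty (Fin m) := ⟨⟨0, by omega⟩⟩
  rw [eq_bot_iff]
  intro z hz
  obtain ⟨c, hc, hzc⟩ := (mem_center_iff z).mp hz
  rw [Subgroup.mem_bot]
  apply Subtype.ext
  rw [hzc, eq_one_of_mul_self_char_two hc, one_smul]
  rfl

theorem prS_injective_char_two (hm : 1 ≤ m) :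
    Function.Injective (prS : SpG →* Cfsg.PSp m F) := by
  intro x y hxy
  have h := (prS_eq_iff x y).mp hxy
  rw [center_eq_bot_char_two hm, Subgroup.mem_bot] at h
  exact (inv_mul_eq_one.mp h)

end chartwo

end Cfsg.Agent.Helper7.AutPSp
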