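import Cfsg.Agent.Helper7.AutPSp14

/-!
# Automorphisms of `PSp_{2m}`, part 15 (helper7)

Characteristic two: transvections are "odd transpositions" (no product of two conjugates has
order four), while the other elements of the centre of a Sylow `2`-subgroup are not.
-/

set_option autoImplicit false
set_option linter.unusedSectionVars false

namespace Cfsg.Agent.Helper7.AutPSp

open Matrix Cfsg.Agent.Helper2.Sp Module

/-- no product of two conjugates of `t` has order four -/
def OT4 {G : Type*} [Group G] (t : G) : Prop :=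
  ∀ g : G, (t * (g * t * g⁻¹)) ^ 4 = 1 → (t * (g * t * g⁻¹)) ^ 2 = 1

theorem OT4_mulEquiv {G H : Type*} [Group G] [Group H] (φ : G ≃* H) (t : G) :
    OT4 (φ t) ↔ OT4 t := by
  constructor
  · intro h g hg
    have h1 := h (φ g) (by
      rw [← map_inv, ← map_mul, ← map_mul, ← map_mul, ← map_pow, hg, map_one])
    rw [← map_inv, ← map_mul, ← map_mul, ← map_mul, ← map_pow] at h1
    exact φ.injective (h1.trans (map_one φ).symm)
  · intro h g' hg'
    obtain ⟨g, rfl⟩ := φ.surjective g'
    rw [← map_inv, ← map_mul, ← map_mul, ← map_mul, ← map_pow] at hg' ⊢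
    have h1 := h g (φ.injective (hg'.trans (map_one φ).symm))
    rw [h1, map_one]

variable {F : Type*} [Field F] {m : ℕ}

local notation "V" => (Fin m ⊕ Fin m → F)
local notation "Mt" => Matrix (Fin m ⊕ Fin m) (Fin m ⊕ Fin m) F
local notation "SpG" => Matrix.symplecticGroup (Fin m) F

section chartwo

variable [CharP F 2]

/-- the action of a product of two transvections on the plane of their centres -/
theorem TT_mulVec (e v : V) (c : F) (a b : F) :
    (T e c * T v c) *ᵥ (a • e + b • v)
      = (a * (1 - (c * om e v) ^ 2) + (c * om e v) * b) • e + (b - (c * om e v) * a) • v := by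
  rw [← mulVec_mulVec, T_mulVec, T_mulVec]
  simp only [om_add_right, om_smul_right, om_self, om_add_left, om_smul_left]
  rw [om_swap e v]
  module

/-- **transvections are odd transpositions** -/
theorem ot4_transvection (e : V) (c : F) : OT4 (sgS e 0 c : SpG) := by
  intro g h4
  have h2F : (2 : F) = 0 := CharTwo.two_eq_zero
  have hconj := sgS_conj (om_zero_left e) c g
  rw [Matrix.mulVec_zero] at hconj
  rw [hconj] at h4 ⊢
  obtain ⟨v, hv⟩ : ∃ v, v = g.1 *ᵥ e := ⟨_, rfl⟩
  rw [← hv] at h4 ⊢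
  have hsq : ∀ (a : V), (sgS a 0 c : SpG) ^ 2 = 1 := fun a => sgS_pow_char 2 a 0 c
  by_cases h0 : om e v = 0
  · have hc := Ts_commute h0 (sgS e 0 c) ⟨c, rfl⟩ (sgS v 0 c) ⟨c, rfl⟩
    have hc' : Commute (sgS e 0 c : SpG) (sgS v 0 c) := hc
    rw [hc'.mul_pow, hsq, hsq, one_mul]
  · by_cases hc0 : c = 0
    · rw [hc0, sgS_zero_zero, sgS_zero_zero, one_mul, one_pow]
    exfalso
    obtain ⟨s, hs⟩ : ∃ s, s = c * om e v := ⟨_, rfl⟩
    have hx : (sgS e 0 c * sgS v 0 c : SpG).1 = T e c * T v c := by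
      rw [tm_mul, tm_sgS_zero, tm_sgS_zero]
    have hlin : ∀ a b : F, (sgS e 0 c * sgS v 0 c : SpG).1 *ᵥ (a • e + b • v)
        = (a * (1 - s ^ 2) + s * b) • e + (b - s * a) • v := by
      intro a b
      rw [hx, TT_mulVec, hs]
    have h5 := congrArg (fun x : SpG => x.1 *ᵥ ((0 : F) • e + (1 : F) • v)) h4
    beta_reduce at h5
    rw [pow_succ, pow_succ, pow_succ, pow_one, tm_mul, tm_mul, tm_mul, ← mulVec_mulVec,
      ← mulVec_mulVec, ← mulVec_mulVec, hlin, hlin, hlin, hlin, tm_one, one_mulVec] at h5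
    have h6 := congrArg (fun z => om z v) h5
    beta_reduce at h6
    simp only [om_add_left, om_smul_left, om_self, mul_zero, add_zero, zero_mul] at h6
    have h7 : s ^ 7 * om e v = 0 := by
      linear_combination (-1 : F) * h6 + (2 * s - 5 * s ^ 3 + 3 * s ^ 5) * om e v * h2F
    have h8 : s = 0 := by
      rcases mul_eq_zero.mp h7 with h | h
      · exact pow_eq_zero_iff (by norm_num) |>.mp h
      · exact absurd h h0
    rw [hs] at h8
    rcases mul_eq_zero.mp h8 with h | h
    · exact hc0 h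
    · exact h0 h

end chartwo

section pair

variable {e f : Fin m ⊕ Fin m → F} (H : om e f = 1)

include H

/-- a nonzero vector orthogonal to two orthogonal hyperbolic planes -/
theorem exists_double_perp (hm : 3 ≤ m) {w w' : V} (hw : w ∈ Wsub e f) (hw' : w' ∈ Wsub e f)
    (hww : om w w' = 1) : ∃ y, y ∈ Wsub e f ∧ y ∈ Wsub w w' ∧ y ≠ 0 := by
  classical
  by_contra hcon
  push Not at hcon
  have hfe : om f e = -1 := by rw [om_swap e f, H]
  have hwe : om e w = 0 := by rw [om_swap w e, hw.1, neg_zero]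
  have hwf : om f w = 0 := by rw [om_swap w f, hw.2, neg_zero]
  have hwe' : om e w' = 0 := by rw [om_swap w' e, hw'.1, neg_zero]
  have hwf' : om f w' = 0 := by rw [om_swap w' f, hw'.2, neg_zero]
  have hww' : om w' w = -1 := by rw [om_swap w w', hww]
  have hle : (⊤ : Submodule F V) ≤ Submodule.span F {e, f, w, w'} := by
    intro z _
    obtain ⟨y, hy⟩ : ∃ y, y = z - om z f • e - om e z • f - om z w' • w - om w z • w' := ⟨_, rfl⟩
    have h1 : y ∈ Wsub e f := by
      rw [mem_Wsub, hy]
      constructor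
      · simp only [om_sub_left, om_smul_left, om_self, hfe, hw.1, hw'.1]
        rw [om_swap z e]
        ring
      · simp only [om_sub_left, om_smul_left, om_self, H, hw.2, hw'.2]
        ring
    have h2 : y ∈ Wsub w w' := by
      rw [mem_Wsub, hy]
      constructor
      · simp only [om_sub_left, om_smul_left, om_self, hwe, hwf, hww']
        rw [om_swap z w]
        ring
      · simp only [om_sub_left, om_smul_left, om_self, hwe', hwf', hww]
        ring
    have h0 := hcon y h1 h2
    have hz : z = om z f • e + om e z • f + om z w' • w + om w z • w' := by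
      have : z = y + om z f • e + om e z • f + om z w' • w + om w z • w' := by
        rw [hy]; module
      rw [h0, zero_add] at this
      exact this
    rw [hz]
    refine Submodule.add_mem _ (Submodule.add_mem _ (Submodule.add_mem _ ?_ ?_) ?_) ?_ <;>
      exact Submodule.smul_mem _ _ (Submodule.subset_span (by simp))
  have h1 := Submodule.finrank_mono hle
  have h2 : finrank F (Submodule.span F ({e, f, w, w'} : Set V)) ≤ 4 := by
    have := finrank_span_finset_le_card (R := F) ({e, f, w, w'} : Finset V)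
    have h3 : ({e, f, w, w'} : Finset V).card ≤ 4 := Finset.card_le_four
    simp only [Finset.coe_insert, Finset.coe_singleton] at this
    exact le_trans this h3
  rw [finrank_top, Module.finrank_fintype_fun_eq_card, Fintype.card_sum, Fintype.card_fin] at h1
  omega

variable [CharP F 2]

/-- **the non-transvection elements of `Qs e` are not odd transpositions** (`m ≥ 3`) -/
theorem not_OT4_sgS (hm : 3 ≤ m) {w : V} (hw : w ∈ Wsub e f) (hw0 : w ≠ 0) (c : F) :
    ¬ OT4 (sgS e w c : SpG) := by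
  intro hOT
  have h2F : (2 : F) = 0 := CharTwo.two_eq_zero
  have hneg : (-1 : F) = 1 := CharTwo.neg_eq 1
  obtain ⟨ws, hws, hwws⟩ := Wsub_nondeg H hw hw0
  have hwsw : om ws w = 1 := by rw [om_swap w ws, hwws, hneg]
  obtain ⟨y, hy1, hy2, hy0⟩ := exists_double_perp H hm hw hws hwws
  rw [← Wsub_comm] at hy2
  -- the first map
  obtain ⟨h₁, -, h₁e, h₁f⟩ := exists_TV_hyperbolic H hwsw
  obtain ⟨v₁, hv₁⟩ : ∃ v₁, v₁ = h₁.1 *ᵥ w := ⟨_, rfl⟩
  have hv₁W : v₁ ∈ Wsub ws w := by
    rw [mem_Wsub, hv₁]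
    constructor
    · have : om (h₁.1 *ᵥ w) (h₁.1 *ᵥ e) = 0 := by rw [tm_pres h₁, hw.1]
      rwa [h₁e] at this
    · have : om (h₁.1 *ᵥ w) (h₁.1 *ᵥ f) = 0 := by rw [tm_pres h₁, hw.2]
      rwa [h₁f] at this
  have hv₁0 : v₁ ≠ 0 := by
    intro h0
    apply hw0
    have := tm_inv_mulVec h₁ w
    rw [← hv₁, h0, Matrix.mulVec_zero] at this
    exact this.symm
  -- the second map
  obtain ⟨h₂, h₂ws, h₂w, h₂v⟩ := exists_fix_pair_map hwsw hv₁W hy2 hv₁0 hy0
  obtain ⟨h, hh⟩ : ∃ h : SpG, h = h₂ * h₁ := ⟨_, rfl⟩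
  have hhe : h.1 *ᵥ e = ws := by rw [hh, tm_mul, ← mulVec_mulVec, h₁e, h₂ws]
  have hhw : h.1 *ᵥ w = y := by rw [hh, tm_mul, ← mulVec_mulVec, ← hv₁, h₂v]
  -- the conjugate
  have hconj := sgS_conj hw.1 c h
  rw [hhe, hhw] at hconj
  have hyws : om y ws = 0 := hy2.1
  have hyw : om y w = 0 := hy2.2
  have hwse : om ws e = 0 := hws.1
  have hye : om y e = 0 := hy1.1
  obtain ⟨z', hz'⟩ : ∃ z' : SpG, z' = sgS ws y c := ⟨_, rfl⟩
  have hz'sq : z' ^ 2 = 1 := by rw [hz']; exact sgS_pow_char 2 ws y c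
  have hz'inv : z'⁻¹ = z' := by
    rw [inv_eq_iff_mul_eq_one, ← pow_two, hz'sq]
  have hz'e : z'.1 *ᵥ e = e := by
    rw [hz', tm_sgS hyws, Sg_mulVec, hwse, hye]
    module
  have hz'w : z'.1 *ᵥ w = w + y + c • ws := by
    rw [hz', tm_sgS hyws, Sg_mulVec, hwsw, hyw]
    module
  have hconj2 := sgS_conj hw.1 c z'
  rw [hz'e, hz'w, hz'inv] at hconj2
  have hperp : om (w + y + c • ws) e = 0 := by
    rw [om_add_left, om_add_left, om_smul_left, hw.1, hye, hwse]
    ring
  have hsq : (sgS e w c * z') ^ 2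
      = sgS e (w + (w + y + c • ws)) (c + c + om w (w + y + c • ws)) := by
    rw [pow_two, ← sgS_mul hw.1 hperp, ← hconj2]
    group
  have h4 : (sgS e w c * (h * sgS e w c * h⁻¹)) ^ 4 = 1 := by
    rw [hconj, ← hz', show (4 : ℕ) = 2 * 2 from rfl, pow_mul, hsq]
    exact sgS_pow_char 2 _ _ _
  have h5 := hOT h h4
  rw [hconj, ← hz', hsq] at h5
  -- the contradiction
  have hperp2 : om (w + (w + y + c • ws)) e = 0 := by
    rw [om_add_left, hw.1, hperp, add_zero]
  have h6 := congrArg Subtype.val h5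
  rw [tm_sgS hperp2, tm_one, ← Sg_zero_zero e] at h6
  have hf2 : om (w + (w + y + c • ws)) f = 0 := by
    simp only [om_add_left, om_smul_left, hw.2, hy1.2, hws.2]
    ring
  obtain ⟨h7, -⟩ := Sg_inj H hf2 (om_zero_left f) h6
  have hc0 : c = 0 := by
    have := congrArg (fun z => om z w) h7
    beta_reduce at this
    simp only [om_add_left, om_smul_left, om_self, hyw, hwsw, om_zero_left] at this
    linear_combination this
  apply hy0
  have h2w : w + w = 0 := by
    rw [← two_smul F w, h2F, zero_smul]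
  rw [hc0, zero_smul, add_zero, ← add_assoc, h2w, zero_add] at h7
  exact h7

end pair


end Cfsg.Agent.Helper7.AutPSp
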