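import Cfsg.Agent.Helper7.AutPSp15

/-!
# Automorphisms of `PSp_{2m}`, part 16 (helper7)

Characteristic two, step II: the transvection groups are the sets of odd transpositions in the
centres of the Sylow `2`-subgroups, hence permuted by every automorphism (`m ≥ 3`).
-/

set_option autoImplicit false
set_option linter.unusedSectionVars false

namespace Cfsg.Agent.Helper7.AutPSp

open Matrix Cfsg.Agent.Helper2.Sp Module
open Cfsg.Agent.Helper7.AutPSL (zz mem_zz zz_map exists_conj_of_sylow)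

section generic

variable {G : Type*} [Group G]

theorem mem_map_aut_iff (β : MulAut G) (K : Subgroup G) (y : G) :
    y ∈ K.map β.toMonoidHom ↔ β⁻¹ y ∈ K := by
  constructor
  · rintro ⟨x, hx, rfl⟩
    have : β⁻¹ (β x) = x := MulAut.inv_apply_self _ _ _
    show β⁻¹ (β x) ∈ K
    rw [this]
    exact hx
  · intro h
    exact ⟨β⁻¹ y, h, MulAut.apply_inv_self _ _ _⟩

/-- a subgroup cut out of the centre of `P` by the property `OT4` is mapped by automorphisms with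
the same effect on `P` to the same subgroup -/
theorem map_eq_of_ot4_char {T P : Subgroup G} (hT : ∀ z, z ∈ T ↔ z ∈ zz P ∧ OT4 z)
    (β γ : MulAut G) (h : P.map β.toMonoidHom = P.map γ.toMonoidHom) :
    T.map β.toMonoidHom = T.map γ.toMonoidHom := by
  have key : ∀ (δ : MulAut G) (y : G),
      y ∈ T.map δ.toMonoidHom ↔ y ∈ zz (P.map δ.toMonoidHom) ∧ OT4 y := by
    intro δ y
    rw [mem_map_aut_iff, hT, zz_map, mem_map_aut_iff]
    have : OT4 (δ⁻¹ y) ↔ OT4 y := OT4_mulEquiv (δ⁻¹ : MulAut G) y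
    rw [this]
  ext y
  rw [key β y, key γ y, h]

end generic

variable {F : Type*} [Field F] {m : ℕ}

local notation "V" => (Fin m ⊕ Fin m → F)
local notation "Mt" => Matrix (Fin m ⊕ Fin m) (Fin m ⊕ Fin m) F
local notation "SpG" => Matrix.symplecticGroup (Fin m) F

/-- the transvection group lies in the centre of every Sylow subgroup fixing its centre -/
theorem Ts_le_zz_sylow (p : ℕ) [Fact p.Prime] [CharP F p] [Fintype F] (P : Sylow p SpG) {e : V}
    (hP : ∀ g ∈ P, g.1 *ᵥ e = e) : Ts e ≤ zz (P : Subgroup SpG) := by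
  have hQ := Qs_le_sylow p P hP
  intro x hx
  rw [mem_zz]
  refine ⟨hQ (Ts_le_Qs e hx), ?_⟩
  obtain ⟨c, rfl⟩ := hx
  intro y hy
  have := sgS_conj (om_zero_left e) c y
  rw [hP y hy, Matrix.mulVec_zero] at this
  calc y * sgS e 0 c = (y * sgS e 0 c * y⁻¹) * y := by group
    _ = sgS e 0 c * y := by rw [this]

section chartwo

variable [Fintype F] [CharP F 2]

/-- the centre of a Sylow `2`-subgroup fixing `e` lies in `Qs e` -/
theorem zz_sylow_le_char_two (P : Sylow 2 SpG) {e f : V} (H : om e f = 1)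
    (hP : ∀ g ∈ P, g.1 *ᵥ e = e) {x : SpG} (hx : x ∈ zz (P : Subgroup SpG)) :
    ∃ w₀ c₀, w₀ ∈ Wsub e f ∧ x = sgS e w₀ c₀ := by
  have hQ := Qs_le_sylow 2 P hP
  rw [mem_zz] at hx
  obtain ⟨ρ, w₀, c₀, hρ, hw₀e, hw₀f, hM⟩ :=
    centralizer_Qs_weak H x (fun y hy => (hx.2 y (hQ hy)).symm)
  rw [eq_one_of_mul_self_char_two hρ, one_smul] at hM
  refine ⟨w₀, c₀, ⟨hw₀e, hw₀f⟩, ?_⟩
  apply Subtype.ext
  rw [hM, tm_sgS hw₀e]

/-- the projection as an isomorphism -/
noncomputable def prE (hm : 1 ≤ m) : SpG ≃* Cfsg.PSp m F :=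
  MulEquiv.ofBijective prS ⟨prS_injective_char_two hm, prS_surjective⟩

theorem prE_apply (hm : 1 ≤ m) (x : SpG) : prE hm x = prS x := rfl

/-- **the transvection group is the set of odd transpositions in the centre of a Sylow
subgroup** -/
theorem mem_Tb_iff_char_two (hm : 3 ≤ m) (P : Sylow 2 SpG) {u : V} (hu0 : u ≠ 0)
    (hP : ∀ g ∈ P, g.1 *ᵥ u = u) (z : Cfsg.PSp m F) :
    z ∈ Tb u ↔ z ∈ zz ((P : Subgroup SpG).map prS) ∧ OT4 z := by
  have hm1 : 1 ≤ m := by omega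
  obtain ⟨f, H⟩ := exists_hypPair hu0
  rw [zz_map_prS 2 hm1 P.isPGroup']
  constructor
  · rintro ⟨t, ht, rfl⟩
    refine ⟨⟨t, Ts_le_zz_sylow 2 P hP ht, rfl⟩, ?_⟩
    obtain ⟨c, rfl⟩ := ht
    rw [← prE_apply hm1, OT4_mulEquiv]
    exact ot4_transvection u c
  · rintro ⟨⟨x, hx, rfl⟩, hOT⟩
    obtain ⟨w₀, c₀, hw₀, rfl⟩ := zz_sylow_le_char_two P H hP hx
    rw [← prE_apply hm1, OT4_mulEquiv] at hOT
    by_cases h0 : w₀ = 0
    · rw [h0]
      exact ⟨_, ⟨c₀, rfl⟩, rfl⟩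
    · exact absurd hOT (not_OT4_sgS H hm hw₀ h0 c₀)

/-- **every automorphism permutes the transvection groups** (characteristic two, `m ≥ 3`) -/
theorem map_aut_Tb_char_two (hm : 3 ≤ m) (α : MulAut (Cfsg.PSp m F)) {e : V} (he0 : e ≠ 0) :
    ∃ e' : V, e' ≠ 0 ∧ (Tb e).map α.toMonoidHom = Tb e' := by
  have hm1 : 1 ≤ m := by omega
  obtain ⟨P₀⟩ : Nonempty (Sylow 2 SpG) := inferInstance
  obtain ⟨u, hu0, hfix⟩ := exists_fixed_vector 2 hm1 P₀.isPGroup'
  obtain ⟨P, hPdef⟩ : ∃ P : Sylow 2 (Cfsg.PSp m F), P = P₀.mapSurjective prS_surjective :=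
    ⟨_, rfl⟩
  have hPcoe : (P : Subgroup (Cfsg.PSp m F)) = (P₀ : Subgroup SpG).map prS := by
    rw [hPdef, Sylow.coe_mapSurjective]
  have hT : ∀ z, z ∈ Tb u ↔ z ∈ zz (P : Subgroup (Cfsg.PSp m F)) ∧ OT4 z := by
    intro z
    rw [hPcoe]
    exact mem_Tb_iff_char_two hm P₀ hu0 hfix z
  obtain ⟨g, hg⟩ := exists_symplectic_mulVec_eq u e hu0 he0
  have h1 : Tb e = (Tb u).map (MulAut.conj (prS g)).toMonoidHom := by
    rw [map_conj_Tb, hg]
  obtain ⟨x, hx⟩ := exists_conj_of_sylow P (α * MulAut.conj (prS g))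
  obtain ⟨g', rfl⟩ := prS_surjective x
  refine ⟨g'.1 *ᵥ u, ?_, ?_⟩
  · intro h0
    apply hu0
    have := tm_inv_mulVec g' u
    rw [h0, Matrix.mulVec_zero] at this
    exact this.symm
  · have hcomp : (α.toMonoidHom).comp (MulAut.conj (prS g)).toMonoidHom
        = (α * MulAut.conj (prS g)).toMonoidHom := rfl
    rw [h1, Subgroup.map_map, hcomp, ← map_conj_Tb]
    exact map_eq_of_ot4_char hT _ _ hx

end chartwo

end Cfsg.Agent.Helper7.AutPSp
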