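import Cfsg.Agent.Helper7.AutPSp16

/-!
# Automorphisms of `PSp_{2m}`, part 17 (helper7)

Characteristic two, step III: an automorphism fixing the transvection group `Tb e` fixes the
Siegel group `Qb e`, the largest normal `2`-subgroup of the normaliser of `Tb e`.
-/

set_option autoImplicit false
set_option linter.unusedSectionVars false

namespace Cfsg.Agent.Helper7.AutPSp

open Matrix Cfsg.Agent.Helper2.Sp Module
open Cfsg.Agent.Helper7.AutPSL (zz mem_zz zz_map exists_conj_of_sylow)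
open Cfsg.Agent.Helper7.AutPSU (map_mul_aut)

section generic

variable {G : Type*} [Group G]

theorem map_conj_eq_of_mem_normalizer {K : Subgroup G} {y : G}
    (hy : y ∈ Subgroup.normalizer (K : Set G)) : K.map (MulAut.conj y).toMonoidHom = K := by
  ext z
  constructor
  · rintro ⟨x, hx, rfl⟩
    exact (Subgroup.mem_normalizer_iff.mp hy x).mp hx
  · intro hz
    refine ⟨y⁻¹ * z * y, ?_, ?_⟩
    · apply (Subgroup.mem_normalizer_iff.mp hy (y⁻¹ * z * y)).mpr
      have : y * (y⁻¹ * z * y) * y⁻¹ = z := by group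
      rw [this]
      exact hz
    · show y * (y⁻¹ * z * y) * y⁻¹ = z
      group

theorem mem_normalizer_of_map_conj_eq {K : Subgroup G} {y : G}
    (hy : K.map (MulAut.conj y).toMonoidHom = K) : y ∈ Subgroup.normalizer (K : Set G) := by
  rw [Subgroup.mem_normalizer_iff]
  intro h
  constructor
  · intro hh
    rw [← hy]
    exact ⟨h, hh, rfl⟩
  · intro hh
    rw [← hy] at hh
    obtain ⟨x, hx, hxh⟩ := hh
    have : y * x * y⁻¹ = y * h * y⁻¹ := hxh
    have hxh' : x = h := by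
      have := congrArg (fun t => y⁻¹ * t * y) this
      beta_reduce at this
      have e1 : y⁻¹ * (y * x * y⁻¹) * y = x := by group
      have e2 : y⁻¹ * (y * h * y⁻¹) * y = h := by group
      rwa [e1, e2] at this
    rw [← hxh']
    exact hx

theorem conj_apply_aut (α : MulAut G) (y : G) :
    MulAut.conj (α y) = α * MulAut.conj y * α⁻¹ := by
  apply MulEquiv.ext
  intro z
  show α y * z * (α y)⁻¹ = α (y * (α⁻¹ z) * y⁻¹)
  rw [map_mul, map_mul, map_inv, MulAut.apply_inv_self]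

end generic

variable {F : Type*} [Field F] {m : ℕ}

local notation "V" => (Fin m ⊕ Fin m → F)
local notation "Mt" => Matrix (Fin m ⊕ Fin m) (Fin m ⊕ Fin m) F
local notation "SpG" => Matrix.symplecticGroup (Fin m) F

section pair

variable {e f : Fin m ⊕ Fin m → F} (H : om e f = 1)
variable (p : ℕ) [Fact p.Prime] [CharP F p]

include H p

/-- an element normalising `Tb e` stabilises the line of `e` -/
theorem exists_smul_of_normalizes (hm : 1 ≤ m) {g : SpG}
    (hg : (Tb e).map (MulAut.conj (prS g)).toMonoidHom = Tb e) :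
    ∃ ρ : F, ρ ≠ 0 ∧ g.1 *ᵥ e = ρ • e := by
  rw [map_conj_Tb] at hg
  obtain ⟨l, hl0, hl⟩ := smul_of_Tb_le p H hm (e' := g.1 *ᵥ e) hg.ge
  refine ⟨l⁻¹, inv_ne_zero hl0, ?_⟩
  calc g.1 *ᵥ e = l⁻¹ • (l • (g.1 *ᵥ e)) := by rw [smul_smul, inv_mul_cancel₀ hl0, one_smul]
    _ = l⁻¹ • e := by rw [← hl]

omit H p in
theorem Qb_map_conj_of_smul {g : SpG} {ρ : F} (hρ : ρ ≠ 0) (hg : g.1 *ᵥ e = ρ • e) :
    (Qb e).map (MulAut.conj (prS g)).toMonoidHom = Qb e := by
  rw [map_conj_Qb, hg, Qb_smul e hρ]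

omit H p in
theorem Tb_map_conj_of_smul {g : SpG} {ρ : F} (hρ : ρ ≠ 0) (hg : g.1 *ᵥ e = ρ • e) :
    (Tb e).map (MulAut.conj (prS g)).toMonoidHom = Tb e := by
  rw [map_conj_Tb, hg, Tb_smul e hρ]

end pair

section chartwo

variable [Fintype F] [CharP F 2]
variable {e f : Fin m ⊕ Fin m → F} (H : om e f = 1)

include H

/-- one inclusion of step III in characteristic two -/
theorem map_aut_Qb_le_char_two (hm : 2 ≤ m) (α : MulAut (Cfsg.PSp m F))
    (hα : (Tb e).map α.toMonoidHom = Tb e) : (Qb e).map α.toMonoidHom ≤ Qb e := by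
  have hm1 : 1 ≤ m := by omega
  have hα' : (Tb e).map (α⁻¹ : MulAut (Cfsg.PSp m F)).toMonoidHom = Tb e := by
    conv_lhs => rw [← hα]
    rw [← map_mul_aut, inv_mul_cancel]
    exact Subgroup.map_id _
  obtain ⟨N, hN⟩ : ∃ N : Subgroup (Cfsg.PSp m F),
      N = Subgroup.normalizer ((Tb e : Subgroup (Cfsg.PSp m F)) : Set (Cfsg.PSp m F)) := ⟨_, rfl⟩
  have hNmem : ∀ y, y ∈ N ↔ (Tb e).map (MulAut.conj y).toMonoidHom = Tb e := by
    intro y
    rw [hN]
    exact ⟨map_conj_eq_of_mem_normalizer, mem_normalizer_of_map_conj_eq⟩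
  -- claim 1
  have hQN : Qb e ≤ N := by
    rintro _ ⟨q, hq, rfl⟩
    rw [hNmem]
    obtain ⟨w, c, rfl⟩ := mem_Qs.mp hq
    by_cases hv : om w e = 0
    · apply Tb_map_conj_of_smul one_ne_zero
      rw [tm_sgS hv, Sg_mulVec_self hv, one_smul]
    · rw [sgS_of_not_valid hv, map_one, map_one]
      exact Subgroup.map_id _
  -- claim 2
  have hαN : ∀ (β : MulAut (Cfsg.PSp m F)), (Tb e).map β.toMonoidHom = Tb e →
      (Tb e).map (β⁻¹ : MulAut (Cfsg.PSp m F)).toMonoidHom = Tb e → ∀ y ∈ N, β y ∈ N := by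
    intro β hβ hβ' y hy
    rw [hNmem] at hy ⊢
    rw [conj_apply_aut, map_mul_aut, map_mul_aut, hβ', hy, hβ]
  -- claim 4
  have hNQ : ∀ y ∈ N, (Qb e).map (MulAut.conj y).toMonoidHom = Qb e := by
    intro y hy
    obtain ⟨g, rfl⟩ := prS_surjective y
    obtain ⟨ρ, hρ0, hρ⟩ := exists_smul_of_normalizes H 2 hm1 ((hNmem _).mp hy)
    exact Qb_map_conj_of_smul hρ0 hρ
  obtain ⟨R, hR⟩ : ∃ R, R = (Qb e).map α.toMonoidHom := ⟨_, rfl⟩
  rw [← hR]
  -- claim 3
  have hRN : R ≤ N := by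
    rw [hR]
    rintro _ ⟨x, hx, rfl⟩
    exact hαN α hα hα' x (hQN hx)
  -- claim 5
  have hNR : ∀ y ∈ N, R.map (MulAut.conj y).toMonoidHom = R := by
    intro y hy
    have h1 : α⁻¹ y ∈ N := hαN α⁻¹ hα' (by rw [inv_inv]; exact hα) y hy
    have h2 : MulAut.conj y = α * MulAut.conj (α⁻¹ y) * α⁻¹ := by
      rw [← conj_apply_aut, MulAut.apply_inv_self]
    rw [hR, ← map_mul_aut, h2, inv_mul_cancel_right, map_mul_aut, hNQ _ h1]
  obtain ⟨K, hK⟩ : ∃ K, K = R ⊔ Qb e := ⟨_, rfl⟩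
  have hNK : ∀ y ∈ N, K.map (MulAut.conj y).toMonoidHom = K := by
    intro y hy
    rw [hK, Subgroup.map_sup, hNR y hy, hNQ y hy]
  have hKN : K ≤ N := by
    rw [hK]
    exact sup_le hRN hQN
  have hQp : IsPGroup 2 (Qb e) := (Qs_isPGroup 2 e).map _
  have hRp : IsPGroup 2 R := by
    rw [hR]
    exact hQp.map _
  have hKp : IsPGroup 2 K := by
    rw [hK]
    apply hRp.to_sup_of_normal_right' hQp
    intro y hy
    exact mem_normalizer_of_map_conj_eq (hNQ y (hRN hy))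
  obtain ⟨O', hO'⟩ : ∃ O' : Subgroup SpG, O' = K.comap prS := ⟨_, rfl⟩
  have hO'mem : ∀ x, x ∈ O' ↔ prS x ∈ K := by
    intro x
    rw [hO']
    exact Subgroup.mem_comap
  have hO'p : IsPGroup 2 O' := by
    rw [hO']
    exact hKp.comap_of_injective prS (prS_injective_char_two hm1)
  have hQO : Qs e ≤ O' := by
    intro q hq
    rw [hO'mem, hK]
    exact Subgroup.mem_sup_right ⟨q, hq, rfl⟩
  have hfix : ∀ x ∈ O', x.1 *ᵥ e = e := by
    intro x hx
    obtain ⟨ρ, hρ0, hρ⟩ := exists_smul_of_normalizes H 2 hm1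
      ((hNmem _).mp (hKN ((hO'mem x).mp hx)))
    obtain ⟨k, hk⟩ := hO'p ⟨x, hx⟩
    have hk' : x ^ 2 ^ k = 1 := by
      have := congrArg Subtype.val hk
      rwa [Subgroup.coe_pow, Subgroup.coe_one] at this
    have h1 := tm_pow_mulVec hρ (2 ^ k)
    rw [hk', tm_one, Matrix.one_mulVec] at h1
    have he0 := e_ne_zero H
    have hρk : ρ ^ 2 ^ k = 1 := by
      have h3 : (ρ ^ 2 ^ k - 1) • e = 0 := by rw [sub_smul, one_smul, ← h1, sub_self]
      rcases smul_eq_zero.mp h3 with h4 | h4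
      · exact sub_eq_zero.mp h4
      · exact absurd h4 he0
    rw [hρ, eq_one_of_pow_char_pow 2 hρk, one_smul]
  have hnorm : ∀ g : SpG, g.1 *ᵥ e = e → g.1 *ᵥ f = f → ∀ x ∈ O', g * x * g⁻¹ ∈ O' := by
    intro g hge _ x hx
    rw [hO'mem] at hx ⊢
    have hgN : prS g ∈ N := by
      rw [hNmem]
      apply Tb_map_conj_of_smul one_ne_zero
      rw [hge, one_smul]
    rw [← hNK _ hgN]
    refine ⟨prS x, hx, ?_⟩
    show prS g * prS x * (prS g)⁻¹ = prS (g * x * g⁻¹)
    rw [map_mul, map_mul, map_inv]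
  have hle := le_Qs_of_normal 2 H hm hO'p hQO hfix hnorm
  intro y hy
  obtain ⟨x, rfl⟩ := prS_surjective y
  have hx : x ∈ O' := by
    rw [hO'mem, hK]
    exact Subgroup.mem_sup_left hy
  exact ⟨x, hle hx, rfl⟩

/-- **Step III in characteristic two** -/
theorem map_aut_Qb_char_two (hm : 2 ≤ m) (α : MulAut (Cfsg.PSp m F))
    (hα : (Tb e).map α.toMonoidHom = Tb e) : (Qb e).map α.toMonoidHom = Qb e := by
  apply le_antisymm (map_aut_Qb_le_char_two H hm α hα)
  have hα' : (Tb e).map (α⁻¹ : MulAut (Cfsg.PSp m F)).toMonoidHom = Tb e := by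
    conv_lhs => rw [← hα]
    rw [← map_mul_aut, inv_mul_cancel]
    exact Subgroup.map_id _
  intro x hx
  have h1 := map_aut_Qb_le_char_two H hm α⁻¹ hα' ⟨x, hx, rfl⟩
  refine ⟨_, h1, ?_⟩
  show α ((α⁻¹ : MulAut (Cfsg.PSp m F)) x) = x
  exact MulAut.apply_inv_self _ _ _

end chartwo

end Cfsg.Agent.Helper7.AutPSp
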