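import Cfsg.Agent.Helper7.AutPSp18

/-!
# Automorphisms of `PSp_{2m}`, part 19 (helper7)

**Every automorphism of `PSp_{2m}(q)`, `q` even, `m ≥ 3`, is the product of the conjugation by a
symplectic similitude and a field automorphism**; together with the odd case this gives the full
theorem for `m ≥ 2`, `(2m, p) ≠ (4, 2)`.
-/

set_option autoImplicit false
set_option linter.unusedSectionVars false

namespace Cfsg.Agent.Helper7.AutPSp

open Matrix Cfsg.Agent.Helper2.Sp Module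
open Cfsg.Agent.Helper7.AutPSU (map_conj_le le_of_map_conj_le map_mul_aut)
open Cfsg.Agent.Helper7.GraphPSL (spGLhom spGLhom_coe spGLhom_injective mem_GSp_iff)

variable {F : Type*} [Field F] {m : ℕ}

local notation "V" => (Fin m ⊕ Fin m → F)
local notation "Mt" => Matrix (Fin m ⊕ Fin m) (Fin m ⊕ Fin m) F
local notation "SpG" => Matrix.symplecticGroup (Fin m) F
local notation "GLm" => GL (Fin m ⊕ Fin m) F

variable [Fintype F] {p : ℕ} [Fact p.Prime] [CharP F p]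
variable {e f : Fin m ⊕ Fin m → F} {α : MulAut (Cfsg.PSp m F)}
  {A A' : (Fin m ⊕ Fin m → F) → (Fin m ⊕ Fin m → F)} {B B' : (Fin m ⊕ Fin m → F) → F → F}

/-- **normalised automorphisms** (any characteristic) -/
theorem NSetup2.eq_cSp_phiSp (S : NSetup2 p e f α A A' B B') :
    ∃ (x : ↥(Cfsg.GSp m F)) (τ : F ≃+* F), α = cSp x * phiSp τ := by
  obtain ⟨τ₀, κ, hd⟩ := S.exists_SData
  obtain ⟨τ, hττ⟩ : ∃ τ : F ≃+* F, (τ : F →+* F) = τ₀ :=
    ⟨RingEquiv.ofBijective τ₀ ⟨τ₀.injective, Finite.injective_iff_surjective.mp τ₀.injective⟩,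
      by ext; rfl⟩
  subst hττ
  have hκ0 := hd.hκ0
  have G : GHyp e f (τ : F →+* F) κ A :=
    ⟨S.H, fun w₁ h₁ w₂ h₂ => S.A_add h₁ h₂, fun w hw => S.A_mem hw, hd.hτ, hd.hκ0, hd.hsim⟩
  obtain ⟨xGL, hxGL⟩ : ∃ xGL : GLm, (xGL : Mt) = G.Xm :=
    ⟨Matrix.GeneralLinearGroup.mkOfDetNeZero G.Xm G.Xm_det_ne, rfl⟩
  have hx : xGL ∈ Cfsg.GSp m F := by
    rw [mem_GSp_iff]
    refine ⟨Units.mk0 κ hκ0, fun u v => ?_⟩
    rw [hxGL, Units.val_mk0]
    exact G.Xm_sim u v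
  obtain ⟨xH, hxH⟩ : ∃ xH : ↥(Cfsg.GSp m F), (xH : GLm) = xGL := ⟨⟨xGL, hx⟩, rfl⟩
  refine ⟨xH, τ, ?_⟩
  obtain ⟨β, hβdef⟩ : ∃ β : MulAut (Cfsg.PSp m F), β = cSp xH * phiSp τ := ⟨_, rfl⟩
  rw [← hβdef]
  -- the action of the candidate on Siegel elements
  have general : ∀ (x w : V) (c : F), om w x = 0 →
      om (κ⁻¹ • Gfun e f (τ : F →+* F) κ A w) (Gfun e f (τ : F →+* F) κ A x) = 0 ∧
      β (prS (sgS x w c))
        = prS (sgS (Gfun e f (τ : F →+* F) κ A x)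
            (κ⁻¹ • Gfun e f (τ : F →+* F) κ A w) (κ⁻¹ * τ c)) := by
    intro x w c hv
    have hv' : om (κ⁻¹ • Gfun e f (τ : F →+* F) κ A w) (Gfun e f (τ : F →+* F) κ A x) = 0 := by
      rw [om_smul_left, G.Gfun_sim, hv, map_zero, mul_zero, mul_zero]
    refine ⟨hv', ?_⟩
    rw [hβdef, MulAut.mul_apply, phiSp_prS, cSp_prS]
    congr 1
    apply Subtype.ext
    rw [conjSp_coe, phiSpS_coe, hxH, tm_sgS hv, tm_sgS hv', hxGL, G.Xm_conj x w c,
      Matrix.mul_assoc, ← hxGL, ← Units.val_mul, mul_inv_cancel, Units.val_one, Matrix.mul_one]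
  -- agreement on `Qb e` and `Tb f`
  have he : Qb e ≤ (α.toMonoidHom).eqLocus β.toMonoidHom := by
    rintro _ ⟨g, hg, rfl⟩
    obtain ⟨w, c, hw, rfl⟩ := exists_W_param S.H hg
    show α (prS _) = β (prS _)
    obtain ⟨hv', hβ⟩ := general e w c hw.1
    rw [S.map_sgS c hw, hd.hB w hw c, hβ]
    rw [G.Gfun_e, G.Gfun_W hw] at hv' ⊢
    rw [sgS_smul hκ0 hv', smul_smul, mul_inv_cancel₀ hκ0, one_smul]
    congr 2
    have e2 : (τ : F →+* F) c = τ c := rfl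
    rw [e2]
    field_simp
  have hf : Tb f ≤ (α.toMonoidHom).eqLocus β.toMonoidHom := by
    rintro _ ⟨g, ⟨s, rfl⟩, rfl⟩
    show α (prS _) = β (prS _)
    obtain ⟨hv', hβ⟩ := general f 0 s (om_zero_left f)
    have h0 : (0 : V) ∈ Wsub e f := Submodule.zero_mem _
    rw [S.map_sgS' s h0, hd.hB' 0 h0 s, S.A'_zero, hβ, G.Gfun_f, G.Gfun_zero, smul_zero]
    rfl
  have htop := eq_top_of_Qb_le S.H _ he hf
  apply MulEquiv.ext
  intro x
  have hx' : x ∈ (α.toMonoidHom).eqLocus β.toMonoidHom := by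
    rw [htop]
    trivial
  exact hx'

section chartwo

variable [CharP F 2]

/-- **normalisation** in characteristic two -/
theorem exists_normalize_char_two (hm : 3 ≤ m) {e f : V} (H : om e f = 1)
    (α : MulAut (Cfsg.PSp m F)) :
    ∃ g : SpG, Nrm (MulAut.conj (prS g) * α) e f := by
  have hm1 : 1 ≤ m := by omega
  have he0 := e_ne_zero H
  have hf0 := f_ne_zero H
  obtain ⟨e', he0', he'⟩ := map_aut_Tb_char_two hm α he0
  obtain ⟨f', hf0', hf'⟩ := map_aut_Tb_char_two hm α hf0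
  have hne : om e' f' ≠ 0 := not_orth_of_map 2 hm1 he0 (by rw [H]; exact one_ne_zero) α he' hf'
  obtain ⟨l, hl⟩ : ∃ l, l = (om e' f')⁻¹ := ⟨_, rfl⟩
  have hl0 : l ≠ 0 := by rw [hl]; exact inv_ne_zero hne
  have h1 : om e' (l • f') = 1 := by rw [om_smul_right, hl, inv_mul_cancel₀ hne]
  obtain ⟨t, -, hte, htf⟩ := exists_TV_hyperbolic h1 H
  refine ⟨t, ?_, ?_⟩
  · rw [map_mul_aut, he', map_conj_Tb, hte]
  · rw [map_mul_aut, hf', ← Tb_smul f' hl0, map_conj_Tb, htf]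

/-- **the automorphisms of `PSp_{2m}(q)`, `q` even, `m ≥ 3`** -/
theorem aut_PSp_char_two (hm : 3 ≤ m) (α : MulAut (Cfsg.PSp m F)) :
    ∃ (x : ↥(Cfsg.GSp m F)) (τ : F ≃+* F), α = cSp x * phiSp τ := by
  have hm2 : 2 ≤ m := by omega
  have hm1 : 1 ≤ m := by omega
  obtain ⟨e, f, H⟩ := exists_std_pair (F := F) hm1
  obtain ⟨g, hN⟩ := exists_normalize_char_two hm H α
  have Hs := om_f_neg_e H
  obtain ⟨A, B, hAB⟩ := exists_QData H _ hN.1 (map_aut_Qb_char_two H hm2 _ hN.1)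
  have hN2 : (Tb (-e)).map (MulAut.conj (prS g) * α).toMonoidHom = Tb (-e) := by
    have : (-e : V) = (-1 : F) • e := by rw [neg_smul, one_smul]
    rw [this, Tb_smul e (neg_ne_zero.mpr one_ne_zero)]
    exact hN.1
  obtain ⟨A', B', hAB'⟩ := exists_QData Hs _ hN.2 (map_aut_Qb_char_two Hs hm2 _ hN.2)
  have S : NSetup2 2 e f (MulAut.conj (prS g) * α) A A' B B' := ⟨H, hm2, hN, hAB, hAB'⟩
  obtain ⟨x, τ, hβ⟩ := S.eq_cSp_phiSp
  refine ⟨(Cfsg.Agent.Helper7.GraphSplit.spToGSp m F g)⁻¹ * x, τ, ?_⟩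
  rw [map_mul, map_inv, ← conj_eq_cSp, mul_assoc, ← hβ, inv_mul_cancel_left]

end chartwo

/-- **the automorphisms of `PSp_{2m}(q)`**, `m ≥ 2`, `(2m, p) ≠ (4, 2)` -/
theorem aut_PSp_all (hm : 2 ≤ m) (h4 : m = 2 → p ≠ 2) (α : MulAut (Cfsg.PSp m F)) :
    ∃ (x : ↥(Cfsg.GSp m F)) (τ : F ≃+* F), α = cSp x * phiSp τ := by
  by_cases hp2 : p = 2
  · subst hp2
    have hm3 : 3 ≤ m := by
      rcases Nat.lt_or_ge m 3 with h | h
      · exact absurd rfl (h4 (by omega))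
      · exact h
    exact aut_PSp_char_two hm3 α
  · have h2 : (2 : F) ≠ 0 := by
      intro h0
      have h1 : ((2 : ℕ) : F) = 0 := by exact_mod_cast h0
      rw [CharP.cast_eq_zero_iff F p] at h1
      have hp : p.Prime := Fact.out
      exact hp2 ((Nat.prime_dvd_prime_iff_eq hp Nat.prime_two).mp h1)
    exact aut_PSp h2 hm α

end Cfsg.Agent.Helper7.AutPSp
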