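import Cfsg.Agent.Helper7.AutPSp1
import Cfsg.Agent.Helper7.AutPSU3

/-!
# Automorphisms of `PSp_{2m}`, part 2 (helper7)

`Qs e` is a `p`-group; a `p`-subgroup of `Sp_{2m}` fixes a nonzero vector; a Sylow `p`-subgroup
fixing `e` contains `Qs e`; the decomposition along a hyperbolic pair and the structure lemma.
-/

set_option autoImplicit false
set_option linter.unusedSectionVars false

namespace Cfsg.Agent.Helper7.AutPSp

open Matrix Cfsg.Agent.Helper2.Sp Module
open Cfsg.Agent.Helper7.AutPSU (le_sylow_of_normalizes)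

variable {F : Type*} [Field F] {m : ℕ}

local notation "V" => (Fin m ⊕ Fin m → F)
local notation "Mt" => Matrix (Fin m ⊕ Fin m) (Fin m ⊕ Fin m) F
local notation "SpG" => Matrix.symplecticGroup (Fin m) F

theorem sgS_pow {e w : V} (hv : om w e = 0) (c : F) (k : ℕ) :
    sgS e w c ^ k = sgS e (k • w) (k • c) := by
  induction k with
  | zero => rw [zero_smul, zero_smul, pow_zero, sgS_zero_zero]
  | succ k ih =>
    have h1 : om (k • w) e = 0 := by
      rw [← Nat.cast_smul_eq_nsmul F k w, om_smul_left, hv, mul_zero]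
    have h2 : om (k • w) w = 0 := by
      rw [← Nat.cast_smul_eq_nsmul F k w, om_smul_left, om_self, mul_zero]
    rw [pow_succ, ih, sgS_mul h1 hv, h2, add_zero, ← succ_nsmul, ← succ_nsmul]

variable (p : ℕ) [Fact p.Prime] [CharP F p]

theorem nsmul_char_vec (w : V) : p • w = 0 := by
  rw [← Nat.cast_smul_eq_nsmul F p w, CharP.cast_eq_zero F p, zero_smul]

theorem nsmul_char (c : F) : p • c = 0 := by
  rw [nsmul_eq_mul, CharP.cast_eq_zero F p, zero_mul]

theorem sgS_pow_char (e w : V) (c : F) : sgS e w c ^ p = 1 := by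
  by_cases hv : om w e = 0
  · rw [sgS_pow hv, nsmul_char_vec p w, nsmul_char p c, sgS_zero_zero]
  · rw [sgS_of_not_valid hv, one_pow]

theorem sgS_pElement (e w : V) (c : F) : sgS e w c ^ p ^ 1 = 1 := by
  rw [pow_one]
  exact sgS_pow_char p e w c

theorem Qs_isPGroup (e : V) : IsPGroup p (Qs e) := by
  rintro ⟨g, w, c, rfl⟩
  refine ⟨1, ?_⟩
  apply Subtype.ext
  rw [Subgroup.coe_pow, Subgroup.coe_one]
  exact sgS_pElement p e w c

theorem Ts_isPGroup (e : V) : IsPGroup p (Ts e) :=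
  (Qs_isPGroup p e).to_le (Ts_le_Qs e)

section fin

variable [Fintype F]

theorem prime_dvd_card_submodule (Y : Submodule F V) (hY : Y ≠ ⊥) : p ∣ Nat.card ↥Y := by
  classical
  rw [Nat.card_eq_fintype_card, Module.card_eq_pow_finrank (K := F)]
  obtain ⟨k, -, hk⟩ := FiniteField.card F p
  have hpos : 0 < finrank F ↥Y := by
    rw [Module.finrank_pos_iff]
    exact Submodule.nontrivial_iff_ne_bot.mpr hY
  rw [hk]
  apply dvd_pow _ hpos.ne'
  exact dvd_pow_self p k.pos.ne'

/-- a `p`-subgroup of `Sp_{2m}` fixes a nonzero vector in every nonzero invariant subspace -/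
theorem exists_fixed_of_invariant {P : Subgroup SpG} (hP : IsPGroup p P)
    (Y : Submodule F V) (hY : Y ≠ ⊥) (hinv : ∀ g ∈ P, ∀ y ∈ Y, g.1 *ᵥ y ∈ Y) :
    ∃ y ∈ Y, y ≠ 0 ∧ ∀ g ∈ P, g.1 *ᵥ y = y := by
  let _inst : MulAction ↥P ↥Y :=
    { smul := fun g y => ⟨g.1.1 *ᵥ y.1, hinv g.1 g.2 y.1 y.2⟩
      one_smul := by
        intro y
        apply Subtype.ext
        show (1 : SpG).1 *ᵥ y.1 = y.1
        rw [tm_one, Matrix.one_mulVec]
      mul_smul := by
        intro g g' y
        apply Subtype.ext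
        show (g.1 * g'.1).1 *ᵥ y.1 = g.1.1 *ᵥ (g'.1.1 *ᵥ y.1)
        rw [tm_mul, Matrix.mulVec_mulVec] }
  have h0 : (0 : ↥Y) ∈ MulAction.fixedPoints ↥P ↥Y := by
    intro g
    apply Subtype.ext
    show g.1.1 *ᵥ (0 : V) = 0
    rw [Matrix.mulVec_zero]
  obtain ⟨b, hb, hne⟩ := hP.exists_fixed_point_of_prime_dvd_card_of_fixed_point ↥Y
    (prime_dvd_card_submodule p Y hY) h0
  refine ⟨b.1, b.2, ?_, ?_⟩
  · intro hb0
    apply hne
    apply Subtype.ext
    rw [hb0]
    rfl
  · intro g hg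
    have := hb ⟨g, hg⟩
    exact congrArg Subtype.val this

/-- a `p`-subgroup of `Sp_{2m}` fixes a nonzero vector -/
theorem exists_fixed_vector (hm : 1 ≤ m) {P : Subgroup SpG} (hP : IsPGroup p P) :
    ∃ u : V, u ≠ 0 ∧ ∀ g ∈ P, g.1 *ᵥ u = u := by
  have : Nontrivial V := by
    have : Nonempty (Fin m ⊕ Fin m) := ⟨Sum.inl ⟨0, by omega⟩⟩
    infer_instance
  obtain ⟨v, -, hv0, hvfix⟩ := exists_fixed_of_invariant p hP (⊤ : Submodule F V)
    top_ne_bot (fun _ _ _ _ => Submodule.mem_top)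
  exact ⟨v, hv0, hvfix⟩

end fin

/-- an element fixing `e` normalises `Qs e` -/
theorem mem_normalizer_Qs {e : V} {g : SpG} (hg : g.1 *ᵥ e = e) :
    g ∈ Subgroup.normalizer ((Qs e : Subgroup SpG) : Set SpG) := by
  have hg' : (g⁻¹).1 *ᵥ e = e := by
    have := tm_inv_mulVec g e
    rwa [hg] at this
  rw [Subgroup.mem_normalizer_iff]
  intro x
  constructor
  · intro hx
    have := conj_mem_Qs hx g
    rwa [hg] at this
  · intro hx
    have := conj_mem_Qs hx g⁻¹
    rw [hg', inv_inv] at this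
    have e1 : g⁻¹ * (g * x * g⁻¹) * g = x := by group
    rwa [e1] at this

theorem Qs_le_sylow (P : Sylow p SpG) {e : V} (hP : ∀ g ∈ P, g.1 *ᵥ e = e) :
    Qs e ≤ (P : Subgroup SpG) :=
  le_sylow_of_normalizes P (Qs_isPGroup p e) (fun g hg => mem_normalizer_Qs (hP g hg))

/-! ### hyperbolic pairs -/

section plane

variable {e f : Fin m ⊕ Fin m → F} (H : om e f = 1)

include H

theorem om_fe : om f e = -1 := by rw [om_swap e f, H]

theorem e_ne_zero : e ≠ 0 := by
  intro h0
  rw [h0, om_zero_left] at H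
  exact zero_ne_one H

theorem f_ne_zero : f ≠ 0 := by
  intro h0
  rw [h0, om_zero_right] at H
  exact zero_ne_one H

/-- the projection to `⟨e, f⟩^⊥` -/
theorem proj_perp (y : V) :
    om (y - om y f • e - om e y • f) e = 0 ∧ om (y - om y f • e - om e y • f) f = 0 := by
  constructor
  · rw [om_sub_left, om_sub_left, om_smul_left, om_smul_left, om_self, om_fe H, om_swap e y]
    ring
  · rw [om_sub_left, om_sub_left, om_smul_left, om_smul_left, om_self, H]
    ring

theorem exists_decomp (y : V) :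
    ∃ y₀ : V, om y₀ e = 0 ∧ om y₀ f = 0 ∧ y = y₀ + om y f • e + om e y • f :=
  ⟨y - om y f • e - om e y • f, (proj_perp H y).1, (proj_perp H y).2, by module⟩

/-- two matrices agreeing on `⟨e, f⟩^⊥`, `e` and `f` are equal -/
theorem ext_plane {M M' : Mt} (hW : ∀ z, om z e = 0 → om z f = 0 → M *ᵥ z = M' *ᵥ z)
    (he : M *ᵥ e = M' *ᵥ e) (hf : M *ᵥ f = M' *ᵥ f) : M = M' := by
  apply mat_ext'
  intro y
  obtain ⟨y₀, h1, h2, hy⟩ := exists_decomp H y
  rw [hy]
  simp only [mulVec_add, mulVec_smul, hW y₀ h1 h2, he, hf]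

/-- nondegeneracy -/
theorem eq_zero_of_perp {w : V} (hw : ∀ y, om w y = 0) : w = 0 := by
  by_contra h0
  obtain ⟨x, hx⟩ := exists_om_ne_zero h0
  exact hx (hw x)

/-- **Structure lemma**: a symplectic matrix fixing `e` and acting trivially on `e^⊥ / e` is a
Siegel matrix. -/
theorem eq_Sg_of_fix {M : Mt} (hM : PresS M) (hMe : M *ᵥ e = e)
    (hW : ∀ w, om w e = 0 → om w f = 0 → ∃ μ : F, M *ᵥ w = w + μ • e) :
    ∃ w₀ c₀, om w₀ e = 0 ∧ om w₀ f = 0 ∧ M = Sg e w₀ c₀ := by
  obtain ⟨w₀, hw₀e, hw₀f, hy⟩ := exists_decomp H (M *ᵥ f)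
  have hye : om e (M *ᵥ f) = 1 := by
    have := hM e f
    rw [hMe] at this
    rw [this, H]
  rw [hye, one_smul] at hy
  set c₀ := om (M *ᵥ f) f with hc₀
  refine ⟨w₀, c₀, hw₀e, hw₀f, ?_⟩
  apply ext_plane H
  · intro z hze hzf
    obtain ⟨μ, hμ⟩ := hW z hze hzf
    have h1 := hM z f
    rw [hμ, hy, hzf] at h1
    simp only [om_add_left, om_add_right, om_smul_left, om_smul_right, hze, hzf, om_self, H,
      om_swap w₀ e, hw₀e] at h1
    have hμ' : μ = om w₀ z := by
      rw [om_swap z w₀]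
      linear_combination h1
    have hez : om e z = 0 := by rw [om_swap z e, hze, neg_zero]
    rw [hμ, Sg_mulVec, hez, hμ']
    module
  · rw [hMe, Sg_mulVec_self hw₀e]
  · rw [hy, Sg_mulVec_f H hw₀f]
    module

/-- the parameters of a Siegel matrix with second vector in `W` are unique -/
theorem Sg_inj {w w' : V} {c c' : F} (hwf : om w f = 0) (hwf' : om w' f = 0)
    (heq : Sg e w c = Sg e w' c') : w = w' ∧ c = c' := by
  have h1 := congrArg (fun M => M *ᵥ f) heq
  beta_reduce at h1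
  rw [Sg_mulVec_f H hwf, Sg_mulVec_f H hwf'] at h1
  have h2 : w + c • e = w' + c' • e := by
    have : f + (w + c • e) = f + (w' + c' • e) := by rw [← add_assoc, ← add_assoc, h1]
    exact add_left_cancel this
  have h3 := congrArg (fun z => om z f) h2
  beta_reduce at h3
  rw [om_add_left, om_add_left, om_smul_left, om_smul_left, hwf, hwf', H] at h3
  have hc : c = c' := by linear_combination h3
  refine ⟨?_, hc⟩
  rw [hc] at h2
  exact add_right_cancel h2

end plane

end Cfsg.Agent.Helper7.AutPSp
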