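import Cfsg.Agent.Helper7.AutPSp20

/-!
# Automorphisms of `PSp_{2m}`, part 21 (helper7)

Characteristic two, `m ≥ 2`: an automorphism permuting the transvection groups is induced by a
semisimilarity.
-/

set_option autoImplicit false
set_option linter.unusedSectionVars false

namespace Cfsg.Agent.Helper7.AutPSp

open Matrix Cfsg.Agent.Helper2.Sp Module
open Cfsg.Agent.Helper7.AutPSU (map_conj_le le_of_map_conj_le map_mul_aut)
open Cfsg.Agent.Helper7.GraphPSL (spGLhom spGLhom_coe spGLhom_injective mem_GSp_iff)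

variable {F : Type*} [Field F] {m : ℕ}

local notation "V" => (Fin m ⊕ Fin m → F)
local notation "Mt" => Matrix (Fin m ⊕ Fin m) (Fin m ⊕ Fin m) F
local notation "SpG" => Matrix.symplecticGroup (Fin m) F
local notation "GLm" => GL (Fin m ⊕ Fin m) F

variable [Fintype F] [CharP F 2]

/-- **normalisation** in characteristic two, given that the transvection groups are permuted -/
theorem exists_normalize_of_Tb (hm : 1 ≤ m) {e f : V} (H : om e f = 1)
    (α : MulAut (Cfsg.PSp m F))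
    (hT : ∀ e : V, e ≠ 0 → ∃ e' : V, e' ≠ 0 ∧ (Tb e).map α.toMonoidHom = Tb e') :
    ∃ g : SpG, Nrm (MulAut.conj (prS g) * α) e f := by
  have he0 := e_ne_zero H
  have hf0 := f_ne_zero H
  obtain ⟨e', he0', he'⟩ := hT e he0
  obtain ⟨f', hf0', hf'⟩ := hT f hf0
  have hne : om e' f' ≠ 0 := not_orth_of_map 2 hm he0 (by rw [H]; exact one_ne_zero) α he' hf'
  obtain ⟨l, hl⟩ : ∃ l, l = (om e' f')⁻¹ := ⟨_, rfl⟩
  have hl0 : l ≠ 0 := by rw [hl]; exact inv_ne_zero hne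
  have h1 : om e' (l • f') = 1 := by rw [om_smul_right, hl, inv_mul_cancel₀ hne]
  obtain ⟨t, -, hte, htf⟩ := exists_TV_hyperbolic h1 H
  refine ⟨t, ?_, ?_⟩
  · rw [map_mul_aut, he', map_conj_Tb, hte]
  · rw [map_mul_aut, hf', ← Tb_smul f' hl0, map_conj_Tb, htf]

/-- an automorphism of `PSp_{2m}(q)`, `q` even, permuting the transvection groups is induced by
a semisimilarity -/
theorem aut_PSp_of_Tb (hm : 2 ≤ m) (α : MulAut (Cfsg.PSp m F))
    (hT : ∀ e : V, e ≠ 0 → ∃ e' : V, e' ≠ 0 ∧ (Tb e).map α.toMonoidHom = Tb e') :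
    α ∈ semiSp m F := by
  have hm1 : 1 ≤ m := by omega
  obtain ⟨e, f, H⟩ := exists_std_pair (F := F) hm1
  obtain ⟨g, hN⟩ := exists_normalize_of_Tb hm1 H α hT
  have Hs := om_f_neg_e H
  obtain ⟨A, B, hAB⟩ := exists_QData H _ hN.1 (map_aut_Qb_char_two H hm _ hN.1)
  obtain ⟨A', B', hAB'⟩ := exists_QData Hs _ hN.2 (map_aut_Qb_char_two Hs hm _ hN.2)
  have S : NSetup2 2 e f (MulAut.conj (prS g) * α) A A' B B' := ⟨H, hm, hN, hAB, hAB'⟩
  obtain ⟨x, τ, hβ⟩ := S.eq_cSp_phiSp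
  refine ⟨(Cfsg.Agent.Helper7.GraphSplit.spToGSp m F g)⁻¹ * x, τ, ?_⟩
  rw [map_mul, map_inv, ← conj_eq_cSp, mul_assoc, ← hβ, inv_mul_cancel_left]

end Cfsg.Agent.Helper7.AutPSp
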