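import Cfsg.Agent.Helper7.AutPSp2
import Cfsg.Agent.Helper7.AutPSL6

/-!
# Automorphisms of `PSp_{2m}`, part 3 (helper7)

The centraliser of `Qs e` (odd characteristic); the centre of a Sylow `p`-subgroup fixing `e` is
the transvection group `Ts e`; the projection to `PSp_{2m}` is injective on `p`-elements.
-/

set_option autoImplicit false
set_option linter.unusedSectionVars false

namespace Cfsg.Agent.Helper7.AutPSp

open Matrix Cfsg.Agent.Helper2.Sp Module
open Cfsg.Agent.Helper7.AutPSL (zz mem_zz zz_map exists_conj_of_sylow)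

variable {F : Type*} [Field F] {m : ℕ}

local notation "V" => (Fin m ⊕ Fin m → F)
local notation "Mt" => Matrix (Fin m ⊕ Fin m) (Fin m ⊕ Fin m) F
local notation "SpG" => Matrix.symplecticGroup (Fin m) F

section plane

variable {e f : Fin m ⊕ Fin m → F} (H : om e f = 1)

include H

/-- **the centraliser of `Qs e`** consists of `±` transvections with centre `e` -/
theorem centralizer_Qs (h2 : (2 : F) ≠ 0) (g : SpG) (hg : ∀ x ∈ Qs e, g * x = x * g) :
    ∃ ρ c : F, ρ * ρ = 1 ∧ g.1 = ρ • Sg e 0 c := by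
  have he0 := e_ne_zero H
  have hconj : ∀ (w : V) (c : F), om w e = 0 → sgS (g.1 *ᵥ e) (g.1 *ᵥ w) c = sgS e w c := by
    intro w c hv
    rw [← sgS_conj hv c g, hg _ (sgS_mem_Qs e w c), mul_inv_cancel_right]
  -- step a
  have h1 := congrArg (fun x : SpG => x.1 *ᵥ f) (hconj 0 1 (om_zero_left e))
  beta_reduce at h1
  rw [mulVec_zero, tm_sgS (om_zero_left _), tm_sgS (om_zero_left _), Sg_mulVec, Sg_mulVec, H,
    om_zero_left] at h1
  obtain ⟨κ, hκ⟩ : ∃ κ, κ = om (g.1 *ᵥ e) f := ⟨_, rfl⟩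
  rw [← hκ] at h1
  have h2' : e = κ • (g.1 *ᵥ e) := by
    have : f + κ • (g.1 *ᵥ e) = f + e := by
      calc f + κ • (g.1 *ᵥ e)
          = f + κ • (0 : V) + (0 : F) • (g.1 *ᵥ e) + (1 * κ) • (g.1 *ᵥ e) := by module
        _ = f + (1 : F) • (0 : V) + (0 : F) • e + (1 * 1 : F) • e := h1
        _ = f + e := by module
    exact (add_left_cancel this).symm
  have hκ0 : κ ≠ 0 := by
    intro h0
    rw [h0, zero_smul] at h2'
    exact he0 h2'
  have hge : g.1 *ᵥ e = κ⁻¹ • e := by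
    calc g.1 *ᵥ e = κ⁻¹ • (κ • (g.1 *ᵥ e)) := by rw [smul_smul, inv_mul_cancel₀ hκ0, one_smul]
      _ = κ⁻¹ • e := by rw [← h2']
  have hκκ : κ = κ⁻¹ := by
    conv_lhs => rw [hκ, hge, om_smul_left, H, mul_one]
  obtain ⟨ρ, hρ⟩ : ∃ ρ, ρ = κ⁻¹ := ⟨_, rfl⟩
  rw [← hρ] at hge
  have hρ0 : ρ ≠ 0 := by rw [hρ]; exact inv_ne_zero hκ0
  have hρρ : ρ * ρ = 1 := by
    have h3 : κ * κ = 1 := by
      have := mul_inv_cancel₀ hκ0
      rwa [← hκκ] at this
    rw [hρ, ← hκκ]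
    exact h3
  -- step b
  have hstepb : ∀ w, om w e = 0 → om w f = 0 → ∃ μ : F, (ρ • g.1) *ᵥ w = w + μ • e := by
    intro w hwe hwf
    have h3 := hconj w 0 hwe
    have hv' : om (g.1 *ᵥ w) (g.1 *ᵥ e) = 0 := by rw [tm_pres g, hwe]
    rw [hge] at h3 hv'
    rw [sgS_smul hρ0 hv', hρρ, one_mul] at h3
    have hv'' : om (ρ • (g.1 *ᵥ w)) e = 0 := by
      rw [om_smul_right] at hv'
      rw [om_smul_left]
      rcases mul_eq_zero.mp hv' with h | h
      · exact absurd h hρ0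
      · rw [h, mul_zero]
    have h4 := congrArg (fun x : SpG => x.1 *ᵥ f) h3
    beta_reduce at h4
    rw [tm_sgS hv'', tm_sgS hwe, Sg_mulVec_f H hwf, Sg_mulVec, H] at h4
    refine ⟨-om (ρ • (g.1 *ᵥ w)) f, ?_⟩
    rw [Matrix.smul_mulVec]
    have h5 : f + (ρ • (g.1 *ᵥ w) + om (ρ • (g.1 *ᵥ w)) f • e) = f + w := by
      calc f + (ρ • (g.1 *ᵥ w) + om (ρ • (g.1 *ᵥ w)) f • e)
          = f + (1 : F) • ρ • (g.1 *ᵥ w) + om (ρ • (g.1 *ᵥ w)) f • e + (0 * 1 : F) • e := by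
            module
        _ = f + w + (0 : F) • e := h4
        _ = f + w := by module
    have h6 := add_left_cancel h5
    rw [neg_smul, ← sub_eq_add_neg]
    exact eq_sub_of_add_eq h6
  -- step c
  have hMpres : PresS (ρ • g.1) := by
    intro x y
    rw [Matrix.smul_mulVec, Matrix.smul_mulVec, om_smul_left, om_smul_right, tm_pres g x y,
      ← mul_assoc, hρρ, one_mul]
  have hMe : (ρ • g.1) *ᵥ e = e := by
    rw [Matrix.smul_mulVec, hge, smul_smul, hρρ, one_smul]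
  obtain ⟨w₀, c₀, hw₀e, hw₀f, hM⟩ := eq_Sg_of_fix H hMpres hMe hstepb
  -- step d
  have hzero : ∀ w, om w e = 0 → om w f = 0 → om w₀ w = 0 := by
    intro w hwe hwf
    have h3 := congrArg Subtype.val (hg _ (sgS_mem_Qs e w 0))
    rw [tm_mul, tm_mul, tm_sgS hwe] at h3
    have h4 : (ρ • g.1) * Sg e w 0 = Sg e w 0 * (ρ • g.1) := by
      rw [Matrix.smul_mul, Matrix.mul_smul, h3]
    rw [hM, Sg_mul e w₀ w c₀ 0 hw₀e hwe, Sg_mul e w w₀ 0 c₀ hwe hw₀e] at h4
    have h5 := Sg_inj H (by rw [om_add_left, hw₀f, hwf, add_zero])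
      (by rw [om_add_left, hw₀f, hwf, add_zero]) h4
    have h6 : 2 * om w₀ w = 0 := by
      have := h5.2
      rw [om_swap w₀ w] at this
      linear_combination this
    rcases mul_eq_zero.mp h6 with h | h
    · exact absurd h h2
    · exact h
  have hw₀ : w₀ = 0 := by
    apply eq_zero_of_perp H
    intro y
    obtain ⟨y₀, hy₀e, hy₀f, hy⟩ := exists_decomp H y
    rw [hy, om_add_right, om_add_right, om_smul_right, om_smul_right, hw₀e, hw₀f,
      hzero y₀ hy₀e hy₀f]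
    ring
  -- step e
  refine ⟨ρ, c₀, hρρ, ?_⟩
  rw [← hw₀, ← hM, smul_smul, hρρ, one_smul]

end plane

theorem tm_pow_mulVec {x : SpG} {e : V} {ρ : F} (hx : x.1 *ᵥ e = ρ • e) (k : ℕ) :
    (x ^ k).1 *ᵥ e = ρ ^ k • e := by
  induction k with
  | zero => rw [pow_zero, pow_zero, tm_one, Matrix.one_mulVec, one_smul]
  | succ k ih =>
    rw [pow_succ, tm_mul, ← Matrix.mulVec_mulVec, hx, Matrix.mulVec_smul, ih, smul_smul, pow_succ,
      mul_comm]

/-- the partner of a nonzero vector -/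
theorem exists_hypPair {e : V} (he0 : e ≠ 0) : ∃ f : V, om e f = 1 := by
  obtain ⟨x, hx⟩ := exists_om_ne_zero he0
  exact ⟨(om e x)⁻¹ • x, by rw [om_smul_right, inv_mul_cancel₀ hx]⟩

variable (p : ℕ) [Fact p.Prime] [CharP F p]

theorem eq_one_of_pow_char_pow {ρ : F} {k : ℕ} (hρ : ρ ^ p ^ k = 1) : ρ = 1 := by
  have := iterateFrobenius_inj F p k
  apply this
  rw [iterateFrobenius_def, iterateFrobenius_def, hρ, one_pow]

/-- the centre of a Sylow subgroup fixing `e` -/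
theorem zz_sylow (h2 : (2 : F) ≠ 0) (P : Sylow p SpG) {e : V} (he0 : e ≠ 0)
    (hP : ∀ g ∈ P, g.1 *ᵥ e = e) : zz (P : Subgroup SpG) = Ts e := by
  obtain ⟨f, H⟩ := exists_hypPair he0
  have hQ := Qs_le_sylow p P hP
  apply le_antisymm
  · intro x hx
    rw [mem_zz] at hx
    obtain ⟨hxP, hxc⟩ := hx
    obtain ⟨ρ, c, -, hxm⟩ := centralizer_Qs H h2 x (fun y hy => (hxc y (hQ hy)).symm)
    have hxe : x.1 *ᵥ e = ρ • e := by
      rw [hxm, Matrix.smul_mulVec, Sg_mulVec_self (om_zero_left e)]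
    obtain ⟨k, hk⟩ := P.isPGroup' ⟨x, hxP⟩
    have hk' : x ^ p ^ k = 1 := by
      have := congrArg Subtype.val hk
      rwa [Subgroup.coe_pow, Subgroup.coe_one] at this
    have h1 := tm_pow_mulVec hxe (p ^ k)
    rw [hk', tm_one, Matrix.one_mulVec] at h1
    have hρ : ρ ^ p ^ k = 1 := by
      have h3 : (ρ ^ p ^ k - 1) • e = 0 := by rw [sub_smul, one_smul, ← h1, sub_self]
      rcases smul_eq_zero.mp h3 with h4 | h4
      · exact sub_eq_zero.mp h4
      · exact absurd h4 he0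
    have hρ1 := eq_one_of_pow_char_pow p hρ
    rw [hρ1, one_smul] at hxm
    refine ⟨c, ?_⟩
    apply Subtype.ext
    rw [hxm, tm_sgS (om_zero_left e)]
  · intro x hx
    rw [mem_zz]
    refine ⟨hQ (Ts_le_Qs e hx), ?_⟩
    obtain ⟨c, rfl⟩ := hx
    intro y hy
    have := sgS_conj (om_zero_left e) c y
    rw [hP y hy, Matrix.mulVec_zero] at this
    calc y * sgS e 0 c = (y * sgS e 0 c * y⁻¹) * y := by group
      _ = sgS e 0 c * y := by rw [this]

/-- a central `p`-element of `Sp_{2m}` is trivial -/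
theorem center_pElement_eq_one (hm : 1 ≤ m) {z : SpG}
    (hz : z ∈ Subgroup.center SpG) {k : ℕ} (hzk : z ^ p ^ k = 1) : z = 1 := by
  have : Nonempty (Fin m) := ⟨⟨0, by omega⟩⟩
  obtain ⟨c, -, hc⟩ := (mem_center_iff z).mp hz
  have h1 : ∀ j : ℕ, (z ^ j).1 = c ^ j • (1 : Mt) := by
    intro j
    induction j with
    | zero => rw [pow_zero, pow_zero, one_smul]; rfl
    | succ j ih =>
      rw [pow_succ, tm_mul, ih, hc, Matrix.smul_mul, Matrix.mul_smul, Matrix.one_mul, smul_smul,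
        pow_succ]
  have h3 := h1 (p ^ k)
  rw [hzk, tm_one] at h3
  have h4 : c ^ p ^ k = 1 := by
    have := congrFun (congrFun h3 (Sum.inl ⟨0, by omega⟩)) (Sum.inl ⟨0, by omega⟩)
    rw [Matrix.smul_apply, Matrix.one_apply_eq, smul_eq_mul, mul_one] at this
    exact this.symm
  have h5 := eq_one_of_pow_char_pow p h4
  apply Subtype.ext
  rw [hc, h5, one_smul]
  rfl

/-- the projection `Sp_{2m} → PSp_{2m}` -/
noncomputable def prS : SpG →* Cfsg.PSp m F :=
  QuotientGroup.mk' _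

theorem prS_surjective : Function.Surjective (prS : SpG →* Cfsg.PSp m F) :=
  QuotientGroup.mk'_surjective _

theorem prS_eq_one_iff (g : SpG) : prS g = 1 ↔ g ∈ Subgroup.center SpG := by
  unfold prS
  rw [QuotientGroup.mk'_apply, QuotientGroup.eq_one_iff]

theorem prS_eq_iff (x y : SpG) : prS x = prS y ↔ x⁻¹ * y ∈ Subgroup.center SpG := by
  unfold prS
  rw [QuotientGroup.mk'_apply, QuotientGroup.mk'_apply, QuotientGroup.eq]

/-- `p`-elements with the same image are equal -/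
theorem prS_inj_pElements (hm : 1 ≤ m) {x y : SpG} {a b : ℕ} (hx : x ^ p ^ a = 1)
    (hy : y ^ p ^ b = 1) (hxy : prS x = prS y) : x = y := by
  have hz := (prS_eq_iff x y).mp hxy
  obtain ⟨z, hzdef⟩ : ∃ z, z = x⁻¹ * y := ⟨_, rfl⟩
  rw [← hzdef] at hz
  have hyz : y = x * z := by rw [hzdef]; group
  have hcomm : Commute x z := (Subgroup.mem_center_iff.mp hz x)
  have h1 : z ^ p ^ (a + b) = 1 := by
    have h2 : y ^ p ^ (a + b) = 1 := by
      rw [pow_add, mul_comm, pow_mul, hy, one_pow]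
    have h3 : x ^ p ^ (a + b) = 1 := by
      rw [pow_add, pow_mul, hx, one_pow]
    rw [hyz, hcomm.mul_pow, h3, one_mul] at h2
    exact h2
  have := center_pElement_eq_one p hm hz h1
  rw [hyz, this, mul_one]

/-- `prS` is injective on `p`-subgroups -/
theorem prS_injOn_pGroup (hm : 1 ≤ m) {P : Subgroup SpG} (hP : IsPGroup p P) {x y : SpG}
    (hx : x ∈ P) (hy : y ∈ P) (hxy : prS x = prS y) : x = y := by
  obtain ⟨a, ha⟩ := hP ⟨x, hx⟩
  obtain ⟨b, hb⟩ := hP ⟨y, hy⟩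
  have ha' : x ^ p ^ a = 1 := by
    have := congrArg Subtype.val ha
    rwa [Subgroup.coe_pow, Subgroup.coe_one] at this
  have hb' : y ^ p ^ b = 1 := by
    have := congrArg Subtype.val hb
    rwa [Subgroup.coe_pow, Subgroup.coe_one] at this
  exact prS_inj_pElements p hm ha' hb' hxy

/-- the centre of the image of a `p`-subgroup -/
theorem zz_map_prS (hm : 1 ≤ m) {P : Subgroup SpG} (hP : IsPGroup p P) :
    zz (P.map prS) = (zz P).map prS := by
  apply le_antisymm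
  · intro x hx
    rw [mem_zz] at hx
    obtain ⟨⟨y, hy, rfl⟩, hc⟩ := hx
    refine ⟨y, ?_, rfl⟩
    show y ∈ zz P
    rw [mem_zz]
    refine ⟨hy, fun z hz => ?_⟩
    apply prS_injOn_pGroup p hm hP (P.mul_mem hz hy) (P.mul_mem hy hz)
    rw [map_mul, map_mul]
    exact hc _ ⟨z, hz, rfl⟩
  · rintro x ⟨y, hy, rfl⟩
    have hy' : y ∈ zz P := hy
    clear hy
    rename' hy' => hy
    rw [mem_zz] at hy ⊢
    refine ⟨⟨y, hy.1, rfl⟩, ?_⟩
    rintro z ⟨z', hz', rfl⟩
    rw [← map_mul, ← map_mul, hy.2 z' hz']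

end Cfsg.Agent.Helper7.AutPSp
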