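import Cfsg.Agent.Helper7.AutPSp3
import Cfsg.Agent.Helper7.AutPSU7

/-!
# Automorphisms of `PSp_{2m}`, part 4 (helper7)

Every automorphism of `PSp_{2m}` (odd characteristic) permutes the transvection groups `Tb e`;
`Tb e`, `Tb e'` commute iff `e ⟂ e'` and are equal iff `e`, `e'` are proportional; normalisation.
-/

set_option autoImplicit false
set_option linter.unusedSectionVars false

namespace Cfsg.Agent.Helper7.AutPSp

open Matrix Cfsg.Agent.Helper2.Sp Module
open Cfsg.Agent.Helper7.AutPSL (zz mem_zz zz_map exists_conj_of_sylow)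
open Cfsg.Agent.Helper7.AutPSU (map_mul_aut)

variable {F : Type*} [Field F] {m : ℕ}

local notation "V" => (Fin m ⊕ Fin m → F)
local notation "Mt" => Matrix (Fin m ⊕ Fin m) (Fin m ⊕ Fin m) F
local notation "SpG" => Matrix.symplecticGroup (Fin m) F

/-- the transvection groups of `PSp_{2m}` -/
noncomputable def Tb (e : V) : Subgroup (Cfsg.PSp m F) := (Ts e).map prS

/-- the Siegel groups of `PSp_{2m}` -/
noncomputable def Qb (e : V) : Subgroup (Cfsg.PSp m F) := (Qs e).map prS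

theorem Tb_le_Qb (e : V) : Tb e ≤ Qb e := Subgroup.map_mono (Ts_le_Qs e)

/-- a generic lemma on conjugating families of subgroups indexed by vectors -/
theorem map_conj_family (S : V → Subgroup SpG)
    (hS : ∀ (e : V) (x : SpG), x ∈ S e → ∀ g : SpG, g * x * g⁻¹ ∈ S (g.1 *ᵥ e)) (g : SpG) (e : V) :
    ((S e).map prS).map (MulAut.conj (prS g)).toMonoidHom = (S (g.1 *ᵥ e)).map prS := by
  ext y
  constructor
  · rintro ⟨_, ⟨x, hx, rfl⟩, rfl⟩
    refine ⟨g * x * g⁻¹, hS e x hx g, ?_⟩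
    rw [map_mul, map_mul, map_inv]
    rfl
  · rintro ⟨x, hx, rfl⟩
    refine ⟨prS (g⁻¹ * x * g), ⟨g⁻¹ * x * g, ?_, rfl⟩, ?_⟩
    · have := hS _ x hx g⁻¹
      rwa [tm_inv_mulVec, inv_inv] at this
    · show prS g * prS (g⁻¹ * x * g) * (prS g)⁻¹ = prS x
      rw [← map_inv, ← map_mul, ← map_mul]
      congr 1
      group

theorem map_conj_Tb (g : SpG) (e : V) :
    (Tb e).map (MulAut.conj (prS g)).toMonoidHom = Tb (g.1 *ᵥ e) :=
  map_conj_family Ts (fun _ _ hx g => conj_mem_Ts hx g) g e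

theorem map_conj_Qb (g : SpG) (e : V) :
    (Qb e).map (MulAut.conj (prS g)).toMonoidHom = Qb (g.1 *ᵥ e) :=
  map_conj_family Qs (fun _ _ hx g => conj_mem_Qs hx g) g e

theorem Tb_smul (e : V) {l : F} (hl : l ≠ 0) : Tb (l • e) = Tb e := by
  unfold Tb
  rw [Ts_smul e hl]

theorem Qb_smul (e : V) {l : F} (hl : l ≠ 0) : Qb (l • e) = Qb e := by
  unfold Qb
  rw [Qs_smul e hl]

/-- orthogonal vectors have commuting transvection groups -/
theorem Ts_commute {e e' : V} (h0 : om e e' = 0) :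
    ∀ x ∈ Ts e, ∀ y ∈ Ts e', x * y = y * x := by
  rintro x ⟨c, rfl⟩ y ⟨c', rfl⟩
  have h1 := sgS_conj (om_zero_left e) c (sgS e' 0 c')
  have h2 : (sgS e' 0 c').1 *ᵥ e = e := by
    rw [tm_sgS_zero, T_mulVec, om_swap e e', h0]
    module
  rw [h2, Matrix.mulVec_zero] at h1
  exact (mul_inv_eq_iff_eq_mul.mp h1).symm

theorem Tb_commute {e e' : V} (h0 : om e e' = 0) :
    ∀ x ∈ Tb e, ∀ y ∈ Tb e', x * y = y * x := by
  rintro _ ⟨x, hx, rfl⟩ _ ⟨y, hy, rfl⟩
  rw [← map_mul, ← map_mul, Ts_commute h0 x hx y hy]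

variable (p : ℕ) [Fact p.Prime] [CharP F p]

include p in
/-- commuting transvection groups have orthogonal centres -/
theorem orth_of_Tb_commute (hm : 1 ≤ m) {e e' : V} (he0 : e ≠ 0)
    (hc : ∀ x ∈ Tb e, ∀ y ∈ Tb e', x * y = y * x) : om e e' = 0 := by
  have h1 := hc _ ⟨_, ⟨1, rfl⟩, rfl⟩ _ ⟨_, ⟨1, rfl⟩, rfl⟩
  have h2 : prS (sgS e' 0 1 * sgS e 0 1 * (sgS e' 0 1)⁻¹) = prS (sgS e 0 (1 : F)) := by
    rw [map_mul, map_mul, map_inv, ← h1, mul_inv_cancel_right]
  rw [sgS_conj (om_zero_left e), Matrix.mulVec_zero] at h2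
  have h3 := prS_inj_pElements p hm (sgS_pElement p _ _ _) (sgS_pElement p _ _ _) h2
  obtain ⟨y, hy⟩ : ∃ y, y = (sgS e' 0 (1 : F)).1 *ᵥ e := ⟨_, rfl⟩
  rw [← hy] at h3
  have h4 := congrArg (fun x : SpG => x.1 *ᵥ e) h3
  beta_reduce at h4
  rw [tm_sgS_zero, tm_sgS_zero, T_mulVec, T_mulVec, om_self] at h4
  have hy' : y = e + om e' e • e' := by
    rw [hy, tm_sgS_zero, T_mulVec, one_mul]
  have h5 : om y e • y = 0 := by
    have : e + (1 * om y e) • y = e + 0 := by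
      rw [h4]
      module
    have := add_left_cancel this
    rwa [one_mul] at this
  have hy0 : y ≠ 0 := by
    intro h0
    apply he0
    have := tm_inv_mulVec (sgS e' 0 (1 : F)) e
    rw [← hy, h0, Matrix.mulVec_zero] at this
    exact this.symm
  rcases smul_eq_zero.mp h5 with h6 | h6
  · rw [hy', om_add_left, om_self, om_smul_left, zero_add] at h6
    have h7 : om e' e = 0 := by
      rcases mul_eq_zero.mp h6 with h | h <;> exact h
    rw [om_swap e' e, h7, neg_zero]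
  · exact absurd h6 hy0

section pair

variable {e f : Fin m ⊕ Fin m → F} (H : om e f = 1)

include H p

/-- equality of transvection groups -/
theorem smul_of_Tb_le (hm : 1 ≤ m) {e' : V} (hle : Tb e ≤ Tb e') :
    ∃ l : F, l ≠ 0 ∧ e = l • e' := by
  have h1 : prS (sgS e 0 1) ∈ Tb e' := hle ⟨_, ⟨1, rfl⟩, rfl⟩
  obtain ⟨t', ⟨s', rfl⟩, ht'⟩ := h1
  have h2 := prS_inj_pElements p hm (sgS_pElement p e' 0 s') (sgS_pElement p e 0 1) ht'
  have h3 := congrArg (fun x : SpG => x.1 *ᵥ f) h2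
  beta_reduce at h3
  rw [tm_sgS_zero, tm_sgS_zero, T_mulVec, T_mulVec, H] at h3
  have h4 : (s' * om e' f) • e' = e := by
    have : f + (s' * om e' f) • e' = f + e := by
      rw [h3]
      module
    exact add_left_cancel this
  have he0 := e_ne_zero H
  refine ⟨s' * om e' f, ?_, h4.symm⟩
  intro h0
  rw [h0, zero_smul] at h4
  exact he0 h4.symm

end pair

variable [Fintype F]

/-- a Sylow subgroup of `PSp_{2m}` whose centre is a transvection group -/
theorem exists_sylow_zz (h2 : (2 : F) ≠ 0) (hm : 1 ≤ m) :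
    ∃ (P : Sylow p (Cfsg.PSp m F)) (u : V), u ≠ 0 ∧
      zz (P : Subgroup (Cfsg.PSp m F)) = Tb u := by
  obtain ⟨P₀⟩ : Nonempty (Sylow p SpG) := inferInstance
  obtain ⟨u, hu0, hfix⟩ := exists_fixed_vector p hm P₀.isPGroup'
  refine ⟨P₀.mapSurjective prS_surjective, u, hu0, ?_⟩
  rw [Sylow.coe_mapSurjective, zz_map_prS p hm P₀.isPGroup', zz_sylow p h2 P₀ hu0 hfix]
  rfl

include p in
/-- **every automorphism permutes the transvection groups** -/
theorem map_aut_Tb (h2 : (2 : F) ≠ 0) (hm : 1 ≤ m) (α : MulAut (Cfsg.PSp m F))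
    {e : V} (he0 : e ≠ 0) :
    ∃ e' : V, e' ≠ 0 ∧ (Tb e).map α.toMonoidHom = Tb e' := by
  obtain ⟨P, u, hu0, hzz⟩ := exists_sylow_zz p h2 hm
  obtain ⟨g, hg⟩ := exists_symplectic_mulVec_eq u e hu0 he0
  have h1 : Tb e = (Tb u).map (MulAut.conj (prS g)).toMonoidHom := by
    rw [map_conj_Tb, hg]
  obtain ⟨x, hx⟩ := exists_conj_of_sylow P (α * MulAut.conj (prS g))
  obtain ⟨g', rfl⟩ := prS_surjective x
  refine ⟨g'.1 *ᵥ u, ?_, ?_⟩
  · intro h0
    apply hu0
    have := tm_inv_mulVec g' u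
    rw [h0, Matrix.mulVec_zero] at this
    exact this.symm
  · have hcomp : (α.toMonoidHom).comp (MulAut.conj (prS g)).toMonoidHom
        = (α * MulAut.conj (prS g)).toMonoidHom := rfl
    rw [h1, Subgroup.map_map, hcomp, ← map_conj_Tb, ← hzz, ← zz_map, ← zz_map, hx]

/-- `α` is normalised with respect to the pair `(e, f)` -/
def Nrm (α : MulAut (Cfsg.PSp m F)) (e f : V) : Prop :=
  (Tb e).map α.toMonoidHom = Tb e ∧ (Tb f).map α.toMonoidHom = Tb f

include p in
/-- the images of non-commuting transvection groups do not have orthogonal centres -/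
theorem not_orth_of_map (hm : 1 ≤ m) {e f e' f' : V} (he0 : e ≠ 0) (hef : om e f ≠ 0)
    (α : MulAut (Cfsg.PSp m F)) (he : (Tb e).map α.toMonoidHom = Tb e')
    (hf : (Tb f).map α.toMonoidHom = Tb f') : om e' f' ≠ 0 := by
  intro h0
  apply hef
  apply orth_of_Tb_commute p hm he0
  intro x hx y hy
  have h1 : α x ∈ Tb e' := by
    rw [← he]
    exact ⟨x, hx, rfl⟩
  have h2 : α y ∈ Tb f' := by
    rw [← hf]
    exact ⟨y, hy, rfl⟩
  have := Tb_commute h0 _ h1 _ h2
  rw [← map_mul, ← map_mul] at this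
  exact α.injective this

include p in
/-- **normalisation** -/
theorem exists_normalize (h2 : (2 : F) ≠ 0) (hm : 1 ≤ m) {e f : V} (H : om e f = 1)
    (α : MulAut (Cfsg.PSp m F)) :
    ∃ g : SpG, Nrm (MulAut.conj (prS g) * α) e f := by
  have he0 := e_ne_zero H
  have hf0 := f_ne_zero H
  obtain ⟨e', he0', he'⟩ := map_aut_Tb p h2 hm α he0
  obtain ⟨f', hf0', hf'⟩ := map_aut_Tb p h2 hm α hf0
  have hne : om e' f' ≠ 0 := not_orth_of_map p hm he0 (by rw [H]; exact one_ne_zero) α he' hf'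
  obtain ⟨l, hl⟩ : ∃ l, l = (om e' f')⁻¹ := ⟨_, rfl⟩
  have hl0 : l ≠ 0 := by rw [hl]; exact inv_ne_zero hne
  have h1 : om e' (l • f') = 1 := by rw [om_smul_right, hl, inv_mul_cancel₀ hne]
  obtain ⟨t, -, hte, htf⟩ := exists_TV_hyperbolic h1 H
  refine ⟨t, ?_, ?_⟩
  · rw [map_mul_aut, he', map_conj_Tb, hte]
  · rw [map_mul_aut, hf', ← Tb_smul f' hl0, map_conj_Tb, htf]

end Cfsg.Agent.Helper7.AutPSp
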