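import Cfsg.Agent.Helper7.AutPSp4

/-!
# Automorphisms of `PSp_{2m}`, part 5 (helper7)

The subspace `W = ⟨e, f⟩^⊥`; a `p`-subgroup of the stabiliser of `e` containing `Qs e` and
normalised by the pointwise stabiliser of `e`, `f` is `Qs e`.
-/

set_option autoImplicit false
set_option linter.unusedSectionVars false

namespace Cfsg.Agent.Helper7.AutPSp

open Matrix Cfsg.Agent.Helper2.Sp Module

variable {F : Type*} [Field F] {m : ℕ}

local notation "V" => (Fin m ⊕ Fin m → F)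
local notation "Mt" => Matrix (Fin m ⊕ Fin m) (Fin m ⊕ Fin m) F
local notation "SpG" => Matrix.symplecticGroup (Fin m) F

/-- the subspace `⟨e, f⟩^⊥` -/
def Wsub (e f : V) : Submodule F V where
  carrier := {w | om w e = 0 ∧ om w f = 0}
  add_mem' := by
    rintro a b ⟨h1, h2⟩ ⟨h3, h4⟩
    exact ⟨by rw [om_add_left, h1, h3, add_zero], by rw [om_add_left, h2, h4, add_zero]⟩
  zero_mem' := ⟨om_zero_left e, om_zero_left f⟩
  smul_mem' := by
    rintro c a ⟨h1, h2⟩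
    exact ⟨by rw [om_smul_left, h1, mul_zero], by rw [om_smul_left, h2, mul_zero]⟩

theorem mem_Wsub {e f w : V} : w ∈ Wsub e f ↔ om w e = 0 ∧ om w f = 0 := Iff.rfl

theorem Wsub_comm (e f : V) : Wsub f e = Wsub e f := by
  ext w
  exact and_comm

theorem Wsub_neg (e f : V) : Wsub e (-f) = Wsub e f := by
  ext w
  rw [mem_Wsub, mem_Wsub, om_swap (-f) w, om_neg_left, neg_neg, om_swap w f, neg_eq_zero]

/-- the stabiliser of a vector -/
def stabVec (v : V) : Subgroup SpG where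
  carrier := {g | g.1 *ᵥ v = v}
  one_mem' := by
    show (1 : SpG).1 *ᵥ v = v
    rw [tm_one, Matrix.one_mulVec]
  mul_mem' := by
    intro a b ha hb
    show (a * b).1 *ᵥ v = v
    rw [tm_mul, ← Matrix.mulVec_mulVec, hb, ha]
  inv_mem' := by
    intro a ha
    show (a⁻¹).1 *ᵥ v = v
    have := tm_inv_mulVec a v
    rw [ha] at this
    exact this

theorem mem_stabVec {v : V} {g : SpG} : g ∈ stabVec v ↔ g.1 *ᵥ v = v := Iff.rfl

theorem fix_inv {g : SpG} {v : V} (h : g.1 *ᵥ v = v) : (g⁻¹).1 *ᵥ v = v := by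
  have := tm_inv_mulVec g v
  rwa [h] at this

section pair

variable {e f : Fin m ⊕ Fin m → F} (H : om e f = 1)

include H

theorem proj_mem (y : V) : y - om y f • e - om e y • f ∈ Wsub e f := proj_perp H y

theorem Wsub_nondeg {w : V} (hw : w ∈ Wsub e f) (hw0 : w ≠ 0) :
    ∃ w' ∈ Wsub e f, om w w' = 1 := by
  obtain ⟨x, hx⟩ := exists_om_ne_zero hw0
  have h1 : om w (x - om x f • e - om e x • f) = om w x := by
    rw [om_sub_right, om_sub_right, om_smul_right, om_smul_right, hw.1, hw.2]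
    ring
  refine ⟨(om w x)⁻¹ • (x - om x f • e - om e x • f),
    Submodule.smul_mem _ _ (proj_mem H x), ?_⟩
  rw [om_smul_right, h1, inv_mul_cancel₀ hx]

theorem Wsub_ne_bot (hm : 2 ≤ m) : Wsub e f ≠ ⊥ := by
  classical
  intro hbot
  have hle : (⊤ : Submodule F V) ≤ Submodule.span F {e, f} := by
    intro z _
    have h0 : z - om z f • e - om e z • f ∈ Wsub e f := proj_mem H z
    rw [hbot, Submodule.mem_bot] at h0
    have hz : z = om z f • e + om e z • f := by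
      have : z = (z - om z f • e - om e z • f) + om z f • e + om e z • f := by module
      rw [h0, zero_add] at this
      exact this
    rw [hz]
    exact Submodule.add_mem _ (Submodule.smul_mem _ _ (Submodule.subset_span (by simp)))
      (Submodule.smul_mem _ _ (Submodule.subset_span (by simp)))
  have h1 := Submodule.finrank_mono hle
  have h2 : finrank F (Submodule.span F ({e, f} : Set V)) ≤ 2 := by
    have := finrank_span_finset_le_card (R := F) ({e, f} : Finset V)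
    have h3 : ({e, f} : Finset V).card ≤ 2 := Finset.card_le_two
    rw [Finset.coe_insert, Finset.coe_singleton] at this
    exact le_trans this h3
  rw [finrank_top, Module.finrank_fintype_fun_eq_card, Fintype.card_sum, Fintype.card_fin] at h1
  omega

/-- `W` has dimension at least two -/
theorem Wsub_two (hm : 2 ≤ m) (a : V) : ∃ y ∈ Wsub e f, ∀ c : F, y ≠ c • a := by
  obtain ⟨w₁, hw₁, hw₁0⟩ := Submodule.exists_mem_ne_zero_of_ne_bot (Wsub_ne_bot H hm)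
  obtain ⟨w₂, hw₂, h12⟩ := Wsub_nondeg H hw₁ hw₁0
  by_cases h1 : ∃ c : F, w₁ = c • a
  · obtain ⟨c, hc⟩ := h1
    refine ⟨w₂, hw₂, ?_⟩
    intro c' hc'
    rw [hc, hc', om_smul_left, om_smul_right, om_self, mul_zero, mul_zero] at h12
    exact zero_ne_one h12
  · push Not at h1
    exact ⟨w₁, hw₁, h1⟩

/-- the pointwise stabiliser of `e`, `f` preserves `W` -/
theorem mulVec_mem_Wsub {g : SpG} (hge : g.1 *ᵥ e = e) (hgf : g.1 *ᵥ f = f)
    {w : V} (hw : w ∈ Wsub e f) : g.1 *ᵥ w ∈ Wsub e f := by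
  constructor
  · have := tm_pres g w e
    rw [hge] at this
    rw [this, hw.1]
  · have := tm_pres g w f
    rw [hgf] at this
    rw [this, hw.2]

/-- an element fixing `e`, `f` and `W` pointwise is trivial -/
theorem eq_one_of_fix {g : SpG} (hge : g.1 *ᵥ e = e) (hgf : g.1 *ᵥ f = f)
    (hW : ∀ w ∈ Wsub e f, g.1 *ᵥ w = w) : g = 1 := by
  apply Subtype.ext
  rw [tm_one]
  apply ext_plane H
  · intro z hze hzf
    rw [hW z ⟨hze, hzf⟩, Matrix.one_mulVec]
  · rw [hge, Matrix.one_mulVec]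
  · rw [hgf, Matrix.one_mulVec]

/-- transvections with centre in `W` fix `e` and `f` -/
theorem sgS_W_fix {y : V} (hy : y ∈ Wsub e f) (s : F) :
    (sgS y 0 s).1 *ᵥ e = e ∧ (sgS y 0 s).1 *ᵥ f = f := by
  rw [tm_sgS_zero]
  constructor
  · rw [T_mulVec, hy.1]
    module
  · rw [T_mulVec, hy.2]
    module

/-- a nonzero subspace of `W` invariant under the stabiliser of `e`, `f` is `W` -/
theorem invariant_eq_W {Y : Submodule F V}
    (hinv : ∀ g : SpG, g.1 *ᵥ e = e → g.1 *ᵥ f = f → ∀ w ∈ Y, g.1 *ᵥ w ∈ Y)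
    {x₀ : V} (hx₀Y : x₀ ∈ Y) (hx₀W : x₀ ∈ Wsub e f) (hx₀ : x₀ ≠ 0) :
    Wsub e f ≤ Y := by
  have key : ∀ y ∈ Wsub e f, om y x₀ ≠ 0 → y ∈ Y := by
    intro y hyW hne
    obtain ⟨h1, h2⟩ := sgS_W_fix H hyW 1
    have h3 := hinv _ h1 h2 x₀ hx₀Y
    rw [tm_sgS_zero, T_mulVec, one_mul] at h3
    have h4 : om y x₀ • y ∈ Y := by
      have : om y x₀ • y = (x₀ + om y x₀ • y) - x₀ := by module
      rw [this]
      exact Y.sub_mem h3 hx₀Y
    have h5 := Y.smul_mem (om y x₀)⁻¹ h4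
    rwa [smul_smul, inv_mul_cancel₀ hne, one_smul] at h5
  obtain ⟨y₀, hy₀W, hxy₀⟩ := Wsub_nondeg H hx₀W hx₀
  have hy₀x : om y₀ x₀ = -1 := by rw [om_swap x₀ y₀, hxy₀]
  have hy₀Y : y₀ ∈ Y := key y₀ hy₀W (by rw [hy₀x]; exact neg_ne_zero.mpr one_ne_zero)
  intro w hw
  by_cases hwx : om w x₀ = 0
  · have h1 : w + y₀ ∈ Y := key _ (Submodule.add_mem _ hw hy₀W)
      (by rw [om_add_left, hwx, hy₀x, zero_add]; exact neg_ne_zero.mpr one_ne_zero)
    have : w = (w + y₀) - y₀ := by module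
    rw [this]
    exact Y.sub_mem h1 hy₀Y
  · exact key w hw hwx

end pair

variable (p : ℕ) [Fact p.Prime] [CharP F p] [Fintype F]

section pair

variable {e f : Fin m ⊕ Fin m → F} (H : om e f = 1)

include H

/-- a `p`-subgroup fixing `e`, `f` and normalised by the pointwise stabiliser of `e`, `f` is
trivial -/
theorem eq_bot_of_normal (hm : 2 ≤ m) {O₀ : Subgroup SpG} (hO : IsPGroup p O₀)
    (hfixe : ∀ x ∈ O₀, x.1 *ᵥ e = e) (hfixf : ∀ x ∈ O₀, x.1 *ᵥ f = f)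
    (hnorm : ∀ g : SpG, g.1 *ᵥ e = e → g.1 *ᵥ f = f → ∀ x ∈ O₀, g * x * g⁻¹ ∈ O₀) :
    O₀ = ⊥ := by
  -- the fixed space
  let Fix : Submodule F V :=
    { carrier := {w | w ∈ Wsub e f ∧ ∀ y ∈ O₀, y.1 *ᵥ w = w}
      add_mem' := by
        rintro a b ⟨h1, h2⟩ ⟨h3, h4⟩
        exact ⟨Submodule.add_mem _ h1 h3, fun y hy => by
          rw [Matrix.mulVec_add, h2 y hy, h4 y hy]⟩
      zero_mem' := ⟨Submodule.zero_mem _, fun y _ => Matrix.mulVec_zero _⟩
      smul_mem' := by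
        rintro c a ⟨h1, h2⟩
        exact ⟨Submodule.smul_mem _ _ h1, fun y hy => by rw [Matrix.mulVec_smul, h2 y hy]⟩ }
  have hFixmem : ∀ w, w ∈ Fix ↔ w ∈ Wsub e f ∧ ∀ y ∈ O₀, y.1 *ᵥ w = w := fun w => Iff.rfl
  have hFixinv : ∀ g : SpG, g.1 *ᵥ e = e → g.1 *ᵥ f = f → ∀ w ∈ Fix, g.1 *ᵥ w ∈ Fix := by
    intro g hge hgf w hw
    rw [hFixmem] at hw ⊢
    refine ⟨mulVec_mem_Wsub H hge hgf hw.1, fun y hy => ?_⟩
    have h1 := hnorm g⁻¹ (fix_inv hge) (fix_inv hgf) y hy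
    rw [inv_inv] at h1
    have h2 := hw.2 _ h1
    rw [tm_mul, tm_mul, ← Matrix.mulVec_mulVec, ← Matrix.mulVec_mulVec] at h2
    have h3 := congrArg (fun v => g.1 *ᵥ v) h2
    beta_reduce at h3
    rw [Matrix.mulVec_mulVec, tm_mul_inv, Matrix.one_mulVec] at h3
    exact h3
  have hWinv : ∀ g ∈ O₀, ∀ y ∈ Wsub e f, g.1 *ᵥ y ∈ Wsub e f :=
    fun g hg y hy => mulVec_mem_Wsub H (hfixe g hg) (hfixf g hg) hy
  obtain ⟨x₀, hx₀W, hx₀, hx₀fix⟩ := exists_fixed_of_invariant p hO (Wsub e f)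
    (Wsub_ne_bot H hm) hWinv
  have hx₀Fix : x₀ ∈ Fix := (hFixmem x₀).mpr ⟨hx₀W, hx₀fix⟩
  have hFixW : Wsub e f ≤ Fix := invariant_eq_W H hFixinv hx₀Fix hx₀W hx₀
  rw [eq_bot_iff]
  intro y hy
  rw [Subgroup.mem_bot]
  exact eq_one_of_fix H (hfixe y hy) (hfixf y hy)
    (fun w hw => ((hFixmem w).mp (hFixW hw)).2 y hy)

/-- the image of `f` under an element fixing `e` -/
theorem exists_Sg_map {x : SpG} (hxe : x.1 *ᵥ e = e) :
    ∃ (w : V) (c : F), w ∈ Wsub e f ∧ x.1 *ᵥ f = f + w + c • e := by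
  obtain ⟨w, hwe, hwf, hy⟩ := exists_decomp H (x.1 *ᵥ f)
  have h1 : om e (x.1 *ᵥ f) = 1 := by
    have := tm_pres x e f
    rw [hxe] at this
    rw [this, H]
  refine ⟨w, om (x.1 *ᵥ f) f, ⟨hwe, hwf⟩, ?_⟩
  conv_lhs => rw [hy]
  rw [h1]
  module

/-- **the core of step III** -/
theorem le_Qs_of_normal (hm : 2 ≤ m) {O' : Subgroup SpG} (hO : IsPGroup p O')
    (hQ : Qs e ≤ O') (hfix : ∀ x ∈ O', x.1 *ᵥ e = e)
    (hnorm : ∀ g : SpG, g.1 *ᵥ e = e → g.1 *ᵥ f = f → ∀ x ∈ O', g * x * g⁻¹ ∈ O') :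
    O' ≤ Qs e := by
  have hbot : O' ⊓ stabVec f = ⊥ := by
    apply eq_bot_of_normal p H hm (hO.to_le inf_le_left)
    · intro x hx
      exact hfix x hx.1
    · intro x hx
      exact hx.2
    · intro g hge hgf x hx
      refine ⟨hnorm g hge hgf x hx.1, ?_⟩
      show (g * x * g⁻¹).1 *ᵥ f = f
      rw [tm_mul, tm_mul, ← Matrix.mulVec_mulVec, ← Matrix.mulVec_mulVec, fix_inv hgf,
        (mem_stabVec.mp hx.2), hgf]
  intro x hx
  have hxe := hfix x hx
  obtain ⟨w, c, hw, hmap⟩ := exists_Sg_map H hxe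
  have hu : sgS e w c ∈ O' := hQ (sgS_mem_Qs e w c)
  have hy : (sgS e w c)⁻¹ * x ∈ O' ⊓ stabVec f := by
    refine ⟨O'.mul_mem (O'.inv_mem hu) hx, ?_⟩
    show ((sgS e w c)⁻¹ * x).1 *ᵥ f = f
    rw [tm_mul, ← Matrix.mulVec_mulVec, hmap, ← Sg_mulVec_f H hw.2 c, ← tm_sgS hw.1,
      tm_inv_mulVec]
  rw [hbot, Subgroup.mem_bot] at hy
  have : x = sgS e w c := by
    rw [inv_mul_eq_one] at hy
    exact hy.symm
  rw [this]
  exact sgS_mem_Qs e w c

end pair

end Cfsg.Agent.Helper7.AutPSp
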