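import Cfsg.Agent.Helper7.AutPSp5
import Cfsg.Agent.Helper1.SylowBasic

/-!
# Automorphisms of `PSp_{2m}`, part 6 (helper7)

Step III: an automorphism fixing the transvection group `Tb e` fixes the Siegel group `Qb e`
(it is the intersection of the Sylow `p`-subgroups with centre `Tb e`).
-/

set_option autoImplicit false
set_option linter.unusedSectionVars false

namespace Cfsg.Agent.Helper7.AutPSp

open Matrix Cfsg.Agent.Helper2.Sp Module
open Cfsg.Agent.Helper7.AutPSL (zz mem_zz zz_map exists_conj_of_sylow)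
open Cfsg.Agent.Helper7.AutPSU (map_mul_aut)

variable {F : Type*} [Field F] [Fintype F] {m : ℕ}

local notation "V" => (Fin m ⊕ Fin m → F)
local notation "Mt" => Matrix (Fin m ⊕ Fin m) (Fin m ⊕ Fin m) F
local notation "SpG" => Matrix.symplecticGroup (Fin m) F

variable (p : ℕ) [Fact p.Prime] [CharP F p]

theorem sylow_pElement (P : Sylow p SpG) {x : SpG} (hx : x ∈ P) : ∃ k : ℕ, x ^ p ^ k = 1 := by
  obtain ⟨k, hk⟩ := P.isPGroup' ⟨x, hx⟩
  refine ⟨k, ?_⟩
  have := congrArg Subtype.val hk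
  rwa [Subgroup.coe_pow, Subgroup.coe_one] at this

/-- a conjugate of a Sylow subgroup fixing `u` fixes the image of `u` -/
theorem smul_sylow_fix (P : Sylow p SpG) {u : V} (hP : ∀ y ∈ P, y.1 *ᵥ u = u) (g : SpG) :
    ∀ y ∈ (g • P : Sylow p SpG), y.1 *ᵥ (g.1 *ᵥ u) = g.1 *ᵥ u := by
  intro y hy
  rw [Cfsg.Agent.Helper1.mem_sylow_smul_iff] at hy
  have h1 := hP _ hy
  rw [tm_mul, tm_mul, ← Matrix.mulVec_mulVec, ← Matrix.mulVec_mulVec] at h1
  have h2 := congrArg (fun v => g.1 *ᵥ v) h1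
  beta_reduce at h2
  rwa [Matrix.mulVec_mulVec, tm_mul_inv, Matrix.one_mulVec] at h2

section pair

variable {e f : Fin m ⊕ Fin m → F} (H : om e f = 1)

include H

/-- the centre of the image of a Sylow subgroup fixing `e` -/
theorem zz_map_sylow (h2 : (2 : F) ≠ 0) (hm : 2 ≤ m) (P : Sylow p SpG)
    (hP : ∀ y ∈ P, y.1 *ᵥ e = e) :
    zz ((P : Subgroup SpG).map prS) = Tb e := by
  rw [zz_map_prS p (by omega) P.isPGroup', zz_sylow p h2 P (e_ne_zero H) hP]
  rfl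

/-- (A) the Sylow subgroups with centre `Tb e` contain `Qb e` -/
theorem Qb_le_of_zz (h2 : (2 : F) ≠ 0) (hm : 2 ≤ m) (P : Sylow p (Cfsg.PSp m F))
    (hP : zz (P : Subgroup (Cfsg.PSp m F)) = Tb e) :
    Qb e ≤ (P : Subgroup (Cfsg.PSp m F)) := by
  obtain ⟨P₀, rfl⟩ := Sylow.mapSurjective_surjective prS_surjective p P
  obtain ⟨u, hu0, hfix⟩ := exists_fixed_vector p (by omega) P₀.isPGroup'
  have h1 : Tb u = Tb e := by
    rw [← hP, Sylow.coe_mapSurjective, zz_map_prS p (by omega) P₀.isPGroup',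
      zz_sylow p h2 P₀ hu0 hfix]
    rfl
  obtain ⟨l, -, hl⟩ := smul_of_Tb_le p H (by omega) h1.ge
  have hfixe : ∀ g ∈ P₀, g.1 *ᵥ e = e := by
    intro g hg
    rw [hl, Matrix.mulVec_smul, hfix g hg]
  rw [Sylow.coe_mapSurjective]
  exact Subgroup.map_mono (Qs_le_sylow p P₀ hfixe)

/-- a Sylow subgroup of `Sp_{2m}` fixing `e` -/
theorem exists_sylow_fix (hm : 2 ≤ m) : ∃ P : Sylow p SpG, ∀ y ∈ P, y.1 *ᵥ e = e := by
  obtain ⟨P₁⟩ : Nonempty (Sylow p SpG) := inferInstance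
  obtain ⟨u, hu0, hfix⟩ := exists_fixed_vector p (by omega) P₁.isPGroup'
  obtain ⟨g, hg⟩ := exists_symplectic_mulVec_eq u e hu0 (e_ne_zero H)
  refine ⟨g • P₁, ?_⟩
  have := smul_sylow_fix p P₁ hfix g
  rwa [hg] at this

/-- (B) an element lying in all Sylow subgroups with centre `Tb e` lies in `Qb e` -/
theorem mem_Qb_of_forall (h2 : (2 : F) ≠ 0) (hm : 2 ≤ m) {y : Cfsg.PSp m F}
    (hy : ∀ P : Sylow p (Cfsg.PSp m F), zz (P : Subgroup (Cfsg.PSp m F)) = Tb e →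
      y ∈ (P : Subgroup (Cfsg.PSp m F))) : y ∈ Qb e := by
  obtain ⟨P₀, hP₀⟩ := exists_sylow_fix p H hm
  have hk : ∀ k : SpG, k.1 *ᵥ e = e → ∃ x ∈ (k • P₀ : Sylow p SpG), prS x = y := by
    intro k hke
    have h1 := smul_sylow_fix p P₀ hP₀ k
    rw [hke] at h1
    have h2' := zz_map_sylow p H h2 hm (k • P₀) h1
    have h3 := hy ((k • P₀ : Sylow p SpG).mapSurjective prS_surjective)
      (by rw [Sylow.coe_mapSurjective]; exact h2')
    rw [Sylow.coe_mapSurjective] at h3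
    obtain ⟨x, hx, hxy⟩ := h3
    exact ⟨x, hx, hxy⟩
  obtain ⟨x, hx, hxy⟩ := hk 1 (by rw [tm_one, Matrix.one_mulVec])
  rw [one_smul] at hx
  -- the core subgroup
  let O : Subgroup SpG :=
    { carrier := {x | ∀ k : SpG, k.1 *ᵥ e = e → k⁻¹ * x * k ∈ P₀}
      one_mem' := by
        intro k _
        rw [mul_one, inv_mul_cancel]
        exact Subgroup.one_mem _
      mul_mem' := by
        intro a b ha hb k hk
        have : k⁻¹ * (a * b) * k = (k⁻¹ * a * k) * (k⁻¹ * b * k) := by group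
        rw [this]
        exact Subgroup.mul_mem _ (ha k hk) (hb k hk)
      inv_mem' := by
        intro a ha k hk
        have : k⁻¹ * a⁻¹ * k = (k⁻¹ * a * k)⁻¹ := by group
        rw [this]
        exact Subgroup.inv_mem _ (ha k hk) }
  have hOmem : ∀ x, x ∈ O ↔ ∀ k : SpG, k.1 *ᵥ e = e → k⁻¹ * x * k ∈ P₀ :=
    fun x => Iff.rfl
  have hOP : O ≤ (P₀ : Subgroup SpG) := by
    intro x hx
    have := (hOmem x).mp hx 1 (by rw [tm_one, Matrix.one_mulVec])
    rwa [inv_one, one_mul, mul_one] at this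
  have hxO : x ∈ O := by
    rw [hOmem]
    intro k hke
    obtain ⟨x', hx', hxy'⟩ := hk k hke
    obtain ⟨a, ha⟩ := sylow_pElement p P₀ hx
    obtain ⟨b, hb⟩ := sylow_pElement p (k • P₀) hx'
    have := prS_inj_pElements p (by omega) ha hb (hxy.trans hxy'.symm)
    rw [this]
    exact (Cfsg.Agent.Helper1.mem_sylow_smul_iff P₀ k x').mp hx'
  have hQO : Qs e ≤ O := by
    intro u hu
    rw [hOmem]
    intro k hke
    have := conj_mem_Qs hu k⁻¹
    rw [fix_inv hke, inv_inv] at this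
    exact Qs_le_sylow p P₀ hP₀ this
  have hle := le_Qs_of_normal p H hm (O' := O) (P₀.isPGroup'.to_le hOP) hQO
    (fun x hx => hP₀ x (hOP hx)) (by
      intro g hge _ x hx
      rw [hOmem] at hx ⊢
      intro k hke
      have h1 := hx (g⁻¹ * k) (by rw [tm_mul, ← Matrix.mulVec_mulVec, hke, fix_inv hge])
      have : (g⁻¹ * k)⁻¹ * x * (g⁻¹ * k) = k⁻¹ * (g * x * g⁻¹) * k := by group
      rwa [this] at h1)
  exact ⟨x, hle hxO, hxy⟩

include p in
/-- one inclusion of step III -/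
theorem map_aut_Qb_le (h2 : (2 : F) ≠ 0) (hm : 2 ≤ m) (α : MulAut (Cfsg.PSp m F))
    (hα : (Tb e).map α.toMonoidHom = Tb e) : (Qb e).map α.toMonoidHom ≤ Qb e := by
  rintro _ ⟨x, hx, rfl⟩
  apply mem_Qb_of_forall p H h2 hm
  intro P hP
  have hα' : (Tb e).map (α⁻¹ : MulAut (Cfsg.PSp m F)).toMonoidHom = Tb e := by
    conv_lhs => rw [← hα]
    rw [← map_mul_aut, inv_mul_cancel]
    exact Subgroup.map_id _
  have h1 : zz ((α⁻¹ • P : Sylow p (Cfsg.PSp m F)) : Subgroup (Cfsg.PSp m F)) = Tb e := by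
    have : ((α⁻¹ • P : Sylow p (Cfsg.PSp m F)) : Subgroup (Cfsg.PSp m F))
        = (P : Subgroup (Cfsg.PSp m F)).map (α⁻¹ : MulAut (Cfsg.PSp m F)).toMonoidHom := rfl
    rw [this, zz_map, hP, hα']
  have h2' := Qb_le_of_zz p H h2 hm (α⁻¹ • P) h1 hx
  have h3 : ((α⁻¹ • P : Sylow p (Cfsg.PSp m F)) : Subgroup (Cfsg.PSp m F))
      = (P : Subgroup (Cfsg.PSp m F)).map (α⁻¹ : MulAut (Cfsg.PSp m F)).toMonoidHom := rfl
  rw [h3] at h2'
  obtain ⟨y, hy, hyx⟩ := h2'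
  have : α x = y := by
    rw [← hyx]
    show α ((α⁻¹ : MulAut (Cfsg.PSp m F)) y) = y
    exact MulAut.apply_inv_self _ _ _
  show α x ∈ P
  rw [this]
  exact hy

include p in
/-- **Step III**: an automorphism fixing `Tb e` fixes `Qb e` -/
theorem map_aut_Qb (h2 : (2 : F) ≠ 0) (hm : 2 ≤ m) (α : MulAut (Cfsg.PSp m F))
    (hα : (Tb e).map α.toMonoidHom = Tb e) : (Qb e).map α.toMonoidHom = Qb e := by
  apply le_antisymm (map_aut_Qb_le p H h2 hm α hα)
  have hα' : (Tb e).map (α⁻¹ : MulAut (Cfsg.PSp m F)).toMonoidHom = Tb e := by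
    conv_lhs => rw [← hα]
    rw [← map_mul_aut, inv_mul_cancel]
    exact Subgroup.map_id _
  intro x hx
  have h1 := map_aut_Qb_le p H h2 hm α⁻¹ hα' ⟨x, hx, rfl⟩
  refine ⟨_, h1, ?_⟩
  show α ((α⁻¹ : MulAut (Cfsg.PSp m F)) x) = x
  exact MulAut.apply_inv_self _ _ _

end pair

end Cfsg.Agent.Helper7.AutPSp
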