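import Cfsg.Agent.Helper7.AutPSp6
import Cfsg.Agent.Helper7.AutPSU13

/-!
# Automorphisms of `PSp_{2m}`, part 7 (helper7)

Parametrisation of `Qb e` by pairs `(w, c)` with `w ∈ W`; the data `(A, B)` of an automorphism
fixing `Tb e` and `Qb e`, its basic properties and the inversion relation.
-/

set_option autoImplicit false
set_option linter.unusedSectionVars false

namespace Cfsg.Agent.Helper7.AutPSp

open Matrix Cfsg.Agent.Helper2.Sp Module
open Cfsg.Agent.Helper7.AutPSU (map_mul_aut map_conj_map)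

variable {F : Type*} [Field F] {m : ℕ}

local notation "V" => (Fin m ⊕ Fin m → F)
local notation "Mt" => Matrix (Fin m ⊕ Fin m) (Fin m ⊕ Fin m) F
local notation "SpG" => Matrix.symplecticGroup (Fin m) F

/-- the data of an automorphism on `Qb e` -/
def IsQData (α : MulAut (Cfsg.PSp m F)) (e f : V) (A : V → V) (B : V → F → F) : Prop :=
  ∀ w c, w ∈ Wsub e f →
    A w ∈ Wsub e f ∧ α (prS (sgS e w c)) = prS (sgS e (A w) (B w c))

section pair

variable {e f : Fin m ⊕ Fin m → F} (H : om e f = 1)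

include H

/-- every element of `Qs e` has parameters in `W` -/
theorem exists_W_param {x : SpG} (hx : x ∈ Qs e) :
    ∃ w c, w ∈ Wsub e f ∧ x = sgS e w c := by
  obtain ⟨w', c', rfl⟩ := hx
  by_cases hv : om w' e = 0
  · obtain ⟨a, ha⟩ : ∃ a, a = om w' f := ⟨_, rfl⟩
    have hw : w' - a • e ∈ Wsub e f := by
      constructor
      · rw [om_sub_left, om_smul_left, hv, om_self]; ring
      · rw [om_sub_left, om_smul_left, H, ha]; ring
    have hw' : w' = (w' - a • e) + a • e := by module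
    refine ⟨w' - a • e, c' + 2 * a, hw, ?_⟩
    rw [← sgS_add_smul hw.1, ← hw']
  · exact ⟨0, 0, Submodule.zero_mem _, by rw [sgS_of_not_valid hv, sgS_zero_zero]⟩

omit H in
theorem Wsub_f_neg_e : Wsub f (-e) = Wsub e f := by
  rw [Wsub_neg, Wsub_comm]

theorem om_f_neg_e : om f (-e) = 1 := by
  rw [om_swap (-e) f, om_neg_left, H, neg_neg]

theorem exists_QData (α : MulAut (Cfsg.PSp m F))
    (hT : (Tb e).map α.toMonoidHom = Tb e) (hQ : (Qb e).map α.toMonoidHom = Qb e) :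
    ∃ A B, IsQData α e f A B := by
  have L1 : ∀ w, w ∈ Wsub e f → ∃ w', w' ∈ Wsub e f ∧ ∀ c,
      ∃ c', α (prS (sgS e w c)) = prS (sgS e w' c') := by
    intro w hw
    have h1 : α (prS (sgS e w 0)) ∈ Qb e := by
      rw [← hQ]
      exact ⟨_, ⟨_, sgS_mem_Qs e w 0, rfl⟩, rfl⟩
    obtain ⟨x', hx', hx'eq⟩ := h1
    obtain ⟨w', c₀', hw', rfl⟩ := exists_W_param H hx'
    refine ⟨w', hw', ?_⟩
    intro c
    have h2 : α (prS (sgS e 0 c)) ∈ Tb e := by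
      rw [← hT]
      exact ⟨_, ⟨_, ⟨c, rfl⟩, rfl⟩, rfl⟩
    obtain ⟨t', ⟨s', rfl⟩, ht'eq⟩ := h2
    have h3 : sgS e w c = sgS e w 0 * sgS e 0 c := by
      rw [sgS_mul hw.1 (om_zero_left e), add_zero, om_zero_right, add_zero, zero_add]
    refine ⟨c₀' + s', ?_⟩
    rw [h3, map_mul, map_mul, ← hx'eq, ← ht'eq, ← map_mul, sgS_mul hw'.1 (om_zero_left e),
      add_zero, om_zero_right, add_zero]
  choose! A hAW hA using L1
  choose! B hB using hA
  exact ⟨A, B, fun w c hw => ⟨hAW w hw, hB w hw c⟩⟩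

end pair

variable (p : ℕ) [Fact p.Prime] [CharP F p]

section pair

variable {e f : Fin m ⊕ Fin m → F} (H : om e f = 1)

include H p

/-- uniqueness of the parameters -/
theorem sgS_inj_W (hm : 1 ≤ m) {w w' : V} {c c' : F}
    (hw : w ∈ Wsub e f) (hw' : w' ∈ Wsub e f)
    (heq : prS (sgS e w c) = prS (sgS e w' c')) : w = w' ∧ c = c' := by
  have h1 := prS_inj_pElements p hm (sgS_pElement p e w c) (sgS_pElement p e w' c') heq
  have h2 := congrArg Subtype.val h1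
  rw [tm_sgS hw.1, tm_sgS hw'.1] at h2
  exact Sg_inj H hw.2 hw'.2 h2

variable (hm : 1 ≤ m) {α : MulAut (Cfsg.PSp m F)} {A : (Fin m ⊕ Fin m → F) → (Fin m ⊕ Fin m → F)}
  {B : (Fin m ⊕ Fin m → F) → F → F} (hAB : IsQData α e f A B)

include hm hAB

theorem qdata_mul {w₁ w₂ : V} (c₁ c₂ : F) (hw₁ : w₁ ∈ Wsub e f) (hw₂ : w₂ ∈ Wsub e f) :
    A (w₁ + w₂) = A w₁ + A w₂ ∧
      B (w₁ + w₂) (c₁ + c₂ + om w₁ w₂) = B w₁ c₁ + B w₂ c₂ + om (A w₁) (A w₂) := by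
  obtain ⟨hA₁, hE₁⟩ := hAB w₁ c₁ hw₁
  obtain ⟨hA₂, hE₂⟩ := hAB w₂ c₂ hw₂
  have hw₁₂ : w₁ + w₂ ∈ Wsub e f := Submodule.add_mem _ hw₁ hw₂
  obtain ⟨hA₃, hE₃⟩ := hAB (w₁ + w₂) (c₁ + c₂ + om w₁ w₂) hw₁₂
  rw [← sgS_mul hw₁.1 hw₂.1, map_mul, map_mul, hE₁, hE₂, ← map_mul, sgS_mul hA₁.1 hA₂.1] at hE₃
  exact (sgS_inj_W p H hm (Submodule.add_mem _ hA₁ hA₂) hA₃ hE₃).imp Eq.symm Eq.symm

theorem qdata_A_add {w₁ w₂ : V} (hw₁ : w₁ ∈ Wsub e f) (hw₂ : w₂ ∈ Wsub e f) :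
    A (w₁ + w₂) = A w₁ + A w₂ := (qdata_mul p H hm hAB 0 0 hw₁ hw₂).1

theorem qdata_A_zero : A 0 = 0 := by
  have := qdata_A_add p H hm hAB (Submodule.zero_mem _) (Submodule.zero_mem _)
  rw [add_zero] at this
  exact left_eq_add.mp this

theorem qdata_A_mem {w : V} (hw : w ∈ Wsub e f) : A w ∈ Wsub e f := (hAB w 0 hw).1

theorem qdata_B_shift {w : V} (c s : F) (hw : w ∈ Wsub e f) :
    B w (c + s) = B w c + B 0 s := by
  have := (qdata_mul p H hm hAB c s hw (Submodule.zero_mem _)).2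
  rw [add_zero, om_zero_right, add_zero, qdata_A_zero p H hm hAB, om_zero_right, add_zero] at this
  exact this

theorem qdata_B_zero : B 0 0 = 0 := by
  have := qdata_B_shift p H hm hAB 0 0 (Submodule.zero_mem _)
  rw [add_zero] at this
  exact left_eq_add.mp this

theorem qdata_B_split {w : V} (c : F) (hw : w ∈ Wsub e f) : B w c = B w 0 + B 0 c := by
  have := qdata_B_shift p H hm hAB 0 c hw
  rwa [zero_add] at this

theorem qdata_beta_add (c s : F) : B 0 (c + s) = B 0 c + B 0 s :=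
  qdata_B_shift p H hm hAB c s (Submodule.zero_mem _)

theorem qdata_beta_neg (c : F) : B 0 (-c) = - B 0 c := by
  have := qdata_beta_add p H hm hAB c (-c)
  rw [add_neg_cancel, qdata_B_zero p H hm hAB] at this
  exact eq_neg_of_add_eq_zero_right this.symm

/-- compatibility with inverses -/
theorem qdata_inv {w : V} (c : F) (hw : w ∈ Wsub e f) :
    A (-w) = - A w ∧ B (-w) (-c) = - B w c := by
  obtain ⟨hA₁, hE₁⟩ := hAB w c hw
  have hnw : -w ∈ Wsub e f := Submodule.neg_mem _ hw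
  obtain ⟨hA₂, hE₂⟩ := hAB (-w) (-c) hnw
  rw [← sgS_inv hw.1, map_inv, map_inv, hE₁, ← map_inv, sgS_inv hA₁.1] at hE₂
  exact (sgS_inj_W p H hm (Submodule.neg_mem _ hA₁) hA₂ hE₂).imp Eq.symm Eq.symm

theorem qdata_A_neg {w : V} (hw : w ∈ Wsub e f) : A (-w) = - A w :=
  (qdata_inv p H hm hAB 0 hw).1

theorem qdata_A_sub {w₁ w₂ : V} (hw₁ : w₁ ∈ Wsub e f) (hw₂ : w₂ ∈ Wsub e f) :
    A (w₁ - w₂) = A w₁ - A w₂ := by
  rw [sub_eq_add_neg, qdata_A_add p H hm hAB hw₁ (Submodule.neg_mem _ hw₂),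
    qdata_A_neg p H hm hAB hw₂, ← sub_eq_add_neg]

/-- injectivity -/
theorem qdata_A_inj (hT : (Tb e).map α.toMonoidHom = Tb e) {w : V}
    (hw : w ∈ Wsub e f) (hA0 : A w = 0) : w = 0 := by
  obtain ⟨-, hE₁⟩ := hAB w 0 hw
  rw [hA0] at hE₁
  have h1 : α (prS (sgS e w 0)) ∈ (Tb e).map α.toMonoidHom := by
    rw [hT, hE₁]
    exact ⟨_, ⟨_, rfl⟩, rfl⟩
  obtain ⟨y, hy, hyeq⟩ := h1
  have h2 : y = prS (sgS e w 0) := α.injective hyeq
  rw [h2] at hy
  obtain ⟨t, ⟨s, rfl⟩, hteq⟩ := hy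
  exact ((sgS_inj_W p H hm (Submodule.zero_mem _) hw hteq).1).symm

theorem qdata_A_inj' (hT : (Tb e).map α.toMonoidHom = Tb e) {w₁ w₂ : V}
    (hw₁ : w₁ ∈ Wsub e f) (hw₂ : w₂ ∈ Wsub e f) (heq : A w₁ = A w₂) : w₁ = w₂ := by
  have := qdata_A_inj p H hm hAB hT (Submodule.sub_mem _ hw₁ hw₂)
    (by rw [qdata_A_sub p H hm hAB hw₁ hw₂, heq, sub_self])
  exact sub_eq_zero.mp this

/-- the image of a nonzero transvection parameter is nonzero -/
theorem qdata_B_zero_ne {s : F} (hs0 : s ≠ 0) : B 0 s ≠ 0 := by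
  intro h0
  obtain ⟨-, hE₁⟩ := hAB 0 s (Submodule.zero_mem _)
  rw [qdata_A_zero p H hm hAB, h0, sgS_zero_zero, map_one] at hE₁
  have h1 : prS (sgS e 0 s) = 1 := by
    apply α.injective
    rw [hE₁, map_one]
  rw [← map_one prS, ← sgS_zero_zero e] at h1
  exact hs0 (sgS_inj_W p H hm (Submodule.zero_mem _) (Submodule.zero_mem _) h1).2

end pair

section invert

variable {e f : Fin m ⊕ Fin m → F} (H : om e f = 1) (hm : 1 ≤ m)
  {α : MulAut (Cfsg.PSp m F)} {A A' : (Fin m ⊕ Fin m → F) → (Fin m ⊕ Fin m → F)}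
  {B B' : (Fin m ⊕ Fin m → F) → F → F}
  (hN : Nrm α e f) (hAB : IsQData α e f A B) (hAB' : IsQData α f (-e) A' B')

include H p hm hN hAB hAB'

/-- **the inversion relation** -/
theorem qdata_invert {w : V} {c : F} (hw : w ∈ Wsub e f) (hc0 : c ≠ 0) :
    B' w c ≠ 0 ∧ A (c⁻¹ • w) = (B' w c)⁻¹ • A' w ∧ B (c⁻¹ • w) (-c⁻¹) = -(B' w c)⁻¹ := by
  have Hs : om f (-e) = 1 := by rw [om_swap (-e) f, om_neg_left, H, neg_neg]
  have hWeq : Wsub f (-e) = Wsub e f := by rw [Wsub_neg, Wsub_comm]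
  have hw' : w ∈ Wsub f (-e) := by rw [hWeq]; exact hw
  have hw₁ : c⁻¹ • w ∈ Wsub e f := Submodule.smul_mem _ _ hw
  obtain ⟨hA₁, hE₁⟩ := hAB (c⁻¹ • w) (-c⁻¹) hw₁
  obtain ⟨hA₂, hE₂⟩ := hAB' w c hw'
  have hA₂' := hA₂
  rw [hWeq] at hA₂
  -- the geometric relation before applying `α`
  have hue : (sgS f w c).1 *ᵥ (-e) = -e + w + c • f := by
    rw [tm_sgS hw.2, Sg_mulVec_f Hs hw'.2]
  have hvf : (sgS e (c⁻¹ • w) (-c⁻¹)).1 *ᵥ f = c⁻¹ • (-e + w + c • f) := by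
    rw [tm_sgS hw₁.1, Sg_mulVec_f H hw₁.2, smul_add, smul_add, smul_smul,
      inv_mul_cancel₀ hc0, one_smul]
    module
  have h1 : (Tb f).map (MulAut.conj (prS (sgS e (c⁻¹ • w) (-c⁻¹)))).toMonoidHom
      = (Tb (-e)).map (MulAut.conj (prS (sgS f w c))).toMonoidHom := by
    rw [map_conj_Tb, map_conj_Tb, hvf, hue, Tb_smul _ (inv_ne_zero hc0)]
  have hTne : Tb (-e) = Tb e := by
    have := Tb_smul e (l := (-1 : F)) (neg_ne_zero.mpr one_ne_zero)
    rwa [neg_one_smul] at this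
  have h2 := congrArg (fun K => K.map α.toMonoidHom) h1
  beta_reduce at h2
  rw [map_conj_map, map_conj_map, hTne, hN.1, hN.2, hE₁, hE₂, ← hTne, map_conj_Tb, map_conj_Tb,
    tm_sgS hA₁.1, tm_sgS hA₂.2, Sg_mulVec_f H hA₁.2, Sg_mulVec_f Hs hA₂'.2] at h2
  obtain ⟨y₁, hy₁⟩ : ∃ y₁, y₁ = f + A (c⁻¹ • w) + B (c⁻¹ • w) (-c⁻¹) • e := ⟨_, rfl⟩
  obtain ⟨y₂, hy₂⟩ : ∃ y₂, y₂ = -e + A' w + B' w c • f := ⟨_, rfl⟩
  rw [← hy₁, ← hy₂] at h2
  have hfe : om f e = -1 := om_fe H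
  have hy₁e : om y₁ e = -1 := by
    rw [hy₁, om_add_left, om_add_left, om_smul_left, hfe, hA₁.1, om_self]
    ring
  have hy₁f : om y₁ f = B (c⁻¹ • w) (-c⁻¹) := by
    rw [hy₁, om_add_left, om_add_left, om_smul_left, om_self, hA₁.2, H]
    ring
  have hy₂e : om y₂ e = - B' w c := by
    rw [hy₂, om_add_left, om_add_left, om_smul_left, om_neg_left, om_self, hA₂.1, hfe]
    ring
  have hy₂f : om y₂ f = -1 := by
    rw [hy₂, om_add_left, om_add_left, om_smul_left, om_neg_left, H, hA₂.2, om_self]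
    ring
  have hy₁0 : y₁ ≠ 0 := by
    intro h0
    rw [h0, om_zero_left] at hy₁e
    exact zero_ne_one (neg_eq_zero.mp hy₁e.symm).symm
  obtain ⟨f₁, H₁⟩ := exists_hypPair hy₁0
  obtain ⟨l, hl0, hl⟩ := smul_of_Tb_le p H₁ hm h2.le
  have e1 : (1 : F) = l * B' w c := by
    have := congrArg (fun z => om z e) hl
    beta_reduce at this
    rw [hy₁e, om_smul_left, hy₂e] at this
    linear_combination -this
  have e2 : B (c⁻¹ • w) (-c⁻¹) = -l := by
    have := congrArg (fun z => om z f) hl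
    beta_reduce at this
    rw [hy₁f, om_smul_left, hy₂f] at this
    linear_combination this
  have hB0 : B' w c ≠ 0 := by
    intro h0
    rw [h0, mul_zero] at e1
    exact one_ne_zero e1
  have hl' : l = (B' w c)⁻¹ := eq_inv_of_mul_eq_one_left e1.symm
  refine ⟨hB0, ?_, by rw [e2, hl']⟩
  have e3 : A (c⁻¹ • w) = y₁ - om y₁ f • e - om e y₁ • f := by
    rw [om_swap y₁ e, hy₁e, hy₁f, hy₁]
    module
  have e4 : l • A' w = l • y₂ - om (l • y₂) f • e - om e (l • y₂) • f := by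
    rw [om_swap (l • y₂) e, om_smul_left, om_smul_left, hy₂f, hy₂e, hy₂]
    module
  rw [e3, hl, ← hl', e4]

end invert

end Cfsg.Agent.Helper7.AutPSp
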