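import Cfsg.Agent.Helper7.AutPSp7
import Cfsg.Agent.Helper7.AutPSU17

/-!
# Automorphisms of `PSp_{2m}`, part 8 (helper7)

The bundled setup of a normalised automorphism and the normal form of its data:
`A` is `τ`-semilinear, `ω(A w₁, A w₂) = κ τ(ω(w₁, w₂))`, `B w c = κ τ(c)`, `A' = κ⁻¹ A`,
`B' w c = κ⁻¹ τ(c)`.
-/

set_option autoImplicit false
set_option linter.unusedSectionVars false

namespace Cfsg.Agent.Helper7.AutPSp

open Matrix Cfsg.Agent.Helper2.Sp Module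
open Cfsg.Agent.Helper7.AutPSU (semilinear_of_lines)

variable {F : Type*} [Field F] [Fintype F] {m : ℕ}

local notation "V" => (Fin m ⊕ Fin m → F)
local notation "Mt" => Matrix (Fin m ⊕ Fin m) (Fin m ⊕ Fin m) F
local notation "SpG" => Matrix.symplecticGroup (Fin m) F

/-- a normalised automorphism together with its data on `Qb e` and `Qb f` -/
structure NSetup (p : ℕ) (e f : Fin m ⊕ Fin m → F) (α : MulAut (Cfsg.PSp m F))
    (A A' : (Fin m ⊕ Fin m → F) → (Fin m ⊕ Fin m → F))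
    (B B' : (Fin m ⊕ Fin m → F) → F → F) : Prop where
  H : om e f = 1
  h2 : (2 : F) ≠ 0
  hm : 2 ≤ m
  hN : Nrm α e f
  hAB : IsQData α e f A B
  hAB' : IsQData α f (-e) A' B'

/-- the data of the normal form -/
structure SData (e f : Fin m ⊕ Fin m → F)
    (A A' : (Fin m ⊕ Fin m → F) → (Fin m ⊕ Fin m → F))
    (B B' : (Fin m ⊕ Fin m → F) → F → F) (τ : F →+* F) (κ : F) : Prop where
  hκ0 : κ ≠ 0
  hτ : ∀ w ∈ Wsub e f, ∀ t : F, A (t • w) = τ t • A w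
  hsim : ∀ w₁ ∈ Wsub e f, ∀ w₂ ∈ Wsub e f, om (A w₁) (A w₂) = κ * τ (om w₁ w₂)
  hB : ∀ w ∈ Wsub e f, ∀ c, B w c = κ * τ c
  hA' : ∀ w ∈ Wsub e f, A' w = κ⁻¹ • A w
  hB' : ∀ w ∈ Wsub e f, ∀ c, B' w c = κ⁻¹ * τ c

variable (p : ℕ) [Fact p.Prime] [CharP F p]

theorem exists_NSetup (h2 : (2 : F) ≠ 0) (hm : 2 ≤ m) {e f : V} (H : om e f = 1)
    {α : MulAut (Cfsg.PSp m F)} (hN : Nrm α e f) :
    ∃ A A' B B', NSetup p e f α A A' B B' := by
  have Hs := om_f_neg_e H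
  obtain ⟨A, B, hAB⟩ := exists_QData H α hN.1 (map_aut_Qb p H h2 hm α hN.1)
  obtain ⟨A', B', hAB'⟩ := exists_QData Hs α hN.2 (map_aut_Qb p Hs h2 hm α hN.2)
  exact ⟨A, A', B, B', H, h2, hm, hN, hAB, hAB'⟩

namespace NSetup

variable {p}
variable {e f : Fin m ⊕ Fin m → F} {α : MulAut (Cfsg.PSp m F)}
  {A A' : (Fin m ⊕ Fin m → F) → (Fin m ⊕ Fin m → F)} {B B' : (Fin m ⊕ Fin m → F) → F → F}
  (S : NSetup p e f α A A' B B')

include S

theorem hm1 : 1 ≤ m := le_trans (by norm_num) S.hm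

theorem Hs : om f (-e) = 1 := om_f_neg_e S.H

theorem mem' {w : V} (hw : w ∈ Wsub e f) : w ∈ Wsub f (-e) := by
  rw [Wsub_f_neg_e]
  exact hw

theorem A_mem {w : V} (hw : w ∈ Wsub e f) : A w ∈ Wsub e f := (S.hAB w 0 hw).1

theorem A'_mem {w : V} (hw : w ∈ Wsub e f) : A' w ∈ Wsub e f := by
  have := (S.hAB' w 0 (S.mem' hw)).1
  rwa [Wsub_f_neg_e] at this

theorem map_sgS {w : V} (c : F) (hw : w ∈ Wsub e f) :
    α (prS (sgS e w c)) = prS (sgS e (A w) (B w c)) := (S.hAB w c hw).2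

theorem map_sgS' {w : V} (c : F) (hw : w ∈ Wsub e f) :
    α (prS (sgS f w c)) = prS (sgS f (A' w) (B' w c)) := (S.hAB' w c (S.mem' hw)).2

theorem A_add {w₁ w₂ : V} (hw₁ : w₁ ∈ Wsub e f) (hw₂ : w₂ ∈ Wsub e f) :
    A (w₁ + w₂) = A w₁ + A w₂ := qdata_A_add p S.H S.hm1 S.hAB hw₁ hw₂

theorem A_zero : A 0 = 0 := qdata_A_zero p S.H S.hm1 S.hAB

theorem A'_zero : A' 0 = 0 := qdata_A_zero p S.Hs S.hm1 S.hAB'

theorem A_inj {w : V} (hw : w ∈ Wsub e f) (hA0 : A w = 0) : w = 0 :=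
  qdata_A_inj p S.H S.hm1 S.hAB S.hN.1 hw hA0

theorem B_split {w : V} (c : F) (hw : w ∈ Wsub e f) : B w c = B w 0 + B 0 c :=
  qdata_B_split p S.H S.hm1 S.hAB c hw

theorem B'_split {w : V} (c : F) (hw : w ∈ Wsub e f) : B' w c = B' w 0 + B' 0 c :=
  qdata_B_split p S.Hs S.hm1 S.hAB' c (S.mem' hw)

theorem beta_add (c s : F) : B 0 (c + s) = B 0 c + B 0 s := qdata_beta_add p S.H S.hm1 S.hAB c s

theorem beta'_add (c s : F) : B' 0 (c + s) = B' 0 c + B' 0 s :=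
  qdata_beta_add p S.Hs S.hm1 S.hAB' c s

theorem beta_neg (c : F) : B 0 (-c) = - B 0 c := qdata_beta_neg p S.H S.hm1 S.hAB c

theorem B_zero : B 0 0 = 0 := qdata_B_zero p S.H S.hm1 S.hAB

theorem B'_zero : B' 0 0 = 0 := qdata_B_zero p S.Hs S.hm1 S.hAB'

theorem invert {w : V} {c : F} (hw : w ∈ Wsub e f) (hc0 : c ≠ 0) :
    B' w c ≠ 0 ∧ A (c⁻¹ • w) = (B' w c)⁻¹ • A' w ∧ B (c⁻¹ • w) (-c⁻¹) = -(B' w c)⁻¹ :=
  qdata_invert p S.H S.hm1 S.hN S.hAB S.hAB' hw hc0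

/-- `A' w = B' w 1 • A w` -/
theorem A'_eq {w : V} (hw : w ∈ Wsub e f) : B' w 1 ≠ 0 ∧ A' w = B' w 1 • A w := by
  obtain ⟨h3, h4, -⟩ := S.invert hw one_ne_zero
  rw [inv_one, one_smul] at h4
  exact ⟨h3, by rw [h4, smul_smul, mul_inv_cancel₀ h3, one_smul]⟩

/-- lines are preserved -/
theorem lines {w : V} (hw : w ∈ Wsub e f) (t : F) : ∃ r : F, A (t • w) = r • A w := by
  by_cases ht : t = 0
  · refine ⟨0, ?_⟩
    rw [ht, zero_smul, zero_smul, S.A_zero]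
  · obtain ⟨-, h2, -⟩ := S.invert hw (inv_ne_zero ht)
    rw [inv_inv] at h2
    exact ⟨(B' w t⁻¹)⁻¹ * B' w 1, by rw [h2, (S.A'_eq hw).2, smul_smul]⟩

theorem exists_tau : ∃ τ : F →+* F, ∀ w ∈ Wsub e f, ∀ t : F, A (t • w) = τ t • A w :=
  semilinear_of_lines (Wsub e f) A (fun w₁ h₁ w₂ h₂ => S.A_add h₁ h₂)
    (fun w hw h0 => S.A_inj hw h0) (fun w hw t => S.lines hw t) (Wsub_two S.H S.hm)

/-- the form is transformed by `β = B 0` -/
theorem beta_om {w₁ w₂ : V} (hw₁ : w₁ ∈ Wsub e f) (hw₂ : w₂ ∈ Wsub e f) :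
    B 0 (om w₁ w₂) = om (A w₁) (A w₂) := by
  have h1 := (qdata_mul p S.H S.hm1 S.hAB 0 0 hw₁ hw₂).2
  have h2 := (qdata_mul p S.H S.hm1 S.hAB 0 0 hw₂ hw₁).2
  rw [zero_add, zero_add, S.B_split _ (Submodule.add_mem _ hw₁ hw₂)] at h1
  rw [zero_add, zero_add, add_comm w₂ w₁, S.B_split _ (Submodule.add_mem _ hw₁ hw₂),
    om_swap w₁ w₂, S.beta_neg, om_swap (A w₁) (A w₂)] at h2
  have h3 : 2 * (B 0 (om w₁ w₂) - om (A w₁) (A w₂)) = 0 := by linear_combination h1 - h2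
  rcases mul_eq_zero.mp h3 with h | h
  · exact absurd h S.h2
  · exact sub_eq_zero.mp h

/-- a hyperbolic pair in `W` -/
theorem exists_W_pair : ∃ w₁ ∈ Wsub e f, ∃ w₂ ∈ Wsub e f, w₁ ≠ 0 ∧ om w₁ w₂ = 1 := by
  obtain ⟨w₁, hw₁, hw₁0⟩ := Submodule.exists_mem_ne_zero_of_ne_bot (Wsub_ne_bot S.H S.hm)
  obtain ⟨w₂, hw₂, h12⟩ := Wsub_nondeg S.H hw₁ hw₁0
  exact ⟨w₁, hw₁, w₂, hw₂, hw₁0, h12⟩

/-- **the normal form of the data** -/
theorem exists_SData : ∃ (τ : F →+* F) (κ : F), SData e f A A' B B' τ κ := by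
  obtain ⟨τ, hτ⟩ := S.exists_tau
  obtain ⟨w₁, hw₁, w₂, hw₂, hw₁0, h12⟩ := S.exists_W_pair
  have hAw₁ : A w₁ ≠ 0 := fun h0 => hw₁0 (S.A_inj hw₁ h0)
  -- `β = κ τ`
  have hβ : ∀ t : F, B 0 t = τ t * B 0 1 := by
    intro t
    have h1 := S.beta_om (Submodule.smul_mem _ t hw₁) hw₂
    rw [om_smul_left, h12, mul_one, hτ w₁ hw₁, om_smul_left, ← S.beta_om hw₁ hw₂, h12] at h1
    exact h1
  have hκ0 : B 0 1 ≠ 0 := qdata_B_zero_ne p S.H S.hm1 S.hAB one_ne_zero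
  -- the structure of `B'`
  have hB'τ : ∀ w ∈ Wsub e f, w ≠ 0 → ∀ c : F, c ≠ 0 → B' w c = τ c * B' w 1 := by
    intro w hw hw0 c hc0
    obtain ⟨h3, h4, -⟩ := S.invert hw hc0
    obtain ⟨h5, h6⟩ := S.A'_eq hw
    have hAw : A w ≠ 0 := fun h0 => hw0 (S.A_inj hw h0)
    rw [hτ w hw, h6, smul_smul] at h4
    have h7 : (τ c⁻¹ - (B' w c)⁻¹ * B' w 1) • A w = 0 := by rw [sub_smul, h4, sub_self]
    have h8 : τ c⁻¹ = (B' w c)⁻¹ * B' w 1 := by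
      rcases smul_eq_zero.mp h7 with h | h
      · exact sub_eq_zero.mp h
      · exact absurd h hAw
    have hτc : τ c ≠ 0 := by
      intro h0
      have := congrArg τ (mul_inv_cancel₀ hc0)
      rw [map_mul, h0, zero_mul, map_one] at this
      exact zero_ne_one this
    rw [map_inv₀] at h8
    field_simp at h8
    exact h8
  have hγ' : ∀ w ∈ Wsub e f, B' w 0 = 0 := by
    intro w hw
    by_cases hw0 : w = 0
    · rw [hw0]
      exact S.B'_zero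
    · have h1 := hB'τ w hw hw0 2 S.h2
      rw [map_ofNat, S.B'_split 2 hw, S.B'_split 1 hw] at h1
      have h3 : B' 0 2 = 2 * B' 0 1 := by
        have := S.beta'_add 1 1
        rw [one_add_one_eq_two] at this
        rw [this]
        ring
      rw [h3] at h1
      linear_combination -h1
  have hB'form : ∀ w ∈ Wsub e f, ∀ c, B' w c = B' 0 1 * τ c := by
    intro w hw c
    rw [S.B'_split c hw, hγ' w hw, zero_add]
    by_cases hc0 : c = 0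
    · rw [hc0, S.B'_zero, map_zero, mul_zero]
    · have h1 := hB'τ w₁ hw₁ hw₁0 c hc0
      rw [S.B'_split c hw₁, S.B'_split 1 hw₁, hγ' w₁ hw₁, zero_add, zero_add] at h1
      rw [h1, mul_comm]
  have hκ'0 : B' 0 1 ≠ 0 := by
    have := (S.A'_eq hw₁).1
    rwa [hB'form w₁ hw₁, map_one, mul_one] at this
  -- `κ κ' = 1`
  have hκκ' : B 0 1 = (B' 0 1)⁻¹ := by
    obtain ⟨-, -, h3⟩ := S.invert (Submodule.zero_mem _ : (0 : V) ∈ Wsub e f) one_ne_zero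
    rw [inv_one, smul_zero, S.beta_neg] at h3
    exact neg_injective h3
  have hγ : ∀ w ∈ Wsub e f, B w 0 = 0 := by
    intro w hw
    obtain ⟨-, -, h3⟩ := S.invert hw one_ne_zero
    rw [inv_one, one_smul, S.B_split _ hw, S.beta_neg, hB'form w hw, map_one, mul_one, ← hκκ'] at h3
    linear_combination h3
  refine ⟨τ, B 0 1, hκ0, hτ, ?_, ?_, ?_, ?_⟩
  · intro w₃ hw₃ w₄ hw₄
    rw [← S.beta_om hw₃ hw₄, hβ, mul_comm]
  · intro w hw c
    rw [S.B_split c hw, hγ w hw, zero_add, hβ, mul_comm]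
  · intro w hw
    rw [(S.A'_eq hw).2, hB'form w hw, map_one, mul_one, hκκ', inv_inv]
  · intro w hw c
    rw [hB'form w hw, hκκ', inv_inv]

end NSetup

end Cfsg.Agent.Helper7.AutPSp
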