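import Cfsg.Agent.Helper7.AutPSp8

/-!
# Automorphisms of `PSp_{2m}`, part 9 (helper7)

The semilinear similitude of `F^{2m}` extending the data of a normalised automorphism, and its
matrix.
-/

set_option autoImplicit false
set_option linter.unusedSectionVars false

namespace Cfsg.Agent.Helper7.AutPSp

open Matrix Cfsg.Agent.Helper2.Sp Module

variable {F : Type*} [Field F] {m : ℕ}

local notation "V" => (Fin m ⊕ Fin m → F)
local notation "Mt" => Matrix (Fin m ⊕ Fin m) (Fin m ⊕ Fin m) F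
local notation "SpG" => Matrix.symplecticGroup (Fin m) F

/-- the form commutes with ring homomorphisms -/
theorem om_map (τ : F →+* F) (u v : V) :
    om (fun i => τ (u i)) (fun i => τ (v i)) = τ (om u v) := by
  rw [om_eq_sum, om_eq_sum, map_sum]
  apply Finset.sum_congr rfl
  intro i _
  rw [map_sub, map_mul, map_mul]

theorem map_mulVec_fun (τ : F →+* F) (M : Mt) (v : V) :
    (fun i => τ ((M *ᵥ v) i)) = M.map τ *ᵥ (fun i => τ (v i)) := by
  ext i
  exact RingHom.map_mulVec τ M v i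

/-- the hypotheses on a semilinear similitude of `⟨e, f⟩^⊥` -/
structure GHyp (e f : Fin m ⊕ Fin m → F) (τ : F →+* F) (κ : F)
    (A : (Fin m ⊕ Fin m → F) → (Fin m ⊕ Fin m → F)) : Prop where
  H : om e f = 1
  hAadd : ∀ w₁ ∈ Wsub e f, ∀ w₂ ∈ Wsub e f, A (w₁ + w₂) = A w₁ + A w₂
  hAmem : ∀ w ∈ Wsub e f, A w ∈ Wsub e f
  hτ : ∀ w ∈ Wsub e f, ∀ t : F, A (t • w) = τ t • A w
  hκ0 : κ ≠ 0
  hsim : ∀ w₁ ∈ Wsub e f, ∀ w₂ ∈ Wsub e f, om (A w₁) (A w₂) = κ * τ (om w₁ w₂)

/-- the semilinear extension -/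
def Gfun (e f : V) (τ : F →+* F) (κ : F) (A : V → V) (v : V) : V :=
  (κ * τ (om v f)) • e + τ (om e v) • f + A (v - om v f • e - om e v • f)

variable {e f : Fin m ⊕ Fin m → F} {τ : F →+* F} {κ : F}
  {A : (Fin m ⊕ Fin m → F) → (Fin m ⊕ Fin m → F)} (G : GHyp e f τ κ A)

local notation "Gf" => Gfun e f τ κ A

namespace GHyp

include G

theorem A_zero : A 0 = 0 := by
  have := G.hAadd 0 (Submodule.zero_mem _) 0 (Submodule.zero_mem _)
  rw [add_zero] at this
  exact left_eq_add.mp this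

theorem Gfun_add (v v' : V) : Gf (v + v') = Gf v + Gf v' := by
  unfold Gfun
  have e1 : v + v' - om (v + v') f • e - om e (v + v') • f
      = (v - om v f • e - om e v • f) + (v' - om v' f • e - om e v' • f) := by
    rw [om_add_left, om_add_right]
    module
  rw [e1, G.hAadd _ (proj_mem G.H v) _ (proj_mem G.H v'), om_add_left, om_add_right, map_add,
    map_add]
  module

theorem Gfun_smul (t : F) (v : V) : Gf (t • v) = τ t • Gf v := by
  unfold Gfun
  have e1 : t • v - om (t • v) f • e - om e (t • v) • f = t • (v - om v f • e - om e v • f) := by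
    rw [om_smul_left, om_smul_right]
    module
  rw [e1, G.hτ _ (proj_mem G.H v), om_smul_left, om_smul_right, map_mul, map_mul]
  module

theorem Gfun_e : Gf e = κ • e := by
  unfold Gfun
  have e1 : e - om e f • e - om e e • f = 0 := by
    rw [G.H, om_self]
    module
  rw [e1, G.A_zero, G.H, om_self, map_one, map_zero]
  module

theorem Gfun_f : Gf f = f := by
  unfold Gfun
  have e1 : f - om f f • e - om e f • f = 0 := by
    rw [G.H, om_self]
    module
  rw [e1, G.A_zero, G.H, om_self, map_one, map_zero]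
  module

theorem Gfun_W {w : V} (hw : w ∈ Wsub e f) : Gf w = A w := by
  unfold Gfun
  have h1 : om e w = 0 := by rw [om_swap w e, hw.1, neg_zero]
  rw [hw.2, h1, map_zero]
  have e1 : w - (0 : F) • e - (0 : F) • f = w := by module
  rw [e1]
  module

theorem Gfun_zero : Gf 0 = 0 := by
  rw [G.Gfun_W (Submodule.zero_mem _), G.A_zero]

/-- the decomposition of the form along `⟨e, f⟩ ⊕ ⟨e, f⟩^⊥` -/
theorem om_decomp (v v' : V) :
    om v v' = om (v - om v f • e - om e v • f) (v' - om v' f • e - om e v' • f)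
      + om v f * om e v' - om e v * om v' f := by
  simp only [om_sub_left, om_sub_right, om_smul_left, om_smul_right, om_self, G.H, om_fe G.H]
  rw [om_swap e v, om_swap v' f]
  ring

/-- the extension is a similitude -/
theorem Gfun_sim (v v' : V) : om (Gf v) (Gf v') = κ * τ (om v v') := by
  have hw := proj_mem G.H v
  have hw' := proj_mem G.H v'
  have hAw := G.hAmem _ hw
  have hAw' := G.hAmem _ hw'
  have h1 : om e (A (v' - om v' f • e - om e v' • f)) = 0 := by
    rw [om_swap _ e, hAw'.1, neg_zero]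
  have h2 : om f (A (v' - om v' f • e - om e v' • f)) = 0 := by
    rw [om_swap _ f, hAw'.2, neg_zero]
  rw [G.om_decomp v v']
  unfold Gfun
  simp only [om_add_left, om_add_right, om_smul_left, om_smul_right, om_self, G.H, om_fe G.H,
    hAw.1, hAw.2, h1, h2, G.hsim _ hw _ hw', map_mul, map_add, map_sub]
  ring

/-- the extension conjugates Siegel elements to Siegel elements -/
theorem Gfun_Sg (x w z : V) (c : F) :
    Gf (Sg x w c *ᵥ z) = Sg (Gf x) (κ⁻¹ • Gf w) (κ⁻¹ * τ c) *ᵥ (Gf z) := by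
  rw [Sg_mulVec, Sg_mulVec, om_smul_left, G.Gfun_sim, G.Gfun_sim]
  rw [G.Gfun_add, G.Gfun_add, G.Gfun_add, G.Gfun_smul, G.Gfun_smul, G.Gfun_smul, map_mul]
  have hκ0 := G.hκ0
  have e2 : κ * τ (om x z) * κ⁻¹ = τ (om x z) := by field_simp
  have e3 : κ⁻¹ * (κ * τ (om w z)) = τ (om w z) := by field_simp
  have e4 : κ⁻¹ * τ c * (κ * τ (om x z)) = τ c * τ (om x z) := by field_simp
  rw [smul_smul, e2, e3, e4]

end GHyp

/-! ### the matrix -/

section matrix

variable {e f : Fin m ⊕ Fin m → F} {τ : F ≃+* F} {κ : F}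
  {A : (Fin m ⊕ Fin m → F) → (Fin m ⊕ Fin m → F)} (G : GHyp e f (τ : F →+* F) κ A)

local notation "Gf'" => Gfun e f (τ : F →+* F) κ A

namespace GHyp

/-- the linear map `v ↦ G (τ⁻¹ v)` -/
noncomputable def Glin : (Fin m ⊕ Fin m → F) →ₗ[F] (Fin m ⊕ Fin m → F) where
  toFun v := Gf' (fun i => τ.symm (v i))
  map_add' v v' := by
    have : (fun i => τ.symm ((v + v') i))
        = (fun i => τ.symm (v i)) + (fun i => τ.symm (v' i)) := by
      ext i
      simp
    rw [this, G.Gfun_add]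
  map_smul' t v := by
    have : (fun i => τ.symm ((t • v) i)) = τ.symm t • (fun i => τ.symm (v i)) := by
      ext i
      simp
    rw [this, G.Gfun_smul]
    simp

/-- the matrix of the similitude -/
noncomputable def Xm : Mt := LinearMap.toMatrix' G.Glin

theorem Xm_mulVec' (v : V) : G.Xm *ᵥ v = Gf' (fun i => τ.symm (v i)) := by
  unfold Xm
  rw [LinearMap.toMatrix'_mulVec]
  rfl

theorem Xm_mulVec (v : V) : G.Xm *ᵥ (fun i => τ (v i)) = Gf' v := by
  rw [G.Xm_mulVec']
  congr 1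
  ext i
  simp

theorem Xm_sim (u v : V) : om (G.Xm *ᵥ u) (G.Xm *ᵥ v) = κ * om u v := by
  rw [G.Xm_mulVec', G.Xm_mulVec', G.Gfun_sim]
  have := om_map (τ.symm : F →+* F) u v
  have e1 : ∀ x : F, (τ.symm : F →+* F) x = τ.symm x := fun _ => rfl
  simp only [e1] at this
  rw [this]
  simp

theorem Xm_det_ne : G.Xm.det ≠ 0 := by
  intro h0
  obtain ⟨v, hv0, hv⟩ := Matrix.exists_mulVec_eq_zero_iff.mpr h0
  obtain ⟨y, hy⟩ := exists_om_ne_zero hv0
  have := G.Xm_sim v y
  rw [hv, om_zero_left] at this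
  rcases mul_eq_zero.mp this.symm with h | h
  · exact G.hκ0 h
  · exact hy h

/-- the conjugation formula -/
theorem Xm_conj (x w : V) (c : F) :
    G.Xm * (Sg x w c).map τ = Sg (Gf' x) (κ⁻¹ • Gf' w) (κ⁻¹ * τ c) * G.Xm := by
  apply mat_ext'
  intro v
  have hv : v = (fun i => τ ((fun j => τ.symm (v j)) i)) := by
    ext i
    simp
  rw [← Matrix.mulVec_mulVec, ← Matrix.mulVec_mulVec]
  conv_lhs => rw [hv]
  have e1 := map_mulVec_fun (τ : F →+* F) (Sg x w c) (fun i => τ.symm (v i))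
  have e2 : (Sg x w c).map (τ : F →+* F) = (Sg x w c).map τ := rfl
  rw [e2] at e1
  have e3 : (fun i => (τ : F →+* F) ((fun j => τ.symm (v j)) i))
      = (fun i => τ ((fun j => τ.symm (v j)) i)) := rfl
  rw [e3] at e1
  rw [← e1]
  have e4 : (fun i => (τ : F →+* F) ((Sg x w c *ᵥ fun i => τ.symm (v i)) i))
      = fun i => τ ((Sg x w c *ᵥ fun i => τ.symm (v i)) i) := rfl
  rw [e4, G.Xm_mulVec, G.Gfun_Sg, G.Xm_mulVec']
  rfl

end GHyp

end matrix

end Cfsg.Agent.Helper7.AutPSp
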