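import Mathlib
import Cfsg.Prelude.Def_LieTypeDatum
import Cfsg.Agent.Helper28.GammaCount4
import Cfsg.Agent.Helper28.GammaCount5
import Cfsg.Agent.Helper28.GammaCount6
import Cfsg.Agent.S2724
import Cfsg.Agent.S2695

set_option autoImplicit false
set_option linter.unusedSectionVars false
set_option linter.unusedVariables false

/-! The order of `gammaPOmega` for the plus-type form `quadFormPlus` (helper7), following
helper28's `GC.card_gamma_minus`. -/

namespace Cfsg.Agent.Helper7.GCP

open Matrix Cfsg.Agent.Helper28.SSim Cfsg.Agent.Helper28.Sg Cfsg.Agent.Helper28.PG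
  Cfsg.Agent.Helper28.Spin Cfsg.Agent.Helper28.IsoTransport Cfsg.Agent.Helper28.OC
  Cfsg.Agent.Helper28.GC

theorem arith_plus (q m : ℕ) (hq : Odd q) :
    Even (m * (q - 1) / 2) ↔ ¬ (Odd m ∧ q % 4 = 3) := by
  obtain ⟨t, rfl⟩ := hq
  have h1 : m * (2 * t + 1 - 1) / 2 = m * t := by
    rw [Nat.add_sub_cancel, ← mul_assoc, mul_comm m 2, mul_assoc,
      Nat.mul_div_cancel_left _ (by norm_num)]
  have h3 : (2 * t + 1) % 4 = 3 ↔ Odd t := by
    constructor
    · intro h
      exact ⟨t / 2, by omega⟩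
    · rintro ⟨s, rfl⟩
      omega
  rw [h1, Nat.even_mul, h3, ← Nat.not_even_iff_odd, ← Nat.not_even_iff_odd]
  tauto

/-- the field automorphisms act on the standard plus-type form -/
theorem semisim_one_plus {F : Type*} [Field F] (m : ℕ) (σ : F ≃+* F) :
    Cfsg.IsSemisimilarityPair (Cfsg.quadFormPlus m F) (1 : GL (Fin m ⊕ Fin m) F) σ := by
  refine ⟨1, fun v => ?_⟩
  rw [Units.val_one, Matrix.one_mulVec, Units.val_one, one_mul]
  unfold Cfsg.quadFormPlus
  rw [map_sum]
  simp only [map_mul]

set_option maxHeartbeats 1600000 in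
/-- the order of `PΓO⁺_{2m}(q)` acting on `PΩ⁺_{2m}(q)` -/
theorem card_gamma_plus {F : Type*} [Field F] [Fintype F] (p f : ℕ) [Fact p.Prime]
    (hF : Fintype.card F = p ^ f) (m : ℕ) (hm : 4 ≤ m) :
    Nat.card ↥(Cfsg.gammaPOmega F (Cfsg.quadFormPlus m F)) =
      (if p = 2 then 2 else (if Even (m * (p ^ f - 1) / 2) then 8 else 4)) * f *
        Nat.card (Cfsg.POmega F (Cfsg.quadFormPlus m F)) := by
  classical
  have hchar : CharP F p := charP_of_card_eq_prime_pow hF
  have hcardι : Fintype.card (Fin m ⊕ Fin m) = 2 * m := by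
    rw [Fintype.card_sum, Fintype.card_fin]; omega
  let a' : Fin 3 → Fin m ⊕ Fin m := fun j => Sum.inl (Fin.castLE (by omega) j)
  let b' : Fin 3 → Fin m ⊕ Fin m := fun j => Sum.inr (Fin.castLE (by omega) j)
  have hinj : Function.Injective (Sum.elim a' b') := by
    intro x y h
    rcases x with x | x <;> rcases y with y | y <;>
      simp only [Sum.elim_inl, Sum.elim_inr, a', b', Sum.inl.injEq, Sum.inr.injEq, reduceCtorEq,
        Fin.castLE_inj] at h
    · rw [h]
    · rw [h]
  let fr : Frame3 (QfPlus m F) := frameOf a' b' hinj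
    (fun j => Cfsg.Agent.S2613.hypPair_plus m _)
  have hQ : (QuadraticMap.polarBilin (QfPlus m F)).Nondegenerate := QfPlus_nondeg (F := F) m
  have hsurj : ∀ σ : F ≃+* F, ∃ g : GL (Fin m ⊕ Fin m) F,
      Cfsg.IsSemisimilarityPair (⇑(QfPlus m F)) g σ := by
    intro σ
    rw [QfPlus_coe]
    exact ⟨1, semisim_one_plus m σ⟩
  by_cases hp : p = 2
  · subst hp
    rw [if_pos rfl]
    have h2 : (2 : F) = 0 := by
      have := CharP.cast_eq_zero F 2
      exact_mod_cast this
    have hgen := hgen_even h2 hQ (Or.inr (by rw [hcardι]; omega))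
    have hperf := Omega_perfect' hQ fr hgen
    have hg := card_gamma (QfPlus m F) hQ fr hperf hsurj
    have hpgo := card_pgoAut_char_two (QfPlus m F) h2 hQ fr hperf (by rw [hcardι]; omega)
    rw [QfPlus_coe] at hg hpgo
    rw [hg, hpgo, card_ringAut_eq hF]
    generalize Nat.card (Cfsg.POmega F (Cfsg.quadFormPlus m F)) = N
    ring
  · rw [if_neg hp]
    have hpodd : Odd p := (Fact.out : p.Prime).odd_of_ne_two hp
    have hodd : Odd (Fintype.card F) := by rw [hF]; exact hpodd.pow
    have h2 : (2 : F) ≠ 0 := by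
      apply Ring.two_ne_zero
      intro h
      rw [FiniteField.even_card_iff_char_two] at h
      rcases hodd with ⟨k, hk⟩
      omega
    have hgen := hgen_odd h2 hQ
    have hperf := Omega_perfect' hQ fr hgen
    have hg := card_gamma (QfPlus m F) hQ fr hperf hsurj
    rw [QfPlus_coe] at hg
    rw [hg, card_ringAut_eq hF]
    have hres := Cfsg.Agent.S2724.result hodd hm
    rw [← QfPlus_coe] at hres
    obtain ⟨hV, hD⟩ := hres
    have harith := arith_plus (p ^ f) m (hpodd.pow)
    rw [← hF] at harith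
    by_cases hcase : Odd m ∧ Fintype.card F % 4 = 3
    · obtain ⟨φ, hs, hker⟩ := hV hcase
      have hc := card_pgoAut_of_hom (QfPlus m F) hQ fr hgen φ hs hker
      rw [QfPlus_coe] at hc
      have hne : ¬ Even (m * (p ^ f - 1) / 2) := by
        rw [← hF, harith]
        push Not
        exact hcase
      rw [if_neg hne, hc]
      have h4 : Nat.card (Multiplicative (ZMod 2 × ZMod 2)) = 4 := by
        rw [Nat.card_eq_fintype_card, Fintype.card_multiplicative, Fintype.card_prod, ZMod.card]
      rw [h4]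
      generalize Nat.card (Cfsg.POmega F (Cfsg.quadFormPlus m F)) = N
      ring
    · obtain ⟨φ, hs, hker⟩ := hD hcase
      have hc := card_pgoAut_of_hom (QfPlus m F) hQ fr hgen φ hs hker
      rw [QfPlus_coe] at hc
      have hev : Even (m * (p ^ f - 1) / 2) := by
        rw [← hF, harith]
        exact hcase
      rw [if_pos hev, hc, DihedralGroup.nat_card]
      generalize Nat.card (Cfsg.POmega F (Cfsg.quadFormPlus m F)) = N
      ring

/-- the centre of `PΩ⁺_{2m}(q)` is trivial -/
theorem center_POmega_plus {F : Type*} [Field F] [Fintype F] (m : ℕ) (hm : 4 ≤ m) :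
    Subgroup.center (Cfsg.POmega F (Cfsg.quadFormPlus m F)) = ⊥ := by
  classical
  have hcardι : Fintype.card (Fin m ⊕ Fin m) = 2 * m := by
    rw [Fintype.card_sum, Fintype.card_fin]; omega
  let a' : Fin 3 → Fin m ⊕ Fin m := fun j => Sum.inl (Fin.castLE (by omega) j)
  let b' : Fin 3 → Fin m ⊕ Fin m := fun j => Sum.inr (Fin.castLE (by omega) j)
  have hinj : Function.Injective (Sum.elim a' b') := by
    intro x y h
    rcases x with x | x <;> rcases y with y | y <;>
      simp only [Sum.elim_inl, Sum.elim_inr, a', b', Sum.inl.injEq, Sum.inr.injEq, reduceCtorEq,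
        Fin.castLE_inj] at h
    · rw [h]
    · rw [h]
  let fr : Frame3 (QfPlus m F) := frameOf a' b' hinj
    (fun j => Cfsg.Agent.S2613.hypPair_plus m _)
  have hQ : (QuadraticMap.polarBilin (QfPlus m F)).Nondegenerate := QfPlus_nondeg (F := F) m
  have hgen : ∀ (H : Subgroup ↥(Cfsg.isometryGroup F ⇑(QfPlus m F))),
      (∀ (v : Fin m ⊕ Fin m → F) (hv : QfPlus m F v ≠ 0), reflO (QfPlus m F) v hv ∈ H) →
        ∀ g, g ∈ H := by
    by_cases h2 : (2 : F) = 0
    · exact hgen_even h2 hQ (Or.inr (by rw [hcardι]; omega))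
    · exact hgen_odd h2 hQ
  have := center_POmega_eq_bot (QfPlus m F) hQ fr hgen
  rw [QfPlus_coe] at this
  exact this

/-- the order of `Aut(PΩ⁺_{2m}(q))` for `m ≥ 5` -/
theorem card_mulAut_plus {F : Type*} [Field F] [Fintype F] (p f : ℕ)
    [Fact p.Prime] (hF : Fintype.card F = p ^ f) (m : ℕ) (hm : 5 ≤ m) :
    Nat.card (MulAut (Cfsg.POmega F (Cfsg.quadFormPlus m F))) =
      (if p = 2 then 2 else (if Even (m * (p ^ f - 1) / 2) then 8 else 4)) * f *
        Nat.card (Cfsg.POmega F (Cfsg.quadFormPlus m F)) := by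
  rw [← card_gamma_plus p f hF m (by omega), Cfsg.Agent.S2695.result hm]
  exact (Nat.card_congr Subgroup.topEquiv.toEquiv).symm

end Cfsg.Agent.Helper7.GCP
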