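import Mathlib
import Cfsg.Agent.Helper2.Aut.OutS4

set_option autoImplicit false
set_option linter.unusedSectionVars false
set_option linter.unusedSimpArgs false
set_option linter.unusedVariables false

/-! The classes of diagonal automorphisms of the Chevalley group of type `D₄` (helper7):
the image of the diagonal automorphisms in `Out` has order `gcd(2, q - 1)²`. -/

namespace Cfsg.Agent.Helper7.OutD4

open Cfsg.Lie Cfsg.Agent.Helper6 Cfsg.Agent.Helper2.BN Cfsg.Agent.Helper2.Levi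
  Cfsg.Agent.Helper2.Aut

/-- linearity of the Cartan integers in the root, as a Boolean check -/
def hLChk : Bool :=
  allLt chevD4.nroots fun r => allLt chevD4.rank fun i =>
    decide (chevD4.cartan i r =
      ((List.range chevD4.rank).map fun k => chevD4.cartan i (chevD4.simple k) * mC chevD4 k r).sum)

set_option maxRecDepth 100000 in
theorem hLChk_true : hLChk = true := by decide +kernel

theorem hL_D4 : ∀ r < chevD4.nroots, ∀ i < chevD4.rank,
    chevD4.cartan i r =
      ∑ k ∈ Finset.range chevD4.rank, chevD4.cartan i (chevD4.simple k) * mC chevD4 k r := by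
  have h := hLChk_true
  simp only [hLChk, allLt_iff, decide_eq_true_eq] at h
  intro r hr i hi
  rw [← sum_list_range]
  exact h r hr i hi

variable {F : Type*} [Field F]

/-- the character of a torus element is the root character with the same values on the
fundamental roots (type `D₄`) -/
theorem torCharU_eq_rootChar_D4 (c : ℕ → Fˣ) {r : ℕ} (hr : r < chevD4.nroots) :
    torCharU chevD4 c r = rootChar chevD4 (fun k => torCharU chevD4 c (chevD4.simple k)) r := by
  unfold rootChar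
  have e : ∏ k ∈ Finset.range chevD4.rank, torCharU chevD4 c (chevD4.simple k) ^ mC chevD4 k r =
      ∏ i ∈ Finset.range chevD4.rank,
        c i ^ (∑ k ∈ Finset.range chevD4.rank,
          chevD4.cartan i (chevD4.simple k) * mC chevD4 k r) :=
    prod_zpow_mat c chevD4.rank chevD4.rank (fun i k => chevD4.cartan i (chevD4.simple k))
      (fun k => mC chevD4 k r)
  rw [e]
  unfold torCharU
  apply Finset.prod_congr rfl
  intro i hi
  rw [← hL_D4 r hr i (Finset.mem_range.1 hi)]

theorem torCharU_D4_simple0 (c : ℕ → Fˣ) :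
    torCharU chevD4 c (chevD4.simple 0) = c 0 ^ (2 : ℤ) * (c 1)⁻¹ := by
  unfold torCharU
  have h0 : chevD4.cartan 0 (chevD4.simple 0) = 2 := by decide
  have h1 : chevD4.cartan 1 (chevD4.simple 0) = -1 := by decide
  have h2 : chevD4.cartan 2 (chevD4.simple 0) = 0 := by decide
  have h3 : chevD4.cartan 3 (chevD4.simple 0) = 0 := by decide
  show ∏ i ∈ Finset.range 4, c i ^ chevD4.cartan i (chevD4.simple 0) = _
  rw [Finset.prod_range_succ, Finset.prod_range_succ, Finset.prod_range_succ,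
    Finset.prod_range_one, h0, h1, h2, h3, zpow_zero, zpow_zero, mul_one, mul_one, zpow_neg_one]

theorem torCharU_D4_simple1 (c : ℕ → Fˣ) :
    torCharU chevD4 c (chevD4.simple 1) = (c 0)⁻¹ * c 1 ^ (2 : ℤ) * (c 2)⁻¹ * (c 3)⁻¹ := by
  unfold torCharU
  have h0 : chevD4.cartan 0 (chevD4.simple 1) = -1 := by decide
  have h1 : chevD4.cartan 1 (chevD4.simple 1) = 2 := by decide
  have h2 : chevD4.cartan 2 (chevD4.simple 1) = -1 := by decide
  have h3 : chevD4.cartan 3 (chevD4.simple 1) = -1 := by decide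
  show ∏ i ∈ Finset.range 4, c i ^ chevD4.cartan i (chevD4.simple 1) = _
  rw [Finset.prod_range_succ, Finset.prod_range_succ, Finset.prod_range_succ,
    Finset.prod_range_one, h0, h1, h2, h3, zpow_neg_one, zpow_neg_one, zpow_neg_one]

theorem torCharU_D4_simple2 (c : ℕ → Fˣ) :
    torCharU chevD4 c (chevD4.simple 2) = (c 1)⁻¹ * c 2 ^ (2 : ℤ) := by
  unfold torCharU
  have h0 : chevD4.cartan 0 (chevD4.simple 2) = 0 := by decide
  have h1 : chevD4.cartan 1 (chevD4.simple 2) = -1 := by decide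
  have h2 : chevD4.cartan 2 (chevD4.simple 2) = 2 := by decide
  have h3 : chevD4.cartan 3 (chevD4.simple 2) = 0 := by decide
  show ∏ i ∈ Finset.range 4, c i ^ chevD4.cartan i (chevD4.simple 2) = _
  rw [Finset.prod_range_succ, Finset.prod_range_succ, Finset.prod_range_succ,
    Finset.prod_range_one, h0, h1, h2, h3, zpow_zero, zpow_zero, one_mul, mul_one, zpow_neg_one]

theorem torCharU_D4_simple3 (c : ℕ → Fˣ) :
    torCharU chevD4 c (chevD4.simple 3) = (c 1)⁻¹ * c 3 ^ (2 : ℤ) := by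
  unfold torCharU
  have h0 : chevD4.cartan 0 (chevD4.simple 3) = 0 := by decide
  have h1 : chevD4.cartan 1 (chevD4.simple 3) = -1 := by decide
  have h2 : chevD4.cartan 2 (chevD4.simple 3) = 0 := by decide
  have h3 : chevD4.cartan 3 (chevD4.simple 3) = 2 := by decide
  show ∏ i ∈ Finset.range 4, c i ^ chevD4.cartan i (chevD4.simple 3) = _
  rw [Finset.prod_range_succ, Finset.prod_range_succ, Finset.prod_range_succ,
    Finset.prod_range_one, h0, h1, h2, h3, zpow_zero, zpow_zero, one_mul, mul_one, zpow_neg_one]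

/-- the parameters of a torus element realising a root character of type `D₄` whose invariants
`a₀ a₂ = s²`, `a₀ a₃ = u²` are squares -/
noncomputable def solD4 (a : ℕ → Fˣ) (s u : Fˣ) (i : ℕ) : Fˣ :=
  if i = 0 then a 1 * s * u
  else if i = 1 then (a 1 * s * u) ^ (2 : ℤ) * (a 0)⁻¹
  else if i = 2 then s * (a 1 * s * u * (a 0)⁻¹)
  else u * (a 1 * s * u * (a 0)⁻¹)

theorem torCharU_solD4 (a : ℕ → Fˣ) (s u : Fˣ) (hs : a 0 * a 2 = s ^ 2) (hu : a 0 * a 3 = u ^ 2)
    {j : ℕ} (hj : j < chevD4.rank) :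
    torCharU chevD4 (solD4 a s u) (chevD4.simple j) = a j := by
  have h4 : chevD4.rank = 4 := rfl
  rw [h4] at hj
  have hs' : ((a 0 : Fˣ) : F) * (a 2 : Fˣ) = (s : F) ^ 2 := by
    rw [← Units.val_mul, hs, Units.val_pow_eq_pow_val]
  have hu' : ((a 0 : Fˣ) : F) * (a 3 : Fˣ) = (u : F) ^ 2 := by
    rw [← Units.val_mul, hu, Units.val_pow_eq_pow_val]
  have n0 : ((a 0 : Fˣ) : F) ≠ 0 := Units.ne_zero _
  have n1 : ((a 1 : Fˣ) : F) ≠ 0 := Units.ne_zero _
  have ns : ((s : Fˣ) : F) ≠ 0 := Units.ne_zero _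
  have nu : ((u : Fˣ) : F) ≠ 0 := Units.ne_zero _
  interval_cases j
  · rw [torCharU_D4_simple0]
    simp only [solD4, if_true, if_false, one_ne_zero]
    apply Units.ext
    simp only [zpow_ofNat, Units.val_mul, Units.val_pow_eq_pow_val, Units.val_inv_eq_inv_val]
    field_simp
  · rw [torCharU_D4_simple1]
    simp only [solD4, if_true, if_false, one_ne_zero, OfNat.ofNat_ne_zero, OfNat.ofNat_ne_one,
      Nat.succ_ne_self, Nat.reduceEqDiff]
    apply Units.ext
    simp only [zpow_ofNat, Units.val_mul, Units.val_pow_eq_pow_val, Units.val_inv_eq_inv_val]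
    field_simp
  · rw [torCharU_D4_simple2]
    simp only [solD4, if_true, if_false, one_ne_zero, OfNat.ofNat_ne_zero, OfNat.ofNat_ne_one,
      Nat.succ_ne_self, Nat.reduceEqDiff]
    apply Units.ext
    simp only [zpow_ofNat, Units.val_mul, Units.val_pow_eq_pow_val, Units.val_inv_eq_inv_val]
    field_simp
    linear_combination (-1 : F) * hs'
  · rw [torCharU_D4_simple3]
    simp only [solD4, if_true, if_false, one_ne_zero, OfNat.ofNat_ne_zero, OfNat.ofNat_ne_one,
      Nat.succ_ne_self, Nat.reduceEqDiff]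
    apply Units.ext
    simp only [zpow_ofNat, Units.val_mul, Units.val_pow_eq_pow_val, Units.val_inv_eq_inv_val]
    field_simp
    linear_combination (-1 : F) * hu'

/-- a diagonal automorphism of type `D₄` with square invariants is inner -/
theorem diagA_inner_D4 (Δ : BNData chevD4 F) (a : ℕ → Fˣ) (s u : Fˣ)
    (hs : a 0 * a 2 = s ^ 2) (hu : a 0 * a 3 = u ^ 2) (y : ↥(chevD4.group F)) :
    diagA isTab_D4 Δ a y = torG Δ (solD4 a s u) * y * (torG Δ (solD4 a s u))⁻¹ := by
  unfold diagA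
  apply diagAut_eq_conj
  intro r hr
  rw [torCharU_eq_rootChar_D4 _ hr]
  exact rootChar_congr (fun k hk => torCharU_solD4 a s u hs hu hk) r

theorem outMk_diagA_eq_one_D4 (Δ : BNData chevD4 F) (a : ℕ → Fˣ) (s u : Fˣ)
    (hs : a 0 * a 2 = s ^ 2) (hu : a 0 * a 3 = u ^ 2) :
    outMk _ (diagA isTab_D4 Δ a) = 1 :=
  (outMk_eq_one_iff _).2 ⟨_, fun y => diagA_inner_D4 Δ a s u hs hu y⟩

/-- the values on the fundamental roots of an inner diagonal automorphism are those of the
character of a torus element -/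
theorem simple_vals_of_inner [Finite F] {D : ChevalleyDatum} (hD : IsTabulated D)
    (Δ : BNData D F) (a : ℕ → Fˣ)
    {x : ↥(D.group F)} (h : ∀ y, diagA hD Δ a y = x * y * x⁻¹) :
    ∃ cU : ℕ → Fˣ, ∀ j < D.rank, a j = torCharU D cU (D.simple j) := by
  have hP := pres_diagAut Δ (rootChar D a) (isRootCharacter_rootChar hD Δ a)
  have hx : x ∈ HG D F := mem_HG_of_conj hD Δ hP.1 hP.2 (Pres.refl _) (Pres.refl _)
    (θ' := MulEquiv.refl _) h
  obtain ⟨c, hc, hxc⟩ := exists_torMat_of_mem_diagonal Δ.hB Δ.hH (mem_HG.1 hx)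
  obtain ⟨cU, hcU⟩ : ∃ cU : ℕ → Fˣ, ∀ i, ((cU i : Fˣ) : F) = c i :=
    ⟨fun i => Units.mk0 (c i) (hc i), fun i => rfl⟩
  have ex : x = torG Δ cU := by
    apply Subtype.ext
    apply Units.ext
    rw [hxc]
    show _ = torMat D F (fun i => ((cU i : Fˣ) : F))
    congr 1
    funext i
    exact (hcU i).symm
  refine ⟨cU, ?_⟩
  intro j hj
  have h1 := h (xG Δ.hB (D.simple j) 1)
  rw [diagA_xG hD Δ a (simple_lt Δ hj), rootChar_simple hD Δ a hj, ex] at h1
  have h2 := congrArg Subtype.val h1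
  simp only [Subgroup.coe_mul, Subgroup.coe_inv, xG_coe, torG] at h2
  rw [torU_conj_xU Δ cU (simple_lt Δ hj), torChar_coe] at h2
  have h3 := Cfsg.Agent.Helper2.HRoot.xU_inj' Δ (simple_lt Δ hj) h2
  rw [mul_one, mul_one] at h3
  exact Units.ext h3

/-- the invariants of an inner diagonal automorphism of type `D₄` are squares -/
theorem squares_of_inner_D4 [Finite F] (Δ : BNData chevD4 F) (a : ℕ → Fˣ)
    {x : ↥(chevD4.group F)} (h : ∀ y, diagA isTab_D4 Δ a y = x * y * x⁻¹) :
    (∃ s : Fˣ, a 0 * a 2 = s ^ 2) ∧ (∃ u : Fˣ, a 0 * a 3 = u ^ 2) := by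
  obtain ⟨c, hc⟩ := simple_vals_of_inner isTab_D4 Δ a h
  have h0 := hc 0 (by decide)
  have h2 := hc 2 (by decide)
  have h3 := hc 3 (by decide)
  rw [torCharU_D4_simple0] at h0
  rw [torCharU_D4_simple2] at h2
  rw [torCharU_D4_simple3] at h3
  have n0 : ((c 0 : Fˣ) : F) ≠ 0 := Units.ne_zero _
  have n1 : ((c 1 : Fˣ) : F) ≠ 0 := Units.ne_zero _
  have n2 : ((c 2 : Fˣ) : F) ≠ 0 := Units.ne_zero _
  have n3 : ((c 3 : Fˣ) : F) ≠ 0 := Units.ne_zero _
  refine ⟨⟨c 0 * c 2 * (c 1)⁻¹, ?_⟩, ⟨c 0 * c 3 * (c 1)⁻¹, ?_⟩⟩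
  · rw [h0, h2]
    apply Units.ext
    simp only [zpow_ofNat, Units.val_mul, Units.val_pow_eq_pow_val, Units.val_inv_eq_inv_val]
    field_simp
  · rw [h0, h3]
    apply Units.ext
    simp only [zpow_ofNat, Units.val_mul, Units.val_pow_eq_pow_val, Units.val_inv_eq_inv_val]
    field_simp

/-- the invariants of a root character of type `D₄` -/
def epsD4 (F : Type*) [Field F] : (ℕ → Fˣ) →* Fˣ × Fˣ where
  toFun a := (a 0 * a 2, a 0 * a 3)
  map_one' := by simp
  map_mul' a b := by
    simp only [Pi.mul_apply, Prod.mk_mul_mk, Prod.mk.injEq]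
    exact ⟨mul_mul_mul_comm _ _ _ _, mul_mul_mul_comm _ _ _ _⟩

theorem epsD4_apply (a : ℕ → Fˣ) : epsD4 F a = (a 0 * a 2, a 0 * a 3) := rfl

theorem epsD4_surjective : Function.Surjective (epsD4 F) := by
  rintro ⟨x, y⟩
  refine ⟨fun i => if i = 2 then x else if i = 3 then y else 1, ?_⟩
  rw [epsD4_apply]
  simp

/-- the kernel of the classes of diagonal automorphisms of type `D₄` -/
theorem ker_dbarHom_D4 [Finite F] (Δ : BNData chevD4 F) :
    (dbarHom isTab_D4 Δ).ker =
      ((powMonoidHom 2 : Fˣ →* Fˣ).range.prod (powMonoidHom 2 : Fˣ →* Fˣ).range).comap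
        (epsD4 F) := by
  ext a
  rw [MonoidHom.mem_ker, Subgroup.mem_comap, Subgroup.mem_prod, epsD4_apply, dbarHom_apply]
  simp only [MonoidHom.mem_range, powMonoidHom_apply]
  constructor
  · intro h
    rw [outMk_eq_one_iff] at h
    obtain ⟨x, hx⟩ := h
    obtain ⟨⟨s, hs⟩, ⟨u, hu⟩⟩ := squares_of_inner_D4 Δ a hx
    exact ⟨⟨s, hs.symm⟩, ⟨u, hu.symm⟩⟩
  · rintro ⟨⟨s, hs⟩, ⟨u, hu⟩⟩
    exact outMk_diagA_eq_one_D4 Δ a s u hs.symm hu.symm

/-- the number of classes of diagonal automorphisms of type `D₄` -/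
theorem card_range_dbarHom_D4 [Finite F] (Δ : BNData chevD4 F) :
    Nat.card (dbarHom isTab_D4 Δ).range = (Nat.gcd (Nat.card F - 1) 2) ^ 2 := by
  rw [← Subgroup.index_ker, ker_dbarHom_D4 Δ, Subgroup.index_comap_of_surjective _ epsD4_surjective,
    Subgroup.index_prod, IsCyclic.index_powMonoidHom_range, Nat.card_units, sq]

/-- the order of `Out` of the Chevalley group of type `D₄` -/
theorem card_out_D4 {F : Type*} [Field F] [Fintype F] (p f : ℕ) [Fact p.Prime] [CharP F p]
    (hF : Fintype.card F = p ^ f) :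
    Nat.card (Cfsg.Out ↥(chevD4.group F)) = (Nat.gcd (p ^ f - 1) 2) ^ 2 * (6 * f) := by
  have Δ := bnData_of_tabulated F isTab_D4
  rw [card_outT isTab_D4 Δ, card_range_dbarHom_D4 Δ, card_symReal_D4 Δ, card_range_psiHom isTab_D4 Δ,
    card_ringAut p f hF, Nat.card_eq_fintype_card, hF]

end Cfsg.Agent.Helper7.OutD4
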