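import Mathlib
import Cfsg.Agent.Helper7.GammaCountPlus
import Cfsg.Agent.Helper7.OutD4a
import Cfsg.Agent.S1082

set_option autoImplicit false
set_option linter.unusedSectionVars false
set_option linter.unusedVariables false

/-! The order of `Aut(PΩ⁺₈(q))` (helper7): via `PΩ⁺₈(q) ≅ D₄(q)` and Steinberg's description of
the automorphisms of the Chevalley group. -/

namespace Cfsg.Agent.Helper7.GCP

open Cfsg.Lie Cfsg.Agent.Helper28.GC

/-- transport of `Out` along an isomorphism -/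
theorem out_congr7 {G H : Type*} [Group G] [Group H] (e : G ≃* H) :
    Nonempty (Cfsg.Out G ≃* Cfsg.Out H) := by
  refine ⟨QuotientGroup.congr (Cfsg.Inn G) (Cfsg.Inn H) (MulAut.congr e) ?_⟩
  ext ψ
  constructor
  · rintro ⟨φ, ⟨g, rfl⟩, rfl⟩
    refine ⟨e g, ?_⟩
    apply MulEquiv.ext
    intro x
    simp [MulAut.congr, MulAut.conj_apply]
  · rintro ⟨h, rfl⟩
    refine ⟨MulAut.conj (e.symm h), ⟨e.symm h, rfl⟩, ?_⟩
    apply MulEquiv.ext
    intro x
    simp [MulAut.congr, MulAut.conj_apply]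

/-- the order of `Out(PΩ⁺₈(q))` -/
theorem card_out_plus4 {F : Type*} [Field F] [Fintype F] (p f : ℕ) [Fact p.Prime]
    (hF : Fintype.card F = p ^ f) :
    Nat.card (Cfsg.Out (Cfsg.POmega F (Cfsg.quadFormPlus 4 F))) =
      (Nat.gcd (p ^ f - 1) 2) ^ 2 * (6 * f) := by
  have hchar : CharP F p := charP_of_card_eq_prime_pow hF
  obtain ⟨e⟩ := Cfsg.Agent.S1082.result (F := F)
  obtain ⟨eo⟩ := out_congr7 e
  rw [← Nat.card_congr eo.toEquiv, Cfsg.Agent.Helper7.OutD4.card_out_D4 p f hF]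

/-- the order of `Aut(PΩ⁺₈(q))` -/
theorem card_mulAut_plus4 {F : Type*} [Field F] [Fintype F] (p f : ℕ) [Fact p.Prime]
    (hF : Fintype.card F = p ^ f) :
    Nat.card (MulAut (Cfsg.POmega F (Cfsg.quadFormPlus 4 F))) =
      3 * (if p = 2 then 2 else 8) * f * Nat.card (Cfsg.POmega F (Cfsg.quadFormPlus 4 F)) := by
  have h1 := Subgroup.card_eq_card_quotient_mul_card_subgroup
    (Cfsg.Inn (Cfsg.POmega F (Cfsg.quadFormPlus 4 F)))
  have h2 := card_Inn_of_center_eq_bot (center_POmega_plus (F := F) 4 le_rfl)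
  have h3 := card_out_plus4 p f hF
  rw [h1, h2]
  have h4 : Nat.card (MulAut (Cfsg.POmega F (Cfsg.quadFormPlus 4 F)) ⧸
      Cfsg.Inn (Cfsg.POmega F (Cfsg.quadFormPlus 4 F))) = (Nat.gcd (p ^ f - 1) 2) ^ 2 * (6 * f) := h3
  rw [h4]
  by_cases hp : p = 2
  · subst hp
    rw [if_pos rfl]
    rcases Nat.eq_zero_or_pos f with rfl | hf
    · simp
    · have hg : Nat.gcd (2 ^ f - 1) 2 = 1 := by
        have hodd : Odd (2 ^ f - 1) := by
          have : Even (2 ^ f) := (Nat.even_pow.2 ⟨even_two, by omega⟩)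
          have hpos : 0 < 2 ^ f := by positivity
          rcases this with ⟨k, hk⟩
          exact ⟨k - 1, by omega⟩
        exact Nat.Coprime.gcd_eq_one (Nat.coprime_two_right.2 hodd)
      rw [hg]
      ring
  · rw [if_neg hp]
    have hpodd : Odd p := (Fact.out : p.Prime).odd_of_ne_two hp
    have hg : Nat.gcd (p ^ f - 1) 2 = 2 := by
      have hodd : Odd (p ^ f) := hpodd.pow
      rcases hodd with ⟨k, hk⟩
      rw [hk, Nat.add_sub_cancel]
      exact Nat.gcd_eq_right (Dvd.intro _ rfl)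
    rw [hg]
    ring

end Cfsg.Agent.Helper7.GCP
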