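import Mathlib

/-!
# The exceptional endomorphism of `Sp₄(F)` in characteristic two, part a (helper7)

For a `4 × 4` matrix `g` we form the `4 × 4` matrix `gam g` of those `2 × 2` minors of `g` whose
row and column pairs are `(e₁,e₂), (e₁,f₂), (f₁,f₂), (f₁,e₂)`.  In characteristic two `gam` is
multiplicative on `Sp₄(F)` and maps `Sp₄(F)` to itself (the action on `ω^⊥/ω` inside the exterior
square).
-/

set_option autoImplicit false
set_option linter.unusedSectionVars false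
set_option linter.unusedVariables false
set_option linter.unusedSimpArgs false

namespace Cfsg.Agent.Helper7.AutSp4

open Matrix

variable {F : Type*} [Field F]

/-- the index type -/
abbrev I4 := Fin 2 ⊕ Fin 2

/-- first member of the pair attached to an index -/
def pr1 : I4 → I4 := Sum.elim ![Sum.inl 0, Sum.inl 0] ![Sum.inr 0, Sum.inr 0]
/-- second member of the pair attached to an index -/
def pr2 : I4 → I4 := Sum.elim ![Sum.inl 1, Sum.inr 1] ![Sum.inr 1, Sum.inl 1]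

@[simp] theorem pr1_inl0 : pr1 (Sum.inl 0) = Sum.inl 0 := rfl
@[simp] theorem pr1_inl1 : pr1 (Sum.inl 1) = Sum.inl 0 := rfl
@[simp] theorem pr1_inr0 : pr1 (Sum.inr 0) = Sum.inr 0 := rfl
@[simp] theorem pr1_inr1 : pr1 (Sum.inr 1) = Sum.inr 0 := rfl
@[simp] theorem pr2_inl0 : pr2 (Sum.inl 0) = Sum.inl 1 := rfl
@[simp] theorem pr2_inl1 : pr2 (Sum.inl 1) = Sum.inr 1 := rfl
@[simp] theorem pr2_inr0 : pr2 (Sum.inr 0) = Sum.inr 1 := rfl
@[simp] theorem pr2_inr1 : pr2 (Sum.inr 1) = Sum.inl 1 := rfl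

/-- the matrix of selected `2 × 2` minors -/
def gam (g : Matrix I4 I4 F) : Matrix I4 I4 F :=
  Matrix.of fun I J =>
    g (pr1 I) (pr1 J) * g (pr2 I) (pr2 J) - g (pr1 I) (pr2 J) * g (pr2 I) (pr1 J)

theorem gam_apply (g : Matrix I4 I4 F) (I J : I4) :
    gam g I J
      = g (pr1 I) (pr1 J) * g (pr2 I) (pr2 J) - g (pr1 I) (pr2 J) * g (pr2 I) (pr1 J) := rfl

theorem gam_transpose (g : Matrix I4 I4 F) : gam gᵀ = (gam g)ᵀ := by
  ext I J
  rw [Matrix.transpose_apply, gam_apply, gam_apply]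
  simp only [Matrix.transpose_apply]
  ring

/-- Cauchy–Binet for `2 × 2` minors of `4 × 4` matrices -/
theorem cb (g h : Matrix I4 I4 F) (a b c d : I4) :
    (g * h) a c * (g * h) b d - (g * h) a d * (g * h) b c
      = (g a (Sum.inl 0) * g b (Sum.inl 1) - g a (Sum.inl 1) * g b (Sum.inl 0)) *
          (h (Sum.inl 0) c * h (Sum.inl 1) d - h (Sum.inl 0) d * h (Sum.inl 1) c)
        + (g a (Sum.inl 0) * g b (Sum.inr 1) - g a (Sum.inr 1) * g b (Sum.inl 0)) *
          (h (Sum.inl 0) c * h (Sum.inr 1) d - h (Sum.inl 0) d * h (Sum.inr 1) c)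
        + (g a (Sum.inr 0) * g b (Sum.inr 1) - g a (Sum.inr 1) * g b (Sum.inr 0)) *
          (h (Sum.inr 0) c * h (Sum.inr 1) d - h (Sum.inr 0) d * h (Sum.inr 1) c)
        + (g a (Sum.inr 0) * g b (Sum.inl 1) - g a (Sum.inl 1) * g b (Sum.inr 0)) *
          (h (Sum.inr 0) c * h (Sum.inl 1) d - h (Sum.inr 0) d * h (Sum.inl 1) c)
        + (g a (Sum.inl 0) * g b (Sum.inr 0) - g a (Sum.inr 0) * g b (Sum.inl 0)) *
          (h (Sum.inl 0) c * h (Sum.inr 0) d - h (Sum.inl 0) d * h (Sum.inr 0) c)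
        + (g a (Sum.inl 1) * g b (Sum.inr 1) - g a (Sum.inr 1) * g b (Sum.inl 1)) *
          (h (Sum.inl 1) c * h (Sum.inr 1) d - h (Sum.inl 1) d * h (Sum.inr 1) c) := by
  simp only [Matrix.mul_apply, Fintype.sum_sum_type, Fin.sum_univ_two]
  ring

theorem row_rel {g : Matrix I4 I4 F} (hg : g ∈ symplecticGroup (Fin 2) F) (I : I4) :
    (g (pr1 I) (Sum.inl 0) * g (pr2 I) (Sum.inr 0) - g (pr1 I) (Sum.inr 0) * g (pr2 I) (Sum.inl 0))
    + (g (pr1 I) (Sum.inl 1) * g (pr2 I) (Sum.inr 1) - g (pr1 I) (Sum.inr 1) * g (pr2 I) (Sum.inl 1))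
      = 0 := by
  rw [SymplecticGroup.mem_iff] at hg
  have h := congrFun (congrFun hg (pr1 I)) (pr2 I)
  rw [Matrix.mul_apply] at h
  simp only [Matrix.mul_apply, Fintype.sum_sum_type, Fin.sum_univ_two, Matrix.transpose_apply] at h
  rcases I with I | I <;> fin_cases I <;>
    simp [J, Matrix.fromBlocks, Matrix.one_apply] at h ⊢ <;> linear_combination -h

theorem col_rel {g : Matrix I4 I4 F} (hg : g ∈ symplecticGroup (Fin 2) F) (I : I4) :
    (g (Sum.inl 0) (pr1 I) * g (Sum.inr 0) (pr2 I) - g (Sum.inr 0) (pr1 I) * g (Sum.inl 0) (pr2 I))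
    + (g (Sum.inl 1) (pr1 I) * g (Sum.inr 1) (pr2 I) - g (Sum.inr 1) (pr1 I) * g (Sum.inl 1) (pr2 I))
      = 0 := by
  have h := row_rel (SymplecticGroup.transpose_mem hg) I
  simp only [Matrix.transpose_apply] at h
  exact h

variable [CharP F 2]

/-- **multiplicativity** of `gam` on the symplectic group in characteristic two -/
theorem gam_mul {g h : Matrix I4 I4 F} (hg : g ∈ symplecticGroup (Fin 2) F)
    (hh : h ∈ symplecticGroup (Fin 2) F) : gam (g * h) = gam g * gam h := by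
  have h2 : (2 : F) = 0 := CharTwo.two_eq_zero
  ext I J
  have hr := row_rel hg I
  have hc := col_rel hh J
  rw [Matrix.mul_apply, Fintype.sum_sum_type, Fin.sum_univ_two, Fin.sum_univ_two]
  rw [gam_apply, cb g h (pr1 I) (pr2 I) (pr1 J) (pr2 J)]
  simp only [gam_apply, pr1_inl0, pr1_inl1, pr1_inr0, pr1_inr1, pr2_inl0, pr2_inl1, pr2_inr0,
    pr2_inr1]
  linear_combination
    (h (Sum.inl 1) (pr1 J) * h (Sum.inr 1) (pr2 J) - h (Sum.inl 1) (pr2 J) * h (Sum.inr 1) (pr1 J))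
      * hr
    + (g (pr1 I) (Sum.inl 0) * g (pr2 I) (Sum.inr 0) - g (pr1 I) (Sum.inr 0) * g (pr2 I) (Sum.inl 0))
      * hc
    - (g (pr1 I) (Sum.inl 0) * g (pr2 I) (Sum.inr 0) - g (pr1 I) (Sum.inr 0) * g (pr2 I) (Sum.inl 0))
      * (h (Sum.inl 1) (pr1 J) * h (Sum.inr 1) (pr2 J) - h (Sum.inl 1) (pr2 J) * h (Sum.inr 1) (pr1 J))
      * h2


omit [CharP F 2] in
theorem gam_one : gam (1 : Matrix I4 I4 F) = 1 := by
  ext I J
  rw [gam_apply]
  rcases I with I | I <;> fin_cases I <;> rcases J with J | J <;> fin_cases J <;>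
    simp [Matrix.one_apply]

theorem J_char_two : J (Fin 2) F = Matrix.fromBlocks 0 1 1 0 := by
  have h2 : (2 : F) = 0 := CharTwo.two_eq_zero
  unfold J
  congr 1
  ext i j
  rw [Matrix.neg_apply]
  linear_combination (-(1 : Matrix (Fin 2) (Fin 2) F) i j) * h2

theorem gam_J : gam (J (Fin 2) F) = J (Fin 2) F := by
  rw [J_char_two]
  ext I J
  rw [gam_apply]
  rcases I with I | I <;> fin_cases I <;> rcases J with J | J <;> fin_cases J <;>
    simp [Matrix.fromBlocks, Matrix.one_apply]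

theorem J_mul_J : J (Fin 2) F * J (Fin 2) F = 1 := by
  have h2 : (2 : F) = 0 := CharTwo.two_eq_zero
  rw [J_squared]
  ext i j
  rw [Matrix.neg_apply]
  linear_combination (-(1 : Matrix I4 I4 F) i j) * h2

/-- `gam` maps the symplectic group to itself -/
theorem gam_mem {g : Matrix I4 I4 F} (hg : g ∈ symplecticGroup (Fin 2) F) :
    gam g ∈ symplecticGroup (Fin 2) F := by
  have hJ : J (Fin 2) F ∈ symplecticGroup (Fin 2) F := SymplecticGroup.J_mem _ _
  have hT : gᵀ ∈ symplecticGroup (Fin 2) F := SymplecticGroup.transpose_mem hg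
  -- `g * (J * gᵀ * J) = 1`
  have h1 : g * (J (Fin 2) F * gᵀ * J (Fin 2) F) = 1 := by
    have := (SymplecticGroup.mem_iff.1 hg)
    calc g * (J (Fin 2) F * gᵀ * J (Fin 2) F)
        = (g * J (Fin 2) F * gᵀ) * J (Fin 2) F := by simp only [Matrix.mul_assoc]
      _ = 1 := by rw [this, J_mul_J]
  have h2 : gam g * (J (Fin 2) F * (gam g)ᵀ * J (Fin 2) F) = 1 := by
    have hJT : J (Fin 2) F * gᵀ ∈ symplecticGroup (Fin 2) F := Subsemigroup.mul_mem _ hJ hT
    have hJTJ : J (Fin 2) F * gᵀ * J (Fin 2) F ∈ symplecticGroup (Fin 2) F :=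
      Subsemigroup.mul_mem _ hJT hJ
    calc gam g * (J (Fin 2) F * (gam g)ᵀ * J (Fin 2) F)
        = gam g * (gam (J (Fin 2) F) * gam gᵀ * gam (J (Fin 2) F)) := by
          rw [gam_J, gam_transpose]
      _ = gam g * gam (J (Fin 2) F * gᵀ * J (Fin 2) F) := by
          rw [gam_mul hJT hJ, gam_mul hJ hT]
      _ = gam (g * (J (Fin 2) F * gᵀ * J (Fin 2) F)) := (gam_mul hg hJTJ).symm
      _ = 1 := by rw [h1, gam_one]
  rw [SymplecticGroup.mem_iff]
  calc gam g * J (Fin 2) F * (gam g)ᵀ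
      = (gam g * (J (Fin 2) F * (gam g)ᵀ * J (Fin 2) F)) * J (Fin 2) F := by
        simp only [Matrix.mul_assoc]
        rw [J_mul_J, Matrix.mul_one]
    _ = J (Fin 2) F := by rw [h2, Matrix.one_mul]

/-- the exceptional endomorphism of `Sp₄(F)` -/
def gamHom : symplecticGroup (Fin 2) F →* symplecticGroup (Fin 2) F where
  toFun g := ⟨gam g.1, gam_mem g.2⟩
  map_one' := Subtype.ext gam_one
  map_mul' g h := Subtype.ext (gam_mul g.2 h.2)

theorem gamHom_coe (g : symplecticGroup (Fin 2) F) : (gamHom g).1 = gam g.1 := rfl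

end Cfsg.Agent.Helper7.AutSp4
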