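import Cfsg.Agent.Helper7.AutSp4a
import Cfsg.Agent.Helper7.AutPSp20

/-!
# The exceptional endomorphism of `Sp₄(F)` in characteristic two, part b (helper7)

On transvections `gam ∘ gam` is the Frobenius map; hence `gam ∘ gam` is the Frobenius
automorphism of `Sp₄(F)` and `gam` is an automorphism for finite `F`.
-/

set_option autoImplicit false
set_option linter.unusedSectionVars false
set_option linter.unusedVariables false
set_option linter.unusedSimpArgs false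

namespace Cfsg.Agent.Helper7.AutSp4

open Matrix Cfsg.Agent.Helper2.Sp Cfsg.Agent.Helper7.AutPSp

variable {F : Type*} [Field F]

/-- a vector given by its four coordinates -/
def vec4 (a1 a2 b1 b2 : F) : I4 → F := Sum.elim ![a1, a2] ![b1, b2]

theorem vec4_eta (v : I4 → F) :
    v = vec4 (v (Sum.inl 0)) (v (Sum.inl 1)) (v (Sum.inr 0)) (v (Sum.inr 1)) := by
  funext i
  rcases i with i | i <;> fin_cases i <;> rfl

/-- the transvection matrix in characteristic two, entrywise -/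
def Tm (v : I4 → F) (c : F) : Matrix I4 I4 F :=
  Matrix.of fun a b => (if a = b then 1 else 0) +
    c * v a * (Sum.elim (fun j => v (Sum.inr j)) (fun j => v (Sum.inl j)) b)

variable [CharP F 2]

theorem T_eq_Tm (v : I4 → F) (c : F) : T v c = Tm v c := by
  have h2 : (2 : F) = 0 := CharTwo.two_eq_zero
  ext a b
  unfold T Tm
  rw [Matrix.add_apply, Matrix.smul_apply, Matrix.one_apply, Matrix.of_apply, vecMulVec_apply,
    smul_eq_mul, mul_assoc]
  congr 2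
  rcases b with b | b
  · simp [Matrix.vecMul, dotProduct, J, Matrix.fromBlocks, Fintype.sum_sum_type, Matrix.one_apply]
  · simp [Matrix.vecMul, dotProduct, J, Matrix.fromBlocks, Fintype.sum_sum_type, Matrix.one_apply]
    linear_combination (-(v a * v (Sum.inl b))) * h2

/-- **`gam ∘ gam` is Frobenius on transvections** -/
theorem gam_gam_Tm (a1 a2 b1 b2 c : F) :
    gam (gam (Tm (vec4 a1 a2 b1 b2) c)) = Tm (vec4 (a1 ^ 2) (a2 ^ 2) (b1 ^ 2) (b2 ^ 2)) (c ^ 2) := by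
  have h2 : (2 : F) = 0 := CharTwo.two_eq_zero
  have e_inl0_inl0 : gam (gam (Tm (vec4 a1 a2 b1 b2) c)) (Sum.inl 0) (Sum.inl 0) =
      Tm (vec4 (a1 ^ 2) (a2 ^ 2) (b1 ^ 2) (b2 ^ 2)) (c ^ 2) (Sum.inl 0) (Sum.inl 0) := by
    simp only [gam_apply, pr1_inl0, pr1_inl1, pr1_inr0, pr1_inr1, pr2_inl0, pr2_inl1, pr2_inr0,
      pr2_inr1, Tm, Matrix.of_apply, vec4, Sum.elim_inl, Sum.elim_inr, Matrix.cons_val_zero,
      Matrix.cons_val_one, Matrix.head_cons, reduceCtorEq, Sum.inl.injEq, Sum.inr.injEq,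
      Fin.isValue, if_true, if_false, zero_ne_one, one_ne_zero]
    linear_combination ((1) * a1 * a2 * b1 * b2 * c ^ 2 + (1) * a1 * b1 * c + (1) * a2 * b2 * c) * h2
  have e_inl0_inl1 : gam (gam (Tm (vec4 a1 a2 b1 b2) c)) (Sum.inl 0) (Sum.inl 1) =
      Tm (vec4 (a1 ^ 2) (a2 ^ 2) (b1 ^ 2) (b2 ^ 2)) (c ^ 2) (Sum.inl 0) (Sum.inl 1) := by
    simp only [gam_apply, pr1_inl0, pr1_inl1, pr1_inr0, pr1_inr1, pr2_inl0, pr2_inl1, pr2_inr0,
      pr2_inr1, Tm, Matrix.of_apply, vec4, Sum.elim_inl, Sum.elim_inr, Matrix.cons_val_zero,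
      Matrix.cons_val_one, Matrix.head_cons, reduceCtorEq, Sum.inl.injEq, Sum.inr.injEq,
      Fin.isValue, if_true, if_false, zero_ne_one, one_ne_zero]
    linear_combination ((-1) * a1 ^ 2 * b2 ^ 2 * c ^ 2) * h2
  have e_inl0_inr0 : gam (gam (Tm (vec4 a1 a2 b1 b2) c)) (Sum.inl 0) (Sum.inr 0) =
      Tm (vec4 (a1 ^ 2) (a2 ^ 2) (b1 ^ 2) (b2 ^ 2)) (c ^ 2) (Sum.inl 0) (Sum.inr 0) := by
    simp only [gam_apply, pr1_inl0, pr1_inl1, pr1_inr0, pr1_inr1, pr2_inl0, pr2_inl1, pr2_inr0,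
      pr2_inr1, Tm, Matrix.of_apply, vec4, Sum.elim_inl, Sum.elim_inr, Matrix.cons_val_zero,
      Matrix.cons_val_one, Matrix.head_cons, reduceCtorEq, Sum.inl.injEq, Sum.inr.injEq,
      Fin.isValue, if_true, if_false, zero_ne_one, one_ne_zero]
    linear_combination ((-1) * a1 ^ 4 * c ^ 2) * h2
  have e_inl0_inr1 : gam (gam (Tm (vec4 a1 a2 b1 b2) c)) (Sum.inl 0) (Sum.inr 1) =
      Tm (vec4 (a1 ^ 2) (a2 ^ 2) (b1 ^ 2) (b2 ^ 2)) (c ^ 2) (Sum.inl 0) (Sum.inr 1) := by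
    simp only [gam_apply, pr1_inl0, pr1_inl1, pr1_inr0, pr1_inr1, pr2_inl0, pr2_inl1, pr2_inr0,
      pr2_inr1, Tm, Matrix.of_apply, vec4, Sum.elim_inl, Sum.elim_inr, Matrix.cons_val_zero,
      Matrix.cons_val_one, Matrix.head_cons, reduceCtorEq, Sum.inl.injEq, Sum.inr.injEq,
      Fin.isValue, if_true, if_false, zero_ne_one, one_ne_zero]
    linear_combination ((-1) * a1 ^ 2 * a2 ^ 2 * c ^ 2) * h2
  have e_inl1_inl0 : gam (gam (Tm (vec4 a1 a2 b1 b2) c)) (Sum.inl 1) (Sum.inl 0) =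
      Tm (vec4 (a1 ^ 2) (a2 ^ 2) (b1 ^ 2) (b2 ^ 2)) (c ^ 2) (Sum.inl 1) (Sum.inl 0) := by
    simp only [gam_apply, pr1_inl0, pr1_inl1, pr1_inr0, pr1_inr1, pr2_inl0, pr2_inl1, pr2_inr0,
      pr2_inr1, Tm, Matrix.of_apply, vec4, Sum.elim_inl, Sum.elim_inr, Matrix.cons_val_zero,
      Matrix.cons_val_one, Matrix.head_cons, reduceCtorEq, Sum.inl.injEq, Sum.inr.injEq,
      Fin.isValue, if_true, if_false, zero_ne_one, one_ne_zero]
    linear_combination ((-1) * a2 ^ 2 * b1 ^ 2 * c ^ 2) * h2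
  have e_inl1_inl1 : gam (gam (Tm (vec4 a1 a2 b1 b2) c)) (Sum.inl 1) (Sum.inl 1) =
      Tm (vec4 (a1 ^ 2) (a2 ^ 2) (b1 ^ 2) (b2 ^ 2)) (c ^ 2) (Sum.inl 1) (Sum.inl 1) := by
    simp only [gam_apply, pr1_inl0, pr1_inl1, pr1_inr0, pr1_inr1, pr2_inl0, pr2_inl1, pr2_inr0,
      pr2_inr1, Tm, Matrix.of_apply, vec4, Sum.elim_inl, Sum.elim_inr, Matrix.cons_val_zero,
      Matrix.cons_val_one, Matrix.head_cons, reduceCtorEq, Sum.inl.injEq, Sum.inr.injEq,
      Fin.isValue, if_true, if_false, zero_ne_one, one_ne_zero]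
    linear_combination ((1) * a1 * a2 * b1 * b2 * c ^ 2 + (1) * a1 * b1 * c + (1) * a2 * b2 * c) * h2
  have e_inl1_inr0 : gam (gam (Tm (vec4 a1 a2 b1 b2) c)) (Sum.inl 1) (Sum.inr 0) =
      Tm (vec4 (a1 ^ 2) (a2 ^ 2) (b1 ^ 2) (b2 ^ 2)) (c ^ 2) (Sum.inl 1) (Sum.inr 0) := by
    simp only [gam_apply, pr1_inl0, pr1_inl1, pr1_inr0, pr1_inr1, pr2_inl0, pr2_inl1, pr2_inr0,
      pr2_inr1, Tm, Matrix.of_apply, vec4, Sum.elim_inl, Sum.elim_inr, Matrix.cons_val_zero,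
      Matrix.cons_val_one, Matrix.head_cons, reduceCtorEq, Sum.inl.injEq, Sum.inr.injEq,
      Fin.isValue, if_true, if_false, zero_ne_one, one_ne_zero]
    linear_combination ((-1) * a1 ^ 2 * a2 ^ 2 * c ^ 2) * h2
  have e_inl1_inr1 : gam (gam (Tm (vec4 a1 a2 b1 b2) c)) (Sum.inl 1) (Sum.inr 1) =
      Tm (vec4 (a1 ^ 2) (a2 ^ 2) (b1 ^ 2) (b2 ^ 2)) (c ^ 2) (Sum.inl 1) (Sum.inr 1) := by
    simp only [gam_apply, pr1_inl0, pr1_inl1, pr1_inr0, pr1_inr1, pr2_inl0, pr2_inl1, pr2_inr0,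
      pr2_inr1, Tm, Matrix.of_apply, vec4, Sum.elim_inl, Sum.elim_inr, Matrix.cons_val_zero,
      Matrix.cons_val_one, Matrix.head_cons, reduceCtorEq, Sum.inl.injEq, Sum.inr.injEq,
      Fin.isValue, if_true, if_false, zero_ne_one, one_ne_zero]
    linear_combination ((-1) * a2 ^ 4 * c ^ 2) * h2
  have e_inr0_inl0 : gam (gam (Tm (vec4 a1 a2 b1 b2) c)) (Sum.inr 0) (Sum.inl 0) =
      Tm (vec4 (a1 ^ 2) (a2 ^ 2) (b1 ^ 2) (b2 ^ 2)) (c ^ 2) (Sum.inr 0) (Sum.inl 0) := by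
    simp only [gam_apply, pr1_inl0, pr1_inl1, pr1_inr0, pr1_inr1, pr2_inl0, pr2_inl1, pr2_inr0,
      pr2_inr1, Tm, Matrix.of_apply, vec4, Sum.elim_inl, Sum.elim_inr, Matrix.cons_val_zero,
      Matrix.cons_val_one, Matrix.head_cons, reduceCtorEq, Sum.inl.injEq, Sum.inr.injEq,
      Fin.isValue, if_true, if_false, zero_ne_one, one_ne_zero]
    linear_combination ((-1) * b1 ^ 4 * c ^ 2) * h2
  have e_inr0_inl1 : gam (gam (Tm (vec4 a1 a2 b1 b2) c)) (Sum.inr 0) (Sum.inl 1) =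
      Tm (vec4 (a1 ^ 2) (a2 ^ 2) (b1 ^ 2) (b2 ^ 2)) (c ^ 2) (Sum.inr 0) (Sum.inl 1) := by
    simp only [gam_apply, pr1_inl0, pr1_inl1, pr1_inr0, pr1_inr1, pr2_inl0, pr2_inl1, pr2_inr0,
      pr2_inr1, Tm, Matrix.of_apply, vec4, Sum.elim_inl, Sum.elim_inr, Matrix.cons_val_zero,
      Matrix.cons_val_one, Matrix.head_cons, reduceCtorEq, Sum.inl.injEq, Sum.inr.injEq,
      Fin.isValue, if_true, if_false, zero_ne_one, one_ne_zero]
    linear_combination ((-1) * b1 ^ 2 * b2 ^ 2 * c ^ 2) * h2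
  have e_inr0_inr0 : gam (gam (Tm (vec4 a1 a2 b1 b2) c)) (Sum.inr 0) (Sum.inr 0) =
      Tm (vec4 (a1 ^ 2) (a2 ^ 2) (b1 ^ 2) (b2 ^ 2)) (c ^ 2) (Sum.inr 0) (Sum.inr 0) := by
    simp only [gam_apply, pr1_inl0, pr1_inl1, pr1_inr0, pr1_inr1, pr2_inl0, pr2_inl1, pr2_inr0,
      pr2_inr1, Tm, Matrix.of_apply, vec4, Sum.elim_inl, Sum.elim_inr, Matrix.cons_val_zero,
      Matrix.cons_val_one, Matrix.head_cons, reduceCtorEq, Sum.inl.injEq, Sum.inr.injEq,
      Fin.isValue, if_true, if_false, zero_ne_one, one_ne_zero]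
    linear_combination ((1) * a1 * a2 * b1 * b2 * c ^ 2 + (1) * a1 * b1 * c + (1) * a2 * b2 * c) * h2
  have e_inr0_inr1 : gam (gam (Tm (vec4 a1 a2 b1 b2) c)) (Sum.inr 0) (Sum.inr 1) =
      Tm (vec4 (a1 ^ 2) (a2 ^ 2) (b1 ^ 2) (b2 ^ 2)) (c ^ 2) (Sum.inr 0) (Sum.inr 1) := by
    simp only [gam_apply, pr1_inl0, pr1_inl1, pr1_inr0, pr1_inr1, pr2_inl0, pr2_inl1, pr2_inr0,
      pr2_inr1, Tm, Matrix.of_apply, vec4, Sum.elim_inl, Sum.elim_inr, Matrix.cons_val_zero,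
      Matrix.cons_val_one, Matrix.head_cons, reduceCtorEq, Sum.inl.injEq, Sum.inr.injEq,
      Fin.isValue, if_true, if_false, zero_ne_one, one_ne_zero]
    linear_combination ((-1) * a2 ^ 2 * b1 ^ 2 * c ^ 2) * h2
  have e_inr1_inl0 : gam (gam (Tm (vec4 a1 a2 b1 b2) c)) (Sum.inr 1) (Sum.inl 0) =
      Tm (vec4 (a1 ^ 2) (a2 ^ 2) (b1 ^ 2) (b2 ^ 2)) (c ^ 2) (Sum.inr 1) (Sum.inl 0) := by
    simp only [gam_apply, pr1_inl0, pr1_inl1, pr1_inr0, pr1_inr1, pr2_inl0, pr2_inl1, pr2_inr0,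
      pr2_inr1, Tm, Matrix.of_apply, vec4, Sum.elim_inl, Sum.elim_inr, Matrix.cons_val_zero,
      Matrix.cons_val_one, Matrix.head_cons, reduceCtorEq, Sum.inl.injEq, Sum.inr.injEq,
      Fin.isValue, if_true, if_false, zero_ne_one, one_ne_zero]
    linear_combination ((-1) * b1 ^ 2 * b2 ^ 2 * c ^ 2) * h2
  have e_inr1_inl1 : gam (gam (Tm (vec4 a1 a2 b1 b2) c)) (Sum.inr 1) (Sum.inl 1) =
      Tm (vec4 (a1 ^ 2) (a2 ^ 2) (b1 ^ 2) (b2 ^ 2)) (c ^ 2) (Sum.inr 1) (Sum.inl 1) := by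
    simp only [gam_apply, pr1_inl0, pr1_inl1, pr1_inr0, pr1_inr1, pr2_inl0, pr2_inl1, pr2_inr0,
      pr2_inr1, Tm, Matrix.of_apply, vec4, Sum.elim_inl, Sum.elim_inr, Matrix.cons_val_zero,
      Matrix.cons_val_one, Matrix.head_cons, reduceCtorEq, Sum.inl.injEq, Sum.inr.injEq,
      Fin.isValue, if_true, if_false, zero_ne_one, one_ne_zero]
    linear_combination ((-1) * b2 ^ 4 * c ^ 2) * h2
  have e_inr1_inr0 : gam (gam (Tm (vec4 a1 a2 b1 b2) c)) (Sum.inr 1) (Sum.inr 0) =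
      Tm (vec4 (a1 ^ 2) (a2 ^ 2) (b1 ^ 2) (b2 ^ 2)) (c ^ 2) (Sum.inr 1) (Sum.inr 0) := by
    simp only [gam_apply, pr1_inl0, pr1_inl1, pr1_inr0, pr1_inr1, pr2_inl0, pr2_inl1, pr2_inr0,
      pr2_inr1, Tm, Matrix.of_apply, vec4, Sum.elim_inl, Sum.elim_inr, Matrix.cons_val_zero,
      Matrix.cons_val_one, Matrix.head_cons, reduceCtorEq, Sum.inl.injEq, Sum.inr.injEq,
      Fin.isValue, if_true, if_false, zero_ne_one, one_ne_zero]
    linear_combination ((-1) * a1 ^ 2 * b2 ^ 2 * c ^ 2) * h2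
  have e_inr1_inr1 : gam (gam (Tm (vec4 a1 a2 b1 b2) c)) (Sum.inr 1) (Sum.inr 1) =
      Tm (vec4 (a1 ^ 2) (a2 ^ 2) (b1 ^ 2) (b2 ^ 2)) (c ^ 2) (Sum.inr 1) (Sum.inr 1) := by
    simp only [gam_apply, pr1_inl0, pr1_inl1, pr1_inr0, pr1_inr1, pr2_inl0, pr2_inl1, pr2_inr0,
      pr2_inr1, Tm, Matrix.of_apply, vec4, Sum.elim_inl, Sum.elim_inr, Matrix.cons_val_zero,
      Matrix.cons_val_one, Matrix.head_cons, reduceCtorEq, Sum.inl.injEq, Sum.inr.injEq,
      Fin.isValue, if_true, if_false, zero_ne_one, one_ne_zero]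
    linear_combination ((1) * a1 * a2 * b1 * b2 * c ^ 2 + (1) * a1 * b1 * c + (1) * a2 * b2 * c) * h2

  ext I J
  rcases I with I | I <;> fin_cases I <;> rcases J with J | J <;> fin_cases J
  · exact e_inl0_inl0
  · exact e_inl0_inl1
  · exact e_inl0_inr0
  · exact e_inl0_inr1
  · exact e_inl1_inl0
  · exact e_inl1_inl1
  · exact e_inl1_inr0
  · exact e_inl1_inr1
  · exact e_inr0_inl0
  · exact e_inr0_inl1
  · exact e_inr0_inr0
  · exact e_inr0_inr1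
  · exact e_inr1_inl0
  · exact e_inr1_inl1
  · exact e_inr1_inr0
  · exact e_inr1_inr1


local notation "SpG" => Matrix.symplecticGroup (Fin 2) F

section finite

variable [Fintype F]

/-- the Frobenius automorphism of `F` -/
noncomputable def frob2 (F : Type*) [Field F] [CharP F 2] [Fintype F] : F ≃+* F :=
  frobeniusEquiv F 2

theorem frob2_apply (x : F) : frob2 F x = x ^ 2 := by
  unfold frob2
  rw [frobeniusEquiv_apply, frobenius_def]

theorem map_frob_Tm (v : I4 → F) (c : F) :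
    (Tm v c).map (frob2 F) = Tm (fun i => v i ^ 2) (c ^ 2) := by
  ext a b
  rw [Matrix.map_apply]
  unfold Tm
  rw [Matrix.of_apply, Matrix.of_apply, map_add, map_mul, map_mul, frob2_apply c, frob2_apply (v a)]
  congr 1
  · split_ifs <;> simp
  · congr 1
    rcases b with b | b
    · simp only [Sum.elim_inl]; exact frob2_apply _
    · simp only [Sum.elim_inr]; exact frob2_apply _

/-- **`gam ∘ gam` is the Frobenius automorphism of `Sp₄(F)`** -/
theorem gamHom_gamHom (g : SpG) : gamHom (gamHom g) = phiSpS (frob2 F) g := by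
  have hle : TV (Fin 2) F ≤ MonoidHom.eqLocus ((gamHom (F := F)).comp gamHom)
      ((phiSpS (frob2 F) : MulAut SpG).toMonoidHom) := by
    unfold TV
    rw [Subgroup.closure_le]
    rintro _ ⟨⟨v, c⟩, rfl⟩
    show gamHom (gamHom (Tg v c)) = phiSpS (frob2 F) (Tg v c)
    apply Subtype.ext
    rw [gamHom_coe, gamHom_coe, phiSpS_coe, Tg_val, T_eq_Tm, map_frob_Tm]
    conv_lhs => rw [vec4_eta v]
    rw [gam_gam_Tm]
    congr 1
    funext i
    rcases i with i | i <;> fin_cases i <;> rfl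
  rw [TV_eq_top] at hle
  exact hle (Subgroup.mem_top g)

theorem gamHom_injective : Function.Injective (gamHom (F := F)) := by
  intro g h hgh
  have := congrArg gamHom hgh
  rw [gamHom_gamHom, gamHom_gamHom] at this
  exact (phiSpS (frob2 F)).injective this

theorem gamHom_bijective : Function.Bijective (gamHom (F := F)) :=
  ⟨gamHom_injective, Finite.injective_iff_surjective.1 gamHom_injective⟩

/-- **the exceptional automorphism of `Sp₄(F)`**, `F` finite of characteristic two -/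
noncomputable def gamAut : MulAut SpG := MulEquiv.ofBijective gamHom gamHom_bijective

theorem gamAut_apply (g : SpG) : gamAut g = gamHom g := rfl

theorem gamAut_sq : (gamAut (F := F)) * gamAut = phiSpS (frob2 F) := by
  apply MulEquiv.ext
  intro g
  rw [MulAut.mul_apply, gamAut_apply, gamAut_apply, gamHom_gamHom]

end finite

end Cfsg.Agent.Helper7.AutSp4
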