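import Cfsg.Agent.Helper7.AutSp4b
import Cfsg.Agent.Helper7.AutPSp21

/-!
# The exceptional automorphism of `Sp₄(F)` in characteristic two, part c (helper7)

Standard basis vectors, the image of a transvection group under `gam`, and the centre of a
Sylow `2`-subgroup of `Sp₄(F)`.
-/

set_option autoImplicit false
set_option linter.unusedSectionVars false
set_option linter.unusedVariables false
set_option linter.unusedSimpArgs false

namespace Cfsg.Agent.Helper7.AutSp4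

open Matrix Cfsg.Agent.Helper2.Sp Cfsg.Agent.Helper7.AutPSp
open Cfsg.Agent.Helper7.AutPSL (zz mem_zz)

variable {F : Type*} [Field F]

local notation "V" => (Fin 2 ⊕ Fin 2 → F)
local notation "SpG" => Matrix.symplecticGroup (Fin 2) F

theorem om_vec4 (a1 a2 b1 b2 a1' a2' b1' b2' : F) :
    om (vec4 a1 a2 b1 b2) (vec4 a1' a2' b1' b2') = b1 * a1' - a1 * b1' + (b2 * a2' - a2 * b2') := by
  rw [om_eq_sum, Fin.sum_univ_two]
  rfl

theorem vec4_add (a1 a2 b1 b2 a1' a2' b1' b2' : F) :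
    vec4 a1 a2 b1 b2 + vec4 a1' a2' b1' b2' = vec4 (a1 + a1') (a2 + a2') (b1 + b1') (b2 + b2') := by
  funext i
  rcases i with i | i <;> fin_cases i <;> rfl

theorem vec4_smul (l a1 a2 b1 b2 : F) :
    l • vec4 a1 a2 b1 b2 = vec4 (l * a1) (l * a2) (l * b1) (l * b2) := by
  funext i
  rcases i with i | i <;> fin_cases i <;> rfl

theorem vec4_inj {a1 a2 b1 b2 a1' a2' b1' b2' : F}
    (h : vec4 a1 a2 b1 b2 = vec4 a1' a2' b1' b2') : a1 = a1' ∧ a2 = a2' ∧ b1 = b1' ∧ b2 = b2' :=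
  ⟨congrFun h (Sum.inl 0), congrFun h (Sum.inl 1), congrFun h (Sum.inr 0), congrFun h (Sum.inr 1)⟩

/-- the standard basis -/
def e1 : V := vec4 1 0 0 0
def e2 : V := vec4 0 1 0 0
def f1 : V := vec4 0 0 1 0
def f2 : V := vec4 0 0 0 1

variable [CharP F 2]

theorem om_e1_f1 : om (e1 : V) f1 = 1 := by
  have h2 : (2 : F) = 0 := CharTwo.two_eq_zero
  unfold e1 f1
  rw [om_vec4]
  linear_combination (-1 : F) * h2

theorem om_e2_f2 : om (e2 : V) f2 = 1 := by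
  have h2 : (2 : F) = 0 := CharTwo.two_eq_zero
  unfold e2 f2
  rw [om_vec4]
  linear_combination (-1 : F) * h2

/-- the image of a transvection under `gam` -/
theorem gam_T_e1 (c : F) :
    gam (T (e1 : V) c) = Matrix.fromBlocks 1 !![0, c; c, 0] 0 1 := by
  rw [T_eq_Tm]
  ext I J
  rw [gam_apply]
  rcases I with I | I <;> fin_cases I <;> rcases J with J | J <;> fin_cases J <;>
    simp [Tm, e1, vec4, Matrix.one_apply]

theorem Sg_e1_e2 (c : F) :
    Sg (e1 : V) (c • e2) 0 = Matrix.fromBlocks 1 !![0, c; c, 0] 0 1 := by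
  have h2 : (2 : F) = 0 := CharTwo.two_eq_zero
  unfold Sg
  ext I J
  rcases I with I | I <;> fin_cases I <;> rcases J with J | J <;> fin_cases J <;>
    simp [e1, e2, vec4, Matrix.one_apply, vecMulVec_apply, Matrix.vecMul, dotProduct, J,
      Matrix.fromBlocks, Fintype.sum_sum_type] <;>
    linear_combination (-c) * h2


theorem om_e2_e1 : om (e2 : V) e1 = 0 := by
  unfold e1 e2
  rw [om_vec4]
  ring

theorem om_smul_e2_e1 (c : F) : om (c • (e2 : V)) e1 = 0 := by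
  rw [om_smul_left, om_e2_e1, mul_zero]

/-- **the image of a transvection under the exceptional endomorphism is a short root element** -/
theorem gamHom_Tg_e1 (c : F) : gamHom (Tg (e1 : V) c) = sgS e1 (c • e2) 0 := by
  apply Subtype.ext
  rw [gamHom_coe, Tg_val, gam_T_e1, tm_sgS (om_smul_e2_e1 c), Sg_e1_e2]

theorem Tg_eq_sgS' (v : V) (c : F) : Tg v c = sgS v 0 c := Tg_eq_sgS v c

/-- the short root subgroup attached to the flag `e₁ ∈ ⟨e₁, e₂⟩` -/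
def S0 (F : Type*) [Field F] : Set (Matrix.symplecticGroup (Fin 2) F) :=
  {g | ∃ l : F, g = sgS (e1 : Fin 2 ⊕ Fin 2 → F) (l • e2) 0}

theorem map_gamHom_Ts_e1 :
    ((Ts (e1 : V)).map (gamHom (F := F)) : Set SpG) = S0 F := by
  ext g
  constructor
  · rintro ⟨_, ⟨c, rfl⟩, rfl⟩
    exact ⟨c, by rw [← Tg_eq_sgS, gamHom_Tg_e1]⟩
  · rintro ⟨l, rfl⟩
    exact ⟨sgS e1 0 l, ⟨l, rfl⟩, by rw [← Tg_eq_sgS, gamHom_Tg_e1]⟩


/-! ### coordinate formulas -/

omit [CharP F 2] in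
theorem Sg_e1_e2_mulVec (l c a1 a2 b1 b2 : F) :
    Sg (e1 : V) (l • e2) c *ᵥ vec4 a1 a2 b1 b2
      = vec4 (a1 - l * b2 - c * b1) (a2 - l * b1) b1 b2 := by
  rw [Sg_mulVec]
  unfold e1 e2
  simp only [vec4_smul, om_vec4, vec4_add]
  congr 1 <;> ring

omit [CharP F 2] in
theorem Sg_e2_f1_mulVec (l c a1 a2 b1 b2 : F) :
    Sg (e2 : V) (l • f1) c *ᵥ vec4 a1 a2 b1 b2
      = vec4 a1 (a2 + l * a1 - c * b2) (b1 - l * b2) b2 := by
  rw [Sg_mulVec]
  unfold e2 f1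
  simp only [vec4_smul, om_vec4, vec4_add]
  congr 1 <;> ring

omit [CharP F 2] in
theorem om_smul_f1_e2 (l : F) : om (l • (f1 : V)) e2 = 0 := by
  unfold f1 e2
  rw [vec4_smul, om_vec4]
  ring

/-- the cyclic permutation matrix `e₁ ↦ e₂ ↦ f₁ ↦ f₂ ↦ e₁` -/
def M0 (F : Type*) [Field F] : Matrix (Fin 2 ⊕ Fin 2) (Fin 2 ⊕ Fin 2) F :=
  Matrix.fromBlocks !![0, 0; 1, 0] !![0, 1; 0, 0] !![0, 1; 0, 0] !![0, 0; 1, 0]

omit [CharP F 2] in
theorem M0_mulVec (a1 a2 b1 b2 : F) : M0 F *ᵥ vec4 a1 a2 b1 b2 = vec4 b2 a1 a2 b1 := by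
  funext i
  rcases i with i | i <;> fin_cases i <;>
    simp [M0, vec4, Matrix.mulVec, dotProduct, Fintype.sum_sum_type, Matrix.fromBlocks]

theorem M0_mem : M0 F ∈ Matrix.symplecticGroup (Fin 2) F := by
  have h2 : (2 : F) = 0 := CharTwo.two_eq_zero
  rw [mem_symplectic_iff_om]
  intro x y
  rw [vec4_eta x, vec4_eta y, M0_mulVec, M0_mulVec, om_vec4, om_vec4]
  linear_combination (x (Sum.inl 1) * y (Sum.inr 1) - x (Sum.inr 1) * y (Sum.inl 1)) * h2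

/-- the element `e₁ ↦ e₂ ↦ f₁ ↦ f₂ ↦ e₁` of `Sp₄(F)` -/
def g0 (F : Type*) [Field F] [CharP F 2] : Matrix.symplecticGroup (Fin 2) F := ⟨M0 F, M0_mem⟩

theorem g0_e1 : (g0 F).1 *ᵥ (e1 : V) = e2 := by
  show M0 F *ᵥ vec4 1 0 0 0 = vec4 0 1 0 0
  rw [M0_mulVec]

theorem g0_e2 : (g0 F).1 *ᵥ (e2 : V) = f1 := by
  show M0 F *ᵥ vec4 0 1 0 0 = vec4 0 0 1 0
  rw [M0_mulVec]

/-- **the elements of mixed type are not odd transpositions** -/
theorem not_OT4_mixed {l c : F} (hl : l ≠ 0) (hc : c ≠ 0) :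
    ¬ OT4 (sgS (e1 : V) (l • e2) c : SpG) := by
  have h2 : (2 : F) = 0 := CharTwo.two_eq_zero
  intro hOT
  obtain ⟨z, hz⟩ : ∃ z : SpG, z = sgS (e1 : V) (l • e2) c := ⟨_, rfl⟩
  obtain ⟨z', hz'⟩ : ∃ z' : SpG, z' = sgS (e2 : V) (l • f1) c := ⟨_, rfl⟩
  have hconj : g0 F * z * (g0 F)⁻¹ = z' := by
    rw [hz, hz', sgS_conj (om_smul_e2_e1 l), g0_e1, Matrix.mulVec_smul, g0_e2]
  have hzz : z * z = 1 := by
    have := sgS_pow_char 2 (e1 : V) (l • e2) c
    rw [pow_two] at this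
    rw [hz]
    exact this
  have hzinv : z⁻¹ = z := inv_eq_of_mul_eq_one_left hzz
  have hz1 : z.1 = Sg (e1 : V) (l • e2) c := by rw [hz, tm_sgS (om_smul_e2_e1 l)]
  have hz'1 : z'.1 = Sg (e2 : V) (l • f1) c := by rw [hz', tm_sgS (om_smul_f1_e2 l)]
  have hze2 : z.1 *ᵥ (e2 : V) = e2 := by
    rw [hz1]
    show Sg (e1 : V) (l • e2) c *ᵥ vec4 0 1 0 0 = vec4 0 1 0 0
    rw [Sg_e1_e2_mulVec]
    congr 1 <;> ring
  -- the square of the product lies in `Qs e₂`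
  have hsq : z * z' * (z * z') ∈ Qs (e2 : V) := by
    have h1 : z * z' * (z * z') = (z * z' * z⁻¹) * z' := by rw [hzinv]; group
    rw [h1]
    apply Subgroup.mul_mem
    · have := conj_mem_Qs (e := (e2 : V)) (x := z') (by rw [hz']; exact sgS_mem_Qs _ _ _) z
      rwa [hze2] at this
    · rw [hz']; exact sgS_mem_Qs _ _ _
  have h4 : (z * (g0 F * z * (g0 F)⁻¹)) ^ 4 = 1 := by
    rw [hconj]
    obtain ⟨w, c', hw⟩ := hsq
    have : (z * z') ^ 4 = (z * z' * (z * z')) ^ 2 := by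
      rw [show (4 : ℕ) = 2 * 2 from rfl, pow_mul, pow_two (z * z')]
    rw [this, hw]
    exact sgS_pow_char 2 _ _ _
  have h5 := hOT (g0 F) (by rw [← hz]; exact h4)
  rw [← hz, hconj] at h5
  -- evaluate at `f₁`
  have h6 := congrArg (fun y : SpG => y.1 *ᵥ (f1 : V)) h5
  simp only [pow_two, tm_mul, tm_one, Matrix.one_mulVec] at h6
  rw [hz1, hz'1] at h6
  rw [← Matrix.mulVec_mulVec, ← Matrix.mulVec_mulVec, ← Matrix.mulVec_mulVec] at h6
  have s1 : Sg (e2 : V) (l • f1) c *ᵥ (f1 : V)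
      = vec4 0 (0 + l * 0 - c * 0) (1 - l * 0) 0 := by
    show Sg (e2 : V) (l • f1) c *ᵥ vec4 0 0 1 0 = _
    rw [Sg_e2_f1_mulVec]
  rw [s1, Sg_e1_e2_mulVec, Sg_e2_f1_mulVec, Sg_e1_e2_mulVec] at h6
  have h7 := (vec4_inj h6).2.1
  have : l * c = 0 := by linear_combination h7 + (l + l * c) * h2
  rcases mul_eq_zero.1 this with h | h
  · exact hl h
  · exact hc h

end Cfsg.Agent.Helper7.AutSp4
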