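import Cfsg.Agent.Helper7.AutSp4c

/-!
# The exceptional automorphism of `Sp₄(F)` in characteristic two, part d (helper7)

A standard Sylow `2`-subgroup of `Sp₄(F)`, its centre, and the dichotomy for the image of a long
root group under an automorphism.
-/

set_option autoImplicit false
set_option linter.unusedSectionVars false
set_option linter.unusedVariables false
set_option linter.unusedSimpArgs false

namespace Cfsg.Agent.Helper7.AutSp4

open Matrix Cfsg.Agent.Helper2.Sp Cfsg.Agent.Helper7.AutPSp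
open Cfsg.Agent.Helper7.AutPSL (zz mem_zz zz_map exists_conj_of_sylow)
open Cfsg.Agent.Helper7.AutPSU (map_mul_aut)

variable {F : Type*} [Field F]

local notation "V" => (Fin 2 ⊕ Fin 2 → F)
local notation "SpG" => Matrix.symplecticGroup (Fin 2) F

theorem om_f2_e1 : om (f2 : V) e1 = 0 := by
  unfold e1 f2
  rw [om_vec4]
  ring

theorem om_smul_f2_e1 (l : F) : om (l • (f2 : V)) e1 = 0 := by
  rw [om_smul_left, om_f2_e1, mul_zero]

theorem Sg_e1_f2_mulVec (l c a1 a2 b1 b2 : F) :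
    Sg (e1 : V) (l • f2) c *ᵥ vec4 a1 a2 b1 b2
      = vec4 (a1 + l * a2 - c * b1) a2 b1 (b2 - l * b1) := by
  rw [Sg_mulVec]
  unfold e1 f2
  simp only [vec4_smul, om_vec4, vec4_add]
  congr 1 <;> ring

theorem T_e2_mulVec (c a1 a2 b1 b2 : F) :
    T (e2 : V) c *ᵥ vec4 a1 a2 b1 b2 = vec4 a1 (a2 - c * b2) b1 b2 := by
  rw [T_mulVec]
  unfold e2
  simp only [vec4_smul, om_vec4, vec4_add]
  congr 1 <;> ring

variable [Fintype F] [CharP F 2]

theorem Ts_e2_fix_e1 {g : SpG} (hg : g ∈ Ts (e2 : V)) : g.1 *ᵥ (e1 : V) = e1 := by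
  obtain ⟨c, rfl⟩ := hg
  rw [tm_sgS_zero, T_mulVec, om_e2_e1, mul_zero, zero_smul, add_zero]

/-- a Sylow `2`-subgroup containing the standard unipotent generators -/
theorem exists_sylow_std : ∃ P : Sylow 2 SpG, Qs (e1 : V) ≤ P ∧ Ts (e2 : V) ≤ P := by
  have hN : Ts (e2 : V) ≤ Subgroup.normalizer ((Qs (e1 : V) : Subgroup SpG) : Set SpG) :=
    fun g hg => mem_normalizer_Qs (Ts_e2_fix_e1 hg)
  have hp := IsPGroup.to_sup_of_normal_right' (Ts_isPGroup 2 (e2 : V)) (Qs_isPGroup 2 (e1 : V)) hN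
  obtain ⟨P, hP⟩ := hp.exists_le_sylow
  exact ⟨P, le_trans le_sup_right hP, le_trans le_sup_left hP⟩

/-- the standard Sylow subgroup fixes `e₁` -/
theorem sylow_std_fix (P : Sylow 2 SpG) (hQ : Qs (e1 : V) ≤ P) :
    ∀ g ∈ P, g.1 *ᵥ (e1 : V) = e1 := by
  obtain ⟨u, hu0, hu⟩ := exists_fixed_vector 2 (by norm_num : 1 ≤ 2) P.isPGroup'
  obtain ⟨a1, a2, b1, b2, rfl⟩ : ∃ a1 a2 b1 b2 : F, u = vec4 a1 a2 b1 b2 :=
    ⟨_, _, _, _, vec4_eta u⟩
  have h1 := hu _ (hQ (sgS_mem_Qs (e1 : V) ((1 : F) • e2) 0))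
  rw [tm_sgS (om_smul_e2_e1 1), Sg_e1_e2_mulVec] at h1
  have h2 := hu _ (hQ (sgS_mem_Qs (e1 : V) ((1 : F) • f2) 0))
  rw [tm_sgS (om_smul_f2_e1 1), Sg_e1_f2_mulVec] at h2
  obtain ⟨h11, h12, -, -⟩ := vec4_inj h1
  obtain ⟨h21, -, -, -⟩ := vec4_inj h2
  have hb2 : b2 = 0 := by linear_combination -h11 - b1 * 0
  have hb1 : b1 = 0 := by linear_combination -h12
  have ha2 : a2 = 0 := by linear_combination h21 + 0 * hb1
  subst hb2 hb1 ha2
  have ha1 : a1 ≠ 0 := by
    rintro rfl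
    apply hu0
    funext i
    rcases i with i | i <;> fin_cases i <;> rfl
  have hue : vec4 a1 0 0 0 = a1 • (e1 : V) := by
    unfold e1
    rw [vec4_smul]
    congr 1 <;> ring
  intro g hg
  have := hu g hg
  rw [hue, Matrix.mulVec_smul] at this
  exact smul_right_injective _ ha1 this

/-- the centre of the standard Sylow subgroup -/
theorem zz_sylow_std (P : Sylow 2 SpG) (hQ : Qs (e1 : V) ≤ P) (hT : Ts (e2 : V) ≤ P) {x : SpG}
    (hx : x ∈ zz (P : Subgroup SpG)) : ∃ l c : F, x = sgS (e1 : V) (l • e2) c := by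
  have h2F : (2 : F) = 0 := CharTwo.two_eq_zero
  have hfix := sylow_std_fix P hQ
  obtain ⟨w, c, hw, hxw⟩ := zz_sylow_le_char_two P om_e1_f1 hfix hx
  obtain ⟨a1, a2, b1, b2, rfl⟩ : ∃ a1 a2 b1 b2 : F, w = vec4 a1 a2 b1 b2 :=
    ⟨_, _, _, _, vec4_eta w⟩
  have hw' := hw
  rw [mem_Wsub] at hw
  have hb1 : b1 = 0 := by
    have := hw.1
    unfold e1 at this
    rw [om_vec4] at this
    linear_combination this
  have ha1 : a1 = 0 := by
    have := hw.2
    unfold f1 at this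
    rw [om_vec4] at this
    linear_combination -this
  subst hb1 ha1
  -- commute with the transvection along `e₂`
  have ht : sgS (e2 : V) 0 1 ∈ (P : Subgroup SpG) := hT ⟨1, rfl⟩
  have hcomm := (mem_zz.1 hx).2 _ ht
  have hconj : sgS (e2 : V) 0 1 * x * (sgS (e2 : V) 0 1)⁻¹ = x := by
    rw [hcomm, mul_inv_cancel_right]
  rw [hxw, sgS_conj hw.1, Ts_e2_fix_e1 ⟨1, rfl⟩, tm_sgS_zero, T_e2_mulVec] at hconj
  have hv1 : om (vec4 0 (a2 - 1 * b2) 0 b2 : V) e1 = 0 := by
    unfold e1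
    rw [om_vec4]
    ring
  have hv2 : om (vec4 0 (a2 - 1 * b2) 0 b2 : V) f1 = 0 := by
    unfold f1
    rw [om_vec4]
    ring
  have h3 := congrArg Subtype.val hconj
  rw [tm_sgS hv1, tm_sgS hw.1] at h3
  have h4 := (Sg_inj om_e1_f1 hv2 hw.2 h3).1
  have hb2 : b2 = 0 := by linear_combination -(vec4_inj h4).2.1
  subst hb2
  refine ⟨a2, c, ?_⟩
  rw [hxw]
  congr 1
  unfold e2
  rw [vec4_smul]
  congr 1 <;> ring

/-- short root elements are odd transpositions (over a finite field) -/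
theorem ot4_short (l : F) : OT4 (sgS (e1 : V) (l • e2) 0 : SpG) := by
  rw [← gamHom_Tg_e1, ← gamAut_apply, OT4_mulEquiv, Tg_eq_sgS]
  exact ot4_transvection e1 l

/-- the elements of the centre of the standard Sylow subgroup which are odd transpositions -/
theorem zz_ot4 (P : Sylow 2 SpG) (hQ : Qs (e1 : V) ≤ P) (hT : Ts (e2 : V) ≤ P) {x : SpG}
    (hx : x ∈ zz (P : Subgroup SpG)) (hO : OT4 x) :
    x ∈ Ts (e1 : V) ∨ x ∈ (Ts (e1 : V)).map (gamAut (F := F)).toMonoidHom := by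
  obtain ⟨l, c, rfl⟩ := zz_sylow_std P hQ hT hx
  by_cases hl : l = 0
  · left
    subst hl
    rw [zero_smul]
    exact ⟨c, rfl⟩
  · by_cases hc : c = 0
    · right
      subst hc
      refine ⟨Tg e1 l, ⟨l, Tg_eq_sgS _ _⟩, ?_⟩
      show gamAut (Tg e1 l) = _
      rw [gamAut_apply, gamHom_Tg_e1]
    · exact absurd hO (not_OT4_mixed hl hc)

theorem card_Ts_map (α : MulAut SpG) (e : V) :
    Nat.card ((Ts e).map α.toMonoidHom) = Nat.card (Ts e) :=
  Subgroup.card_map_of_injective α.injective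

/-- **the dichotomy**: an automorphism normalising the standard Sylow subgroup either fixes the
long root group of `e₁` or maps it to the short root group -/
theorem map_Ts_e1_dichotomy (P : Sylow 2 SpG) (hQ : Qs (e1 : V) ≤ P) (hT : Ts (e2 : V) ≤ P)
    (α : MulAut SpG) (hα : (P : Subgroup SpG).map α.toMonoidHom = P) :
    (Ts (e1 : V)).map α.toMonoidHom = Ts e1 ∨
      (Ts (e1 : V)).map α.toMonoidHom = (Ts (e1 : V)).map (gamAut (F := F)).toMonoidHom := by
  have hfix := sylow_std_fix P hQ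
  have hsub : (((Ts (e1 : V)).map α.toMonoidHom : Subgroup SpG) : Set SpG) ⊆
      ((Ts (e1 : V) : Subgroup SpG) : Set SpG) ∪
        (((Ts (e1 : V)).map (gamAut (F := F)).toMonoidHom : Subgroup SpG) : Set SpG) := by
    rintro _ ⟨t, ht, rfl⟩
    have h1 : α t ∈ zz (P : Subgroup SpG) := by
      have : α t ∈ (zz (P : Subgroup SpG)).map α.toMonoidHom :=
        ⟨t, Ts_le_zz_sylow 2 P hfix ht, rfl⟩
      rwa [← zz_map, hα] at this
    have h2 : OT4 (α t) := by
      rw [OT4_mulEquiv]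
      obtain ⟨c, rfl⟩ := ht
      exact ot4_transvection e1 c
    exact zz_ot4 P hQ hT h1 h2
  rcases SubgroupClass.subset_union.1 hsub with h | h
  · left
    apply Subgroup.eq_of_le_of_card_ge h
    rw [card_Ts_map]
  · right
    apply Subgroup.eq_of_le_of_card_ge h
    rw [card_Ts_map, card_Ts_map]

end Cfsg.Agent.Helper7.AutSp4
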