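import Cfsg.Agent.Helper7.AutSp4d

/-!
# The exceptional automorphism of `Sp₄(F)` in characteristic two, part e (helper7)

Every automorphism of `Sp₄(F)`, `F` finite of characteristic two, permutes the long root groups,
possibly after composing with the exceptional automorphism.
-/

set_option autoImplicit false
set_option linter.unusedSectionVars false
set_option linter.unusedVariables false
set_option linter.unusedSimpArgs false

namespace Cfsg.Agent.Helper7.AutSp4

open Matrix Cfsg.Agent.Helper2.Sp Cfsg.Agent.Helper7.AutPSp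
open Cfsg.Agent.Helper7.AutPSL (zz mem_zz zz_map exists_conj_of_sylow)
open Cfsg.Agent.Helper7.AutPSU (map_mul_aut)

variable {F : Type*} [Field F] {m : ℕ}

section general

local notation "V" => (Fin m ⊕ Fin m → F)
local notation "SpG" => Matrix.symplecticGroup (Fin m) F

theorem map_conj_Ts (g : SpG) (e : V) :
    (Ts e).map (MulAut.conj g).toMonoidHom = Ts (g.1 *ᵥ e) := by
  ext y
  constructor
  · rintro ⟨x, hx, rfl⟩
    exact conj_mem_Ts hx g
  · intro hy
    refine ⟨g⁻¹ * y * g, ?_, ?_⟩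
    · have := conj_mem_Ts hy g⁻¹
      rwa [tm_inv_mulVec, inv_inv] at this
    · show g * (g⁻¹ * y * g) * g⁻¹ = y
      group

theorem sp_mulVec_ne_zero (g : SpG) {v : V} (hv : v ≠ 0) : g.1 *ᵥ v ≠ 0 := by
  intro h
  apply hv
  have := tm_inv_mulVec g v
  rw [h, Matrix.mulVec_zero] at this
  exact this.symm

theorem aut_mul_conj {G : Type*} [Group G] (α : MulAut G) (t : G) :
    α * MulAut.conj t = MulAut.conj (α t) * α := by
  apply MulEquiv.ext
  intro x
  simp only [MulAut.mul_apply, MulAut.conj_apply, map_mul, map_inv]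

/-- an automorphism mapping one long root group to a long root group permutes them all -/
theorem Ts_perm_of_one (α : MulAut SpG) {e1' e0 : V} (he1 : e1' ≠ 0) (he0 : e0 ≠ 0)
    (h : (Ts e1').map α.toMonoidHom = Ts e0) :
    ∀ e : V, e ≠ 0 → ∃ e' : V, e' ≠ 0 ∧ (Ts e).map α.toMonoidHom = Ts e' := by
  intro e he
  obtain ⟨t, -, ht⟩ := exists_TV_mulVec_eq e1' e he1 he
  refine ⟨(α t).1 *ᵥ e0, sp_mulVec_ne_zero _ he0, ?_⟩
  rw [← ht, ← map_conj_Ts, ← map_mul_aut, ← map_conj_Ts, ← h, ← map_mul_aut, aut_mul_conj]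

end general

local notation "V" => (Fin 2 ⊕ Fin 2 → F)
local notation "SpG" => Matrix.symplecticGroup (Fin 2) F

theorem e1_ne_zero : (e1 : V) ≠ 0 := by
  intro h
  have := congrFun h (Sum.inl 0)
  exact one_ne_zero this

variable [Fintype F] [CharP F 2]

/-- **every automorphism of `Sp₄(2^f)` permutes the long root groups, up to the exceptional
automorphism** -/
theorem aut_Sp4_dichotomy (α : MulAut SpG) :
    (∀ e : V, e ≠ 0 → ∃ e' : V, e' ≠ 0 ∧ (Ts e).map α.toMonoidHom = Ts e') ∨
    (∀ e : V, e ≠ 0 → ∃ e' : V, e' ≠ 0 ∧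
      (Ts e).map ((gamAut (F := F))⁻¹ * α).toMonoidHom = Ts e') := by
  obtain ⟨P, hQ, hT⟩ := exists_sylow_std (F := F)
  obtain ⟨g, hg⟩ := exists_conj_of_sylow P α
  obtain ⟨β, hβ⟩ : ∃ β : MulAut SpG, β = MulAut.conj g⁻¹ * α := ⟨_, rfl⟩
  have hαβ : α = MulAut.conj g * β := by
    rw [hβ, ← mul_assoc, ← map_mul, mul_inv_cancel, map_one, one_mul]
  have hPβ : (P : Subgroup SpG).map β.toMonoidHom = P := by
    rw [hβ, map_mul_aut, hg, ← map_mul_aut, ← map_mul, inv_mul_cancel, map_one]
    exact Subgroup.map_id _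
  rcases map_Ts_e1_dichotomy P hQ hT β hPβ with h | h
  · left
    apply Ts_perm_of_one α e1_ne_zero (sp_mulVec_ne_zero g e1_ne_zero)
    rw [hαβ, map_mul_aut, h, map_conj_Ts]
  · right
    have h1 : (Ts (e1 : V)).map ((gamAut (F := F))⁻¹ * β).toMonoidHom = Ts e1 := by
      rw [map_mul_aut, h, ← map_mul_aut, inv_mul_cancel]
      exact Subgroup.map_id _
    apply Ts_perm_of_one _ e1_ne_zero
      (sp_mulVec_ne_zero ((gamAut (F := F))⁻¹ g) e1_ne_zero)
    rw [hαβ, ← mul_assoc, aut_mul_conj, mul_assoc, map_mul_aut, h1, map_conj_Ts]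

end Cfsg.Agent.Helper7.AutSp4
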