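import Cfsg.Agent.Helper7.AutSp4e

/-!
# The exceptional automorphism of `Sp₄(F)` in characteristic two, part f (helper7)

Transport to `PSp₄(F)`: the group of semisimilarity automorphisms has index two in
`Aut(PSp₄(2^f))`.
-/

set_option autoImplicit false
set_option linter.unusedSectionVars false
set_option linter.unusedVariables false
set_option linter.unusedSimpArgs false

namespace Cfsg.Agent.Helper7.AutSp4

open Matrix Cfsg.Agent.Helper2.Sp Cfsg.Agent.Helper7.AutPSp

variable {F : Type*} [Field F] {m : ℕ}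

section general

local notation "V" => (Fin m ⊕ Fin m → F)
local notation "SpG" => Matrix.symplecticGroup (Fin m) F

theorem T_map_equiv (τ : F ≃+* F) (v : V) (c : F) :
    (T v c).map τ = T (fun i => τ (v i)) (τ c) := by
  apply mat_ext'
  intro x
  rw [map_mulVec_equiv, T_mulVec]
  funext i
  rw [T_mulVec]
  simp only [Pi.add_apply, Pi.smul_apply, smul_eq_mul, map_add, map_mul,
    RingEquiv.apply_symm_apply]
  rw [← om_map_equiv]
  simp only [RingEquiv.apply_symm_apply]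

theorem phiSpS_sgS_zero (τ : F ≃+* F) (e : V) (c : F) :
    phiSpS τ (sgS e 0 c) = sgS (fun i => τ (e i)) 0 (τ c) := by
  apply Subtype.ext
  rw [phiSpS_coe, tm_sgS_zero, tm_sgS_zero, T_map_equiv]

end general

local notation "V" => (Fin 2 ⊕ Fin 2 → F)
local notation "SpG" => Matrix.symplecticGroup (Fin 2) F

variable [Fintype F] [CharP F 2]

/-- transport of automorphisms along the isomorphism `Sp₄(F) ≅ PSp₄(F)` -/
noncomputable def liftP : MulAut SpG ≃* MulAut (Cfsg.PSp 2 F) :=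
  MulAut.congr (prE (by norm_num : 1 ≤ 2))

theorem liftP_prS (α : MulAut SpG) (s : SpG) : liftP α (prS s) = prS (α s) := by
  have h12 : 1 ≤ 2 := by norm_num
  show prE h12 (α ((prE h12).symm (prS s))) = prS (α s)
  rw [← prE_apply h12 s, MulEquiv.symm_apply_apply, prE_apply]

theorem liftP_phiSpS (τ : F ≃+* F) : liftP (phiSpS τ) = (phiSp τ : MulAut (Cfsg.PSp 2 F)) := by
  apply MulEquiv.ext
  intro y
  obtain ⟨s, rfl⟩ := prS_surjective y
  rw [liftP_prS, phiSp_prS]

theorem liftP_conj (g : SpG) : liftP (MulAut.conj g) = MulAut.conj (prS g) := by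
  apply MulEquiv.ext
  intro y
  obtain ⟨s, rfl⟩ := prS_surjective y
  rw [liftP_prS]
  simp only [MulAut.conj_apply, map_mul, map_inv]

theorem map_liftP_Tb (α : MulAut SpG) (e : V) :
    (Tb e).map (liftP α).toMonoidHom = ((Ts e).map α.toMonoidHom).map prS := by
  unfold Tb
  rw [Subgroup.map_map, Subgroup.map_map]
  congr 1
  ext s
  exact liftP_prS α s

/-- **the exceptional automorphism of `PSp₄(2^f)`** -/
noncomputable def gamP : MulAut (Cfsg.PSp 2 F) := liftP gamAut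

theorem gamP_sq : (gamP (F := F)) * gamP = phiSp (frob2 F) := by
  unfold gamP
  rw [← map_mul, gamAut_sq, liftP_phiSpS]

theorem mem_semiSp_of_perm (α' : MulAut SpG)
    (h : ∀ e : V, e ≠ 0 → ∃ e' : V, e' ≠ 0 ∧ (Ts e).map α'.toMonoidHom = Ts e') :
    liftP α' ∈ semiSp 2 F := by
  apply aut_PSp_of_Tb (le_refl 2)
  intro e he
  obtain ⟨e', he', h'⟩ := h e he
  exact ⟨e', he', by rw [map_liftP_Tb, h']; rfl⟩

/-- every automorphism of `PSp₄(2^f)` is a semisimilarity automorphism, up to the exceptional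
one -/
theorem mem_semiSp_or (α : MulAut (Cfsg.PSp 2 F)) :
    α ∈ semiSp 2 F ∨ (gamP (F := F))⁻¹ * α ∈ semiSp 2 F := by
  obtain ⟨α', rfl⟩ := (liftP (F := F)).surjective α
  rcases aut_Sp4_dichotomy α' with h | h
  · left
    exact mem_semiSp_of_perm α' h
  · right
    unfold gamP
    rw [← map_inv, ← map_mul]
    exact mem_semiSp_of_perm _ h

/-- the exceptional automorphism is not induced by a semisimilarity -/
theorem gamP_not_mem : (gamP (F := F)) ∉ semiSp 2 F := by
  have h2F : (2 : F) = 0 := CharTwo.two_eq_zero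
  intro h
  obtain ⟨x, τ, hx⟩ := h
  have hInn : (cSp x : MulAut (Cfsg.PSp 2 F)) ∈ Cfsg.Inn (Cfsg.PSp 2 F) := by
    rw [← range_cSp_eq_Inn_of_char_two (by norm_num : 1 ≤ 2)]
    exact ⟨x, rfl⟩
  obtain ⟨y, hy⟩ := hInn
  obtain ⟨g, rfl⟩ := prS_surjective y
  have h1 := congrArg (fun φ : MulAut (Cfsg.PSp 2 F) => φ (prS (Tg (e1 : V) 1))) hx
  beta_reduce at h1
  unfold gamP at h1
  rw [liftP_prS, gamAut_apply, gamHom_Tg_e1, MulAut.mul_apply, phiSp_prS, ← hy,
    MulAut.conj_apply, Tg_eq_sgS, phiSpS_sgS_zero, ← map_inv, ← map_mul, ← map_mul,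
    sgS_conj (om_zero_left _), Matrix.mulVec_zero] at h1
  have h2 := prS_injective_char_two (by norm_num : 1 ≤ 2) h1
  obtain ⟨e', he'⟩ : ∃ e' : V, e' = g.1 *ᵥ (fun i => τ ((e1 : V) i)) := ⟨_, rfl⟩
  rw [← he'] at h2
  obtain ⟨a1, a2, b1, b2, rfl⟩ : ∃ a1 a2 b1 b2 : F, e' = vec4 a1 a2 b1 b2 :=
    ⟨_, _, _, _, vec4_eta e'⟩
  have h3 := congrArg Subtype.val h2
  rw [tm_sgS (om_smul_e2_e1 1), tm_sgS_zero] at h3
  have h4 := congrArg (fun M : Matrix (Fin 2 ⊕ Fin 2) (Fin 2 ⊕ Fin 2) F => M *ᵥ (f1 : V)) h3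
  beta_reduce at h4
  rw [T_mulVec] at h4
  unfold f1 at h4
  rw [Sg_e1_e2_mulVec, om_vec4, vec4_smul, vec4_add] at h4
  obtain ⟨h41, h42, -, -⟩ := vec4_inj h4
  have : (1 : F) = 0 := by
    linear_combination (τ 1 * a2 * a2) * h41 - (τ 1 * a1 * a2 + 1) * h42
  exact one_ne_zero this

end Cfsg.Agent.Helper7.AutSp4
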