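import Mathlib
import Cfsg.Prelude.Def_Local
import Cfsg.Agent.Helper7.NilpotentPQ
import Cfsg.Agent.Helper7.Hyperplane
import Cfsg.Agent.Helper7.FStar
import Cfsg.Agent.Helper7.Signalizer2
import Cfsg.Agent.Helper17.Inverted
import Cfsg.Agent.Helper11.DihedralLift
import Cfsg.Agent.Lead.Coprime3
import Cfsg.Agent.Lead.GenCent

set_option autoImplicit false
set_option linter.style.haveILetI false
set_option linter.unusedSectionVars false

/-! # The Thompson dihedral lemma (S1349) -/

namespace Cfsg.Agent.Helper7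

open Subgroup Cfsg

universe u

variable {G : Type u} [Group G] [Finite G]

/-- An involution acting nontrivially on an odd-order subgroup inverts a nonidentity element. -/
theorem exists_inverted_of_not_le_centralizer {t : G} (ht2 : t * t = 1) (X : Subgroup G)
    (hodd : Odd (Nat.card X)) (hnorm : ∀ x ∈ X, t * x * t⁻¹ ∈ X)
    (hne : ¬ X ≤ centralizer {t}) : ∃ z ∈ X, z ≠ 1 ∧ t * z * t⁻¹ = z⁻¹ := by
  obtain ⟨x, hxX, hxt⟩ := SetLike.not_le_iff_exists.1 hne
  obtain ⟨y, hy, z, hz, hxyz⟩ := Cfsg.Agent.Helper17.inverted_decomp_exists ht2 X hodd hnorm hxX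
  refine ⟨z, hz.1, ?_, hz.2⟩
  intro hz1
  apply hxt
  rw [hxyz, hz1, mul_one]
  exact hy.2

/-- A group of `2`-power order acting faithfully on a solvable group `L` of odd order acts
faithfully on the Fitting subgroup of `L`. -/
theorem inf_centralizer_fitting_eq_bot (L A : Subgroup G) (hLs : Group.IsSolvable L)
    (hLodd : Odd (Nat.card L)) (hA : IsPGroup 2 A) (hAL : A ≤ normalizer (L : Set G))
    (hfaith : A ⊓ centralizer (L : Set G) = ⊥) :
    A ⊓ centralizer (((fittingSubgroup L).map L.subtype : Subgroup G) : Set G) = ⊥ := by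
  set F := (fittingSubgroup L).map L.subtype with hF
  have hFL : F ≤ L := map_subtype_le _
  have hLF : L ≤ normalizer (F : Set G) :=
    le_normalizer.trans (Cfsg.Agent.Lead.normalizer_le_normalizer_map_of_characteristic L _)
  -- `C_L(F) ≤ F`
  have hCF : L ⊓ centralizer (F : Set G) ≤ F := by
    have h1 : centralizer (fittingSubgroup L : Set L) ≤ fittingSubgroup L := by
      apply solvable_subnormal_le_fitting_of_le_centralizer
        (Subgroup.Normal.isSubnormal inferInstance) inferInstance le_rfl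
    intro c hc
    have hc' : (⟨c, hc.1⟩ : L) ∈ centralizer (fittingSubgroup L : Set L) := by
      rw [mem_centralizer_iff]
      intro f hf
      apply Subtype.ext
      exact (mem_centralizer_iff.1 hc.2) f ⟨f, hf, rfl⟩
    exact ⟨⟨c, hc.1⟩, h1 hc', rfl⟩
  rw [eq_bot_iff, ← hfaith]
  intro b hb
  refine ⟨hb.1, ?_⟩
  set B := zpowers b with hB
  have hBA : B ≤ A := zpowers_le.2 hb.1
  have hBL : B ≤ normalizer (L : Set G) := hBA.trans hAL
  have hBF : ⁅F, B⁆ = ⊥ := by
    rw [commutator_comm, commutator_eq_bot_iff_le_centralizer]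
    exact zpowers_le.2 hb.2
  have hcop : (Nat.card B).Coprime (Nat.card L) := by
    obtain ⟨k, hk⟩ := (hA.to_le hBA).exists_card_eq
    rw [hk]
    exact Nat.Coprime.pow_left _ (Nat.coprime_two_left.2 hLodd)
  have h1 : ⁅⁅B, F⁆, L⁆ = ⊥ := by
    rw [commutator_comm B F, hBF]
    exact commutator_bot_left L
  have h2 : ⁅⁅F, L⁆, B⁆ = ⊥ := by
    rw [eq_bot_iff, ← hBF]
    apply commutator_mono _ le_rfl
    exact Cfsg.Agent.Lead.commutator_le_of_le_normalizer hLF
  have h3 : ⁅⁅L, B⁆, F⁆ = ⊥ := commutator_commutator_eq_bot_of_rotate h1 h2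
  have h4 : ⁅L, B⁆ ≤ F := by
    apply le_trans _ hCF
    refine le_inf (Cfsg.Agent.Lead.commutator_le_of_le_normalizer hBL) ?_
    exact commutator_eq_bot_iff_le_centralizer.1 h3
  have h5 : ⁅⁅L, B⁆, B⁆ = ⊥ := by
    rw [eq_bot_iff, ← hBF]
    exact commutator_mono h4 le_rfl
  rw [Cfsg.Agent.Lead.coprime_commutator_commutator B L hBL hcop (Or.inr hLs)] at h5
  rw [commutator_comm, commutator_eq_bot_iff_le_centralizer] at h5
  exact h5 (mem_zpowers b)

theorem mem_normalizer_closure_of_forall {S : Set G} {g : G}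
    (h1 : ∀ s ∈ S, g * s * g⁻¹ ∈ closure S) (h2 : ∀ s ∈ S, g⁻¹ * s * g ∈ closure S) :
    g ∈ normalizer ((closure S : Subgroup G) : Set G) := by
  have k1 : closure S ≤ (closure S).comap (MulAut.conj g).toMonoidHom := by
    rw [closure_le]
    intro s hs
    exact h1 s hs
  have k2 : closure S ≤ (closure S).comap (MulAut.conj g⁻¹).toMonoidHom := by
    rw [closure_le]
    intro s hs
    show g⁻¹ * s * g⁻¹⁻¹ ∈ closure S
    rw [inv_inv]
    exact h2 s hs
  rw [mem_normalizer_iff]
  intro h
  constructor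
  · intro hh; exact k1 hh
  · intro hh
    have := k2 hh
    have e : (MulAut.conj g⁻¹).toMonoidHom (g * h * g⁻¹) = h := by
      simp only [MulEquiv.coe_toMonoidHom, MulAut.conj_apply]; group
    rw [mem_comap, e] at this
    exact this

/-- The data produced by the Thompson dihedral lemma. -/
def DihedralData (d : ℕ) (F A : Subgroup G) : Prop :=
  ∃ (as ys : Fin d → G),
    (∀ i, as i ∈ A ∧ as i ≠ 1 ∧ ys i ∈ F ∧ ys i ≠ 1 ∧ as i * ys i * (as i)⁻¹ = (ys i)⁻¹) ∧
    (∀ i j, i ≠ j → as i * ys j = ys j * as i ∧ ys i * ys j = ys j * ys i) ∧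
    closure (Set.range as) = A

theorem dihedral_aux : ∀ (d : ℕ) (F A : Subgroup G), Group.IsNilpotent F → Odd (Nat.card F) →
    IsElementaryAbelian 2 A → Nat.card A = 2 ^ d → A ≤ normalizer (F : Set G) →
    A ⊓ centralizer (F : Set G) = ⊥ → DihedralData d F A := by
  intro d
  induction d with
  | zero =>
    intro F A _ _ _ hcard _ _
    refine ⟨Fin.elim0, Fin.elim0, fun i => i.elim0, fun i => i.elim0, ?_⟩
    have : A = ⊥ := card_eq_one.1 (by rw [hcard, pow_zero])
    rw [this]
    simp
  | succ d ih =>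
    intro F A hF hFodd hA hcard hAF hfaith
    classical
    haveI : Fact (Nat.Prime 2) := ⟨Nat.prime_two⟩
    have hsq : ∀ x ∈ A, x * x = 1 := fun x hx => by rw [← pow_two]; exact hA.2 x hx
    have hinv : ∀ x ∈ A, x⁻¹ = x := fun x hx => inv_eq_of_mul_eq_one_right (hsq x hx)
    have hcomm : ∀ x ∈ A, ∀ z ∈ A, x * z = z * x := fun x hx z hz =>
      IsElementaryAbelian.commute hA hx hz
    have hA2 : IsPGroup 2 A := IsElementaryAbelian.isPGroup hA
    have hcopA : ∀ K : Subgroup G, K ≤ A → ∀ X : Subgroup G, X ≤ F →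
        (Nat.card K).Coprime (Nat.card X) := by
      intro K hK X hX
      obtain ⟨k, hk⟩ := (hA2.to_le hK).exists_card_eq
      rw [hk]
      exact Nat.Coprime.pow_left _ (Nat.coprime_two_left.2 (Odd.of_dvd_nat hFodd (card_dvd_of_le hX)))
    have hAne : A ≠ ⊥ := by
      intro h
      rw [h, card_bot] at hcard
      have : 2 ≤ 2 ^ (d + 1) := by
        calc 2 = 2 ^ 1 := by norm_num
          _ ≤ 2 ^ (d + 1) := Nat.pow_le_pow_right (by norm_num) (by omega)
      omega
    -- S1: choose `a`
    let 𝒦 : Set (Subgroup G) := {K | ∃ a ∈ A, a ≠ 1 ∧ K = F ⊓ centralizer {a}}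
    have h𝒦 : 𝒦.Nonempty := by
      obtain ⟨a, ha⟩ := (Subgroup.ne_bot_iff_exists_ne_one.1 hAne)
      exact ⟨_, (a : G), a.2, fun h => ha (Subtype.ext h), rfl⟩
    obtain ⟨K, ⟨a, haA, ha1, rfl⟩, hmax⟩ := (Set.toFinite 𝒦).exists_maximal h𝒦
    set F₁ := F ⊓ centralizer ({a} : Set G) with hF₁
    have hF₁F : F₁ ≤ F := inf_le_left
    have haord : orderOf a = 2 := orderOf_eq_prime_of_pow_eq_one (hA.2 a haA) ha1
    have hza : zpowers a ≤ A := zpowers_le.2 haA
    -- S2
    set K₀ := A ⊓ centralizer (F₁ : Set G) with hK₀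
    have hK₀A : K₀ ≤ A := inf_le_left
    have haK₀ : a ∈ K₀ := by
      refine Subgroup.mem_inf.2 ⟨haA, ?_⟩
      rw [mem_centralizer_iff]
      intro f hf
      exact (mem_centralizer_singleton_iff.1 hf.2)
    have hK₀za : K₀ ≤ zpowers a := by
      by_contra hcon
      have hK₀el : IsElementaryAbelian 2 K₀ := IsElementaryAbelian.mono hA hK₀A
      have hcardK : 2 < Nat.card K₀ := by
        by_contra hle
        push Not at hle
        have h1 : zpowers a = K₀ := by
          apply Subgroup.eq_of_le_of_card_ge (zpowers_le.2 haK₀)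
          rw [Nat.card_zpowers, haord]; exact hle
        exact hcon h1.ge
      have hnc : ¬ IsCyclic K₀ := IsElementaryAbelian.not_isCyclic hK₀el hcardK
      haveI : IsMulCommutative K₀ := hK₀el.1
      have hgen := Cfsg.Agent.Lead.generated_by_centralizers K₀ F hnc (hK₀A.trans hAF)
        (hcopA K₀ hK₀A F le_rfl)
      have hle : F ≤ F₁ := by
        rw [← hgen]
        refine iSup₂_le ?_
        rintro v ⟨hvK, hv1⟩
        apply hmax ⟨v, hK₀A hvK, hv1, rfl⟩
        refine le_inf hF₁F ?_
        intro f hf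
        rw [mem_centralizer_singleton_iff]
        exact (mem_centralizer_iff.1 hvK.2) f hf
      have : a ∈ A ⊓ centralizer (F : Set G) := by
        refine Subgroup.mem_inf.2 ⟨haA, ?_⟩
        rw [mem_centralizer_iff]
        intro f hf
        exact mem_centralizer_singleton_iff.1 (hle hf).2
      rw [hfaith, mem_bot] at this
      exact ha1 this
    -- S3: a complement hyperplane
    obtain ⟨B₀, hB₀A, haB₀, hsup, hcardA, hdisj⟩ := exists_hyperplane_not_mem hA haA ha1
    have hcardB₀ : Nat.card B₀ = 2 ^ d := by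
      rw [hcard, pow_succ, mul_comm] at hcardA
      exact (Nat.eq_of_mul_eq_mul_left (by norm_num) hcardA).symm
    have hB₀el : IsElementaryAbelian 2 B₀ := IsElementaryAbelian.mono hA hB₀A
    have hAca : A ≤ centralizer ({a} : Set G) := le_centralizer_of_mem_elementaryAbelian hA haA
    have hAF₁ : A ≤ normalizer (F₁ : Set G) :=
      (le_inf hAF (hAca.trans le_normalizer)).trans (normalizer_inf_normalizer_le_normalizer_inf _ _)
    have hB₀faith : B₀ ⊓ centralizer (F₁ : Set G) = ⊥ := by
      rw [eq_bot_iff, ← hdisj]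
      intro b hb
      exact Subgroup.mem_inf.2 ⟨hb.1, hK₀za (Subgroup.mem_inf.2 ⟨hB₀A hb.1, hb.2⟩)⟩
    have hF₁nil : Group.IsNilpotent F₁ := Cfsg.Agent.Helper29.nilpotent_of_le hF₁F hF
    have hF₁odd : Odd (Nat.card F₁) := Odd.of_dvd_nat hFodd (card_dvd_of_le hF₁F)
    -- S4: induction
    obtain ⟨as', ys', hP, hcross, hgen⟩ :=
      ih F₁ B₀ hF₁nil hF₁odd hB₀el hcardB₀ (hB₀A.trans hAF₁) hB₀faith
    have hasA : ∀ i, as' i ∈ A := fun i => hB₀A (hP i).1
    have hysa : ∀ i, a * ys' i = ys' i * a := fun i =>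
      (mem_centralizer_singleton_iff.1 (hP i).2.2.1.2).symm
    -- S5
    set Y := closure (Set.range ys') with hY
    have hYF₁ : Y ≤ F₁ := by
      rw [hY, closure_le]
      rintro _ ⟨i, rfl⟩
      exact (hP i).2.2.1
    have hysY : ∀ i, ys' i ∈ Y := fun i => subset_closure ⟨i, rfl⟩
    set M := F ⊓ centralizer (Y : Set G) with hM
    have haNY : a ∈ normalizer (Y : Set G) := by
      apply mem_normalizer_closure_of_forall
      · rintro _ ⟨i, rfl⟩
        rw [hysa i, mul_assoc, mul_inv_cancel, mul_one]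
        exact hysY i
      · rintro _ ⟨i, rfl⟩
        rw [mul_assoc, ← hysa i, ← mul_assoc, inv_mul_cancel, one_mul]
        exact hysY i
    have hasNY : ∀ j, as' j ∈ normalizer (Y : Set G) := by
      intro j
      have key : ∀ i, as' j * ys' i * (as' j)⁻¹ ∈ Y := by
        intro i
        by_cases hij : j = i
        · subst hij
          rw [(hP j).2.2.2.2]
          exact Y.inv_mem (hysY j)
        · rw [(hcross j i hij).1, mul_assoc, mul_inv_cancel, mul_one]
          exact hysY i
      apply mem_normalizer_closure_of_forall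
      · rintro _ ⟨i, rfl⟩
        exact key i
      · rintro _ ⟨i, rfl⟩
        have := key i
        rw [hinv _ (hasA j)] at this ⊢
        exact this
    have hANY : A ≤ normalizer (Y : Set G) := by
      rw [← hsup, ← hgen]
      refine sup_le ?_ (zpowers_le.2 haNY)
      rw [closure_le]
      rintro _ ⟨j, rfl⟩
      exact hasNY j
    have hAM : A ≤ normalizer (M : Set G) :=
      (le_inf hAF (hANY.trans (normalizer_le_normalizer_centralizer Y))).trans
        (normalizer_inf_normalizer_le_normalizer_inf _ _)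
    have hMF : M ≤ F := inf_le_left
    -- S6
    have hMa : ¬ M ≤ centralizer ({a} : Set G) := by
      intro hcon
      have h1 := nilpotent_PQ F (zpowers a) Y hF (hcopA _ hza F le_rfl) (hza.trans hAF)
        (hYF₁.trans hF₁F)
        (by rw [centralizer_zpowers_eq]; exact hYF₁.trans inf_le_right)
        (by rw [centralizer_zpowers_eq]; exact hcon)
      have : a ∈ A ⊓ centralizer (F : Set G) :=
        Subgroup.mem_inf.2 ⟨haA, h1 (mem_zpowers a)⟩
      rw [hfaith, mem_bot] at this
      exact ha1 this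
    -- S7
    have hM2 : ¬ 2 ∣ Nat.card M := by
      intro h
      have := Odd.of_dvd_nat hFodd (card_dvd_of_le hMF)
      rw [← Nat.not_even_iff_odd] at this
      exact this (even_iff_two_dvd.2 h)
    have hgenM := le_iSup_inf_centralizer_hyperplane 2 _ A M rfl hA hM2 hAM
    obtain ⟨B, hBA, hBidx, hB⟩ : ∃ B : Subgroup G, B ≤ A ∧ B.relIndex A ≤ 2 ∧
        ¬ (M ⊓ centralizer (B : Set G) ≤ centralizer ({a} : Set G)) := by
      by_contra hcon
      push Not at hcon
      apply hMa
      refine hgenM.trans (iSup_le ?_)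
      rintro ⟨B, hBA, hBidx⟩
      exact hcon B hBA hBidx
    have haB : a ∉ B := by
      intro h
      apply hB
      exact inf_le_right.trans (centralizer_le (Set.singleton_subset_iff.2 h))
    set X := M ⊓ centralizer (B : Set G) with hX
    have hXodd : Odd (Nat.card X) :=
      Odd.of_dvd_nat hFodd (card_dvd_of_le (inf_le_left.trans hMF))
    have hXnorm : ∀ x ∈ X, a * x * a⁻¹ ∈ X := by
      intro x hx
      refine Subgroup.mem_inf.2 ⟨(mem_normalizer_iff.1 (hAM haA) x).1 hx.1, ?_⟩
      rw [mem_centralizer_iff]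
      intro b hb
      have h1 : b * x = x * b := (mem_centralizer_iff.1 hx.2) b hb
      have h2 : b * a = a * b := hcomm b (hBA hb) a haA
      have h3 : b * a⁻¹ = a⁻¹ * b := by
        rw [hinv a haA]; exact h2
      calc b * (a * x * a⁻¹) = (b * a) * x * a⁻¹ := by group
        _ = a * (b * x) * a⁻¹ := by rw [h2]; group
        _ = a * x * (b * a⁻¹) := by rw [h1]; group
        _ = a * x * a⁻¹ * b := by rw [h3]; group
    obtain ⟨y, hyX, hy1, hyinv⟩ :=
      exists_inverted_of_not_le_centralizer (hsq a haA) X hXodd hXnorm hB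
    have hyM : y ∈ M := hyX.1
    have hyF : y ∈ F := hMF hyM
    have hyB : ∀ b ∈ B, b * y = y * b := fun b hb => (mem_centralizer_iff.1 hyX.2) b hb
    have hyY : ∀ i, ys' i * y = y * ys' i := fun i =>
      (mem_centralizer_iff.1 hyM.2) (ys' i) (hysY i)
    -- S8
    have hBne : B.relIndex A ≠ 1 := by
      intro h
      exact haB ((relIndex_eq_one.1 h) haA)
    have hBidx2 : B.relIndex A = 2 := by
      have hdvd := relIndex_dvd_card B A
      have hcpos : 0 < Nat.card A := Nat.card_pos
      have hpos : B.relIndex A ≠ 0 := fun h => by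
        rw [h, zero_dvd_iff] at hdvd; omega
      omega
    have hsplit : ∀ b ∈ A, b ∈ B ∨ a * b ∈ B := by
      intro b hb
      by_cases hbB : b ∈ B
      · exact Or.inl hbB
      · right
        have h2 : (B.subgroupOf A).index = 2 := hBidx2
        have := mul_mem_iff_of_index_two h2 (a := (⟨a, haA⟩ : A)) (b := ⟨b, hb⟩)
        rw [mem_subgroupOf, mem_subgroupOf, mem_subgroupOf] at this
        exact this.2 ⟨fun h => absurd h haB, fun h => absurd h hbB⟩
    -- S9
    let c : Fin d → G := fun i => if as' i ∈ B then as' i else a * as' i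
    have hc_cases : ∀ i, (c i = as' i ∨ c i = a * as' i) ∧ c i ∈ B := by
      intro i
      by_cases h : as' i ∈ B
      · have hci : c i = as' i := if_pos h
        rw [hci]; exact ⟨Or.inl rfl, h⟩
      · have hci : c i = a * as' i := if_neg h
        rw [hci]
        exact ⟨Or.inr rfl, (hsplit _ (hasA i)).resolve_left h⟩
    have hcA : ∀ i, c i ∈ A := fun i => hBA (hc_cases i).2
    have hc_act : ∀ i j, c i * ys' j * (c i)⁻¹ = as' i * ys' j * (as' i)⁻¹ := by
      intro i j
      rcases (hc_cases i).1 with h | h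
      · rw [h]
      · rw [h, mul_inv_rev]
        have hmem : as' i * ys' j * (as' i)⁻¹ ∈ F₁ :=
          (mem_normalizer_iff.1 (hAF₁ (hasA i)) _).1 (hP j).2.2.1
        have hcm : a * (as' i * ys' j * (as' i)⁻¹) = (as' i * ys' j * (as' i)⁻¹) * a :=
          (mem_centralizer_singleton_iff.1 hmem.2).symm
        calc a * as' i * ys' j * ((as' i)⁻¹ * a⁻¹)
            = a * (as' i * ys' j * (as' i)⁻¹) * a⁻¹ := by group
          _ = as' i * ys' j * (as' i)⁻¹ := by rw [hcm]; group
    refine ⟨Fin.cons a c, Fin.cons y ys', ?_, ?_, ?_⟩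
    · intro i
      rcases Fin.eq_zero_or_eq_succ i with rfl | ⟨i, rfl⟩
      · simp only [Fin.cons_zero]
        exact ⟨haA, ha1, hyF, hy1, hyinv⟩
      · simp only [Fin.cons_succ]
        refine ⟨hcA i, ?_, hF₁F (hP i).2.2.1, (hP i).2.2.2.1, ?_⟩
        · rcases (hc_cases i).1 with h | h
          · rw [h]; exact (hP i).2.1
          · rw [h]
            intro h1
            have h2 : as' i = a := by
              have : as' i = a⁻¹ := eq_inv_of_mul_eq_one_right h1
              rw [this, hinv a haA]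
            exact haB₀ (h2 ▸ (hP i).1)
        · rw [hc_act i i]; exact (hP i).2.2.2.2
    · intro i j hij
      rcases Fin.eq_zero_or_eq_succ i with rfl | ⟨i, rfl⟩ <;>
        rcases Fin.eq_zero_or_eq_succ j with rfl | ⟨j, rfl⟩
      · exact absurd rfl hij
      · simp only [Fin.cons_zero, Fin.cons_succ]
        exact ⟨hysa j, (hyY j).symm⟩
      · simp only [Fin.cons_zero, Fin.cons_succ]
        exact ⟨hyB (c i) (hc_cases i).2, hyY i⟩
      · simp only [Fin.cons_succ]
        have hij' : i ≠ j := fun h => hij (by rw [h])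
        refine ⟨?_, (hcross i j hij').2⟩
        have h1 := hc_act i j
        rw [(hcross i j hij').1, mul_inv_cancel_right] at h1
        exact mul_inv_eq_iff_eq_mul.1 h1
    · rw [Fin.range_cons]
      apply le_antisymm
      · rw [closure_le]
        rintro x (rfl | ⟨i, rfl⟩)
        · exact haA
        · exact hcA i
      · rw [← hsup, ← hgen]
        refine sup_le ?_ (zpowers_le.2 (subset_closure (Set.mem_insert _ _)))
        rw [closure_le]
        rintro _ ⟨i, rfl⟩
        have hci : c i ∈ closure (insert a (Set.range c)) :=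
          subset_closure (Set.mem_insert_of_mem _ ⟨i, rfl⟩)
        have hai : a ∈ closure (insert a (Set.range c)) := subset_closure (Set.mem_insert _ _)
        rcases (hc_cases i).1 with h | h
        · rw [← h]; exact hci
        · have : as' i = a⁻¹ * c i := by rw [h]; group
          rw [SetLike.mem_coe, this]
          exact mul_mem (inv_mem hai) hci

/-- The subgroup generated by an involution `a` inverting an element `y` of odd order `n` is
dihedral of order `2n`. -/
theorem nonempty_mulEquiv_dihedral_of_inverts {a y : G} (ha1 : a ≠ 1) (ha2 : a * a = 1)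
    (hy : a * y * a⁻¹ = y⁻¹) (hodd : Odd (orderOf y)) :
    Nonempty (↥(zpowers a ⊔ zpowers y) ≃* DihedralGroup (orderOf y)) := by
  have hainv : a⁻¹ = a := inv_eq_of_mul_eq_one_right ha2
  have haord : orderOf a = 2 := by
    haveI : Fact (Nat.Prime 2) := ⟨Nat.prime_two⟩
    exact orderOf_eq_prime_of_pow_eq_one (by rw [pow_two]; exact ha2) ha1
  have hnorm : zpowers a ≤ normalizer ((zpowers y : Subgroup G) : Set G) := by
    rw [zpowers_le, zpowers_eq_closure]
    apply mem_normalizer_closure_of_forall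
    · intro s hs
      rw [Set.mem_singleton_iff.1 hs, hy]
      exact inv_mem (subset_closure rfl)
    · intro s hs
      rw [Set.mem_singleton_iff.1 hs]
      have : a⁻¹ * y * a = y⁻¹ := by
        rw [hainv]
        rw [hainv] at hy
        exact hy
      rw [this]
      exact inv_mem (subset_closure rfl)
  have hdisj : zpowers y ⊓ zpowers a = ⊥ := by
    apply disjoint_iff.1
    apply Subgroup.disjoint_of_coprime_natCard
    rw [Nat.card_zpowers, Nat.card_zpowers, haord]
    exact (Nat.coprime_two_left.2 hodd).symm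
  have hcard : Nat.card ↥(zpowers a ⊔ zpowers y) = 2 * orderOf y := by
    have h := Cfsg.Agent.Helper17.card_sup_mul_card_inf (zpowers y) (zpowers a) hnorm
    rw [hdisj, card_bot, mul_one, Nat.card_zpowers, Nat.card_zpowers, haord] at h
    rw [sup_comm, h, mul_comm]
  have haD : a ∈ zpowers a ⊔ zpowers y := mem_sup_left (mem_zpowers a)
  have hyD : y ∈ zpowers a ⊔ zpowers y := mem_sup_right (mem_zpowers y)
  apply Cfsg.Agent.Helper11.nonempty_mulEquiv_dihedralGroup (orderOf y) hcard ⟨y, hyD⟩ ⟨a, haD⟩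
  · exact Subgroup.orderOf_mk y hyD
  · exact Subtype.ext ha2
  · apply Subtype.ext
    show a * y * a = y⁻¹
    rw [hainv] at hy
    exact hy
  · intro hmem
    obtain ⟨k, hk⟩ := mem_zpowers_iff.1 hmem
    have hk' : y ^ k = a := by
      have := congrArg Subtype.val hk
      simpa using this
    have : a ∈ zpowers y ⊓ zpowers a :=
      Subgroup.mem_inf.2 ⟨mem_zpowers_iff.2 ⟨k, hk'⟩, mem_zpowers a⟩
    rw [hdisj, mem_bot] at this
    exact ha1 this

/-- S1349: the Thompson dihedral lemma. -/
theorem thompson_dihedral (L A : Subgroup G) (hLs : Group.IsSolvable L)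
    (hLodd : Odd (Nat.card L)) (hA : IsElementaryAbelian 2 A) (d : ℕ)
    (hAd : Nat.card A = 2 ^ d) (hAL : A ≤ normalizer (L : Set G))
    (hfaith : A ⊓ centralizer (L : Set G) = ⊥) :
    ∃ (Ai : Fin d → Subgroup G) (Li : Fin d → Subgroup G) (n : Fin d → ℕ),
      (∀ i, Ai i ≤ A ∧ Nat.card (Ai i) = 2 ∧ Li i ≤ L ∧ Odd (n i) ∧ 3 ≤ n i ∧
        Nonempty (↥(Ai i ⊔ Li i) ≃* DihedralGroup (n i))) ∧
      (⨆ i, Ai i) = A ∧
      ∀ i j, i ≠ j → ∀ x ∈ Ai i ⊔ Li i, ∀ y ∈ Ai j ⊔ Li j, x * y = y * x := by
  haveI : Fact (Nat.Prime 2) := ⟨Nat.prime_two⟩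
  set F := (fittingSubgroup L).map L.subtype with hF
  have hFL : F ≤ L := map_subtype_le _
  have hFnil : Group.IsNilpotent F := by
    haveI : Group.IsNilpotent (fittingSubgroup L) := fittingSubgroup_isNilpotent
    exact Group.nilpotent_of_mulEquiv
      ((fittingSubgroup L).equivMapOfInjective L.subtype (subtype_injective L))
  have hFodd : Odd (Nat.card F) := Odd.of_dvd_nat hLodd (card_dvd_of_le hFL)
  have hAF : A ≤ normalizer (F : Set G) :=
    hAL.trans (Cfsg.Agent.Lead.normalizer_le_normalizer_map_of_characteristic L _)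
  have hfaithF : A ⊓ centralizer (F : Set G) = ⊥ :=
    inf_centralizer_fitting_eq_bot L A hLs hLodd (IsElementaryAbelian.isPGroup hA) hAL hfaith
  obtain ⟨as, ys, hP, hcross, hgen⟩ := dihedral_aux d F A hFnil hFodd hA hAd hAF hfaithF
  have hsq : ∀ x ∈ A, x * x = 1 := fun x hx => by rw [← pow_two]; exact hA.2 x hx
  have hyodd : ∀ i, Odd (orderOf (ys i)) := by
    intro i
    have h1 : orderOf (ys i) ∣ Nat.card L := by
      have : orderOf (⟨ys i, hFL (hP i).2.2.1⟩ : L) = orderOf (ys i) := Subgroup.orderOf_mk _ _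
      rw [← this]; exact orderOf_dvd_natCard _
    exact Odd.of_dvd_nat hLodd h1
  refine ⟨fun i => zpowers (as i), fun i => zpowers (ys i), fun i => orderOf (ys i), ?_, ?_, ?_⟩
  · intro i
    obtain ⟨haA, ha1, hyF, hy1, hinv⟩ := hP i
    refine ⟨zpowers_le.2 haA, ?_, zpowers_le.2 (hFL hyF), hyodd i, ?_,
      nonempty_mulEquiv_dihedral_of_inverts ha1 (hsq _ haA) hinv (hyodd i)⟩
    · rw [Nat.card_zpowers]
      exact orderOf_eq_prime_of_pow_eq_one (hA.2 _ haA) ha1
    · show 3 ≤ orderOf (ys i)
      obtain ⟨k, hk⟩ := hyodd i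
      have h1 : orderOf (ys i) ≠ 1 := fun h => hy1 (orderOf_eq_one_iff.1 h)
      omega
  · apply le_antisymm
    · exact iSup_le fun i => zpowers_le.2 (hP i).1
    · rw [← hgen, closure_le]
      rintro _ ⟨i, rfl⟩
      exact (le_iSup (fun i => zpowers (as i)) i) (mem_zpowers (as i))
  · intro i j hij x hx y hy
    have hji : j ≠ i := fun h => hij h.symm
    -- `D_j` centralises `as i` and `ys i`
    have h1 : zpowers (as j) ⊔ zpowers (ys j) ≤
        centralizer ({as i} : Set G) ⊓ centralizer ({ys i} : Set G) := by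
      refine sup_le (zpowers_le.2 (Subgroup.mem_inf.2 ⟨?_, ?_⟩))
        (zpowers_le.2 (Subgroup.mem_inf.2 ⟨?_, ?_⟩))
      · rw [mem_centralizer_singleton_iff]
        exact IsElementaryAbelian.commute hA (hP j).1 (hP i).1
      · rw [mem_centralizer_singleton_iff]
        exact (hcross j i hji).1
      · rw [mem_centralizer_singleton_iff]
        exact ((hcross i j hij).1).symm
      · rw [mem_centralizer_singleton_iff]
        exact (hcross j i hji).2
    have h2 : zpowers (as i) ⊔ zpowers (ys i) ≤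
        centralizer ((zpowers (as j) ⊔ zpowers (ys j) : Subgroup G) : Set G) := by
      refine sup_le (zpowers_le.2 ?_) (zpowers_le.2 ?_)
      · rw [mem_centralizer_iff]
        intro z hz
        exact mem_centralizer_singleton_iff.1 (h1 hz).1
      · rw [mem_centralizer_iff]
        intro z hz
        exact mem_centralizer_singleton_iff.1 (h1 hz).2
    exact ((mem_centralizer_iff.1 (h2 hx)) y hy).symm

end Cfsg.Agent.Helper7
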