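import Mathlib
import Cfsg.Prelude.Def_Balance
import Cfsg.Agent.Helper7.ExtLayer

set_option autoImplicit false
set_option linter.style.haveILetI false
set_option linter.unusedSectionVars false

/-! # The extended 2-layer normalises 2-components -/

namespace Cfsg.Agent.Helper7

open Subgroup Cfsg
open scoped Pointwise
open Cfsg.Agent.Helper14 (pCore_isPGroup le_pCore pCore_characteristic)
open Cfsg.Agent.Helper19 (pPrimeCore_coprime)

universe u

/-- (N1) An element centralising a non-central element of a component normalises it. -/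
theorem mem_normalizer_component_of_commute {Q : Type u} [Group Q] [Finite Q] {L : Subgroup Q}
    (hL : IsComponent L) {c t : Q} (ht : t ∈ L) (hct : c * t = t * c)
    (hnc : t ∉ centralizer (L : Set Q)) : c ∈ normalizer (L : Set Q) := by
  by_contra h
  have hne : L ≠ L.map (MulAut.conj c).toMonoidHom := by
    intro heq
    exact h (mem_normalizer_iff_map_conj_eq'.2 heq.symm)
  have hcomm := components_commute hL (isComponent_map_conj hL c) hne
  have ht' : t ∈ L.map (MulAut.conj c).toMonoidHom := by
    have := conj_mem_map_conj (g := c) ht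
    have e : c * t * c⁻¹ = t := by rw [hct]; group
    rwa [e] at this
  apply hnc
  rw [mem_centralizer_iff]
  intro l hl
  exact commutator_eq_bot_iff_forall_commute.1 hcomm l hl t ht'

/-- (N3) Sylow's theorem inside a subgroup, for a single `p`-element. -/
theorem exists_conj_mem_sylow_map_subtype {G : Type*} [Group G] [Finite G] {p : ℕ}
    [hp : Fact p.Prime] {M : Subgroup G} (T : Sylow p M) {s : G} (hs : s ∈ M) {k : ℕ}
    (hk : s ^ p ^ k = 1) : ∃ m ∈ M, m * s * m⁻¹ ∈ (T : Subgroup M).map M.subtype := by
  set s' : M := ⟨s, hs⟩ with hs'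
  have hY : IsPGroup p (zpowers s') := by
    rw [IsPGroup.iff_card, Nat.card_zpowers]
    have : orderOf s' ∣ p ^ k := by
      apply orderOf_dvd_of_pow_eq_one
      apply Subtype.ext
      simpa using hk
    obtain ⟨j, -, hj⟩ := (Nat.dvd_prime_pow hp.out).1 this
    exact ⟨j, hj⟩
  obtain ⟨R, hR⟩ := hY.exists_le_sylow
  obtain ⟨m, hm⟩ := MulAction.exists_smul_eq M R T
  refine ⟨m, m.2, (m * s' * m⁻¹ : M), ?_, rfl⟩
  have h1 : s' ∈ R := hR (mem_zpowers s')
  have h2 : m * s' * m⁻¹ ∈ m • R := by
    rw [mem_sylow_smul_iff]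
    have : m⁻¹ * (m * s' * m⁻¹) * m = s' := by group
    rw [this]; exact h1
  rw [hm] at h2
  exact h2

variable {X : Type u} [Group X] [Finite X] {p : ℕ} [hp : Fact p.Prime]

/-- (N2') Over each component of `X/O_{p'}(X)` there is a `p`-element acting nontrivially. -/
theorem exists_pElement_not_centralizing {Kbar : Subgroup (X ⧸ pPrimeCore p X)}
    (hK : IsComponent Kbar) :
    ∃ s ∈ Kbar.comap (QuotientGroup.mk' (pPrimeCore p X)), ∃ k : ℕ, s ^ p ^ k = 1 ∧
      QuotientGroup.mk' (pPrimeCore p X) s ∉ centralizer (Kbar : Set _) := by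
  by_contra hcon
  push Not at hcon
  have h1 : pGen p (Kbar.comap (QuotientGroup.mk' (pPrimeCore p X))) ≤
      (centralizer (Kbar : Set _)).comap (QuotientGroup.mk' (pPrimeCore p X)) := by
    rw [pGen_le_iff]
    intro x hx k hk
    exact hcon x hx k hk
  have h2 : Kbar ≤ centralizer (Kbar : Set _) := by
    have := map_pCompOver hK
    unfold pCompOver at this
    calc Kbar = (pGen p (Kbar.comap (QuotientGroup.mk' (pPrimeCore p X)))).map
          (QuotientGroup.mk' (pPrimeCore p X)) := this.symm
      _ ≤ centralizer (Kbar : Set _) := map_le_iff_le_comap.2 h1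
  rw [← commutator_eq_bot_iff_le_centralizer, IsComponent.commutator_eq hK] at h2
  exact IsComponent.ne_bot hK h2

/-- (N4) The image of `L_{p'}(X) O_{p',p}(X)` normalises every component of `X/O_{p'}(X)`. -/
theorem map_pLayer_sup_pPrimePCore_le_normalizer {Kbar : Subgroup (X ⧸ pPrimeCore p X)}
    (hK : IsComponent Kbar) :
    (pLayer p X ⊔ pPrimePCore p X).map (QuotientGroup.mk' (pPrimeCore p X)) ≤
      normalizer (Kbar : Set _) := by
  rw [Subgroup.map_sup]
  apply sup_le
  · rw [map_pLayer]
    exact layer_le_normalizer_component hK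
  · have h1 : (pPrimePCore p X).map (QuotientGroup.mk' (pPrimeCore p X)) ≤
        pCore p (X ⧸ pPrimeCore p X) := by
      unfold pPrimePCore
      exact map_comap_le _ _
    refine h1.trans ((pCore_le_fittingSubgroup p).trans ?_)
    have := component_commutator_fitting hK
    rw [commutator_comm, commutator_eq_bot_iff_le_centralizer] at this
    exact this.trans (centralizer_le_normalizer _)

/-- The centralizer of a Sylow `p`-subgroup of `L_{p'}(X) O_{p',p}(X)` normalises each
`p`-component. -/
theorem centralizer_sylow_le_normalizer_pComponent {K : Subgroup X} (hK : IsPComponent p K)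
    (T : Sylow p ↥(pLayer p X ⊔ pPrimePCore p X)) :
    centralizer (((T : Subgroup ↥(pLayer p X ⊔ pPrimePCore p X)).map
      (pLayer p X ⊔ pPrimePCore p X).subtype : Subgroup X) : Set X) ≤ normalizer (K : Set X) := by
  set O := pPrimeCore p X with hO
  set π := QuotientGroup.mk' O with hπ
  set Kbar := K.map π with hKbar
  have hcomp : IsComponent Kbar := hK.2.1
  have hKeq : K = pGen p (Kbar.comap π) := IsPComponent.eq_pCompOver hK
  have hOM : O ≤ pLayer p X ⊔ pPrimePCore p X := (pPrimeCore_le_comap _).trans le_sup_right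
  have hHM : Kbar.comap π ≤ pLayer p X ⊔ pPrimePCore p X := by
    rw [hKbar, comap_map_eq, hπ, QuotientGroup.ker_mk']
    exact sup_le ((IsPComponent.le_pLayer hK).trans le_sup_left) hOM
  obtain ⟨s, hsH, k, hsk, hsc⟩ := exists_pElement_not_centralizing hcomp
  obtain ⟨m, hm, hmT⟩ := exists_conj_mem_sylow_map_subtype T (hHM hsH) hsk
  have hπm : π m ∈ normalizer (Kbar : Set _) :=
    map_pLayer_sup_pPrimePCore_le_normalizer hcomp (mem_map_of_mem _ hm)
  intro y hy
  have hcomm : y * (m * s * m⁻¹) = (m * s * m⁻¹) * y := ((mem_centralizer_iff.1 hy) _ hmT).symm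
  have ht : π (m * s * m⁻¹) ∈ Kbar := by
    rw [map_mul, map_mul, map_inv]
    exact (mem_normalizer_iff.1 hπm (π s)).1 hsH
  have hnc : π (m * s * m⁻¹) ∉ centralizer (Kbar : Set _) := by
    intro hc
    apply hsc
    rw [mem_centralizer_iff]
    intro l hl
    have hl' : π m * l * (π m)⁻¹ ∈ Kbar := (mem_normalizer_iff.1 hπm l).1 hl
    have := (mem_centralizer_iff.1 hc) _ hl'
    rw [map_mul, map_mul, map_inv] at this
    have e1 : l * π s = (π m)⁻¹ * ((π m * l * (π m)⁻¹) * (π m * π s * (π m)⁻¹)) * π m := by group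
    have e2 : π s * l = (π m)⁻¹ * ((π m * π s * (π m)⁻¹) * (π m * l * (π m)⁻¹)) * π m := by group
    rw [e1, e2, this]
  have hπy : π y ∈ normalizer (Kbar : Set _) := by
    apply mem_normalizer_component_of_commute hcomp ht _ hnc
    rw [← map_mul, ← map_mul, hcomm]
  have h1 : y ∈ normalizer ((Kbar.comap π : Subgroup X) : Set X) :=
    le_normalizer_comap π hπy
  rw [hKeq]
  exact normalizer_le_normalizer_pGen _ h1

/-- `O_{p'}(X)` normalises each `p`-component. -/
theorem pPrimeCore_le_normalizer_pComponent {K : Subgroup X} (hK : IsPComponent p K) :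
    pPrimeCore p X ≤ normalizer (K : Set X) := by
  have hKeq : K = pGen p ((K.map (QuotientGroup.mk' (pPrimeCore p X))).comap
      (QuotientGroup.mk' (pPrimeCore p X))) := IsPComponent.eq_pCompOver hK
  rw [hKeq]
  exact (pPrimeCore_le_comap _).trans (le_normalizer_pGen _)

/-- S1344. -/
theorem IsPComponent.normal_subgroupOf_extendedTwoLayer {K : Subgroup X}
    (hK : IsPComponent 2 K) :
    K ≤ extendedTwoLayer X ∧ (K.subgroupOf (extendedTwoLayer X)).Normal := by
  have hle : K ≤ extendedTwoLayer X := by
    unfold extendedTwoLayer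
    exact (IsPComponent.le_pLayer hK).trans (le_sup_left.trans le_sup_left)
  refine ⟨hle, (normal_subgroupOf_iff_le_normalizer hle).2 ?_⟩
  unfold extendedTwoLayer
  apply sup_le (sup_le (pLayer_le_normalizer_pComponent hK)
    (pPrimeCore_le_normalizer_pComponent hK))
  apply iSup_le
  intro T
  exact (map_subtype_le _).trans (centralizer_sylow_le_normalizer_pComponent hK T)

end Cfsg.Agent.Helper7
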