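import Mathlib
import Cfsg.Prelude.Def_Balance
import Cfsg.Agent.Helper7.ExtLayer2
import Cfsg.Agent.Helper7.Signalizer2

set_option autoImplicit false
set_option linter.style.haveILetI false
set_option linter.unusedSectionVars false

/-! # The extended 2-layer: one Sylow subgroup suffices -/

namespace Cfsg.Agent.Helper7

open Subgroup Cfsg
open scoped Pointwise
open Cfsg.Agent.Helper14 (pCore_isPGroup le_pCore pCore_characteristic)
open Cfsg.Agent.Helper19 (pPrimeCore_coprime)

universe u

/-- (E1) `N_G(S)` normalises `O_{p'}(C_G(S))`. -/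
theorem normalizer_le_normalizer_coreOf_centralizer {G : Type*} [Group G] (p : ℕ)
    (S : Subgroup G) :
    normalizer (S : Set G) ≤ normalizer ((coreOf p (centralizer (S : Set G)) : Subgroup G) : Set G) := by
  unfold coreOf
  exact (normalizer_le_normalizer_centralizer S).trans
    (Cfsg.Agent.Lead.normalizer_le_normalizer_map_of_characteristic _ _)

/-- (E2) Sylow's theorem inside a subgroup, for `p`-subgroups. -/
theorem exists_map_conj_le_sylow_map_subtype {G : Type*} [Group G] [Finite G] {p : ℕ}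
    [hp : Fact p.Prime] {M : Subgroup G} (T : Sylow p M) {Y : Subgroup G} (hYM : Y ≤ M)
    (hY : IsPGroup p Y) :
    ∃ m ∈ M, Y.map (MulAut.conj m).toMonoidHom ≤ (T : Subgroup M).map M.subtype := by
  have hYp : IsPGroup p (Y.subgroupOf M) := hY.comap_subtype
  obtain ⟨R, hR⟩ := hYp.exists_le_sylow
  obtain ⟨m, hm⟩ := MulAction.exists_smul_eq M R T
  refine ⟨m, m.2, ?_⟩
  rintro _ ⟨y, hy, rfl⟩
  have h1 : (⟨y, hYM hy⟩ : M) ∈ R := hR (mem_subgroupOf.2 hy)
  have h2 : m * ⟨y, hYM hy⟩ * m⁻¹ ∈ m • R := by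
    rw [mem_sylow_smul_iff]
    have : m⁻¹ * (m * ⟨y, hYM hy⟩ * m⁻¹) * m = ⟨y, hYM hy⟩ := by group
    rw [this]; exact h1
  rw [hm] at h2
  exact ⟨_, h2, rfl⟩

variable {X : Type u} [Group X] [Finite X] {p : ℕ} [hp : Fact p.Prime]

/-- (E3) `O_{p',p}(X) = O_{p'}(X) S` for some `p`-subgroup `S` of a given Sylow `p`-subgroup of
a normal subgroup containing it. -/
theorem exists_le_sylow_sup_pPrimeCore_eq {M : Subgroup X} (hWM : pPrimePCore p X ≤ M)
    (T : Sylow p M) :
    ∃ S : Subgroup X, S ≤ (T : Subgroup M).map M.subtype ∧ S ⊔ pPrimeCore p X = pPrimePCore p X := by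
  have P : Sylow p (pPrimePCore p X) := default
  obtain ⟨_, hmap⟩ := sylow_pPrimePCore_props P
  set P' := (P : Subgroup (pPrimePCore p X)).map (pPrimePCore p X).subtype with hP'
  have hP'W : P' ≤ pPrimePCore p X := map_subtype_le _
  have hP'p : IsPGroup p P' := P.isPGroup'.map _
  have hsup : P' ⊔ pPrimeCore p X = pPrimePCore p X := by
    have := congrArg (comap (QuotientGroup.mk' (pPrimeCore p X))) hmap
    rw [comap_map_eq, QuotientGroup.ker_mk'] at this
    exact this
  obtain ⟨m, hm, hmT⟩ := exists_map_conj_le_sylow_map_subtype T (hP'W.trans hWM) hP'p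
  refine ⟨P'.map (MulAut.conj m).toMonoidHom, hmT, ?_⟩
  have h1 : (pPrimeCore p X).map (MulAut.conj m).toMonoidHom = pPrimeCore p X :=
    mem_normalizer_iff_map_conj_eq'.1 (by rw [normalizer_eq_top]; exact mem_top m)
  have h2 : (pPrimePCore p X).map (MulAut.conj m).toMonoidHom = pPrimePCore p X :=
    mem_normalizer_iff_map_conj_eq'.1 (by rw [normalizer_eq_top]; exact mem_top m)
  calc P'.map (MulAut.conj m).toMonoidHom ⊔ pPrimeCore p X
      = P'.map (MulAut.conj m).toMonoidHom ⊔ (pPrimeCore p X).map (MulAut.conj m).toMonoidHom := by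
        rw [h1]
    _ = (P' ⊔ pPrimeCore p X).map (MulAut.conj m).toMonoidHom := (Subgroup.map_sup _ _ _).symm
    _ = pPrimePCore p X := by rw [hsup, h2]

/-- (E4) `L_{p'}(X) O_{p',p}(X)` normalises `L_{p'}(X) O_{p'}(X) O_{p'}(C_X(T))`. -/
theorem pLayer_sup_pPrimePCore_le_normalizer (T : Sylow p ↥(pLayer p X ⊔ pPrimePCore p X)) :
    pLayer p X ⊔ pPrimePCore p X ≤ normalizer ((pLayer p X ⊔ pPrimeCore p X ⊔
      coreOf p (centralizer (((T : Subgroup ↥(pLayer p X ⊔ pPrimePCore p X)).map
        (pLayer p X ⊔ pPrimePCore p X).subtype : Subgroup X) : Set X)) : Subgroup X) : Set X) := by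
  set T' := (T : Subgroup ↥(pLayer p X ⊔ pPrimePCore p X)).map
    (pLayer p X ⊔ pPrimePCore p X).subtype with hT'
  set R := pLayer p X ⊔ pPrimeCore p X ⊔ coreOf p (centralizer (T' : Set X)) with hR
  obtain ⟨S, hST, hSsup⟩ := exists_le_sylow_sup_pPrimeCore_eq (le_sup_right) T
  have hT'N : T' ≤ normalizer (R : Set X) := by
    refine le_trans ?_ (normalizer_inf_le_normalizer_sup _ _)
    refine le_inf (le_trans ?_ (normalizer_inf_le_normalizer_sup _ _)) ?_
    · refine le_inf ?_ ?_
      · rw [normalizer_eq_top]; exact le_top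
      · rw [normalizer_eq_top]; exact le_top
    · exact le_normalizer.trans (normalizer_le_normalizer_coreOf_centralizer p T')
  rw [← hSsup]
  apply sup_le ((le_sup_left.trans le_sup_left).trans le_normalizer)
  apply sup_le (hST.trans hT'N)
  exact (le_sup_right.trans le_sup_left).trans le_normalizer

/-- S1341 (any prime): the join over all Sylow subgroups equals the term of a single one. -/
theorem iSup_coreOf_centralizer_sylow_le (T : Sylow p ↥(pLayer p X ⊔ pPrimePCore p X)) :
    (⨆ T₂ : Sylow p ↥(pLayer p X ⊔ pPrimePCore p X),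
      coreOf p (centralizer (((T₂ : Subgroup ↥(pLayer p X ⊔ pPrimePCore p X)).map
        (pLayer p X ⊔ pPrimePCore p X).subtype : Subgroup X) : Set X))) ≤
      pLayer p X ⊔ pPrimeCore p X ⊔
      coreOf p (centralizer (((T : Subgroup ↥(pLayer p X ⊔ pPrimePCore p X)).map
        (pLayer p X ⊔ pPrimePCore p X).subtype : Subgroup X) : Set X)) := by
  apply iSup_le
  intro T₂
  obtain ⟨m, hm⟩ := MulAction.exists_smul_eq ↥(pLayer p X ⊔ pPrimePCore p X) T T₂
  have h1 : ((T₂ : Subgroup ↥(pLayer p X ⊔ pPrimePCore p X)).map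
      (pLayer p X ⊔ pPrimePCore p X).subtype) =
      ((T : Subgroup ↥(pLayer p X ⊔ pPrimePCore p X)).map
        (pLayer p X ⊔ pPrimePCore p X).subtype).map (MulAut.conj (m : X)).toMonoidHom := by
    rw [← hm, ← sylow_conjNormal_map_subtype, Sylow.smul_def, MulAut.conjNormal_val]
  rw [h1, ← coreOf_centralizer_map_conj]
  have h2 := pLayer_sup_pPrimePCore_le_normalizer T m.2
  rw [mem_normalizer_iff_map_conj_eq'] at h2
  rw [← h2]
  exact map_mono le_sup_right

end Cfsg.Agent.Helper7

namespace Cfsg.Agent.Helper7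

open Subgroup Cfsg
open scoped Pointwise
open Cfsg.Agent.Helper14 (pCore_isPGroup le_pCore pCore_characteristic)
open Cfsg.Agent.Helper19 (pPrimeCore_coprime)

universe u

variable {X : Type u} [Group X] [Finite X]

/-- S1341. -/
theorem extendedTwoLayer_eq (T : Sylow 2 ↥(pLayer 2 X ⊔ pPrimePCore 2 X)) :
    extendedTwoLayer X = pLayer 2 X ⊔ oddCore X ⊔
      ((oddCore ↥(centralizer (((T : Subgroup ↥(pLayer 2 X ⊔ pPrimePCore 2 X)).map
        (pLayer 2 X ⊔ pPrimePCore 2 X).subtype : Subgroup X) : Set X))).map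
      (centralizer (((T : Subgroup ↥(pLayer 2 X ⊔ pPrimePCore 2 X)).map
        (pLayer 2 X ⊔ pPrimePCore 2 X).subtype : Subgroup X) : Set X)).subtype) := by
  unfold extendedTwoLayer
  apply le_antisymm
  · exact sup_le le_sup_left (iSup_coreOf_centralizer_sylow_le (p := 2) T)
  · apply sup_le_sup_left
    exact le_iSup (fun T : Sylow 2 ↥(pLayer 2 X ⊔ pPrimePCore 2 X) =>
      (oddCore ↥(centralizer (((T : Subgroup ↥(pLayer 2 X ⊔ pPrimePCore 2 X)).map
          (pLayer 2 X ⊔ pPrimePCore 2 X).subtype : Subgroup X) : Set X))).map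
        (centralizer (((T : Subgroup ↥(pLayer 2 X ⊔ pPrimePCore 2 X)).map
          (pLayer 2 X ⊔ pPrimePCore 2 X).subtype : Subgroup X) : Set X)).subtype) T

/-- S1343. -/
theorem exists_odd_extendedTwoLayer_eq :
    ∃ F : Subgroup X, Odd (Nat.card ↥F) ∧
      (∃ S : Sylow 2 X, (S : Subgroup X) ≤ normalizer (F : Set X)) ∧
      extendedTwoLayer X = pLayer 2 X ⊔ F := by
  have T : Sylow 2 ↥(pLayer 2 X ⊔ pPrimePCore 2 X) := default
  set M := pLayer 2 X ⊔ pPrimePCore 2 X with hM
  set T' := (T : Subgroup M).map M.subtype with hT'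
  set Θ := coreOf 2 (centralizer (T' : Set X)) with hΘ
  refine ⟨oddCore X ⊔ Θ, ?_, ?_, ?_⟩
  · -- odd order
    have h1 := Cfsg.Agent.Helper17.card_sup_mul_card_inf_of_normal (oddCore X) Θ
    have h2 : (Nat.card (oddCore X)).Coprime 2 := pPrimeCore_coprime 2
    have h3 : (Nat.card Θ).Coprime 2 := card_coreOf_coprime _
    have h4 : (Nat.card ↥(oddCore X ⊔ Θ)).Coprime 2 := by
      apply Nat.Coprime.coprime_dvd_left _ (Nat.Coprime.mul_left h2 h3)
      rw [← h1]; exact dvd_mul_right _ _
    rw [Nat.coprime_two_right] at h4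
    exact h4
  · -- a Sylow 2-subgroup of `X` containing `T'`
    have hT'p : IsPGroup 2 T' := T.isPGroup'.map _
    obtain ⟨S, hS⟩ := hT'p.exists_le_sylow
    refine ⟨S, ?_⟩
    -- `S ⊓ M = T'`
    have hSM : (S : Subgroup X).subgroupOf M = (T : Subgroup M) := by
      apply T.is_maximal' (S.isPGroup'.comap_subtype)
      intro t ht
      rw [mem_comap]
      exact hS (mem_map_of_mem _ ht)
    have hT'eq : T' = (S : Subgroup X) ⊓ M := by
      rw [hT', ← hSM, subgroupOf_map_subtype]
    have hSN : (S : Subgroup X) ≤ normalizer (T' : Set X) := by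
      rw [hT'eq]
      refine le_trans ?_ inf_normalizer_le_normalizer_inf
      refine le_inf le_normalizer ?_
      rw [normalizer_eq_top]; exact le_top
    refine le_trans ?_ (normalizer_inf_le_normalizer_sup _ _)
    refine le_inf ?_ (hSN.trans (normalizer_le_normalizer_coreOf_centralizer 2 T'))
    rw [normalizer_eq_top]; exact le_top
  · rw [extendedTwoLayer_eq T, sup_assoc]
    rfl

end Cfsg.Agent.Helper7
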