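import Mathlib
import Cfsg.Prelude.Def_PLocal
import Cfsg.Agent.Helper7.FFCopBridge1

set_option autoImplicit false
set_option linter.style.haveILetI false
set_option linter.unusedSectionVars false

/-! # Bridge: a `p`-solvable group `K` embedded as a normal subgroup of `𝔏`, inside `V ⋊ 𝔏/C(V)` -/

namespace Cfsg.Agent.Helper7

open Subgroup Cfsg
open scoped commutatorElement

variable {K : Type*} [Group K] [Finite K] {𝔏 : Type*} [Group 𝔏] [Finite 𝔏]

theorem omegaZ_isElementaryAbelian {p : ℕ} [hp : Fact p.Prime]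
    (hsep : Cfsg.IsPSolvable p K) (hO : Cfsg.pPrimeCore p K = ⊥) :
    IsElementaryAbelian p (omegaZ p K) := by
  have hc := Cfsg.Agent.Helper23.centralizer_pCore_le_of_isPSolvable hsep hO
  exact (Cfsg.Agent.S0601.result hc).2.1

theorem pCore_quotient_centralizer_omegaZ {p : ℕ} [hp : Fact p.Prime]
    (hsep : Cfsg.IsPSolvable p K) (hO : Cfsg.pPrimeCore p K = ⊥) :
    Cfsg.pCore p (K ⧸ centralizer (omegaZ p K : Set K)) = ⊥ :=
  Cfsg.Agent.S0600.result (omegaZ p K) (omegaZ_isElementaryAbelian hsep hO)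
    (omegaZ_eq_iSup_inf p K)

/-- The FF-module standing hypotheses for the image of `J(K)` in `V ⋊ 𝔏/C_𝔏(V)`. -/
theorem copSetup {p : ℕ} [hp : Fact p.Prime] (j : K →* 𝔏) (hj : Function.Injective j)
    [hVn : ((omegaZ p K).map j).Normal]
    (hsep : Cfsg.IsPSolvable p K) (hO : Cfsg.pPrimeCore p K = ⊥) :
    FFSetup p (ffV ((omegaZ p K).map j))
      (((Cfsg.thompsonSubgroup p K).map j).map (ffIota ((omegaZ p K).map j))) := by
  set V₀ : Subgroup K := omegaZ p K with hV₀
  set V : Subgroup 𝔏 := V₀.map j with hV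
  set J₀ : Subgroup K := Cfsg.thompsonSubgroup p K with hJ₀
  have hV₀el : IsElementaryAbelian p V₀ := omegaZ_isElementaryAbelian hsep hO
  have hVel : IsElementaryAbelian p V := Cfsg.Agent.Helper26.isElementaryAbelian_map j hV₀el
  have hOp₀ := pCore_quotient_centralizer_omegaZ hsep hO
  have hSK := ffSetup_thompson hsep V₀ hV₀el hOp₀
  -- the isomorphism between the two images of `J(K)`
  set f₁ : ↥J₀ →* FFGamma V₀ := (ffIota V₀).comp J₀.subtype with hf₁
  set f₂ : ↥J₀ →* FFGamma V := ((ffIota V).comp j).comp J₀.subtype with hf₂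
  have hr₁ : f₁.range = J₀.map (ffIota V₀) := by
    rw [hf₁, MonoidHom.range_comp, range_subtype]
  have hr₂ : f₂.range = (J₀.map j).map (ffIota V) := by
    rw [hf₂, MonoidHom.range_comp, range_subtype, Subgroup.map_map]
  have hker : f₁.ker = f₂.ker := by
    ext x
    rw [MonoidHom.mem_ker, MonoidHom.mem_ker, hf₁, hf₂, MonoidHom.comp_apply,
      MonoidHom.comp_apply, MonoidHom.comp_apply, ffIota_eq_one_iff, ffIota_eq_one_iff]
    exact (mem_centralizer_map_iff hj V₀ _).symm
  have e : ↥(J₀.map (ffIota V₀)) ≃* ↥((J₀.map j).map (ffIota V)) :=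
    (MulEquiv.subgroupCongr hr₁.symm).trans
      ((rangeEquivOfKerEq f₁ f₂ hker).trans (MulEquiv.subgroupCongr hr₂))
  exact ⟨ffV_isElementaryAbelian V hVel, by
      rw [normalizer_eq_top_iff.mpr (inferInstance : (ffV V).Normal)]; exact le_top,
      map_ffIota_inf_centralizer V (J₀.map j),
      centralizer_pPrimeCore_le_of_mulEquiv e hSK.hS1⟩

/-- The image of `J(K)` is generated by best offenders. -/
theorem copGen {p : ℕ} [hp : Fact p.Prime] (j : K →* 𝔏) (hj : Function.Injective j)
    [hVn : ((omegaZ p K).map j).Normal]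
    (hsep : Cfsg.IsPSolvable p K) (hO : Cfsg.pPrimeCore p K = ⊥) :
    ((Cfsg.thompsonSubgroup p K).map j).map (ffIota ((omegaZ p K).map j)) =
      ⨆ A : {A : Subgroup (FFGamma ((omegaZ p K).map j)) //
        A ≤ ((Cfsg.thompsonSubgroup p K).map j).map (ffIota ((omegaZ p K).map j)) ∧
        IsBestOffenderOn p (ffV ((omegaZ p K).map j)) A},
        (A : Subgroup (FFGamma ((omegaZ p K).map j))) := by
  have hV₀el : IsElementaryAbelian p (omegaZ p K) := omegaZ_isElementaryAbelian hsep hO
  apply le_antisymm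
  · rw [map_le_iff_le_comap, map_le_iff_le_comap]
    unfold Cfsg.thompsonSubgroup
    apply sSup_le
    intro A hA
    rw [← map_le_iff_le_comap, ← map_le_iff_le_comap]
    have hAJ : A ≤ sSup (Cfsg.maxElementaryAbelianSubgroups p K) := le_sSup hA
    exact le_iSup (fun A : {A : Subgroup (FFGamma ((omegaZ p K).map j)) //
        A ≤ ((sSup (Cfsg.maxElementaryAbelianSubgroups p K)).map j).map
          (ffIota ((omegaZ p K).map j)) ∧
        IsBestOffenderOn p (ffV ((omegaZ p K).map j)) A} =>
        (A : Subgroup (FFGamma ((omegaZ p K).map j))))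
      ⟨(A.map j).map (ffIota ((omegaZ p K).map j)), map_mono (map_mono hAJ),
        isBestOffenderOn_map_ffIota _ (isBestOffenderOn_map_of_injective hj
          (Cfsg.Agent.S0606.result (omegaZ p K) hV₀el A hA))⟩
  · exact iSup_le (fun A => A.2.1)

/-- If Thompson factorization fails, the image of `J(K)` is nontrivial. -/
theorem copNe {p : ℕ} [hp : Fact p.Prime] (j : K →* 𝔏) (hj : Function.Injective j)
    [hVn : ((omegaZ p K).map j).Normal]
    (hO : Cfsg.pPrimeCore p K = ⊥) (hnf : ¬ Cfsg.IsThompsonFactorizable p K) :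
    ((Cfsg.thompsonSubgroup p K).map j).map (ffIota ((omegaZ p K).map j)) ≠ ⊥ := by
  intro h
  apply hnf
  rw [Cfsg.Agent.S0608.result hO]
  intro x hx
  have h1 : ffIota ((omegaZ p K).map j) (j x) ∈
      ((Cfsg.thompsonSubgroup p K).map j).map (ffIota ((omegaZ p K).map j)) :=
    ⟨j x, ⟨x, hx, rfl⟩, rfl⟩
  rw [h, mem_bot, ffIota_eq_one_iff] at h1
  exact (mem_centralizer_map_iff hj (omegaZ p K) x).mp h1

/-- Properties of the image of the operator group. -/
theorem copX {p q : ℕ} [hp : Fact p.Prime] [hq : Fact q.Prime] (j : K →* 𝔏)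
    (hj : Function.Injective j) [hVn : ((omegaZ p K).map j).Normal]
    [hJn : ((Cfsg.thompsonSubgroup p K).map j).Normal] {X : Subgroup 𝔏}
    (hXq : IsElementaryAbelian q X) (hqK : ¬ q ∣ Nat.card K) :
    IsElementaryAbelian q (X.map (ffIota ((omegaZ p K).map j))) ∧
    X.map (ffIota ((omegaZ p K).map j)) ≤
      normalizer ((ffV ((omegaZ p K).map j) : Subgroup _) : Set _) ∧
    X.map (ffIota ((omegaZ p K).map j)) ≤
      normalizer ((((Cfsg.thompsonSubgroup p K).map j).map
        (ffIota ((omegaZ p K).map j)) : Subgroup _) : Set _) ∧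
    ¬ q ∣ Nat.card ↥(((Cfsg.thompsonSubgroup p K).map j).map
        (ffIota ((omegaZ p K).map j))) := by
  refine ⟨Cfsg.Agent.Helper26.isElementaryAbelian_map _ hXq, ?_, ?_, ?_⟩
  · rw [normalizer_eq_top_iff.mpr (inferInstance : (ffV ((omegaZ p K).map j)).Normal)]
    exact le_top
  · refine le_trans (map_mono ?_) (le_normalizer_map _)
    rw [normalizer_eq_top_iff.mpr hJn]
    exact le_top
  · intro h
    apply hqK
    refine h.trans ((card_map_dvd _ _).trans ?_)
    rw [card_map_of_injective hj]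
    exact card_subgroup_dvd_card _

end Cfsg.Agent.Helper7
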