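import Mathlib
import Cfsg.Prelude.Def_PLocal
import Cfsg.Agent.Helper7.FFCopBridge2
import Cfsg.Agent.Lead.Coprime2

set_option autoImplicit false
set_option linter.style.haveILetI false
set_option linter.unusedSectionVars false

/-! # Coprime operator groups: lifting fixed points and the fixed `SL₂(p)` (KS 9.3) -/

namespace Cfsg.Agent.Helper7

open Subgroup Cfsg
open scoped commutatorElement

variable {K : Type*} [Group K] [Finite K] {𝔏 : Type*} [Group 𝔏] [Finite 𝔏]

/-- Fixed points of `X` on the image of `J(K)` lift to fixed points on `J(K)`. -/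
theorem copLift {p q : ℕ} [hp : Fact p.Prime] [hq : Fact q.Prime] (j : K →* 𝔏)
    (hj : Function.Injective j) [hVn : ((omegaZ p K).map j).Normal]
    [hJn : ((Cfsg.thompsonSubgroup p K).map j).Normal] {X : Subgroup 𝔏}
    (hXq : IsElementaryAbelian q X) (hqK : ¬ q ∣ Nat.card K) :
    ((Cfsg.thompsonSubgroup p K).map j).map (ffIota ((omegaZ p K).map j)) ⊓
      centralizer ((X.map (ffIota ((omegaZ p K).map j)) : Subgroup _) : Set _) ≤
    (((Cfsg.thompsonSubgroup p K).map j) ⊓ centralizer (X : Set 𝔏)).map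
      (ffIota ((omegaZ p K).map j)) := by
  set V : Subgroup 𝔏 := (omegaZ p K).map j with hV
  set JL : Subgroup 𝔏 := (Cfsg.thompsonSubgroup p K).map j with hJL
  rintro _ ⟨⟨k, hk, rfl⟩, hC'⟩
  have hC : ffIota V k ∈ centralizer ((X.map (ffIota V) : Subgroup _) : Set _) := hC'
  set N : Subgroup 𝔏 := JL ⊓ centralizer (V : Set 𝔏) with hN
  haveI : N.Normal := by rw [hN]; infer_instance
  have hXJ : X ≤ normalizer (JL : Set 𝔏) := by
    rw [normalizer_eq_top_iff.mpr hJn]; exact le_top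
  have hcop : (Nat.card X).Coprime (Nat.card JL) := by
    obtain ⟨n, hn⟩ := IsPGroup.iff_card.mp (IsElementaryAbelian.isPGroup hXq)
    rw [hn]
    apply Nat.Coprime.pow_left
    rw [Nat.Prime.coprime_iff_not_dvd hq.out]
    intro h
    apply hqK
    rw [hJL, card_map_of_injective hj] at h
    exact h.trans (card_subgroup_dvd_card _)
  have hsolv : Group.IsSolvable X := by
    haveI : IsMulCommutative X := hXq.1
    exact Group.isSolvable_of_comm (fun a b => mul_comm' a b)
  have hfix : ∀ a ∈ X, a * k * a⁻¹ * k⁻¹ ∈ N := by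
    intro a ha
    refine mem_inf.mpr ⟨?_, ?_⟩
    · exact mul_mem (hJn.conj_mem k hk a) (inv_mem hk)
    · rw [← ffIota_eq_one_iff, map_mul, map_mul, map_mul, map_inv, map_inv]
      have := (mem_centralizer_iff.mp hC) (ffIota V a) ⟨a, ha, rfl⟩
      rw [this, mul_inv_cancel_right, mul_inv_cancel]
  have hNn : ∀ A : Subgroup 𝔏, A ≤ normalizer (N : Set 𝔏) := by
    intro A
    rw [normalizer_eq_top_iff.mpr (inferInstance : N.Normal)]; exact le_top
  obtain ⟨c, hc, hcN⟩ := Cfsg.Agent.Lead.coprime_fixed_points_quotient X JL hXJ hcop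
    (Or.inl hsolv) N inf_le_left (hNn JL) (hNn X) k hk hfix
  refine ⟨c, hc, ?_⟩
  have h1 : ffIota V (k⁻¹ * c) = 1 := (ffIota_eq_one_iff V _).mpr hcN.2
  rw [map_mul, map_inv, inv_mul_eq_one] at h1
  exact h1.symm

/-- KS 9.3 (= S0621, abstract form): if Thompson factorization fails in `K` then the fixed points
of `X` involve `SL₂(p)` acting on a plane. -/
theorem cop_fixed_SL2 {p q : ℕ} [hp : Fact p.Prime] [hq : Fact q.Prime] (j : K →* 𝔏)
    (hj : Function.Injective j) [hjn : j.range.Normal] {X : Subgroup 𝔏}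
    (hXq : IsElementaryAbelian q X) (hqK : ¬ q ∣ Nat.card K)
    (hsep : Cfsg.IsPSolvable p K) (hO : Cfsg.pPrimeCore p K = ⊥)
    (hnf : ¬ Cfsg.IsThompsonFactorizable p K) :
    (p = 2 ∨ p = 3) ∧ ∃ W D : Subgroup K, W.map j ≤ centralizer (X : Set 𝔏) ∧
      D.map j ≤ centralizer (X : Set 𝔏) ∧ IsElementaryAbelian p W ∧ Nat.card W = p ^ 2 ∧
      D ≤ normalizer (W : Set K) ∧
      ∃ hn : ((centralizer (W : Set K)).subgroupOf D).Normal,
        Nonempty ((↥D ⧸ (centralizer (W : Set K)).subgroupOf D) ≃*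
          Matrix.SpecialLinearGroup (Fin 2) (ZMod p)) := by
  haveI hVn : ((omegaZ p K).map j).Normal := map_normal_of_characteristic j hj (omegaZ p K)
  haveI : (Cfsg.thompsonSubgroup p K).Characteristic :=
    Cfsg.Agent.Helper26.thompsonSubgroup_characteristic p
  haveI hJn : ((Cfsg.thompsonSubgroup p K).map j).Normal :=
    map_normal_of_characteristic j hj (Cfsg.thompsonSubgroup p K)
  have hS := copSetup j hj hsep hO
  have hS3 := copGen j hj hsep hO
  have hH1 := copNe j hj hO hnf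
  obtain ⟨hX1, hX2, hX3, hX4⟩ := copX (p := p) j hj hXq hqK
  set V₀ : Subgroup K := omegaZ p K with hV₀
  set V : Subgroup 𝔏 := V₀.map j with hV
  set JL : Subgroup 𝔏 := (Cfsg.thompsonSubgroup p K).map j with hJL
  have hV₀el : IsElementaryAbelian p V₀ := omegaZ_isElementaryAbelian hsep hO
  obtain ⟨B, hBH, hB⟩ := hS.exists_minOffender hS3 hH1
  have hBm := hB.ffMin hS hBH
  have hp23 := (hS.ffE_mulEquiv hBm).1
  obtain ⟨D', W', hD', hW', hWc, hDN, hDC, ⟨e⟩⟩ := hS.exists_fixed_plane hBm hX4 hX1 hX2 hX3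
  refine ⟨hp23, ?_⟩
  -- the plane
  set ψ : ↥V₀ →* FFGamma V := (ffInl V).comp (j.subgroupMap V₀) with hψ
  have hψinj : Function.Injective ψ := by
    rw [hψ]
    apply (ffInl_injective V).comp
    intro a b hab
    apply Subtype.ext
    apply hj
    exact congrArg Subtype.val hab
  have hψrange : ψ.range = ffV V := by
    rw [hψ, MonoidHom.range_comp,
      MonoidHom.range_eq_top.mpr (MonoidHom.subgroupMap_surjective j V₀), ← MonoidHom.range_eq_map]
    rfl
  have hψconj : ∀ (g : 𝔏) (v : ↥V₀) (h : g * j v * g⁻¹ ∈ V),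
      ffIota V g * ψ v * (ffIota V g)⁻¹ = ffInl V ⟨g * j v * g⁻¹, h⟩ := by
    intro g v h
    rw [hψ, MonoidHom.comp_apply, ffIota_conj]
    rfl
  set W : Subgroup K := (W'.comap ψ).map V₀.subtype with hW
  have hWV₀ : W ≤ V₀ := map_subtype_le _
  have hW'ψ : W' ≤ ψ.range := by rw [hψrange]; exact hW'.trans inf_le_left
  have hWmem : ∀ w : K, w ∈ W ↔ ∃ h : w ∈ V₀, ψ ⟨w, h⟩ ∈ W' := by
    intro w
    constructor
    · rintro ⟨v, hv, rfl⟩
      exact ⟨v.2, hv⟩
    · rintro ⟨h, hw⟩
      exact ⟨⟨w, h⟩, hw, rfl⟩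
  have hWcard : Nat.card W = p ^ 2 := by
    rw [hW, card_map_of_injective V₀.subtype_injective, ← card_map_of_injective hψinj,
      map_comap_eq_self hW'ψ, hWc]
  have hjV : ∀ (g : 𝔏) (v : K), v ∈ V₀ → g * j v * g⁻¹ ∈ V :=
    fun g v hv => hVn.conj_mem _ ⟨v, hv, rfl⟩ g
  -- `X` centralizes `W`
  have hWX : W.map j ≤ centralizer (X : Set 𝔏) := by
    rintro _ ⟨w, hw, rfl⟩
    obtain ⟨hwV, hwW⟩ := (hWmem w).mp hw
    rw [mem_centralizer_iff]
    intro x hx
    have h1 := hψconj x ⟨w, hwV⟩ (hjV x w hwV)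
    have h2 : ffIota V x ∈ centralizer (W' : Set _) := by
      have : ffIota V x ∈ X.map (ffIota V) := ⟨x, hx, rfl⟩
      have h3 : W' ≤ centralizer ((X.map (ffIota V) : Subgroup _) : Set _) :=
        hW'.trans inf_le_right
      exact (le_centralizer_iff.mp h3) this
    have h4 := (mem_centralizer_iff.mp h2) _ hwW
    rw [← h4, mul_inv_cancel_right] at h1
    have h5 := ffInl_injective V h1
    have h6 : j w = x * j w * x⁻¹ := congrArg Subtype.val h5
    calc x * j w = x * j w * x⁻¹ * x := by group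
      _ = j w * x := by rw [← h6]
  -- the group `D`
  set DL : Subgroup 𝔏 := (JL ⊓ centralizer (X : Set 𝔏)) ⊓ D'.comap (ffIota V) with hDL
  set D : Subgroup K := DL.comap j with hD
  have hDmem : ∀ d : K, d ∈ D → ffIota V (j d) ∈ D' := fun d hd => hd.2
  have hDN' : ∀ d ∈ D, ∀ w ∈ W, d * w * d⁻¹ ∈ W := by
    intro d hd w hw
    obtain ⟨hwV, hwW⟩ := (hWmem w).mp hw
    have hcV : d * w * d⁻¹ ∈ V₀ :=
      (inferInstance : V₀.Normal).conj_mem w hwV d
    rw [hWmem]
    refine ⟨hcV, ?_⟩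
    have h1 := hψconj (j d) ⟨w, hwV⟩ (hjV (j d) w hwV)
    have h2 : ψ ⟨d * w * d⁻¹, hcV⟩ = ffInl V ⟨j d * j w * (j d)⁻¹, hjV (j d) w hwV⟩ := by
      rw [hψ, MonoidHom.comp_apply]
      congr 1
      apply Subtype.ext
      change j (d * w * d⁻¹) = _
      rw [map_mul, map_mul, map_inv]
    rw [h2, ← h1]
    exact conj_mem_of_mem_normalizer (hDN (hDmem d hd)) hwW
  have hDW : D ≤ normalizer (W : Set K) := le_normalizer_of_forall_conj_mem hDN'
  have hDX : D.map j ≤ centralizer (X : Set 𝔏) := by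
    rintro _ ⟨d, hd, rfl⟩
    exact hd.1.2
  -- the homomorphism `D → D'`
  set φ : ↥D →* ↥D' := (((ffIota V).comp j).comp D.subtype).codRestrict D'
    (fun d => hDmem d d.2) with hφ
  have hφsurj : Function.Surjective φ := by
    rintro ⟨d', hd'⟩
    have h1 := copLift (p := p) j hj hXq hqK (hD' hd')
    obtain ⟨c, hc, hcd⟩ := h1
    obtain ⟨d₀, hd₀, hd₀c⟩ := hc.1
    have hd₀D : d₀ ∈ D := by
      rw [hD, mem_comap, hd₀c, hDL]
      refine mem_inf.mpr ⟨hc, ?_⟩
      rw [mem_comap, hcd]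
      exact hd'
    refine ⟨⟨d₀, hd₀D⟩, ?_⟩
    apply Subtype.ext
    change ffIota V (j d₀) = d'
    rw [hd₀c, hcd]
  have hφker : φ.ker = (centralizer (W : Set K)).subgroupOf D := by
    ext d
    rw [MonoidHom.mem_ker, mem_subgroupOf]
    have hφd : φ d = 1 ↔ ffIota V (j d) = 1 := by
      constructor
      · intro h
        exact congrArg Subtype.val h
      · intro h
        exact Subtype.ext h
    rw [hφd]
    constructor
    · intro h
      rw [ffIota_eq_one_iff, mem_centralizer_map_iff hj] at h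
      exact centralizer_le hWV₀ h
    · intro h
      have h1 : ffIota V (j d) ∈ D' ⊓ centralizer (W' : Set _) := by
        refine mem_inf.mpr ⟨hDmem d d.2, ?_⟩
        rw [mem_centralizer_iff]
        intro w' hw'
        obtain ⟨v, rfl⟩ := hW'ψ hw'
        have hvW : (v : K) ∈ W := (hWmem _).mpr ⟨v.2, hw'⟩
        have h2 := hψconj (j d) v (hjV (j d) v v.2)
        have h3 : (d : K) * (v : K) * (d : K)⁻¹ = v := by
          have := (mem_centralizer_iff.mp h) (v : K) hvW
          rw [← this, mul_inv_cancel_right]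
        have h4 : ffInl V ⟨j d * j v * (j d)⁻¹, hjV (j d) v v.2⟩ = ψ v := by
          rw [hψ, MonoidHom.comp_apply]
          congr 1
          apply Subtype.ext
          change j d * j v * (j d)⁻¹ = j v
          rw [← map_inv, ← map_mul, ← map_mul, h3]
        rw [h4] at h2
        calc ψ v * ffIota V (j d) = ffIota V (j d) * ψ v * (ffIota V (j d))⁻¹ * ffIota V (j d) := by
              rw [h2]
          _ = ffIota V (j d) * ψ v := by group
      rw [hDC, mem_bot] at h1
      exact h1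
  refine ⟨W, D, hWX, hDX, IsElementaryAbelian.mono hV₀el hWV₀, hWcard, hDW, ?_⟩
  have hn : ((centralizer (W : Set K)).subgroupOf D).Normal := hφker ▸ (inferInstance : φ.ker.Normal)
  refine ⟨hn, ⟨?_⟩⟩
  exact (QuotientGroup.quotientMulEquivOfEq hφker.symm).trans
    ((QuotientGroup.quotientKerEquivOfSurjective φ hφsurj).trans e)

end Cfsg.Agent.Helper7
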