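import Mathlib
import Cfsg.Prelude.Def_PLocal
import Cfsg.Agent.Helper7.FFCopBridge3

set_option autoImplicit false
set_option linter.style.haveILetI false
set_option linter.unusedSectionVars false

/-! # Coprime operator groups: the fixed `SL₂(p)` for subgroups `K`, `X` of a group (= S0621) -/

namespace Cfsg.Agent.Helper7

open Subgroup Cfsg
open scoped commutatorElement

/-- Transport of the section `D / C_D(W)` along an injective homomorphism. -/
theorem exists_quotient_centralizer_map_equiv {K G : Type*} [Group K] [Group G] (f : K →* G)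
    (hf : Function.Injective f) (D₀ W₀ : Subgroup K)
    (hn₀ : ((centralizer (W₀ : Set K)).subgroupOf D₀).Normal) :
    ∃ hn : ((centralizer ((W₀.map f : Subgroup G) : Set G)).subgroupOf (D₀.map f)).Normal,
      Nonempty ((↥(D₀.map f) ⧸ (centralizer ((W₀.map f : Subgroup G) : Set G)).subgroupOf
        (D₀.map f)) ≃* (↥D₀ ⧸ (centralizer (W₀ : Set K)).subgroupOf D₀)) := by
  set ε : ↥D₀ ≃* ↥(D₀.map f) := D₀.equivMapOfInjective f hf with hε
  have hεc : ∀ d : ↥D₀, ((ε d : ↥(D₀.map f)) : G) = f d := fun d => rfl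
  have claim : ((centralizer (W₀ : Set K)).subgroupOf D₀).map ε.toMonoidHom =
      (centralizer ((W₀.map f : Subgroup G) : Set G)).subgroupOf (D₀.map f) := by
    ext y
    constructor
    · rintro ⟨d, hd', rfl⟩
      have hd : (d : K) ∈ centralizer (W₀ : Set K) := mem_subgroupOf.mp hd'
      rw [mem_subgroupOf]
      change ((ε d : ↥(D₀.map f)) : G) ∈ _
      rw [hεc]
      exact (mem_centralizer_map_iff hf W₀ _).mpr hd
    · intro hy
      rw [mem_subgroupOf] at hy
      obtain ⟨d, rfl⟩ := ε.surjective y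
      rw [hεc, mem_centralizer_map_iff hf] at hy
      exact ⟨d, mem_subgroupOf.mpr hy, rfl⟩
  have hn : ((centralizer ((W₀.map f : Subgroup G) : Set G)).subgroupOf (D₀.map f)).Normal := by
    rw [← claim]
    exact Subgroup.Normal.map hn₀ _ ε.surjective
  exact ⟨hn, ⟨(QuotientGroup.congr _ _ ε claim).symm⟩⟩

variable {G : Type*} [Group G] [Finite G]

/-- The data `(𝔏, j, X')` attached to subgroups `K`, `X ≤ N_G(K)` of `G`. -/
theorem inclusion_range_normal (K : Subgroup G) :
    (inclusion (le_normalizer : K ≤ normalizer (K : Set G))).range.Normal := by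
  rw [Subgroup.inclusion_range]
  exact Subgroup.normal_in_normalizer

theorem mem_centralizer_of_map_inclusion_le {K X : Subgroup G}
    (hXK : X ≤ normalizer (K : Set G)) {A : Subgroup ↥K}
    (hA : A.map (inclusion (le_normalizer : K ≤ normalizer (K : Set G))) ≤
      centralizer ((X.subgroupOf (normalizer (K : Set G)) : Subgroup _) : Set _)) :
    A.map K.subtype ≤ K ⊓ centralizer (X : Set G) := by
  rintro _ ⟨a, ha, rfl⟩
  refine mem_inf.mpr ⟨a.2, ?_⟩
  rw [mem_centralizer_iff]
  intro x hx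
  have h1 := hA ⟨a, ha, rfl⟩
  have h2 := (mem_centralizer_iff.mp h1) ⟨x, hXK hx⟩ (mem_subgroupOf.mpr hx)
  exact congrArg Subtype.val h2

/-- KS 9.3 (= S0621). -/
theorem coprime_fixed_points_SL2 {p : ℕ} [hp : Fact p.Prime] {q : ℕ} [hq : Fact q.Prime]
    (K X : Subgroup G) (hXK : X ≤ normalizer (K : Set G)) (hX : IsElementaryAbelian q X)
    (hqK : ¬ q ∣ Nat.card K) (hsep : Cfsg.IsPSolvable p ↥K) (hO : Cfsg.pPrimeCore p ↥K = ⊥)
    (hnf : ¬ Cfsg.IsThompsonFactorizable p ↥K) :
    (p = 2 ∨ p = 3) ∧ ∃ W D : Subgroup G, W ≤ K ⊓ centralizer (X : Set G) ∧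
      D ≤ K ⊓ centralizer (X : Set G) ∧ IsElementaryAbelian p W ∧ Nat.card W = p ^ 2 ∧
      D ≤ normalizer (W : Set G) ∧
      ∃ hn : ((centralizer (W : Set G)).subgroupOf D).Normal,
        Nonempty ((↥D ⧸ (centralizer (W : Set G)).subgroupOf D) ≃*
          Matrix.SpecialLinearGroup (Fin 2) (ZMod p)) := by
  haveI := inclusion_range_normal K
  have hj : Function.Injective (inclusion (le_normalizer : K ≤ normalizer (K : Set G))) :=
    inclusion_injective _
  have hXq' : IsElementaryAbelian q (X.subgroupOf (normalizer (K : Set G))) :=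
    Cfsg.Agent.Helper26.isElementaryAbelian_subgroupOf _ hX
  obtain ⟨hp23, W₀, D₀, hW₀X, hD₀X, hW₀el, hW₀c, hD₀W₀, hn₀, ⟨e⟩⟩ :=
    cop_fixed_SL2 (inclusion (le_normalizer : K ≤ normalizer (K : Set G))) hj hXq' hqK hsep hO hnf
  obtain ⟨hn, ⟨e'⟩⟩ := exists_quotient_centralizer_map_equiv K.subtype K.subtype_injective
    D₀ W₀ hn₀
  refine ⟨hp23, W₀.map K.subtype, D₀.map K.subtype, mem_centralizer_of_map_inclusion_le hXK hW₀X,
    mem_centralizer_of_map_inclusion_le hXK hD₀X,
    Cfsg.Agent.Helper26.isElementaryAbelian_map _ hW₀el, ?_, ?_, hn, ⟨e'.trans e⟩⟩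
  · rw [card_map_of_injective K.subtype_injective, hW₀c]
  · exact (map_mono hD₀W₀).trans (le_normalizer_map _)

end Cfsg.Agent.Helper7
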