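import Mathlib
import Cfsg.Prelude.Def_PLocal
import Cfsg.Agent.Helper7.FFCopFinal
import Cfsg.Agent.Helper26.ThompsonNorm
import Cfsg.Agent.Helper26.OmegaZ
import Cfsg.Agent.Helper10.AGClassic
import Cfsg.Agent.Helper15.SylowInPre

set_option autoImplicit false
set_option linter.style.haveILetI false
set_option linter.unusedSectionVars false

/-! # Coprime operator groups: generation by `N(J(S))`, `C(Ω₁Z(S))`, `C_K(X)` (= S0620) -/

namespace Cfsg.Agent.Helper7

open Subgroup Cfsg
open scoped commutatorElement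

/-- The relative index of images divides the relative index. -/
theorem relIndex_map_map_dvd {K Γ : Type*} [Group K] [Group Γ] (f : K →* Γ) {A B : Subgroup K}
    (hAB : A ≤ B) : (A.map f).relIndex (B.map f) ∣ A.relIndex B := by
  have h1 : ((A.subgroupOf B).map (f.subgroupMap B)) = (A.map f).subgroupOf (B.map f) := by
    ext y
    constructor
    · rintro ⟨b, hb', rfl⟩
      have hb : (b : K) ∈ A := mem_subgroupOf.mp hb'
      rw [mem_subgroupOf]
      exact ⟨b, hb, rfl⟩
    · intro hy
      rw [mem_subgroupOf] at hy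
      obtain ⟨a, ha, hay⟩ := hy
      refine ⟨⟨a, hAB ha⟩, mem_subgroupOf.mpr ha, ?_⟩
      apply Subtype.ext
      exact hay
  have h2 := (A.subgroupOf B).index_map_dvd (MonoidHom.subgroupMap_surjective f B)
  rw [h1] at h2
  exact h2

variable {K : Type*} [Group K] [Finite K] {𝔏 : Type*} [Group 𝔏] [Finite 𝔏]

theorem le_normalizer_thompsonSubgroupOf (p : ℕ) (P : Subgroup K) :
    P ≤ normalizer (Cfsg.thompsonSubgroupOf p P : Set K) := by
  haveI : (Cfsg.thompsonSubgroup p ↥P).Characteristic :=
    Cfsg.Agent.Helper26.thompsonSubgroup_characteristic p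
  unfold Cfsg.thompsonSubgroupOf
  exact Cfsg.Agent.Helper10.le_normalizer_map_subtype_of_normal (Cfsg.thompsonSubgroup p ↥P)

/-- KS 9.3 (= S0620, abstract form). -/
theorem cop_generation {p q : ℕ} [hp : Fact p.Prime] [hq : Fact q.Prime] (j : K →* 𝔏)
    (hj : Function.Injective j) [hjn : j.range.Normal] {X : Subgroup 𝔏}
    (hXq : IsElementaryAbelian q X) (hqK : ¬ q ∣ Nat.card K)
    (hsep : Cfsg.IsPSolvable p K) (hO : Cfsg.pPrimeCore p K = ⊥) (S : Sylow p K) :
    normalizer (Cfsg.thompsonSubgroupOf p (S : Subgroup K) : Set K) ⊔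
      centralizer (Cfsg.omegaOne p ((S : Subgroup K) ⊓
        centralizer ((S : Subgroup K) : Set K)) : Set K) ⊔
      (centralizer (X : Set 𝔏)).comap j = ⊤ := by
  set NJ : Subgroup K := normalizer (Cfsg.thompsonSubgroupOf p (S : Subgroup K) : Set K) with hNJ
  set CZ : Subgroup K := centralizer (Cfsg.omegaOne p ((S : Subgroup K) ⊓
        centralizer ((S : Subgroup K) : Set K)) : Set K) with hCZ
  set L : Subgroup K := NJ ⊔ CZ ⊔ (centralizer (X : Set 𝔏)).comap j with hL
  rw [eq_top_iff]
  by_cases hTF : Cfsg.IsThompsonFactorizable p K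
  · intro g _
    obtain ⟨x, hx, c, hc, n, hn, rfl⟩ := hTF S g
    rw [hO, mem_bot] at hx
    rw [hx, one_mul]
    exact mul_mem (mem_sup_left (mem_sup_right hc)) (mem_sup_left (mem_sup_left hn))
  haveI hVn : ((omegaZ p K).map j).Normal := map_normal_of_characteristic j hj (omegaZ p K)
  haveI : (Cfsg.thompsonSubgroup p K).Characteristic :=
    Cfsg.Agent.Helper26.thompsonSubgroup_characteristic p
  haveI hJn : ((Cfsg.thompsonSubgroup p K).map j).Normal :=
    map_normal_of_characteristic j hj (Cfsg.thompsonSubgroup p K)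
  have hS := copSetup j hj hsep hO
  have hS3 := copGen j hj hsep hO
  obtain ⟨hX1, hX2, hX3, hX4⟩ := copX (p := p) j hj hXq hqK
  set V₀ : Subgroup K := omegaZ p K with hV₀
  set V : Subgroup 𝔏 := V₀.map j with hV
  set J₀ : Subgroup K := Cfsg.thompsonSubgroup p K with hJ₀
  -- (i)
  have hCV : centralizer (V₀ : Set K) ≤ L :=
    (centralizer_le (Cfsg.Agent.Helper26.omegaOne_center_le_iSup p S)).trans
      (le_sup_right.trans le_sup_left)
  -- (ii)
  have hSL : (S : Subgroup K) ≤ L :=
    (le_normalizer_thompsonSubgroupOf p (S : Subgroup K)).trans (le_sup_left.trans le_sup_left)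
  -- (iv)
  have hJL : J₀ ≤ L := by
    set ι' : K →* FFGamma V := (ffIota V).comp j with hι'
    have hH' : (J₀.map j).map (ffIota V) = J₀.map ι' := by rw [Subgroup.map_map]
    have hle : J₀.map ι' ≤ L.map ι' := by
      rw [← hH']
      apply hS.le_of_fixed_of_sylow hS3 hX4 hX1 hX2 hX3 (P := ((S : Subgroup K) ⊓ J₀).map ι')
      · intro h' hh'
        obtain ⟨c, hc, rfl⟩ := copLift (p := p) j hj hXq hqK hh'
        obtain ⟨c₀, hc₀, rfl⟩ := hc.1
        exact ⟨c₀, mem_sup_right (mem_comap.mpr hc.2), rfl⟩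
      · exact map_mono (inf_le_left.trans hSL)
      · rw [hH']
        exact map_mono inf_le_right
      · exact (S.isPGroup'.to_le inf_le_left).map _
      · rw [hH']
        intro h
        have h1 := h.trans (relIndex_map_map_dvd ι' (inf_le_right : (S : Subgroup K) ⊓ J₀ ≤ J₀))
        rw [← Cfsg.Agent.Helper15.relIndex_sup_of_normal] at h1
        exact S.not_dvd_index (h1.trans (relIndex_dvd_index_of_le le_sup_left))
    intro x hx
    obtain ⟨l, hl, hlx⟩ := hle ⟨x, hx, rfl⟩
    have h1 : ι' (l⁻¹ * x) = 1 := by rw [map_mul, map_inv, hlx, inv_mul_cancel]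
    rw [hι', MonoidHom.comp_apply, ffIota_eq_one_iff, mem_centralizer_map_iff hj] at h1
    have : x = l * (l⁻¹ * x) := by group
    rw [this]
    exact mul_mem hl (hCV h1)
  -- (iii)
  intro k _
  have hJS : Cfsg.thompsonSubgroupOf p (S : Subgroup K) ≤ J₀ := by
    rw [hJ₀, Cfsg.Agent.Helper26.thompsonSubgroup_eq_iSup_sylow]
    exact le_iSup (fun S : Sylow p K => Cfsg.thompsonSubgroupOf p (S : Subgroup K)) S
  have hJSk : (Cfsg.thompsonSubgroupOf p (S : Subgroup K)).map (MulAut.conj k).toMonoidHom ≤ J₀ := by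
    rintro _ ⟨y, hy, rfl⟩
    exact (inferInstance : J₀.Normal).conj_mem y (hJS hy) k
  obtain ⟨c, hc, hck⟩ := Cfsg.Agent.Helper26.exists_mul_mem_normalizer_thompson S k hJS hJSk
  have : k = c⁻¹ * (c * k) := by group
  rw [this]
  exact mul_mem (inv_mem (hJL hc)) (mem_sup_left (mem_sup_left hck))

variable {G : Type*} [Group G] [Finite G]

/-- KS 9.3 (= S0620). -/
theorem coprime_generation {p : ℕ} [hp : Fact p.Prime] {q : ℕ} [hq : Fact q.Prime]
    (K X : Subgroup G) (hXK : X ≤ normalizer (K : Set G)) (hX : IsElementaryAbelian q X)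
    (hqK : ¬ q ∣ Nat.card K) (hsep : Cfsg.IsPSolvable p ↥K) (hO : Cfsg.pPrimeCore p ↥K = ⊥)
    (S : Sylow p ↥K) :
    (normalizer (Cfsg.thompsonSubgroupOf p (S : Subgroup ↥K) : Set ↥K) ⊔
      centralizer (Cfsg.omegaOne p ((S : Subgroup ↥K) ⊓
        centralizer ((S : Subgroup ↥K) : Set ↥K)) : Set ↥K) ⊔
      (centralizer (X : Set G)).subgroupOf K) = ⊤ := by
  haveI := inclusion_range_normal K
  have hj : Function.Injective (inclusion (le_normalizer : K ≤ normalizer (K : Set G))) :=
    inclusion_injective _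
  have hXq' : IsElementaryAbelian q (X.subgroupOf (normalizer (K : Set G))) :=
    Cfsg.Agent.Helper26.isElementaryAbelian_subgroupOf _ hX
  have h := cop_generation (inclusion (le_normalizer : K ≤ normalizer (K : Set G))) hj hXq' hqK
    hsep hO S
  have h2 : (centralizer ((X.subgroupOf (normalizer (K : Set G)) : Subgroup _) : Set _)).comap
      (inclusion (le_normalizer : K ≤ normalizer (K : Set G))) =
      (centralizer (X : Set G)).subgroupOf K := by
    ext k
    rw [mem_comap, mem_subgroupOf, mem_centralizer_iff, mem_centralizer_iff]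
    constructor
    · intro hk x hx
      exact congrArg Subtype.val (hk ⟨x, hXK hx⟩ (mem_subgroupOf.mpr hx))
    · intro hk x hx
      apply Subtype.ext
      exact hk (x : G) (mem_subgroupOf.mp hx)
  rw [h2] at h
  exact h

end Cfsg.Agent.Helper7
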