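import Mathlib
import Cfsg.Prelude.Def_Local
import Cfsg.Agent.Helper7.FStar
import Cfsg.Agent.Helper11.Transfer

set_option autoImplicit false

namespace Cfsg.Agent.Helper7

open Subgroup Cfsg

universe u

/-- S1313 -/
theorem card_le_factorial_card_generalizedFitting {G : Type u} [Group G] [Finite G] :
    Nat.card G ≤ Nat.factorial (Nat.card (generalizedFittingSubgroup G)) := by
  set N := generalizedFittingSubgroup G with hN
  have hC : centralizer (N : Set G) ≤ N := centralizer_generalizedFitting_le
  have h1 := Cfsg.Agent.Helper11.relIndex_centralizer_normalizer_dvd_card_mulAut N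
  have h2 := Cfsg.Agent.Helper11.card_mulAut_dvd_factorial N
  rw [normalizer_eq_top, relIndex_top_right] at h1
  have h3 : (centralizer (N : Set G)).index ≤ (Nat.card N - 1).factorial :=
    Nat.le_of_dvd (Nat.factorial_pos _) (h1.trans h2)
  have h4 : Nat.card (centralizer (N : Set G)) ≤ Nat.card N := card_le_of_le hC
  have hpos : 0 < Nat.card N := Nat.card_pos
  calc Nat.card G = Nat.card (centralizer (N : Set G)) * (centralizer (N : Set G)).index :=
        (card_mul_index _).symm
    _ ≤ Nat.card N * (Nat.card N - 1).factorial := Nat.mul_le_mul h4 h3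
    _ = (Nat.card N).factorial := Nat.mul_factorial_pred hpos.ne'

end Cfsg.Agent.Helper7
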