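import Mathlib
import Cfsg.Prelude.Def_Local
import Cfsg.Agent.Helper7.FStarComm5

set_option autoImplicit false
set_option linter.style.haveILetI false
set_option linter.unusedSectionVars false
set_option maxHeartbeats 400000

namespace Cfsg.Agent.Helper7

open Subgroup Cfsg
open scoped commutatorElement

universe u

/-- S2817. -/
theorem commutator_generalizedFitting_pSubgroup
    {H : Type u} [Group H] [Finite H] {p : ℕ} [Fact p.Prime]
    (hO : pCore p H = ⊥) (Q : Subgroup H) (hQ : IsPGroup p Q) (L : Subgroup H)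
    (hL : L = ⁅generalizedFittingSubgroup H, Q⁆) (F : Subgroup H)
    (hF : F ≤ generalizedFittingSubgroup H ∧
      generalizedFittingSubgroup H ≤ normalizer (F : Set H) ∧
      Q ≤ centralizer (F : Set H) ∧
      ∀ N : Subgroup H, N ≤ generalizedFittingSubgroup H →
        generalizedFittingSubgroup H ≤ normalizer (N : Set H) →
        Q ≤ centralizer (N : Set H) → N ≤ F) :
    F = generalizedFittingSubgroup H ⊓ centralizer ((L ⊔ Q : Subgroup H) : Set H) ∧
      ⁅L, Q⁆ = L ∧ L ⊓ F ≤ (frattini L).map L.subtype ∧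
      (∀ B : Subgroup H, IsPGroup p B → B ≤ normalizer (Q : Set H) → ⁅L, B⁆ ≤ F → ⁅L, B⁆ = ⊥) ∧
      (Nat.card (centralizer ((F ⊔ L : Subgroup H) : Set H))).Coprime p := by
  obtain ⟨hFFs, hFsF, hQF, hFmax⟩ := hF
  set Fs := generalizedFittingSubgroup H with hFs
  set E := layer H with hE
  set N := fittingSubgroup H with hN
  have hFsdef : Fs = E ⊔ N := rfl
  haveI hFsn : Fs.Normal := generalizedFittingSubgroup_normal H
  haveI hNn : N.Normal := fittingSubgroup_normal H
  haveI hEn : E.Normal := layer_normal H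
  have hEFs : E ≤ Fs := le_sup_left
  have hNFs : N ≤ Fs := le_sup_right
  have hEN : ⁅E, N⁆ = ⊥ := layer_commutator_fitting
  have hNcop : (Nat.card N).Coprime p := fitting_coprime_of_pCore_eq_bot hO
  have hQN : Q ≤ normalizer (N : Set H) := le_normalizer_of_normal
  have hpcop : ∀ (B : Subgroup H), IsPGroup p B → ∀ (M : Subgroup H), M ≤ N →
      (Nat.card B).Coprime (Nat.card M) := by
    intro B hB M hM
    obtain ⟨n, hn⟩ := IsPGroup.iff_card.1 hB
    rw [hn]
    exact (Nat.Coprime.pow_right n (Nat.Coprime.coprime_dvd_left (card_dvd_of_le hM) hNcop)).symm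
  have hsolv : ∀ (B : Subgroup H), IsPGroup p B → Group.IsSolvable B := by
    intro B hB
    haveI := hB.isNilpotent
    infer_instance
  set R := ⁅N, Q⁆ with hR
  set E₁ := ⁅E, Q⁆ with hE₁
  have hRN : R ≤ N := commutator_le_left _ _
  have hE₁E : E₁ ≤ E := commutator_le_left _ _
  have hRR : ⁅R, Q⁆ = R :=
    Lead.coprime_commutator_commutator Q N hQN (hpcop Q hQ N le_rfl) (Or.inl (hsolv Q hQ))
  have hRL : R ≤ L := by rw [hL]; exact commutator_mono hNFs le_rfl
  have hE₁L : E₁ ≤ L := by rw [hL]; exact commutator_mono hEFs le_rfl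
  have hLle : L ≤ R ⊔ E₁ := by
    rw [hL, hFsdef]; exact commutator_sup_le_of_commute hEN hQN
  have hRE₁ : ⁅R, E₁⁆ = ⊥ := by
    rw [eq_bot_iff, ← hEN, commutator_comm E N]
    exact commutator_mono hRN hE₁E
  have hLFs : L ≤ Fs := by rw [hL]; exact commutator_le_left _ _
  have hFsL : Fs ≤ normalizer (L : Set H) := by
    rw [hL]; exact Lead.le_normalizer_commutator_left Fs Q
  have hQL : Q ≤ normalizer (L : Set H) := by
    rw [hL]; exact Lead.le_normalizer_commutator_right Fs Q
  -- (b)
  have hb : ⁅L, Q⁆ = L := by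
    have := (commutator_sup_centralizer_of_subnormal_le_generalizedFitting' hO Q hQ Fs
      le_rfl hFsn.isSubnormal le_normalizer_of_normal).2
    rw [hL]; exact this.symm
  -- F centralizes L
  have hQFbot : ⁅Q, F⁆ = ⊥ := commutator_eq_bot_iff_le_centralizer.2 hQF
  have hFQbot : ⁅F, Q⁆ = ⊥ := by rw [commutator_comm]; exact hQFbot
  have hLFbot : ⁅L, F⁆ = ⊥ := by
    rw [hL]
    apply commutator_commutator_eq_bot_of_rotate (H₁ := Fs) (H₂ := Q) (H₃ := F)
    · rw [hQFbot, commutator_bot_left]
    · rw [eq_bot_iff, ← hFQbot]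
      exact commutator_mono (Lead.commutator_le_of_le_normalizer hFsF) le_rfl
  have hLF : L ≤ centralizer (F : Set H) := commutator_eq_bot_iff_le_centralizer.1 hLFbot
  have hFL : F ≤ centralizer (L : Set H) := le_centralizer_iff.1 hLF
  have hFQ : F ≤ centralizer (Q : Set H) := le_centralizer_iff.1 hQF
  -- (a)
  have ha : F = Fs ⊓ centralizer ((L ⊔ Q : Subgroup H) : Set H) := by
    apply le_antisymm
    · refine le_inf hFFs ?_
      intro x hx
      exact mem_centralizer_sup_iff.2 ⟨hFL hx, hFQ hx⟩
    · apply hFmax _ inf_le_left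
      · apply le_normalizer_of_forall_conj_mem
        intro g hg x hx
        obtain ⟨hxL, hxQ⟩ := mem_centralizer_sup_iff.1 hx.2
        refine ⟨hFsn.conj_mem x hx.1 g, mem_centralizer_sup_iff.2 ⟨?_, ?_⟩⟩
        · exact conj_mem_centralizer_of_mem_normalizer (hFsL hg) hxL
        · exact conj_mem_centralizer_of_mem hxQ (hL ▸ hxL) hg
      · apply le_centralizer_iff.1
        intro x hx
        exact (mem_centralizer_sup_iff.1 hx.2).2
  have hE₁perf : ⁅E₁, E₁⁆ = E₁ := commutator_layer_perfect Q
  have hE₁LL : E₁ ≤ ⁅L, L⁆ := by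
    calc E₁ = ⁅E₁, E₁⁆ := hE₁perf.symm
      _ ≤ ⁅L, L⁆ := commutator_mono hE₁L hE₁L
  -- (c)
  have hc : L ⊓ F ≤ (frattini L).map L.subtype := by
    intro x hx
    obtain ⟨hxL, hxF⟩ := hx
    have hxLL : x ∈ ⁅L, L⁆ := by
      apply coprime_centralizer_inf_commutator_le (R := R) hQL (hpcop Q hQ R hRN)
      · intro l hl
        obtain ⟨r, hr, e, he, rfl⟩ := (mem_sup_of_commutator_eq_bot hRE₁).1 (hLle hl)
        refine ⟨r, hr, ?_⟩
        have : r⁻¹ * (r * e) = e := by group
        rw [this]
        exact hE₁LL he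
      · refine ⟨⟨hxL, hFQ hxF⟩, ?_⟩
        rw [hb]; exact hxL
    rw [← map_subtype_commutator] at hxLL
    obtain ⟨z, hz, hzx⟩ := hxLL
    have hzc : z ∈ center L := by
      rw [mem_center_iff]
      intro g
      apply Subtype.ext
      rw [Subgroup.coe_mul, Subgroup.coe_mul]
      have hzx' : (z : H) = x := hzx
      rw [hzx']
      exact (mem_centralizer_iff.1 (hFL hxF)) g g.2
    exact ⟨z, center_inf_commutator_le_frattini ⟨hzc, hz⟩, hzx⟩
  -- R is nilpotent and R ∩ C(Q) ≤ Φ(R)
  have hRcent : R ⊓ centralizer (Q : Set H) ≤ (frattini R).map R.subtype := by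
    have h1 : R ⊓ centralizer (Q : Set H) ⊓ ⁅R, Q⁆ ≤ ⁅R, R⁆ := by
      apply coprime_centralizer_inf_commutator_le (R := R)
        (Lead.le_normalizer_commutator_right N Q) (hpcop Q hQ R hRN)
      intro l hl
      exact ⟨l, hl, by simp⟩
    haveI : Group.IsNilpotent N := fittingSubgroup_isNilpotent
    haveI : Group.IsNilpotent R :=
      Subgroup.isNilpotent_of_ker_le_center (Subgroup.inclusion hRN)
        (by rw [(MonoidHom.ker_eq_bot_iff _).2 (Subgroup.inclusion_injective hRN)]; exact bot_le)
    have h2 : commutator R ≤ frattini R := Helper29.commutator_le_frattini_of_nilpotent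
    intro x hx
    have : x ∈ ⁅R, R⁆ := h1 ⟨hx, by rw [hRR]; exact hx.1⟩
    rw [← map_subtype_commutator] at this
    exact map_mono h2 this
  -- (d)
  have hd : ∀ B : Subgroup H, IsPGroup p B → B ≤ normalizer (Q : Set H) → ⁅L, B⁆ ≤ F →
      ⁅L, B⁆ = ⊥ := by
    intro B hB hBQ hLB
    have hBN : B ≤ normalizer (N : Set H) := le_normalizer_of_normal
    have hBR : B ≤ normalizer (R : Set H) := le_normalizer_commutator_of_le hBN hBQ
    have hE₁B : ⁅E₁, B⁆ = ⊥ := by
      apply commutator_eq_bot_of_perfect hE₁perf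
      rw [commutator_eq_bot_iff_le_centralizer, commutator_comm]
      calc ⁅E₁, B⁆ ≤ ⁅L, B⁆ := commutator_mono hE₁L le_rfl
        _ ≤ F := hLB
        _ ≤ centralizer (L : Set H) := hFL
        _ ≤ centralizer (E₁ : Set H) := centralizer_le hE₁L
    have hRB : B ≤ centralizer (R : Set H) := by
      apply Lead.centralizes_of_trivial_on_frattini_quotient B R hBR
      · obtain ⟨n, hn⟩ := IsPGroup.iff_card.1 hB
        rw [hn]
        have h1 : Nat.card (frattini R) ∣ Nat.card N :=
          (Subgroup.card_subgroup_dvd_card _).trans (card_dvd_of_le hRN)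
        exact (Nat.Coprime.pow_right n (Nat.Coprime.coprime_dvd_left h1 hNcop)).symm
      · intro b hb r hr
        apply hRcent
        have h1 : b * r * b⁻¹ * r⁻¹ ∈ ⁅R, B⁆ := by
          rw [commutator_comm]
          have := commutator_mem_commutator hb hr
          rwa [commutatorElement_def] at this
        refine ⟨Lead.commutator_le_of_le_normalizer hBR h1, ?_⟩
        exact hFQ (hLB (commutator_mono hRL le_rfl h1))
    have hLB' : L ≤ centralizer (B : Set H) :=
      hLle.trans (sup_le (le_centralizer_iff.1 hRB) (commutator_eq_bot_iff_le_centralizer.1 hE₁B))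
    exact commutator_eq_bot_iff_le_centralizer.2 hLB'
  refine ⟨ha, hb, hc, hd, ?_⟩
  -- (e)
  by_contra hcon
  have hdvd : p ∣ Nat.card (centralizer ((F ⊔ L : Subgroup H) : Set H)) := by
    rcases Nat.coprime_or_dvd_of_prime (Fact.out : p.Prime)
      (Nat.card (centralizer ((F ⊔ L : Subgroup H) : Set H))) with h | h
    · exact absurd h.symm hcon
    · exact h
  obtain ⟨z, hz⟩ := exists_prime_orderOf_dvd_card' p hdvd
  set P := zpowers (z : H) with hP
  have hzo : orderOf (z : H) = p := by rw [Subgroup.orderOf_coe]; exact hz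
  have hPcard : Nat.card P = p := by rw [hP, Nat.card_zpowers, hzo]
  have hPp : IsPGroup p P := IsPGroup.of_card (n := 1) (by rw [hPcard, pow_one])
  have hPC : P ≤ centralizer ((F ⊔ L : Subgroup H) : Set H) := by
    rw [hP, zpowers_le]; exact z.2
  have hPF : P ≤ centralizer (F : Set H) := fun x hx => (mem_centralizer_sup_iff.1 (hPC hx)).1
  have hPL : P ≤ centralizer (L : Set H) := fun x hx => (mem_centralizer_sup_iff.1 (hPC hx)).2
  have hFP : F ≤ centralizer (P : Set H) := le_centralizer_iff.1 hPF
  have hLP : L ≤ centralizer (P : Set H) := le_centralizer_iff.1 hPL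
  have hEP : E ≤ centralizer (P : Set H) := by
    rw [hE, layer_le_iff]
    intro K hK
    rcases component_le_commutator_or_le_centralizer Q hK with h | h
    · exact (h.trans hE₁L).trans hLP
    · refine le_trans ?_ hFP
      apply hFmax K ((IsComponent.le_layer hK).trans hEFs)
      · rw [hFsdef]
        exact sup_le (layer_le_normalizer_component hK)
          (le_normalizer_of_commutator_eq_bot (component_commutator_fitting hK))
      · exact le_centralizer_iff.1 h
  have hPN : P ≤ normalizer (N : Set H) := le_normalizer_of_normal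
  have hRP : ⁅R, P⁆ = ⊥ := commutator_eq_bot_iff_le_centralizer.2 (hRL.trans hLP)
  have hNR : N ≤ normalizer (R : Set H) := Lead.le_normalizer_commutator_left N Q
  have hNPR : ⁅⁅N, P⁆, R⁆ = ⊥ := by
    apply commutator_commutator_eq_bot_of_rotate (H₁ := N) (H₂ := P) (H₃ := R)
    · rw [commutator_comm P R, hRP, commutator_bot_left]
    · rw [eq_bot_iff, ← hRP]
      exact commutator_mono (Lead.commutator_le_of_le_normalizer hNR) le_rfl
  set D := N ⊓ centralizer (R : Set H) with hD
  have hNPD : ⁅N, P⁆ ≤ D :=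
    le_inf (commutator_le_left _ _) (commutator_eq_bot_iff_le_centralizer.1 hNPR)
  have hQR : Q ≤ normalizer (R : Set H) := Lead.le_normalizer_commutator_right N Q
  have hQD : Q ≤ normalizer (D : Set H) :=
    Lead.le_normalizer_inf' hQN (le_normalizer_centralizer_of_le hQR)
  have hDdecomp := Lead.coprime_commutator_sup_centralizer Q D hQD (hpcop Q hQ D inf_le_left)
    (Or.inl (hsolv Q hQ))
  have hDP : D ≤ centralizer (P : Set H) := by
    rw [← hDdecomp]
    apply sup_le
    · calc ⁅D, Q⁆ ≤ R := commutator_mono inf_le_left le_rfl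
        _ ≤ centralizer (P : Set H) := hRL.trans hLP
    · refine le_trans ?_ hFP
      apply hFmax _ ((inf_le_left.trans inf_le_left).trans hNFs)
      · rw [hFsdef]
        apply sup_le
        · have h1 : E ≤ centralizer (N : Set H) := commutator_eq_bot_iff_le_centralizer.1 hEN
          have h2 : E ≤ centralizer ((D ⊓ centralizer (Q : Set H) : Subgroup H) : Set H) :=
            h1.trans (centralizer_le (inf_le_left.trans inf_le_left))
          exact h2.trans (centralizer_le_normalizer _)
        · apply le_normalizer_of_forall_conj_mem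
          intro n hn x hx
          obtain ⟨⟨hxN, hxR⟩, hxQ⟩ := hx
          refine ⟨⟨hNn.conj_mem x hxN n, ?_⟩, ?_⟩
          · exact conj_mem_centralizer_of_mem_normalizer (hNR hn) hxR
          · exact conj_mem_centralizer_of_mem hxQ hxR hn
      · exact le_centralizer_iff.1 inf_le_right
  have hNPbot : ⁅N, P⁆ = ⊥ := by
    have h1 := Lead.coprime_commutator_commutator P N hPN (hpcop P hPp N le_rfl)
      (Or.inl (hsolv P hPp))
    rw [← h1, eq_bot_iff]
    calc ⁅⁅N, P⁆, P⁆ ≤ ⁅D, P⁆ := commutator_mono hNPD le_rfl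
      _ = ⊥ := commutator_eq_bot_iff_le_centralizer.2 hDP
  have hNP : N ≤ centralizer (P : Set H) := commutator_eq_bot_iff_le_centralizer.1 hNPbot
  have hFsP : Fs ≤ centralizer (P : Set H) := by rw [hFsdef]; exact sup_le hEP hNP
  have hPFs : P ≤ centralizer (Fs : Set H) := le_centralizer_iff.1 hFsP
  have hPN' : P ≤ N :=
    (le_inf (hPFs.trans centralizer_generalizedFitting_le) hPFs).trans
      generalizedFitting_inf_centralizer_le_fitting
  have hpdvd : p ∣ Nat.card N := by
    rw [← hPcard]; exact card_dvd_of_le hPN'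
  have := Nat.Coprime.eq_one_of_dvd hNcop.symm hpdvd
  exact (Fact.out : p.Prime).one_lt.ne' this

end Cfsg.Agent.Helper7
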