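import Cfsg.Agent.Helper7.FieldPSL10

/-!
# Field automorphisms of `PSL_n(F)`, part 11 (helper7)

The centralizer of the standard graph-field involution in the inner-diagonal group is `PGU_n`.
-/

set_option autoImplicit false
set_option linter.unusedSectionVars false
set_option linter.unusedVariables false

namespace Cfsg.Agent.Helper7.FieldPSL

open Matrix Cfsg.Agent.Helper7.GraphPSL Cfsg.Agent.Helper7.AutPSL Cfsg.Agent.Helper7.GraphSplit
open Cfsg.Agent.Helper7.GraphPSU (UData HS mem_HS_iff barGL barGL_coe barGL_gT IsUG isUG_iff IsU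
  mem_GU_iff isUG_mem_HS exists_unitary_mul)

variable {F : Type*} [Field F] {n q : ℕ} (D : UData F q)

theorem sGL_eq_barGL (g : GL (Fin n) F) : sGL D.bar g = barGL D g := by
  apply Units.ext
  rw [sGL_coe, barGL_coe]

theorem gT_mem_scalars {z : GL (Fin n) F} (hz : z ∈ Cfsg.Geo.scalars (Fin n) F) :
    gT z ∈ Cfsg.Geo.scalars (Fin n) F := by
  obtain ⟨c, rfl⟩ := GraphPSU.exists_scalarGL hz
  rw [GraphPSU.gT_scalarGL]
  exact GraphPSU.scalarGL_mem c

/-- the preimage of the centralizer of the graph-field involution: the Hermitian similitudes -/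
theorem comap_centralizer_psiGF :
    (Subgroup.centralizer {(psiGF D.bar :
        MulAut (Matrix.ProjectiveSpecialLinearGroup (Fin n) F))}).comap cGL = HS D n := by
  ext g
  rw [Subgroup.mem_comap, Subgroup.mem_centralizer_singleton_iff, psiGF_mul_cGL, mul_left_inj,
    cGL_eq_iff, starGL_eq_inv, ← _root_.mul_inv_rev, inv_mem_iff, mem_HS_iff]
  have e : gT (ctGL D.bar g * g) = gT g * barGL D g := by
    rw [gT_mul]
    unfold ctGL
    rw [sGL_eq_barGL, barGL_gT, gT_gT]
  constructor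
  · intro h
    rw [← e]
    exact gT_mem_scalars h
  · intro h
    have := gT_mem_scalars h
    rw [← e, gT_gT] at this
    exact this

theorem mem_GU_iff_isUG (g : GL (Fin n) F) : g ∈ Cfsg.GU n F q ↔ IsUG D g := by
  rw [mem_GU_iff D, isUG_iff]

/-- the map `GU_n → Aut(PSL_n(F))` -/
noncomputable def psiU : ↥(Cfsg.GU n F q) →*
    MulAut (Matrix.ProjectiveSpecialLinearGroup (Fin n) F) :=
  (cGL : GL (Fin n) F →* _).comp (Cfsg.GU n F q).subtype

theorem psiU_apply (u : ↥(Cfsg.GU n F q)) :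
    (psiU u : MulAut (Matrix.ProjectiveSpecialLinearGroup (Fin n) F)) = cGL (u : GL (Fin n) F) :=
  rfl

theorem range_psiU [Finite F] [NeZero n] :
    (psiU : ↥(Cfsg.GU n F q) →* MulAut (Matrix.ProjectiveSpecialLinearGroup (Fin n) F)).range
      = Cfsg.inndiagPSL n F ⊓ Subgroup.centralizer {psiGF D.bar} := by
  ext y
  rw [Subgroup.mem_inf, inndiagPSL_eq_range]
  constructor
  · rintro ⟨u, rfl⟩
    refine ⟨⟨(u : GL (Fin n) F), rfl⟩, ?_⟩
    have h1 : (u : GL (Fin n) F) ∈ HS D n := isUG_mem_HS D ((mem_GU_iff_isUG D _).1 u.2)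
    rw [← comap_centralizer_psiGF] at h1
    exact h1
  · rintro ⟨⟨g, rfl⟩, hg⟩
    have h1 : g ∈ HS D n := by
      rw [← comap_centralizer_psiGF]
      exact hg
    obtain ⟨ν, hν⟩ := exists_unitary_mul D h1
    refine ⟨⟨GraphPSU.scalarGL ν * g, (mem_GU_iff_isUG D _).2 hν⟩, ?_⟩
    rw [psiU_apply]
    show cGL (GraphPSU.scalarGL ν * g) = cGL g
    rw [map_mul, cGL_of_mem_scalars _ (GraphPSU.scalarGL_mem ν), one_mul]

theorem ker_psiU :
    (psiU : ↥(Cfsg.GU n F q) →* MulAut (Matrix.ProjectiveSpecialLinearGroup (Fin n) F)).ker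
      = (Cfsg.Geo.scalars (Fin n) F).subgroupOf (Cfsg.GU n F q) := by
  ext u
  rw [MonoidHom.mem_ker, psiU_apply, ← MonoidHom.mem_ker, ker_cGL, Subgroup.mem_subgroupOf]

/-- **the centralizer of the standard graph-field involution in `Inndiag` is `PGU_n`** -/
theorem nonempty_centralizer_equiv_PGU [Finite F] [NeZero n] :
    Nonempty (↥(Cfsg.inndiagPSL n F ⊓ Subgroup.centralizer {(psiGF D.bar :
        MulAut (Matrix.ProjectiveSpecialLinearGroup (Fin n) F))})
      ≃* Cfsg.PGU n F q) := by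
  have e1 : ↥(Cfsg.GU n F q) ⧸ (Cfsg.Geo.scalars (Fin n) F).subgroupOf (Cfsg.GU n F q)
      ≃* ↥(Cfsg.GU n F q) ⧸ (psiU : ↥(Cfsg.GU n F q) →*
        MulAut (Matrix.ProjectiveSpecialLinearGroup (Fin n) F)).ker :=
    QuotientGroup.quotientMulEquivOfEq (ker_psiU (n := n) (q := q)).symm
  have e2 := QuotientGroup.quotientKerEquivRange (psiU : ↥(Cfsg.GU n F q) →*
        MulAut (Matrix.ProjectiveSpecialLinearGroup (Fin n) F))
  have e3 := MulEquiv.subgroupCongr (range_psiU (n := n) D)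
  exact ⟨((e1.trans e2).trans e3).symm⟩

end Cfsg.Agent.Helper7.FieldPSL
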