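import Cfsg.Agent.Helper7.FieldPSL11

/-!
# Field automorphisms of `PSL_n(F)`, part 12 (helper7)

Involutory graph-field automorphisms of `PSL_n(F)`: class splitting and the main theorem.
-/

set_option autoImplicit false
set_option linter.unusedSectionVars false
set_option linter.unusedVariables false

namespace Cfsg.Agent.Helper7.FieldPSL

open Matrix Cfsg.Agent.Helper7.GraphPSL Cfsg.Agent.Helper7.AutPSL Cfsg.Agent.Helper7.GraphSplit
open Cfsg.Agent.Helper7.GraphPSU (UData HS mem_HS_iff barGL barGL_coe barGL_gT IsUG isUG_iff IsU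
  mem_GU_iff isUG_mem_HS exists_unitary_mul)

variable {F : Type*} [Field F] {n q : ℕ} (D : UData F q)

theorem mem_ker_normU_iff (σ : F ≃+* F) (hord : orderOf σ = 2) (u : Fˣ) :
    u ∈ (normU σ).ker ↔ (u : F) * σ (u : F) = 1 := by
  rw [MonoidHom.mem_ker, Units.ext_iff, normU_coe, hord, Units.val_one]
  unfold nrmF
  rw [Finset.prod_range_succ, Finset.prod_range_one, pow_zero, pow_one]
  rfl

theorem orderOf_bar : orderOf D.bar = 2 :=
  orderOf_eq_two_of_invol D.bar (GraphPSU.bar_ne_refl D) D.bar_bar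

theorem det_scalarGL' (c : Fˣ) :
    Matrix.GeneralLinearGroup.det (GraphPSU.scalarGL c : GL (Fin n) F) = c ^ n :=
  det_scalarGL c

/-- the determinants of the Hermitian similitudes -/
theorem map_det_HS [Finite F] [NeZero n] :
    (HS D n).map (Matrix.GeneralLinearGroup.det : GL (Fin n) F →* Fˣ)
      = (powMonoidHom n : Fˣ →* Fˣ).range ⊔ (normU D.bar).ker := by
  classical
  set i0 : Fin n := ⟨0, Nat.pos_of_ne_zero (NeZero.ne n)⟩ with hi0
  apply le_antisymm
  · rintro _ ⟨g, hg, rfl⟩
    obtain ⟨ν, hν⟩ := exists_unitary_mul D hg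
    have h1 : Matrix.GeneralLinearGroup.det g
        = (ν⁻¹) ^ n * Matrix.GeneralLinearGroup.det (GraphPSU.scalarGL ν * g) := by
      rw [map_mul, det_scalarGL', ← mul_assoc, ← mul_pow, inv_mul_cancel, one_pow, one_mul]
    rw [h1]
    refine Subgroup.mul_mem_sup ⟨ν⁻¹, rfl⟩ ?_
    rw [mem_ker_normU_iff _ (orderOf_bar D)]
    have h2 : IsU D ((GraphPSU.scalarGL ν * g : GL (Fin n) F) : Matrix (Fin n) (Fin n) F) :=
      (isUG_iff D _).1 hν
    set W : Matrix (Fin n) (Fin n) F :=
      ((GraphPSU.scalarGL ν * g : GL (Fin n) F) : Matrix (Fin n) (Fin n) F) with hW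
    have h3 := congrArg Matrix.det h2
    rw [Matrix.det_mul, Matrix.det_transpose, Matrix.det_one] at h3
    have h4 : (W.map D.bar).det = D.bar W.det := by
      have := RingHom.map_det (D.bar : F →+* F) W
      rw [RingHom.mapMatrix_apply] at this
      exact this.symm
    rw [h4] at h3
    exact h3
  · apply sup_le
    · rintro _ ⟨m, rfl⟩
      exact ⟨GraphPSU.scalarGL m, GraphPSU.scalarGL_mem_HS D m, by rw [det_scalarGL']; rfl⟩
    · intro u hu
      rw [mem_ker_normU_iff _ (orderOf_bar D)] at hu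
      refine ⟨diagRep i0 u, ?_, ?_⟩
      · apply isUG_mem_HS D
        rw [isUG_iff]
        unfold IsU
        rw [diagRep_coe, Matrix.diagonal_transpose, Matrix.diagonal_map (map_zero _),
          Matrix.diagonal_mul_diagonal, ← Matrix.diagonal_one]
        congr 1
        funext i
        by_cases hi : i = i0
        · subst hi
          simp only [Function.update_self, Function.comp_apply]
          exact hu
        · simp only [Function.update_of_ne hi, Function.comp_apply, map_one, mul_one]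
      · apply Units.ext
        exact diagRep_det i0 u

/-- **the class-splitting count of the standard graph-field involution** -/
theorem splitClassCount_psiGF [Fintype F] [NeZero n] {p f : ℕ} [Fact p.Prime]
    (hF : Fintype.card F = p ^ f) :
    Cfsg.splitClassCount (Cfsg.inndiagPSL n F)
        (Cfsg.Inn (Matrix.ProjectiveSpecialLinearGroup (Fin n) F)) (psiGF D.bar)
      = Nat.gcd n (p ^ (f / 2) - 1) := by
  classical
  have h1 : Cfsg.splitClassCount (Cfsg.inndiagPSL n F)
        (Cfsg.Inn (Matrix.ProjectiveSpecialLinearGroup (Fin n) F)) (psiGF D.bar)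
      = (((Subgroup.centralizer {(psiGF D.bar :
        MulAut (Matrix.ProjectiveSpecialLinearGroup (Fin n) F))}).comap cGL).map
      (Matrix.GeneralLinearGroup.det : GL (Fin n) F →* Fˣ)).index := by
    rw [inndiagPSL_eq_range, inn_eq_map, splitClassCount_eq_index,
      ← index_sup_eq_index_map _ detGL_surjective]
  rw [h1, comap_centralizer_psiGF, map_det_HS, index_pow_sup]
  congr 1
  have h2 : Nat.card (normU D.bar).ker * Nat.card (normU D.bar).range = Nat.card Fˣ := by
    rw [← Subgroup.index_ker, Subgroup.card_mul_index]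
  rw [← h2, Nat.mul_div_cancel_left _ Nat.card_pos, range_normU, card_fixU hF, orderOf_bar]

/-- **involutory graph-field automorphisms of `PSL_n(F)`** -/
theorem graph_field_main {F : Type*} [Field F] [Fintype F] {p f : ℕ} [Fact p.Prime]
    (hF : Fintype.card F = p ^ f) (hf : 1 ≤ f) {n : ℕ} (hn : 3 ≤ n)
    (x : MulAut (Matrix.ProjectiveSpecialLinearGroup (Fin n) F))
    (hx : Cfsg.IsGraphFieldAutClassPSL x) (hx2 : orderOf x = 2) :
    Even f ∧
      (∀ y : MulAut (Matrix.ProjectiveSpecialLinearGroup (Fin n) F),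
        Cfsg.IsGraphFieldAutClassPSL y → orderOf y = 2 →
          Cfsg.IsConjUnder (Cfsg.inndiagPSL n F) x y) ∧
      Nonempty (↥(Cfsg.inndiagPSL n F ⊓ Subgroup.centralizer {x})
        ≃* Cfsg.PGU n F (p ^ (f / 2))) ∧
      Cfsg.splitClassCount (Cfsg.inndiagPSL n F)
        (Cfsg.Inn (Matrix.ProjectiveSpecialLinearGroup (Fin n) F)) x
        = Nat.gcd n (p ^ (f / 2) - 1) := by
  have : NeZero n := ⟨by omega⟩
  have hchar : CharP F p := charP_of_card_eq_prime_pow hF
  have hDn : (Cfsg.inndiagPSL n F).Normal := by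
    rw [inndiagPSL_eq_range]
    exact normal_range_cGL hF hf (by omega) (by omega)
  -- standard form of an involutory graph-field automorphism
  have std : ∀ y : MulAut (Matrix.ProjectiveSpecialLinearGroup (Fin n) F),
      Cfsg.IsGraphFieldAutClassPSL y → orderOf y = 2 →
      ∃ (β : MulAut (Matrix.ProjectiveSpecialLinearGroup (Fin n) F)) (τ : F ≃+* F),
        τ ≠ 1 ∧ (∀ a, τ (τ a) = a) ∧ β * y * β⁻¹ = psiGF τ := by
    rintro y ⟨-, β, φ, γ, τ, hτ1, hφ, hγ, hβ⟩ hy2
    rw [isStdFieldAutPSL_iff] at hφ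
    rw [isInverseTransposeAutPSL_iff] at hγ
    have hβ' : β * y * β⁻¹ = psiGF τ := by
      rw [hβ, hφ, hγ]
      rfl
    have hψ : orderOf (psiGF τ : MulAut (Matrix.ProjectiveSpecialLinearGroup (Fin n) F)) = 2 := by
      rw [← hβ', orderOf_conj', hy2]
    exact ⟨β, τ, hτ1, (invol_of_orderOf_psiGF p hn τ Nat.prime_two hψ).2, hβ'⟩
  obtain ⟨α, σ, hσ1, hσ2, hα⟩ := std x hx hx2
  obtain ⟨hev, D, hD⟩ := exists_UData_of_invol hf hF σ hσ1 hσ2
  subst hD
  refine ⟨hev, ?_, ?_, ?_⟩
  · intro y hy hy2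
    obtain ⟨β, τ, hτ1, hτ2, hβ⟩ := std y hy hy2
    have hτ : τ = D.bar :=
      Cfsg.Agent.Helper7.GraphPSU.invol_unique τ D.bar hτ2 D.bar_bar hτ1
        (GraphPSU.bar_ne_refl D)
    subst hτ
    have hx' : Cfsg.IsConjUnder (Cfsg.inndiagPSL n F) (psiGF D.bar) x := by
      have := isConjUnder_psiGF hF hf hn D.bar α⁻¹
      rw [← hα] at this
      have e : α⁻¹ * (α * x * α⁻¹) * α⁻¹⁻¹ = x := by group
      rw [e] at this
      rw [← hα]
      exact this
    have hy' : Cfsg.IsConjUnder (Cfsg.inndiagPSL n F) (psiGF D.bar) y := by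
      have := isConjUnder_psiGF hF hf hn D.bar β⁻¹
      rw [← hβ] at this
      have e : β⁻¹ * (β * y * β⁻¹) * β⁻¹⁻¹ = y := by group
      rw [e] at this
      rw [← hβ]
      exact this
    have heq := isConjUnder_equivalence (Cfsg.inndiagPSL n F)
    exact heq.trans (heq.symm hx') hy'
  · obtain ⟨e⟩ := nonempty_centralizer_equiv_PGU (n := n) D
    have e1 := centEquiv (Cfsg.inndiagPSL n F) α x
    rw [hα] at e1
    exact ⟨e1.trans e⟩
  · rw [← splitClassCount_conj (Cfsg.inndiagPSL n F)
      (Cfsg.Inn (Matrix.ProjectiveSpecialLinearGroup (Fin n) F)) α x, hα,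
      splitClassCount_psiGF D hF]

end Cfsg.Agent.Helper7.FieldPSL
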