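import Cfsg.Agent.Helper7.FieldPSL1

/-!
# Field automorphisms of `PSL_n(F)`, part 2 (helper7)

Hilbert 90 for a cyclic group `⟨σ⟩` of field automorphisms: for scalars and (Speiser) for `GL_n`.
-/

set_option autoImplicit false
set_option linter.unusedSectionVars false
set_option linter.unusedVariables false

namespace Cfsg.Agent.Helper7.FieldPSL

open Matrix

variable {F : Type*} [Field F] {n : ℕ}

/-- the entrywise action on vectors -/
def vmap (τ : F ≃+* F) (v : Fin n → F) : Fin n → F := fun k => τ (v k)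

theorem vmap_add (τ : F ≃+* F) (v w : Fin n → F) : vmap τ (v + w) = vmap τ v + vmap τ w := by
  funext k
  exact map_add τ _ _

theorem vmap_smul (τ : F ≃+* F) (c : F) (v : Fin n → F) : vmap τ (c • v) = τ c • vmap τ v := by
  funext k
  exact map_mul τ _ _

theorem vmap_mulVec (τ : F ≃+* F) (M : Matrix (Fin n) (Fin n) F) (v : Fin n → F) :
    vmap τ (M *ᵥ v) = M.map τ *ᵥ vmap τ v := by
  funext i
  simp only [vmap, Matrix.mulVec, dotProduct, map_sum, map_mul, Matrix.map_apply]

theorem vmap_sum {ι : Type*} (τ : F ≃+* F) (s : Finset ι) (f : ι → Fin n → F) :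
    vmap τ (∑ i ∈ s, f i) = ∑ i ∈ s, vmap τ (f i) := by
  funext k
  simp only [vmap, Finset.sum_apply, map_sum]

theorem vmap_one (v : Fin n → F) : vmap (1 : F ≃+* F) v = v := rfl

theorem vmap_mul (τ ρ : F ≃+* F) (v : Fin n → F) : vmap (τ * ρ) v = vmap τ (vmap ρ v) := rfl

/-- the partial norms `G σ(G) ⋯ σ^{i-1}(G)` of a matrix -/
def nrmM (σ : F ≃+* F) (G : Matrix (Fin n) (Fin n) F) : ℕ → Matrix (Fin n) (Fin n) F
  | 0 => 1
  | i + 1 => G * (nrmM σ G i).map σ

theorem nrmM_zero (σ : F ≃+* F) (G : Matrix (Fin n) (Fin n) F) : nrmM σ G 0 = 1 := rfl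

theorem nrmM_succ (σ : F ≃+* F) (G : Matrix (Fin n) (Fin n) F) (i : ℕ) :
    nrmM σ G (i + 1) = G * (nrmM σ G i).map σ := rfl

theorem map_pow_apply (σ : F ≃+* F) (i : ℕ) (M : Matrix (Fin n) (Fin n) F) :
    (M.map (σ ^ i : F ≃+* F)).map σ = M.map (σ ^ (i + 1) : F ≃+* F) := by
  ext a b
  simp only [Matrix.map_apply]
  rw [pow_succ']
  rfl

/-- the other recursion -/
theorem nrmM_succ' (σ : F ≃+* F) (G : Matrix (Fin n) (Fin n) F) (i : ℕ) :
    nrmM σ G (i + 1) = nrmM σ G i * G.map (σ ^ i : F ≃+* F) := by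
  induction i with
  | zero =>
    rw [nrmM_succ, nrmM_zero, Matrix.one_mul, pow_zero]
    have h1 : (1 : Matrix (Fin n) (Fin n) F).map σ = 1 := by
      rw [← RingEquiv.coe_toRingHom, ← RingHom.mapMatrix_apply, map_one]
    have h2 : G.map (1 : F ≃+* F) = G := by
      ext a b
      rfl
    rw [h1, h2, Matrix.mul_one]
  | succ i ih =>
    have h1 : (nrmM σ G i * G.map (σ ^ i : F ≃+* F)).map σ
        = (nrmM σ G i).map σ * (G.map (σ ^ i : F ≃+* F)).map σ := by
      ext a b
      simp only [Matrix.map_apply, Matrix.mul_apply, map_sum, map_mul]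
    calc nrmM σ G (i + 1 + 1) = G * (nrmM σ G (i + 1)).map σ := nrmM_succ σ G (i + 1)
      _ = G * ((nrmM σ G i).map σ * (G.map (σ ^ i : F ≃+* F)).map σ) := by rw [ih, h1]
      _ = (G * (nrmM σ G i).map σ) * G.map (σ ^ (i + 1) : F ≃+* F) := by
          rw [map_pow_apply, Matrix.mul_assoc]
      _ = nrmM σ G (i + 1) * G.map (σ ^ (i + 1) : F ≃+* F) := by rw [← nrmM_succ]

/-- **Speiser's theorem** (Hilbert 90 for `GL_n`), cyclic case: if `σ^r = 1` and the norm
`G σ(G) ⋯ σ^{r-1}(G)` is `1` then `G σ(A) = A` for an invertible `A`. -/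
theorem speiser (σ : F ≃+* F) (G : Matrix (Fin n) (Fin n) F) (hN : nrmM σ G (orderOf σ) = 1)
    (hr : 0 < orderOf σ) :
    ∃ A : Matrix (Fin n) (Fin n) F, IsUnit A ∧ G * A.map σ = A := by
  classical
  set r := orderOf σ with hrdef
  have hσr : σ ^ r = 1 := pow_orderOf_eq_one σ
  -- the terms
  let t : (Fin n → F) → ℕ → (Fin n → F) := fun v i => nrmM σ G i *ᵥ vmap (σ ^ i) v
  let b : (Fin n → F) → (Fin n → F) := fun v => ∑ i ∈ Finset.range r, t v i
  let S : Set (Fin n → F) := {w | G *ᵥ vmap σ w = w}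
  have ht : ∀ v i, G *ᵥ vmap σ (t v i) = t v (i + 1) := by
    intro v i
    show G *ᵥ vmap σ (nrmM σ G i *ᵥ vmap (σ ^ i) v) = nrmM σ G (i + 1) *ᵥ vmap (σ ^ (i + 1)) v
    rw [vmap_mulVec, Matrix.mulVec_mulVec, ← nrmM_succ, pow_succ', vmap_mul]
  have ht0 : ∀ v, t v 0 = v := by
    intro v
    show nrmM σ G 0 *ᵥ vmap (σ ^ 0) v = v
    rw [nrmM_zero, pow_zero, Matrix.one_mulVec, vmap_one]
  have htr : ∀ v, t v r = v := by
    intro v
    show nrmM σ G r *ᵥ vmap (σ ^ r) v = v
    rw [hN, hσr, Matrix.one_mulVec, vmap_one]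
  have hS1 : ∀ v, b v ∈ S := by
    intro v
    show G *ᵥ vmap σ (∑ i ∈ Finset.range r, t v i) = ∑ i ∈ Finset.range r, t v i
    rw [vmap_sum, Matrix.mulVec_sum]
    simp_rw [ht]
    have h1 := Finset.sum_range_succ (t v) r
    have h2 := Finset.sum_range_succ' (t v) r
    rw [h1, htr, ht0] at h2
    exact (add_right_cancel h2).symm
  -- linear independence of the powers of `σ`
  have hli : LinearIndependent F (fun i : Fin r => ((σ ^ (i : ℕ) : F ≃+* F) : F → F)) := by
    have h0 := linearIndependent_monoidHom F F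
    have hinj : Function.Injective
        (fun i : Fin r => (MonoidHomClass.toMonoidHom (σ ^ (i : ℕ) : F ≃+* F) : F →* F)) := by
      intro i j hij
      have h1 : (σ ^ (i : ℕ) : F ≃+* F) = σ ^ (j : ℕ) := by
        ext x
        exact DFunLike.congr_fun hij x
      apply Fin.ext
      exact pow_injOn_Iio_orderOf (x := σ) (Set.mem_Iio.2 i.2) (Set.mem_Iio.2 j.2) h1
    exact h0.comp _ hinj
  have hspan : Submodule.span F S = ⊤ := by
    by_contra hne
    obtain ⟨u, hu0, hu⟩ := Submodule.exists_le_ker_of_lt_top _ (lt_top_iff_ne_top.2 hne)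
    apply hu0
    refine LinearMap.ext fun v => ?_
    -- `u (b (c • v)) = 0` for all `c`
    have h1 : ∀ c : F, ∑ i ∈ Finset.range r, (σ ^ i : F ≃+* F) c * u (t v i) = 0 := by
      intro c
      have h2 : u (b (c • v)) = 0 := hu (Submodule.subset_span (hS1 (c • v)))
      have h3 : b (c • v) = ∑ i ∈ Finset.range r, (σ ^ i : F ≃+* F) c • t v i := by
        show ∑ i ∈ Finset.range r, nrmM σ G i *ᵥ vmap (σ ^ i) (c • v) = _
        apply Finset.sum_congr rfl
        intro i _
        rw [vmap_smul, Matrix.mulVec_smul]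
      rw [h3, map_sum] at h2
      simp_rw [map_smul, smul_eq_mul] at h2
      exact h2
    have h4 : ∑ i : Fin r, u (t v i) • ((σ ^ (i : ℕ) : F ≃+* F) : F → F) = 0 := by
      funext c
      rw [Finset.sum_apply, Pi.zero_apply, ← h1 c, Finset.sum_range]
      apply Finset.sum_congr rfl
      intro i _
      rw [Pi.smul_apply, smul_eq_mul, mul_comm]
    have h5 := Fintype.linearIndependent_iff.1 hli (fun i => u (t v i)) h4 ⟨0, hr⟩
    simp only at h5
    rw [ht0] at h5
    rw [h5]
    rfl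
  obtain ⟨bs, hbS, hbspan, hbli⟩ := exists_linearIndependent F S
  have hbtop : ⊤ ≤ Submodule.span F (Set.range ((↑) : bs → (Fin n → F))) := by
    rw [Subtype.range_coe, hbspan, hspan]
  let B : Module.Basis bs F (Fin n → F) := Module.Basis.mk hbli hbtop
  have : Fintype bs := FiniteDimensional.fintypeBasisIndex B
  have hcard : Fintype.card bs = n := by
    rw [← Module.finrank_eq_card_basis B, Module.finrank_fin_fun]
  let e : Fin n ≃ bs := (Fintype.equivFinOfCardEq hcard).symm
  let A : Matrix (Fin n) (Fin n) F := Matrix.of fun i k => ((e k : bs) : Fin n → F) i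
  have hAcol : A.col = fun k => ((e k : bs) : Fin n → F) := by
    funext k i
    rfl
  have hAunit : IsUnit A := by
    rw [← Matrix.linearIndependent_cols_iff_isUnit, hAcol]
    exact hbli.comp e e.injective
  refine ⟨A, hAunit, ?_⟩
  ext i k
  have hk : ((e k : bs) : Fin n → F) ∈ S := hbS (e k).2
  have := congrFun hk i
  simp only [Matrix.mulVec, dotProduct, vmap] at this
  rw [Matrix.mul_apply]
  exact this

/-- the partial norms of a scalar -/
def nrmF (σ : F ≃+* F) (c : F) (i : ℕ) : F := ∏ j ∈ Finset.range i, (σ ^ j : F ≃+* F) c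

theorem nrmF_zero (σ : F ≃+* F) (c : F) : nrmF σ c 0 = 1 := by
  unfold nrmF
  rw [Finset.range_zero, Finset.prod_empty]

theorem nrmF_succ (σ : F ≃+* F) (c : F) (i : ℕ) : nrmF σ c (i + 1) = c * σ (nrmF σ c i) := by
  unfold nrmF
  rw [Finset.prod_range_succ', pow_zero, mul_comm, map_prod]
  congr 1
  apply Finset.prod_congr rfl
  intro j _
  rw [pow_succ']
  rfl

/-- **Hilbert 90**, cyclic case, for scalars -/
theorem hilbert90 (σ : F ≃+* F) (c : F) (hN : nrmF σ c (orderOf σ) = 1) (hr : 0 < orderOf σ) :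
    ∃ m : F, m ≠ 0 ∧ c * σ m = m := by
  classical
  set r := orderOf σ with hrdef
  have hσr : σ ^ r = 1 := pow_orderOf_eq_one σ
  let t : F → ℕ → F := fun v i => nrmF σ c i * (σ ^ i : F ≃+* F) v
  have ht : ∀ v i, c * σ (t v i) = t v (i + 1) := by
    intro v i
    show c * σ (nrmF σ c i * (σ ^ i : F ≃+* F) v) = nrmF σ c (i + 1) * (σ ^ (i + 1) : F ≃+* F) v
    rw [map_mul, nrmF_succ, pow_succ', mul_assoc]
    rfl
  have ht0 : ∀ v, t v 0 = v := by
    intro v
    show nrmF σ c 0 * (σ ^ 0 : F ≃+* F) v = v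
    rw [nrmF_zero, pow_zero, one_mul]
    rfl
  have htr : ∀ v, t v r = v := by
    intro v
    show nrmF σ c r * (σ ^ r : F ≃+* F) v = v
    rw [hN, hσr, one_mul]
    rfl
  have hS1 : ∀ v, c * σ (∑ i ∈ Finset.range r, t v i) = ∑ i ∈ Finset.range r, t v i := by
    intro v
    rw [map_sum, Finset.mul_sum]
    simp_rw [ht]
    have h1 := Finset.sum_range_succ (t v) r
    have h2 := Finset.sum_range_succ' (t v) r
    rw [h1, htr, ht0] at h2
    exact (add_right_cancel h2).symm
  have hli : LinearIndependent F (fun i : Fin r => ((σ ^ (i : ℕ) : F ≃+* F) : F → F)) := by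
    have h0 := linearIndependent_monoidHom F F
    have hinj : Function.Injective
        (fun i : Fin r => (MonoidHomClass.toMonoidHom (σ ^ (i : ℕ) : F ≃+* F) : F →* F)) := by
      intro i j hij
      have h1 : (σ ^ (i : ℕ) : F ≃+* F) = σ ^ (j : ℕ) := by
        ext x
        exact DFunLike.congr_fun hij x
      apply Fin.ext
      exact pow_injOn_Iio_orderOf (x := σ) (Set.mem_Iio.2 i.2) (Set.mem_Iio.2 j.2) h1
    exact h0.comp _ hinj
  by_contra hcon
  push Not at hcon
  have hz : ∀ v, ∑ i ∈ Finset.range r, t v i = 0 := by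
    intro v
    by_contra h0
    exact h0 (hcon _ h0 (hS1 v)).elim
  have h4 : ∑ i : Fin r, nrmF σ c i • ((σ ^ (i : ℕ) : F ≃+* F) : F → F) = 0 := by
    funext v
    rw [Finset.sum_apply, Pi.zero_apply, ← hz v, Finset.sum_range]
    apply Finset.sum_congr rfl
    intro i _
    rw [Pi.smul_apply, smul_eq_mul]
  have h5 := Fintype.linearIndependent_iff.1 hli (fun i => nrmF σ c i) h4 ⟨0, hr⟩
  simp only at h5
  rw [nrmF_zero] at h5
  exact one_ne_zero h5

end Cfsg.Agent.Helper7.FieldPSL
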