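import Cfsg.Agent.Helper7.FieldPSL2

/-!
# Field automorphisms of `PSL_n(F)`, part 3 (helper7)

Descent data for a field automorphism `σ` of finite order, and the centralizer of the standard
field automorphism in the inner-diagonal group.
-/

set_option autoImplicit false
set_option linter.unusedSectionVars false
set_option linter.unusedVariables false

namespace Cfsg.Agent.Helper7.FieldPSL

open Matrix Cfsg.Agent.Helper7.GraphPSL Cfsg.Agent.Helper7.AutPSL

/-- a field automorphism together with an embedding of its fixed field -/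
structure FDesc (F : Type*) [Field F] (F₀ : Type*) [Field F₀] where
  /-- the automorphism -/
  σ : F ≃+* F
  /-- the embedding of the fixed field -/
  j : F₀ →+* F
  fix_j : ∀ x, σ (j x) = j x
  exists_j : ∀ y, σ y = y → ∃ x, j x = y

variable {F : Type*} [Field F] {n : ℕ} {F₀ : Type*} [Field F₀]

/-- the entrywise action on `GL_n` -/
def sGL (σ : F ≃+* F) : GL (Fin n) F →* GL (Fin n) F :=
  Matrix.GeneralLinearGroup.map σ.toRingHom

theorem sGL_coe (σ : F ≃+* F) (g : GL (Fin n) F) :
    ((sGL σ g : GL (Fin n) F) : Matrix (Fin n) (Fin n) F)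
      = (g : Matrix (Fin n) (Fin n) F).map σ := rfl

theorem fieldPSL_mul_cGL' (σ : F ≃+* F) (h : GL (Fin n) F) :
    (fieldPSL σ : MulAut (Matrix.ProjectiveSpecialLinearGroup (Fin n) F)) * cGL h
      = cGL (sGL σ h) * fieldPSL σ := fieldPSL_mul_cGL σ h

theorem sGL_scalarGL (σ : F ≃+* F) (c : Fˣ) :
    sGL σ (scalarGL c : GL (Fin n) F) = scalarGL (Units.map (σ : F →* F) c) := by
  apply Units.ext
  rw [sGL_coe, scalarGL_coe, scalarGL_coe]
  ext a b
  simp only [Matrix.map_apply, Matrix.smul_apply, Matrix.one_apply, smul_eq_mul, map_mul]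
  by_cases hab : a = b
  · simp [hab]
  · simp [hab]

variable (E : FDesc F F₀)

/-- base change of invertible matrices -/
def jGL : GL (Fin n) F₀ →* GL (Fin n) F := Matrix.GeneralLinearGroup.map E.j

theorem jGL_coe (k : GL (Fin n) F₀) :
    ((jGL E k : GL (Fin n) F) : Matrix (Fin n) (Fin n) F)
      = (k : Matrix (Fin n) (Fin n) F₀).map E.j := rfl

theorem jGL_injective : Function.Injective (jGL E : GL (Fin n) F₀ →* GL (Fin n) F) := by
  intro k k' h
  apply Units.ext
  have := congrArg Units.val h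
  rw [jGL_coe, jGL_coe] at this
  ext i l
  have h2 := congrFun (congrFun this i) l
  simp only [Matrix.map_apply] at h2
  exact E.j.injective h2

theorem sGL_jGL (k : GL (Fin n) F₀) : sGL E.σ (jGL E k) = jGL E k := by
  apply Units.ext
  rw [sGL_coe, jGL_coe]
  ext i l
  simp only [Matrix.map_apply]
  exact E.fix_j _

/-- a matrix fixed by `σ` comes from `F₀` -/
theorem exists_jGL_of_fixed (g : GL (Fin n) F) (hg : sGL E.σ g = g) :
    ∃ k : GL (Fin n) F₀, jGL E k = g := by
  classical
  have hfix : ∀ i l, E.σ ((g : Matrix (Fin n) (Fin n) F) i l)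
      = (g : Matrix (Fin n) (Fin n) F) i l := by
    intro i l
    have := congrArg (fun x : GL (Fin n) F => (x : Matrix (Fin n) (Fin n) F) i l) hg
    exact this
  choose K hK using fun i l => E.exists_j _ (hfix i l)
  have hKmap : (Matrix.of K).map E.j = (g : Matrix (Fin n) (Fin n) F) := by
    ext i l
    simp only [Matrix.map_apply, Matrix.of_apply]
    exact hK i l
  have hdet : (Matrix.of K).det ≠ 0 := by
    intro h0
    have h1 : ((Matrix.of K).map E.j).det = 0 := by
      rw [← RingHom.mapMatrix_apply, ← RingHom.map_det, h0, map_zero]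
    rw [hKmap] at h1
    have := g.isUnit.map Matrix.detMonoidHom
    rw [Matrix.coe_detMonoidHom] at this
    exact this.ne_zero h1
  refine ⟨Matrix.GeneralLinearGroup.mkOfDetNeZero (Matrix.of K) hdet, ?_⟩
  apply Units.ext
  rw [jGL_coe]
  exact hKmap

theorem det_jGL (k : GL (Fin n) F₀) :
    Matrix.GeneralLinearGroup.det (jGL E k)
      = Units.map (E.j : F₀ →* F) (Matrix.GeneralLinearGroup.det k) := by
  apply Units.ext
  show ((jGL E k : GL (Fin n) F) : Matrix (Fin n) (Fin n) F).det
    = E.j ((k : Matrix (Fin n) (Fin n) F₀).det)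
  rw [jGL_coe, ← RingHom.mapMatrix_apply, ← RingHom.map_det]

/-- membership in the preimage of the centralizer -/
theorem cGL_mem_centralizer_iff (σ : F ≃+* F) (g : GL (Fin n) F) :
    cGL g ∈ Subgroup.centralizer {(fieldPSL σ :
        MulAut (Matrix.ProjectiveSpecialLinearGroup (Fin n) F))}
      ↔ ∃ c : Fˣ, ((sGL σ g : GL (Fin n) F) : Matrix (Fin n) (Fin n) F)
          = (c : F) • (g : Matrix (Fin n) (Fin n) F) := by
  rw [Subgroup.mem_centralizer_singleton_iff, fieldPSL_mul_cGL', mul_left_inj,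
    ← cGL_eq_iff_smul, eq_comm]

theorem map_pow_eq (σ : F ≃+* F) (g : Matrix (Fin n) (Fin n) F) (c : F)
    (h : g.map σ = c • g) (i : ℕ) : g.map (σ ^ i : F ≃+* F) = nrmF σ c i • g := by
  induction i with
  | zero =>
    rw [nrmF_zero, one_smul, pow_zero]
    ext a b
    rfl
  | succ i ih =>
    rw [← map_pow_apply, ih, nrmF_succ]
    ext a b
    have := congrFun (congrFun h a) b
    simp only [Matrix.map_apply, Matrix.smul_apply, smul_eq_mul] at this ⊢
    rw [map_mul, this]
    ring

/-- the structure of the preimage of the centralizer -/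
theorem exists_scalar_mul_jGL [NeZero n] (hσ : 0 < orderOf E.σ) (g : GL (Fin n) F) (c : Fˣ)
    (h : ((sGL E.σ g : GL (Fin n) F) : Matrix (Fin n) (Fin n) F)
      = (c : F) • (g : Matrix (Fin n) (Fin n) F)) :
    ∃ (m : Fˣ) (k : GL (Fin n) F₀), g = scalarGL m * jGL E k := by
  rw [sGL_coe] at h
  have h1 := map_pow_eq E.σ _ _ h (orderOf E.σ)
  rw [pow_orderOf_eq_one] at h1
  have h2 : (g : Matrix (Fin n) (Fin n) F).map (1 : F ≃+* F) = (g : Matrix (Fin n) (Fin n) F) := by
    ext a b
    rfl
  rw [h2] at h1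
  -- a nonzero entry
  have hN : nrmF E.σ (c : F) (orderOf E.σ) = 1 := by
    by_contra hne
    have h3 : (g : Matrix (Fin n) (Fin n) F) = 0 := by
      have : (1 - nrmF E.σ (c : F) (orderOf E.σ)) • (g : Matrix (Fin n) (Fin n) F) = 0 := by
        rw [sub_smul, one_smul, ← h1, sub_self]
      rcases smul_eq_zero.1 this with h' | h'
      · exact absurd (sub_eq_zero.1 h').symm hne
      · exact h'
    have h4 := g.isUnit.map Matrix.detMonoidHom
    have : Nonempty (Fin n) := ⟨⟨0, Nat.pos_of_ne_zero (NeZero.ne n)⟩⟩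
    rw [Matrix.coe_detMonoidHom, h3, Matrix.det_zero] at h4
    exact not_isUnit_zero h4
  obtain ⟨m, hm0, hm⟩ := hilbert90 E.σ (c : F) hN hσ
  have hfix : sGL E.σ (scalarGL (Units.mk0 m hm0) * g) = scalarGL (Units.mk0 m hm0) * g := by
    apply Units.ext
    rw [sGL_coe, scalarGL_mul_coe, Units.val_mk0]
    ext a b
    have := congrFun (congrFun h a) b
    simp only [Matrix.map_apply, Matrix.smul_apply, smul_eq_mul] at this ⊢
    rw [map_mul, this, ← mul_assoc, mul_comm (E.σ m), hm]
  obtain ⟨k, hk⟩ := exists_jGL_of_fixed E _ hfix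
  refine ⟨(Units.mk0 m hm0)⁻¹, k, ?_⟩
  have hinv : (scalarGL (Units.mk0 m hm0)⁻¹ : GL (Fin n) F) = (scalarGL (Units.mk0 m hm0))⁻¹ :=
    map_inv _ _
  rw [hk, hinv, inv_mul_cancel_left]

end Cfsg.Agent.Helper7.FieldPSL
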