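import Cfsg.Agent.Helper7.FieldPSL3

/-!
# Field automorphisms of `PSL_n(F)`, part 4 (helper7)

The centralizer of the standard field automorphism in the inner-diagonal group is `PGL_n(F₀)`,
and the class-splitting count.
-/

set_option autoImplicit false
set_option linter.unusedSectionVars false
set_option linter.unusedVariables false

namespace Cfsg.Agent.Helper7.FieldPSL

open Matrix Cfsg.Agent.Helper7.GraphPSL Cfsg.Agent.Helper7.AutPSL Cfsg.Agent.Helper7.GraphSplit

variable {F : Type*} [Field F] {n : ℕ} {F₀ : Type*} [Field F₀] (E : FDesc F F₀)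

theorem det_scalarGL (c : Fˣ) :
    Matrix.GeneralLinearGroup.det (scalarGL c : GL (Fin n) F) = c ^ n := by
  apply Units.ext
  show ((scalarGL c : GL (Fin n) F) : Matrix (Fin n) (Fin n) F).det = ((c ^ n : Fˣ) : F)
  rw [scalarGL_det, Units.val_pow_eq_pow_val]

/-- the map `GL_n(F₀) → Aut(PSL_n(F))` -/
noncomputable def psiHom :
    GL (Fin n) F₀ →* MulAut (Matrix.ProjectiveSpecialLinearGroup (Fin n) F) :=
  (cGL : GL (Fin n) F →* _).comp (jGL E)

theorem psiHom_apply (k : GL (Fin n) F₀) : psiHom E k = cGL (jGL E k) := rfl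

theorem jGL_mem_centralizer (k : GL (Fin n) F₀) :
    cGL (jGL E k) ∈ Subgroup.centralizer {(fieldPSL E.σ :
        MulAut (Matrix.ProjectiveSpecialLinearGroup (Fin n) F))} := by
  rw [cGL_mem_centralizer_iff]
  exact ⟨1, by rw [sGL_jGL, Units.val_one, one_smul]⟩

theorem range_psiHom [NeZero n] (hσ : 0 < orderOf E.σ) :
    (psiHom E : GL (Fin n) F₀ →* MulAut (Matrix.ProjectiveSpecialLinearGroup (Fin n) F)).range
      = Cfsg.inndiagPSL n F ⊓ Subgroup.centralizer {fieldPSL E.σ} := by
  ext y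
  rw [Subgroup.mem_inf, inndiagPSL_eq_range]
  constructor
  · rintro ⟨k, rfl⟩
    exact ⟨⟨jGL E k, rfl⟩, jGL_mem_centralizer E k⟩
  · rintro ⟨⟨g, rfl⟩, hg⟩
    obtain ⟨c, hc⟩ := (cGL_mem_centralizer_iff E.σ g).1 hg
    obtain ⟨m, k, rfl⟩ := exists_scalar_mul_jGL E hσ g c hc
    refine ⟨k, ?_⟩
    rw [psiHom_apply, map_mul, cGL_of_mem_scalars _ (scalarGL_mem m), one_mul]

theorem ker_psiHom [NeZero n] :
    (psiHom E : GL (Fin n) F₀ →* MulAut (Matrix.ProjectiveSpecialLinearGroup (Fin n) F)).ker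
      = Subgroup.center (GL (Fin n) F₀) := by
  classical
  ext k
  rw [MonoidHom.mem_ker, psiHom_apply, ← MonoidHom.mem_ker, ker_cGL, Cfsg.Geo.mem_scalars_iff,
    Matrix.GeneralLinearGroup.mem_center_iff_val_mem_range_scalar]
  set i0 : Fin n := ⟨0, Nat.pos_of_ne_zero (NeZero.ne n)⟩ with hi0
  constructor
  · rintro ⟨c, hc⟩
    rw [jGL_coe] at hc
    refine ⟨(k : Matrix (Fin n) (Fin n) F₀) i0 i0, ?_⟩
    ext a b
    have hab := congrFun (congrFun hc a) b
    have h00 := congrFun (congrFun hc i0) i0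
    simp only [Matrix.map_apply, Matrix.smul_apply, Matrix.one_apply, smul_eq_mul, if_true,
      mul_one] at hab h00
    rw [Matrix.scalar_apply, Matrix.diagonal_apply]
    by_cases h : a = b
    · rw [if_pos h]
      rw [if_pos h, mul_one, ← h00] at hab
      subst h
      exact (E.j.injective hab).symm
    · rw [if_neg h]
      rw [if_neg h, mul_zero] at hab
      exact (E.j.injective (by rw [hab, map_zero])).symm
  · rintro ⟨r, hr⟩
    have hr0 : r ≠ 0 := by
      intro h0
      rw [h0, map_zero] at hr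
      have h4 := k.isUnit.map Matrix.detMonoidHom
      have : Nonempty (Fin n) := ⟨i0⟩
      rw [Matrix.coe_detMonoidHom, ← hr, Matrix.det_zero] at h4
      exact not_isUnit_zero h4
    refine ⟨Units.mk0 (E.j r) (by rw [Ne, map_eq_zero]; exact hr0), ?_⟩
    rw [jGL_coe, ← hr, Units.val_mk0]
    ext a b
    simp only [Matrix.map_apply, Matrix.scalar_apply, Matrix.diagonal_apply, Matrix.smul_apply,
      Matrix.one_apply, smul_eq_mul]
    by_cases h : a = b
    · rw [if_pos h, if_pos h, mul_one]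
    · rw [if_neg h, if_neg h, mul_zero, map_zero]

/-- **the centralizer of the standard field automorphism in `Inndiag` is `PGL_n(F₀)`** -/
theorem nonempty_centralizer_equiv [NeZero n] (hσ : 0 < orderOf E.σ) :
    Nonempty (↥(Cfsg.inndiagPSL n F ⊓ Subgroup.centralizer {(fieldPSL E.σ :
        MulAut (Matrix.ProjectiveSpecialLinearGroup (Fin n) F))})
      ≃* Matrix.ProjGenLinGroup (Fin n) F₀) := by
  have e1 : GL (Fin n) F₀ ⧸ Subgroup.center (GL (Fin n) F₀) ≃* GL (Fin n) F₀ ⧸ (psiHom E :
      GL (Fin n) F₀ →* MulAut (Matrix.ProjectiveSpecialLinearGroup (Fin n) F)).ker :=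
    QuotientGroup.quotientMulEquivOfEq (ker_psiHom (n := n) E).symm
  have e2 := QuotientGroup.quotientKerEquivRange (psiHom E :
      GL (Fin n) F₀ →* MulAut (Matrix.ProjectiveSpecialLinearGroup (Fin n) F))
  have e3 := MulEquiv.subgroupCongr (range_psiHom (n := n) E hσ)
  exact ⟨((e1.trans e2).trans e3).symm⟩

/-- the determinants of the preimage of the centralizer -/
theorem map_det_comap [NeZero n] (hσ : 0 < orderOf E.σ) :
    ((Subgroup.centralizer {(fieldPSL E.σ :
        MulAut (Matrix.ProjectiveSpecialLinearGroup (Fin n) F))}).comap cGL).map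
      (Matrix.GeneralLinearGroup.det : GL (Fin n) F →* Fˣ)
      = (powMonoidHom n : Fˣ →* Fˣ).range ⊔ (Units.map (E.j : F₀ →* F)).range := by
  set i0 : Fin n := ⟨0, Nat.pos_of_ne_zero (NeZero.ne n)⟩ with hi0
  apply le_antisymm
  · rintro _ ⟨g, hg, rfl⟩
    have hg' : cGL g ∈ Subgroup.centralizer {(fieldPSL E.σ :
        MulAut (Matrix.ProjectiveSpecialLinearGroup (Fin n) F))} := hg
    obtain ⟨c, hc⟩ := (cGL_mem_centralizer_iff E.σ g).1 hg'
    obtain ⟨m, k, rfl⟩ := exists_scalar_mul_jGL E hσ g c hc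
    rw [map_mul, det_scalarGL, det_jGL]
    exact Subgroup.mul_mem_sup ⟨m, rfl⟩ ⟨_, rfl⟩
  · apply sup_le
    · rintro _ ⟨m, rfl⟩
      refine ⟨scalarGL m, ?_, by rw [det_scalarGL]; rfl⟩
      show cGL (scalarGL m) ∈ Subgroup.centralizer {(fieldPSL E.σ :
        MulAut (Matrix.ProjectiveSpecialLinearGroup (Fin n) F))}
      rw [cGL_of_mem_scalars _ (scalarGL_mem m)]
      exact Subgroup.one_mem _
    · rintro _ ⟨d, rfl⟩
      refine ⟨jGL E (diagRep i0 d), jGL_mem_centralizer E _, ?_⟩
      rw [det_jGL]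
      congr 1
      apply Units.ext
      exact diagRep_det i0 d

/-- **the class-splitting count of the standard field automorphism** -/
theorem splitClassCount_fieldPSL [NeZero n] [Fintype F] [Fintype F₀] (hσ : 0 < orderOf E.σ) :
    Cfsg.splitClassCount (Cfsg.inndiagPSL n F)
        (Cfsg.Inn (Matrix.ProjectiveSpecialLinearGroup (Fin n) F)) (fieldPSL E.σ)
      = Nat.gcd n ((Fintype.card F - 1) / (Fintype.card F₀ - 1)) := by
  classical
  have h1 : Cfsg.splitClassCount (Cfsg.inndiagPSL n F)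
        (Cfsg.Inn (Matrix.ProjectiveSpecialLinearGroup (Fin n) F)) (fieldPSL E.σ)
      = (((Subgroup.centralizer {(fieldPSL E.σ :
        MulAut (Matrix.ProjectiveSpecialLinearGroup (Fin n) F))}).comap cGL).map
      (Matrix.GeneralLinearGroup.det : GL (Fin n) F →* Fˣ)).index := by
    rw [inndiagPSL_eq_range, inn_eq_map, splitClassCount_eq_index,
      ← index_sup_eq_index_map _ detGL_surjective]
  rw [h1, map_det_comap E hσ, index_pow_sup]
  congr 2
  · rw [Nat.card_eq_fintype_card, Fintype.card_units]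
  · have hinj : Function.Injective (Units.map (E.j : F₀ →* F)) :=
      Units.map_injective E.j.injective
    rw [← Nat.card_congr (MonoidHom.ofInjective hinj).toEquiv, Nat.card_eq_fintype_card,
      Fintype.card_units]

end Cfsg.Agent.Helper7.FieldPSL
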