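import Cfsg.Agent.Helper7.FieldPSL6

/-!
# Field automorphisms of `PSL_n(F)`, part 7 (helper7)

Surjectivity of the norm of a finite field, the power formula for `c_g φ_σ`, and the conjugacy
of the elements of order `r` in the coset `Inndiag · φ_σ`.
-/

set_option autoImplicit false
set_option linter.unusedSectionVars false
set_option linter.unusedVariables false

namespace Cfsg.Agent.Helper7.FieldPSL

open Matrix Cfsg.Agent.Helper7.GraphPSL Cfsg.Agent.Helper7.AutPSL

variable {F : Type*} [Field F] {n : ℕ}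

theorem nrmF_mul (σ : F ≃+* F) (a b : F) (i : ℕ) :
    nrmF σ (a * b) i = nrmF σ a i * nrmF σ b i := by
  unfold nrmF
  rw [← Finset.prod_mul_distrib]
  apply Finset.prod_congr rfl
  intro j _
  rw [map_mul]

theorem nrmF_one (σ : F ≃+* F) (i : ℕ) : nrmF σ (1 : F) i = 1 := by
  unfold nrmF
  apply Finset.prod_eq_one
  intro j _
  rw [map_one]

theorem nrmF_ne_zero (σ : F ≃+* F) {a : F} (ha : a ≠ 0) (i : ℕ) : nrmF σ a i ≠ 0 := by
  unfold nrmF
  rw [Finset.prod_ne_zero_iff]
  intro j _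
  rw [Ne, map_eq_zero]
  exact ha

/-- the norm is fixed by `σ` -/
theorem nrmF_fixed (σ : F ≃+* F) {a : F} (ha : a ≠ 0) :
    σ (nrmF σ a (orderOf σ)) = nrmF σ a (orderOf σ) := by
  have h1 := nrmF_succ σ a (orderOf σ)
  have h2 : nrmF σ a (orderOf σ + 1) = nrmF σ a (orderOf σ) * a := by
    unfold nrmF
    rw [Finset.prod_range_succ, pow_orderOf_eq_one]
    rfl
  rw [h2, mul_comm] at h1
  exact (mul_left_cancel₀ ha h1).symm

/-- the norm as a homomorphism of the unit group -/
noncomputable def normU (σ : F ≃+* F) : Fˣ →* Fˣ where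
  toFun u := Units.mk0 (nrmF σ (u : F) (orderOf σ)) (nrmF_ne_zero σ u.ne_zero _)
  map_one' := by
    apply Units.ext
    rw [Units.val_mk0, Units.val_one, nrmF_one]
  map_mul' u v := by
    apply Units.ext
    rw [Units.val_mk0, Units.val_mul, Units.val_mul, Units.val_mk0, Units.val_mk0, nrmF_mul]

theorem normU_coe (σ : F ≃+* F) (u : Fˣ) :
    ((normU σ u : Fˣ) : F) = nrmF σ (u : F) (orderOf σ) := rfl

/-- `u ↦ σ(u) / u` -/
noncomputable def h90U (σ : F ≃+* F) : Fˣ →* Fˣ where
  toFun u := Units.map (σ : F →* F) u / u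
  map_one' := by rw [map_one, div_one]
  map_mul' u v := by rw [map_mul, mul_div_mul_comm]

/-- the units fixed by `σ` -/
def fixU (σ : F ≃+* F) : Subgroup Fˣ where
  carrier := {u | σ (u : F) = u}
  one_mem' := by
    show σ ((1 : Fˣ) : F) = ((1 : Fˣ) : F)
    rw [Units.val_one, map_one]
  mul_mem' := by
    intro a b ha hb
    show σ ((a * b : Fˣ) : F) = ((a * b : Fˣ) : F)
    rw [Units.val_mul, map_mul, ha, hb]
  inv_mem' := by
    intro a ha
    show σ ((a⁻¹ : Fˣ) : F) = ((a⁻¹ : Fˣ) : F)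
    rw [Units.val_inv_eq_inv_val, map_inv₀, ha]

theorem mem_fixU (σ : F ≃+* F) (u : Fˣ) : u ∈ fixU σ ↔ σ (u : F) = u := Iff.rfl

theorem ker_h90U (σ : F ≃+* F) : (h90U σ).ker = fixU σ := by
  ext u
  rw [MonoidHom.mem_ker, mem_fixU]
  show Units.map (σ : F →* F) u / u = 1 ↔ _
  rw [div_eq_one]
  constructor
  · intro h
    have := congrArg Units.val h
    exact this
  · intro h
    exact Units.ext h

theorem range_normU_le (σ : F ≃+* F) : (normU σ).range ≤ fixU σ := by
  rintro _ ⟨u, rfl⟩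
  rw [mem_fixU, normU_coe]
  exact nrmF_fixed σ u.ne_zero

theorem ker_normU_le [Finite F] (σ : F ≃+* F) : (normU σ).ker ≤ (h90U σ).range := by
  intro u hu
  rw [MonoidHom.mem_ker] at hu
  have h1 : nrmF σ (u : F) (orderOf σ) = 1 := by
    rw [← normU_coe, hu, Units.val_one]
  obtain ⟨m, hm0, hm⟩ := hilbert90 σ (u : F) h1 (orderOf_pos_ringAut σ)
  refine ⟨(Units.mk0 m hm0)⁻¹, ?_⟩
  show Units.map (σ : F →* F) (Units.mk0 m hm0)⁻¹ / (Units.mk0 m hm0)⁻¹ = u
  rw [map_inv, inv_div_inv, div_eq_iff_eq_mul]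
  apply Units.ext
  rw [Units.val_mul, Units.val_mk0]
  exact hm.symm

/-- **the norm of a finite field is surjective onto the fixed field** -/
theorem range_normU [Finite F] (σ : F ≃+* F) : (normU σ).range = fixU σ := by
  have : Finite Fˣ := inferInstance
  apply Subgroup.eq_of_le_of_card_ge (range_normU_le σ)
  have h1 : Nat.card (normU σ).ker * Nat.card (normU σ).range = Nat.card Fˣ := by
    rw [← Subgroup.index_ker, Subgroup.card_mul_index]
  have h2 : Nat.card (h90U σ).ker * Nat.card (h90U σ).range = Nat.card Fˣ := by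
    rw [← Subgroup.index_ker, Subgroup.card_mul_index]
  have h3 : Nat.card (normU σ).ker ≤ Nat.card (h90U σ).range :=
    Subgroup.card_le_of_le (ker_normU_le σ)
  rw [ker_h90U] at h2
  have h4 : 0 < Nat.card (h90U σ).range := Nat.card_pos
  by_contra hlt
  push Not at hlt
  have h5 : Nat.card (normU σ).ker * Nat.card (normU σ).range
      < Nat.card (fixU σ) * Nat.card (h90U σ).range := by
    calc Nat.card (normU σ).ker * Nat.card (normU σ).range
        ≤ Nat.card (h90U σ).range * Nat.card (normU σ).range := Nat.mul_le_mul_right _ h3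
      _ < Nat.card (h90U σ).range * Nat.card (fixU σ) := Nat.mul_lt_mul_of_pos_left hlt h4
      _ = Nat.card (fixU σ) * Nat.card (h90U σ).range := mul_comm _ _
  rw [h1, h2] at h5
  exact lt_irrefl _ h5

theorem exists_norm_eq [Finite F] (σ : F ≃+* F) (c : Fˣ) (hc : σ (c : F) = c) :
    ∃ m : Fˣ, nrmF σ (m : F) (orderOf σ) = c := by
  have h : c ∈ (normU σ).range := by
    rw [range_normU]
    exact hc
  obtain ⟨m, hm⟩ := h
  exact ⟨m, by rw [← normU_coe, hm]⟩

/-- partial norms in `GL_n` -/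
def nrmGL (σ : F ≃+* F) (g : GL (Fin n) F) : ℕ → GL (Fin n) F
  | 0 => 1
  | i + 1 => g * sGL σ (nrmGL σ g i)

theorem nrmGL_coe (σ : F ≃+* F) (g : GL (Fin n) F) (i : ℕ) :
    ((nrmGL σ g i : GL (Fin n) F) : Matrix (Fin n) (Fin n) F)
      = nrmM σ (g : Matrix (Fin n) (Fin n) F) i := by
  induction i with
  | zero => rfl
  | succ i ih =>
    show ((g * sGL σ (nrmGL σ g i) : GL (Fin n) F) : Matrix (Fin n) (Fin n) F) = _
    rw [Units.val_mul, sGL_coe, ih, nrmM_succ]

theorem fieldPSL_pow (σ : F ≃+* F) (i : ℕ) :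
    (fieldPSL σ : MulAut (Matrix.ProjectiveSpecialLinearGroup (Fin n) F)) ^ i
      = fieldPSL (σ ^ i) := by
  rw [← fieldHom_apply, ← fieldHom_apply, map_pow]

/-- **the power formula** -/
theorem cGL_mul_fieldPSL_pow (σ : F ≃+* F) (g : GL (Fin n) F) (i : ℕ) :
    (cGL g * fieldPSL σ : MulAut (Matrix.ProjectiveSpecialLinearGroup (Fin n) F)) ^ i
      = cGL (nrmGL σ g i) * fieldPSL (σ ^ i) := by
  induction i with
  | zero =>
    rw [pow_zero, pow_zero]
    show 1 = cGL 1 * fieldPSL 1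
    rw [map_one, one_mul, ← fieldHom_apply, map_one]
  | succ i ih =>
    rw [pow_succ', ih]
    show _ = cGL (g * sGL σ (nrmGL σ g i)) * fieldPSL (σ ^ (i + 1))
    rw [map_mul, pow_succ', ← fieldHom_apply (σ * σ ^ i), map_mul, fieldHom_apply, fieldHom_apply]
    calc cGL g * fieldPSL σ * (cGL (nrmGL σ g i) * fieldPSL (σ ^ i))
        = cGL g * (fieldPSL σ * cGL (nrmGL σ g i)) * fieldPSL (σ ^ i) := by group
      _ = cGL g * (cGL (sGL σ (nrmGL σ g i)) * fieldPSL σ) * fieldPSL (σ ^ i) := by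
          rw [fieldPSL_mul_cGL']
      _ = _ := by group

theorem nrmM_smul (σ : F ≃+* F) (m : F) (G : Matrix (Fin n) (Fin n) F) (i : ℕ) :
    nrmM σ (m • G) i = nrmF σ m i • nrmM σ G i := by
  induction i with
  | zero => rw [nrmM_zero, nrmM_zero, nrmF_zero, one_smul]
  | succ i ih =>
    rw [nrmM_succ, nrmM_succ, ih, nrmF_succ]
    ext a b
    simp only [Matrix.mul_apply, Matrix.smul_apply, Matrix.map_apply, smul_eq_mul, map_mul,
      Finset.mul_sum]
    apply Finset.sum_congr rfl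
    intro k _
    ring

/-- **conjugacy in the coset of a field automorphism** -/
theorem conj_of_pow_eq_one [Finite F] [NeZero n] (σ : F ≃+* F) (g : GL (Fin n) F)
    (h : (cGL g * fieldPSL σ : MulAut (Matrix.ProjectiveSpecialLinearGroup (Fin n) F))
      ^ (orderOf σ) = 1) :
    ∃ B : GL (Fin n) F, (cGL g * fieldPSL σ :
        MulAut (Matrix.ProjectiveSpecialLinearGroup (Fin n) F))
      = cGL B * fieldPSL σ * (cGL B)⁻¹ := by
  classical
  set r := orderOf σ with hr
  have hrpos : 0 < r := orderOf_pos_ringAut σ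
  set G : Matrix (Fin n) (Fin n) F := (g : Matrix (Fin n) (Fin n) F) with hG
  have hG0 : G ≠ 0 := by
    intro h0
    have h4 := g.isUnit.map Matrix.detMonoidHom
    have : Nonempty (Fin n) := ⟨⟨0, Nat.pos_of_ne_zero (NeZero.ne n)⟩⟩
    rw [Matrix.coe_detMonoidHom, ← hG, h0, Matrix.det_zero] at h4
    exact not_isUnit_zero h4
  rw [cGL_mul_fieldPSL_pow, pow_orderOf_eq_one] at h
  have h1 : (fieldPSL (1 : F ≃+* F) : MulAut (Matrix.ProjectiveSpecialLinearGroup (Fin n) F))
      = 1 := by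
    rw [← fieldHom_apply, map_one]
  rw [h1, mul_one, ← MonoidHom.mem_ker, ker_cGL, Cfsg.Geo.mem_scalars_iff] at h
  obtain ⟨c, hc⟩ := h
  rw [nrmGL_coe] at hc
  -- `c` is fixed by `σ`
  have hcfix : σ (c : F) = c := by
    have e1 := nrmM_succ σ G r
    have e2 := nrmM_succ' σ G r
    rw [hr, pow_orderOf_eq_one, ← hr] at e2
    have e3 : G.map (1 : F ≃+* F) = G := by
      ext a b
      rfl
    rw [e3, e1, hc] at e2
    have e4 : ((c : F) • (1 : Matrix (Fin n) (Fin n) F)).map σ
        = σ (c : F) • (1 : Matrix (Fin n) (Fin n) F) := by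
      ext a b
      simp only [Matrix.map_apply, Matrix.smul_apply, Matrix.one_apply, smul_eq_mul, map_mul]
      by_cases hab : a = b
      · simp [hab]
      · simp [hab]
    rw [e4, Matrix.mul_smul, Matrix.mul_one, Matrix.smul_mul, Matrix.one_mul] at e2
    have e5 : (σ (c : F) - c) • G = 0 := by rw [sub_smul, e2, sub_self]
    rcases smul_eq_zero.1 e5 with h' | h'
    · exact sub_eq_zero.1 h'
    · exact absurd h' hG0
  obtain ⟨m, hm⟩ := exists_norm_eq σ c⁻¹ (by
    rw [Units.val_inv_eq_inv_val, map_inv₀, hcfix])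
  have hN : nrmM σ ((m : F) • G) r = 1 := by
    rw [nrmM_smul, hc, hm, smul_smul, Units.val_inv_eq_inv_val, inv_mul_cancel₀ c.ne_zero,
      one_smul]
  obtain ⟨A, hA, hGA⟩ := speiser σ ((m : F) • G) hN hrpos
  set B : GL (Fin n) F := hA.unit with hB
  have hBA : (B : Matrix (Fin n) (Fin n) F) = A := rfl
  have key : scalarGL m * g * sGL σ B = B := by
    apply Units.ext
    rw [Units.val_mul, scalarGL_mul_coe, sGL_coe, hBA]
    exact hGA
  have key2 : cGL g * cGL (sGL σ B) = cGL B := by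
    have := congrArg (cGL : GL (Fin n) F →* MulAut
      (Matrix.ProjectiveSpecialLinearGroup (Fin n) F)) key
    rw [map_mul, map_mul, cGL_of_mem_scalars _ (scalarGL_mem m), one_mul] at this
    exact this
  refine ⟨B, ?_⟩
  have key3 : (fieldPSL σ : MulAut (Matrix.ProjectiveSpecialLinearGroup (Fin n) F)) * (cGL B)⁻¹
      = (cGL (sGL σ B))⁻¹ * fieldPSL σ := by
    rw [eq_inv_mul_iff_mul_eq, ← mul_assoc, ← fieldPSL_mul_cGL', mul_assoc, mul_inv_cancel,
      mul_one]
  rw [mul_assoc, key3, ← key2]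
  group

end Cfsg.Agent.Helper7.FieldPSL
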