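import Cfsg.Agent.Helper7.FieldPSL8

/-!
# Field automorphisms of `PSL_n(F)`, part 9 (helper7)

Conjugacy in the coset `Inndiag · ψ` of a graph-field involution, and the coset-conjugacy theorem
for field and graph-field automorphisms of prime order.
-/

set_option autoImplicit false
set_option linter.unusedSectionVars false
set_option linter.unusedVariables false

namespace Cfsg.Agent.Helper7.FieldPSL

open Matrix Cfsg.Agent.Helper7.GraphPSL Cfsg.Agent.Helper7.AutPSL

variable {F : Type*} [Field F] {n : ℕ}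

theorem sq_eq_one_of_invol (σ : F ≃+* F) (hσ2 : ∀ a, σ (σ a) = a) : σ * σ = 1 := by
  ext a
  exact hσ2 a

theorem orderOf_eq_two_of_invol (σ : F ≃+* F) (hσ : σ ≠ 1) (hσ2 : ∀ a, σ (σ a) = a) :
    orderOf σ = 2 := by
  apply orderOf_eq_prime
  · rw [pow_two]
    exact sq_eq_one_of_invol σ hσ2
  · exact hσ

/-- **conjugacy in the coset of a graph-field involution** -/
theorem conj_of_sq_eq_one [Finite F] [NeZero n] (σ : F ≃+* F) (hσ : σ ≠ 1)
    (hσ2 : ∀ a, σ (σ a) = a) (g : GL (Fin n) F)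
    (h : (cGL g * psiGF σ : MulAut (Matrix.ProjectiveSpecialLinearGroup (Fin n) F)) ^ 2 = 1) :
    ∃ B : GL (Fin n) F, (cGL g * psiGF σ :
        MulAut (Matrix.ProjectiveSpecialLinearGroup (Fin n) F))
      = cGL B * psiGF σ * (cGL B)⁻¹ := by
  classical
  set G : Matrix (Fin n) (Fin n) F := (g : Matrix (Fin n) (Fin n) F) with hG
  have hG0 : G ≠ 0 := by
    intro h0
    have h4 := g.isUnit.map Matrix.detMonoidHom
    have : Nonempty (Fin n) := ⟨⟨0, Nat.pos_of_ne_zero (NeZero.ne n)⟩⟩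
    rw [Matrix.coe_detMonoidHom, ← hG, h0, Matrix.det_zero] at h4
    exact not_isUnit_zero h4
  rw [cGL_mul_psiGF_sq, sq_eq_one_of_invol σ hσ2] at h
  have h1 : (fieldPSL (1 : F ≃+* F) : MulAut (Matrix.ProjectiveSpecialLinearGroup (Fin n) F))
      = 1 := by
    rw [← fieldHom_apply, map_one]
  rw [h1, mul_one, ← MonoidHom.mem_ker, ker_cGL, Cfsg.Geo.mem_scalars_iff] at h
  obtain ⟨c, hc⟩ := h
  -- `G = c • G*`
  have hGc : G = (c : F) • (G.map σ)ᵀ := by
    have e1 : g * starGL σ g = scalarGL c := by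
      apply Units.ext
      rw [hc, scalarGL_coe]
    rw [starGL_eq_inv, mul_inv_eq_iff_eq_mul] at e1
    have e2 := congrArg Units.val e1
    rw [scalarGL_mul_coe, ctGL_coe] at e2
    exact e2
  have hstar : ((G.map σ)ᵀ.map σ)ᵀ = G := by
    ext a b
    simp only [Matrix.transpose_apply, Matrix.map_apply, hσ2]
  have hGs : (G.map σ)ᵀ = σ (c : F) • G := by
    have e3 : (((c : F) • (G.map σ)ᵀ).map σ)ᵀ = σ (c : F) • ((G.map σ)ᵀ.map σ)ᵀ := by
      ext a b
      simp only [Matrix.transpose_apply, Matrix.map_apply, Matrix.smul_apply, smul_eq_mul, map_mul]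
    have e4 := congrArg (fun M : Matrix (Fin n) (Fin n) F => (M.map σ)ᵀ) hGc
    beta_reduce at e4
    rw [e3, hstar] at e4
    exact e4
  have hcc : (c : F) * σ (c : F) = 1 := by
    have e5 : G = ((c : F) * σ (c : F)) • G := by
      conv_lhs => rw [hGc, hGs, smul_smul]
    have e6 : (1 - (c : F) * σ (c : F)) • G = 0 := by
      rw [sub_smul, one_smul, ← e5, sub_self]
    rcases smul_eq_zero.1 e6 with h' | h'
    · exact (sub_eq_zero.1 h').symm
    · exact absurd h' hG0
  -- Hilbert 90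
  have hord : orderOf σ = 2 := orderOf_eq_two_of_invol σ hσ hσ2
  have hN : nrmF σ ((c : F)⁻¹) (orderOf σ) = 1 := by
    rw [hord]
    unfold nrmF
    rw [Finset.prod_range_succ, Finset.prod_range_one, pow_zero, pow_one]
    show (c : F)⁻¹ * σ ((c : F)⁻¹) = 1
    rw [map_inv₀, ← mul_inv, hcc, inv_one]
  obtain ⟨m, hm0, hm⟩ := hilbert90 σ ((c : F)⁻¹) hN (by rw [hord]; norm_num)
  have hσm : σ m = (c : F) * m := by
    calc σ m = (c : F) * ((c : F)⁻¹ * σ m) := by
          rw [← mul_assoc, mul_inv_cancel₀ c.ne_zero, one_mul]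
      _ = (c : F) * m := by rw [hm]
  -- the Hermitian matrix `m • G`
  have hH : ((m • G).map σ)ᵀ = m • G := by
    have e7 : ((m • G).map σ)ᵀ = σ m • (G.map σ)ᵀ := by
      ext a b
      simp only [Matrix.transpose_apply, Matrix.map_apply, Matrix.smul_apply, smul_eq_mul, map_mul]
    rw [e7, hσm, mul_comm, ← smul_smul, ← hGc]
  have hHi : (m • G) * (m⁻¹ • ((g⁻¹ : GL (Fin n) F) : Matrix (Fin n) (Fin n) F)) = 1 := by
    rw [Matrix.smul_mul, Matrix.mul_smul, smul_smul, mul_inv_cancel₀ hm0, one_smul, hG,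
      ← Units.val_mul, mul_inv_cancel, Units.val_one]
  obtain ⟨P, hP, hPP⟩ := exists_herm_factor σ hσ hσ2 _ _ hH hHi
  set B : GL (Fin n) F := hP.unit with hB
  have hBP : (B : Matrix (Fin n) (Fin n) F) = P := rfl
  have key : B * ctGL σ B = scalarGL (Units.mk0 m hm0) * g := by
    apply Units.ext
    rw [Units.val_mul, ctGL_coe, hBP, hPP, scalarGL_mul_coe, Units.val_mk0]
  refine ⟨B, ?_⟩
  rw [cGL_conj_psiGF, key, map_mul, cGL_of_mem_scalars _ (scalarGL_mem _), one_mul]

/-- the order of the standard graph-field automorphism -/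
theorem psiGF_eq_thetaHom (σ : F ≃+* F) :
    (psiGF σ : MulAut (Matrix.ProjectiveSpecialLinearGroup (Fin n) F))
      = thetaHom (σ, Multiplicative.ofAdd (1 : ZMod 2)) := by
  rw [thetaHom_apply, iotaHom_one]
  rfl

theorem thetaHom_injective [Fintype F] (p : ℕ) [Fact p.Prime] [CharP F p] (hn : 3 ≤ n) :
    Function.Injective (thetaHom : (F ≃+* F) × Multiplicative (ZMod 2) →*
      MulAut (Matrix.ProjectiveSpecialLinearGroup (Fin n) F)) := by
  rw [injective_iff_map_eq_one]
  intro y hy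
  exact thetaHom_mem_range_cGL p hn y ⟨1, by rw [map_one, hy]⟩

theorem invol_of_orderOf_psiGF [Fintype F] (p : ℕ) [Fact p.Prime] [CharP F p] (hn : 3 ≤ n)
    (σ : F ≃+* F) {r : ℕ} (hr : r.Prime)
    (h : orderOf (psiGF σ : MulAut (Matrix.ProjectiveSpecialLinearGroup (Fin n) F)) = r) :
    r = 2 ∧ ∀ a, σ (σ a) = a := by
  rw [psiGF_eq_thetaHom, orderOf_injective thetaHom (thetaHom_injective p hn), Prod.orderOf] at h
  simp only at h
  have h2 : orderOf (Multiplicative.ofAdd (1 : ZMod 2)) = 2 := by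
    rw [orderOf_ofAdd_eq_addOrderOf, ZMod.addOrderOf_one]
  rw [h2] at h
  have h3 : 2 ∣ r := by
    rw [← h]
    exact Nat.dvd_lcm_right _ _
  have hr2 : r = 2 := ((Nat.prime_dvd_prime_iff_eq Nat.prime_two hr).1 h3).symm
  refine ⟨hr2, ?_⟩
  have h4 : orderOf σ ∣ 2 := by
    rw [← hr2, ← h]
    exact Nat.dvd_lcm_left _ _
  have h5 : σ ^ 2 = 1 := orderOf_dvd_iff_pow_eq_one.1 h4
  intro a
  have := DFunLike.congr_fun h5 a
  rwa [pow_two] at this

/-- **coset conjugacy for field and graph-field automorphisms of prime order** -/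
theorem coset_conj_main [Fintype F] {p f : ℕ} [Fact p.Prime] (hF : Fintype.card F = p ^ f)
    (hf : 1 ≤ f) (hn : 2 ≤ n) (hs : n = 2 → 4 ≤ Fintype.card F)
    (x δ : MulAut (Matrix.ProjectiveSpecialLinearGroup (Fin n) F))
    (hx : Cfsg.IsFieldAutClassPSL x ∨ Cfsg.IsGraphFieldAutClassPSL x) {r : ℕ} (hr : r.Prime)
    (hxr : orderOf x = r) (hδ : δ ∈ Cfsg.inndiagPSL n F) :
    orderOf (δ * x) = r ↔ Cfsg.IsConjUnder (Cfsg.inndiagPSL n F) x (δ * x) := by
  have : NeZero n := ⟨by omega⟩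
  have hchar : CharP F p := charP_of_card_eq_prime_pow hF
  have hDn : (Cfsg.inndiagPSL n F).Normal := by
    rw [inndiagPSL_eq_range]
    exact normal_range_cGL hF hf hn hs
  constructor
  · intro hord
    -- reduce to the standard representative
    have key : ∀ (α x' : MulAut (Matrix.ProjectiveSpecialLinearGroup (Fin n) F)),
        α * x * α⁻¹ = x' →
        (∀ g : GL (Fin n) F, (cGL g * x') ^ r = 1 → ∃ B : GL (Fin n) F,
          cGL g * x' = cGL B * x' * (cGL B)⁻¹) →
        Cfsg.IsConjUnder (Cfsg.inndiagPSL n F) x (δ * x) := by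
      intro α x' hα hcore
      have h1 : α * δ * α⁻¹ ∈ Cfsg.inndiagPSL n F := hDn.conj_mem δ hδ α
      rw [inndiagPSL_eq_range] at h1
      obtain ⟨g, hg⟩ := h1
      have h2 : α * (δ * x) * α⁻¹ = cGL g * x' := by
        rw [hg, ← hα]
        group
      have h3 : (cGL g * x') ^ r = 1 := by
        rw [← h2, ← hord, ← orderOf_conj' α (δ * x)]
        exact pow_orderOf_eq_one _
      obtain ⟨B, hB⟩ := hcore g h3
      rw [← isConjUnder_conj_iff (Cfsg.inndiagPSL n F) α, h2, hα]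
      refine ⟨cGL B, ?_, hB⟩
      rw [inndiagPSL_eq_range]
      exact ⟨B, rfl⟩
    rcases hx with hx | hx
    · obtain ⟨α, σ, hσ1, hα⟩ := hx
      rw [isStdFieldAutPSL_iff] at hα
      have hσr : orderOf σ = r := by
        rw [← orderOf_fieldPSL hn σ, ← hα, orderOf_conj', hxr]
      apply key α _ hα
      intro g hg
      rw [← hσr] at hg
      exact conj_of_pow_eq_one σ g hg
    · obtain ⟨hn3, α, φ, γ, σ, hσ1, hφ, hγ, hα⟩ := hx
      rw [isStdFieldAutPSL_iff] at hφ
      rw [isInverseTransposeAutPSL_iff] at hγ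
      have hα' : α * x * α⁻¹ = psiGF σ := by
        rw [hα, hφ, hγ]
        rfl
      have hψr : orderOf (psiGF σ : MulAut (Matrix.ProjectiveSpecialLinearGroup (Fin n) F))
          = r := by
        rw [← hα', orderOf_conj', hxr]
      obtain ⟨hr2, hσ2⟩ := invol_of_orderOf_psiGF p hn3 σ hr hψr
      apply key α _ hα'
      intro g hg
      rw [hr2] at hg
      exact conj_of_sq_eq_one σ hσ1 hσ2 g hg
  · rintro ⟨h, hh, e⟩
    rw [e, orderOf_conj', hxr]

end Cfsg.Agent.Helper7.FieldPSL
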