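import Cfsg.Agent.Helper7.GraphSplitU3

/-!
# Class splitting for `PSU_n`, part 4 (helper7)

The cyclic group `U₁` of order `q + 1`, the orthogonal type, and the class-splitting counts.
-/

set_option autoImplicit false
set_option linter.unusedSectionVars false

namespace Cfsg.Agent.Helper7.GraphSplit

open scoped Matrix
open Cfsg.Agent.Helper7.GraphPSL (gT gT_coe gT_mul gT_inv gT_gT two_ne_zero_of_odd_card)
open Cfsg.Agent.Helper7.GraphPSU

section cyclic

variable {F : Type*} [Field F] [Fintype F] {q : ℕ}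

theorem card_U1 (hF : Fintype.card F = q ^ 2) : Nat.card ↥(U1 F q) = q + 1 := by
  classical
  unfold U1
  rw [IsCyclic.card_powMonoidHom_ker, Nat.card_eq_fintype_card, Fintype.card_units, hF]
  apply Nat.gcd_eq_right
  have hq : 1 ≤ q := by
    rcases Nat.eq_zero_or_pos q with rfl | h
    · have : 0 < Fintype.card F := Fintype.card_pos
      rw [hF] at this
      simp at this
    · exact h
  obtain ⟨t, rfl⟩ := Nat.exists_eq_add_of_le hq
  refine ⟨t, ?_⟩
  apply Nat.sub_eq_of_eq_add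
  ring

theorem index_pow_range_U1 (hF : Fintype.card F = q ^ 2) (d : ℕ) :
    (powMonoidHom d : ↥(U1 F q) →* ↥(U1 F q)).range.index = Nat.gcd (q + 1) d := by
  rw [IsCyclic.index_powMonoidHom_range, card_U1 hF]

theorem neg_one_mem_U1 (hodd : Odd q) : (-1 : Fˣ) ∈ U1 F q := by
  rw [mem_U1_iff]
  exact Even.neg_one_pow hodd.add_one

theorem half_add_half (hodd : Odd q) : (q + 1) / 2 + (q + 1) / 2 = q + 1 := by
  obtain ⟨t, rfl⟩ := hodd
  omega

theorem eq_one_or_neg_one_of_sq (y : ↥(U1 F q)) (h : y * y = 1) :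
    y = 1 ∨ (y : Fˣ) = -1 := by
  have h1 : (((y : Fˣ) : F)) * ((y : Fˣ) : F) = 1 := by
    have := congrArg (fun z : ↥(U1 F q) => ((z : Fˣ) : F)) h
    simpa using this
  rcases mul_self_eq_one_iff.1 h1 with h2 | h2
  · left
    apply Subtype.ext
    apply Units.ext
    rw [h2]
    rfl
  · right
    apply Units.ext
    rw [h2, Units.val_neg, Units.val_one]

theorem neg_one_mem_pow_range_U1 (hF : Fintype.card F = q ^ 2) (hodd : Odd q) (d : ℕ)
    (hd : d ∣ (q + 1) / 2) :
    ∃ w : ↥(U1 F q), ((w ^ d : ↥(U1 F q)) : Fˣ) = -1 := by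
  obtain ⟨g, hg⟩ := IsCyclic.exists_generator (α := ↥(U1 F q))
  have hord : orderOf g = q + 1 := by
    rw [orderOf_eq_card_of_forall_mem_zpowers hg, card_U1 hF]
  have hq1 : 0 < (q + 1) / 2 := by
    obtain ⟨t, rfl⟩ := hodd
    omega
  have hlt : (q + 1) / 2 < q + 1 := by omega
  have h1 : g ^ ((q + 1) / 2) * g ^ ((q + 1) / 2) = 1 := by
    rw [← pow_add, half_add_half hodd, ← hord, pow_orderOf_eq_one]
  have h2 : g ^ ((q + 1) / 2) ≠ 1 :=
    pow_ne_one_of_lt_orderOf (by omega) (by rw [hord]; exact hlt)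
  obtain ⟨e, he⟩ := hd
  refine ⟨g ^ e, ?_⟩
  rw [← pow_mul, mul_comm, ← he]
  rcases eq_one_or_neg_one_of_sq _ h1 with h3 | h3
  · exact absurd h3 h2
  · exact h3

theorem pow_half_U1 (hodd : Odd q) (y : ↥(U1 F q)) :
    y ^ ((q + 1) / 2) = 1 ∨ ((y ^ ((q + 1) / 2) : ↥(U1 F q)) : Fˣ) = -1 := by
  apply eq_one_or_neg_one_of_sq
  rw [← pow_add, half_add_half hodd]
  apply Subtype.ext
  rw [Subgroup.coe_pow, Subgroup.coe_one]
  exact (mem_U1_iff _).1 y.2

end cyclic

section symm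

variable {F : Type*} [Field F] [Fintype F] {q : ℕ} {F₀ : Type*} [Field F₀] [Fintype F₀]
  {E : UDesc F q F₀} {k : ℕ} {A₀ : GL (Fin (2 * k)) F₀}

theorem neg_one_mem_detSimU (h2 : (2 : F₀) ≠ 0) (hk : 2 ≤ k)
    (hA₀ : (A₀ : Matrix (Fin (2 * k)) (Fin (2 * k)) F₀)ᵀ
      = (A₀ : Matrix (Fin (2 * k)) (Fin (2 * k)) F₀)) (R : RelData E A₀)
    (u : ↥(U1 F q)) (hu : (u : Fˣ) = -1) : u ∈ detSimU R := by
  have hn : 3 ≤ 2 * k := by omega
  have hne0 : NeZero (2 * k) := ⟨by omega⟩
  have hne : (A₀ : Matrix (Fin (2 * k)) (Fin (2 * k)) F₀) ≠ 0 := by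
    intro h0
    have : Nonempty (Fin (2 * k)) := ⟨⟨0, by omega⟩⟩
    apply det_A_ne_zero A₀
    rw [h0, Matrix.det_zero]
  obtain ⟨R₀, hRR, hR, hdetR⟩ := exists_refl h2 _ hA₀ hne
  have hm := mem_simS_of_matrix A₀ R₀ R₀ hRR hRR 1 (by rw [Units.val_one, one_smul]; exact hR)
  rw [mem_detSimU_iff hn]
  refine ⟨⟨R₀, R₀, hRR, hRR⟩, 1, 1, hm, ?_, ?_⟩
  · rw [map_one, map_one, mul_one, mul_one]
  · have hdet : Matrix.GeneralLinearGroup.det (⟨R₀, R₀, hRR, hRR⟩ : GL (Fin (2 * k)) F₀) = -1 := by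
      apply Units.ext
      rw [Units.val_neg, Units.val_one]
      exact hdetR
    rw [hu, hdet, one_pow, one_mul]
    apply Units.ext
    rw [Units.coe_map, Units.val_neg, Units.val_neg, Units.val_one, Units.val_one]
    simp

theorem pow_k_mem_detSimU (h2 : (2 : F₀) ≠ 0) (hk : 2 ≤ k)
    (hA₀ : (A₀ : Matrix (Fin (2 * k)) (Fin (2 * k)) F₀)ᵀ
      = (A₀ : Matrix (Fin (2 * k)) (Fin (2 * k)) F₀)) (R : RelData E A₀)
    (hodd : Odd q) (w : ↥(U1 F q)) : w ^ k ∈ detSimU R := by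
  have hn : 3 ≤ 2 * k := by omega
  have hne0 : NeZero (2 * k) := ⟨by omega⟩
  obtain ⟨ν, c, hνw, hν⟩ := exists_nu (E := E) w
  obtain ⟨M, M', h1, h1', hM⟩ := exists_sim_of_symm h2 _ hA₀ A₀.isUnit (c : F₀) c.ne_zero
  have hm := mem_simS_of_matrix A₀ M M' h1 h1' c hM
  rcases sim_even_det (det_A_ne_zero A₀) hM with h | h
  · rw [mem_detSimU_iff hn]
    refine ⟨⟨M, M', h1, h1'⟩, ν, c, hm, hν, ?_⟩
    have hdet : Matrix.GeneralLinearGroup.det (⟨M, M', h1, h1'⟩ : GL (Fin (2 * k)) F₀)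
        = 1 * c ^ k := by
      apply Units.ext
      rw [one_mul, Units.val_pow_eq_pow_val]
      exact h
    rw [hdet, det_formula hν, map_one, one_mul, hνw, Subgroup.coe_pow]
  · -- `-w^k` is a determinant
    set negOne : ↥(U1 F q) := ⟨-1, neg_one_mem_U1 hodd⟩ with hnegOne
    have h3 : negOne * w ^ k ∈ detSimU R := by
      rw [mem_detSimU_iff hn]
      refine ⟨⟨M, M', h1, h1'⟩, ν, c, hm, hν, ?_⟩
      have hdet : Matrix.GeneralLinearGroup.det (⟨M, M', h1, h1'⟩ : GL (Fin (2 * k)) F₀)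
          = (-1) * c ^ k := by
        apply Units.ext
        rw [Units.val_mul, Units.val_neg, Units.val_one, Units.val_pow_eq_pow_val, neg_one_mul]
        exact h
      rw [hdet, det_formula hν, hνw, Subgroup.coe_mul, Subgroup.coe_pow]
      congr 1
      apply Units.ext
      rw [Units.coe_map, Units.val_neg, Units.val_one]
      simp
    have h4 := (detSimU R).mul_mem
      (neg_one_mem_detSimU h2 hk hA₀ R negOne rfl) h3
    have h5 : negOne * (negOne * w ^ k) = w ^ k := by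
      rw [← mul_assoc]
      have : negOne * negOne = 1 := by
        apply Subtype.ext
        show (-1 : Fˣ) * (-1) = 1
        rw [neg_mul_neg, one_mul]
      rw [this, one_mul]
    rwa [h5] at h4

/-- orthogonal type -/
theorem detSimU_symm (hF : Fintype.card F = q ^ 2) (hodd : Odd q) (h2 : (2 : F₀) ≠ 0)
    (hk : 2 ≤ k)
    (hA₀ : (A₀ : Matrix (Fin (2 * k)) (Fin (2 * k)) F₀)ᵀ
      = (A₀ : Matrix (Fin (2 * k)) (Fin (2 * k)) F₀)) (R : RelData E A₀) :
    detSimU R = (powMonoidHom (Nat.gcd k ((q + 1) / 2)) : ↥(U1 F q) →* ↥(U1 F q)).range := by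
  have hn : 3 ≤ 2 * k := by omega
  set N' := (q + 1) / 2 with hN'
  set d := Nat.gcd k N' with hd
  set negOne : ↥(U1 F q) := ⟨-1, neg_one_mem_U1 hodd⟩ with hnegOne
  have hnegOne_range : negOne ∈ (powMonoidHom d : ↥(U1 F q) →* ↥(U1 F q)).range := by
    obtain ⟨w, hw⟩ := neg_one_mem_pow_range_U1 hF hodd d (Nat.gcd_dvd_right k N')
    refine ⟨w, ?_⟩
    apply Subtype.ext
    rw [powMonoidHom_apply, hw]
  ext u
  constructor
  · intro hu
    obtain ⟨m, ν, c, hm, hν, hu'⟩ := (mem_detSimU_iff hn R u).1 hu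
    have hz : ν * (Units.map (E.bar : F →* F) ν)⁻¹ ∈ U1 F q := by
      apply mem_U1_of_units (E := E)
      rw [map_mul, map_inv, bar_bar_units]
      simp only [mul_assoc, mul_comm, mul_left_comm, mul_inv_cancel_left, mul_inv_cancel]
    set z : ↥(U1 F q) := ⟨_, hz⟩ with hzdef
    obtain ⟨s, hs⟩ := Nat.gcd_dvd_left k N'
    have hzk : z ^ k ∈ (powMonoidHom d : ↥(U1 F q) →* ↥(U1 F q)).range := by
      refine ⟨z ^ s, ?_⟩
      rw [powMonoidHom_apply, ← pow_mul, mul_comm, hs]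
    rcases sim_even_det (det_A_ne_zero A₀) (sim_matrix_of_GL hm) with h | h
    · have hdet : Matrix.GeneralLinearGroup.det m = 1 * c ^ k := by
        apply Units.ext
        rw [one_mul, Units.val_pow_eq_pow_val]
        exact h
      have : u = z ^ k := by
        apply Subtype.ext
        rw [hu', hdet, det_formula hν, map_one, one_mul, Subgroup.coe_pow]
      rw [this]
      exact hzk
    · have hdet : Matrix.GeneralLinearGroup.det m = (-1) * c ^ k := by
        apply Units.ext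
        rw [Units.val_mul, Units.val_neg, Units.val_one, Units.val_pow_eq_pow_val, neg_one_mul]
        exact h
      have : u = negOne * z ^ k := by
        apply Subtype.ext
        rw [hu', hdet, det_formula hν, Subgroup.coe_mul, Subgroup.coe_pow]
        congr 1
        apply Units.ext
        show _ = ((-1 : Fˣ) : F)
        rw [Units.coe_map, Units.val_neg, Units.val_one, Units.val_neg, Units.val_one]
        simp
      rw [this]
      exact Subgroup.mul_mem _ hnegOne_range hzk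
  · rintro ⟨y, rfl⟩
    rw [powMonoidHom_apply]
    have hbez := Nat.gcd_eq_gcd_ab k N'
    have hy : y ^ d = (y ^ k) ^ (Nat.gcdA k N') * (y ^ N') ^ (Nat.gcdB k N') := by
      rw [← zpow_natCast y d, hd, hbez, zpow_add, zpow_mul, zpow_mul, zpow_natCast, zpow_natCast]
    rw [hy]
    apply Subgroup.mul_mem
    · exact Subgroup.zpow_mem _ (pow_k_mem_detSimU h2 hk hA₀ R hodd y) _
    · apply Subgroup.zpow_mem
      rcases pow_half_U1 hodd y with h | h
      · rw [h]
        exact Subgroup.one_mem _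
      · exact neg_one_mem_detSimU h2 hk hA₀ R _ h

end symm

end Cfsg.Agent.Helper7.GraphSplit
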