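import Cfsg.Agent.Helper7.AutPSU29
import Cfsg.Agent.Helper7.FieldPSL12
import Cfsg.Agent.Helper7.GraphSplitU4

/-!
# Field automorphisms of `PSU_n(q)`, part 1 (helper7)

Unitary descent data for a field automorphism of odd order, and the centralizer of the standard
field automorphism in the inner-diagonal group.
-/

set_option autoImplicit false
set_option linter.unusedSectionVars false
set_option linter.unusedVariables false

namespace Cfsg.Agent.Helper7.FieldPSU

open Matrix
open Cfsg.Agent.Helper7.GraphPSU (UData HS cU phiU IsUG barGL barGL_coe tauGL tauHS phiU_cU cU_eq_iff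
  mem_HS_iff isUG_iff mem_GU_iff scalarHS cU_scalarHS exists_unitary_mul isUG_mem_HS)
open Cfsg.Agent.Helper7.GraphPSL (gT gT_coe gT_mul gT_inv gT_gT)
open Cfsg.Agent.Helper7.FieldPSL (FDesc jGL jGL_coe jGL_injective sGL sGL_coe sGL_jGL
  exists_jGL_of_fixed det_jGL exists_scalar_mul_jGL)
open Cfsg.Agent.Helper7.GraphSplit (cGU cGU_apply range_cGU GU_le_HS isUG_of_mem_GU mem_GU_of_isUG)

/-- unitary descent data: an automorphism `σ` of `F`, its fixed field `F₀`, and compatible
involutions -/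
structure UFD (F : Type*) [Field F] (F₀ : Type*) [Field F₀] (q q₀ : ℕ) where
  /-- the involution of `F` -/
  U : UData F q
  /-- the involution of `F₀` -/
  U₀ : UData F₀ q₀
  /-- the descent data -/
  E : FDesc F F₀
  compat : ∀ a, E.j (U₀.bar a) = U.bar (E.j a)

variable {F : Type*} [Field F] {F₀ : Type*} [Field F₀] {n q q₀ : ℕ} (R : UFD F F₀ q q₀)

theorem tauGL_eq_sGL (τ : F ≃+* F) (g : GL (Fin n) F) : tauGL τ g = sGL τ g := rfl

theorem barGL_jGL (k : GL (Fin n) F₀) : barGL R.U (jGL R.E k) = jGL R.E (barGL R.U₀ k) := by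
  apply Units.ext
  rw [barGL_coe, jGL_coe, jGL_coe, barGL_coe]
  ext i l
  simp only [Matrix.map_apply]
  exact (R.compat _).symm

theorem gT_jGL (k : GL (Fin n) F₀) : gT (jGL R.E k) = jGL R.E (gT k) := by
  apply Units.ext
  rw [gT_coe, jGL_coe, jGL_coe, gT_coe, Matrix.transpose_map]

theorem isUG_jGL_iff (k : GL (Fin n) F₀) : IsUG R.U (jGL R.E k) ↔ IsUG R.U₀ k := by
  unfold IsUG
  rw [barGL_jGL, gT_jGL, ← map_mul]
  constructor
  · intro h
    apply jGL_injective R.E
    rw [h, map_one]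
  · intro h
    rw [h, map_one]

/-- a base-changed matrix is scalar iff it is scalar over `F₀` -/
theorem jGL_mem_scalars_iff [NeZero n] (k : GL (Fin n) F₀) :
    jGL R.E k ∈ Cfsg.Geo.scalars (Fin n) F ↔ k ∈ Cfsg.Geo.scalars (Fin n) F₀ := by
  classical
  set i0 : Fin n := ⟨0, Nat.pos_of_ne_zero (NeZero.ne n)⟩ with hi0
  rw [Cfsg.Geo.mem_scalars_iff, Cfsg.Geo.mem_scalars_iff]
  constructor
  · rintro ⟨c, hc⟩
    rw [jGL_coe] at hc
    have h00 := congrFun (congrFun hc i0) i0
    simp only [Matrix.map_apply, Matrix.smul_apply, Matrix.one_apply, smul_eq_mul, if_true,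
      mul_one] at h00
    have hk0 : (k : Matrix (Fin n) (Fin n) F₀) i0 i0 ≠ 0 := by
      intro h0
      rw [h0, map_zero] at h00
      exact c.ne_zero h00.symm
    refine ⟨Units.mk0 _ hk0, ?_⟩
    ext a b
    have hab := congrFun (congrFun hc a) b
    simp only [Matrix.map_apply, Matrix.smul_apply, Matrix.one_apply, smul_eq_mul] at hab
    simp only [Units.val_mk0, Matrix.smul_apply, Matrix.one_apply, smul_eq_mul]
    by_cases h : a = b
    · rw [if_pos h, mul_one]
      rw [if_pos h, mul_one, ← h00] at hab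
      subst h
      exact R.E.j.injective hab
    · rw [if_neg h, mul_zero]
      rw [if_neg h, mul_zero] at hab
      exact R.E.j.injective (by rw [hab, map_zero])
  · rintro ⟨c, hc⟩
    refine ⟨Units.map (R.E.j : F₀ →* F) c, ?_⟩
    rw [jGL_coe, hc]
    ext a b
    simp only [Matrix.map_apply, Matrix.smul_apply, Matrix.one_apply, smul_eq_mul, Units.coe_map,
      MonoidHom.coe_coe]
    by_cases h : a = b
    · simp [h]
    · simp [h]

theorem jGL_mem_HS_iff [NeZero n] (k : GL (Fin n) F₀) :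
    jGL R.E k ∈ HS R.U n ↔ k ∈ HS R.U₀ n := by
  rw [mem_HS_iff, mem_HS_iff, barGL_jGL, gT_jGL, ← map_mul, jGL_mem_scalars_iff]

/-- membership in the centralizer of the standard field automorphism -/
theorem cU_mem_centralizer_iff [Finite F] (hn : 3 ≤ n) (σ : F ≃+* F) (x : ↥(HS R.U n)) :
    cU R.U x ∈ Subgroup.centralizer {(phiU R.U σ : MulAut (Cfsg.PSU n F q))}
      ↔ ∃ c : Fˣ, ((sGL σ (x : GL (Fin n) F) : GL (Fin n) F) : Matrix (Fin n) (Fin n) F)
          = (c : F) • ((x : GL (Fin n) F) : Matrix (Fin n) (Fin n) F) := by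
  rw [Subgroup.mem_centralizer_singleton_iff, phiU_cU, mul_left_inj, cU_eq_iff R.U hn,
    Cfsg.Geo.mem_scalars_iff]
  have hcoe : ((x⁻¹ * tauHS R.U σ x : ↥(HS R.U n)) : GL (Fin n) F)
      = (x : GL (Fin n) F)⁻¹ * sGL σ (x : GL (Fin n) F) := rfl
  rw [hcoe]
  constructor
  · rintro ⟨c, hc⟩
    refine ⟨c, ?_⟩
    have h1 : sGL σ (x : GL (Fin n) F) = (x : GL (Fin n) F)
        * ((x : GL (Fin n) F)⁻¹ * sGL σ (x : GL (Fin n) F)) := by group
    have h2 := congrArg Units.val h1
    rw [Units.val_mul, hc, Matrix.mul_smul, Matrix.mul_one] at h2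
    exact h2
  · rintro ⟨c, hc⟩
    refine ⟨c, ?_⟩
    have h1 : ((x : GL (Fin n) F)⁻¹ * sGL σ (x : GL (Fin n) F) : GL (Fin n) F)
        = GraphPSU.scalarGL c := by
      rw [inv_mul_eq_iff_eq_mul]
      apply Units.ext
      rw [Units.val_mul, hc, GraphPSU.scalarGL_coe, Matrix.mul_smul, Matrix.mul_one]
    rw [h1, GraphPSU.scalarGL_coe]

end Cfsg.Agent.Helper7.FieldPSU
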