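import Cfsg.Agent.Helper7.FieldPSU1

/-!
# Field automorphisms of `PSU_n(q)`, part 2 (helper7)

The centralizer of the standard field automorphism of odd order in the inner-diagonal group of
`PSU_n(q)` is `PGU_n(q₀)`.
-/

set_option autoImplicit false
set_option linter.unusedSectionVars false
set_option linter.unusedVariables false

namespace Cfsg.Agent.Helper7.FieldPSU

open Matrix
open Cfsg.Agent.Helper7.GraphPSU (UData HS cU phiU IsUG barGL barGL_coe tauGL tauHS phiU_cU cU_eq_iff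
  mem_HS_iff isUG_iff mem_GU_iff scalarHS cU_scalarHS exists_unitary_mul isUG_mem_HS cU_eq_one_iff
  cU_of_mem_scalars)
open Cfsg.Agent.Helper7.GraphPSL (gT gT_coe gT_mul gT_inv gT_gT)
open Cfsg.Agent.Helper7.FieldPSL (FDesc jGL jGL_coe jGL_injective sGL sGL_coe sGL_jGL
  exists_jGL_of_fixed det_jGL exists_scalar_mul_jGL)
open Cfsg.Agent.Helper7.GraphSplit (cGU cGU_apply range_cGU GU_le_HS isUG_of_mem_GU mem_GU_of_isUG)

variable {F : Type*} [Field F] {F₀ : Type*} [Field F₀] {n q q₀ : ℕ} (R : UFD F F₀ q q₀)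

theorem jGL_scalarGL (c : F₀ˣ) :
    jGL R.E (GraphPSU.scalarGL c : GL (Fin n) F₀)
      = GraphPSU.scalarGL (Units.map (R.E.j : F₀ →* F) c) := by
  apply Units.ext
  rw [jGL_coe, GraphPSU.scalarGL_coe, GraphPSU.scalarGL_coe]
  ext a b
  simp only [Matrix.map_apply, Matrix.smul_apply, Matrix.one_apply, smul_eq_mul, Units.coe_map,
    MonoidHom.coe_coe]
  by_cases h : a = b
  · simp [h]
  · simp [h]

/-- the structure of the similitudes commuting with the standard field automorphism -/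
theorem exists_scalar_mul_jGL_U [Finite F] [Finite F₀] [NeZero n] (hn : 3 ≤ n)
    (hσ : 0 < orderOf R.E.σ) (x : ↥(HS R.U n))
    (hx : cU R.U x ∈ Subgroup.centralizer {(phiU R.U R.E.σ : MulAut (Cfsg.PSU n F q))}) :
    ∃ (m : Fˣ) (k : GL (Fin n) F₀), IsUG R.U₀ k ∧
      (x : GL (Fin n) F) = GraphPSU.scalarGL m * jGL R.E k := by
  obtain ⟨c, hc⟩ := (cU_mem_centralizer_iff R hn _ x).1 hx
  obtain ⟨m, k, hk⟩ := exists_scalar_mul_jGL R.E hσ x.1 c hc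
  have hk' : (x : GL (Fin n) F) = GraphPSU.scalarGL m * jGL R.E k := hk
  have hkHS : k ∈ HS R.U₀ n := by
    rw [← jGL_mem_HS_iff R]
    have : jGL R.E k = (GraphPSU.scalarGL m)⁻¹ * (x : GL (Fin n) F) := by
      rw [hk', inv_mul_cancel_left]
    rw [this]
    exact Subgroup.mul_mem _ (Subgroup.inv_mem _ (GraphPSU.scalarGL_mem_HS R.U m)) x.2
  obtain ⟨ν₀, hν₀⟩ := exists_unitary_mul R.U₀ hkHS
  refine ⟨m * (Units.map (R.E.j : F₀ →* F) ν₀)⁻¹, GraphPSU.scalarGL ν₀ * k, hν₀, ?_⟩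
  rw [map_mul, jGL_scalarGL, GraphPSU.scalarGL_mul, GraphPSU.scalarGL_inv, hk']
  group


/-- base change on the unitary groups -/
def jGU : ↥(Cfsg.GU n F₀ q₀) →* ↥(Cfsg.GU n F q) where
  toFun k := ⟨jGL R.E k.1, mem_GU_of_isUG R.U ((isUG_jGL_iff R k.1).2 (isUG_of_mem_GU R.U₀ k.2))⟩
  map_one' := by
    apply Subtype.ext
    show jGL R.E (1 : GL (Fin n) F₀) = 1
    rw [map_one]
  map_mul' k k' := by
    apply Subtype.ext
    show jGL R.E (k.1 * k'.1) = jGL R.E k.1 * jGL R.E k'.1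
    rw [map_mul]

theorem jGU_coe (k : ↥(Cfsg.GU n F₀ q₀)) : ((jGU R k : ↥(Cfsg.GU n F q)) : GL (Fin n) F)
    = jGL R.E k.1 := rfl

/-- the map `GU_n(q₀) → Aut(PSU_n(q))` -/
noncomputable def psiUF : ↥(Cfsg.GU n F₀ q₀) →* MulAut (Cfsg.PSU n F q) :=
  (cGU R.U).comp (jGU R)

theorem psiUF_apply (k : ↥(Cfsg.GU n F₀ q₀)) :
    psiUF R k = cU R.U ⟨jGL R.E k.1, GU_le_HS R.U (jGU R k).2⟩ := rfl

theorem range_psiUF [Finite F] [Finite F₀] [NeZero n] (hn : 3 ≤ n) (hσ : 0 < orderOf R.E.σ) :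
    (psiUF R : ↥(Cfsg.GU n F₀ q₀) →* MulAut (Cfsg.PSU n F q)).range
      = Cfsg.inndiagPSU n F q ⊓ Subgroup.centralizer {phiU R.U R.E.σ} := by
  ext y
  rw [Subgroup.mem_inf, ← range_cGU R.U]
  constructor
  · rintro ⟨k, rfl⟩
    refine ⟨⟨jGU R k, rfl⟩, ?_⟩
    rw [psiUF_apply, cU_mem_centralizer_iff R hn]
    exact ⟨1, by rw [sGL_jGL, Units.val_one, one_smul]⟩
  · rintro ⟨⟨u, rfl⟩, hu⟩
    rw [cGU_apply] at hu
    obtain ⟨m, k, hk, hu'⟩ := exists_scalar_mul_jGL_U R hn hσ _ hu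
    refine ⟨⟨k, mem_GU_of_isUG R.U₀ hk⟩, ?_⟩
    rw [psiUF_apply, cGU_apply]
    have h1 : (⟨(u : GL (Fin n) F), GU_le_HS R.U u.2⟩ : ↥(HS R.U n))
        = scalarHS R.U m * ⟨jGL R.E k, GU_le_HS R.U (jGU R ⟨k, mem_GU_of_isUG R.U₀ hk⟩).2⟩ := by
      apply Subtype.ext
      exact hu'
    rw [h1, map_mul, cU_scalarHS, one_mul]

theorem ker_psiUF [Finite F] [NeZero n] (hn : 3 ≤ n) :
    (psiUF R : ↥(Cfsg.GU n F₀ q₀) →* MulAut (Cfsg.PSU n F q)).ker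
      = (Cfsg.Geo.scalars (Fin n) F₀).subgroupOf (Cfsg.GU n F₀ q₀) := by
  ext k
  rw [MonoidHom.mem_ker, psiUF_apply, cU_eq_one_iff R.U hn, Subgroup.mem_subgroupOf]
  exact jGL_mem_scalars_iff R k.1

/-- **the centralizer of the standard field automorphism in `Inndiag(PSU_n(q))` is
`PGU_n(q₀)`** -/
theorem nonempty_centralizer_equiv [Finite F] [Finite F₀] [NeZero n] (hn : 3 ≤ n)
    (hσ : 0 < orderOf R.E.σ) :
    Nonempty (↥(Cfsg.inndiagPSU n F q ⊓ Subgroup.centralizer {(phiU R.U R.E.σ :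
        MulAut (Cfsg.PSU n F q))}) ≃* Cfsg.PGU n F₀ q₀) := by
  have e1 : ↥(Cfsg.GU n F₀ q₀) ⧸ (Cfsg.Geo.scalars (Fin n) F₀).subgroupOf (Cfsg.GU n F₀ q₀)
      ≃* ↥(Cfsg.GU n F₀ q₀) ⧸ (psiUF R : ↥(Cfsg.GU n F₀ q₀) →* MulAut (Cfsg.PSU n F q)).ker :=
    QuotientGroup.quotientMulEquivOfEq (ker_psiUF R hn).symm
  have e2 := QuotientGroup.quotientKerEquivRange
    (psiUF R : ↥(Cfsg.GU n F₀ q₀) →* MulAut (Cfsg.PSU n F q))
  have e3 := MulEquiv.subgroupCongr (range_psiUF R hn hσ)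
  exact ⟨((e1.trans e2).trans e3).symm⟩

end Cfsg.Agent.Helper7.FieldPSU
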