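import Cfsg.Agent.Helper7.FieldPSU2

/-!
# Field automorphisms of `PSU_n(q)`, part 3 (helper7)

Class splitting of the standard field automorphism of odd order of `PSU_n(q)`.
-/

set_option autoImplicit false
set_option linter.unusedSectionVars false
set_option linter.unusedVariables false

namespace Cfsg.Agent.Helper7.FieldPSU

open Matrix
open Cfsg.Agent.Helper7.GraphPSU (UData HS cU phiU IsUG barGL barGL_coe tauGL tauHS phiU_cU cU_eq_iff
  mem_HS_iff isUG_iff mem_GU_iff scalarHS cU_scalarHS exists_unitary_mul isUG_mem_HS cU_eq_one_iff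
  cU_of_mem_scalars)
open Cfsg.Agent.Helper7.GraphPSL (gT gT_coe gT_mul gT_inv gT_gT diagRep diagRep_coe diagRep_det)
open Cfsg.Agent.Helper7.FieldPSL (FDesc jGL jGL_coe jGL_injective sGL sGL_coe sGL_jGL
  exists_jGL_of_fixed det_jGL exists_scalar_mul_jGL)
open Cfsg.Agent.Helper7.GraphSplit (cGU cGU_apply range_cGU GU_le_HS isUG_of_mem_GU mem_GU_of_isUG
  U1 mem_U1_iff mem_U1_iff' det_mem_U1 detU detU_coe isUG_diagRep CsubU splitClassCount_PSU card_U1)

variable {F : Type*} [Field F] {F₀ : Type*} [Field F₀] {n q q₀ : ℕ} (R : UFD F F₀ q q₀)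

/-- base change on the elements of norm one -/
def jU1 : ↥(U1 F₀ q₀) →* ↥(U1 F q) :=
  ((Units.map (R.E.j : F₀ →* F)).comp (U1 F₀ q₀).subtype).codRestrict (U1 F q) (fun z => by
    rw [mem_U1_iff' R.U]
    have hz := (mem_U1_iff' R.U₀ z.1).1 z.2
    show R.E.j (z.1 : F₀) * R.U.bar (R.E.j (z.1 : F₀)) = 1
    rw [← R.compat, ← map_mul, hz, map_one])

theorem jU1_coe (z : ↥(U1 F₀ q₀)) :
    ((jU1 R z : ↥(U1 F q)) : Fˣ) = Units.map (R.E.j : F₀ →* F) z.1 := rfl

theorem jU1_injective : Function.Injective (jU1 R) := by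
  intro a b hab
  have h1 := congrArg Subtype.val hab
  rw [jU1_coe, jU1_coe] at h1
  exact Subtype.ext (Units.map_injective R.E.j.injective h1)

theorem isUG_scalarGL_iff [NeZero n] (m : Fˣ) :
    IsUG R.U (GraphPSU.scalarGL m : GL (Fin n) F) ↔ m ∈ U1 F q := by
  unfold IsUG
  rw [GraphPSU.gT_scalarGL, GraphPSU.barGL_scalarGL, ← GraphPSU.scalarGL_mul,
    ← GraphPSU.scalarGL_one, (GraphPSU.scalarGL_injective (n := n) (F := F)).eq_iff,
    mem_U1_iff' R.U, Units.ext_iff]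
  rfl

theorem isUG_mul {g g' : GL (Fin n) F} (hg : IsUG R.U g) (hg' : IsUG R.U g') :
    IsUG R.U (g * g') :=
  isUG_of_mem_GU R.U (Subgroup.mul_mem _ (mem_GU_of_isUG R.U hg) (mem_GU_of_isUG R.U hg'))

theorem isUG_inv {g : GL (Fin n) F} (hg : IsUG R.U g) : IsUG R.U g⁻¹ :=
  isUG_of_mem_GU R.U (Subgroup.inv_mem _ (mem_GU_of_isUG R.U hg))

theorem det_scalarGL' (c : Fˣ) :
    Matrix.GeneralLinearGroup.det (GraphPSU.scalarGL c : GL (Fin n) F) = c ^ n :=
  FieldPSL.det_scalarGL c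

/-- the determinants of the unitary matrices centralizing the standard field automorphism -/
theorem map_detU_CsubU [Finite F] [Finite F₀] [NeZero n] (hn : 3 ≤ n) (hσ : 0 < orderOf R.E.σ) :
    (CsubU R.U (phiU R.U R.E.σ : MulAut (Cfsg.PSU n F q))).map (detU R.U)
      = (powMonoidHom n : ↥(U1 F q) →* ↥(U1 F q)).range ⊔ (jU1 R).range := by
  set i0 : Fin n := ⟨0, Nat.pos_of_ne_zero (NeZero.ne n)⟩ with hi0
  apply le_antisymm
  · rintro _ ⟨u, hu, rfl⟩
    have hu' : cGU R.U u ∈ Subgroup.centralizer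
        {(phiU R.U R.E.σ : MulAut (Cfsg.PSU n F q))} := hu
    rw [cGU_apply] at hu'
    obtain ⟨m, k, hk, hmk⟩ := exists_scalar_mul_jGL_U R hn hσ _ hu'
    have hmk' : (u : GL (Fin n) F) = GraphPSU.scalarGL m * jGL R.E k := hmk
    have hm : m ∈ U1 F q := by
      rw [← isUG_scalarGL_iff (n := n) R]
      have h1 : (GraphPSU.scalarGL m : GL (Fin n) F) = (u : GL (Fin n) F) * (jGL R.E k)⁻¹ := by
        rw [hmk', mul_inv_cancel_right]
      rw [h1]
      exact isUG_mul R (isUG_of_mem_GU R.U u.2) (isUG_inv R ((isUG_jGL_iff R k).2 hk))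
    have hdk : Matrix.GeneralLinearGroup.det k ∈ U1 F₀ q₀ := det_mem_U1 R.U₀ hk
    have h2 : detU R.U u = (⟨m, hm⟩ : ↥(U1 F q)) ^ n
        * jU1 R ⟨Matrix.GeneralLinearGroup.det k, hdk⟩ := by
      apply Subtype.ext
      rw [detU_coe, hmk', map_mul, det_scalarGL', det_jGL]
      rfl
    rw [h2]
    exact Subgroup.mul_mem_sup ⟨⟨m, hm⟩, rfl⟩ ⟨_, rfl⟩
  · apply sup_le
    · rintro _ ⟨m, rfl⟩
      have hmU : IsUG R.U (GraphPSU.scalarGL (m : Fˣ) : GL (Fin n) F) :=
        (isUG_scalarGL_iff (n := n) R _).2 m.2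
      refine ⟨⟨GraphPSU.scalarGL (m : Fˣ), mem_GU_of_isUG R.U hmU⟩, ?_, ?_⟩
      · show cGU R.U _ ∈ Subgroup.centralizer
          {(phiU R.U R.E.σ : MulAut (Cfsg.PSU n F q))}
        rw [cGU_apply]
        have : (⟨GraphPSU.scalarGL (m : Fˣ), GU_le_HS R.U (mem_GU_of_isUG R.U hmU)⟩ : ↥(HS R.U n))
            = scalarHS R.U (m : Fˣ) := rfl
        rw [this, cU_scalarHS]
        exact Subgroup.one_mem _
      · apply Subtype.ext
        rw [detU_coe]
        show Matrix.GeneralLinearGroup.det (GraphPSU.scalarGL (m : Fˣ) : GL (Fin n) F) = _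
        rw [det_scalarGL']
        rfl
    · rintro _ ⟨d, rfl⟩
      have hd : IsUG R.U₀ (diagRep i0 (d : F₀ˣ)) := isUG_diagRep R.U₀ i0 _ d.2
      refine ⟨jGU R ⟨diagRep i0 (d : F₀ˣ), mem_GU_of_isUG R.U₀ hd⟩, ?_, ?_⟩
      · show cGU R.U _ ∈ Subgroup.centralizer
          {(phiU R.U R.E.σ : MulAut (Cfsg.PSU n F q))}
        have h1 : psiUF R ⟨diagRep i0 (d : F₀ˣ), mem_GU_of_isUG R.U₀ hd⟩
            ∈ Cfsg.inndiagPSU n F q ⊓ Subgroup.centralizer {phiU R.U R.E.σ} := by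
          rw [← range_psiUF R hn hσ]
          exact ⟨_, rfl⟩
        exact h1.2
      · apply Subtype.ext
        rw [detU_coe, jGU_coe, det_jGL, jU1_coe]
        congr 1
        apply Units.ext
        exact diagRep_det i0 _

/-- **the class-splitting count of the standard field automorphism of `PSU_n(q)`** -/
theorem splitClassCount_phiU [Fintype F] [Fintype F₀] [NeZero n] (hn : 3 ≤ n)
    (hσ : 0 < orderOf R.E.σ) (hF : Fintype.card F = q ^ 2) (hF₀ : Fintype.card F₀ = q₀ ^ 2) :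
    Cfsg.splitClassCount (Cfsg.inndiagPSU n F q) (Cfsg.Inn (Cfsg.PSU n F q))
        (phiU R.U R.E.σ : MulAut (Cfsg.PSU n F q))
      = Nat.gcd n ((q + 1) / (q₀ + 1)) := by
  classical
  rw [splitClassCount_PSU R.U, map_detU_CsubU R hn hσ, FieldPSL.index_pow_sup, card_U1 hF,
    ← Nat.card_congr (MonoidHom.ofInjective (jU1_injective R)).toEquiv, card_U1 hF₀]

end Cfsg.Agent.Helper7.FieldPSU
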