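import Cfsg.Agent.Helper7.FieldPSU3
import Cfsg.Agent.Helper7.AutPSU30

/-!
# Field automorphisms of `PSU_n(q)`, part 4 (helper7)

Field automorphisms of odd prime order of `PSU_n(q)`: centralizer and class splitting.
-/

set_option autoImplicit false
set_option linter.unusedSectionVars false
set_option linter.unusedVariables false

namespace Cfsg.Agent.Helper7.FieldPSU

open Matrix
open Cfsg.Agent.Helper7.GraphPSU (UData HS cU phiU IsUG barGL barGL_coe tauGL tauHS phiU_cU cU_eq_iff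
  mem_HS_iff isUG_iff mem_GU_iff scalarHS cU_scalarHS exists_unitary_mul isUG_mem_HS cU_eq_one_iff
  cU_of_mem_scalars phiU_eq_cU isFieldAutPSUOf_iff inndiagPSU_eq_range)
open Cfsg.Agent.Helper7.FieldPSL (FDesc exists_FDesc exists_UData orderOf_dvd orderOf_pos_ringAut
  orderOf_conj' centEquiv splitClassCount_conj)

variable {F : Type*} [Field F] {F₀ : Type*} [Field F₀] {n : ℕ}

theorem pow_pow_of_odd {K : Type*} [Monoid K] {a : K} {m : ℕ} (h : a ^ (m ^ 2) = a) {r : ℕ}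
    (hr : Odd r) : a ^ (m ^ r) = a ^ m := by
  obtain ⟨k, rfl⟩ := hr
  have h1 : ∀ k : ℕ, a ^ ((m ^ 2) ^ k) = a := by
    intro k
    induction k with
    | zero => rw [pow_zero, pow_one]
    | succ k ih => rw [pow_succ, pow_mul, ih, h]
  rw [pow_succ, pow_mul, pow_mul, h1]

/-- **unitary descent data for a field automorphism of odd order** -/
theorem exists_UFD [Fintype F] [Fintype F₀] {p f q : ℕ} [Fact p.Prime] (hq : q = p ^ f)
    (hf : 1 ≤ f) (hF : Fintype.card F = q ^ 2) (σ : F ≃+* F) {r : ℕ} (hσr : orderOf σ = r)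
    (hro : Odd r) (hF₀ : Fintype.card F₀ = p ^ (2 * (f / r))) :
    r ∣ f ∧ ∃ R : UFD F F₀ q (p ^ (f / r)), R.E.σ = σ := by
  have hF' : Fintype.card F = p ^ (2 * f) := by rw [hF, hq, ← pow_mul, mul_comm]
  have h1 : r ∣ 2 * f := by
    rw [← hσr]
    exact orderOf_dvd (by omega) hF' σ
  have hrf : r ∣ f := by
    have hc : Nat.Coprime r 2 := Nat.coprime_two_right.2 hro
    exact hc.dvd_of_dvd_mul_left h1
  refine ⟨hrf, ?_⟩
  have h2 : 2 * f / orderOf σ = 2 * (f / r) := by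
    rw [hσr, Nat.mul_div_assoc 2 hrf]
  obtain ⟨E, hE⟩ := exists_FDesc hF' σ (by rw [h2]; exact hF₀)
  obtain ⟨U⟩ := exists_UData hF
  have hF₀' : Fintype.card F₀ = (p ^ (f / r)) ^ 2 := by rw [hF₀, ← pow_mul, mul_comm]
  obtain ⟨U₀⟩ := exists_UData hF₀'
  refine ⟨⟨U, U₀, E, ?_⟩, hE⟩
  intro a
  rw [U₀.bar_apply, U.bar_apply, map_pow]
  have h3 : (E.j a) ^ ((p ^ (f / r)) ^ 2) = E.j a := by
    rw [← map_pow, ← hF₀', FiniteField.pow_card]
  have h4 : q = (p ^ (f / r)) ^ r := by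
    rw [hq, ← pow_mul, Nat.div_mul_cancel hrf]
  rw [h4, pow_pow_of_odd h3 hro]

theorem phiU_injective [Finite F] {q : ℕ} (U : UData F q) (hn : 3 ≤ n) :
    Function.Injective (phiU U : (F ≃+* F) →* MulAut (Cfsg.PSU n F q)) := by
  rw [injective_iff_map_eq_one]
  intro τ hτ
  have h1 : phiU U τ = cU U (1 : ↥(HS U n)) := by rw [hτ, map_one]
  exact (phiU_eq_cU U hn τ 1 h1).1

theorem orderOf_phiU [Finite F] {q : ℕ} (U : UData F q) (hn : 3 ≤ n) (τ : F ≃+* F) :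
    orderOf (phiU U τ : MulAut (Cfsg.PSU n F q)) = orderOf τ :=
  orderOf_injective _ (phiU_injective U hn) τ

theorem normal_inndiagPSU [Fintype F] {q : ℕ} (hF : Fintype.card F = q ^ 2) (hn : 3 ≤ n)
    (h32 : ¬ (n = 3 ∧ q = 2)) : (Cfsg.inndiagPSU n F q).Normal := by
  have : NeZero n := ⟨by omega⟩
  obtain ⟨U⟩ := exists_UData hF
  rw [inndiagPSU_eq_range U, ← AutPSU.psiHom_ker U hF hn h32]
  exact MonoidHom.normal_ker _

/-- **field automorphisms of odd prime order of `PSU_n(q)`** -/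
theorem field_aut_main_U [Fintype F] [Fintype F₀] {p f q : ℕ} [Fact p.Prime] (hq : q = p ^ f)
    (hf : 1 ≤ f) (hF : Fintype.card F = q ^ 2) (hn : 3 ≤ n) (hs : ¬ (n = 3 ∧ q = 2))
    (x : MulAut (Cfsg.PSU n F q)) (hx : Cfsg.IsFieldAutClassPSU x) {r : ℕ} (hro : Odd r)
    (hxr : orderOf x = r) (hF₀ : Fintype.card F₀ = p ^ (2 * (f / r))) :
    r ∣ f ∧
      Nonempty (↥(Cfsg.inndiagPSU n F q ⊓ Subgroup.centralizer {x})
        ≃* Cfsg.PGU n F₀ (p ^ (f / r))) ∧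
      Cfsg.splitClassCount (Cfsg.inndiagPSU n F q) (Cfsg.Inn (Cfsg.PSU n F q)) x
        = Nat.gcd n ((q + 1) / (p ^ (f / r) + 1)) := by
  have : NeZero n := ⟨by omega⟩
  obtain ⟨α, φ, σ, hσ1, hσodd, hφ, hα⟩ := hx
  obtain ⟨U'⟩ := exists_UData hF
  rw [isFieldAutPSUOf_iff U'] at hφ
  have hσr : orderOf σ = r := by
    rw [← orderOf_phiU U' hn σ, ← hφ, ← hα, orderOf_conj', hxr]
  have hσpos : 0 < orderOf σ := orderOf_pos_ringAut σ
  obtain ⟨hrf, R, hR⟩ := exists_UFD hq hf hF σ hσr hro hF₀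
  subst hR
  have hφ' : φ = phiU R.U R.E.σ := by
    rw [← isFieldAutPSUOf_iff R.U, isFieldAutPSUOf_iff U']
    exact hφ
  have hDn : (Cfsg.inndiagPSU n F q).Normal := normal_inndiagPSU hF hn hs
  have hF₀' : Fintype.card F₀ = (p ^ (f / r)) ^ 2 := by rw [hF₀, ← pow_mul, mul_comm]
  refine ⟨hrf, ?_, ?_⟩
  · obtain ⟨e⟩ := nonempty_centralizer_equiv (n := n) R hn hσpos
    have e1 := centEquiv (Cfsg.inndiagPSU n F q) α x
    rw [hα, hφ'] at e1
    exact ⟨e1.trans e⟩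
  · rw [← splitClassCount_conj (Cfsg.inndiagPSU n F q) (Cfsg.Inn (Cfsg.PSU n F q)) α x, hα, hφ',
      splitClassCount_phiU R hn hσpos hF hF₀']

end Cfsg.Agent.Helper7.FieldPSU
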