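import Cfsg.Agent.Helper7.FieldPSU4

/-!
# Field automorphisms of `PSU_n(q)`, part 5 (helper7)

The power formula for `c_g φ_σ` and the unitary Lang-type theorem: the elements of order `r` in
the coset `Inndiag · φ_σ` are conjugate to `φ_σ` under `Inndiag`.
-/

set_option autoImplicit false
set_option linter.unusedSectionVars false
set_option linter.unusedVariables false

namespace Cfsg.Agent.Helper7.FieldPSU

open Matrix
open Cfsg.Agent.Helper7.GraphPSU (UData HS cU phiU IsUG barGL barGL_coe tauGL tauHS phiU_cU cU_eq_iff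
  mem_HS_iff isUG_iff mem_GU_iff scalarHS cU_scalarHS exists_unitary_mul isUG_mem_HS cU_eq_one_iff
  cU_of_mem_scalars tauHS_coe tauGL_isUG tauGL_gT tauGL_barGL barGL_barGL barGL_gT bar_comm
  exists_gram)
open Cfsg.Agent.Helper7.GraphPSL (gT gT_coe gT_mul gT_inv gT_gT)
open Cfsg.Agent.Helper7.FieldPSL (FDesc jGL jGL_coe jGL_injective sGL sGL_coe sGL_jGL
  exists_jGL_of_fixed det_jGL nrmGL nrmGL_coe nrmM nrmM_succ nrmM_succ' nrmM_smul nrmF nrmF_mul
  nrmF_one nrmF_succ nrmF_zero hilbert90 exists_norm_eq speiser)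
open Cfsg.Agent.Helper7.GraphSplit (U1 mem_U1_iff mem_U1_iff')

variable {F : Type*} [Field F] {F₀ : Type*} [Field F₀] {n q q₀ : ℕ}

section power

variable (U : UData F q)

/-- partial norms in the group of Hermitian similitudes -/
def nrmHS (σ : F ≃+* F) (g : ↥(HS U n)) : ℕ → ↥(HS U n)
  | 0 => 1
  | i + 1 => g * tauHS U σ (nrmHS σ g i)

theorem nrmHS_coe (σ : F ≃+* F) (g : ↥(HS U n)) (i : ℕ) :
    ((nrmHS U σ g i : ↥(HS U n)) : GL (Fin n) F) = nrmGL σ (g : GL (Fin n) F) i := by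
  induction i with
  | zero => rfl
  | succ i ih =>
    show (g : GL (Fin n) F) * tauGL σ ((nrmHS U σ g i : ↥(HS U n)) : GL (Fin n) F)
      = (g : GL (Fin n) F) * sGL σ (nrmGL σ (g : GL (Fin n) F) i)
    rw [ih]
    rfl

/-- **the power formula** -/
theorem cU_mul_phiU_pow (σ : F ≃+* F) (g : ↥(HS U n)) (i : ℕ) :
    (cU U g * phiU U σ : MulAut (Cfsg.PSU n F q)) ^ i
      = cU U (nrmHS U σ g i) * phiU U (σ ^ i) := by
  induction i with
  | zero =>
    rw [pow_zero, pow_zero]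
    show 1 = cU U 1 * phiU U 1
    rw [map_one, map_one, one_mul]
  | succ i ih =>
    rw [pow_succ', ih]
    show _ = cU U (g * tauHS U σ (nrmHS U σ g i)) * phiU U (σ ^ (i + 1))
    rw [map_mul, pow_succ', map_mul]
    calc cU U g * phiU U σ * (cU U (nrmHS U σ g i) * phiU U (σ ^ i))
        = cU U g * (phiU U σ * cU U (nrmHS U σ g i)) * phiU U (σ ^ i) := by group
      _ = cU U g * (cU U (tauHS U σ (nrmHS U σ g i)) * phiU U σ) * phiU U (σ ^ i) := by
          rw [phiU_cU]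
      _ = _ := by group

theorem isUG_nrmGL (σ : F ≃+* F) {g : GL (Fin n) F} (hg : IsUG U g) (i : ℕ) :
    IsUG U (nrmGL σ g i) := by
  induction i with
  | zero =>
    show IsUG U (1 : GL (Fin n) F)
    unfold IsUG
    rw [map_one]
    show gT (1 : GL (Fin n) F) * 1 = 1
    rw [mul_one]
    apply Units.ext
    rw [gT_coe, Units.val_one, Matrix.transpose_one]
  | succ i ih =>
    show IsUG U (g * sGL σ (nrmGL σ g i))
    have h1 : IsUG U (sGL σ (nrmGL σ g i)) := tauGL_isUG U σ ih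
    exact GraphSplit.isUG_of_mem_GU U (Subgroup.mul_mem _ (GraphSplit.mem_GU_of_isUG U hg)
      (GraphSplit.mem_GU_of_isUG U h1))

theorem nrmF_inv (σ : F ≃+* F) {a : F} (ha : a ≠ 0) (i : ℕ) :
    nrmF σ a⁻¹ i = (nrmF σ a i)⁻¹ := by
  have h1 : nrmF σ a⁻¹ i * nrmF σ a i = 1 := by
    rw [← nrmF_mul, inv_mul_cancel₀ ha, nrmF_one]
  exact eq_inv_of_mul_eq_one_left h1

theorem nrmF_bar (σ : F ≃+* F) (a : F) (i : ℕ) :
    nrmF σ (U.bar a) i = U.bar (nrmF σ a i) := by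
  unfold nrmF
  rw [map_prod]
  apply Finset.prod_congr rfl
  intro j _
  exact bar_comm U (σ ^ j) a

end power

section lang

variable (R : UFD F F₀ q q₀)

/-- a norm-one element with prescribed `σ`-norm -/
theorem exists_norm_one_of_fixed [Finite F] [Finite F₀] (hσ : 0 < orderOf R.E.σ) (c : Fˣ)
    (hcfix : R.E.σ (c : F) = c) (hcU : (c : F) * R.U.bar (c : F) = 1) :
    ∃ m : Fˣ, (m : F) * R.U.bar (m : F) = 1 ∧ nrmF R.E.σ (m : F) (orderOf R.E.σ) = (c : F)⁻¹ := by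
  obtain ⟨c₀, hc₀⟩ := R.E.exists_j (c : F) hcfix
  have hc₀0 : c₀ ≠ 0 := by
    rintro rfl
    rw [map_zero] at hc₀
    exact c.ne_zero hc₀.symm
  have hc₀U : c₀ * R.U₀.bar c₀ = 1 := by
    apply R.E.j.injective
    rw [map_mul, R.compat, hc₀, hcU, map_one]
  have hord : orderOf R.U₀.bar = 2 := GraphPSU.orderOf_bar R.U₀
  have hN : nrmF R.U₀.bar c₀⁻¹ (orderOf R.U₀.bar) = 1 := by
    rw [hord]
    unfold nrmF
    rw [Finset.prod_range_succ, Finset.prod_range_one, pow_zero, pow_one]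
    show c₀⁻¹ * R.U₀.bar c₀⁻¹ = 1
    rw [map_inv₀, ← mul_inv, hc₀U, inv_one]
  obtain ⟨b₀, hb₀0, hb₀⟩ := hilbert90 R.U₀.bar c₀⁻¹ hN (by rw [hord]; norm_num)
  have hb0 : R.E.j b₀ ≠ 0 := by
    intro h0
    apply hb₀0
    apply R.E.j.injective
    rw [h0, map_zero]
  obtain ⟨a, ha⟩ := exists_norm_eq R.E.σ (Units.mk0 (R.E.j b₀) hb0) (R.E.fix_j b₀)
  rw [Units.val_mk0] at ha
  have hbara : R.U.bar (a : F) ≠ 0 := by
    rw [Ne, map_eq_zero]
    exact a.ne_zero
  refine ⟨Units.mk0 ((a : F) * (R.U.bar (a : F))⁻¹) (mul_ne_zero a.ne_zero (inv_ne_zero hbara)),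
    ?_, ?_⟩
  · rw [Units.val_mk0, map_mul, map_inv₀, R.U.bar_bar]
    field_simp
  · have hbb : R.U₀.bar b₀ ≠ 0 := by
      rw [Ne, map_eq_zero]
      exact hb₀0
    have h5 : b₀ * (R.U₀.bar b₀)⁻¹ = c₀⁻¹ := by
      calc b₀ * (R.U₀.bar b₀)⁻¹ = (c₀⁻¹ * R.U₀.bar b₀) * (R.U₀.bar b₀)⁻¹ := by rw [hb₀]
        _ = c₀⁻¹ := by rw [mul_assoc, mul_inv_cancel₀ hbb, mul_one]
    rw [Units.val_mk0, nrmF_mul, nrmF_inv R.E.σ hbara, nrmF_bar, ha, ← R.compat, ← hc₀,
      ← map_inv₀ R.E.j c₀, ← h5, map_mul, map_inv₀]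

/-- **the unitary Lang-type theorem**, unitary case -/
theorem conj_of_pow_eq_one_aux [Finite F] [Finite F₀] [NeZero n] (hn : 3 ≤ n)
    (hσ : 0 < orderOf R.E.σ) (g : ↥(HS R.U n)) (hg : IsUG R.U (g : GL (Fin n) F))
    (h : (cU R.U g * phiU R.U R.E.σ : MulAut (Cfsg.PSU n F q)) ^ (orderOf R.E.σ) = 1) :
    ∃ B : ↥(HS R.U n), (cU R.U g * phiU R.U R.E.σ : MulAut (Cfsg.PSU n F q))
      = cU R.U B * phiU R.U R.E.σ * (cU R.U B)⁻¹ := by
  classical
  obtain ⟨σ, hσdef⟩ : ∃ σ : F ≃+* F, σ = R.E.σ := ⟨_, rfl⟩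
  rw [← hσdef] at h hσ ⊢
  set r := orderOf σ with hr
  set G : Matrix (Fin n) (Fin n) F := ((g : GL (Fin n) F) : Matrix (Fin n) (Fin n) F) with hG
  have hG0 : G ≠ 0 := by
    intro h0
    have h4 := (g : GL (Fin n) F).isUnit.map Matrix.detMonoidHom
    have : Nonempty (Fin n) := ⟨⟨0, Nat.pos_of_ne_zero (NeZero.ne n)⟩⟩
    rw [Matrix.coe_detMonoidHom, ← hG, h0, Matrix.det_zero] at h4
    exact not_isUnit_zero h4
  rw [cU_mul_phiU_pow, pow_orderOf_eq_one, map_one, mul_one, cU_eq_one_iff R.U hn,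
    Cfsg.Geo.mem_scalars_iff] at h
  obtain ⟨c, hc⟩ := h
  rw [nrmHS_coe, nrmGL_coe] at hc
  -- `c` is fixed by `σ`
  have hcfix : σ (c : F) = c := by
    have e1 := nrmM_succ σ G r
    have e2 := nrmM_succ' σ G r
    rw [hr, pow_orderOf_eq_one, ← hr] at e2
    have e3 : G.map (1 : F ≃+* F) = G := by
      ext a b
      rfl
    rw [e3, e1, hc] at e2
    have e4 : ((c : F) • (1 : Matrix (Fin n) (Fin n) F)).map σ
        = σ (c : F) • (1 : Matrix (Fin n) (Fin n) F) := by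
      ext a b
      simp only [Matrix.map_apply, Matrix.smul_apply, Matrix.one_apply, smul_eq_mul, map_mul]
      by_cases hab : a = b
      · simp [hab]
      · simp [hab]
    rw [e4, Matrix.mul_smul, Matrix.mul_one, Matrix.smul_mul, Matrix.one_mul] at e2
    have e5 : (σ (c : F) - c) • G = 0 := by rw [sub_smul, e2, sub_self]
    rcases smul_eq_zero.1 e5 with h' | h'
    · exact sub_eq_zero.1 h'
    · exact absurd h' hG0
  -- `c` has norm one
  have hcU : (c : F) * R.U.bar (c : F) = 1 := by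
    rw [← mem_U1_iff' R.U, ← isUG_scalarGL_iff (n := n) R]
    have h1 : (GraphPSU.scalarGL c : GL (Fin n) F) = nrmGL σ (g : GL (Fin n) F) r := by
      apply Units.ext
      rw [GraphPSU.scalarGL_coe, nrmGL_coe, hc]
    rw [h1]
    exact isUG_nrmGL R.U σ hg r
  obtain ⟨m, hmU, hm⟩ := exists_norm_one_of_fixed R (by rw [← hσdef]; exact hσ) c
    (by rw [← hσdef]; exact hcfix) hcU
  rw [← hσdef, ← hr] at hm
  have hN : nrmM σ ((m : F) • G) r = 1 := by
    rw [nrmM_smul, hc, hm, smul_smul, inv_mul_cancel₀ c.ne_zero, one_smul]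
  obtain ⟨A, hA, hGA⟩ := speiser σ ((m : F) • G) hN hσ
  set A' : GL (Fin n) F := hA.unit with hA'
  have hAA : (A' : Matrix (Fin n) (Fin n) F) = A := rfl
  set g' : GL (Fin n) F := GraphPSU.scalarGL m * (g : GL (Fin n) F) with hg'
  have hg'U : IsUG R.U g' := by
    apply isUG_mul R _ hg
    rw [isUG_scalarGL_iff (n := n) R, mem_U1_iff' R.U]
    exact hmU
  have key : g' * sGL σ A' = A' := by
    apply Units.ext
    rw [Units.val_mul, hg', Units.val_mul, GraphPSU.scalarGL_coe, Matrix.smul_mul, Matrix.one_mul,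
      sGL_coe, hAA]
    exact hGA
  -- the Hermitian matrix `P = A'ᵀ Ā'` is fixed by `σ`
  set P : GL (Fin n) F := gT A' * barGL R.U A' with hP
  have hPfix : sGL σ P = P := by
    have h1 : sGL σ P = gT (sGL σ A') * barGL R.U (sGL σ A') := by
      rw [hP, map_mul]
      show tauGL σ (gT A') * tauGL σ (barGL R.U A') = _
      rw [tauGL_gT, tauGL_barGL]
      rfl
    rw [h1]
    conv_rhs => rw [hP, ← key, gT_mul, map_mul]
    have h2 : gT g' * barGL R.U g' = 1 := hg'U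
    calc gT (sGL σ A') * barGL R.U (sGL σ A')
        = gT (sGL σ A') * (gT g' * barGL R.U g') * barGL R.U (sGL σ A') := by
          rw [h2, mul_one]
      _ = _ := by group
  have hPH : gT (barGL R.U P) = P := by
    rw [hP, map_mul, gT_mul, barGL_barGL, barGL_gT, gT_gT]
  obtain ⟨P₀, hP₀⟩ := exists_jGL_of_fixed R.E P (by rw [← hσdef]; exact hPfix)
  have hP₀H : gT (barGL R.U₀ P₀) = P₀ := by
    apply jGL_injective R.E
    rw [← gT_jGL, ← barGL_jGL, hP₀]
    exact hPH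
  obtain ⟨a₀, ha₀⟩ := exists_gram R.U₀ P₀ hP₀H
  set a : GL (Fin n) F := jGL R.E a₀ with ha
  have haP : gT a * barGL R.U a = P := by
    rw [ha, gT_jGL, barGL_jGL, ← map_mul, ha₀, hP₀]
  have hafix : sGL σ a = a := by
    rw [ha, hσdef]
    exact sGL_jGL R.E a₀
  set B : GL (Fin n) F := A' * a⁻¹ with hB
  have hBU : IsUG R.U B := by
    unfold IsUG
    rw [hB, gT_mul, map_mul, gT_inv, map_inv]
    calc (gT a)⁻¹ * gT A' * (barGL R.U A' * (barGL R.U a)⁻¹)
        = (gT a)⁻¹ * (gT A' * barGL R.U A') * (barGL R.U a)⁻¹ := by group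
      _ = (gT a)⁻¹ * (gT a * barGL R.U a) * (barGL R.U a)⁻¹ := by rw [← hP, haP]
      _ = 1 := by group
  have keyB : g' * sGL σ B = B := by
    rw [hB, map_mul, map_inv, hafix, ← mul_assoc, key]
  set B' : ↥(HS R.U n) := ⟨B, isUG_mem_HS R.U hBU⟩ with hB'
  have key2 : cU R.U g * cU R.U (tauHS R.U σ B') = cU R.U B' := by
    have h1 : scalarHS R.U m * g * tauHS R.U σ B' = B' := by
      apply Subtype.ext
      exact keyB
    have h2 := congrArg (cU R.U : ↥(HS R.U n) →* MulAut (Cfsg.PSU n F q)) h1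
    rw [map_mul, map_mul, cU_scalarHS, one_mul] at h2
    exact h2
  refine ⟨B', ?_⟩
  have key3 : (phiU R.U σ : MulAut (Cfsg.PSU n F q)) * (cU R.U B')⁻¹
      = (cU R.U (tauHS R.U σ B'))⁻¹ * phiU R.U σ := by
    rw [eq_inv_mul_iff_mul_eq, ← mul_assoc, ← phiU_cU, mul_assoc, mul_inv_cancel, mul_one]
  rw [mul_assoc, key3, ← key2]
  group

/-- **the unitary Lang-type theorem** -/
theorem conj_of_pow_eq_one_U [Finite F] [Finite F₀] [NeZero n] (hn : 3 ≤ n)
    (hσ : 0 < orderOf R.E.σ) (g : ↥(HS R.U n))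
    (h : (cU R.U g * phiU R.U R.E.σ : MulAut (Cfsg.PSU n F q)) ^ (orderOf R.E.σ) = 1) :
    ∃ B : ↥(HS R.U n), (cU R.U g * phiU R.U R.E.σ : MulAut (Cfsg.PSU n F q))
      = cU R.U B * phiU R.U R.E.σ * (cU R.U B)⁻¹ := by
  obtain ⟨ν, hν⟩ := exists_unitary_mul R.U g.2
  have h1 : cU R.U (scalarHS R.U ν * g) = cU R.U g := by rw [map_mul, cU_scalarHS, one_mul]
  rw [← h1] at h ⊢
  exact conj_of_pow_eq_one_aux R hn hσ _ hν h

end lang

end Cfsg.Agent.Helper7.FieldPSU
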