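import Cfsg.Agent.Helper7.FieldPSU5

/-!
# Field automorphisms of `PSU_n(q)`, part 6 (helper7)

The coset-conjugacy theorem for field automorphisms of prime order of `PSU_n(q)`.
-/

set_option autoImplicit false
set_option linter.unusedSectionVars false
set_option linter.unusedVariables false

namespace Cfsg.Agent.Helper7.FieldPSU

open Matrix
open Cfsg.Agent.Helper7.GraphPSU (UData HS cU phiU IsUG isFieldAutPSUOf_iff inndiagPSU_eq_range)
open Cfsg.Agent.Helper7.FieldPSL (exists_UData orderOf_dvd orderOf_pos_ringAut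
  orderOf_conj' isConjUnder_conj_iff)

variable {F : Type*} [Field F] {n : ℕ}

/-- **coset conjugacy for field automorphisms of prime order of `PSU_n(q)`** -/
theorem coset_conj_main_U [Fintype F] {p f q : ℕ} [Fact p.Prime] (hq : q = p ^ f) (hf : 1 ≤ f)
    (hF : Fintype.card F = q ^ 2) (hn : 3 ≤ n) (hs : ¬ (n = 3 ∧ q = 2))
    (x δ : MulAut (Cfsg.PSU n F q)) (hx : Cfsg.IsFieldAutClassPSU x) {r : ℕ}
    (hxr : orderOf x = r) (hδ : δ ∈ Cfsg.inndiagPSU n F q) :
    orderOf (δ * x) = r ↔ Cfsg.IsConjUnder (Cfsg.inndiagPSU n F q) x (δ * x) := by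
  have : NeZero n := ⟨by omega⟩
  have hDn : (Cfsg.inndiagPSU n F q).Normal := normal_inndiagPSU hF hn hs
  constructor
  · intro hord
    obtain ⟨α, φ, σ, hσ1, hσodd, hφ, hα⟩ := hx
    obtain ⟨U'⟩ := exists_UData hF
    rw [isFieldAutPSUOf_iff U'] at hφ
    have hσr : orderOf σ = r := by
      rw [← orderOf_phiU U' hn σ, ← hφ, ← hα, orderOf_conj', hxr]
    have hσpos : 0 < orderOf σ := orderOf_pos_ringAut σ
    have hro : Odd r := hσr ▸ hσodd
    -- the fixed field
    have hF' : Fintype.card F = p ^ (2 * f) := by rw [hF, hq, ← pow_mul, mul_comm]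
    have h1 : r ∣ 2 * f := by
      rw [← hσr]
      exact orderOf_dvd (by omega) hF' σ
    have hrf : r ∣ f := (Nat.coprime_two_right.2 hro).dvd_of_dvd_mul_left h1
    have hk0 : 2 * (f / r) ≠ 0 := by
      obtain ⟨k, hk⟩ := hrf
      have hrpos : 0 < r := hσr ▸ hσpos
      rw [hk, Nat.mul_div_cancel_left _ hrpos]
      rintro h0
      have : k = 0 := by omega
      rw [this, mul_zero] at hk
      omega
    let F₀ := GaloisField p (2 * (f / r))
    have : Fintype F₀ := Fintype.ofFinite _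
    have hF₀ : Fintype.card F₀ = p ^ (2 * (f / r)) := by
      rw [← Nat.card_eq_fintype_card]
      exact GaloisField.card p _ hk0
    obtain ⟨-, R, hR⟩ := exists_UFD (F₀ := F₀) hq hf hF σ hσr hro hF₀
    subst hR
    have hφ' : φ = phiU R.U R.E.σ := by
      rw [← isFieldAutPSUOf_iff R.U, isFieldAutPSUOf_iff U']
      exact hφ
    rw [hφ'] at hα
    -- reduce to the standard representative
    have h2 : α * δ * α⁻¹ ∈ Cfsg.inndiagPSU n F q := hDn.conj_mem δ hδ α
    rw [inndiagPSU_eq_range R.U] at h2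
    obtain ⟨g, hg⟩ := h2
    have h3 : α * (δ * x) * α⁻¹ = cU R.U g * phiU R.U R.E.σ := by
      rw [hg, ← hα]
      group
    have h4 : (cU R.U g * phiU R.U R.E.σ : MulAut (Cfsg.PSU n F q)) ^ (orderOf R.E.σ) = 1 := by
      rw [← h3, hσr, ← hord, ← orderOf_conj' α (δ * x)]
      exact pow_orderOf_eq_one _
    obtain ⟨B, hB⟩ := conj_of_pow_eq_one_U R hn hσpos g h4
    rw [← isConjUnder_conj_iff (Cfsg.inndiagPSU n F q) α, h3, hα]
    refine ⟨cU R.U B, ?_, hB⟩
    rw [inndiagPSU_eq_range R.U]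
    exact ⟨B, rfl⟩
  · rintro ⟨h, hh, e⟩
    rw [e, orderOf_conj', hxr]

end Cfsg.Agent.Helper7.FieldPSU
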