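import Cfsg.Agent.Helper7.AutPSp13
import Cfsg.Agent.Helper7.FieldPSL12

/-!
# Field automorphisms of `PSp_{2m}(q)`, part 1 (helper7)

Descent for matrices indexed by `Fin m ⊕ Fin m`; the centralizer of the standard field
automorphism in the inner-diagonal group of `PSp_{2m}(q)` is `PGSp_{2m}(q₀)`.
-/

set_option autoImplicit false
set_option linter.unusedSectionVars false
set_option linter.unusedVariables false

namespace Cfsg.Agent.Helper7.FieldPSp

open Matrix Cfsg.Agent.Helper2.Sp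
open Cfsg.Agent.Helper7.AutPSp
open Cfsg.Agent.Helper7.GraphPSL (mem_GSp_iff scalarGLgen scalarGLgen_mem scalarGLgen_coe)
open Cfsg.Agent.Helper7.GraphSplit (Mult mem_GSp_of_mult)
open Cfsg.Agent.Helper7.FieldPSL (FDesc nrmF nrmF_zero nrmF_succ hilbert90)

variable {F : Type*} [Field F] {F₀ : Type*} [Field F₀] {m : ℕ}

local notation "Mt" => Matrix (Fin m ⊕ Fin m) (Fin m ⊕ Fin m) F
local notation "Mt₀" => Matrix (Fin m ⊕ Fin m) (Fin m ⊕ Fin m) F₀
local notation "GLm" => GL (Fin m ⊕ Fin m) F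
local notation "GLm₀" => GL (Fin m ⊕ Fin m) F₀

/-- the matrix form of the multiplier condition -/
theorem mult_iff_matrix (k : GLm) (c : Fˣ) :
    Mult m k c ↔ (k : Mt)ᵀ * J (Fin m) F * (k : Mt) = (c : F) • J (Fin m) F := by
  constructor
  · intro h
    ext i j
    have := h (Pi.single i 1) (Pi.single j 1)
    rw [om_mulVec] at this
    unfold om at this
    rw [mulVec_single_one, mulVec_single_one, single_one_dotProduct, single_one_dotProduct] at this
    rw [Matrix.smul_apply, smul_eq_mul]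
    exact this
  · intro h u v
    rw [om_mulVec, h, Matrix.smul_mulVec, dotProduct_smul, smul_eq_mul]
    rfl

theorem J_map {R S : Type*} [CommRing R] [CommRing S] (j : R →+* S) :
    (J (Fin m) R).map j = J (Fin m) S := by
  ext a b
  rcases a with a | a <;> rcases b with b | b <;>
    by_cases hab : a = b <;> simp [J, Matrix.one_apply, hab]

variable (E : FDesc F F₀)

/-- base change of invertible matrices -/
def jGLs : GLm₀ →* GLm := Matrix.GeneralLinearGroup.map E.j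

theorem jGLs_coe (k : GLm₀) : ((jGLs E k : GLm) : Mt) = (k : Mt₀).map E.j := rfl

theorem jGLs_injective : Function.Injective (jGLs E : GLm₀ →* GLm) := by
  intro k k' h
  apply Units.ext
  have := congrArg Units.val h
  rw [jGLs_coe, jGLs_coe] at this
  ext i l
  have h2 := congrFun (congrFun this i) l
  simp only [Matrix.map_apply] at h2
  exact E.j.injective h2

theorem tauGLs_jGLs (k : GLm₀) : tauGLs E.σ (jGLs E k) = jGLs E k := by
  apply Units.ext
  rw [tauGLs_coe, jGLs_coe]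
  ext i l
  simp only [Matrix.map_apply]
  exact E.fix_j _

/-- a matrix fixed by `σ` comes from `F₀` -/
theorem exists_jGLs_of_fixed (g : GLm) (hg : tauGLs E.σ g = g) : ∃ k : GLm₀, jGLs E k = g := by
  classical
  have hfix : ∀ i l, E.σ ((g : Mt) i l) = (g : Mt) i l := by
    intro i l
    have := congrArg (fun x : GLm => (x : Mt) i l) hg
    exact this
  choose K hK using fun i l => E.exists_j _ (hfix i l)
  have hKmap : (Matrix.of K).map E.j = (g : Mt) := by
    ext i l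
    simp only [Matrix.map_apply, Matrix.of_apply]
    exact hK i l
  have hdet : (Matrix.of K).det ≠ 0 := by
    intro h0
    have h1 : ((Matrix.of K).map E.j).det = 0 := by
      rw [← RingHom.mapMatrix_apply, ← RingHom.map_det, h0, map_zero]
    rw [hKmap] at h1
    have := g.isUnit.map Matrix.detMonoidHom
    rw [Matrix.coe_detMonoidHom] at this
    exact this.ne_zero h1
  refine ⟨Matrix.GeneralLinearGroup.mkOfDetNeZero (Matrix.of K) hdet, ?_⟩
  apply Units.ext
  rw [jGLs_coe]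
  exact hKmap

theorem map_pow_apply_s (σ : F ≃+* F) (i : ℕ) (M : Mt) :
    (M.map (σ ^ i : F ≃+* F)).map σ = M.map (σ ^ (i + 1) : F ≃+* F) := by
  ext a b
  simp only [Matrix.map_apply]
  rw [pow_succ']
  rfl

theorem map_pow_eq_s (σ : F ≃+* F) (g : Mt) (c : F) (h : g.map σ = c • g) (i : ℕ) :
    g.map (σ ^ i : F ≃+* F) = nrmF σ c i • g := by
  induction i with
  | zero =>
    rw [nrmF_zero, one_smul, pow_zero]
    ext a b
    rfl
  | succ i ih =>
    rw [← map_pow_apply_s, ih, nrmF_succ]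
    ext a b
    have := congrFun (congrFun h a) b
    simp only [Matrix.map_apply, Matrix.smul_apply, smul_eq_mul] at this ⊢
    rw [map_mul, this]
    ring

theorem scalarGLgen_mul_coe (μ : Fˣ) (g : GLm) :
    ((scalarGLgen μ * g : GLm) : Mt) = (μ : F) • (g : Mt) := by
  rw [Units.val_mul, scalarGLgen_coe, Matrix.smul_mul, Matrix.one_mul]

/-- the structure of the preimage of the centralizer -/
theorem exists_scalar_mul_jGLs (hm : 1 ≤ m) (hσ : 0 < orderOf E.σ) (g : GLm) (c : Fˣ)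
    (h : ((tauGLs E.σ g : GLm) : Mt) = (c : F) • (g : Mt)) :
    ∃ (μ : Fˣ) (k : GLm₀), g = scalarGLgen μ * jGLs E k := by
  rw [tauGLs_coe] at h
  have h1 := map_pow_eq_s E.σ _ _ h (orderOf E.σ)
  rw [pow_orderOf_eq_one] at h1
  have h2 : (g : Mt).map (1 : F ≃+* F) = (g : Mt) := by
    ext a b
    rfl
  rw [h2] at h1
  have hN : nrmF E.σ (c : F) (orderOf E.σ) = 1 := by
    by_contra hne
    have h3 : (g : Mt) = 0 := by
      have : (1 - nrmF E.σ (c : F) (orderOf E.σ)) • (g : Mt) = 0 := by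
        rw [sub_smul, one_smul, ← h1, sub_self]
      rcases smul_eq_zero.1 this with h' | h'
      · exact absurd (sub_eq_zero.1 h').symm hne
      · exact h'
    have h4 := g.isUnit.map Matrix.detMonoidHom
    have : Nonempty (Fin m ⊕ Fin m) := ⟨Sum.inl ⟨0, by omega⟩⟩
    rw [Matrix.coe_detMonoidHom, h3, Matrix.det_zero] at h4
    exact not_isUnit_zero h4
  obtain ⟨t, ht0, ht⟩ := hilbert90 E.σ (c : F) hN hσ
  have hfix : tauGLs E.σ (scalarGLgen (Units.mk0 t ht0) * g) = scalarGLgen (Units.mk0 t ht0) * g := by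
    apply Units.ext
    rw [tauGLs_coe, scalarGLgen_mul_coe, Units.val_mk0]
    ext a b
    have := congrFun (congrFun h a) b
    simp only [Matrix.map_apply, Matrix.smul_apply, smul_eq_mul] at this ⊢
    rw [map_mul, this, ← mul_assoc, mul_comm (E.σ t), ht]
  obtain ⟨k, hk⟩ := exists_jGLs_of_fixed E _ hfix
  refine ⟨(Units.mk0 t ht0)⁻¹, k, ?_⟩
  have hinv : (scalarGLgen (Units.mk0 t ht0)⁻¹ : GLm) = (scalarGLgen (Units.mk0 t ht0))⁻¹ :=
    map_inv _ _
  rw [hk, hinv, inv_mul_cancel_left]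

/-- a base-changed matrix is scalar iff it is scalar over `F₀` -/
theorem jGLs_mem_scalars_iff (hm : 1 ≤ m) (k : GLm₀) :
    jGLs E k ∈ Cfsg.Geo.scalars (Fin m ⊕ Fin m) F ↔ k ∈ Cfsg.Geo.scalars (Fin m ⊕ Fin m) F₀ := by
  classical
  obtain ⟨i0, hi0⟩ : ∃ i0 : Fin m ⊕ Fin m, i0 = Sum.inl ⟨0, by omega⟩ := ⟨_, rfl⟩
  rw [Cfsg.Geo.mem_scalars_iff, Cfsg.Geo.mem_scalars_iff]
  constructor
  · rintro ⟨c, hc⟩
    rw [jGLs_coe] at hc
    have h00 := congrFun (congrFun hc i0) i0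
    simp only [Matrix.map_apply, Matrix.smul_apply, Matrix.one_apply, smul_eq_mul, if_true,
      mul_one] at h00
    have hk0 : (k : Mt₀) i0 i0 ≠ 0 := by
      intro h0
      rw [h0, map_zero] at h00
      exact c.ne_zero h00.symm
    refine ⟨Units.mk0 _ hk0, ?_⟩
    ext a b
    have hab := congrFun (congrFun hc a) b
    simp only [Matrix.map_apply, Matrix.smul_apply, Matrix.one_apply, smul_eq_mul] at hab
    simp only [Units.val_mk0, Matrix.smul_apply, Matrix.one_apply, smul_eq_mul]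
    by_cases h : a = b
    · rw [if_pos h, mul_one]
      rw [if_pos h, mul_one, ← h00] at hab
      subst h
      exact E.j.injective hab
    · rw [if_neg h, mul_zero]
      rw [if_neg h, mul_zero] at hab
      exact E.j.injective (by rw [hab, map_zero])
  · rintro ⟨c, hc⟩
    refine ⟨Units.map (E.j : F₀ →* F) c, ?_⟩
    rw [jGLs_coe, hc]
    ext a b
    simp only [Matrix.map_apply, Matrix.smul_apply, Matrix.one_apply, smul_eq_mul, Units.coe_map,
      MonoidHom.coe_coe]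
    by_cases h : a = b
    · simp [h]
    · simp [h]

theorem jGLs_mult {k : GLm₀} {c : F₀ˣ} (h : Mult m k c) :
    Mult m (jGLs E k) (Units.map (E.j : F₀ →* F) c) := by
  rw [mult_iff_matrix] at h ⊢
  have hJ := J_map (m := m) E.j
  rw [jGLs_coe]
  calc ((k : Mt₀).map E.j)ᵀ * J (Fin m) F * (k : Mt₀).map E.j
      = ((k : Mt₀).map E.j)ᵀ * (J (Fin m) F₀).map E.j * (k : Mt₀).map E.j := by rw [hJ]
    _ = ((k : Mt₀)ᵀ * J (Fin m) F₀ * (k : Mt₀)).map E.j := by
        rw [← Matrix.transpose_map, Matrix.map_mul, Matrix.map_mul]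
    _ = ((c : F₀) • J (Fin m) F₀).map E.j := by rw [h]
    _ = ((Units.map (E.j : F₀ →* F) c : Fˣ) : F) • J (Fin m) F := by
        ext a b
        have := congrFun (congrFun hJ a) b
        simp only [Matrix.map_apply, Matrix.smul_apply, smul_eq_mul, map_mul, Units.coe_map,
          MonoidHom.coe_coe] at this ⊢
        rw [this]

theorem jGLs_mem_GSp_iff (hm : 1 ≤ m) (k : GLm₀) :
    jGLs E k ∈ Cfsg.GSp m F ↔ k ∈ Cfsg.GSp m F₀ := by
  constructor
  · intro h
    obtain ⟨c, hc'⟩ := (mem_GSp_iff m _).1 h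
    have hc : Mult m (jGLs E k) c := hc'
    have hJ := J_map (m := m) E.j
    rw [mult_iff_matrix, jGLs_coe, ← hJ, ← Matrix.transpose_map,
      ← Matrix.map_mul, ← Matrix.map_mul] at hc
    -- the entry `(inr 0, inl 0)` of `J` is `1`
    obtain ⟨i0, hi0⟩ : ∃ i0 : Fin m, i0 = ⟨0, by omega⟩ := ⟨_, rfl⟩
    have h1 := congrFun (congrFun hc (Sum.inr i0)) (Sum.inl i0)
    have hJ : ((J (Fin m) F₀).map E.j) (Sum.inr i0) (Sum.inl i0) = 1 := by
      simp [J]
    rw [Matrix.smul_apply, hJ, smul_eq_mul, mul_one, Matrix.map_apply] at h1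
    obtain ⟨c₀, hc₀⟩ : ∃ c₀ : F₀, c₀
        = ((k : Mt₀)ᵀ * J (Fin m) F₀ * (k : Mt₀)) (Sum.inr i0) (Sum.inl i0) := ⟨_, rfl⟩
    rw [← hc₀] at h1
    have hc₀0 : c₀ ≠ 0 := by
      intro h0
      rw [h0, map_zero] at h1
      exact c.ne_zero h1.symm
    rw [mem_GSp_iff]
    refine ⟨Units.mk0 c₀ hc₀0, ?_⟩
    show Mult m k (Units.mk0 c₀ hc₀0)
    rw [mult_iff_matrix, Units.val_mk0]
    ext a b
    have h2 := congrFun (congrFun hc a) b
    rw [Matrix.map_apply, Matrix.smul_apply, Matrix.map_apply, ← h1, smul_eq_mul, ← map_mul]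
      at h2
    rw [Matrix.smul_apply, smul_eq_mul]
    exact E.j.injective h2
  · intro h
    obtain ⟨c, hc⟩ := (mem_GSp_iff m _).1 h
    exact mem_GSp_of_mult (jGLs_mult E hc)

/-- base change on the symplectic similitudes -/
def jGSp (hm : 1 ≤ m) : ↥(Cfsg.GSp m F₀) →* ↥(Cfsg.GSp m F) where
  toFun k := ⟨jGLs E k.1, (jGLs_mem_GSp_iff E hm k.1).2 k.2⟩
  map_one' := by
    apply Subtype.ext
    show jGLs E (1 : GLm₀) = 1
    rw [map_one]
  map_mul' k k' := by
    apply Subtype.ext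
    show jGLs E (k.1 * k'.1) = jGLs E k.1 * jGLs E k'.1
    rw [map_mul]

theorem jGSp_coe (hm : 1 ≤ m) (k : ↥(Cfsg.GSp m F₀)) :
    ((jGSp E hm k : ↥(Cfsg.GSp m F)) : GLm) = jGLs E k.1 := rfl

theorem muGSp_jGSp (hm : 1 ≤ m) (k : ↥(Cfsg.GSp m F₀)) :
    muGSp hm (jGSp E hm k) = Units.map (E.j : F₀ →* F) (muGSp hm k) :=
  muGSp_eq hm (jGLs_mult E (muGSp_spec hm k))

/-- the map `GSp_{2m}(q₀) → Aut(PSp_{2m}(q))` -/
noncomputable def psiSpF (hm : 1 ≤ m) : ↥(Cfsg.GSp m F₀) →* MulAut (Cfsg.PSp m F) :=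
  (cSp : ↥(Cfsg.GSp m F) →* _).comp (jGSp E hm)

theorem psiSpF_apply (hm : 1 ≤ m) (k : ↥(Cfsg.GSp m F₀)) :
    psiSpF E hm k = cSp (jGSp E hm k) := rfl

variable (p : ℕ) [Fact p.Prime] [CharP F p]

include p in
/-- membership in the centralizer of the standard field automorphism -/
theorem cSp_mem_centralizer_iff (hm : 1 ≤ m) (σ : F ≃+* F) (x : ↥(Cfsg.GSp m F)) :
    cSp x ∈ Subgroup.centralizer {(phiSp σ : MulAut (Cfsg.PSp m F))}
      ↔ ∃ c : Fˣ, ((tauGLs σ (x : GLm) : GLm) : Mt) = (c : F) • ((x : GLm) : Mt) := by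
  rw [Subgroup.mem_centralizer_singleton_iff, phiSp_cSp, mul_left_inj]
  rw [cSp_eq_iff p hm, Cfsg.Geo.mem_scalars_iff]
  have hcoe : ((x⁻¹ * tauGSp σ x : ↥(Cfsg.GSp m F)) : GLm)
      = (x : GLm)⁻¹ * tauGLs σ (x : GLm) := rfl
  rw [hcoe]
  constructor
  · rintro ⟨c, hc⟩
    refine ⟨c, ?_⟩
    have h1 : tauGLs σ (x : GLm) = (x : GLm) * ((x : GLm)⁻¹ * tauGLs σ (x : GLm)) := by group
    have h2 := congrArg Units.val h1
    rw [Units.val_mul, hc, Matrix.mul_smul, Matrix.mul_one] at h2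
    exact h2
  · rintro ⟨c, hc⟩
    refine ⟨c, ?_⟩
    have h1 : ((x : GLm)⁻¹ * tauGLs σ (x : GLm) : GLm) = scalarGLgen c := by
      rw [inv_mul_eq_iff_eq_mul]
      apply Units.ext
      rw [Units.val_mul, hc, scalarGLgen_coe, Matrix.mul_smul, Matrix.mul_one]
    rw [h1, scalarGLgen_coe]

include p in
theorem range_psiSpF (hm : 1 ≤ m) (hσ : 0 < orderOf E.σ) :
    (psiSpF E hm : ↥(Cfsg.GSp m F₀) →* MulAut (Cfsg.PSp m F)).range
      = Cfsg.inndiagPSp m F ⊓ Subgroup.centralizer {phiSp E.σ} := by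
  ext y
  rw [Subgroup.mem_inf, inndiagPSp_eq_range]
  constructor
  · rintro ⟨k, rfl⟩
    refine ⟨⟨jGSp E hm k, rfl⟩, ?_⟩
    rw [psiSpF_apply, cSp_mem_centralizer_iff p hm]
    exact ⟨1, by rw [jGSp_coe, tauGLs_jGLs, Units.val_one, one_smul]⟩
  · rintro ⟨⟨x, rfl⟩, hx⟩
    obtain ⟨c, hc⟩ := (cSp_mem_centralizer_iff p hm _ x).1 hx
    obtain ⟨μ, k, hk⟩ := exists_scalar_mul_jGLs E hm hσ x.1 c hc
    have hkG : jGLs E k ∈ Cfsg.GSp m F := by
      have : jGLs E k = (scalarGLgen μ)⁻¹ * (x : GLm) := by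
        rw [hk, inv_mul_cancel_left]
      rw [this]
      exact Subgroup.mul_mem _ (Subgroup.inv_mem _ (scalarGSp μ).2) x.2
    have hk0 : k ∈ Cfsg.GSp m F₀ := (jGLs_mem_GSp_iff E hm k).1 hkG
    refine ⟨⟨k, hk0⟩, ?_⟩
    rw [psiSpF_apply]
    have h1 : x = scalarGSp μ * jGSp E hm ⟨k, hk0⟩ := Subtype.ext hk
    rw [h1, map_mul, cSp_scalarGSp, one_mul]

include p in
theorem ker_psiSpF (hm : 1 ≤ m) :
    (psiSpF E hm : ↥(Cfsg.GSp m F₀) →* MulAut (Cfsg.PSp m F)).ker
      = (Cfsg.Geo.scalars (Fin m ⊕ Fin m) F₀).subgroupOf (Cfsg.GSp m F₀) := by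
  ext k
  rw [MonoidHom.mem_ker, psiSpF_apply, cSp_eq_one_iff p hm, Subgroup.mem_subgroupOf]
  exact jGLs_mem_scalars_iff E hm k.1

include p in
/-- **the centralizer of the standard field automorphism in `Inndiag(PSp_{2m}(q))` is
`PGSp_{2m}(q₀)`** -/
theorem nonempty_centralizer_equiv (hm : 1 ≤ m) (hσ : 0 < orderOf E.σ) :
    Nonempty (↥(Cfsg.inndiagPSp m F ⊓ Subgroup.centralizer {(phiSp E.σ :
        MulAut (Cfsg.PSp m F))}) ≃* Cfsg.PGSp m F₀) := by
  have e1 : ↥(Cfsg.GSp m F₀) ⧸ (Cfsg.Geo.scalars (Fin m ⊕ Fin m) F₀).subgroupOf (Cfsg.GSp m F₀)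
      ≃* ↥(Cfsg.GSp m F₀) ⧸ (psiSpF E hm : ↥(Cfsg.GSp m F₀) →* MulAut (Cfsg.PSp m F)).ker :=
    QuotientGroup.quotientMulEquivOfEq (ker_psiSpF E p hm).symm
  have e2 := QuotientGroup.quotientKerEquivRange
    (psiSpF E hm : ↥(Cfsg.GSp m F₀) →* MulAut (Cfsg.PSp m F))
  have e3 := MulEquiv.subgroupCongr (range_psiSpF E p hm hσ)
  exact ⟨((e1.trans e2).trans e3).symm⟩

end Cfsg.Agent.Helper7.FieldPSp
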