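import Cfsg.Agent.Helper7.FieldPSp2

/-!
# Field automorphisms of `PSp_{2m}(q)`, part 3 (helper7)

Field automorphisms of prime order of `PSp_{2m}(q)`: centralizer and class splitting.
-/

set_option autoImplicit false
set_option linter.unusedSectionVars false
set_option linter.unusedVariables false

namespace Cfsg.Agent.Helper7.FieldPSp

open Matrix
open Cfsg.Agent.Helper7.AutPSp
open Cfsg.Agent.Helper7.FieldPSL (FDesc exists_FDesc orderOf_dvd orderOf_pos_ringAut
  orderOf_conj' centEquiv splitClassCount_conj)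

theorem gcd_two_eq (n : ℕ) : Nat.gcd 2 n = 2 - n % 2 := by
  rw [Nat.gcd_rec]
  rcases Nat.mod_two_eq_zero_or_one n with h | h
  · rw [h]; rfl
  · rw [h]; rfl

theorem geom_parity_odd {a : ℕ} (ha : a % 2 = 1) (r : ℕ) :
    (∑ i ∈ Finset.range r, a ^ i) % 2 = r % 2 := by
  induction r with
  | zero => simp
  | succ r ih =>
    rw [Finset.sum_range_succ]
    have h1 : a ^ r % 2 = 1 := by rw [Nat.pow_mod, ha, one_pow]; rfl
    omega

theorem geom_parity_even {a : ℕ} (ha : a % 2 = 0) (r : ℕ) (hr : 1 ≤ r) :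
    (∑ i ∈ Finset.range r, a ^ i) % 2 = 1 := by
  induction r with
  | zero => omega
  | succ r ih =>
    rw [Finset.sum_range_succ]
    by_cases hr0 : r = 0
    · subst hr0
      simp
    · have h1 : a ^ r % 2 = 0 := by
        rw [Nat.pow_mod, ha, zero_pow hr0]; rfl
      have := ih (by omega)
      omega

/-- the arithmetic of the class-splitting count -/
theorem count_arith {p f r : ℕ} (hp : p.Prime) (hf : 1 ≤ f) (hr : 1 ≤ r) (hrf : r ∣ f) :
    Nat.gcd 2 ((p ^ f - 1) / (p ^ (f / r) - 1)) = Nat.gcd (Nat.gcd 2 (p ^ f - 1)) r := by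
  obtain ⟨d, rfl⟩ := hrf
  have hd : 1 ≤ d := by
    rcases Nat.eq_zero_or_pos d with h | h
    · subst h; omega
    · exact h
  rw [Nat.mul_div_cancel_left d (by omega : 0 < r), mul_comm r d, pow_mul]
  have h2 : 2 ≤ p ^ d := by
    calc 2 ≤ p := hp.two_le
      _ = p ^ 1 := (pow_one p).symm
      _ ≤ p ^ d := Nat.pow_le_pow_right hp.pos hd
  rw [← Nat.geomSum_eq h2 r, gcd_two_eq, gcd_two_eq]
  have hpos : 1 ≤ (p ^ d) ^ r := Nat.one_le_pow _ _ (by omega)
  rcases Nat.mod_two_eq_zero_or_one (p ^ d) with h | h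
  · rw [geom_parity_even h r hr]
    have h3 : ((p ^ d) ^ r) % 2 = 0 := by
      rw [Nat.pow_mod, h, zero_pow (by omega)]; rfl
    have h4 : ((p ^ d) ^ r - 1) % 2 = 1 := by omega
    rw [h4]
    simp
  · rw [geom_parity_odd h r]
    have h3 : ((p ^ d) ^ r) % 2 = 1 := by
      rw [Nat.pow_mod, h, one_pow]; rfl
    have h4 : ((p ^ d) ^ r - 1) % 2 = 0 := by omega
    rw [h4, gcd_two_eq]

variable {F : Type*} [Field F] {F₀ : Type*} [Field F₀] {m : ℕ}

theorem orderOf_phiSp [Finite F] (p : ℕ) [Fact p.Prime] [CharP F p] (hm : 1 ≤ m) (τ : F ≃+* F) :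
    orderOf (phiSp τ : MulAut (Cfsg.PSp m F)) = orderOf τ :=
  orderOf_injective _ (phiSp_injective p hm) τ

/-- **field automorphisms of prime order of `PSp_{2m}(q)`** -/
theorem field_aut_main_Sp [Fintype F] [Fintype F₀] {p f : ℕ} [Fact p.Prime]
    (hF : Fintype.card F = p ^ f) (hf : 1 ≤ f) (hm : 2 ≤ m)
    (x : MulAut (Cfsg.PSp m F)) (hx : Cfsg.IsFieldAutClassPSp x) {r : ℕ} (hr : r.Prime)
    (hxr : orderOf x = r) (hF₀ : Fintype.card F₀ = p ^ (f / r)) :
    r ∣ f ∧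
      Nonempty (↥(Cfsg.inndiagPSp m F ⊓ Subgroup.centralizer {x}) ≃* Cfsg.PGSp m F₀) ∧
      Cfsg.splitClassCount (Cfsg.inndiagPSp m F) (Cfsg.Inn (Cfsg.PSp m F)) x
        = Nat.gcd (Nat.gcd 2 (p ^ f - 1)) r := by
  have hchar : CharP F p := charP_of_card_eq_prime_pow hF
  have hm1 : 1 ≤ m := by omega
  obtain ⟨α, σ, hσ1, hα⟩ := hx
  rw [isStdFieldAutPSp_iff] at hα
  have hσr : orderOf σ = r := by
    rw [← orderOf_phiSp p hm1 σ, ← hα, orderOf_conj', hxr]
  have hσpos : 0 < orderOf σ := orderOf_pos_ringAut σ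
  have hrf : r ∣ f := by
    rw [← hσr]
    exact orderOf_dvd hf hF σ
  obtain ⟨E, hE⟩ := exists_FDesc hF σ (by rw [hσr]; exact hF₀)
  subst hE
  have hDn : (Cfsg.inndiagPSp m F).Normal := normal_inndiagPSp hm
  refine ⟨hrf, ?_, ?_⟩
  · obtain ⟨e⟩ := nonempty_centralizer_equiv (m := m) E p hm1 hσpos
    have e1 := centEquiv (Cfsg.inndiagPSp m F) α x
    rw [hα] at e1
    exact ⟨e1.trans e⟩
  · rw [← splitClassCount_conj (Cfsg.inndiagPSp m F) (Cfsg.Inn (Cfsg.PSp m F)) α x, hα,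
      splitClassCount_phiSp p E hm1 hσpos, hF, hF₀, count_arith (Fact.out) hf hr.one_le hrf]

end Cfsg.Agent.Helper7.FieldPSp
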