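import Mathlib
import Cfsg.Prelude.Def_LieTypeDatum
import Cfsg.Agent.Helper7.FieldPlus0

/-!
# Plus-type orthogonal groups: field automorphisms of prime order, part 1 (helper7)

The centralizer of the standard field automorphism in the inner-diagonal group is the
inner-diagonal group over the fixed field (given the invariance of the class character under base
change).
-/

set_option autoImplicit false
set_option linter.unusedSectionVars false
set_option linter.unusedVariables false

namespace Cfsg.Agent.Helper7.FieldPlus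

open Module Submodule Matrix Cfsg.Agent.Helper28.QPlus Cfsg.Agent.Helper28.IDP
  Cfsg.Agent.Helper28.Spin Cfsg.Agent.Helper28.PG Cfsg.Agent.Helper28.FO
  Cfsg.Agent.Helper28.SSim Cfsg.Agent.Helper28.GC Cfsg.Agent.Helper28.Sg
  Cfsg.Agent.Helper28.PA Cfsg.Agent.Helper7.PlusF Cfsg.Agent.Helper7.PlusG
  Cfsg.Agent.Helper28.IsoTransport
open Cfsg.Agent.Helper7.FieldPSL (FDesc)

variable {F : Type*} [Field F] [Fintype F] {F₀ : Type*} [Field F₀] [Fintype F₀] {m : ℕ}
  (E : FDesc F F₀)

theorem nonempty_index (hm : 3 ≤ m) : Nonempty (Fin m ⊕ Fin m) := ⟨Sum.inl ⟨0, by omega⟩⟩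

/-- rational similarities centralize the standard field automorphism -/
theorem jGO_mem_centralizer (hm : 3 ≤ m) (k : ↥(GO (QfPlus m F₀))) :
    cG (QfPlus m F) (jGO E (compat_plus E m) k) ∈
      Subgroup.centralizer {phiO (isStd_plus (F := F) m) E.σ} := by
  rw [cG_mem_centralizer_iff (QfPlus_nondeg m) (frPlus hm) (perf_plus3 hm)]
  exact ⟨1, by rw [jGO_coe, mapGL_jGLg, Units.val_one, one_smul]⟩

/-- the centralizer of the standard field automorphism in the inner-diagonal group is the image
of the rational class-preserving similarities -/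
theorem inndiag_inf_centralizer_phi (hm : 3 ≤ m) (hσ : 0 < orderOf E.σ)
    (hA : ∀ k : ↥(GO (QfPlus m F₀)), cls (jGO E (compat_plus E m) k) = cls k) :
    innD m F ⊓ Subgroup.centralizer {phiO (isStd_plus (F := F) m) E.σ} =
      ((clsHom (F := F₀) (m := m)).ker).map (psiO E (compat_plus E m)) := by
  classical
  have hQ := QfPlus_nondeg (F := F) m
  have hperf := perf_plus3 (F := F) hm
  have : Nonempty (Fin m ⊕ Fin m) := nonempty_index hm
  have hex₀ := hex_plus (F := F₀) (m := m) (by omega)
  ext y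
  rw [Subgroup.mem_inf]
  constructor
  · rintro ⟨hyD, hyC⟩
    obtain ⟨h, hh, rfl⟩ := exists_of_mem_inndiag' y hyD
    have hy : cG (QfPlus m F) h ∈
        Cfsg.pgoAut F ⇑(QfPlus m F) ⊓
          Subgroup.centralizer {phiO (isStd_plus (F := F) m) E.σ} := by
      rw [Subgroup.mem_inf, pgoAut_eq]
      exact ⟨⟨h, rfl⟩, hyC⟩
    rw [← range_psiO E hQ (frPlus hm) hperf (isStd_plus m) (compat_plus E m) hex₀ hσ] at hy
    obtain ⟨g, hg⟩ := hy
    refine ⟨g, ?_, hg⟩
    rw [SetLike.mem_coe, mem_ker_clsHom, ← hA]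
    rw [psiO_apply] at hg
    have h3 : cG (QfPlus m F) ((jGO E (compat_plus E m) g)⁻¹ * h) = 1 := by
      rw [map_mul, map_inv, hg, inv_mul_cancel]
    obtain ⟨c, hc⟩ := (cG_eq_one_iff hQ (frPlus hm) hperf _).1 h3
    have h4 : (jGO E (compat_plus E m) g)⁻¹ * h = scal (QfPlus m F) c := by
      apply Subtype.ext
      apply Units.ext
      rw [hc, scal_val]
    have h5 : jGO E (compat_plus E m) g = h * (scal (QfPlus m F) c)⁻¹ := by
      rw [← h4]; group
    rw [h5, cls_mul, cls_inv, cls_scal, hh, add_zero]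
  · rintro ⟨g, hg, rfl⟩
    rw [SetLike.mem_coe, mem_ker_clsHom] at hg
    rw [psiO_apply]
    exact ⟨cG_mem_inndiag _ (by rw [hA, hg]), jGO_mem_centralizer E hm g⟩

/-- **the centralizer of the standard field automorphism in the inner-diagonal group of the
plus form is the inner-diagonal group of the plus form over the fixed field** -/
theorem nonempty_centralizer_equiv_phi (hm : 3 ≤ m) (hσ : 0 < orderOf E.σ)
    (hA : ∀ k : ↥(GO (QfPlus m F₀)), cls (jGO E (compat_plus E m) k) = cls k) :
    Nonempty (↥(innD m F ⊓ Subgroup.centralizer {phiO (isStd_plus (F := F) m) E.σ}) ≃*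
      ↥(Cfsg.inndiagPOmegaPlus m F₀)) := by
  classical
  have : Nonempty (Fin m ⊕ Fin m) := nonempty_index hm
  have hker : ∀ g : ↥(GO (QfPlus m F₀)),
      psiO E (compat_plus E m) g = 1 ↔ cG (QfPlus m F₀) g = 1 := by
    intro g
    have h := ker_psiO E (QfPlus_nondeg (F := F) m) (frPlus hm) (perf_plus3 hm) (compat_plus E m)
      (QfPlus_nondeg (F := F₀) m) (frPlus hm) (perf_plus3 hm)
    rw [← MonoidHom.mem_ker, ← MonoidHom.mem_ker, h]
  obtain ⟨e⟩ := nonempty_map_equiv (psiO E (compat_plus E m)) (cG (QfPlus m F₀)) hker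
    ((clsHom (F := F₀) (m := m)).ker)
  have e1 := MulEquiv.subgroupCongr (inndiag_inf_centralizer_phi E hm hσ hA)
  have e2 := MulEquiv.subgroupCongr (inndiag_eq' (F := F₀) (m := m)).symm
  exact ⟨e1.trans (e.trans e2)⟩

end Cfsg.Agent.Helper7.FieldPlus
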