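import Mathlib
import Cfsg.Prelude.Def_LieTypeDatum
import Cfsg.Agent.Helper7.FieldPlus1

/-!
# Plus-type orthogonal groups: field automorphisms of prime order, part 2 (helper7)

Class splitting of the standard field automorphism: odd order (no splitting) and order two in odd
characteristic (two or four classes), given the pieces A, C, D, E of the S2715 board as hypotheses.
-/

set_option autoImplicit false
set_option linter.unusedSectionVars false
set_option linter.unusedVariables false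

namespace Cfsg.Agent.Helper7.FieldPlus

open Module Submodule Matrix Cfsg.Agent.Helper28.QPlus Cfsg.Agent.Helper28.IDP
  Cfsg.Agent.Helper28.Spin Cfsg.Agent.Helper28.PG Cfsg.Agent.Helper28.FO
  Cfsg.Agent.Helper28.SSim Cfsg.Agent.Helper28.GC Cfsg.Agent.Helper28.Sg
  Cfsg.Agent.Helper28.PA Cfsg.Agent.Helper7.PlusF Cfsg.Agent.Helper7.PlusG
  Cfsg.Agent.Helper28.IsoTransport
open Cfsg.Agent.Helper7.FieldPSL (FDesc)

variable {F : Type*} [Field F] [Fintype F] {F₀ : Type*} [Field F₀] [Fintype F₀] {m : ℕ}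
  (E : FDesc F F₀)

/-- **odd order, odd characteristic: no splitting** -/
theorem split_phi_odd (hm : 3 ≤ m)
    (hA : ∀ k : ↥(GO (QfPlus m F₀)), cls (jGO E (compat_plus E m) k) = cls k)
    (hC : ∀ g : ↥(GO (QfPlus m F)), cls g = 0 →
      ∃ (t : ↥(Cfsg.isometryGroup F ⇑(QfPlus m F))) (k : ↥(GO (QfPlus m F₀))),
        t ∈ Cfsg.Omega F ⇑(QfPlus m F) ∧ cls k = 0 ∧
        cG (QfPlus m F) g =
          cAut (QfPlus m F) t * cG (QfPlus m F) (jGO E (compat_plus E m) k)) :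
    Cfsg.splitClassCount (innD m F) (Cfsg.Inn (Cfsg.POmega F ⇑(QfPlus m F)))
      (phiO (isStd_plus (F := F) m) E.σ) = 1 := by
  classical
  apply splitClassCount_eq_one_of_cover (innD m F) (Cfsg.Inn (Cfsg.POmega F ⇑(QfPlus m F)))
    Inn_le_innD
  intro δ hδ
  obtain ⟨g, hg, rfl⟩ := exists_of_mem_inndiag' δ hδ
  obtain ⟨t, k, ht, hk, hgk⟩ := hC g hg
  refine ⟨cAut (QfPlus m F) t, cAut_mem_Inn _ t ht, cG (QfPlus m F) (jGO E (compat_plus E m) k),
    ?_, hgk⟩
  rw [Subgroup.mem_inf]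
  exact ⟨cG_mem_inndiag _ (by rw [hA, hk]), jGO_mem_centralizer E hm k⟩

/-- the square of an odd number is `1` modulo `4` -/
theorem sq_mod_four_of_odd {n : ℕ} (hn : Odd n) : n ^ 2 % 4 = 1 := by
  obtain ⟨k, rfl⟩ := hn
  have : (2 * k + 1) ^ 2 = 4 * (k * k + k) + 1 := by ring
  rw [this]
  omega

/-- **order two, odd characteristic: two or four classes** -/
theorem split_phi_two (h2F : (2 : F) ≠ 0) (hm : 3 ≤ m) (hσ2 : orderOf E.σ = 2)
    (hcard : Fintype.card F = Fintype.card F₀ ^ 2)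
    (hA : ∀ k : ↥(GO (QfPlus m F₀)), cls (jGO E (compat_plus E m) k) = cls k)
    (hD : ∀ k : ↥(GO (QfPlus m F₀)), cls k = 0 → IsSquare (mu (QfPlus m F₀) k : F₀) →
      cG (QfPlus m F) (jGO E (compat_plus E m) k) ∈ Cfsg.Inn (Cfsg.POmega F ⇑(QfPlus m F)))
    (hE : ∀ (ν₀ : F₀), ¬ IsSquare ν₀ → ∀ d : ↥(GO (QfPlus m F₀)), gm d = diagM m ν₀ →
      (cG (QfPlus m F) (jGO E (compat_plus E m) d) ∈ Cfsg.Inn (Cfsg.POmega F ⇑(QfPlus m F)) ↔
        ¬ (Odd m ∧ Fintype.card F₀ % 4 = 1))) :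
    ((Odd m ∧ Fintype.card F₀ % 4 = 1) →
      Cfsg.splitClassCount (innD m F) (Cfsg.Inn (Cfsg.POmega F ⇑(QfPlus m F)))
        (phiO (isStd_plus (F := F) m) E.σ) = 2) ∧
    (¬ (Odd m ∧ Fintype.card F₀ % 4 = 1) →
      Cfsg.splitClassCount (innD m F) (Cfsg.Inn (Cfsg.POmega F ⇑(QfPlus m F)))
        (phiO (isStd_plus (F := F) m) E.σ) = 4) := by
  classical
  have hQ₀ := QfPlus_nondeg (F := F₀) m
  have hex₀ := hex_plus (F := F₀) (m := m) (by omega)
  have h20 := two_ne_zero_sub' E h2F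
  have hσpos : 0 < orderOf E.σ := by rw [hσ2]; norm_num
  obtain ⟨ν₀, hν₀⟩ := FiniteField.exists_nonsquare (F := F₀) (by
    intro h
    apply h20
    have := ringChar.Nat.cast_ringChar (R := F₀)
    rw [h] at this
    exact_mod_cast this)
  have hν0 : ν₀ ≠ 0 := by
    rintro rfl
    exact hν₀ ⟨0, by simp⟩
  obtain ⟨d₀, hd₀⟩ := exists_GO_of_sim (QfPlus m F₀) hQ₀ (diagM m ν₀) (Units.mk0 ν₀ hν0)
    (fun w => by rw [QfPlus_coe]; exact diagM_sim _ w)
  have hd₀' : gm d₀ = diagM m ν₀ := hd₀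
  have hmud : mu (QfPlus m F₀) d₀ = Units.mk0 ν₀ hν0 := by
    apply mu_of_sim (QfPlus m F₀) hex₀
    intro w
    rw [hd₀, QfPlus_coe]
    exact diagM_sim _ w
  have hclsd : cls d₀ = 0 := by
    unfold cls
    rw [hd₀', diagM_E _ hν0]
    exact par_self isMax_E
  set y₀ := cG (QfPlus m F) (jGO E (compat_plus E m) d₀) with hy₀def
  have hy₀C : y₀ ∈ innD m F ⊓ Subgroup.centralizer {phiO (isStd_plus (F := F) m) E.σ} := by
    rw [Subgroup.mem_inf]
    exact ⟨cG_mem_inndiag _ (by rw [hA, hclsd]), jGO_mem_centralizer E hm d₀⟩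
  have hall : ∀ y ∈ innD m F ⊓ Subgroup.centralizer {phiO (isStd_plus (F := F) m) E.σ},
      y ∈ Cfsg.Inn (Cfsg.POmega F ⇑(QfPlus m F)) ∨
      y * y₀ ∈ Cfsg.Inn (Cfsg.POmega F ⇑(QfPlus m F)) := by
    intro y hy
    rw [inndiag_inf_centralizer_phi E hm hσpos hA] at hy
    obtain ⟨k, hk, rfl⟩ := hy
    rw [SetLike.mem_coe, mem_ker_clsHom] at hk
    rw [psiO_apply]
    by_cases hsq : IsSquare (mu (QfPlus m F₀) k : F₀)
    · left
      exact hD k hk hsq
    · right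
      rw [hy₀def, ← map_mul, ← map_mul]
      apply hD (k * d₀)
      · rw [cls_mul, hk, hclsd, add_zero]
      · have h5 : mu (QfPlus m F₀) (k * d₀) = mu (QfPlus m F₀) k * mu (QfPlus m F₀) d₀ :=
          (muHom (QfPlus m F₀) hex₀).map_mul _ _
        rw [h5, Units.val_mul, isSquare_mul_iff h20 (Units.ne_zero _) (Units.ne_zero _), hmud,
          Units.val_mk0]
        exact iff_of_false hsq hν₀
  have hq : Fintype.card F % 4 = 1 := by
    rw [hcard]
    exact sq_mod_four_of_odd (Cfsg.Agent.Helper28.Spin.card_odd h20)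
  have hneg := neg_one_mem_Omega_plus (F := F) (m := m) (by omega) hq
  have hidx := relIndex_Inn_innD h2F hm hneg
  have key := splitClassCount_of_index_four (innD m F)
    (Cfsg.Inn (Cfsg.POmega F ⇑(QfPlus m F))) Inn_le_innD hidx
    (phiO (isStd_plus (F := F) m) E.σ) y₀ hy₀C hall
  have hy₀ := hE ν₀ hν₀ d₀ hd₀'
  constructor
  · intro hcond
    apply key.2
    intro h
    exact (hy₀.1 h) hcond
  · intro hcond
    exact key.1 (hy₀.2 hcond)

end Cfsg.Agent.Helper7.FieldPlus
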