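import Mathlib
import Cfsg.Prelude.Def_LieTypeDatum
import Cfsg.Agent.Helper7.PlusG11

/-!
# Plus-type orthogonal groups: involutory graph-field automorphisms, part 12 (helper7)

The main theorem on involutory graph-field automorphisms of `PΩ⁺_{2m}(F)`, `m ≥ 5`.
-/

set_option autoImplicit false
set_option linter.unusedSectionVars false
set_option linter.unusedVariables false

namespace Cfsg.Agent.Helper7.PlusG

open Module Submodule Matrix Cfsg.Agent.Helper28.QPlus Cfsg.Agent.Helper28.IDP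
  Cfsg.Agent.Helper28.Spin Cfsg.Agent.Helper28.PG Cfsg.Agent.Helper28.FO
  Cfsg.Agent.Helper28.SSim Cfsg.Agent.Helper28.GC Cfsg.Agent.Helper28.Sg
  Cfsg.Agent.Helper28.IDM Cfsg.Agent.Helper28.FM Cfsg.Agent.Helper28.PA
  Cfsg.Agent.Helper7.PlusF Cfsg.Agent.Helper28.IsoTransport
open Cfsg.Agent.Helper7.FieldPSL (FDesc)

variable {F : Type*} [Field F] [Fintype F] {F₀ : Type*} [Field F₀] [Fintype F₀]

theorem pow_eq_zero_iff_of_pos' {x : F} {n : ℕ} (h : x ^ n = 0) : x = 0 := by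
  by_contra hx
  exact pow_ne_zero n hx h

theorem two_eq_zero_of_card {p f : ℕ} (hF : Fintype.card F = p ^ f) (hp : p = 2) :
    (2 : F) = 0 := by
  have h := Nat.cast_card_eq_zero F
  rw [hF, hp, Nat.cast_pow, Nat.cast_ofNat] at h
  exact pow_eq_zero_iff_of_pos' h

theorem two_ne_zero_of_card {p f : ℕ} [hp : Fact p.Prime] (hF : Fintype.card F = p ^ f)
    (hp2 : p ≠ 2) : (2 : F) ≠ 0 := by
  intro h2
  have hch : CharP F 2 := CharTwo.of_one_ne_zero_of_two_eq_zero one_ne_zero h2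
  obtain ⟨n, -, hn⟩ := FiniteField.card F 2
  rw [hF] at hn
  have h3 : 2 ∣ p ^ f := by
    rw [hn]
    exact dvd_pow_self 2 n.ne_zero
  have h4 := Nat.prime_two.dvd_of_dvd_pow h3
  exact hp2 ((Nat.prime_dvd_prime_iff_eq Nat.prime_two hp.out).1 h4).symm

/-- **involutory graph-field automorphisms of `PΩ⁺_{2m}(F)`** -/
theorem graph_field_main {k : ℕ} {p f : ℕ} [Fact p.Prime]
    (hF : Fintype.card F = p ^ f) (hf : 1 ≤ f) (hk : 5 ≤ k + 1)
    (x : MulAut (Cfsg.POmega F ⇑(QfPlus (k + 1) F)))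
    (hx : Cfsg.IsGraphFieldAutClassPOmegaPlus (k + 1) x) (hx2 : orderOf x = 2)
    (hF₀ : Fintype.card F₀ = p ^ (f / 2)) :
    Even f ∧
    (∀ y : MulAut (Cfsg.POmega F ⇑(QfPlus (k + 1) F)),
      Cfsg.IsGraphFieldAutClassPOmegaPlus (k + 1) y → orderOf y = 2 →
      Cfsg.IsConjUnder (innD (k + 1) F) x y) ∧
    (∃ a₀ b₀ : F₀, (∀ z₁ z₂ : F₀, z₁ ^ 2 + a₀ * z₁ * z₂ + b₀ * z₂ ^ 2 = 0 → z₁ = 0 ∧ z₂ = 0) ∧
      Nonempty (↥(innD (k + 1) F ⊓ Subgroup.centralizer {x}) ≃*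
        ↥(Cfsg.inndiagPOmegaMinus k F₀ a₀ b₀))) ∧
    (p = 2 → Cfsg.splitClassCount (innD (k + 1) F)
      (Cfsg.Inn (Cfsg.POmega F ⇑(QfPlus (k + 1) F))) x = 1) ∧
    ((p ≠ 2 ∧ Odd (k + 1) ∧ p ^ (f / 2) % 4 = 1) → Cfsg.splitClassCount (innD (k + 1) F)
      (Cfsg.Inn (Cfsg.POmega F ⇑(QfPlus (k + 1) F))) x = 4) ∧
    ((p ≠ 2 ∧ ¬ (Odd (k + 1) ∧ p ^ (f / 2) % 4 = 1)) → Cfsg.splitClassCount (innD (k + 1) F)
      (Cfsg.Inn (Cfsg.POmega F ⇑(QfPlus (k + 1) F))) x = 2) := by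
  refine ⟨even_degree hk hF hf x hx hx2, fun y hy hy2 => graph_field_conj hk x y hx hx2 hy hy2,
    nonempty_centralizer_equiv_graph_field hF hf hk x hx hx2 hF₀, ?_, ?_, ?_⟩
  · intro hp
    exact split_char_two (two_eq_zero_of_card hF hp) (by omega) x
  all_goals
    rintro ⟨hp2, hcond⟩
    have h2F := two_ne_zero_of_card hF hp2
    obtain ⟨σ, hσ2, h, hh, hconj⟩ := conj_x0 hk x hx hx2
    have hdvd := Cfsg.Agent.Helper7.FieldPSL.orderOf_dvd hf hF σ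
    rw [hσ2] at hdvd
    have hF₀' : Fintype.card F₀ = p ^ (f / orderOf σ) := by rw [hσ2]; exact hF₀
    obtain ⟨E, rfl⟩ := Cfsg.Agent.Helper7.FieldPSL.exists_FDesc hF σ hF₀'
    have hcard := card_sq_of_even hF hdvd hF₀
    obtain ⟨a₀, b₀, hab⟩ := exists_aniso_any F₀
    obtain ⟨α, β, h1, h2, hne, hαβ, hβα⟩ := exists_roots_swapped E hcard a₀ b₀ hab
    have hN : (innD (k + 1) F).Normal := inndiag_normal hk
    have hcount : Cfsg.splitClassCount (innD (k + 1) F)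
        (Cfsg.Inn (Cfsg.POmega F ⇑(QfPlus (k + 1) F))) x =
        Cfsg.splitClassCount (innD (k + 1) F)
          (Cfsg.Inn (Cfsg.POmega F ⇑(QfPlus (k + 1) F))) (x0 k E.σ) := by
      rw [hconj]
      exact (Cfsg.Agent.Helper7.FieldPSL.splitClassCount_conj _ _ h x).symm
    rw [hcount]
  · have hodd := split_x0_odd E a₀ b₀ h1 h2 hne hαβ hβα hab h2F hk hσ2 hcard hcond.1
    apply hodd.1
    rw [hF₀]
    exact hcond.2
  · by_cases hm : Even (k + 1)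
    · exact split_x0_even E a₀ b₀ h1 h2 hne hαβ hβα hab h2F hk hσ2 hcard hm
    · have hm' : Odd (k + 1) := Nat.not_even_iff_odd.1 hm
      have hodd := split_x0_odd E a₀ b₀ h1 h2 hne hαβ hβα hab h2F hk hσ2 hcard hm'
      apply hodd.2
      rw [hF₀]
      intro h4
      exact hcond ⟨hm', h4⟩

end Cfsg.Agent.Helper7.PlusG
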