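import Mathlib
import Cfsg.Prelude.Def_LieTypeDatum
import Cfsg.Agent.Helper7.FieldPlus2
import Cfsg.Agent.Helper7.PlusG12

/-!
# Plus-type orthogonal groups: field automorphisms of prime order, part 3 (helper7)

The main theorem on field automorphisms of prime order of `PΩ⁺_{2m}(F)`, `m ≥ 3`, given the
normality of the inner-diagonal group and the pieces A, C, D, E of the S2715 board.
-/

set_option autoImplicit false
set_option linter.unusedSectionVars false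
set_option linter.unusedVariables false

namespace Cfsg.Agent.Helper7.FieldPlus

open Module Submodule Matrix Cfsg.Agent.Helper28.QPlus Cfsg.Agent.Helper28.IDP
  Cfsg.Agent.Helper28.Spin Cfsg.Agent.Helper28.PG Cfsg.Agent.Helper28.FO
  Cfsg.Agent.Helper28.SSim Cfsg.Agent.Helper28.GC Cfsg.Agent.Helper28.Sg
  Cfsg.Agent.Helper28.PA Cfsg.Agent.Helper7.PlusF Cfsg.Agent.Helper7.PlusG
  Cfsg.Agent.Helper28.IsoTransport
open Cfsg.Agent.Helper7.FieldPSL (FDesc orderOf_pos_ringAut orderOf_conj' centEquiv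
  splitClassCount_conj exists_FDesc)

variable {F : Type*} [Field F] [Fintype F] {F₀ : Type*} [Field F₀] [Fintype F₀]

/-- **field automorphisms of prime order of `PΩ⁺_{2m}(F)`**, form version with the pieces as
hypotheses -/
theorem field_aut_main_plus' {p f : ℕ} [Fact p.Prime]
    (hF : Fintype.card F = p ^ f) (hf : 1 ≤ f) {m : ℕ} (hm : 3 ≤ m)
    (hDn : (innD m F).Normal)
    (hA : ∀ (E : FDesc F F₀) (k : ↥(GO (QfPlus m F₀))), cls (jGO E (compat_plus E m) k) = cls k)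
    (hC : ∀ (E : FDesc F F₀), (2 : F) ≠ 0 → Odd (orderOf E.σ) →
      ∀ g : ↥(GO (QfPlus m F)), cls g = 0 →
      ∃ (t : ↥(Cfsg.isometryGroup F ⇑(QfPlus m F))) (k : ↥(GO (QfPlus m F₀))),
        t ∈ Cfsg.Omega F ⇑(QfPlus m F) ∧ cls k = 0 ∧
        cG (QfPlus m F) g =
          cAut (QfPlus m F) t * cG (QfPlus m F) (jGO E (compat_plus E m) k))
    (hD : ∀ (E : FDesc F F₀), (2 : F) ≠ 0 → Fintype.card F = Fintype.card F₀ ^ 2 →
      ∀ k : ↥(GO (QfPlus m F₀)), cls k = 0 → IsSquare (mu (QfPlus m F₀) k : F₀) →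
      cG (QfPlus m F) (jGO E (compat_plus E m) k) ∈ Cfsg.Inn (Cfsg.POmega F ⇑(QfPlus m F)))
    (hE : ∀ (E : FDesc F F₀), (2 : F) ≠ 0 → Fintype.card F = Fintype.card F₀ ^ 2 →
      ∀ (ν₀ : F₀), ¬ IsSquare ν₀ → ∀ d : ↥(GO (QfPlus m F₀)), gm d = diagM m ν₀ →
      (cG (QfPlus m F) (jGO E (compat_plus E m) d) ∈ Cfsg.Inn (Cfsg.POmega F ⇑(QfPlus m F)) ↔
        ¬ (Odd m ∧ Fintype.card F₀ % 4 = 1)))
    (x : MulAut (Cfsg.POmega F ⇑(QfPlus m F)))
    (hx : Cfsg.IsFieldAutClassPOmega (⇑(QfPlus m F)) x) {r : ℕ}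
    (hxr : orderOf x = r) (hF₀ : Fintype.card F₀ = p ^ (f / r)) :
    r ∣ f ∧
      Nonempty (↥(innD m F ⊓ Subgroup.centralizer {x}) ≃* ↥(Cfsg.inndiagPOmegaPlus m F₀)) ∧
      ((Odd r ∨ p = 2) → Cfsg.splitClassCount (innD m F)
        (Cfsg.Inn (Cfsg.POmega F ⇑(QfPlus m F))) x = 1) ∧
      ((r = 2 ∧ p ≠ 2 ∧ Odd m ∧ p ^ (f / 2) % 4 = 1) → Cfsg.splitClassCount (innD m F)
        (Cfsg.Inn (Cfsg.POmega F ⇑(QfPlus m F))) x = 2) ∧
      ((r = 2 ∧ p ≠ 2 ∧ ¬ (Odd m ∧ p ^ (f / 2) % 4 = 1)) → Cfsg.splitClassCount (innD m F)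
        (Cfsg.Inn (Cfsg.POmega F ⇑(QfPlus m F))) x = 4) := by
  classical
  have hQ := QfPlus_nondeg (F := F) m
  have hperf := perf_plus3 (F := F) hm
  have hstd := isStd_plus (F := F) m
  obtain ⟨α, φ, σ, hσ1, hφ, hα⟩ := hx
  have hφ' : φ = phiO hstd σ := (isFieldAut_iff hstd σ φ).1 hφ
  have hσr : orderOf σ = r := by
    rw [← orderOf_phiO hQ (frPlus hm) hperf hstd σ, ← hφ', ← hα, orderOf_conj', hxr]
  have hσpos : 0 < orderOf σ := orderOf_pos_ringAut σ
  have hrf : r ∣ f := by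
    rw [← hσr]
    exact Cfsg.Agent.Helper7.FieldPSL.orderOf_dvd hf hF σ
  obtain ⟨E, hEσ⟩ := exists_FDesc hF σ (by rw [hσr]; exact hF₀)
  subst hEσ
  have hxα : α * x * α⁻¹ = phiO hstd E.σ := by rw [hα, hφ']
  have hcount : Cfsg.splitClassCount (innD m F) (Cfsg.Inn (Cfsg.POmega F ⇑(QfPlus m F))) x =
      Cfsg.splitClassCount (innD m F) (Cfsg.Inn (Cfsg.POmega F ⇑(QfPlus m F)))
        (phiO hstd E.σ) := by
    rw [← hxα]
    exact (splitClassCount_conj _ _ α x).symm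
  refine ⟨hrf, ?_, ?_, ?_, ?_⟩
  · obtain ⟨e⟩ := nonempty_centralizer_equiv_phi E hm hσpos (hA E)
    have e1 := centEquiv (innD m F) α x
    rw [hxα] at e1
    exact ⟨e1.trans e⟩
  · intro hcase
    by_cases hp : p = 2
    · exact split_char_two (two_eq_zero_of_card hF hp) hm x
    · have hrodd : Odd r := by
        rcases hcase with h | h
        · exact h
        · exact absurd h hp
      rw [hcount]
      exact split_phi_odd E hm (hA E)
        (hC E (two_ne_zero_of_card hF hp) (by rw [hσr]; exact hrodd))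
  · rintro ⟨hr2, hp2, hodd, hq⟩
    subst hr2
    have h2F := two_ne_zero_of_card hF hp2
    have hcard := card_sq_of_even hF hrf hF₀
    rw [hcount]
    apply (split_phi_two E h2F hm hσr hcard (hA E) (hD E h2F hcard) (hE E h2F hcard)).1
    rw [hF₀]
    exact ⟨hodd, hq⟩
  · rintro ⟨hr2, hp2, hcond⟩
    subst hr2
    have h2F := two_ne_zero_of_card hF hp2
    have hcard := card_sq_of_even hF hrf hF₀
    rw [hcount]
    apply (split_phi_two E h2F hm hσr hcard (hA E) (hD E h2F hcard) (hE E h2F hcard)).2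
    rw [hF₀]
    exact hcond

end Cfsg.Agent.Helper7.FieldPlus
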