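import Mathlib
import Cfsg.Prelude.Def_LieTypeDatum
import Cfsg.Agent.Helper7.FieldPlus0

/-!
# S2715, piece A (helper7): the class character is invariant under base change

`cls k` is the parity of the rank of the lower left block of the matrix of `k`, and the rank of a
matrix is invariant under a field embedding.
-/

set_option autoImplicit false
set_option linter.unusedSectionVars false
set_option linter.unusedVariables false

namespace Cfsg.Agent.Helper7.FieldPlus

open Module Submodule Matrix Cfsg.Agent.Helper28.QPlus Cfsg.Agent.Helper28.IDP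
  Cfsg.Agent.Helper28.Spin Cfsg.Agent.Helper28.PG Cfsg.Agent.Helper28.FO
  Cfsg.Agent.Helper28.SSim Cfsg.Agent.Helper28.GC Cfsg.Agent.Helper28.Sg
  Cfsg.Agent.Helper28.PA Cfsg.Agent.Helper7.PlusF Cfsg.Agent.Helper7.PlusG
  Cfsg.Agent.Helper28.IsoTransport
open Cfsg.Agent.Helper7.FieldPSL (FDesc)

variable {F : Type*} [Field F] {F₀ : Type*} [Field F₀] {m : ℕ}

namespace CLSJB

/-- the rank of a square matrix over a field is invariant under a field embedding -/
theorem rank_map_field {K L : Type*} [Field K] [Field L] (j : K →+* L) {n : Type*} [Fintype n]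
    [DecidableEq n] (C : Matrix n n K) : (C.map j).rank = C.rank := by
  classical
  obtain ⟨L₁, L₂, D, hC⟩ := Matrix.Pivot.exists_list_transvec_mul_diagonal_mul_list_transvec C
  obtain ⟨P, hP⟩ : ∃ P, P = (L₁.map Matrix.TransvectionStruct.toMatrix).prod := ⟨_, rfl⟩
  obtain ⟨P', hP'⟩ : ∃ P', P' = (L₂.map Matrix.TransvectionStruct.toMatrix).prod := ⟨_, rfl⟩
  rw [← hP, ← hP'] at hC
  have hdP : P.det = 1 := by rw [hP]; exact Matrix.TransvectionStruct.det_toMatrix_prod L₁
  have hdP' : P'.det = 1 := by rw [hP']; exact Matrix.TransvectionStruct.det_toMatrix_prod L₂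
  have hdPj : (P.map j).det = 1 := by
    rw [← RingHom.mapMatrix_apply, ← RingHom.map_det, hdP, map_one]
  have hdP'j : (P'.map j).det = 1 := by
    rw [← RingHom.mapMatrix_apply, ← RingHom.map_det, hdP', map_one]
  have h1 : C.rank = (Matrix.diagonal D).rank := by
    rw [hC, Matrix.rank_mul_eq_left_of_isUnit_det P' _ (by rw [hdP']; exact isUnit_one),
      Matrix.rank_mul_eq_right_of_isUnit_det P _ (by rw [hdP]; exact isUnit_one)]
  have h2 : C.map j = P.map j * (Matrix.diagonal D).map j * P'.map j := by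
    rw [hC, Matrix.map_mul, Matrix.map_mul]
  rw [h2, Matrix.rank_mul_eq_left_of_isUnit_det (P'.map j) _ (by rw [hdP'j]; exact isUnit_one),
    Matrix.rank_mul_eq_right_of_isUnit_det (P.map j) _ (by rw [hdPj]; exact isUnit_one), h1,
    Matrix.diagonal_map (map_zero j), Matrix.rank_diagonal, Matrix.rank_diagonal]
  apply Fintype.card_congr
  apply Equiv.subtypeEquivRight
  intro i
  simp only [ne_eq, map_eq_zero_iff j j.injective]

/-- the intersection of `E` with its image under an invertible matrix -/
theorem inf_image_eq {K : Type*} [Field K] (M : Matrix (Fin m ⊕ Fin m) (Fin m ⊕ Fin m) K) :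
    E m K ⊓ Cfsg.imageSubmodule M (E m K) =
      (LinearMap.ker M.toBlocks₂₁.mulVecLin).map ((Matrix.toLin' M).comp (iotaE m K)) := by
  have key : ∀ (a : Fin m → K) (i : Fin m),
      (M *ᵥ iotaE m K a) (Sum.inr i) = (M.toBlocks₂₁ *ᵥ a) i := by
    intro a i
    simp only [Matrix.mulVec, dotProduct, Fintype.sum_sum_type, iotaE, LinearMap.coe_mk,
      AddHom.coe_mk, Sum.elim_inl, Sum.elim_inr, Pi.zero_apply, mul_zero, Finset.sum_const_zero,
      add_zero, Matrix.toBlocks₂₁, Matrix.of_apply]
  ext v
  rw [Submodule.mem_inf, mem_image, Submodule.mem_map]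
  constructor
  · rintro ⟨hvE, u, ⟨a, rfl⟩, rfl⟩
    refine ⟨a, ?_, rfl⟩
    rw [LinearMap.mem_ker, Matrix.mulVecLin_apply]
    funext i
    rw [← key]
    exact (mem_E_iff _).1 hvE i
  · rintro ⟨a, ha, rfl⟩
    rw [LinearMap.mem_ker, Matrix.mulVecLin_apply] at ha
    refine ⟨?_, iotaE m K a, ⟨a, rfl⟩, rfl⟩
    rw [mem_E_iff]
    intro i
    show (M *ᵥ iotaE m K a) (Sum.inr i) = 0
    rw [key, ha]
    rfl

theorem iotaE_injective {K : Type*} [Field K] : Function.Injective (iotaE m K) := by
  intro x y h
  funext i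
  exact congrFun h (Sum.inl i)

/-- the class character is the parity of the rank of the lower left block -/
theorem cls_eq_rank {K : Type*} [Field K] (k : ↥(GO (QfPlus m K))) :
    cls k = ((gm k).toBlocks₂₁.rank : ZMod 2) := by
  unfold cls par
  rw [inf_image_eq]
  have hinj : Function.Injective ((Matrix.toLin' (gm k)).comp (iotaE m K)) :=
    (toLin_inj k.1).comp iotaE_injective
  have h1 := LinearEquiv.finrank_eq (Submodule.equivMapOfInjective _ hinj
    (LinearMap.ker (gm k).toBlocks₂₁.mulVecLin))
  rw [← h1]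
  have h2 := LinearMap.finrank_range_add_finrank_ker (gm k).toBlocks₂₁.mulVecLin
  rw [Module.finrank_fin_fun] at h2
  have h3 : (gm k).toBlocks₂₁.rank = finrank K (LinearMap.range (gm k).toBlocks₂₁.mulVecLin) := rfl
  congr 1
  omega

end CLSJB

/-- the class character is invariant under base change (S2715 piece A) -/
theorem cls_jGO' (E : FDesc F F₀) (k : ↥(GO (QfPlus m F₀))) :
    cls (jGO E (compat_plus E m) k) = cls k := by
  rw [CLSJB.cls_eq_rank, CLSJB.cls_eq_rank]
  have h : (gm (jGO E (compat_plus E m) k)).toBlocks₂₁ = (gm k).toBlocks₂₁.map E.j := by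
    ext i j
    rfl
  rw [h, CLSJB.rank_map_field]

end Cfsg.Agent.Helper7.FieldPlus
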