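import Mathlib
import Cfsg.Prelude.Def_LieTypeDatum
import Cfsg.Agent.Helper7.FieldPlus0

/-!
# S2715, piece D (helper7): square multipliers give inner automorphisms
-/

set_option autoImplicit false
set_option linter.unusedSectionVars false
set_option linter.unusedVariables false

namespace Cfsg.Agent.Helper7.FieldPlus

open Module Submodule Matrix Cfsg.Agent.Helper28.QPlus Cfsg.Agent.Helper28.IDP
  Cfsg.Agent.Helper28.Spin Cfsg.Agent.Helper28.PG Cfsg.Agent.Helper28.FO
  Cfsg.Agent.Helper28.SSim Cfsg.Agent.Helper28.GC Cfsg.Agent.Helper28.Sg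
  Cfsg.Agent.Helper28.PA Cfsg.Agent.Helper7.PlusF Cfsg.Agent.Helper7.PlusG
  Cfsg.Agent.Helper28.IsoTransport
open Cfsg.Agent.Helper7.FieldPSL (FDesc)

variable {F : Type*} [Field F] {F₀ : Type*} [Field F₀] {m : ℕ}

namespace SQ2B

theorem jGO_scal (E : FDesc F F₀) (l : F₀ˣ) :
    jGO E (compat_plus E m) (scal (QfPlus m F₀) l) =
      scal (QfPlus m F) (Units.map (E.j : F₀ →* F) l) := by
  apply Subtype.ext
  apply Units.ext
  rw [jGO_coe, jGLg_coe, scal_val, scal_val]
  ext i j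
  simp only [Matrix.map_apply, Matrix.smul_apply, Matrix.one_apply, smul_eq_mul, Units.coe_map,
    MonoidHom.coe_coe]
  split_ifs <;> simp

end SQ2B

/-- rational class-preserving similarities with square multiplier induce inner automorphisms when
`|F| = |F₀|²` (S2715 piece D) -/
theorem jGO_mem_Inn_of_isSquare' [Fintype F] [Fintype F₀] (E : FDesc F F₀) (h2F : (2 : F) ≠ 0)
    (hm : 3 ≤ m) (hcard : Fintype.card F = Fintype.card F₀ ^ 2) (k : ↥(GO (QfPlus m F₀)))
    (hk : cls k = 0) (hsq : IsSquare (mu (QfPlus m F₀) k : F₀)) :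
    cG (QfPlus m F) (jGO E (compat_plus E m) k) ∈ Cfsg.Inn (Cfsg.POmega F ⇑(QfPlus m F)) := by
  classical
  have h20 := two_ne_zero_sub' E h2F
  have hQ₀ := QfPlus_nondeg (F := F₀) m
  have hex₀ := hex_plus (F := F₀) (m := m) (by omega)
  have hc := compat_plus E m
  obtain ⟨l, s, hgs⟩ := exists_scal_mul_of_isSquare (QfPlus m F₀) hex₀ k hsq
  obtain ⟨L, rfl⟩ := Cfsg.Agent.Helper28.CDG.cd_list (QfPlus m F₀) h20 hQ₀ s
  have hlen : Even L.length := by
    rw [hgs, cls_mul, cls_scal, zero_add, cls_oGO_prodO] at hk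
    exact ZMod.natCast_eq_zero_iff_even.1 hk
  have hj : jGO E hc (oGO (QfPlus m F₀) (prodO (QfPlus m F₀) L)) =
      oGO (QfPlus m F) (prodO (QfPlus m F) (L.map (jNS E hc))) := by
    apply Subtype.ext
    rw [jGO_coe, oGO_coe]
    exact jGLg_prodO E hc L
  rw [hgs, map_mul, SQ2B.jGO_scal, hj, map_mul, cG_scal, one_mul, cG_oGO]
  apply cAut_mem_Inn
  rw [prodO_mem_Omega_iff (QfPlus m F) h2F]
  refine ⟨by rw [List.length_map]; exact hlen, ?_⟩
  rw [normProd_map]
  exact isSquare_j E h2F hcard _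

end Cfsg.Agent.Helper7.FieldPlus
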