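import Mathlib
import Cfsg.Prelude.Def_CaseTheorems
import Cfsg.Agent.Helper2.PSLSimple
import Cfsg.Agent.Helper7.PComponent3
import Cfsg.Agent.Helper19.Cores

set_option autoImplicit false

namespace Cfsg.Agent.Helper7

open Matrix

section Blk

variable {F : Type*} [Field F] {m : ℕ}

/-- The block matrix `diag(1, A)`. -/
def blk (A : Matrix (Fin m) (Fin m) F) : Matrix (Fin (m + 1)) (Fin (m + 1)) F :=
  fun i j => Fin.cases (Fin.cases 1 (fun _ => 0) j) (fun i' => Fin.cases 0 (fun j' => A i' j') j) i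

@[simp] theorem blk_zero_zero (A : Matrix (Fin m) (Fin m) F) : blk A 0 0 = 1 := rfl
@[simp] theorem blk_zero_succ (A : Matrix (Fin m) (Fin m) F) (j : Fin m) : blk A 0 j.succ = 0 := by
  simp [blk]
@[simp] theorem blk_succ_zero (A : Matrix (Fin m) (Fin m) F) (i : Fin m) : blk A i.succ 0 = 0 := by
  simp [blk]
@[simp] theorem blk_succ_succ (A : Matrix (Fin m) (Fin m) F) (i j : Fin m) :
    blk A i.succ j.succ = A i j := by
  simp [blk]

theorem blk_mul (A B : Matrix (Fin m) (Fin m) F) : blk (A * B) = blk A * blk B := by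
  ext i j
  rw [Matrix.mul_apply, Fin.sum_univ_succ]
  refine Fin.cases ?_ (fun i' => ?_) i <;> refine Fin.cases ?_ (fun j' => ?_) j <;>
    simp [Matrix.mul_apply]

theorem blk_one : blk (1 : Matrix (Fin m) (Fin m) F) = 1 := by
  ext i j
  refine Fin.cases ?_ (fun i' => ?_) i <;> refine Fin.cases ?_ (fun j' => ?_) j <;>
    simp [Matrix.one_apply, Fin.succ_ne_zero, (Fin.succ_ne_zero _).symm]

/-- `A ↦ diag(1, A)` as a monoid homomorphism. -/
def blkHom : Matrix (Fin m) (Fin m) F →* Matrix (Fin (m + 1)) (Fin (m + 1)) F where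
  toFun := blk
  map_one' := blk_one
  map_mul' := blk_mul

theorem det_of_block {M : Matrix (Fin (m + 1)) (Fin (m + 1)) F}
    (h0 : ∀ j : Fin m, M 0 j.succ = 0) :
    M.det = M 0 0 * (M.submatrix Fin.succ Fin.succ).det := by
  rw [Matrix.det_succ_row_zero, Fin.sum_univ_succ]
  have : ∑ j : Fin m, (-1 : F) ^ ((j.succ : Fin (m + 1)) : ℕ) * M 0 j.succ *
      (M.submatrix Fin.succ (j.succ).succAbove).det = 0 := by
    apply Finset.sum_eq_zero
    intro j _
    rw [h0 j]; ring
  rw [this, add_zero]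
  simp [Fin.succAbove_zero]

theorem det_blk (A : Matrix (Fin m) (Fin m) F) : (blk A).det = A.det := by
  rw [det_of_block (fun j => blk_zero_succ A j), blk_zero_zero, one_mul]
  congr 1

theorem eq_blk_of_block {M : Matrix (Fin (m + 1)) (Fin (m + 1)) F}
    (h00 : M 0 0 = 1) (h0 : ∀ j : Fin m, M 0 j.succ = 0) (h1 : ∀ i : Fin m, M i.succ 0 = 0) :
    M = blk (M.submatrix Fin.succ Fin.succ) := by
  ext i j
  refine Fin.cases ?_ (fun i' => ?_) i <;> refine Fin.cases ?_ (fun j' => ?_) j <;>
    simp [h00, h0, h1]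

end Blk

section Main

variable {F : Type*} [Field F] {m : ℕ}

/-- The diagonal entries `(-1, 1, …, 1)`. -/
def tDiag : Fin (m + 1) → F := Fin.cons (-1) (fun _ => 1)

@[simp] theorem tDiag_zero : (tDiag (F := F) (m := m)) 0 = -1 := rfl
@[simp] theorem tDiag_succ (i : Fin m) : (tDiag (F := F) (m := m)) i.succ = 1 := by
  simp [tDiag]

theorem tDiag_mul_self (i : Fin (m + 1)) : (tDiag (F := F) (m := m)) i * tDiag i = 1 := by
  refine Fin.cases ?_ (fun i' => ?_) i <;> simp

/-- The involution `diag(-1, 1, …, 1)` of `GL_{m+1}(F)`. -/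
def tGL : Matrix.GeneralLinearGroup (Fin (m + 1)) F :=
  ⟨Matrix.diagonal tDiag, Matrix.diagonal tDiag,
    by rw [Matrix.diagonal_mul_diagonal]; simp [tDiag_mul_self],
    by rw [Matrix.diagonal_mul_diagonal]; simp [tDiag_mul_self]⟩

theorem tGL_val : (tGL : Matrix.GeneralLinearGroup (Fin (m + 1)) F).val
    = Matrix.diagonal tDiag := rfl

theorem tGL_sq : (tGL : Matrix.GeneralLinearGroup (Fin (m + 1)) F) ^ 2 = 1 := by
  apply Units.ext
  rw [sq, Units.val_mul, tGL_val, Matrix.diagonal_mul_diagonal]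
  simp [tDiag_mul_self]

theorem tGL_ne_one (h2 : (2 : F) ≠ 0) : (tGL : Matrix.GeneralLinearGroup (Fin (m + 1)) F) ≠ 1 := by
  intro h
  have := congrArg (fun g : Matrix.GeneralLinearGroup (Fin (m + 1)) F => g.val 0 0) h
  simp only [tGL_val, Matrix.diagonal_apply_eq, tDiag_zero, Units.val_one, Matrix.one_apply_eq] at this
  apply h2
  have h3 : (2 : F) = 1 - (-1) := by ring
  rw [h3, this]; ring

theorem orderOf_tGL (h2 : (2 : F) ≠ 0) :
    orderOf (tGL : Matrix.GeneralLinearGroup (Fin (m + 1)) F) = 2 :=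
  orderOf_eq_prime tGL_sq (tGL_ne_one h2)

theorem tGL_not_mem_center (h2 : (2 : F) ≠ 0) (hm : 1 ≤ m) :
    (tGL : Matrix.GeneralLinearGroup (Fin (m + 1)) F) ∉
      Subgroup.center (Matrix.GeneralLinearGroup (Fin (m + 1)) F) := by
  intro h
  rw [Matrix.GeneralLinearGroup.mem_center_iff_val_mem_range_scalar] at h
  obtain ⟨r, hr⟩ := h
  obtain ⟨m', rfl⟩ : ∃ m', m = m' + 1 := ⟨m - 1, by omega⟩
  have e0 := congrArg (fun M : Matrix (Fin (m' + 1 + 1)) (Fin (m' + 1 + 1)) F => M 0 0) hr
  have e1 := congrArg (fun M : Matrix (Fin (m' + 1 + 1)) (Fin (m' + 1 + 1)) F =>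
    M (Fin.succ 0) (Fin.succ 0)) hr
  simp only [tGL_val, Matrix.scalar_apply, Matrix.diagonal_apply_eq, tDiag_zero, tDiag_succ] at e0 e1
  apply h2
  have h3 : (2 : F) = 1 - (-1) := by ring
  rw [h3, ← e0, ← e1]; ring

/-- Entries of elements of the centralizer of `t`. -/
theorem centralizer_entry_zero_succ (h2 : (2 : F) ≠ 0)
    {c : Matrix.GeneralLinearGroup (Fin (m + 1)) F}
    (hc : c ∈ Subgroup.centralizer ({tGL} : Set (Matrix.GeneralLinearGroup (Fin (m + 1)) F)))
    (j : Fin m) : c.val 0 j.succ = 0 := by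
  have h := Subgroup.mem_centralizer_singleton_iff.1 hc
  have h' := congrArg (fun g : Matrix.GeneralLinearGroup (Fin (m + 1)) F =>
    g.val 0 j.succ) h
  simp only [Units.val_mul, tGL_val, Matrix.mul_diagonal, Matrix.diagonal_mul, tDiag_zero,
    tDiag_succ] at h'
  have : (2 : F) * c.val 0 j.succ = 0 := by linear_combination h'
  rcases mul_eq_zero.1 this with h | h
  · exact absurd h h2
  · exact h

theorem centralizer_entry_succ_zero (h2 : (2 : F) ≠ 0)
    {c : Matrix.GeneralLinearGroup (Fin (m + 1)) F}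
    (hc : c ∈ Subgroup.centralizer ({tGL} : Set (Matrix.GeneralLinearGroup (Fin (m + 1)) F)))
    (i : Fin m) : c.val i.succ 0 = 0 := by
  have h := Subgroup.mem_centralizer_singleton_iff.1 hc
  have h' := congrArg (fun g : Matrix.GeneralLinearGroup (Fin (m + 1)) F =>
    g.val i.succ 0) h
  simp only [Units.val_mul, tGL_val, Matrix.mul_diagonal, Matrix.diagonal_mul, tDiag_zero,
    tDiag_succ] at h'
  have : (2 : F) * c.val i.succ 0 = 0 := by linear_combination -h'
  rcases mul_eq_zero.1 this with h | h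
  · exact absurd h h2
  · exact h

/-- The centralizer of `t`. -/
abbrev centT (F : Type*) [Field F] (m : ℕ) : Subgroup (Matrix.GeneralLinearGroup (Fin (m + 1)) F) :=
  Subgroup.centralizer ({tGL} : Set (Matrix.GeneralLinearGroup (Fin (m + 1)) F))

/-- `c ↦ (det c, c₀₀)` on the centralizer of `t`. -/
def psiT (h2 : (2 : F) ≠ 0) : ↥(centT F m) →* F × F where
  toFun c := (c.val.val.det, c.val.val 0 0)
  map_one' := by simp
  map_mul' := fun c c' => by
    apply Prod.ext
    · simp [Matrix.det_mul]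
    · show (c.val.val * c'.val.val) 0 0 = c.val.val 0 0 * c'.val.val 0 0
      rw [Matrix.mul_apply, Fin.sum_univ_succ]
      have : ∑ k : Fin m, c.val.val 0 k.succ * c'.val.val k.succ 0 = 0 :=
        Finset.sum_eq_zero (fun k _ => by rw [centralizer_entry_zero_succ h2 c.2 k]; ring)
      rw [this, add_zero]

/-- The block embedding `SL_m(F) → GL_{m+1}(F)`. -/
def phi0 : Matrix.SpecialLinearGroup (Fin m) F →* Matrix.GeneralLinearGroup (Fin (m + 1)) F :=
  (Units.map blkHom).comp Matrix.SpecialLinearGroup.toGL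

theorem phi0_val (A : Matrix.SpecialLinearGroup (Fin m) F) :
    (phi0 A).val = blk A.val := rfl

theorem phi0_mem (A : Matrix.SpecialLinearGroup (Fin m) F) : phi0 A ∈ centT F m := by
  rw [Subgroup.mem_centralizer_singleton_iff]
  apply Units.ext
  rw [Units.val_mul, Units.val_mul, phi0_val, tGL_val]
  ext i j
  rw [Matrix.mul_diagonal, Matrix.diagonal_mul]
  refine Fin.cases ?_ (fun i' => ?_) i <;> refine Fin.cases ?_ (fun j' => ?_) j <;> simp

/-- The block embedding `SL_m(F) → C(t)`. -/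
def phiT : Matrix.SpecialLinearGroup (Fin m) F →* ↥(centT F m) :=
  phi0.codRestrict (centT F m) phi0_mem

theorem phiT_val (A : Matrix.SpecialLinearGroup (Fin m) F) :
    (phiT A).val.val = blk A.val := rfl

theorem phiT_injective : Function.Injective (phiT (F := F) (m := m)) := by
  intro A B h
  have h' : blk A.val = blk B.val := by rw [← phiT_val, ← phiT_val, h]
  apply Subtype.ext
  ext i j
  have := congrFun (congrFun h' i.succ) j.succ
  simpa using this

theorem range_phiT (h2 : (2 : F) ≠ 0) : (phiT (F := F) (m := m)).range = (psiT h2).ker := by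
  ext c
  rw [MonoidHom.mem_range, MonoidHom.mem_ker]
  constructor
  · rintro ⟨A, rfl⟩
    show ((phiT A).val.val.det, (phiT A).val.val 0 0) = 1
    rw [phiT_val, det_blk, blk_zero_zero, A.2]
    rfl
  · intro h
    have hdet : c.val.val.det = 1 := congrArg Prod.fst h
    have h00 : c.val.val 0 0 = 1 := congrArg Prod.snd h
    have h0 := centralizer_entry_zero_succ h2 c.2
    have h1 := centralizer_entry_succ_zero h2 c.2
    have heq := eq_blk_of_block h00 h0 h1
    have hd : (c.val.val.submatrix Fin.succ Fin.succ).det = 1 := by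
      rw [← det_blk, ← heq, hdet]
    let B : Matrix.SpecialLinearGroup (Fin m) F := ⟨c.val.val.submatrix Fin.succ Fin.succ, hd⟩
    refine ⟨B, ?_⟩
    apply Subtype.ext
    apply Units.ext
    rw [phiT_val]
    exact heq.symm

theorem range_phiT_normal (h2 : (2 : F) ≠ 0) : (phiT (F := F) (m := m)).range.Normal := by
  rw [range_phiT h2]
  exact MonoidHom.normal_ker _

end Main

section Quasi

variable {F : Type*} [Field F]

theorem exists_ne_zero_sq_ne_one [Fintype F] (hF : 4 ≤ Fintype.card F) :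
    ∃ a : F, a ≠ 0 ∧ a ^ 2 ≠ 1 := by
  classical
  by_contra hno
  push Not at hno
  have hsub : (Finset.univ : Finset F) ⊆ {0, 1, -1} := by
    intro a _
    by_cases ha : a = 0
    · simp [ha]
    have h1 := hno a ha
    have h2 : (a - 1) * (a + 1) = 0 := by linear_combination h1
    rcases mul_eq_zero.1 h2 with h | h
    · have : a = 1 := by linear_combination h
      simp [this]
    · have : a = -1 := by linear_combination h
      simp [this]
  have := Finset.card_le_card hsub
  rw [Finset.card_univ] at this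
  have h3 : ({0, 1, -1} : Finset F).card ≤ 3 := Finset.card_le_three
  omega

/-- `SL_m(F)` is quasisimple for `m ≥ 3`, and for `m = 2` when `|F| ≥ 4`. -/
theorem isQuasisimple_SL [Fintype F] {m : ℕ} (hm : 2 ≤ m) (h : m = 2 → 4 ≤ Fintype.card F) :
    Cfsg.IsQuasisimple (Matrix.SpecialLinearGroup (Fin m) F) := by
  by_cases h3 : 3 ≤ m
  · have h3' : 3 ≤ Fintype.card (Fin m) := by rw [Fintype.card_fin]; exact h3
    exact ⟨⟨Cfsg.Agent.Helper2.SL_commutator_eq_top h3'⟩, Cfsg.Agent.Helper2.PSL_isSimpleGroup h3'⟩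
  · have hm2 : m = 2 := by omega
    subst hm2
    have hF4 := h rfl
    obtain ⟨a, ha, hasq⟩ := exists_ne_zero_sq_ne_one hF4
    refine ⟨⟨SL2.commutator_eq_top ha hasq⟩, ?_⟩
    exact Matrix.ProjectiveSpecialLinearGroup.rank_two_simple
      (by rw [Nat.card_eq_fintype_card]; exact hF4)

/-- An involution of `SL_{m+2}(F)`: `diag(-1, -1, 1, …, 1)`. -/
def sDiag (m : ℕ) : Fin (m + 2) → F := Fin.cons (-1) (Fin.cons (-1) (fun _ => 1))

theorem sDiag_mul_self {m : ℕ} (i : Fin (m + 2)) : (sDiag (F := F) m) i * sDiag m i = 1 := by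
  refine Fin.cases ?_ (fun i' => ?_) i
  · simp [sDiag]
  · refine Fin.cases ?_ (fun i'' => ?_) i' <;> simp [sDiag]

theorem exists_involution_SL {m : ℕ} (hm : 2 ≤ m) (h2 : (2 : F) ≠ 0) :
    ∃ s : Matrix.SpecialLinearGroup (Fin m) F, orderOf s = 2 := by
  obtain ⟨m', rfl⟩ : ∃ m', m = m' + 2 := ⟨m - 2, by omega⟩
  have hdet : (Matrix.diagonal (sDiag (F := F) m')).det = 1 := by
    rw [Matrix.det_diagonal, Fin.prod_univ_succ, Fin.prod_univ_succ]
    simp [sDiag]
  let s : Matrix.SpecialLinearGroup (Fin (m' + 2)) F := ⟨Matrix.diagonal (sDiag m'), hdet⟩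
  refine ⟨s, orderOf_eq_prime ?_ ?_⟩
  · apply Subtype.ext
    show (Matrix.diagonal (sDiag m') : Matrix _ _ F) ^ 2 = 1
    rw [sq, Matrix.diagonal_mul_diagonal]
    simp [sDiag_mul_self]
  · intro h
    have h' := congrArg (fun A : Matrix.SpecialLinearGroup (Fin (m' + 2)) F => A.val 0 0) h
    have h'' : (-1 : F) = 1 := by simpa [s, sDiag] using h'
    apply h2
    have h3 : (2 : F) = 1 - (-1) := by ring
    rw [h3, h'']; ring

end Quasi

section Final

variable {F : Type*} [Field F] [Fintype F]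

theorem two_ne_zero_of_odd_card (hF : Odd (Fintype.card F)) : (2 : F) ≠ 0 := by
  intro h2
  obtain ⟨k, hk⟩ := hF
  have h := Nat.cast_card_eq_zero F
  rw [hk] at h
  push_cast at h
  rw [h2, zero_mul, zero_add] at h
  exact one_ne_zero h

theorem hasComponent_centT {m : ℕ} (h2 : (2 : F) ≠ 0) (hm : 2 ≤ m)
    (h : m = 2 → 4 ≤ Fintype.card F) :
    Cfsg.HasComponent (↥(centT F m) ⧸ Cfsg.oddCore ↥(centT F m)) := by
  have hq := isQuasisimple_SL (F := F) hm h
  let f : Matrix.SpecialLinearGroup (Fin m) F →* (↥(centT F m) ⧸ Cfsg.oddCore ↥(centT F m)) :=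
    (QuotientGroup.mk' _).comp phiT
  refine ⟨f.range, ?_, ?_⟩
  · have hn : (phiT (F := F) (m := m)).range.Normal := range_phiT_normal h2
    have : f.range = (phiT (F := F) (m := m)).range.map (QuotientGroup.mk' _) := by
      rw [MonoidHom.range_comp]
    rw [this]
    exact (hn.map _ (QuotientGroup.mk'_surjective _)).isSubnormal
  · have hnt : Nontrivial f.range := by
      obtain ⟨s, hs⟩ := exists_involution_SL (F := F) hm h2
      refine ⟨⟨⟨f s, ⟨s, rfl⟩⟩, 1, ?_⟩⟩
      intro heq
      have h1 : f s = 1 := congrArg Subtype.val heq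
      have h3 : phiT s ∈ Cfsg.oddCore ↥(centT F m) := by
        rw [← QuotientGroup.eq_one_iff]
        exact h1
      have ho : orderOf (phiT s) = 2 := by
        rw [orderOf_injective phiT phiT_injective, hs]
      have hdvd : 2 ∣ Nat.card (Cfsg.oddCore ↥(centT F m)) := by
        have := orderOf_dvd_natCard (⟨phiT s, h3⟩ : Cfsg.oddCore ↥(centT F m))
        rwa [← Subgroup.orderOf_coe, ho] at this
      have hcop : (Nat.card (Cfsg.oddCore ↥(centT F m))).Coprime 2 :=
        Cfsg.Agent.Helper19.pPrimeCore_coprime 2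
      have := Nat.Coprime.eq_one_of_dvd hcop.symm hdvd
      omega
    exact isQuasisimple_of_surjective' hq f.rangeRestrict f.rangeRestrict_surjective

end Final

end Cfsg.Agent.Helper7
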