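import Mathlib
import Cfsg.Agent.Helper12.SpPrimeD

set_option autoImplicit false
set_option linter.unusedSectionVars false
set_option linter.style.haveILetI false

/-! The conjugate-reciprocal ("star") operation on polynomials over a field with involution. -/

namespace Cfsg.Agent.Helper7.GUr

open Polynomial Cfsg.Agent.Helper12.SpPrime Cfsg.Agent.Helper12.POC

variable {K : Type*} [Field K]

theorem coeff_zero_mul_ne {P Q : K[X]} (hP : P.coeff 0 ≠ 0) (hQ : Q.coeff 0 ≠ 0) :
    (P * Q).coeff 0 ≠ 0 := by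
  rw [mul_coeff_zero]
  exact mul_ne_zero hP hQ

theorem coeff_zero_pow_ne {P : K[X]} (hP : P.coeff 0 ≠ 0) (k : ℕ) : (P ^ k).coeff 0 ≠ 0 := by
  rw [coeff_zero_eq_eval_zero, eval_pow, ← coeff_zero_eq_eval_zero]
  exact pow_ne_zero _ hP

theorem recip_mul (P Q : K[X]) : recip (P * Q) = recip P * recip Q := by
  rw [recip, recip, recip, mirror_mul_of_domain, mul_coeff_zero, mul_inv, C_mul]
  ring

theorem recip_one : recip (1 : K[X]) = 1 := by
  rw [recip, mirror_one']
  simp

theorem recip_pow (P : K[X]) (k : ℕ) : recip (P ^ k) = recip P ^ k := by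
  induction k with
  | zero => rw [pow_zero, pow_zero, recip_one]
  | succ k ih => rw [pow_succ, recip_mul, ih, pow_succ]

theorem recip_prod {ι : Type*} (s : Finset ι) (f : ι → K[X]) :
    recip (∏ j ∈ s, f j) = ∏ j ∈ s, recip (f j) := by
  classical
  induction s using Finset.induction_on with
  | empty => rw [Finset.prod_empty, Finset.prod_empty, recip_one]
  | insert a s ha ih => rw [Finset.prod_insert ha, Finset.prod_insert ha, recip_mul, ih]

variable (σ : K →+* K)

/-- conjugate reciprocal of a polynomial. -/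
noncomputable def star (P : K[X]) : K[X] := recip (P.map σ)

theorem map_coeff_zero_ne {P : K[X]} (h0 : P.coeff 0 ≠ 0) : (P.map σ).coeff 0 ≠ 0 := by
  rw [coeff_map]
  exact (map_ne_zero σ).2 h0

theorem star_mul (P Q : K[X]) : star σ (P * Q) = star σ P * star σ Q := by
  rw [star, Polynomial.map_mul, recip_mul]
  rfl

theorem star_pow (P : K[X]) (k : ℕ) : star σ (P ^ k) = star σ P ^ k := by
  rw [star, Polynomial.map_pow, recip_pow]
  rfl

theorem star_prod {ι : Type*} (s : Finset ι) (f : ι → K[X]) :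
    star σ (∏ j ∈ s, f j) = ∏ j ∈ s, star σ (f j) := by
  rw [star, Polynomial.map_prod, recip_prod]
  rfl

theorem star_X_sub_one : star σ (X - C 1 : K[X]) = X - C 1 := by
  rw [star, Polynomial.map_sub, map_X, map_C, map_one, recip_X_sub_one]

theorem star_monic {P : K[X]} (h0 : P.coeff 0 ≠ 0) : (star σ P).Monic :=
  recip_monic (map_coeff_zero_ne σ h0)

theorem star_coeff_zero_ne {P : K[X]} (hP : P.Monic) (h0 : P.coeff 0 ≠ 0) :
    (star σ P).coeff 0 ≠ 0 := by
  rw [star, recip_coeff_zero (hP.map σ) (map_coeff_zero_ne σ h0)]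
  exact inv_ne_zero (map_coeff_zero_ne σ h0)

theorem star_natDegree {P : K[X]} (h0 : P.coeff 0 ≠ 0) : (star σ P).natDegree = P.natDegree := by
  rw [star, recip_natDegree (map_coeff_zero_ne σ h0), natDegree_map]


section invol

variable (hσ2 : ∀ a, σ (σ a) = a)

/-- `σ` as a ring equivalence. -/
def sigmaEquiv (hσ2 : ∀ a, σ (σ a) = a) : K ≃+* K :=
  RingEquiv.ofRingHom σ σ (by ext a; exact hσ2 a) (by ext a; exact hσ2 a)

theorem map_eq_mapEquiv (P : K[X]) : P.map σ = Polynomial.mapEquiv (sigmaEquiv σ hσ2) P := rfl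

include hσ2 in
theorem map_irreducible {P : K[X]} (hP : Irreducible P) : Irreducible (P.map σ) := by
  rw [map_eq_mapEquiv σ hσ2]
  exact (MulEquiv.irreducible_iff (Polynomial.mapEquiv (sigmaEquiv σ hσ2)).toMulEquiv).2 hP

include hσ2 in
theorem map_map_self (P : K[X]) : (P.map σ).map σ = P := by
  rw [Polynomial.map_map]
  have : σ.comp σ = RingHom.id K := by ext a; exact hσ2 a
  rw [this, Polynomial.map_id]

include hσ2 in
theorem star_irreducible {P : K[X]} (hP : Irreducible P) (h0 : P.coeff 0 ≠ 0) :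
    Irreducible (star σ P) :=
  recip_irreducible (map_irreducible σ hσ2 hP) (map_coeff_zero_ne σ h0)

theorem natTrailingDegree_map' (P : K[X]) : (P.map σ).natTrailingDegree = P.natTrailingDegree := by
  unfold natTrailingDegree trailingDegree
  rw [support_map_of_injective P σ.injective]

theorem mirror_map (P : K[X]) : (P.mirror).map σ = (P.map σ).mirror := by
  ext k
  rw [coeff_map, coeff_mirror, coeff_mirror, coeff_map, natDegree_map, natTrailingDegree_map']

theorem recip_map (P : K[X]) : (recip P).map σ = recip (P.map σ) := by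
  rw [recip, recip, Polynomial.map_mul, map_C, mirror_map, coeff_map, map_inv₀]

include hσ2 in
theorem star_star {P : K[X]} (hP : P.Monic) (h0 : P.coeff 0 ≠ 0) : star σ (star σ P) = P := by
  rw [star, star, recip_map, map_map_self σ hσ2, recip_recip hP h0]

theorem star_dvd_X_pow_sub_one {P : K[X]} (h0 : P.coeff 0 ≠ 0) (r : ℕ) (hr : 0 < r)
    (hd : P ∣ (X ^ r - 1 : K[X])) : star σ P ∣ (X ^ r - 1 : K[X]) := by
  apply recip_dvd_X_pow_sub_one (map_coeff_zero_ne σ h0) r hr
  have := Polynomial.map_dvd σ hd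
  rwa [Polynomial.map_sub, Polynomial.map_pow, map_X, Polynomial.map_one] at this

end invol

section charpoly

open Matrix

variable {n : ℕ}

theorem charpoly_coeff_zero_ne (y : Matrix (Fin n) (Fin n) K) (hy : IsUnit y) :
    y.charpoly.coeff 0 ≠ 0 := by
  intro h
  have h1 := Matrix.det_eq_sign_charpoly_coeff y
  rw [h, mul_zero] at h1
  exact ((Matrix.isUnit_iff_isUnit_det y).1 hy).ne_zero h1

theorem charpoly_inv_eq_recip (y : Matrix (Fin n) (Fin n) K) (hy : IsUnit y) :
    y⁻¹.charpoly = recip y.charpoly := by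
  have h0 := charpoly_coeff_zero_ne y hy
  have hdet : y.det ≠ 0 := ((Matrix.isUnit_iff_isUnit_det y).1 hy).ne_zero
  rw [Matrix.charpoly_inv y hy, recip, mirror_eq_reverse h0, Matrix.reverse_charpoly,
    Ring.inverse_eq_inv]
  have h1 : y.charpoly.coeff 0 = (-1) ^ Fintype.card (Fin n) * y.det := by
    have := Matrix.det_eq_sign_charpoly_coeff y
    rw [this, ← mul_assoc, ← mul_pow]
    simp
  rw [h1, mul_inv, C_mul, ← inv_pow, inv_neg, inv_one, map_pow, map_neg, map_one]

theorem charpoly_cstar_inv (x : Matrix (Fin n) (Fin n) K) (hx : IsUnit x) :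
    ((x.map σ)ᵀ)⁻¹.charpoly = star σ x.charpoly := by
  have hu : IsUnit ((x.map σ)ᵀ) := by
    rw [Matrix.isUnit_iff_isUnit_det, Matrix.det_transpose]
    have : (x.map σ).det = σ x.det := by
      rw [← RingHom.mapMatrix_apply, ← RingHom.map_det]
    rw [this]
    exact ((Matrix.isUnit_iff_isUnit_det x).1 hx).map σ
  rw [charpoly_inv_eq_recip _ hu, Matrix.charpoly_transpose, Matrix.charpoly_map, star]

end charpoly

end Cfsg.Agent.Helper7.GUr
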