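import Mathlib
import Cfsg.Agent.Helper7.GUr1
import Cfsg.Agent.Helper12.PrimeOrderClassE

set_option autoImplicit false
set_option linter.unusedSectionVars false
set_option linter.style.haveILetI false

/-! The star permutation of a factor set and its effect on tuple polynomials. -/

namespace Cfsg.Agent.Helper7.GUr

open Polynomial Cfsg.Agent.Helper12.SpPrime Cfsg.Agent.Helper12.POC

universe u

variable {K : Type u} [Field K] (σ : K →+* K) (hσ2 : ∀ a, σ (σ a) = a)
  {S : Finset K[X]} {i : ℕ}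

include hσ2 in
theorem star_mem_of_factorSet (hS : FactorSet S i) (r : ℕ) (hr : 0 < r)
    (hSd : ∀ P ∈ S, P ∣ (X ^ r - 1 : K[X]))
    (hSN : ∀ Q : K[X], Q.Monic → Irreducible Q → Q ∣ (X ^ r - 1 : K[X]) → Q = X - C 1 ∨ Q ∈ S) :
    ∀ P ∈ S, star σ P ∈ S := by
  intro P hP
  have h0 := hS.coeff_zero P hP
  rcases hSN (star σ P) (star_monic σ h0) (star_irreducible σ hσ2 (hS.irred P hP) h0)
    (star_dvd_X_pow_sub_one σ h0 r hr (hSd P hP)) with h | h
  · exfalso
    have h1 := congrArg (star σ) h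
    rw [star_star σ hσ2 (hS.monic P hP) h0, star_X_sub_one] at h1
    exact hS.notMem (h1 ▸ hP)
  · exact h

/-- the star permutation of the factor set. -/
noncomputable def starS (hS : FactorSet S i) (hc : ∀ P ∈ S, star σ P ∈ S) : Equiv.Perm S :=
  Function.Involutive.toPerm (fun P => ⟨star σ (P : K[X]), hc P P.2⟩) (by
    intro P
    apply Subtype.ext
    exact star_star σ hσ2 (hS.monic P P.2) (hS.coeff_zero P P.2))

theorem starS_apply (hS : FactorSet S i) (hc : ∀ P ∈ S, star σ P ∈ S) (P : S) :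
    ((starS σ hσ2 hS hc P : S) : K[X]) = star σ (P : K[X]) := rfl

theorem starS_starS (hS : FactorSet S i) (hc : ∀ P ∈ S, star σ P ∈ S) (P : S) :
    starS σ hσ2 hS hc (starS σ hσ2 hS hc P) = P := by
  apply Subtype.ext
  rw [starS_apply, starS_apply]
  exact star_star σ hσ2 (hS.monic P P.2) (hS.coeff_zero P P.2)

theorem star_tuplePoly (hS : FactorSet S i) (hc : ∀ P ∈ S, star σ P ∈ S) (n : ℕ) (a : S → ℕ) :
    star σ (tuplePoly S i n a) =
      tuplePoly S i n (fun P => a (starS σ hσ2 hS hc P)) := by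
  rw [tuplePoly, tuplePoly, star_mul, star_pow, star_X_sub_one, star_prod,
    Equiv.sum_comp (starS σ hσ2 hS hc) a]
  congr 1
  rw [← Equiv.prod_comp (starS σ hσ2 hS hc)
    (fun Q : S => (Q : K[X]) ^ a (starS σ hσ2 hS hc Q))]
  apply Finset.prod_congr rfl
  intro P _
  rw [star_pow, starS_starS, starS_apply]

end Cfsg.Agent.Helper7.GUr
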