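import Mathlib
import Cfsg.Agent.Helper7.GUr2
import Cfsg.Agent.Helper12.PSU3SpecB

set_option autoImplicit false
set_option linter.unusedSectionVars false
set_option linter.style.haveILetI false

/-! Fixed points of the star involution on the irreducible factors of `X^r - 1` over `F_{q²}`. -/

namespace Cfsg.Agent.Helper7.GUr

open Polynomial Cfsg.Agent.Helper12.SpPrime Cfsg.Agent.Helper12.POC

universe u

/-- arithmetic: `u + u^(2j) = 0` forces the order of `u` to be `2 mod 4`. -/
theorem mod_four_of_pow (r q : ℕ) (hr : r.Prime) (hr2 : r ≠ 2) (hq : (q : ZMod r) ≠ 0) (j : ℕ)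
    (h : (q : ZMod r) + (q : ZMod r) ^ (2 * j) = 0) : orderOf (q : ZMod r) % 4 = 2 := by
  have : Fact r.Prime := ⟨hr⟩
  set u : ZMod r := (q : ZMod r) with hu
  set i := orderOf u with hi
  have hfin : IsOfFinOrder u := by
    rw [isOfFinOrder_iff_pow_eq_one]
    exact ⟨r - 1, by have := hr.two_le; omega, ZMod.pow_card_sub_one_eq_one hq⟩
  have hipos : 0 < i := hfin.orderOf_pos
  have hui : u ^ i = 1 := pow_orderOf_eq_one u
  set m := 2 * j + i - 1 with hm
  have h1 : u ^ m * u = -u := by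
    rw [← pow_succ, hm, show 2 * j + i - 1 + 1 = 2 * j + i by omega, pow_add, hui, mul_one]
    exact eq_neg_of_add_eq_zero_right h
  have h2 : u ^ m = -1 := by
    apply mul_right_cancel₀ hq
    rw [h1]; ring
  have h3 : u ^ (2 * m) = 1 := by
    rw [mul_comm, pow_mul, h2]; ring
  have hne : (-1 : ZMod r) ≠ 1 := by
    have : Fact (2 < r) := ⟨by have := hr.two_le; omega⟩
    exact ZMod.neg_one_ne_one
  have h4 : i ∣ 2 * m := orderOf_dvd_of_pow_eq_one h3
  have h5 : ¬ i ∣ m := by
    intro hd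
    have := orderOf_dvd_iff_pow_eq_one.1 hd
    rw [h2] at this
    exact hne this
  rcases Nat.even_or_odd i with hev | hodd
  · obtain ⟨e, he⟩ := hev
    have he2 : i = 2 * e := by omega
    have h6 : e ∣ m := by
      rw [he2] at h4
      exact Nat.dvd_of_mul_dvd_mul_left (by norm_num) h4
    obtain ⟨t, ht⟩ := h6
    have hmodd : Odd m := ⟨j + e - 1, by omega⟩
    rw [ht] at hmodd
    have heodd : Odd e := Nat.Odd.of_mul_left hmodd
    obtain ⟨k, hk⟩ := heodd
    omega
  · exfalso
    apply h5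
    have hc : Nat.Coprime i 2 := Nat.Coprime.symm (Nat.coprime_two_left.2 hodd)
    exact hc.dvd_of_dvd_mul_left h4

variable {K : Type u} [Field K] [Fintype K] (σ : K →+* K) {q : ℕ} (hσ : ∀ a, σ a = a ^ q)

include hσ in
/-- Frobenius twist of a root. -/
theorem aeval_pow_map (p : ℕ) [Fact p.Prime] [CharP K p] (j : ℕ) (hq : q = p ^ j)
    {L : Type*} [Field L] [Algebra K L] (P : K[X]) (y : L) (hy : aeval y P = 0) :
    aeval (y ^ q) (P.map σ) = 0 := by
  have : CharP L p := charP_of_injective_algebraMap (algebraMap K L).injective p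
  have h3 : eval₂ (algebraMap K L) (iterateFrobenius L p j y) (P.map σ) = 0 := by
    rw [eval₂_map]
    have h4 : (algebraMap K L).comp σ = (iterateFrobenius L p j).comp (algebraMap K L) := by
      ext x
      rw [RingHom.comp_apply, RingHom.comp_apply, hσ, map_pow, iterateFrobenius_def, hq]
    rw [h4, ← hom_eval₂]
    have h5 : eval₂ (algebraMap K L) y P = 0 := hy
    rw [h5, map_zero]
  rw [iterateFrobenius_def, ← hq] at h3
  exact h3

/-- reciprocal root. -/
theorem aeval_recip_of_mul_eq_one {L : Type*} [Field L] [Algebra K L] (Q : K[X])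
    (h0 : Q.coeff 0 ≠ 0) (y z : L) (hyz : y * z = 1) (hy : aeval y Q = 0) :
    aeval z (recip Q) = 0 := by
  let _ : Invertible y := ⟨z, by rw [mul_comm]; exact hyz, hyz⟩
  rw [recip, mirror_eq_reverse h0, map_mul]
  have h1 : aeval z Q.reverse = 0 :=
    (eval₂_reverse_eq_zero_iff (algebraMap K L) y Q).2 hy
  rw [h1, mul_zero]

include hσ in
/-- If the order of `q` mod `r` is `2 mod 4`, every irreducible factor of `X^r - 1` over `F_{q²}`
is fixed by the star involution. -/
theorem star_eq_self_of_mod_four (p : ℕ) [Fact p.Prime] [CharP K p]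
    (hK : Fintype.card K = q ^ 2) (r : ℕ) (hr : r.Prime) {P : K[X]} (hPm : P.Monic)
    (hPi : Irreducible P) (h0 : P.coeff 0 ≠ 0) (hd : P ∣ (X ^ r - 1 : K[X]))
    (hmod : orderOf (q : ZMod r) % 4 = 2) : star σ P = P := by
  obtain ⟨j, hq⟩ := Cfsg.Agent.Helper12.PSU3Spec.exists_pow_eq p q hK
  have : Fact (Irreducible P) := ⟨hPi⟩
  set x : AdjoinRoot P := AdjoinRoot.root P with hxdef
  have hx : aeval x P = 0 := by
    rw [AdjoinRoot.aeval_eq, AdjoinRoot.mk_self]
  have hxr : x ^ r = 1 := by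
    obtain ⟨Q, hQ⟩ := hd
    have := congrArg (aeval x) hQ
    rw [map_mul, hx, zero_mul, map_sub, map_pow, aeval_X, map_one, sub_eq_zero] at this
    exact this
  have hev : Even (orderOf (q : ZMod r)) := by
    rw [Nat.even_iff]; omega
  have hpos : 0 < orderOf (q : ZMod r) := by omega
  obtain ⟨c, hc⟩ := dvd_pow_half_add_one q r hr hev hpos
  set k := orderOf (q : ZMod r) / 4 with hk
  have hhalf : orderOf (q : ZMod r) / 2 = 2 * k + 1 := by omega
  rw [hhalf] at hc
  set y : AdjoinRoot P := x ^ (Fintype.card K ^ k) with hy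
  have hyP : aeval y P = 0 := aeval_pow_card_pow P x hx k
  have hyq : aeval (y ^ q) (P.map σ) = 0 := aeval_pow_map σ hσ p j hq P y hyP
  have hz : y ^ q * x = 1 := by
    rw [hy, hK, ← pow_mul, ← pow_mul, ← pow_succ, ← pow_succ, hc, pow_mul, hxr, one_pow]
  have hzR : aeval x (star σ P) = 0 :=
    aeval_recip_of_mul_eq_one (P.map σ) (map_coeff_zero_ne σ h0) (y ^ q) x hz hyq
  have hσ2 : ∀ a, σ (σ a) = a := by
    intro a
    rw [hσ, hσ, ← pow_mul, ← sq, ← hK, FiniteField.pow_card]
  have e1 := minpoly.eq_of_irreducible_of_monic hPi hx hPm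
  have e2 := minpoly.eq_of_irreducible_of_monic (star_irreducible σ hσ2 hPi h0) hzR
    (star_monic σ h0)
  exact e2.trans e1.symm

include hσ in
/-- If the order of `q` mod `r` is not `2 mod 4`, no irreducible factor of `X^r - 1` over
`F_{q²}` other than `X - 1` is fixed by the star involution. -/
theorem star_ne_self_of_mod_four (p : ℕ) [Fact p.Prime] [CharP K p]
    (hK : Fintype.card K = q ^ 2) (r : ℕ) (hr : r.Prime) (hr2 : r ≠ 2) (hrp : r ≠ p)
    {P : K[X]} (hPm : P.Monic)
    (hPi : Irreducible P) (h0 : P.coeff 0 ≠ 0) (hd : P ∣ (X ^ r - 1 : K[X]))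
    (hne : P ≠ X - C 1)
    (hmod : orderOf (q : ZMod r) % 4 ≠ 2) : star σ P ≠ P := by
  intro hstar
  apply hmod
  obtain ⟨j, hq⟩ := Cfsg.Agent.Helper12.PSU3Spec.exists_pow_eq p q hK
  have hp : p.Prime := Fact.out
  have : Fact (Irreducible P) := ⟨hPi⟩
  set x : AdjoinRoot P := AdjoinRoot.root P with hxdef
  have hx : aeval x P = 0 := by
    rw [AdjoinRoot.aeval_eq, AdjoinRoot.mk_self]
  have hxr : x ^ r = 1 := by
    obtain ⟨Q, hQ⟩ := hd
    have := congrArg (aeval x) hQ
    rw [map_mul, hx, zero_mul, map_sub, map_pow, aeval_X, map_one, sub_eq_zero] at this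
    exact this
  have hx1 : x ≠ 1 := by
    intro h1
    rw [h1] at hx
    have h2 : P.eval 1 = 0 := by
      have h3 : aeval (1 : AdjoinRoot P) P = algebraMap K (AdjoinRoot P) (P.eval 1) := by
        rw [← map_one (algebraMap K (AdjoinRoot P)), aeval_algebraMap_apply, aeval_def]
        rfl
      rw [h3] at hx
      exact (map_eq_zero _).1 hx
    exact eval_one_ne_zero hPm hPi hne h2
  have hrf : Fact r.Prime := ⟨hr⟩
  have hord : orderOf x = r := orderOf_eq_prime hxr hx1
  have hx0 : x ≠ 0 := by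
    intro h
    rw [h, zero_pow hr.pos.ne'] at hxr
    exact zero_ne_one hxr
  have hxq : aeval (x ^ q) (P.map σ) = 0 := aeval_pow_map σ hσ p j hq P x hx
  have hR : aeval (x ^ q)⁻¹ (star σ P) = 0 :=
    aeval_recip_of_mul_eq_one (P.map σ) (map_coeff_zero_ne σ h0) (x ^ q) (x ^ q)⁻¹
      (mul_inv_cancel₀ (pow_ne_zero _ hx0)) hxq
  rw [hstar] at hR
  obtain ⟨l, -, hl⟩ := Cfsg.Agent.Helper12.PSU3Spec.root_eq_pow P hPi _ hR
  have h1 : x ^ (q + q ^ (2 * l)) = 1 := by
    rw [pow_add, pow_mul q 2 l, ← hK, ← hl]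
    exact mul_inv_cancel₀ (pow_ne_zero _ hx0)
  have h2 : r ∣ q + q ^ (2 * l) := by
    rw [← hord]
    exact orderOf_dvd_of_pow_eq_one h1
  have h3 : ((q : ZMod r)) + (q : ZMod r) ^ (2 * l) = 0 := by
    have := (ZMod.natCast_eq_zero_iff _ r).2 h2
    push_cast at this
    exact this
  have hq0 : (q : ZMod r) ≠ 0 := by
    intro h
    rw [ZMod.natCast_eq_zero_iff, hq] at h
    have := hr.dvd_of_dvd_pow h
    exact hrp ((Nat.prime_dvd_prime_iff_eq hr hp).1 this)
  exact mod_four_of_pow r q hr hr2 hq0 l h3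

end Cfsg.Agent.Helper7.GUr
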