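import Mathlib
import Cfsg.Agent.Helper7.GUr3
import Cfsg.Agent.Helper7.SimU3
import Cfsg.Agent.S2587

set_option autoImplicit false
set_option linter.unusedSectionVars false
set_option linter.style.haveILetI false

/-! Classes of elements of prime order `r` in `GU_n(q)` correspond to star-invariant tuples. -/

namespace Cfsg.Agent.Helper7.GUr

open Polynomial Cfsg.Agent.Helper12.SpPrime Cfsg.Agent.Helper12.POC Cfsg.Agent.Helper12

universe u

variable {K : Type u} [Field K] [Fintype K] (σ : K →+* K) {q n : ℕ} (hσ : ∀ a, σ a = a ^ q)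

include hσ in
theorem charpoly_star_of_mem_GU (g : GL (Fin n) K) (hg : g ∈ Cfsg.GU n K q) :
    star σ (g : Matrix (Fin n) (Fin n) K).charpoly = (g : Matrix (Fin n) (Fin n) K).charpoly := by
  have h1 := (Cfsg.Agent.Helper28.GUlib.mem_GU_iff σ hσ g).1 hg
  have h2 : ((g : Matrix (Fin n) (Fin n) K).map σ).transpose * (g : Matrix (Fin n) (Fin n) K) = 1 := by
    have := congrArg Matrix.transpose h1
    rw [Matrix.transpose_mul, Matrix.transpose_transpose, Matrix.transpose_one] at this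
    exact this
  have h3 : (((g : Matrix (Fin n) (Fin n) K).map σ).transpose)⁻¹ = (g : Matrix (Fin n) (Fin n) K) :=
    Matrix.inv_eq_right_inv h2
  have hu : IsUnit (g : Matrix (Fin n) (Fin n) K) := ⟨g, rfl⟩
  rw [← charpoly_cstar_inv σ _ hu, h3]

theorem cstar_inv_pow (x : Matrix (Fin n) (Fin n) K) (r : ℕ) (hx : x ^ r = 1) :
    (((x.map σ).transpose)⁻¹) ^ r = 1 := by
  rw [Matrix.inv_pow', ← Matrix.transpose_pow]
  have h1 : (x.map σ) ^ r = (x ^ r).map σ := by
    have := map_pow (σ.mapMatrix (m := Fin n)) x r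
    exact this.symm
  rw [h1, hx]
  have h2 : (1 : Matrix (Fin n) (Fin n) K).map σ = 1 := by
    have := map_one (σ.mapMatrix (m := Fin n))
    exact this
  rw [h2, Matrix.transpose_one, inv_one]

include hσ in
/-- existence of a unitary element with a prescribed invariant tuple polynomial. -/
theorem exists_gu_order_eq (p : ℕ) [Fact p.Prime] [CharP K p] (hK : Fintype.card K = q ^ 2)
    (r : ℕ) (hr : r.Prime) (hrp : r ≠ p) {S : Finset K[X]} {d : ℕ} (hS : FactorSet S d)
    (hSd : ∀ P ∈ S, P ∣ (X ^ r - 1 : K[X])) (a : S → ℕ) (ha0 : a ≠ 0)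
    (ha : d * ∑ P, a P ≤ n) (hinv : star σ (tuplePoly S d n a) = tuplePoly S d n a) :
    ∃ g : ↥(Cfsg.GU n K q),
      ((g : GL (Fin n) K) : Matrix (Fin n) (Fin n) K).charpoly = tuplePoly S d n a ∧
        orderOf g = r := by
  have hp : p.Prime := Fact.out
  obtain ⟨s, hs1, hs2⟩ := exists_gl_order_eq p n r hr hrp hS hSd a ha0 ha
  have hcop : (orderOf s).Coprime p := by
    rw [hs2]
    exact (Nat.coprime_primes hr hp).2 hrp
  have hss := isSemisimple_of_coprime_order p s hcop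
  have hsr : (s : Matrix (Fin n) (Fin n) K) ^ r = 1 := by
    rw [← Units.val_pow_eq_pow_val, ← hs2, pow_orderOf_eq_one, Units.val_one]
  have hrK : (r : K) ≠ 0 := by
    intro h0
    have h1 : p ∣ r := (CharP.cast_eq_zero_iff K p _).1 h0
    exact hrp ((Nat.prime_dvd_prime_iff_eq hp hr).1 h1).symm
  have hss' := isSemisimple_of_pow_eq_one _ r hrK (cstar_inv_pow σ _ r hsr)
  have hu : IsUnit (s : Matrix (Fin n) (Fin n) K) := ⟨s, rfl⟩
  have hch : (s : Matrix (Fin n) (Fin n) K).charpoly =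
      ((((s : Matrix (Fin n) (Fin n) K).map σ).transpose)⁻¹).charpoly := by
    rw [charpoly_cstar_inv σ _ hu, hs1, hinv]
  obtain ⟨P, hP⟩ := exists_gl_conj_of_semisimple _ _ hss hss' hch
  have hmap : (s : Matrix (Fin n) (Fin n) K).map (fun x : K => x ^ q) =
      (s : Matrix (Fin n) (Fin n) K).map σ := by
    ext i j
    simp only [Matrix.map_apply, hσ]
  have hconj : IsConj (s : Matrix (Fin n) (Fin n) K)
      (((s : Matrix (Fin n) (Fin n) K).map (fun x : K => x ^ q)).transpose)⁻¹ := by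
    rw [hmap]
    exact ⟨P, hP⟩
  obtain ⟨B, hB⟩ := (Cfsg.Agent.Helper7.SimU.similar_to_unitary_iff hK s).2 hconj
  refine ⟨B, ?_, ?_⟩
  · rw [← charpoly_eq_of_isConj_gl hB, hs1]
  · obtain ⟨c, hc⟩ := hB
    rw [← Subgroup.orderOf_coe, ← SemiconjBy.orderOf_eq _ hc, hs2]

include hσ in
/-- classes of elements of order `r` in `GU_n(q)` ↔ star-invariant tuples. -/
theorem card_gu_classes_eq_tuples (p : ℕ) [Fact p.Prime] [CharP K p]
    (hK : Fintype.card K = q ^ 2) (hσ2 : ∀ a, σ (σ a) = a)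
    (r : ℕ) (hr : r.Prime) (hrp : r ≠ p) {S : Finset K[X]} {d : ℕ} (hS : FactorSet S d)
    (hSd : ∀ P ∈ S, P ∣ (X ^ r - 1 : K[X]))
    (hSN : ∀ Q : K[X], Q.Monic → Irreducible Q → Q ∣ (X ^ r - 1 : K[X]) → Q = X - C 1 ∨ Q ∈ S)
    (hc : ∀ P ∈ S, star σ P ∈ S) :
    Nat.card {C : ConjClasses ↥(Cfsg.GU n K q) //
      ∃ g : ↥(Cfsg.GU n K q), ConjClasses.mk g = C ∧ orderOf g = r} =
    Nat.card {a : S → ℕ // a ≠ 0 ∧ (fun P => a (starS σ hσ2 hS hc P)) = a ∧
      d * ∑ j, a j ≤ n} := by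
  classical
  have hp : p.Prime := Fact.out
  symm
  have hex : ∀ a : {a : S → ℕ // a ≠ 0 ∧ (fun P => a (starS σ hσ2 hS hc P)) = a ∧
      d * ∑ j, a j ≤ n}, ∃ g : ↥(Cfsg.GU n K q),
      ((g : GL (Fin n) K) : Matrix (Fin n) (Fin n) K).charpoly = tuplePoly S d n a.1 ∧
        orderOf g = r := by
    intro a
    apply exists_gu_order_eq σ hσ p hK r hr hrp hS hSd a.1 a.2.1 a.2.2.2
    rw [star_tuplePoly σ hσ2 hS hc, a.2.2.1]
  choose s hs1 hs2 using hex
  have hcop : ∀ g : GL (Fin n) K, orderOf g = r → (orderOf g).Coprime p := by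
    intro g hg
    rw [hg]
    exact (Nat.coprime_primes hr hp).2 hrp
  apply Nat.card_eq_of_bijective (fun a => (⟨ConjClasses.mk (s a), ⟨s a, rfl, hs2 a⟩⟩ :
    {C : ConjClasses ↥(Cfsg.GU n K q) //
      ∃ g : ↥(Cfsg.GU n K q), ConjClasses.mk g = C ∧ orderOf g = r}))
  constructor
  · intro a b hab
    have h1 : ConjClasses.mk (s a) = ConjClasses.mk (s b) := congrArg Subtype.val hab
    rw [ConjClasses.mk_eq_mk_iff_isConj] at h1
    have h1' := (Cfsg.Agent.S2587.result hK (s a) (s b)).1 h1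
    have h2 := charpoly_eq_of_isConj_gl h1'
    rw [hs1, hs1] at h2
    exact Subtype.ext (tuplePoly_injective hS n h2)
  · rintro ⟨_, g, rfl, hg⟩
    have hg' : orderOf (g : GL (Fin n) K) = r := by rw [Subgroup.orderOf_coe, hg]
    obtain ⟨a, ha0, ha, hfa⟩ := exists_tuple_of_order_eq p n r hr hrp hS hSN (g : GL (Fin n) K) hg'
    have hinv : (fun P => a (starS σ hσ2 hS hc P)) = a := by
      apply tuplePoly_injective hS n
      rw [← star_tuplePoly σ hσ2 hS hc, ← hfa]
      exact charpoly_star_of_mem_GU σ hσ _ g.2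
    refine ⟨⟨a, ha0, hinv, ha⟩, ?_⟩
    apply Subtype.ext
    show ConjClasses.mk (s _) = ConjClasses.mk g
    rw [ConjClasses.mk_eq_mk_iff_isConj, Cfsg.Agent.S2587.result hK]
    apply gl_isConj_of_charpoly_eq p _ _ (hcop _ ?_) (hcop _ hg')
    · rw [hs1, hfa]
    · rw [Subgroup.orderOf_coe, hs2]

end Cfsg.Agent.Helper7.GUr
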