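import Mathlib
import Cfsg.Agent.Helper7.GUr4
import Cfsg.Agent.Helper12.SpPrimeE

set_option autoImplicit false
set_option linter.unusedSectionVars false
set_option linter.style.haveILetI false

/-! The number of classes of elements of odd prime order `r ∤ q` in `GU_n(q)`. -/

namespace Cfsg.Agent.Helper7.GUr

open Polynomial Cfsg.Agent.Helper12.SpPrime Cfsg.Agent.Helper12.POC Cfsg.Agent.Helper12

theorem card_gu_prime_order_classes {K : Type*} [Field K] [Fintype K] {p q n r i b s : ℕ}
    [Fact p.Prime] [CharP K p] (hK : Fintype.card K = q ^ 2) (hr : r.Prime) (hr2 : r ≠ 2)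
    (hrp : r ≠ p) (hi : i = orderOf (q : ZMod r))
    (hb : b = if Odd i then i else i / 2) (hs : s * b = r - 1) :
    Nat.card {C : ConjClasses ↥(Cfsg.GU n K q) //
      ∃ g : ↥(Cfsg.GU n K q), ConjClasses.mk g = C ∧ orderOf g = r} =
      if i % 4 = 2 then Nat.choose (2 * n / i + s) s - 1
      else Nat.choose (n / (2 * b) + s / 2) (s / 2) - 1 := by
  classical
  have hp : p.Prime := Fact.out
  obtain ⟨σ, hσ, hσ2⟩ := Cfsg.Agent.Helper28.exists_frob hK
  obtain ⟨S, hS, hcard, hSd, hSN⟩ := exists_factorSet (K := K) p r hr hrp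
  -- the degree
  have hdb : orderOf ((Fintype.card K : ℕ) : ZMod r) = b := by
    rw [hK, Nat.cast_pow, orderOf_pow' _ (two_ne_zero), ← hi, hb]
    split_ifs with hodd
    · have : Nat.gcd i 2 = 1 := Nat.coprime_two_right.2 hodd
      rw [this, Nat.div_one]
    · have hev : Even i := Nat.not_odd_iff_even.1 hodd
      have : Nat.gcd i 2 = 2 := Nat.gcd_eq_right hev.two_dvd
      rw [this]
  rw [hdb] at hS hcard
  have hbpos : 0 < b := by
    rcases Nat.eq_zero_or_pos b with h | h
    · rw [h, mul_zero] at hcard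
      have := hr.two_le
      omega
    · exact h
  have hsS : s = Fintype.card S := by
    rw [Fintype.card_coe]
    exact Nat.eq_of_mul_eq_mul_right hbpos (hs.trans hcard.symm)
  have hc := star_mem_of_factorSet σ hσ2 hS r hr.pos hSd hSN
  have hσσ := starS_starS σ hσ2 hS hc
  rw [card_gu_classes_eq_tuples σ hσ p hK hσ2 r hr hrp hS hSd hSN hc]
  split_ifs with hmod
  · have hid : ∀ P : S, starS σ hσ2 hS hc P = P := by
      intro P
      apply Subtype.ext
      rw [starS_apply]
      apply star_eq_self_of_mod_four σ hσ p hK r hr (hS.monic P P.2) (hS.irred P P.2)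
        (hS.coeff_zero P P.2) (hSd P P.2)
      rw [← hi]
      exact hmod
    have hcongr : Nat.card {a : S → ℕ // a ≠ 0 ∧ (fun P => a (starS σ hσ2 hS hc P)) = a ∧
        b * ∑ j, a j ≤ n} = Nat.card {a : S → ℕ // a ≠ 0 ∧ b * ∑ j, a j ≤ n} := by
      apply Nat.card_congr
      apply Equiv.subtypeEquivRight
      intro a
      constructor
      · rintro ⟨h1, -, h3⟩
        exact ⟨h1, h3⟩
      · rintro ⟨h1, h3⟩
        refine ⟨h1, ?_, h3⟩
        funext P
        rw [hid P]
    rw [hcongr, card_tuples (ι := S) b n hbpos, ← hsS]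
    have hev : ¬ Odd i := by
      rw [Nat.not_odd_iff_even, Nat.even_iff]; omega
    rw [if_neg hev] at hb
    have hi2 : i = 2 * b := by omega
    have : 2 * n / i = n / b := by
      rw [hi2, Nat.mul_div_mul_left _ _ (by norm_num : 0 < 2)]
    rw [this]
  · have hfix : ∀ P : S, starS σ hσ2 hS hc P ≠ P := by
      intro P h
      have h1 := congrArg (fun Q : S => (Q : K[X])) h
      simp only [starS_apply] at h1
      refine star_ne_self_of_mod_four σ hσ p hK r hr hr2 hrp (hS.monic P P.2) (hS.irred P P.2)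
        (hS.coeff_zero P P.2) (hSd P P.2) ?_ ?_ h1
      · intro h2
        exact hS.notMem (h2 ▸ P.2)
      · rw [← hi]
        exact hmod
    have hcongr : Nat.card {a : S → ℕ // a ≠ 0 ∧ (fun P => a (starS σ hσ2 hS hc P)) = a ∧
        b * ∑ j, a j ≤ n} = Nat.card {a : S → ℕ // a ≠ 0 ∧
          (fun P => a (starS σ hσ2 hS hc P)) = a ∧ b * ∑ j, a j ≤ 2 * (n / 2)} := by
      apply Nat.card_congr
      apply Equiv.subtypeEquivRight
      intro a
      constructor
      · rintro ⟨h1, h2, h3⟩
        refine ⟨h1, h2, ?_⟩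
        rw [sum_eq_two_mul_sum_halfSystem (starS σ hσ2 hS hc) hσσ hfix a
          (fun x => congrFun h2 x)] at h3 ⊢
        have : b * (2 * ∑ x ∈ halfSystem (starS σ hσ2 hS hc), a x) =
            2 * (b * ∑ x ∈ halfSystem (starS σ hσ2 hS hc), a x) := by ring
        rw [this] at h3 ⊢
        omega
      · rintro ⟨h1, h2, h3⟩
        refine ⟨h1, h2, ?_⟩
        omega
    rw [hcongr, card_invariant_tuples (starS σ hσ2 hS hc) hσσ hfix b (n / 2) hbpos, ← hsS,
      Nat.div_div_eq_div_mul]

end Cfsg.Agent.Helper7.GUr
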