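import Mathlib
import Cfsg.Prelude.Def_LieTypeDatum

/-!
# Graph automorphisms of `PSL_n`, part 1 (helper7)

The conjugation hom `cGL : GL_n(F) →* MulAut (PSL_n(F))`, the inverse-transpose automorphism
`iotaT`, and their relation to the Prelude predicates `IsInnerDiagonalAutPSL`,
`IsInverseTransposeAutPSL`, `inndiagPSL`.
-/

set_option autoImplicit false
set_option linter.unusedSectionVars false

namespace Cfsg.Agent.Helper7.GraphPSL

open Matrix

/-- an automorphism of a group induces an automorphism of the quotient by the centre -/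
noncomputable def liftCenter (G : Type*) [Group G] : MulAut G →* MulAut (G ⧸ Subgroup.center G) where
  toFun φ := QuotientGroup.congr (Subgroup.center G) (Subgroup.center G) φ
    (Subgroup.characteristic_iff_map_eq.1 Subgroup.centerCharacteristic φ)
  map_one' := by
    ext x
    induction x using QuotientGroup.induction_on with
    | H x => rfl
  map_mul' φ ψ := by
    ext x
    induction x using QuotientGroup.induction_on with
    | H x => rfl

theorem liftCenter_mk {G : Type*} [Group G] (φ : MulAut G) (x : G) :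
    liftCenter G φ (x : G ⧸ Subgroup.center G) = ((φ x : G) : G ⧸ Subgroup.center G) := rfl

variable {n : ℕ} {F : Type*} [Field F]

/-- conjugation of an element of `SL_n` by an element of `GL_n` -/
def conjSLfun (g : GL (Fin n) F) (s : Matrix.SpecialLinearGroup (Fin n) F) :
    Matrix.SpecialLinearGroup (Fin n) F :=
  ⟨(g : Matrix (Fin n) (Fin n) F) * (s : Matrix (Fin n) (Fin n) F) *
      ((g⁻¹ : GL (Fin n) F) : Matrix (Fin n) (Fin n) F), by
    rw [Matrix.det_units_conj]; exact s.2⟩

theorem conjSLfun_coe (g : GL (Fin n) F) (s : Matrix.SpecialLinearGroup (Fin n) F) :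
    ((conjSLfun g s : Matrix.SpecialLinearGroup (Fin n) F) : Matrix (Fin n) (Fin n) F)
      = (g : Matrix (Fin n) (Fin n) F) * (s : Matrix (Fin n) (Fin n) F) *
          ((g⁻¹ : GL (Fin n) F) : Matrix (Fin n) (Fin n) F) := rfl

theorem conjSLfun_mul (g : GL (Fin n) F) (s t : Matrix.SpecialLinearGroup (Fin n) F) :
    conjSLfun g (s * t) = conjSLfun g s * conjSLfun g t := by
  apply Subtype.ext
  rw [Matrix.SpecialLinearGroup.coe_mul, conjSLfun_coe, conjSLfun_coe, conjSLfun_coe,
    Matrix.SpecialLinearGroup.coe_mul]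
  have h : ((g⁻¹ : GL (Fin n) F) : Matrix (Fin n) (Fin n) F) * (g : Matrix (Fin n) (Fin n) F) = 1 := by
    rw [← Units.val_mul, inv_mul_cancel, Units.val_one]
  calc (g : Matrix (Fin n) (Fin n) F) * ((s : Matrix (Fin n) (Fin n) F) * (t : Matrix (Fin n) (Fin n) F))
        * ((g⁻¹ : GL (Fin n) F) : Matrix (Fin n) (Fin n) F)
      = (g : Matrix (Fin n) (Fin n) F) * (s : Matrix (Fin n) (Fin n) F) * 1
        * (t : Matrix (Fin n) (Fin n) F) * ((g⁻¹ : GL (Fin n) F) : Matrix (Fin n) (Fin n) F) := by
        rw [Matrix.mul_one]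
        simp only [Matrix.mul_assoc]
    _ = _ := by
        rw [← h]
        simp only [Matrix.mul_assoc]

theorem conjSLfun_conjSLfun (g h : GL (Fin n) F) (s : Matrix.SpecialLinearGroup (Fin n) F) :
    conjSLfun g (conjSLfun h s) = conjSLfun (g * h) s := by
  apply Subtype.ext
  rw [conjSLfun_coe, conjSLfun_coe, conjSLfun_coe, _root_.mul_inv_rev, Units.val_mul,
    Units.val_mul]
  simp only [Matrix.mul_assoc]

theorem conjSLfun_one (s : Matrix.SpecialLinearGroup (Fin n) F) : conjSLfun 1 s = s := by
  apply Subtype.ext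
  rw [conjSLfun_coe, inv_one, Units.val_one, Matrix.one_mul, Matrix.mul_one]

/-- conjugation of `SL_n` by an element of `GL_n` -/
def conjSL : GL (Fin n) F →* MulAut (Matrix.SpecialLinearGroup (Fin n) F) where
  toFun g :=
    { toFun := conjSLfun g
      invFun := conjSLfun g⁻¹
      left_inv := fun s => by rw [conjSLfun_conjSLfun, inv_mul_cancel, conjSLfun_one]
      right_inv := fun s => by rw [conjSLfun_conjSLfun, mul_inv_cancel, conjSLfun_one]
      map_mul' := conjSLfun_mul g }
  map_one' := by
    apply MulEquiv.ext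
    intro s
    exact conjSLfun_one s
  map_mul' g h := by
    apply MulEquiv.ext
    intro s
    exact (conjSLfun_conjSLfun g h s).symm

theorem conjSL_coe (g : GL (Fin n) F) (s : Matrix.SpecialLinearGroup (Fin n) F) :
    ((conjSL g s : Matrix.SpecialLinearGroup (Fin n) F) : Matrix (Fin n) (Fin n) F)
      = (g : Matrix (Fin n) (Fin n) F) * (s : Matrix (Fin n) (Fin n) F) *
          ((g⁻¹ : GL (Fin n) F) : Matrix (Fin n) (Fin n) F) := rfl

theorem transpose_inv_SL (s : Matrix.SpecialLinearGroup (Fin n) F) :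
    ((s⁻¹).transpose)⁻¹ = s.transpose := by
  apply inv_eq_of_mul_eq_one_right
  apply Subtype.ext
  rw [Matrix.SpecialLinearGroup.coe_mul, Matrix.SpecialLinearGroup.coe_transpose,
    Matrix.SpecialLinearGroup.coe_transpose, Matrix.SpecialLinearGroup.coe_one,
    ← Matrix.transpose_mul, ← Matrix.SpecialLinearGroup.coe_mul, mul_inv_cancel,
    Matrix.SpecialLinearGroup.coe_one, Matrix.transpose_one]

/-- the inverse-transpose map of `SL_n` -/
def invTfun (s : Matrix.SpecialLinearGroup (Fin n) F) : Matrix.SpecialLinearGroup (Fin n) F :=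
  (s⁻¹).transpose

theorem invTfun_invTfun (s : Matrix.SpecialLinearGroup (Fin n) F) : invTfun (invTfun s) = s := by
  unfold invTfun
  rw [transpose_inv_SL]
  apply Subtype.ext
  rw [Matrix.SpecialLinearGroup.coe_transpose,
    Matrix.SpecialLinearGroup.coe_transpose, Matrix.transpose_transpose]

theorem invTfun_mul (s t : Matrix.SpecialLinearGroup (Fin n) F) :
    invTfun (s * t) = invTfun s * invTfun t := by
  unfold invTfun
  apply Subtype.ext
  rw [_root_.mul_inv_rev, Matrix.SpecialLinearGroup.coe_transpose,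
    Matrix.SpecialLinearGroup.coe_mul, Matrix.SpecialLinearGroup.coe_mul,
    Matrix.SpecialLinearGroup.coe_transpose, Matrix.SpecialLinearGroup.coe_transpose,
    Matrix.transpose_mul]

/-- the inverse-transpose automorphism of `SL_n` -/
def invT : MulAut (Matrix.SpecialLinearGroup (Fin n) F) where
  toFun := invTfun
  invFun := invTfun
  left_inv := invTfun_invTfun
  right_inv := invTfun_invTfun
  map_mul' := invTfun_mul

theorem invT_coe (s : Matrix.SpecialLinearGroup (Fin n) F) :
    ((invT s : Matrix.SpecialLinearGroup (Fin n) F) : Matrix (Fin n) (Fin n) F)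
      = ((s⁻¹ : Matrix.SpecialLinearGroup (Fin n) F) : Matrix (Fin n) (Fin n) F)ᵀ := rfl

theorem invT_invT (s : Matrix.SpecialLinearGroup (Fin n) F) : invT (invT s) = s :=
  invT.left_inv s

/-- the conjugation hom `GL_n →* Aut(PSL_n)` -/
noncomputable def cGL : GL (Fin n) F →* MulAut (Matrix.ProjectiveSpecialLinearGroup (Fin n) F) :=
  (liftCenter (Matrix.SpecialLinearGroup (Fin n) F)).comp conjSL

/-- the inverse-transpose automorphism of `PSL_n` -/
noncomputable def iotaT : MulAut (Matrix.ProjectiveSpecialLinearGroup (Fin n) F) :=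
  liftCenter (Matrix.SpecialLinearGroup (Fin n) F) invT

theorem cGL_mk (g : GL (Fin n) F) (s : Matrix.SpecialLinearGroup (Fin n) F) :
    cGL g (QuotientGroup.mk s) = QuotientGroup.mk (conjSL g s) := rfl

theorem iotaT_mk (s : Matrix.SpecialLinearGroup (Fin n) F) :
    (iotaT : MulAut (Matrix.ProjectiveSpecialLinearGroup (Fin n) F)) (QuotientGroup.mk s)
      = QuotientGroup.mk (invT s) := rfl

theorem iotaT_mul_self :
    (iotaT : MulAut (Matrix.ProjectiveSpecialLinearGroup (Fin n) F)) * iotaT = 1 := by
  ext x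
  induction x using QuotientGroup.induction_on with
  | H s =>
    rw [MulAut.mul_apply, iotaT_mk, iotaT_mk, invT_invT]
    rfl

theorem iotaT_inv :
    (iotaT : MulAut (Matrix.ProjectiveSpecialLinearGroup (Fin n) F))⁻¹ = iotaT :=
  inv_eq_of_mul_eq_one_right iotaT_mul_self

theorem isInnerDiagonalAutPSL_iff
    (β : MulAut (Matrix.ProjectiveSpecialLinearGroup (Fin n) F)) :
    Cfsg.IsInnerDiagonalAutPSL β ↔ ∃ g : GL (Fin n) F, cGL g = β := by
  constructor
  · rintro ⟨g, hg⟩
    refine ⟨g, ?_⟩
    ext x
    induction x using QuotientGroup.induction_on with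
    | H s =>
      rw [cGL_mk]
      exact (hg s (conjSL g s) (conjSL_coe g s)).symm
  · rintro ⟨g, rfl⟩
    refine ⟨g, fun s s' hs' => ?_⟩
    rw [cGL_mk]
    congr 1
    apply Subtype.ext
    rw [conjSL_coe, hs']

theorem isInverseTransposeAutPSL_iff
    (γ : MulAut (Matrix.ProjectiveSpecialLinearGroup (Fin n) F)) :
    Cfsg.IsInverseTransposeAutPSL γ ↔ γ = iotaT := by
  constructor
  · intro h
    ext x
    induction x using QuotientGroup.induction_on with
    | H s =>
      rw [iotaT_mk]
      exact h s (invT s) (invT_coe s)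
  · rintro rfl s s' hs'
    rw [iotaT_mk]
    congr 1
    apply Subtype.ext
    rw [invT_coe, hs']

theorem inndiagPSL_eq_range :
    Cfsg.inndiagPSL n F = (cGL : GL (Fin n) F →* _).range := by
  unfold Cfsg.inndiagPSL Cfsg.autSubgroupOf
  have h : {β : MulAut (Matrix.ProjectiveSpecialLinearGroup (Fin n) F) |
      Cfsg.IsInnerDiagonalAutPSL β} = ((cGL : GL (Fin n) F →* _).range : Set _) := by
    ext β
    rw [Set.mem_ofPred_eq, isInnerDiagonalAutPSL_iff]
    rfl
  rw [h, Subgroup.closure_eq]

end Cfsg.Agent.Helper7.GraphPSL
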