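import Cfsg.Agent.Helper7.GraphPSL10
import Cfsg.Agent.Helper11.AltRank

/-!
# Graph automorphisms of `PSL_n`, part 11 (helper7)

Characteristic 2, odd dimension: canonical form `1 ⊕ J` of a nondegenerate symmetric bilinear
form over a finite field.
-/

set_option autoImplicit false
set_option linter.unusedSectionVars false

namespace Cfsg.Agent.Helper7.GraphPSL

open scoped Matrix

variable {F : Type*} [Field F]

/-- the canonical matrix `1 ⊕ J` on `Unit ⊕ (Fin m ⊕ Fin m)` -/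
def canonC (m : ℕ) (F : Type*) [Field F] :
    Matrix (Unit ⊕ (Fin m ⊕ Fin m)) (Unit ⊕ (Fin m ⊕ Fin m)) F :=
  Matrix.fromBlocks 1 0 0 (Matrix.J (Fin m) F)

/-- inverse of the canonical matrix -/
def canonC' (m : ℕ) (F : Type*) [Field F] :
    Matrix (Unit ⊕ (Fin m ⊕ Fin m)) (Unit ⊕ (Fin m ⊕ Fin m)) F :=
  Matrix.fromBlocks 1 0 0 (-Matrix.J (Fin m) F)

theorem canonC'_mul_canonC (m : ℕ) : canonC' m F * canonC m F = 1 := by
  unfold canonC canonC'
  rw [Matrix.fromBlocks_multiply]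
  simp only [Matrix.one_mul, Matrix.mul_zero, Matrix.zero_mul, add_zero, zero_add, neg_J_mul_J,
    Matrix.fromBlocks_one]

/-- the frame relations give the matrix `J` -/
theorem frame_J {V : Type*} [AddCommGroup V] [Module F V] (B : LinearMap.BilinForm F V)
    (hA : B.IsAlt) {m : ℕ} (e f : Fin m → V) (hee : ∀ i i', B (e i) (e i') = 0)
    (hff : ∀ i i', B (f i) (f i') = 0)
    (hef : ∀ i i', B (e i) (f i') = if i = i' then 1 else 0) (a b : Fin m ⊕ Fin m) :
    B (Sum.elim f e a) (Sum.elim f e b) = Matrix.J (Fin m) F a b := by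
  classical
  have hfe : ∀ i j, B (f i) (e j) = if i = j then -1 else 0 := by
    intro i j
    rw [← hA.neg_eq, hef]
    by_cases hij : i = j
    · subst hij; simp
    · rw [if_neg hij, if_neg (fun h => hij h.symm), neg_zero]
  rcases a with i | i <;> rcases b with j | j
  · simp [hff, Matrix.J]
  · simp only [Sum.elim_inl, Sum.elim_inr, hfe, Matrix.J, Matrix.fromBlocks_apply₁₂,
      Matrix.neg_apply, Matrix.one_apply]
    by_cases hij : i = j
    · simp [hij]
    · simp [hij]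
  · simp only [Sum.elim_inl, Sum.elim_inr, hef, Matrix.J, Matrix.fromBlocks_apply₂₁,
      Matrix.one_apply]
  · simp [hee, Matrix.J]

section chartwo

variable [Fintype F] [CharP F 2]

theorem exists_sq_eq (c : F) : ∃ s : F, s ^ 2 = c := by
  obtain ⟨r, hr⟩ := FiniteField.isSquare_of_char_two (ringChar.eq F 2) c
  exact ⟨r, by rw [hr, pow_two]⟩

/-- in characteristic 2 the quadratic form of a symmetric matrix is the square of a linear form -/
theorem exists_sqrt_form {I : Type*} [Fintype I] [DecidableEq I] (g : Matrix I I F)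
    (hg : gᵀ = g) : ∃ s : I → F, (∀ i, s i ^ 2 = g i i) ∧
      ∀ v : I → F, v ⬝ᵥ g *ᵥ v = (s ⬝ᵥ v) ^ 2 := by
  choose s hs using fun i => exists_sq_eq (g i i)
  refine ⟨s, hs, ?_⟩
  have hsymm : ∀ u v : I → F, v ⬝ᵥ g *ᵥ u = u ⬝ᵥ g *ᵥ v := by
    intro u v
    rw [Matrix.dotProduct_mulVec, ← Matrix.mulVec_transpose, hg, dotProduct_comm]
  have hadd : ∀ u v : I → F, (u ⬝ᵥ g *ᵥ u + (s ⬝ᵥ u) ^ 2 = 0) → (v ⬝ᵥ g *ᵥ v + (s ⬝ᵥ v) ^ 2 = 0) →
      ((u + v) ⬝ᵥ g *ᵥ (u + v) + (s ⬝ᵥ (u + v)) ^ 2 = 0) := by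
    intro u v hu hv
    rw [Matrix.mulVec_add, dotProduct_add, add_dotProduct, add_dotProduct, dotProduct_add,
      CharTwo.add_sq, hsymm u v]
    have h2 := CharTwo.add_self_eq_zero (u ⬝ᵥ g *ᵥ v)
    linear_combination hu + hv + h2
  have hsingle : ∀ (i : I) (t : F),
      (Pi.single i t) ⬝ᵥ g *ᵥ (Pi.single i t) + (s ⬝ᵥ (Pi.single i t)) ^ 2 = 0 := by
    intro i t
    rw [single_dotProduct, dotProduct_single, Matrix.mulVec_single]
    simp only [Pi.smul_apply, Matrix.col_apply, MulOpposite.smul_eq_mul_unop, MulOpposite.unop_op]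
    have h2 := CharTwo.add_self_eq_zero (t * (g i i * t))
    linear_combination h2 + t ^ 2 * hs i
  intro v
  have key : v ⬝ᵥ g *ᵥ v + (s ⬝ᵥ v) ^ 2 = 0 := by
    conv_lhs => rw [← Finset.univ_sum_single v]
    apply Finset.sum_induction (fun i => Pi.single i (v i))
      (fun w : I → F => w ⬝ᵥ g *ᵥ w + (s ⬝ᵥ w) ^ 2 = 0)
    · intro a b ha hb
      exact hadd a b ha hb
    · simp
    · intro i _
      exact hsingle i (v i)
  exact CharTwo.add_eq_zero.1 key

/-- **Canonical form** of a nondegenerate symmetric matrix of odd size over a finite field of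
characteristic 2. -/
theorem exists_canonical_coords {m : ℕ} (g : GL (Fin (2 * m + 1)) F)
    (hg : (g : Matrix (Fin (2 * m + 1)) (Fin (2 * m + 1)) F)ᵀ
      = (g : Matrix (Fin (2 * m + 1)) (Fin (2 * m + 1)) F)) :
    ∃ (N : Matrix (Fin (2 * m + 1)) (Unit ⊕ (Fin m ⊕ Fin m)) F)
      (N' : Matrix (Unit ⊕ (Fin m ⊕ Fin m)) (Fin (2 * m + 1)) F),
      N * N' = 1 ∧ N' * N = 1 ∧
        Nᵀ * (g : Matrix (Fin (2 * m + 1)) (Fin (2 * m + 1)) F) * N = canonC m F := by
  classical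
  set G : Matrix (Fin (2 * m + 1)) (Fin (2 * m + 1)) F :=
    (g : Matrix (Fin (2 * m + 1)) (Fin (2 * m + 1)) F) with hG
  set G' : Matrix (Fin (2 * m + 1)) (Fin (2 * m + 1)) F :=
    ((g⁻¹ : GL (Fin (2 * m + 1)) F) : Matrix (Fin (2 * m + 1)) (Fin (2 * m + 1)) F) with hG'
  have hGG' : G * G' = 1 := by rw [hG, hG', ← Units.val_mul, mul_inv_cancel, Units.val_one]
  have hG'G : G' * G = 1 := by rw [hG, hG', ← Units.val_mul, inv_mul_cancel, Units.val_one]
  obtain ⟨s, hs, hsq⟩ := exists_sqrt_form G hg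
  have hsymm : ∀ u v : Fin (2 * m + 1) → F, v ⬝ᵥ G *ᵥ u = u ⬝ᵥ G *ᵥ v := by
    intro u v
    rw [Matrix.dotProduct_mulVec, ← Matrix.mulVec_transpose, hg, dotProduct_comm]
  -- the dual vector of the linear form
  set w : Fin (2 * m + 1) → F := G' *ᵥ s with hw
  have hGw : G *ᵥ w = s := by rw [hw, Matrix.mulVec_mulVec, hGG', Matrix.one_mulVec]
  have hwv : ∀ v, w ⬝ᵥ G *ᵥ v = s ⬝ᵥ v := by
    intro v
    rw [← hsymm, hGw, dotProduct_comm]
  -- the alternating matrix
  set Gt : Matrix (Fin (2 * m + 1)) (Fin (2 * m + 1)) F := G + Matrix.vecMulVec s s with hGt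
  have hGtv : ∀ v, Gt *ᵥ v = G *ᵥ v + (s ⬝ᵥ v) • s := by
    intro v
    rw [hGt, Matrix.add_mulVec, Matrix.vecMulVec_mulVec, op_smul_eq_smul]
  have hGtuv : ∀ u v, u ⬝ᵥ Gt *ᵥ v = u ⬝ᵥ G *ᵥ v + (s ⬝ᵥ u) * (s ⬝ᵥ v) := by
    intro u v
    rw [hGtv, dotProduct_add, dotProduct_smul, smul_eq_mul, dotProduct_comm u s]
    ring
  have hGtalt : ∀ v, v ⬝ᵥ Gt *ᵥ v = 0 := by
    intro v
    rw [hGtuv, hsq, pow_two]
    exact CharTwo.add_self_eq_zero _
  -- `Gt` is singular
  have hdet0 : Gt.det = 0 := by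
    by_contra hne
    have hu : IsUnit Gt := (Matrix.isUnit_iff_isUnit_det _).2 (isUnit_iff_ne_zero.2 hne)
    have hr := Matrix.rank_of_isUnit Gt hu
    have hev := Cfsg.Agent.Helper11.AltRank.even_rank_of_alt Gt hGtalt
    rw [hr, Fintype.card_fin] at hev
    rcases hev with ⟨k, hk⟩
    omega
  obtain ⟨u, hu0, hu⟩ := Matrix.exists_mulVec_eq_zero_iff.2 hdet0
  -- hence `s ⬝ᵥ w = 1`
  have hsw : s ⬝ᵥ w = 1 := by
    rw [hGtv] at hu
    have h1 : G *ᵥ u = (s ⬝ᵥ u) • s := by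
      have := CharTwo.add_eq_zero.1 hu
      exact this
    have h2 : u = (s ⬝ᵥ u) • w := by
      calc u = G' *ᵥ (G *ᵥ u) := by rw [Matrix.mulVec_mulVec, hG'G, Matrix.one_mulVec]
        _ = _ := by rw [h1, Matrix.mulVec_smul]
    have h3 : s ⬝ᵥ u ≠ 0 := by
      intro h0
      rw [h0, zero_smul] at h2
      exact hu0 h2
    have h4 : s ⬝ᵥ u = (s ⬝ᵥ u) * (s ⬝ᵥ w) := by
      conv_lhs => rw [h2]
      rw [dotProduct_smul, smul_eq_mul]
    have h5 : (s ⬝ᵥ u) * (s ⬝ᵥ w - 1) = 0 := by linear_combination -h4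
    rcases mul_eq_zero.1 h5 with h | h
    · exact absurd h h3
    · exact sub_eq_zero.1 h
  -- the hyperplane and the alternating form
  set B : LinearMap.BilinForm F (Fin (2 * m + 1) → F) := Matrix.toBilin' G with hB
  set Bt : LinearMap.BilinForm F (Fin (2 * m + 1) → F) := Matrix.toBilin' Gt with hBt
  have hBapp : ∀ u v, B u v = u ⬝ᵥ G *ᵥ v := fun u v => Matrix.toBilin'_apply' G u v
  have hBtapp : ∀ u v, Bt u v = u ⬝ᵥ Gt *ᵥ v := fun u v => Matrix.toBilin'_apply' Gt u v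
  have hBtalt : Bt.IsAlt := fun v => by rw [hBtapp, hGtalt]
  set U : Submodule F (Fin (2 * m + 1) → F) := LinearMap.ker (B w) with hU
  have hUmem : ∀ v, v ∈ U ↔ s ⬝ᵥ v = 0 := by
    intro v
    rw [hU, LinearMap.mem_ker, hBapp, hwv]
  have hUdim : Module.finrank F U = 2 * m := by
    have h1 := LinearMap.finrank_range_add_finrank_ker (B w)
    have h2 : LinearMap.range (B w) = ⊤ := by
      rw [LinearMap.range_eq_top]
      intro t
      refine ⟨t • w, ?_⟩
      rw [map_smul, hBapp, hwv, hsw, smul_eq_mul, mul_one]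
    rw [h2, finrank_top, Module.finrank_self, Module.finrank_fintype_fun_eq_card,
      Fintype.card_fin] at h1
    rw [hU]
    omega
  have hdet : G.det ≠ 0 := ((Matrix.isUnit_iff_isUnit_det _).1 g.isUnit).ne_zero
  have hnd : B.Nondegenerate := LinearMap.BilinForm.nondegenerate_toBilin'_iff_det_ne_zero.2 hdet
  have hUnd : ∀ u ∈ U, (∀ v ∈ U, Bt u v = 0) → u = 0 := by
    intro u huU hu
    apply hnd.1 u
    intro v
    have hsu : s ⬝ᵥ u = 0 := (hUmem u).1 huU
    have hv' : v - (s ⬝ᵥ v) • w ∈ U := by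
      rw [hUmem, dotProduct_sub, dotProduct_smul, hsw, smul_eq_mul, mul_one, sub_self]
    have h1 := hu _ hv'
    rw [hBtapp, hGtuv, hsu, zero_mul, add_zero, Matrix.mulVec_sub, dotProduct_sub,
      Matrix.mulVec_smul, dotProduct_smul] at h1
    have h3 : u ⬝ᵥ G *ᵥ w = 0 := by rw [hsymm w u, hwv, hsu]
    rw [h3, smul_zero, sub_zero] at h1
    rw [hBapp]
    exact h1
  obtain ⟨e, f, heU, hfU, hee, hff, hef⟩ :=
    Cfsg.Agent.Helper28.SympFrame.exists_alt_frame Bt hBtalt m U hUdim hUnd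
  -- the new basis
  set x : Unit ⊕ (Fin m ⊕ Fin m) → (Fin (2 * m + 1) → F) :=
    Sum.elim (fun _ => w) (Sum.elim f e) with hx
  have hxU : ∀ a, s ⬝ᵥ x (Sum.inr a) = 0 := by
    intro a
    rw [← hUmem]
    rcases a with i | i
    · exact hfU i
    · exact heU i
  have hxC : ∀ a b, (x a) ⬝ᵥ G *ᵥ (x b) = canonC m F a b := by
    intro a b
    rcases a with ⟨⟩ | a <;> rcases b with ⟨⟩ | b
    · simp only [hx, Sum.elim_inl, canonC, Matrix.fromBlocks_apply₁₁, Matrix.one_apply_eq]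
      rw [hwv, hsw]
    · simp only [canonC, Matrix.fromBlocks_apply₁₂, Matrix.zero_apply]
      have : x (Sum.inl ()) = w := rfl
      rw [this, hwv, hxU]
    · simp only [canonC, Matrix.fromBlocks_apply₂₁, Matrix.zero_apply]
      have : x (Sum.inl ()) = w := rfl
      rw [this, hsymm, hwv, hxU]
    · simp only [canonC, Matrix.fromBlocks_apply₂₂]
      have h1 := frame_J Bt hBtalt e f hee hff hef a b
      rw [hBtapp, hGtuv] at h1
      have h2 : x (Sum.inr a) = Sum.elim f e a := rfl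
      have h3 : x (Sum.inr b) = Sum.elim f e b := rfl
      rw [← h2, ← h3, hxU, zero_mul, add_zero] at h1
      exact h1
  set N : Matrix (Fin (2 * m + 1)) (Unit ⊕ (Fin m ⊕ Fin m)) F := Matrix.of (fun i a => x a i)
    with hN
  have hNcol : ∀ a, N *ᵥ Pi.single a 1 = x a := by
    intro a
    rw [Matrix.mulVec_single_one]
    rfl
  have hNC : Nᵀ * G * N = canonC m F := by
    ext a b
    have := hxC a b
    rw [← hNcol a, ← hNcol b, dot_mulVec_rect, Matrix.mulVec_single_one, single_dotProduct,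
      one_mul] at this
    exact this
  set N' : Matrix (Unit ⊕ (Fin m ⊕ Fin m)) (Fin (2 * m + 1)) F := canonC' m F * Nᵀ * G with hN'
  have h1 : N' * N = 1 := by
    rw [hN', Matrix.mul_assoc, Matrix.mul_assoc, ← Matrix.mul_assoc Nᵀ, hNC, canonC'_mul_canonC]
  have h2 : N * N' = 1 := by
    rw [Matrix.mul_eq_one_comm_of_card_eq]
    · exact h1
    · simp only [Fintype.card_sum, Fintype.card_fin, Fintype.card_unit]
      omega
  exact ⟨N, N', h2, h1, hNC⟩

end chartwo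

end Cfsg.Agent.Helper7.GraphPSL
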