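import Cfsg.Agent.Helper7.GraphPSL11
import Cfsg.Agent.Helper2.QuadOddTwo

/-!
# Graph automorphisms of `PSL_n`, part 12 (helper7)

Splitting off the scalars: if `S = S₁ × scalars` then `projQuot S ≃* S₁`. Applied to the
similarity group of `quadFormOdd` in characteristic 2.
-/

set_option autoImplicit false
set_option linter.unusedSectionVars false

namespace Cfsg.Agent.Helper7.GraphPSL

open scoped Matrix

variable {F : Type*} [Field F]

/-- if every element of `S` is a scalar multiple of an element of `S₁ ≤ S` and `S₁` contains no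
nontrivial scalar, then `S₁ ≃* S / scalars` -/
theorem projQuot_equiv_of_complement {ι : Type} [Fintype ι] [DecidableEq ι]
    (S S₁ : Subgroup (GL ι F)) (hle : S₁ ≤ S)
    (hcap : ∀ k ∈ S₁, k ∈ Cfsg.Geo.scalars ι F → k = 1)
    (hsplit : ∀ k ∈ S, ∃ z ∈ Cfsg.Geo.scalars ι F, k * z ∈ S₁) :
    Nonempty (↥S₁ ≃* Cfsg.projQuot S) := by
  set N : Subgroup ↥S := (Cfsg.Geo.scalars ι F).subgroupOf S with hN
  set φ : ↥S₁ →* ↥S ⧸ N := (QuotientGroup.mk' N).comp (Subgroup.inclusion hle) with hφ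
  have hinj : Function.Injective φ := by
    rw [injective_iff_map_eq_one]
    intro a ha
    have h1 : Subgroup.inclusion hle a ∈ N := by
      rw [← QuotientGroup.eq_one_iff]
      exact ha
    have h2 : (a : GL ι F) ∈ Cfsg.Geo.scalars ι F := h1
    exact Subtype.ext (hcap a a.2 h2)
  have hsurj : Function.Surjective φ := by
    intro x
    induction x using QuotientGroup.induction_on with
    | H k =>
      obtain ⟨z, hz, hkz⟩ := hsplit k k.2
      refine ⟨⟨(k : GL ι F) * z, hkz⟩, ?_⟩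
      rw [hφ, MonoidHom.comp_apply, QuotientGroup.mk'_apply, eq_comm, QuotientGroup.eq]
      show ((k⁻¹ * Subgroup.inclusion hle ⟨(k : GL ι F) * z, hkz⟩ : ↥S) : GL ι F)
        ∈ Cfsg.Geo.scalars ι F
      have : ((k⁻¹ * Subgroup.inclusion hle ⟨(k : GL ι F) * z, hkz⟩ : ↥S) : GL ι F) = z := by
        show (k : GL ι F)⁻¹ * ((k : GL ι F) * z) = z
        rw [inv_mul_cancel_left]
      rw [this]
      exact hz
  exact ⟨MulEquiv.ofBijective φ ⟨hinj, hsurj⟩⟩

/-- the scalar matrix `c • 1` as an element of `GL ι F` -/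
def scalarGLgen {ι : Type} [Fintype ι] [DecidableEq ι] (c : Fˣ) : GL ι F :=
  Units.map (Matrix.scalar ι : F →+* Matrix ι ι F).toMonoidHom c

theorem scalarGLgen_mem {ι : Type} [Fintype ι] [DecidableEq ι] (c : Fˣ) :
    (scalarGLgen c : GL ι F) ∈ Cfsg.Geo.scalars ι F :=
  ⟨c, rfl⟩

theorem scalarGLgen_coe {ι : Type} [Fintype ι] [DecidableEq ι] (c : Fˣ) :
    ((scalarGLgen c : GL ι F) : Matrix ι ι F) = (c : F) • (1 : Matrix ι ι F) := by
  rw [Matrix.smul_one_eq_diagonal]
  rfl

theorem quadFormOdd_smul (m : ℕ) (a : F) (v : Unit ⊕ (Fin m ⊕ Fin m) → F) :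
    Cfsg.quadFormOdd m F (a • v) = a ^ 2 * Cfsg.quadFormOdd m F v := by
  unfold Cfsg.quadFormOdd
  simp only [Pi.smul_apply, smul_eq_mul]
  rw [mul_add, Finset.mul_sum]
  congr 1
  · ring
  · apply Finset.sum_congr rfl
    intro i _
    ring

theorem quadFormOdd_single (m : ℕ) :
    Cfsg.quadFormOdd m F (Pi.single (Sum.inl ()) (1 : F)) = 1 := by
  classical
  unfold Cfsg.quadFormOdd
  simp

section chartwo

variable [Fintype F] [CharP F 2]

/-- in characteristic 2, `PGO(quadFormOdd) ≃* O(quadFormOdd)` -/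
theorem isometry_equiv_PGO_odd (m : ℕ) :
    Nonempty (↥(Cfsg.isometryGroup F (Cfsg.quadFormOdd m F))
      ≃* Cfsg.PGO F (Cfsg.quadFormOdd m F)) := by
  classical
  apply projQuot_equiv_of_complement
  · intro k hk
    rw [Cfsg.Agent.Helper2.Quad.mem_go_odd_iff] at hk
    exact ⟨1, fun v => by rw [hk v, Units.val_one, one_mul]⟩
  · intro k hk hsc
    rw [Cfsg.Agent.Helper2.Quad.mem_go_odd_iff] at hk
    rw [Cfsg.Geo.mem_scalars_iff] at hsc
    obtain ⟨c, hc⟩ := hsc
    have h1 := hk (Pi.single (Sum.inl ()) (1 : F))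
    rw [hc, Matrix.smul_mulVec, Matrix.one_mulVec, quadFormOdd_smul, quadFormOdd_single,
      mul_one] at h1
    have h2 : (c : F) = 1 := by
      apply CharTwo.sq_injective
      simp only
      rw [h1, one_pow]
    apply Units.ext
    rw [hc, h2, one_smul, Units.val_one]
  · rintro k ⟨c, hc⟩
    obtain ⟨μ, hμ⟩ := exists_sq_eq (c : F)
    have hμ0 : μ ≠ 0 := by
      rintro rfl
      rw [zero_pow two_ne_zero] at hμ
      exact c.ne_zero hμ.symm
    refine ⟨scalarGLgen (Units.mk0 μ hμ0)⁻¹, scalarGLgen_mem _, ?_⟩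
    rw [Cfsg.Agent.Helper2.Quad.mem_go_odd_iff]
    intro v
    rw [Units.val_mul, scalarGLgen_coe, Matrix.mul_smul, Matrix.mul_one, Matrix.smul_mulVec,
      quadFormOdd_smul, hc, ← hμ, Units.val_inv_eq_inv_val, Units.val_mk0]
    field_simp

end chartwo

end Cfsg.Agent.Helper7.GraphPSL
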