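import Cfsg.Agent.Helper7.GraphPSL12
import Cfsg.Agent.Helper28.Symp

/-!
# Graph automorphisms of `PSL_n`, part 13 (helper7)

Characteristic 2: the similarity group of the canonical form `1 ⊕ J` modulo scalars is the
symplectic group; hence the centralizer of an involutory graph automorphism of `PSL_{2m+1}(2^f)`.
-/

set_option autoImplicit false
set_option linter.unusedSectionVars false

namespace Cfsg.Agent.Helper7.GraphPSL

open scoped Matrix

variable {F : Type*} [Field F] {m : ℕ}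

local notation "I'" => Unit ⊕ (Fin m ⊕ Fin m)

theorem canonC_mul_canonC' (m : ℕ) : canonC m F * canonC' m F = 1 := by
  unfold canonC canonC'
  rw [Matrix.fromBlocks_multiply]
  simp only [Matrix.one_mul, Matrix.mul_zero, Matrix.zero_mul, add_zero, zero_add, J_mul_neg_J,
    Matrix.fromBlocks_one]

theorem J_alt (v : Fin m ⊕ Fin m → F) : v ⬝ᵥ Matrix.J (Fin m) F *ᵥ v = 0 :=
  Cfsg.Agent.Helper28.sympForm_self v

theorem canonC_mulVec_inl (v : I' → F) : (canonC m F *ᵥ v) (Sum.inl ()) = v (Sum.inl ()) := by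
  unfold canonC
  rw [Matrix.fromBlocks_mulVec]
  simp only [Sum.elim_inl, Matrix.one_mulVec, Matrix.zero_mulVec, add_zero, Function.comp_apply]

theorem canonC_quad (v : I' → F) : v ⬝ᵥ canonC m F *ᵥ v = v (Sum.inl ()) ^ 2 := by
  unfold canonC
  rw [Matrix.fromBlocks_mulVec]
  simp only [dotProduct, Fintype.sum_sum_type, Sum.elim_inl, Sum.elim_inr, Matrix.one_mulVec,
    Matrix.zero_mulVec, add_zero, zero_add, Function.comp_apply, Finset.univ_unique,
    Finset.sum_singleton]
  have := J_alt (F := F) (m := m) (v ∘ Sum.inr)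
  simp only [dotProduct, Fintype.sum_sum_type, Function.comp_apply] at this
  rw [this, add_zero, pow_two]

/-- the similarity group of the canonical form -/
def simC (m : ℕ) (F : Type*) [Field F] : Subgroup (GL (Unit ⊕ (Fin m ⊕ Fin m)) F) :=
  Cfsg.Geo.similarityGroup (fun u v => u ⬝ᵥ canonC m F *ᵥ v)

theorem mem_simC_iff (k : GL I' F) :
    k ∈ simC m F ↔ ∃ c : Fˣ, (k : Matrix I' I' F)ᵀ * canonC m F * (k : Matrix I' I' F)
      = (c : F) • canonC m F := by
  constructor
  · rintro ⟨c, hc⟩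
    exact ⟨c, (form_eq_iff_matrix_eq _ _ _).1 hc⟩
  · rintro ⟨c, hc⟩
    exact ⟨c, (form_eq_iff_matrix_eq _ _ _).2 hc⟩

/-- the block-diagonal embedding of the symplectic group, as a monoid hom to matrices -/
def blockHom (m : ℕ) (F : Type*) [Field F] :
    Matrix.symplecticGroup (Fin m) F →* Matrix (Unit ⊕ (Fin m ⊕ Fin m)) (Unit ⊕ (Fin m ⊕ Fin m)) F where
  toFun A := Matrix.fromBlocks 1 0 0 (A : Matrix (Fin m ⊕ Fin m) (Fin m ⊕ Fin m) F)
  map_one' := by
    show Matrix.fromBlocks 1 0 0 (1 : Matrix (Fin m ⊕ Fin m) (Fin m ⊕ Fin m) F) = 1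
    exact Matrix.fromBlocks_one
  map_mul' A B := by
    show Matrix.fromBlocks 1 0 0 ((A : Matrix (Fin m ⊕ Fin m) (Fin m ⊕ Fin m) F)
      * (B : Matrix (Fin m ⊕ Fin m) (Fin m ⊕ Fin m) F)) = _
    rw [Matrix.fromBlocks_multiply]
    simp only [Matrix.one_mul, Matrix.mul_zero, Matrix.zero_mul, add_zero, zero_add]

/-- the block-diagonal embedding `Sp_{2m} → GL_{2m+1}` -/
def blockGL (m : ℕ) (F : Type*) [Field F] :
    Matrix.symplecticGroup (Fin m) F →* GL (Unit ⊕ (Fin m ⊕ Fin m)) F :=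
  (blockHom m F).toHomUnits

theorem blockGL_coe (A : Matrix.symplecticGroup (Fin m) F) :
    ((blockGL m F A : GL I' F) : Matrix I' I' F)
      = Matrix.fromBlocks 1 0 0 (A : Matrix (Fin m ⊕ Fin m) (Fin m ⊕ Fin m) F) := rfl

theorem blockGL_injective : Function.Injective (blockGL m F) := by
  intro A B h
  have h1 := congrArg (fun k : GL I' F => (k : Matrix I' I' F)) h
  simp only [blockGL_coe] at h1
  exact Subtype.ext (Matrix.fromBlocks_inj.1 h1).2.2.2

theorem blockGL_preserves (A : Matrix.symplecticGroup (Fin m) F) :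
    ((blockGL m F A : GL I' F) : Matrix I' I' F)ᵀ * canonC m F
      * ((blockGL m F A : GL I' F) : Matrix I' I' F) = canonC m F := by
  rw [blockGL_coe, canonC, Matrix.fromBlocks_transpose, Matrix.fromBlocks_multiply,
    Matrix.fromBlocks_multiply]
  simp only [Matrix.transpose_one, Matrix.transpose_zero, Matrix.mul_zero,
    Matrix.zero_mul, add_zero, zero_add, Matrix.mul_one]
  rw [SymplecticGroup.mem_iff'.1 A.2]

section chartwo

variable [Fintype F] [CharP F 2]

/-- block structure of an isometry of the canonical form -/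
theorem exists_block_of_preserves (k : GL I' F)
    (hk : (k : Matrix I' I' F)ᵀ * canonC m F * (k : Matrix I' I' F) = canonC m F) :
    ∃ A : Matrix.symplecticGroup (Fin m) F, blockGL m F A = k := by
  classical
  set K : Matrix I' I' F := (k : Matrix I' I' F) with hK
  set K' : Matrix I' I' F := ((k⁻¹ : GL I' F) : Matrix I' I' F) with hK'
  have hKK' : K * K' = 1 := by rw [hK, hK', ← Units.val_mul, mul_inv_cancel, Units.val_one]
  have hform : ∀ u v : I' → F, (K *ᵥ u) ⬝ᵥ canonC m F *ᵥ (K *ᵥ v) = u ⬝ᵥ canonC m F *ᵥ v := by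
    intro u v
    rw [dot_mulVec_rect, hk]
  -- (1) the first coordinate is preserved
  have h1 : ∀ v : I' → F, (K *ᵥ v) (Sum.inl ()) = v (Sum.inl ()) := by
    intro v
    have := hform v v
    rw [canonC_quad, canonC_quad] at this
    exact CharTwo.sq_injective this
  -- (2) the first basis vector is fixed
  set e₀ : I' → F := Pi.single (Sum.inl ()) 1 with he₀
  have he₀C : ∀ v : I' → F, e₀ ⬝ᵥ canonC m F *ᵥ v = v (Sum.inl ()) := by
    intro v
    rw [he₀, single_dotProduct, one_mul, canonC_mulVec_inl]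
  have h2 : K *ᵥ e₀ = e₀ := by
    have hd : ∀ u : I' → F, (K *ᵥ e₀ - e₀) ⬝ᵥ canonC m F *ᵥ u = 0 := by
      intro u
      have hu : u = K *ᵥ (K' *ᵥ u) := by rw [Matrix.mulVec_mulVec, hKK', Matrix.one_mulVec]
      rw [sub_dotProduct, he₀C]
      conv_lhs => rw [hu]
      rw [hform, he₀C, h1, sub_self]
    have hz : K *ᵥ e₀ - e₀ = 0 := by
      funext i
      have := hd (canonC' m F *ᵥ Pi.single i 1)
      rw [Matrix.mulVec_mulVec, canonC_mul_canonC', Matrix.one_mulVec, dotProduct_single,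
        mul_one] at this
      exact this
    exact sub_eq_zero.1 hz
  -- (3) block shape
  have hrow : ∀ b : Fin m ⊕ Fin m, K (Sum.inl ()) (Sum.inr b) = 0 := by
    intro b
    have := h1 (Pi.single (Sum.inr b) 1)
    rw [Matrix.mulVec_single_one] at this
    rw [show K (Sum.inl ()) (Sum.inr b) = K.col (Sum.inr b) (Sum.inl ()) from rfl, this]
    simp
  have hcol : ∀ a : I', K a (Sum.inl ()) = e₀ a := by
    intro a
    have := congrFun h2 a
    rw [he₀, Matrix.mulVec_single_one] at this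
    exact this
  have hshape : K = Matrix.fromBlocks 1 0 0 K.toBlocks₂₂ := by
    ext a b
    rcases a with ⟨⟩ | a <;> rcases b with ⟨⟩ | b
    · rw [hcol, he₀]
      simp
    · rw [hrow]
      simp
    · rw [hcol, he₀]
      simp
    · rfl
  have hsp : K.toBlocks₂₂ ∈ Matrix.symplecticGroup (Fin m) F := by
    rw [SymplecticGroup.mem_iff']
    have := hk
    rw [hshape, canonC, Matrix.fromBlocks_transpose, Matrix.fromBlocks_multiply,
      Matrix.fromBlocks_multiply] at this
    simp only [Matrix.transpose_one, Matrix.transpose_zero, Matrix.mul_zero,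
      Matrix.zero_mul, add_zero, zero_add, Matrix.mul_one] at this
    exact (Matrix.fromBlocks_inj.1 this).2.2.2
  refine ⟨⟨K.toBlocks₂₂, hsp⟩, ?_⟩
  apply Units.ext
  rw [blockGL_coe]
  exact hshape.symm

/-- in characteristic 2, the projective similarity group of `1 ⊕ J` is `Sp_{2m}` -/
theorem symplectic_equiv_projQuot_simC (m : ℕ) :
    Nonempty (↥(Matrix.symplecticGroup (Fin m) F) ≃* Cfsg.projQuot (simC m F)) := by
  classical
  have key : Nonempty (↥(blockGL m F).range ≃* Cfsg.projQuot (simC m F)) := by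
    apply projQuot_equiv_of_complement
    · rintro k ⟨A, rfl⟩
      rw [mem_simC_iff]
      exact ⟨1, by rw [blockGL_preserves, Units.val_one, one_smul]⟩
    · rintro k ⟨A, rfl⟩ hsc
      rw [Cfsg.Geo.mem_scalars_iff] at hsc
      obtain ⟨c, hc⟩ := hsc
      have h1 := congrFun (congrFun hc (Sum.inl ())) (Sum.inl ())
      rw [blockGL_coe, Matrix.fromBlocks_apply₁₁, Matrix.one_apply_eq, Matrix.smul_apply,
        Matrix.one_apply_eq, smul_eq_mul, mul_one] at h1
      apply Units.ext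
      rw [hc, ← h1, one_smul, Units.val_one]
    · intro k hk
      rw [mem_simC_iff] at hk
      obtain ⟨c, hc⟩ := hk
      obtain ⟨μ, hμ⟩ := exists_sq_eq (c : F)
      have hμ0 : μ ≠ 0 := by
        rintro rfl
        rw [zero_pow two_ne_zero] at hμ
        exact c.ne_zero hμ.symm
      refine ⟨scalarGLgen (Units.mk0 μ hμ0)⁻¹, scalarGLgen_mem _, ?_⟩
      obtain ⟨A, hA⟩ := exists_block_of_preserves (k * scalarGLgen (Units.mk0 μ hμ0)⁻¹) (by
        rw [Units.val_mul, scalarGLgen_coe, Matrix.mul_smul, Matrix.mul_one, Matrix.transpose_smul,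
          Matrix.smul_mul, Matrix.smul_mul, Matrix.mul_smul, hc, smul_smul, smul_smul, ← hμ,
          Units.val_inv_eq_inv_val, Units.val_mk0]
        have : μ⁻¹ * μ⁻¹ * μ ^ 2 = 1 := by
          field_simp
        rw [this, one_smul])
      exact ⟨A, hA⟩
  obtain ⟨e⟩ := key
  exact ⟨(MonoidHom.ofInjective (blockGL_injective (F := F) (m := m))).trans e⟩

/-- the projective similarity group of `1 ⊕ J` is `PGO(quadFormOdd)` in characteristic 2 -/
theorem projQuot_simC_equiv_PGO (m : ℕ) :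
    Nonempty (Cfsg.projQuot (simC m F) ≃* Cfsg.PGO F (Cfsg.quadFormOdd m F)) := by
  obtain ⟨e1⟩ := symplectic_equiv_projQuot_simC (F := F) m
  obtain ⟨e2⟩ := Cfsg.Agent.Helper2.Quad.nonempty_mulEquiv_odd_two (F := F) m
  obtain ⟨e3⟩ := isometry_equiv_PGO_odd (F := F) m
  exact ⟨(e1.symm.trans e2.symm).trans e3⟩

/-- characteristic 2, odd dimension: centralizer of a symmetric graph automorphism -/
theorem centralizer_odd_dim_two (g : GL (Fin (2 * m + 1)) F)
    (hg : (g : Matrix (Fin (2 * m + 1)) (Fin (2 * m + 1)) F)ᵀ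
      = (g : Matrix (Fin (2 * m + 1)) (Fin (2 * m + 1)) F)) :
    Nonempty (↥(Cfsg.inndiagPSL (2 * m + 1) F ⊓ Subgroup.centralizer {graphAut g})
      ≃* Cfsg.PGO F (Cfsg.quadFormOdd m F)) := by
  obtain ⟨N, N', h1, h2, hC⟩ := exists_canonical_coords g hg
  obtain ⟨e1⟩ := centralizer_graphAut_equiv N N' h1 h2 g (simC m F) (fun k => by
    rw [hC, mem_simC_iff])
  obtain ⟨e2⟩ := projQuot_simC_equiv_PGO (F := F) m
  exact ⟨e1.trans e2⟩

/-- characteristic 2, odd dimension: any two symmetric matrices give conjugate graph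
automorphisms -/
theorem isConjUnder_odd_dim_two (g g' : GL (Fin (2 * m + 1)) F)
    (hg : (g : Matrix (Fin (2 * m + 1)) (Fin (2 * m + 1)) F)ᵀ
      = (g : Matrix (Fin (2 * m + 1)) (Fin (2 * m + 1)) F))
    (hg' : (g' : Matrix (Fin (2 * m + 1)) (Fin (2 * m + 1)) F)ᵀ
      = (g' : Matrix (Fin (2 * m + 1)) (Fin (2 * m + 1)) F)) :
    Cfsg.IsConjUnder (Cfsg.inndiagPSL (2 * m + 1) F) (graphAut g) (graphAut g') := by
  obtain ⟨N, N', h1, h2, hC⟩ := exists_canonical_coords g hg
  obtain ⟨N₂, N₂', h1', h2', hC'⟩ := exists_canonical_coords g' hg'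
  -- `g' = (N N₂')ᵀ g (N N₂')`
  have hg'eq : (g' : Matrix (Fin (2 * m + 1)) (Fin (2 * m + 1)) F)
      = (N * N₂')ᵀ * (g : Matrix (Fin (2 * m + 1)) (Fin (2 * m + 1)) F) * (N * N₂') := by
    have e1 : (g' : Matrix (Fin (2 * m + 1)) (Fin (2 * m + 1)) F)
        = N₂'ᵀ * canonC m F * N₂' := by
      rw [← hC']
      have ht : N₂'ᵀ * N₂ᵀ = 1 := by rw [← Matrix.transpose_mul, h1', Matrix.transpose_one]
      calc (g' : Matrix (Fin (2 * m + 1)) (Fin (2 * m + 1)) F)
          = (N₂'ᵀ * N₂ᵀ) * (g' : Matrix (Fin (2 * m + 1)) (Fin (2 * m + 1)) F) * (N₂ * N₂') := by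
            rw [ht, h1', Matrix.one_mul, Matrix.mul_one]
        _ = _ := by simp only [Matrix.mul_assoc]
    rw [e1, ← hC, Matrix.transpose_mul]
    simp only [Matrix.mul_assoc]
  set K : Matrix (Fin (2 * m + 1)) (Fin (2 * m + 1)) F := N * N₂' with hK
  have hKinv : K * (N₂ * N') = 1 := by
    rw [hK]
    calc N * N₂' * (N₂ * N') = N * ((N₂' * N₂) * N') := by simp only [Matrix.mul_assoc]
      _ = 1 := by rw [h2', Matrix.one_mul, h1]
  have hKinv' : (N₂ * N') * K = 1 := by
    rw [hK]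
    calc N₂ * N' * (N * N₂') = N₂ * ((N' * N) * N₂') := by simp only [Matrix.mul_assoc]
      _ = 1 := by rw [h2, Matrix.one_mul, h1']
  rw [isConjUnder_graphAut_iff]
  refine ⟨gT ⟨K, N₂ * N', hKinv, hKinv'⟩, 1, ?_⟩
  rw [Units.val_one, one_smul, gT_coe, Matrix.transpose_transpose]
  exact hg'eq

end chartwo

end Cfsg.Agent.Helper7.GraphPSL
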