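import Cfsg.Agent.Helper7.GraphPSL13
import Cfsg.Agent.Helper2.SpForm

/-!
# Graph automorphisms of `PSL_n`, part 14 (helper7)

Even dimension, general tools: reindexing `GL (Fin m ⊕ Fin m) F → GL (Fin (2m)) F`, alternating
matrices give graph automorphisms conjugate to the standard one, and `PGSp ≃* Sp` in
characteristic 2.
-/

set_option autoImplicit false
set_option linter.unusedSectionVars false

namespace Cfsg.Agent.Helper7.GraphPSL

open scoped Matrix
open Cfsg.Agent.Helper2.Sp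

variable {F : Type*} [Field F] (m : ℕ)

/-- transport of an invertible matrix on `Fin m ⊕ Fin m` to `Fin (2 * m)` as a bilinear form -/
def reindexGL (A : GL (Fin m ⊕ Fin m) F) : GL (Fin (2 * m)) F :=
  ⟨(Pre' m F)ᵀ * (A : Matrix (Fin m ⊕ Fin m) (Fin m ⊕ Fin m) F) * Pre' m F,
    Pre m F * ((A⁻¹ : GL (Fin m ⊕ Fin m) F) : Matrix (Fin m ⊕ Fin m) (Fin m ⊕ Fin m) F)
      * (Pre m F)ᵀ, by
    calc (Pre' m F)ᵀ * (A : Matrix (Fin m ⊕ Fin m) (Fin m ⊕ Fin m) F) * Pre' m F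
          * (Pre m F * ((A⁻¹ : GL (Fin m ⊕ Fin m) F) : Matrix (Fin m ⊕ Fin m) (Fin m ⊕ Fin m) F)
            * (Pre m F)ᵀ)
        = (Pre' m F)ᵀ * ((A : Matrix (Fin m ⊕ Fin m) (Fin m ⊕ Fin m) F)
            * ((Pre' m F * Pre m F)
              * ((A⁻¹ : GL (Fin m ⊕ Fin m) F) : Matrix (Fin m ⊕ Fin m) (Fin m ⊕ Fin m) F)))
          * (Pre m F)ᵀ := by simp only [Matrix.mul_assoc]
      _ = 1 := by
          rw [Pre'_mul_Pre, Matrix.one_mul, ← Units.val_mul, mul_inv_cancel, Units.val_one,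
            Matrix.mul_one, Pre'_transpose_mul], by
    calc Pre m F * ((A⁻¹ : GL (Fin m ⊕ Fin m) F) : Matrix (Fin m ⊕ Fin m) (Fin m ⊕ Fin m) F)
          * (Pre m F)ᵀ
          * ((Pre' m F)ᵀ * (A : Matrix (Fin m ⊕ Fin m) (Fin m ⊕ Fin m) F) * Pre' m F)
        = Pre m F * (((A⁻¹ : GL (Fin m ⊕ Fin m) F) : Matrix (Fin m ⊕ Fin m) (Fin m ⊕ Fin m) F)
            * (((Pre m F)ᵀ * (Pre' m F)ᵀ)
              * (A : Matrix (Fin m ⊕ Fin m) (Fin m ⊕ Fin m) F)))
          * Pre' m F := by simp only [Matrix.mul_assoc]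
      _ = 1 := by
          rw [Pre_transpose_mul, Matrix.one_mul, ← Units.val_mul, inv_mul_cancel, Units.val_one,
            Matrix.mul_one, Pre_mul_Pre']⟩

theorem reindexGL_coe (A : GL (Fin m ⊕ Fin m) F) :
    ((reindexGL m A : GL (Fin (2 * m)) F) : Matrix (Fin (2 * m)) (Fin (2 * m)) F)
      = (Pre' m F)ᵀ * (A : Matrix (Fin m ⊕ Fin m) (Fin m ⊕ Fin m) F) * Pre' m F := rfl

theorem reindexGL_transpose (A : GL (Fin m ⊕ Fin m) F) :
    ((reindexGL m A : GL (Fin (2 * m)) F) : Matrix (Fin (2 * m)) (Fin (2 * m)) F)ᵀ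
      = (Pre' m F)ᵀ * (A : Matrix (Fin m ⊕ Fin m) (Fin m ⊕ Fin m) F)ᵀ * Pre' m F := by
  rw [reindexGL_coe, Matrix.transpose_mul, Matrix.transpose_mul, Matrix.transpose_transpose,
    Matrix.mul_assoc]

theorem Pre_reindexGL_Pre (A : GL (Fin m ⊕ Fin m) F) :
    (Pre m F)ᵀ * ((reindexGL m A : GL (Fin (2 * m)) F) : Matrix (Fin (2 * m)) (Fin (2 * m)) F)
      * Pre m F = (A : Matrix (Fin m ⊕ Fin m) (Fin m ⊕ Fin m) F) := by
  rw [reindexGL_coe]
  calc (Pre m F)ᵀ * ((Pre' m F)ᵀ * (A : Matrix (Fin m ⊕ Fin m) (Fin m ⊕ Fin m) F) * Pre' m F)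
        * Pre m F
      = ((Pre m F)ᵀ * (Pre' m F)ᵀ) * (A : Matrix (Fin m ⊕ Fin m) (Fin m ⊕ Fin m) F)
        * (Pre' m F * Pre m F) := by simp only [Matrix.mul_assoc]
    _ = _ := by rw [Pre_transpose_mul, Pre'_mul_Pre, Matrix.one_mul, Matrix.mul_one]

/-- the quadratic form of a reindexed matrix -/
theorem reindexGL_quad (A : GL (Fin m ⊕ Fin m) F) (v : Fin (2 * m) → F) :
    v ⬝ᵥ ((reindexGL m A : GL (Fin (2 * m)) F) : Matrix (Fin (2 * m)) (Fin (2 * m)) F) *ᵥ v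
      = (Pre' m F *ᵥ v) ⬝ᵥ (A : Matrix (Fin m ⊕ Fin m) (Fin m ⊕ Fin m) F) *ᵥ (Pre' m F *ᵥ v) := by
  rw [reindexGL_coe, dot_mulVec_rect]

/-- an alternating invertible matrix gives a graph automorphism conjugate to the standard one -/
theorem isConjUnder_of_alt (g : GL (Fin (2 * m)) F)
    (halt : ∀ v : Fin (2 * m) → F,
      v ⬝ᵥ (g : Matrix (Fin (2 * m)) (Fin (2 * m)) F) *ᵥ v = 0) :
    Cfsg.IsConjUnder (Cfsg.inndiagPSL (2 * m) F) (graphAut (skewRep m F)) (graphAut g) := by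
  classical
  apply isConjUnder_symm
  set G : Matrix (Fin (2 * m)) (Fin (2 * m)) F := (g : Matrix (Fin (2 * m)) (Fin (2 * m)) F)
    with hG
  set B : LinearMap.BilinForm F (Fin (2 * m) → F) := Matrix.toBilin' G with hB
  have hBapp : ∀ u v, B u v = u ⬝ᵥ G *ᵥ v := fun u v => Matrix.toBilin'_apply' G u v
  have hA : B.IsAlt := fun v => by rw [hBapp, halt]
  have hdet : G.det ≠ 0 := ((Matrix.isUnit_iff_isUnit_det _).1 g.isUnit).ne_zero
  have hnd : B.Nondegenerate := LinearMap.BilinForm.nondegenerate_toBilin'_iff_det_ne_zero.2 hdet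
  obtain ⟨e, f, -, -, hee, hff, hef⟩ :=
    Cfsg.Agent.Helper28.SympFrame.exists_alt_frame B hA m ⊤ (by
      rw [finrank_top, Module.finrank_fintype_fun_eq_card, Fintype.card_fin])
      (fun u _ hu => hnd.1 u (fun v => hu v Submodule.mem_top))
  set x : Fin m ⊕ Fin m → (Fin (2 * m) → F) := Sum.elim f e with hx
  have hxJ : ∀ a b, B (x a) (x b) = Matrix.J (Fin m) F a b := frame_J B hA e f hee hff hef
  set N : Matrix (Fin (2 * m)) (Fin m ⊕ Fin m) F := Matrix.of (fun i a => x a i) with hN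
  have hNcol : ∀ a, N *ᵥ Pi.single a 1 = x a := by
    intro a
    rw [Matrix.mulVec_single_one]
    rfl
  have hNJ : Nᵀ * G * N = Matrix.J (Fin m) F := by
    ext a b
    have := hxJ a b
    rw [hBapp, ← hNcol a, ← hNcol b, dot_mulVec_rect, Matrix.mulVec_single_one, single_dotProduct,
      one_mul] at this
    exact this
  set K : Matrix (Fin (2 * m)) (Fin (2 * m)) F := N * Pre' m F with hK
  have hKG : Kᵀ * G * K
      = ((skewRep m F : GL (Fin (2 * m)) F) : Matrix (Fin (2 * m)) (Fin (2 * m)) F) := by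
    rw [skewRep_coe, ← hNJ, hK, Matrix.transpose_mul]
    simp only [Matrix.mul_assoc]
  have hKdet : K.det ≠ 0 := by
    intro h0
    have h1 : ((skewRep m F : GL (Fin (2 * m)) F) : Matrix (Fin (2 * m)) (Fin (2 * m)) F).det
        ≠ 0 := ((Matrix.isUnit_iff_isUnit_det _).1 (skewRep m F).isUnit).ne_zero
    apply h1
    rw [← hKG, Matrix.det_mul, Matrix.det_mul, h0, mul_zero]
  rw [isConjUnder_graphAut_iff]
  refine ⟨gT (Matrix.GeneralLinearGroup.mkOfDetNeZero K hKdet), 1, ?_⟩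
  rw [Units.val_one, one_smul, gT_coe, Matrix.transpose_transpose]
  exact hKG.symm

/-- being alternating is invariant under conjugacy of graph automorphisms -/
theorem alt_of_isConjUnder {n : ℕ} (g g' : GL (Fin n) F)
    (h : Cfsg.IsConjUnder (Cfsg.inndiagPSL n F) (graphAut g) (graphAut g'))
    (halt : ∀ v : Fin n → F, v ⬝ᵥ (g : Matrix (Fin n) (Fin n) F) *ᵥ v = 0) (v : Fin n → F) :
    v ⬝ᵥ (g' : Matrix (Fin n) (Fin n) F) *ᵥ v = 0 := by
  rw [isConjUnder_graphAut_iff] at h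
  obtain ⟨k, c, hc⟩ := h
  rw [hc, Matrix.smul_mulVec, dotProduct_smul]
  have := dot_mulVec_rect ((k : Matrix (Fin n) (Fin n) F)ᵀ) (g : Matrix (Fin n) (Fin n) F) v v
  rw [Matrix.transpose_transpose] at this
  rw [← this, halt, smul_zero]

theorem skewRep_alt (v : Fin (2 * m) → F) :
    v ⬝ᵥ ((skewRep m F : GL (Fin (2 * m)) F) : Matrix (Fin (2 * m)) (Fin (2 * m)) F) *ᵥ v = 0 := by
  rw [skewRep_coe, ← dot_mulVec_rect]
  exact J_alt _

/-- the inclusion `Sp_{2m} → GL_{2m}` -/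
def spGLhom (F : Type*) [Field F] : Matrix.symplecticGroup (Fin m) F →* GL (Fin m ⊕ Fin m) F :=
  ((Matrix.symplecticGroup (Fin m) F).subtype).toHomUnits

theorem spGLhom_coe (A : Matrix.symplecticGroup (Fin m) F) :
    ((spGLhom m F A : GL (Fin m ⊕ Fin m) F) : Matrix (Fin m ⊕ Fin m) (Fin m ⊕ Fin m) F)
      = (A : Matrix (Fin m ⊕ Fin m) (Fin m ⊕ Fin m) F) := rfl

theorem spGLhom_injective : Function.Injective (spGLhom m F) := by
  intro A B h
  have h1 := congrArg (fun k : GL (Fin m ⊕ Fin m) F =>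
    (k : Matrix (Fin m ⊕ Fin m) (Fin m ⊕ Fin m) F)) h
  simp only [spGLhom_coe] at h1
  exact Subtype.ext h1

theorem mem_GSp_iff (k : GL (Fin m ⊕ Fin m) F) :
    k ∈ Cfsg.GSp m F ↔ ∃ c : Fˣ, ∀ u v,
      om ((k : Matrix (Fin m ⊕ Fin m) (Fin m ⊕ Fin m) F) *ᵥ u)
        ((k : Matrix (Fin m ⊕ Fin m) (Fin m ⊕ Fin m) F) *ᵥ v) = (c : F) * om u v :=
  Iff.rfl

section chartwo

variable [Fintype F] [CharP F 2]

/-- a scalar symplectic matrix is trivial in characteristic 2 -/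
theorem symplectic_scalar_eq_one (hm : 1 ≤ m) (A : Matrix.symplecticGroup (Fin m) F) (c : F)
    (hc : (A : Matrix (Fin m ⊕ Fin m) (Fin m ⊕ Fin m) F) = c • 1) : c = 1 := by
  classical
  set w₀ : Fin m ⊕ Fin m → F := Pi.single (Sum.inl ⟨0, hm⟩) 1 with hw₀
  have hw₀0 : w₀ ≠ 0 := by
    intro h
    have := congrFun h (Sum.inl ⟨0, hm⟩)
    simp [hw₀] at this
  obtain ⟨x, hx⟩ := exists_om_ne_zero hw₀0
  have h1 := mem_symplectic_iff_om.1 A.2 w₀ x
  rw [hc, Matrix.smul_mulVec, Matrix.smul_mulVec, Matrix.one_mulVec, Matrix.one_mulVec,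
    om_smul_left, om_smul_right] at h1
  have h2 : c * c = 1 := by
    have : (c * c - 1) * om w₀ x = 0 := by linear_combination h1
    rcases mul_eq_zero.1 this with h | h
    · exact sub_eq_zero.1 h
    · exact absurd h hx
  apply CharTwo.sq_injective
  simp only
  rw [pow_two, h2, one_pow]

/-- in characteristic 2, `PGSp_{2m} ≃* Sp_{2m}` -/
theorem symplectic_equiv_PGSp (hm : 1 ≤ m) :
    Nonempty (↥(Matrix.symplecticGroup (Fin m) F) ≃* Cfsg.PGSp m F) := by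
  classical
  have key : Nonempty (↥(spGLhom m F).range ≃* Cfsg.projQuot (Cfsg.GSp m F)) := by
    apply projQuot_equiv_of_complement
    · rintro k ⟨A, rfl⟩
      rw [mem_GSp_iff]
      refine ⟨1, fun u v => ?_⟩
      rw [spGLhom_coe, Units.val_one, one_mul]
      exact mem_symplectic_iff_om.1 A.2 u v
    · rintro k ⟨A, rfl⟩ hsc
      rw [Cfsg.Geo.mem_scalars_iff] at hsc
      obtain ⟨c, hc⟩ := hsc
      rw [spGLhom_coe] at hc
      have h3 : (c : F) = 1 := symplectic_scalar_eq_one m hm A c hc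
      apply Units.ext
      show ((spGLhom m F A : GL (Fin m ⊕ Fin m) F) : Matrix (Fin m ⊕ Fin m) (Fin m ⊕ Fin m) F) = 1
      rw [spGLhom_coe, hc, h3, one_smul]
    · intro k hk
      rw [mem_GSp_iff] at hk
      obtain ⟨c, hc⟩ := hk
      obtain ⟨μ, hμ⟩ := exists_sq_eq (c : F)
      have hμ0 : μ ≠ 0 := by
        rintro rfl
        rw [zero_pow two_ne_zero] at hμ
        exact c.ne_zero hμ.symm
      refine ⟨scalarGLgen (Units.mk0 μ hμ0)⁻¹, scalarGLgen_mem _, ?_⟩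
      have hmem : ((k * scalarGLgen (Units.mk0 μ hμ0)⁻¹ : GL (Fin m ⊕ Fin m) F) :
          Matrix (Fin m ⊕ Fin m) (Fin m ⊕ Fin m) F) ∈ Matrix.symplecticGroup (Fin m) F := by
        rw [mem_symplectic_iff_om]
        intro u v
        rw [Units.val_mul, scalarGLgen_coe, Matrix.mul_smul, Matrix.mul_one, Matrix.smul_mulVec,
          Matrix.smul_mulVec, om_smul_left, om_smul_right, hc, ← hμ, Units.val_inv_eq_inv_val,
          Units.val_mk0]
        field_simp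
      exact ⟨⟨_, hmem⟩, Units.ext rfl⟩
  obtain ⟨e⟩ := key
  exact ⟨(MonoidHom.ofInjective (spGLhom_injective (F := F) m)).trans e⟩

end chartwo

end Cfsg.Agent.Helper7.GraphPSL
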