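import Cfsg.Agent.Helper7.GraphPSL14

/-!
# Graph automorphisms of `PSL_n`, part 15 (helper7)

Characteristic 2, even dimension: the symmetric non-alternating form `J + s sᵀ`, its isometry
group as the centralizer of a symplectic transvection.
-/

set_option autoImplicit false
set_option linter.unusedSectionVars false

namespace Cfsg.Agent.Helper7.GraphPSL

open scoped Matrix
open Cfsg.Agent.Helper2.Sp

variable {F : Type*} [Field F] {m : ℕ}

local notation "I2" => Fin m ⊕ Fin m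

/-- the matrix `J + s sᵀ` where `s ⬝ᵥ v = om w₀ v` -/
def A3 (w₀ : I2 → F) : Matrix I2 I2 F :=
  Matrix.J (Fin m) F + Matrix.vecMulVec (w₀ ᵥ* Matrix.J (Fin m) F) (w₀ ᵥ* Matrix.J (Fin m) F)

theorem vecMul_J_dot (w₀ v : I2 → F) : (w₀ ᵥ* Matrix.J (Fin m) F) ⬝ᵥ v = om w₀ v := by
  unfold om
  rw [Matrix.dotProduct_mulVec]

theorem A3_form (w₀ u v : I2 → F) : u ⬝ᵥ A3 w₀ *ᵥ v = om u v + om w₀ u * om w₀ v := by
  unfold A3
  rw [Matrix.add_mulVec, dotProduct_add, Matrix.vecMulVec_mulVec, op_smul_eq_smul,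
    dotProduct_smul, smul_eq_mul, vecMul_J_dot,
    dotProduct_comm u (w₀ ᵥ* Matrix.J (Fin m) F), vecMul_J_dot]
  unfold om
  ring

theorem A3_quad (w₀ v : I2 → F) : v ⬝ᵥ A3 w₀ *ᵥ v = om w₀ v ^ 2 := by
  rw [A3_form, om_self, zero_add, pow_two]

theorem om_eq_zero_of_forall {u : I2 → F} (h : ∀ x, om x u = 0) : u = 0 := by
  by_contra hu
  obtain ⟨x, hx⟩ := exists_om_ne_zero hu
  apply hx
  rw [om_swap, h, neg_zero]

theorem A3_det_ne_zero (w₀ : I2 → F) : (A3 w₀).det ≠ 0 := by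
  classical
  intro h0
  obtain ⟨u, hu0, hu⟩ := Matrix.exists_mulVec_eq_zero_iff.2 h0
  have h1 : ∀ x, om x u + om w₀ x * om w₀ u = 0 := by
    intro x
    rw [← A3_form, hu, dotProduct_zero]
  have h2 : om w₀ u = 0 := by
    have := h1 w₀
    rw [om_self, zero_mul, add_zero] at this
    exact this
  apply hu0
  apply om_eq_zero_of_forall
  intro x
  have := h1 x
  rw [h2, mul_zero, add_zero] at this
  exact this

/-- `J + s sᵀ` as an element of `GL` -/
noncomputable def A3GL (w₀ : I2 → F) : GL I2 F :=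
  Matrix.GeneralLinearGroup.mkOfDetNeZero (A3 w₀) (A3_det_ne_zero w₀)

theorem A3GL_coe (w₀ : I2 → F) : ((A3GL w₀ : GL I2 F) : Matrix I2 I2 F) = A3 w₀ := rfl

/-- the similarity group of `J + s sᵀ` -/
def sim3 (w₀ : I2 → F) : Subgroup (GL I2 F) :=
  Cfsg.Geo.similarityGroup (fun u v => u ⬝ᵥ A3 w₀ *ᵥ v)

theorem mem_sim3_iff (w₀ : I2 → F) (k : GL I2 F) :
    k ∈ sim3 w₀ ↔ ∃ c : Fˣ, (k : Matrix I2 I2 F)ᵀ * A3 w₀ * (k : Matrix I2 I2 F)
      = (c : F) • A3 w₀ := by
  constructor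
  · rintro ⟨c, hc⟩
    exact ⟨c, (form_eq_iff_matrix_eq _ _ _).1 hc⟩
  · rintro ⟨c, hc⟩
    exact ⟨c, (form_eq_iff_matrix_eq _ _ _).2 hc⟩

/-- the symplectic transvection attached to `w₀` -/
def tw (w₀ : I2 → F) : Matrix.symplecticGroup (Fin m) F := ⟨T w₀ 1, T_mem w₀ 1⟩

theorem tw_mulVec (w₀ x : I2 → F) :
    ((tw w₀ : Matrix.symplecticGroup (Fin m) F) : Matrix I2 I2 F) *ᵥ x = x + om w₀ x • w₀ := by
  show T w₀ 1 *ᵥ x = _
  rw [T_mulVec, one_mul]

theorem isTransvection_tw (w₀ : I2 → F) (hw₀ : w₀ ≠ 0) :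
    Cfsg.IsTransvection ((tw w₀ : Matrix.symplecticGroup (Fin m) F) : Matrix I2 I2 F) := by
  classical
  have hsub : ((tw w₀ : Matrix.symplecticGroup (Fin m) F) : Matrix I2 I2 F) - 1
      = Matrix.vecMulVec w₀ (w₀ ᵥ* Matrix.J (Fin m) F) := by
    show T w₀ 1 - 1 = _
    unfold T
    rw [one_smul, add_sub_cancel_left]
  constructor
  · rw [hsub]
    apply le_antisymm (Matrix.rank_vecMulVec_le _ _)
    obtain ⟨x, hx⟩ := exists_om_ne_zero hw₀
    unfold Matrix.rank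
    rw [Nat.succ_le_iff, Module.finrank_pos_iff_exists_ne_zero]
    refine ⟨⟨Matrix.vecMulVec w₀ (w₀ ᵥ* Matrix.J (Fin m) F) *ᵥ x, ⟨x, rfl⟩⟩, ?_⟩
    intro h0
    have h1 := congrArg Subtype.val h0
    simp only [ZeroMemClass.coe_zero] at h1
    rw [Matrix.vecMulVec_mulVec, op_smul_eq_smul, vecMul_J_dot] at h1
    rcases smul_eq_zero.1 h1 with h | h
    · exact hx h
    · exact hw₀ h
  · rw [hsub, Matrix.vecMulVec_mul_vecMulVec, vecMul_J_dot, om_self, zero_smul]
    ext i j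
    simp [Matrix.vecMulVec_apply]

section chartwo

variable [Fintype F] [CharP F 2]

theorem A3_transpose (w₀ : I2 → F) : (A3 w₀)ᵀ = A3 w₀ := by
  unfold A3
  rw [Matrix.transpose_add, Matrix.J_transpose]
  congr 1
  · ext i j
    rw [Matrix.neg_apply, CharTwo.neg_eq]
  · ext i j
    simp [Matrix.vecMulVec_apply, mul_comm]

/-- isometries of `J + s sᵀ` are the symplectic matrices fixing `w₀` -/
theorem isometry_A3_iff (w₀ : I2 → F) (k : GL I2 F) :
    (∀ u v : I2 → F, ((k : Matrix I2 I2 F) *ᵥ u) ⬝ᵥ A3 w₀ *ᵥ ((k : Matrix I2 I2 F) *ᵥ v)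
        = u ⬝ᵥ A3 w₀ *ᵥ v) ↔
      ((k : Matrix I2 I2 F) ∈ Matrix.symplecticGroup (Fin m) F ∧
        (k : Matrix I2 I2 F) *ᵥ w₀ = w₀) := by
  set K : Matrix I2 I2 F := (k : Matrix I2 I2 F) with hK
  set K' : Matrix I2 I2 F := ((k⁻¹ : GL I2 F) : Matrix I2 I2 F) with hK'
  have hKK' : K * K' = 1 := by rw [hK, hK', ← Units.val_mul, mul_inv_cancel, Units.val_one]
  constructor
  · intro h
    have h1 : ∀ v, om w₀ (K *ᵥ v) = om w₀ v := by
      intro v
      have := h v v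
      rw [A3_quad, A3_quad] at this
      exact CharTwo.sq_injective this
    have h2 : ∀ u v, om (K *ᵥ u) (K *ᵥ v) = om u v := by
      intro u v
      have := h u v
      rw [A3_form, A3_form, h1, h1] at this
      exact add_right_cancel this
    refine ⟨mem_symplectic_iff_om.2 h2, ?_⟩
    have h3 : K *ᵥ w₀ - w₀ = 0 := by
      apply om_eq_zero_of_forall
      intro x
      have hx : x = K *ᵥ (K' *ᵥ x) := by rw [Matrix.mulVec_mulVec, hKK', Matrix.one_mulVec]
      rw [om_sub_right, om_swap _ x, om_swap _ x]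
      conv_lhs => rw [hx]
      rw [h2, h1, sub_self]
    exact sub_eq_zero.1 h3
  · rintro ⟨hsp, hw⟩ u v
    have h2 := mem_symplectic_iff_om.1 hsp
    have h1 : ∀ v, om w₀ (K *ᵥ v) = om w₀ v := by
      intro v
      conv_lhs => rw [← hw]
      exact h2 w₀ v
    rw [A3_form, A3_form, h2, h1, h1]

/-- the centralizer of the transvection consists of the symplectic matrices fixing `w₀` -/
theorem mem_centralizer_tw_iff (w₀ : I2 → F) (hw₀ : w₀ ≠ 0)
    (A : Matrix.symplecticGroup (Fin m) F) :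
    A ∈ Subgroup.centralizer ({tw w₀} : Set (Matrix.symplecticGroup (Fin m) F)) ↔
      (A : Matrix I2 I2 F) *ᵥ w₀ = w₀ := by
  classical
  have h2 := mem_symplectic_iff_om.1 A.2
  rw [Subgroup.mem_centralizer_singleton_iff]
  constructor
  · intro h
    have h1 : ∀ x, ((tw w₀ : Matrix.symplecticGroup (Fin m) F) : Matrix I2 I2 F) *ᵥ
        ((A : Matrix I2 I2 F) *ᵥ x)
        = (A : Matrix I2 I2 F) *ᵥ
          (((tw w₀ : Matrix.symplecticGroup (Fin m) F) : Matrix I2 I2 F) *ᵥ x) := by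
      intro x
      rw [Matrix.mulVec_mulVec, Matrix.mulVec_mulVec]
      have h' : (A : Matrix I2 I2 F) * ((tw w₀ : Matrix.symplecticGroup (Fin m) F) : Matrix I2 I2 F)
          = ((tw w₀ : Matrix.symplecticGroup (Fin m) F) : Matrix I2 I2 F) * (A : Matrix I2 I2 F) :=
        congrArg Subtype.val h
      rw [h']
    have h3 : ∀ x, om w₀ ((A : Matrix I2 I2 F) *ᵥ x) • w₀
        = om w₀ x • ((A : Matrix I2 I2 F) *ᵥ w₀) := by
      intro x
      have := h1 x
      rw [tw_mulVec, tw_mulVec, Matrix.mulVec_add, Matrix.mulVec_smul] at this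
      exact add_left_cancel this
    obtain ⟨x₀, hx₀⟩ := exists_om_ne_zero hw₀
    set x₁ : I2 → F := (om w₀ x₀)⁻¹ • x₀ with hx₁
    have hx₁1 : om w₀ x₁ = 1 := by rw [hx₁, om_smul_right, inv_mul_cancel₀ hx₀]
    set lam : F := om w₀ ((A : Matrix I2 I2 F) *ᵥ x₁) with hlam
    have h4 : (A : Matrix I2 I2 F) *ᵥ w₀ = lam • w₀ := by
      have := h3 x₁
      rw [hx₁1, one_smul] at this
      exact this.symm
    have h5 : lam * lam = 1 := by
      have := h2 w₀ x₁
      rw [h4, om_smul_left, hx₁1] at this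
      exact this
    have h6 : lam = 1 := by
      apply CharTwo.sq_injective
      simp only
      rw [pow_two, h5, one_pow]
    rw [h4, h6, one_smul]
  · intro hw
    apply Subtype.ext
    show (A : Matrix I2 I2 F) * ((tw w₀ : Matrix.symplecticGroup (Fin m) F) : Matrix I2 I2 F)
      = ((tw w₀ : Matrix.symplecticGroup (Fin m) F) : Matrix I2 I2 F) * (A : Matrix I2 I2 F)
    symm
    apply Matrix.toLin'.injective
    apply LinearMap.ext
    intro x
    rw [Matrix.toLin'_apply, Matrix.toLin'_apply, ← Matrix.mulVec_mulVec, ← Matrix.mulVec_mulVec,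
      tw_mulVec, tw_mulVec, Matrix.mulVec_add, Matrix.mulVec_smul, hw]
    congr 2
    conv_lhs => rw [← hw]
    exact h2 w₀ x

/-- the centralizer of the transvection in `Sp_{2m}` is the projective similarity group of
`J + s sᵀ` -/
theorem centralizer_tw_equiv (hm : 1 ≤ m) (w₀ : I2 → F) (hw₀ : w₀ ≠ 0) :
    Nonempty (↥(Subgroup.centralizer ({tw w₀} : Set (Matrix.symplecticGroup (Fin m) F)))
      ≃* Cfsg.projQuot (sim3 w₀)) := by
  classical
  set Θ : ↥(Subgroup.centralizer ({tw w₀} : Set (Matrix.symplecticGroup (Fin m) F)))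
      →* GL I2 F := (spGLhom m F).comp (Subgroup.subtype _) with hΘ
  have hΘinj : Function.Injective Θ := by
    intro a b h
    exact Subtype.ext (spGLhom_injective m h)
  have key : Nonempty (↥Θ.range ≃* Cfsg.projQuot (sim3 w₀)) := by
    apply projQuot_equiv_of_complement
    · rintro k ⟨a, rfl⟩
      refine ⟨1, fun u v => ?_⟩
      rw [Units.val_one, one_mul]
      exact (isometry_A3_iff w₀ _).2 ⟨a.1.2, (mem_centralizer_tw_iff w₀ hw₀ a.1).1 a.2⟩ u v
    · rintro k ⟨a, rfl⟩ hsc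
      rw [Cfsg.Geo.mem_scalars_iff] at hsc
      obtain ⟨c, hc⟩ := hsc
      have h3 : (c : F) = 1 := symplectic_scalar_eq_one m hm a.1 c hc
      apply Units.ext
      rw [hc, h3, one_smul, Units.val_one]
    · rintro k ⟨c, hc⟩
      have hc' : ∀ u v : I2 → F, ((k : Matrix I2 I2 F) *ᵥ u) ⬝ᵥ A3 w₀ *ᵥ ((k : Matrix I2 I2 F) *ᵥ v)
          = (c : F) * (u ⬝ᵥ A3 w₀ *ᵥ v) := hc
      obtain ⟨μ, hμ⟩ := exists_sq_eq (c : F)
      have hμ0 : μ ≠ 0 := by
        rintro rfl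
        rw [zero_pow two_ne_zero] at hμ
        exact c.ne_zero hμ.symm
      refine ⟨scalarGLgen (Units.mk0 μ hμ0)⁻¹, scalarGLgen_mem _, ?_⟩
      have hiso := (isometry_A3_iff w₀ (k * scalarGLgen (Units.mk0 μ hμ0)⁻¹)).1 (by
        intro u v
        rw [Units.val_mul, scalarGLgen_coe, Matrix.mul_smul, Matrix.mul_one, Matrix.smul_mulVec,
          Matrix.smul_mulVec, Matrix.mulVec_smul, dotProduct_smul, smul_dotProduct, hc', ← hμ,
          Units.val_inv_eq_inv_val, Units.val_mk0, smul_eq_mul, smul_eq_mul]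
        field_simp)
      refine ⟨⟨⟨_, hiso.1⟩, (mem_centralizer_tw_iff w₀ hw₀ _).2 hiso.2⟩, Units.ext rfl⟩
  obtain ⟨e⟩ := key
  exact ⟨(MonoidHom.ofInjective hΘinj).trans e⟩

/-- the graph automorphism of symmetric non-alternating type -/
noncomputable def g3 (w₀ : I2 → F) : GL (Fin (2 * m)) F := reindexGL m (A3GL w₀)

theorem g3_transpose (w₀ : I2 → F) :
    ((g3 w₀ : GL (Fin (2 * m)) F) : Matrix (Fin (2 * m)) (Fin (2 * m)) F)ᵀ
      = ((g3 w₀ : GL (Fin (2 * m)) F) : Matrix (Fin (2 * m)) (Fin (2 * m)) F) := by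
  unfold g3
  rw [reindexGL_transpose, A3GL_coe, A3_transpose]
  rfl

theorem centralizer_g3 (hm : 1 ≤ m) (w₀ : I2 → F) (hw₀ : w₀ ≠ 0) :
    Nonempty (↥(Cfsg.inndiagPSL (2 * m) F ⊓ Subgroup.centralizer {graphAut (g3 w₀)})
      ≃* ↥(Subgroup.centralizer ({tw w₀} : Set (Matrix.symplecticGroup (Fin m) F)))) := by
  obtain ⟨e1⟩ := centralizer_graphAut_equiv (Pre m F) (Pre' m F) (Pre_mul_Pre' m) (Pre'_mul_Pre m)
    (g3 w₀) (sim3 w₀) (fun k => by
      unfold g3
      rw [Pre_reindexGL_Pre, A3GL_coe, mem_sim3_iff])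
  obtain ⟨e2⟩ := centralizer_tw_equiv hm w₀ hw₀
  exact ⟨e1.trans e2.symm⟩

end chartwo

end Cfsg.Agent.Helper7.GraphPSL
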