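import Cfsg.Agent.Helper7.GraphPSL15

/-!
# Graph automorphisms of `PSL_n`, part 16 (helper7)

Characteristic 2, even dimension: every symmetric non-alternating invertible matrix is congruent
to `J + s sᵀ`.
-/

set_option autoImplicit false
set_option linter.unusedSectionVars false

namespace Cfsg.Agent.Helper7.GraphPSL

open scoped Matrix
open Cfsg.Agent.Helper2.Sp

variable {F : Type*} [Field F] {m : ℕ}

local notation "I2" => Fin m ⊕ Fin m

theorem rect_eq_of_forall {I J : Type*} [Fintype I] [Fintype J] [DecidableEq J]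
    (N : Matrix I J F) (A : Matrix I I F) (C : Matrix J J F)
    (h : ∀ a b : J → F, (N *ᵥ a) ⬝ᵥ A *ᵥ (N *ᵥ b) = a ⬝ᵥ C *ᵥ b) : Nᵀ * A * N = C := by
  ext i j
  have := h (Pi.single i 1) (Pi.single j 1)
  rw [dot_mulVec_rect, Matrix.mulVec_single_one, single_dotProduct, one_mul,
    Matrix.mulVec_single_one, single_dotProduct, one_mul] at this
  exact this

section chartwo

variable [Fintype F] [CharP F 2]

/-- a symmetric non-alternating invertible matrix of even size over a finite field of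
characteristic 2 gives a graph automorphism conjugate to `graphAut (g3 w₀)` -/
theorem isConjUnder_of_nonalt (w₀ : I2 → F) (hw₀ : w₀ ≠ 0)
    (g : GL (Fin (2 * m)) F)
    (hg : (g : Matrix (Fin (2 * m)) (Fin (2 * m)) F)ᵀ
      = (g : Matrix (Fin (2 * m)) (Fin (2 * m)) F))
    (hna : ∃ v : Fin (2 * m) → F,
      v ⬝ᵥ (g : Matrix (Fin (2 * m)) (Fin (2 * m)) F) *ᵥ v ≠ 0) :
    Cfsg.IsConjUnder (Cfsg.inndiagPSL (2 * m) F) (graphAut (g3 w₀)) (graphAut g) := by
  classical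
  apply isConjUnder_symm
  set G : Matrix (Fin (2 * m)) (Fin (2 * m)) F :=
    (g : Matrix (Fin (2 * m)) (Fin (2 * m)) F) with hG
  set G' : Matrix (Fin (2 * m)) (Fin (2 * m)) F :=
    ((g⁻¹ : GL (Fin (2 * m)) F) : Matrix (Fin (2 * m)) (Fin (2 * m)) F) with hG'
  have hGG' : G * G' = 1 := by rw [hG, hG', ← Units.val_mul, mul_inv_cancel, Units.val_one]
  have hG'G : G' * G = 1 := by rw [hG, hG', ← Units.val_mul, inv_mul_cancel, Units.val_one]
  obtain ⟨s, hs, hsq⟩ := exists_sqrt_form G hg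
  have hs0 : s ≠ 0 := by
    rintro rfl
    obtain ⟨v, hv⟩ := hna
    apply hv
    rw [hsq, zero_dotProduct, zero_pow two_ne_zero]
  have hsymm : ∀ u v : Fin (2 * m) → F, v ⬝ᵥ G *ᵥ u = u ⬝ᵥ G *ᵥ v := by
    intro u v
    rw [Matrix.dotProduct_mulVec, ← Matrix.mulVec_transpose, hg, dotProduct_comm]
  set w : Fin (2 * m) → F := G' *ᵥ s with hw
  have hGw : G *ᵥ w = s := by rw [hw, Matrix.mulVec_mulVec, hGG', Matrix.one_mulVec]
  have hwv : ∀ v, w ⬝ᵥ G *ᵥ v = s ⬝ᵥ v := by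
    intro v
    rw [← hsymm, hGw, dotProduct_comm]
  set Gt : Matrix (Fin (2 * m)) (Fin (2 * m)) F := G + Matrix.vecMulVec s s with hGt
  have hGtv : ∀ v, Gt *ᵥ v = G *ᵥ v + (s ⬝ᵥ v) • s := by
    intro v
    rw [hGt, Matrix.add_mulVec, Matrix.vecMulVec_mulVec, op_smul_eq_smul]
  have hGtuv : ∀ u v, u ⬝ᵥ Gt *ᵥ v = u ⬝ᵥ G *ᵥ v + (s ⬝ᵥ u) * (s ⬝ᵥ v) := by
    intro u v
    rw [hGtv, dotProduct_add, dotProduct_smul, smul_eq_mul, dotProduct_comm u s]
    ring
  have hGtalt : ∀ v, v ⬝ᵥ Gt *ᵥ v = 0 := by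
    intro v
    rw [hGtuv, hsq, pow_two]
    exact CharTwo.add_self_eq_zero _
  set B : LinearMap.BilinForm F (Fin (2 * m) → F) := Matrix.toBilin' G with hB
  set Bt : LinearMap.BilinForm F (Fin (2 * m) → F) := Matrix.toBilin' Gt with hBt
  have hBapp : ∀ u v, B u v = u ⬝ᵥ G *ᵥ v := fun u v => Matrix.toBilin'_apply' G u v
  have hBtapp : ∀ u v, Bt u v = u ⬝ᵥ Gt *ᵥ v := fun u v => Matrix.toBilin'_apply' Gt u v
  have hBtalt : Bt.IsAlt := fun v => by rw [hBtapp, hGtalt]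
  have hdet : G.det ≠ 0 := ((Matrix.isUnit_iff_isUnit_det _).1 g.isUnit).ne_zero
  have hnd : B.Nondegenerate := LinearMap.BilinForm.nondegenerate_toBilin'_iff_det_ne_zero.2 hdet
  -- `s ⬝ᵥ w = 0`
  have hsw : s ⬝ᵥ w = 0 := by
    by_contra hne
    have h01 : (s ⬝ᵥ w) ^ 2 = s ⬝ᵥ w := by rw [← hsq, hwv]
    have hsw1 : s ⬝ᵥ w = 1 := by
      have : (s ⬝ᵥ w) * (s ⬝ᵥ w - 1) = 0 := by linear_combination h01
      rcases mul_eq_zero.1 this with h | h
      · exact absurd h hne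
      · exact sub_eq_zero.1 h
    set U : Submodule F (Fin (2 * m) → F) := LinearMap.ker (B w) with hU
    have hUmem : ∀ v, v ∈ U ↔ s ⬝ᵥ v = 0 := by
      intro v
      rw [hU, LinearMap.mem_ker, hBapp, hwv]
    have hUdim : Module.finrank F U + 1 = 2 * m := by
      have h1 := LinearMap.finrank_range_add_finrank_ker (B w)
      have h2 : LinearMap.range (B w) = ⊤ := by
        rw [LinearMap.range_eq_top]
        intro t
        refine ⟨t • w, ?_⟩
        rw [map_smul, hBapp, hwv, hsw1, smul_eq_mul, mul_one]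
      rw [h2, finrank_top, Module.finrank_self, Module.finrank_fintype_fun_eq_card,
        Fintype.card_fin] at h1
      rw [hU]
      omega
    have hUnd : ∀ u ∈ U, (∀ v ∈ U, Bt u v = 0) → u = 0 := by
      intro u huU hu
      apply hnd.1 u
      intro v
      have hsu : s ⬝ᵥ u = 0 := (hUmem u).1 huU
      have hv' : v - (s ⬝ᵥ v) • w ∈ U := by
        rw [hUmem, dotProduct_sub, dotProduct_smul, hsw1, smul_eq_mul, mul_one, sub_self]
      have h1 := hu _ hv'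
      rw [hBtapp, hGtuv, hsu, zero_mul, add_zero, Matrix.mulVec_sub, dotProduct_sub,
        Matrix.mulVec_smul, dotProduct_smul] at h1
      have h3 : u ⬝ᵥ G *ᵥ w = 0 := by rw [hsymm w u, hwv, hsu]
      rw [h3, smul_zero, sub_zero] at h1
      rw [hBapp]
      exact h1
    have hker : LinearMap.ker (Bt.restrict U) = ⊥ := by
      rw [LinearMap.ker_eq_bot']
      intro x hx
      apply Subtype.ext
      apply hUnd x x.2
      intro v hv
      have := congrArg (fun φ : ↥U →ₗ[F] F => φ ⟨v, hv⟩) hx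
      exact this
    obtain ⟨k, hk⟩ := Cfsg.Agent.Helper11.AltRank.alt_finrank (Module.finrank F U) ↥U
      (Bt.restrict U) (fun x => hBtalt x.1) rfl
    rw [hker, finrank_bot] at hk
    omega
  -- `Gt` is nondegenerate
  have hGtdet : Gt.det ≠ 0 := by
    intro h0
    obtain ⟨u, hu0, hu⟩ := Matrix.exists_mulVec_eq_zero_iff.2 h0
    rw [hGtv] at hu
    have h1 : G *ᵥ u = (s ⬝ᵥ u) • s := by
      funext i
      exact CharTwo.add_eq_zero.1 (congrFun hu i)
    have h2 : u = (s ⬝ᵥ u) • w := by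
      calc u = G' *ᵥ (G *ᵥ u) := by rw [Matrix.mulVec_mulVec, hG'G, Matrix.one_mulVec]
        _ = _ := by rw [h1, Matrix.mulVec_smul]
    have h3 : s ⬝ᵥ u = 0 := by
      have : s ⬝ᵥ u = (s ⬝ᵥ u) * (s ⬝ᵥ w) := by
        conv_lhs => rw [h2]
        rw [dotProduct_smul, smul_eq_mul]
      rw [this, hsw, mul_zero]
    rw [h3, zero_smul] at h2
    exact hu0 h2
  have hndt : Bt.Nondegenerate :=
    LinearMap.BilinForm.nondegenerate_toBilin'_iff_det_ne_zero.2 hGtdet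
  obtain ⟨e, f, -, -, hee, hff, hef⟩ :=
    Cfsg.Agent.Helper28.SympFrame.exists_alt_frame Bt hBtalt m ⊤ (by
      rw [finrank_top, Module.finrank_fintype_fun_eq_card, Fintype.card_fin])
      (fun u _ hu => hndt.1 u (fun v => hu v Submodule.mem_top))
  set x : I2 → (Fin (2 * m) → F) := Sum.elim f e with hx
  have hxJ : ∀ a b, Bt (x a) (x b) = Matrix.J (Fin m) F a b := frame_J Bt hBtalt e f hee hff hef
  set N₁ : Matrix (Fin (2 * m)) I2 F := Matrix.of (fun i a => x a i) with hN₁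
  have hNcol : ∀ a, N₁ *ᵥ Pi.single a 1 = x a := by
    intro a
    rw [Matrix.mulVec_single_one]
    rfl
  have hNJ : N₁ᵀ * Gt * N₁ = Matrix.J (Fin m) F := by
    ext a b
    have := hxJ a b
    rw [hBtapp, ← hNcol a, ← hNcol b, dot_mulVec_rect, Matrix.mulVec_single_one, single_dotProduct,
      one_mul] at this
    exact this
  -- `N₁` is invertible
  set N₁' : Matrix I2 (Fin (2 * m)) F := (-Matrix.J (Fin m) F) * N₁ᵀ * Gt with hN₁'
  have hN1 : N₁' * N₁ = 1 := by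
    rw [hN₁', Matrix.mul_assoc, Matrix.mul_assoc, ← Matrix.mul_assoc N₁ᵀ, hNJ, neg_J_mul_J]
  have hN2 : N₁ * N₁' = 1 := by
    rw [Matrix.mul_eq_one_comm_of_card_eq]
    · exact hN1
    · simp only [Fintype.card_sum, Fintype.card_fin]
      omega
  have hform1 : ∀ a b : I2 → F, (N₁ *ᵥ a) ⬝ᵥ G *ᵥ (N₁ *ᵥ b)
      = om a b + (s ⬝ᵥ N₁ *ᵥ a) * (s ⬝ᵥ N₁ *ᵥ b) := by
    intro a b
    have h1 : (N₁ *ᵥ a) ⬝ᵥ Gt *ᵥ (N₁ *ᵥ b) = om a b := by
      rw [dot_mulVec_rect, hNJ]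
      rfl
    rw [hGtuv] at h1
    rw [← h1, add_assoc, CharTwo.add_self_eq_zero, add_zero]
  set s' : I2 → F := N₁ᵀ *ᵥ s with hs'
  have hs'dot : ∀ a : I2 → F, s ⬝ᵥ N₁ *ᵥ a = s' ⬝ᵥ a := by
    intro a
    rw [hs', Matrix.dotProduct_mulVec, Matrix.mulVec_transpose]
  have hs'0 : s' ≠ 0 := by
    intro h0
    apply hs0
    funext i
    have h1 := hs'dot (N₁' *ᵥ Pi.single i 1)
    rw [Matrix.mulVec_mulVec, hN2, Matrix.one_mulVec, dotProduct_single, mul_one, h0,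
      zero_dotProduct] at h1
    exact h1
  set s₀ : I2 → F := w₀ ᵥ* Matrix.J (Fin m) F with hs₀
  have hs₀0 : s₀ ≠ 0 := by
    intro h0
    obtain ⟨y, hy⟩ := exists_om_ne_zero hw₀
    apply hy
    rw [← vecMul_J_dot, ← hs₀, h0, zero_dotProduct]
  obtain ⟨B₀, hB₀⟩ := exists_symplectic_mulVec_eq s' s₀ hs'0 hs₀0
  set A : Matrix I2 I2 F := (B₀ : Matrix I2 I2 F)ᵀ with hA
  have hAsp : A ∈ Matrix.symplecticGroup (Fin m) F := SymplecticGroup.transpose_mem B₀.2
  have hAs : ∀ a : I2 → F, s' ⬝ᵥ A *ᵥ a = om w₀ a := by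
    intro a
    rw [Matrix.dotProduct_mulVec, hA, Matrix.vecMul_transpose, hB₀, hs₀, vecMul_J_dot]
  set N : Matrix (Fin (2 * m)) I2 F := N₁ * A with hN
  have hNA3 : Nᵀ * G * N = A3 w₀ := by
    apply rect_eq_of_forall
    intro a b
    rw [hN, ← Matrix.mulVec_mulVec, ← Matrix.mulVec_mulVec, hform1, hs'dot, hs'dot, hAs, hAs,
      mem_symplectic_iff_om.1 hAsp, A3_form]
  set K : Matrix (Fin (2 * m)) (Fin (2 * m)) F := N * Pre' m F with hK
  have hKG : Kᵀ * G * K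
      = ((g3 w₀ : GL (Fin (2 * m)) F) : Matrix (Fin (2 * m)) (Fin (2 * m)) F) := by
    unfold g3
    rw [reindexGL_coe, A3GL_coe, ← hNA3, hK, Matrix.transpose_mul]
    simp only [Matrix.mul_assoc]
  have hKdet : K.det ≠ 0 := by
    intro h0
    have h1 : ((g3 w₀ : GL (Fin (2 * m)) F) : Matrix (Fin (2 * m)) (Fin (2 * m)) F).det
        ≠ 0 := ((Matrix.isUnit_iff_isUnit_det _).1 (g3 w₀).isUnit).ne_zero
    apply h1
    rw [← hKG, Matrix.det_mul, Matrix.det_mul, h0, mul_zero]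
  rw [isConjUnder_graphAut_iff]
  refine ⟨gT (Matrix.GeneralLinearGroup.mkOfDetNeZero K hKdet), 1, ?_⟩
  rw [Units.val_one, one_smul, gT_coe, Matrix.transpose_transpose]
  exact hKG.symm

/-- `g3 w₀` is not alternating -/
theorem g3_not_alt (w₀ : I2 → F) (hw₀ : w₀ ≠ 0) :
    ∃ v : Fin (2 * m) → F,
      v ⬝ᵥ ((g3 w₀ : GL (Fin (2 * m)) F) : Matrix (Fin (2 * m)) (Fin (2 * m)) F) *ᵥ v ≠ 0 := by
  obtain ⟨y, hy⟩ := exists_om_ne_zero hw₀
  refine ⟨Pre m F *ᵥ y, ?_⟩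
  unfold g3
  rw [reindexGL_quad, Matrix.mulVec_mulVec, Pre'_mul_Pre, Matrix.one_mulVec, A3GL_coe, A3_quad]
  exact pow_ne_zero _ hy

end chartwo

end Cfsg.Agent.Helper7.GraphPSL
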