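import Cfsg.Agent.Helper7.GraphPSL1

/-!
# Graph automorphisms of `PSL_n`, part 2 (helper7)

Kernel of `cGL` (the scalars), the relation `iotaT * cGL g * iotaT = cGL (g⁻ᵀ)`, and the
condition for `cGL h` to commute with `cGL g₀ * iotaT`.
-/

set_option autoImplicit false
set_option linter.unusedSectionVars false

namespace Cfsg.Agent.Helper7.GraphPSL

open Matrix

variable {n : ℕ} {F : Type*} [Field F]

section general

variable {ι : Type*} [Fintype ι] [DecidableEq ι]

/-- transpose of an invertible matrix -/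
def gT (g : GL ι F) : GL ι F :=
  ⟨(g : Matrix ι ι F)ᵀ, ((g⁻¹ : GL ι F) : Matrix ι ι F)ᵀ, by
    rw [← Matrix.transpose_mul, ← Units.val_mul, inv_mul_cancel, Units.val_one,
      Matrix.transpose_one], by
    rw [← Matrix.transpose_mul, ← Units.val_mul, mul_inv_cancel, Units.val_one,
      Matrix.transpose_one]⟩

theorem gT_coe (g : GL ι F) : ((gT g : GL ι F) : Matrix ι ι F) = (g : Matrix ι ι F)ᵀ := rfl

theorem gT_inv_coe (g : GL ι F) :
    (((gT g)⁻¹ : GL ι F) : Matrix ι ι F) = ((g⁻¹ : GL ι F) : Matrix ι ι F)ᵀ := rfl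

theorem gT_mul (g h : GL ι F) : gT (g * h) = gT h * gT g := by
  apply Units.ext
  rw [Units.val_mul, gT_coe, gT_coe, gT_coe, Units.val_mul, Matrix.transpose_mul]

theorem gT_gT (g : GL ι F) : gT (gT g) = g := by
  apply Units.ext
  rw [gT_coe, gT_coe, Matrix.transpose_transpose]

theorem gT_inv (g : GL ι F) : gT g⁻¹ = (gT g)⁻¹ := by
  apply Units.ext
  rw [gT_coe, gT_inv_coe]

/-- inverse-transpose as an automorphism of `GL` -/
def invTGL : GL ι F →* GL ι F where
  toFun g := gT g⁻¹
  map_one' := by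
    apply Units.ext
    rw [inv_one, gT_coe, Units.val_one, Matrix.transpose_one]
  map_mul' g h := by
    rw [_root_.mul_inv_rev, gT_mul]

theorem invTGL_coe (g : GL ι F) :
    ((invTGL g : GL ι F) : Matrix ι ι F) = ((g⁻¹ : GL ι F) : Matrix ι ι F)ᵀ := rfl

theorem invTGL_inv_coe (g : GL ι F) :
    (((invTGL g)⁻¹ : GL ι F) : Matrix ι ι F) = (g : Matrix ι ι F)ᵀ := by
  have : (invTGL g)⁻¹ = gT g := by
    show (gT g⁻¹)⁻¹ = gT g
    rw [gT_inv, inv_inv]
  rw [this, gT_coe]

theorem invTGL_invTGL (g : GL ι F) : invTGL (invTGL g) = g := by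
  apply Units.ext
  rw [invTGL_coe, invTGL_inv_coe, Matrix.transpose_transpose]

theorem invTGL_surjective : Function.Surjective (invTGL : GL ι F →* GL ι F) :=
  fun g => ⟨invTGL g, invTGL_invTGL g⟩

end general

/-- `ι c(g) ι = c(g⁻ᵀ)` on the level of `SL_n` -/
theorem invT_conjSL_invT (g : GL (Fin n) F) (s : Matrix.SpecialLinearGroup (Fin n) F) :
    invT (conjSL g (invT s)) = conjSL (invTGL g) s := by
  have hinv : (conjSL g (invT s))⁻¹ = conjSL g s.transpose := by
    apply inv_eq_of_mul_eq_one_right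
    rw [← map_mul]
    have h1 : invT s * s.transpose = 1 := by
      apply Subtype.ext
      rw [Matrix.SpecialLinearGroup.coe_mul, invT_coe, Matrix.SpecialLinearGroup.coe_transpose,
        ← Matrix.transpose_mul, ← Matrix.SpecialLinearGroup.coe_mul, mul_inv_cancel,
        Matrix.SpecialLinearGroup.coe_one, Matrix.transpose_one]
    rw [h1, map_one]
  apply Subtype.ext
  rw [invT_coe, hinv, conjSL_coe, conjSL_coe, Matrix.SpecialLinearGroup.coe_transpose,
    Matrix.transpose_mul, Matrix.transpose_mul, Matrix.transpose_transpose, invTGL_coe,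
    invTGL_inv_coe, Matrix.mul_assoc]

theorem iotaT_cGL_iotaT (g : GL (Fin n) F) :
    (iotaT : MulAut (Matrix.ProjectiveSpecialLinearGroup (Fin n) F)) * cGL g * iotaT
      = cGL (invTGL g) := by
  ext x
  induction x using QuotientGroup.induction_on with
  | H s =>
    rw [MulAut.mul_apply, MulAut.mul_apply, iotaT_mk, cGL_mk, iotaT_mk, cGL_mk, invT_conjSL_invT]

theorem iotaT_mul_cGL (g : GL (Fin n) F) :
    (iotaT : MulAut (Matrix.ProjectiveSpecialLinearGroup (Fin n) F)) * cGL g
      = cGL (invTGL g) * iotaT := by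
  rw [← iotaT_cGL_iotaT, mul_assoc, iotaT_mul_self, mul_one]

/-- scalar matrices act trivially -/
theorem cGL_of_mem_scalars (g : GL (Fin n) F) (hg : g ∈ Cfsg.Geo.scalars (Fin n) F) :
    cGL g = 1 := by
  rw [Cfsg.Geo.mem_scalars_iff] at hg
  obtain ⟨c, hc⟩ := hg
  have hcinv : ((g⁻¹ : GL (Fin n) F) : Matrix (Fin n) (Fin n) F)
      = ((c⁻¹ : Fˣ) : F) • (1 : Matrix (Fin n) (Fin n) F) := by
    have h1 : (g : Matrix (Fin n) (Fin n) F) * (((c⁻¹ : Fˣ) : F) • (1 : Matrix (Fin n) (Fin n) F))
        = 1 := by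
      rw [hc, Matrix.smul_mul, Matrix.one_mul, smul_smul, ← Units.val_mul, mul_inv_cancel,
        Units.val_one, one_smul]
    calc ((g⁻¹ : GL (Fin n) F) : Matrix (Fin n) (Fin n) F)
        = ((g⁻¹ : GL (Fin n) F) : Matrix (Fin n) (Fin n) F) * ((g : Matrix (Fin n) (Fin n) F) *
            (((c⁻¹ : Fˣ) : F) • (1 : Matrix (Fin n) (Fin n) F))) := by rw [h1, Matrix.mul_one]
      _ = _ := by
        rw [← Matrix.mul_assoc, ← Units.val_mul, inv_mul_cancel, Units.val_one, Matrix.one_mul]
  ext x
  induction x using QuotientGroup.induction_on with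
  | H s =>
    rw [cGL_mk, MulAut.one_apply]
    congr 1
    apply Subtype.ext
    rw [conjSL_coe, hc, hcinv, Matrix.smul_mul, Matrix.one_mul, Matrix.mul_smul, Matrix.mul_one,
      smul_smul, ← Units.val_mul, inv_mul_cancel, Units.val_one, one_smul]

/-- the kernel of `cGL` consists of scalar matrices -/
theorem mem_scalars_of_cGL_eq_one (g : GL (Fin n) F) (hg : cGL g = 1) :
    g ∈ Cfsg.Geo.scalars (Fin n) F := by
  classical
  -- `g` commutes with all transvections
  have hcomm : ∀ i j : Fin n, i ≠ j →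
      Commute (Matrix.single i j (1 : F)) (g : Matrix (Fin n) (Fin n) F) := by
    intro i j hij
    set t : Matrix.SpecialLinearGroup (Fin n) F :=
      ⟨Matrix.transvection i j 1, Matrix.det_transvection_of_ne i j hij 1⟩ with ht
    have h1 : (QuotientGroup.mk (conjSL g t) : Matrix.ProjectiveSpecialLinearGroup (Fin n) F)
        = QuotientGroup.mk t := by
      rw [← cGL_mk, hg, MulAut.one_apply]
    rw [QuotientGroup.eq] at h1
    rw [Matrix.SpecialLinearGroup.mem_center_iff] at h1
    obtain ⟨r, -, hr⟩ := h1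
    -- `(conjSL g t)⁻¹ * t = r`, so `t = conjSL g t * r`
    have h3 : (t : Matrix (Fin n) (Fin n) F)
        = ((conjSL g t : Matrix.SpecialLinearGroup (Fin n) F) : Matrix (Fin n) (Fin n) F)
          * Matrix.scalar (Fin n) r := by
      rw [hr, ← Matrix.SpecialLinearGroup.coe_mul, mul_inv_cancel_left]
    have hE : (t : Matrix (Fin n) (Fin n) F) = 1 + Matrix.single i j 1 := rfl
    set E : Matrix (Fin n) (Fin n) F := Matrix.single i j 1 with hEdef
    have hEE : E * E = 0 := by
      rw [hEdef, Matrix.single_mul_single_of_ne _ _ _ _ (Ne.symm hij)]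
    have hsc : Matrix.scalar (Fin n) r = r • (1 : Matrix (Fin n) (Fin n) F) := by
      rw [Matrix.smul_one_eq_diagonal]
      rfl
    set G : Matrix (Fin n) (Fin n) F := (g : Matrix (Fin n) (Fin n) F) with hG
    set G' : Matrix (Fin n) (Fin n) F := ((g⁻¹ : GL (Fin n) F) : Matrix (Fin n) (Fin n) F) with hG'
    have hGG' : G * G' = 1 := by rw [hG, hG', ← Units.val_mul, mul_inv_cancel, Units.val_one]
    have hG'G : G' * G = 1 := by rw [hG, hG', ← Units.val_mul, inv_mul_cancel, Units.val_one]
    -- `1 + E = r • (G (1+E) G')`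
    have h4 : 1 + E = r • (G * (1 + E) * G') := by
      have h3' := h3
      rw [conjSL_coe, hsc, Matrix.mul_smul, Matrix.mul_one, hE] at h3'
      exact h3'
    have h5 : 1 + E = r • (1 + G * E * G') := by
      rw [h4, Matrix.mul_add, Matrix.mul_one, Matrix.add_mul, hGG']
    -- nilpotency forces `r = 1`
    have hNN : (G * E * G') * (G * E * G') = 0 := by
      calc (G * E * G') * (G * E * G') = G * E * (G' * G) * E * G' := by
            simp only [Matrix.mul_assoc]
        _ = 0 := by rw [hG'G, Matrix.mul_one, Matrix.mul_assoc G E E, hEE, Matrix.mul_zero,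
            Matrix.zero_mul]
    have hr0 : r ≠ 0 := by
      rintro rfl
      rw [zero_smul] at h5
      have := congrFun (congrFun h5 i) i
      rw [Matrix.add_apply, Matrix.one_apply_eq, hEdef, Matrix.single_apply_of_ne, add_zero,
        Matrix.zero_apply] at this
      · exact one_ne_zero this
      · rintro ⟨-, h⟩
        exact hij h.symm
    have h6 : G * E * G' = r⁻¹ • (1 + E) - 1 := by
      rw [h5, smul_smul, inv_mul_cancel₀ hr0, one_smul]
      abel
    have h7 : (r⁻¹ • (1 + E) - 1) * (r⁻¹ • (1 + E) - 1) = 0 := by rw [← h6, hNN]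
    have h8 := congrFun (congrFun h7 i) i
    have hEii : E i i = 0 := by
      rw [hEdef, Matrix.single_apply_of_ne]
      rintro ⟨-, h⟩
      exact hij h.symm
    have hexp : (r⁻¹ • (1 + E) - 1) * (r⁻¹ • (1 + E) - 1)
        = ((r⁻¹ - 1) * (r⁻¹ - 1)) • (1 : Matrix (Fin n) (Fin n) F)
          + (2 * r⁻¹ * (r⁻¹ - 1)) • E := by
      have e1 : r⁻¹ • (1 + E) - 1 = (r⁻¹ - 1) • (1 : Matrix (Fin n) (Fin n) F) + r⁻¹ • E := by
        rw [smul_add, sub_smul, one_smul]
        abel
      rw [e1, Matrix.add_mul, Matrix.mul_add, Matrix.mul_add]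
      simp only [Matrix.smul_mul, Matrix.mul_smul, Matrix.one_mul, Matrix.mul_one, hEE, smul_zero,
        add_zero, smul_smul]
      rw [add_assoc, ← add_smul]
      congr 2
      ring
    rw [hexp, Matrix.add_apply, Matrix.smul_apply, Matrix.smul_apply, Matrix.one_apply_eq, hEii,
      smul_zero, add_zero, Matrix.zero_apply, smul_eq_mul, mul_one] at h8
    have hr1 : r⁻¹ = 1 := by
      have := mul_self_eq_zero.1 h8
      linear_combination this
    have hr1' : r = 1 := by
      rw [← inv_inv r, hr1, inv_one]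
    -- so `G E G' = E`
    have h9 : G * E * G' = E := by
      rw [h6, hr1, one_smul]
      abel
    show E * G = G * E
    calc E * G = (G * E * G') * G := by rw [h9]
      _ = G * E := by rw [Matrix.mul_assoc, hG'G, Matrix.mul_one]
  have hmem := Matrix.mem_range_scalar_of_commute_single
    (M := (g : Matrix (Fin n) (Fin n) F)) (fun i j hij => hcomm i j hij)
  obtain ⟨c, hc⟩ := hmem
  rcases isEmpty_or_nonempty (Fin n) with he | hne
  · rw [Cfsg.Geo.mem_scalars_iff]
    exact ⟨1, Subsingleton.elim _ _⟩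
  have hc0 : c ≠ 0 := by
    rintro rfl
    rw [map_zero] at hc
    have := g.isUnit
    rw [← hc] at this
    exact (not_isUnit_zero (M₀ := Matrix (Fin n) (Fin n) F)) this
  rw [Cfsg.Geo.mem_scalars_iff]
  refine ⟨Units.mk0 c hc0, ?_⟩
  rw [← hc, Units.val_mk0, Matrix.smul_one_eq_diagonal]
  rfl

end Cfsg.Agent.Helper7.GraphPSL
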