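import Cfsg.Agent.Helper7.GraphPSL3

/-!
# Graph automorphisms of `PSL_n`, part 4 (helper7)

Transport along a change of coordinates `P : Matrix (Fin n) ι' F`: the centralizer of
`graphAut g₀` in `Inndiag(PSL_n)` is the projective similarity group of the bilinear form with
matrix `Pᵀ g₀ P`.
-/

set_option autoImplicit false
set_option linter.unusedSectionVars false

namespace Cfsg.Agent.Helper7.GraphPSL

open Matrix

variable {n : ℕ} {F : Type*} [Field F]
variable {ι' : Type} [Fintype ι'] [DecidableEq ι']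

/-- bilinear-form identity versus matrix identity -/
theorem form_eq_iff_matrix_eq (k A : Matrix ι' ι' F) (c : F) :
    (∀ u v : ι' → F, (k *ᵥ u) ⬝ᵥ A *ᵥ (k *ᵥ v) = c * (u ⬝ᵥ A *ᵥ v)) ↔ kᵀ * A * k = c • A := by
  have key : ∀ u v : ι' → F, (k *ᵥ u) ⬝ᵥ A *ᵥ (k *ᵥ v) = u ⬝ᵥ (kᵀ * A * k) *ᵥ v := by
    intro u v
    rw [← Matrix.mulVec_mulVec, ← Matrix.mulVec_mulVec, Matrix.dotProduct_mulVec u kᵀ,
      Matrix.vecMul_transpose]
  constructor
  · intro h
    ext i j
    have := h (Pi.single i 1) (Pi.single j 1)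
    rw [key, Matrix.mulVec_single_one, single_dotProduct, one_mul, Matrix.mulVec_single_one,
      single_dotProduct, one_mul] at this
    rw [Matrix.smul_apply, smul_eq_mul]
    exact this
  · intro h u v
    rw [key, h, Matrix.smul_mulVec, dotProduct_smul, smul_eq_mul]

section transport

variable (P : Matrix (Fin n) ι' F) (P' : Matrix ι' (Fin n) F)

/-- conjugation by a change of coordinates, as a hom of general linear groups -/
def conjP (h1 : P * P' = 1) (h2 : P' * P = 1) : GL ι' F →* GL (Fin n) F where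
  toFun k := ⟨P * (k : Matrix ι' ι' F) * P', P * ((k⁻¹ : GL ι' F) : Matrix ι' ι' F) * P', by
    calc P * (k : Matrix ι' ι' F) * P' * (P * ((k⁻¹ : GL ι' F) : Matrix ι' ι' F) * P')
        = P * ((k : Matrix ι' ι' F) * ((P' * P) * ((k⁻¹ : GL ι' F) : Matrix ι' ι' F))) * P' := by
          simp only [Matrix.mul_assoc]
      _ = 1 := by
          rw [h2, Matrix.one_mul, ← Units.val_mul, mul_inv_cancel, Units.val_one, Matrix.mul_one,
            h1], by
    calc P * ((k⁻¹ : GL ι' F) : Matrix ι' ι' F) * P' * (P * (k : Matrix ι' ι' F) * P')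
        = P * (((k⁻¹ : GL ι' F) : Matrix ι' ι' F) * ((P' * P) * (k : Matrix ι' ι' F))) * P' := by
          simp only [Matrix.mul_assoc]
      _ = 1 := by
          rw [h2, Matrix.one_mul, ← Units.val_mul, inv_mul_cancel, Units.val_one, Matrix.mul_one,
            h1]⟩
  map_one' := by
    apply Units.ext
    show P * ((1 : GL ι' F) : Matrix ι' ι' F) * P' = 1
    rw [Units.val_one, Matrix.mul_one, h1]
  map_mul' a b := by
    apply Units.ext
    show P * ((a * b : GL ι' F) : Matrix ι' ι' F) * P'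
      = (P * (a : Matrix ι' ι' F) * P') * (P * (b : Matrix ι' ι' F) * P')
    calc P * ((a * b : GL ι' F) : Matrix ι' ι' F) * P'
        = P * ((a : Matrix ι' ι' F) * (1 * (b : Matrix ι' ι' F))) * P' := by
          rw [Units.val_mul, Matrix.one_mul]
      _ = _ := by
          rw [← h2]
          simp only [Matrix.mul_assoc]

theorem conjP_coe (h1 : P * P' = 1) (h2 : P' * P = 1) (k : GL ι' F) :
    ((conjP P P' h1 h2 k : GL (Fin n) F) : Matrix (Fin n) (Fin n) F)
      = P * (k : Matrix ι' ι' F) * P' := rfl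

theorem conjP_surjective (h1 : P * P' = 1) (h2 : P' * P = 1) :
    Function.Surjective (conjP P P' h1 h2) := by
  intro g
  have e1 : P' * (g : Matrix (Fin n) (Fin n) F) * P
      * (P' * ((g⁻¹ : GL (Fin n) F) : Matrix (Fin n) (Fin n) F) * P) = 1 := by
    calc P' * (g : Matrix (Fin n) (Fin n) F) * P
          * (P' * ((g⁻¹ : GL (Fin n) F) : Matrix (Fin n) (Fin n) F) * P)
        = P' * ((g : Matrix (Fin n) (Fin n) F) * ((P * P')
          * ((g⁻¹ : GL (Fin n) F) : Matrix (Fin n) (Fin n) F))) * P := by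
          simp only [Matrix.mul_assoc]
      _ = 1 := by
          rw [h1, Matrix.one_mul, ← Units.val_mul, mul_inv_cancel, Units.val_one, Matrix.mul_one,
            h2]
  have e2 : P' * ((g⁻¹ : GL (Fin n) F) : Matrix (Fin n) (Fin n) F) * P
      * (P' * (g : Matrix (Fin n) (Fin n) F) * P) = 1 := by
    calc P' * ((g⁻¹ : GL (Fin n) F) : Matrix (Fin n) (Fin n) F) * P
          * (P' * (g : Matrix (Fin n) (Fin n) F) * P)
        = P' * (((g⁻¹ : GL (Fin n) F) : Matrix (Fin n) (Fin n) F) * ((P * P')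
          * (g : Matrix (Fin n) (Fin n) F))) * P := by
          simp only [Matrix.mul_assoc]
      _ = 1 := by
          rw [h1, Matrix.one_mul, ← Units.val_mul, inv_mul_cancel, Units.val_one, Matrix.mul_one,
            h2]
  refine ⟨⟨P' * (g : Matrix (Fin n) (Fin n) F) * P,
    P' * ((g⁻¹ : GL (Fin n) F) : Matrix (Fin n) (Fin n) F) * P, e1, e2⟩, ?_⟩
  apply Units.ext
  rw [conjP_coe]
  show P * (P' * (g : Matrix (Fin n) (Fin n) F) * P) * P' = _
  calc P * (P' * (g : Matrix (Fin n) (Fin n) F) * P) * P'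
      = (P * P') * (g : Matrix (Fin n) (Fin n) F) * (P * P') := by
        simp only [Matrix.mul_assoc]
    _ = _ := by rw [h1, Matrix.one_mul, Matrix.mul_one]

theorem conjP_mem_scalars_iff (h1 : P * P' = 1) (h2 : P' * P = 1) (k : GL ι' F) :
    conjP P P' h1 h2 k ∈ Cfsg.Geo.scalars (Fin n) F ↔ k ∈ Cfsg.Geo.scalars ι' F := by
  rw [Cfsg.Geo.mem_scalars_iff, Cfsg.Geo.mem_scalars_iff]
  constructor
  · rintro ⟨c, hc⟩
    refine ⟨c, ?_⟩
    rw [conjP_coe] at hc
    calc (k : Matrix ι' ι' F) = (P' * P) * (k : Matrix ι' ι' F) * (P' * P) := by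
          rw [h2, Matrix.one_mul, Matrix.mul_one]
      _ = P' * (P * (k : Matrix ι' ι' F) * P') * P := by simp only [Matrix.mul_assoc]
      _ = _ := by rw [hc, Matrix.mul_smul, Matrix.mul_one, Matrix.smul_mul, h2]
  · rintro ⟨c, hc⟩
    refine ⟨c, ?_⟩
    rw [conjP_coe, hc, Matrix.mul_smul, Matrix.mul_one, Matrix.smul_mul, h1]

theorem invTGL_mem_scalars_iff {ι : Type} [Fintype ι] [DecidableEq ι] (g : GL ι F) :
    invTGL g ∈ Cfsg.Geo.scalars ι F ↔ g ∈ Cfsg.Geo.scalars ι F := by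
  have key : ∀ g : GL ι F, g ∈ Cfsg.Geo.scalars ι F → invTGL g ∈ Cfsg.Geo.scalars ι F := by
    intro g hg
    have hinv := (Cfsg.Geo.scalars ι F).inv_mem hg
    rw [Cfsg.Geo.mem_scalars_iff] at hinv ⊢
    obtain ⟨c, hc⟩ := hinv
    refine ⟨c, ?_⟩
    rw [invTGL_coe, hc, Matrix.transpose_smul, Matrix.transpose_one]
  constructor
  · intro h
    have := key _ h
    rwa [invTGL_invTGL] at this
  · exact key g

/-- the hom `GL ι' F →* Aut(PSL_n)`, `k ↦ c((P k P')⁻ᵀ)` -/
noncomputable def PhiP (h1 : P * P' = 1) (h2 : P' * P = 1) :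
    GL ι' F →* MulAut (Matrix.ProjectiveSpecialLinearGroup (Fin n) F) :=
  cGL.comp (invTGL.comp (conjP P P' h1 h2))

theorem PhiP_apply (h1 : P * P' = 1) (h2 : P' * P = 1) (k : GL ι' F) :
    PhiP P P' h1 h2 k = cGL (invTGL (conjP P P' h1 h2 k)) := rfl

theorem range_PhiP (h1 : P * P' = 1) (h2 : P' * P = 1) :
    (PhiP P P' h1 h2).range = Cfsg.inndiagPSL n F := by
  rw [inndiagPSL_eq_range]
  ext a
  constructor
  · rintro ⟨k, rfl⟩
    exact ⟨_, rfl⟩
  · rintro ⟨g, rfl⟩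
    obtain ⟨g', hg'⟩ := invTGL_surjective g
    obtain ⟨k, hk⟩ := conjP_surjective P P' h1 h2 g'
    exact ⟨k, by rw [PhiP_apply, hk, hg']⟩

theorem ker_PhiP (h1 : P * P' = 1) (h2 : P' * P = 1) :
    (PhiP P P' h1 h2).ker = Cfsg.Geo.scalars ι' F := by
  ext k
  rw [MonoidHom.mem_ker, PhiP_apply, ← MonoidHom.mem_ker, ker_cGL, invTGL_mem_scalars_iff,
    conjP_mem_scalars_iff]

/-- the commutation condition in the new coordinates -/
theorem PhiP_commute_iff (h1 : P * P' = 1) (h2 : P' * P = 1) (g₀ : GL (Fin n) F) (k : GL ι' F) :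
    PhiP P P' h1 h2 k * graphAut g₀ = graphAut g₀ * PhiP P P' h1 h2 k ↔
      ∃ c : Fˣ, (k : Matrix ι' ι' F)ᵀ * (Pᵀ * (g₀ : Matrix (Fin n) (Fin n) F) * P)
        * (k : Matrix ι' ι' F) = (c : F) • (Pᵀ * (g₀ : Matrix (Fin n) (Fin n) F) * P) := by
  rw [PhiP_apply, commute_graphAut_iff]
  set M : GL (Fin n) F := conjP P P' h1 h2 k with hM
  set G : Matrix (Fin n) (Fin n) F := (g₀ : Matrix (Fin n) (Fin n) F) with hG
  have hMcoe : (M : Matrix (Fin n) (Fin n) F) = P * (k : Matrix ι' ι' F) * P' := rfl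
  have hMM : ((M⁻¹ : GL (Fin n) F) : Matrix (Fin n) (Fin n) F) * (M : Matrix (Fin n) (Fin n) F)
      = 1 := by rw [← Units.val_mul, inv_mul_cancel, Units.val_one]
  have hMM' : (M : Matrix (Fin n) (Fin n) F) * ((M⁻¹ : GL (Fin n) F) : Matrix (Fin n) (Fin n) F)
      = 1 := by rw [← Units.val_mul, mul_inv_cancel, Units.val_one]
  have hPt : Pᵀ * P'ᵀ = 1 := by rw [← Matrix.transpose_mul, h2, Matrix.transpose_one]
  have hPt' : P'ᵀ * Pᵀ = 1 := by rw [← Matrix.transpose_mul, h1, Matrix.transpose_one]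
  rw [invTGL_coe, Matrix.transpose_transpose]
  constructor
  · rintro ⟨c, hc⟩
    refine ⟨c⁻¹, ?_⟩
    -- `M⁻ᵀ G M⁻¹ = c G`, so `G = c Mᵀ G M`
    have e1 : G = (c : F) • ((M : Matrix (Fin n) (Fin n) F)ᵀ * G * (M : Matrix (Fin n) (Fin n) F)) := by
      calc G = ((M : Matrix (Fin n) (Fin n) F)ᵀ * ((M⁻¹ : GL (Fin n) F) : Matrix (Fin n) (Fin n) F)ᵀ)
              * G * (((M⁻¹ : GL (Fin n) F) : Matrix (Fin n) (Fin n) F)
                * (M : Matrix (Fin n) (Fin n) F)) := by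
            rw [← Matrix.transpose_mul, hMM, Matrix.transpose_one, Matrix.one_mul, Matrix.mul_one]
        _ = (M : Matrix (Fin n) (Fin n) F)ᵀ *
              (((M⁻¹ : GL (Fin n) F) : Matrix (Fin n) (Fin n) F)ᵀ * G *
                ((M⁻¹ : GL (Fin n) F) : Matrix (Fin n) (Fin n) F)) * (M : Matrix (Fin n) (Fin n) F) := by
            simp only [Matrix.mul_assoc]
        _ = _ := by rw [hc, Matrix.mul_smul, Matrix.smul_mul]
    have e2 : (M : Matrix (Fin n) (Fin n) F)ᵀ * G * (M : Matrix (Fin n) (Fin n) F)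
        = ((c⁻¹ : Fˣ) : F) • G := by
      conv_rhs => rw [e1]
      rw [smul_smul, ← Units.val_mul, inv_mul_cancel, Units.val_one, one_smul]
    -- now transport to `ι'`
    calc (k : Matrix ι' ι' F)ᵀ * (Pᵀ * G * P) * (k : Matrix ι' ι' F)
        = Pᵀ * ((P * (k : Matrix ι' ι' F) * P')ᵀ * G * (P * (k : Matrix ι' ι' F) * P')) * P := by
          rw [Matrix.transpose_mul, Matrix.transpose_mul]
          calc (k : Matrix ι' ι' F)ᵀ * (Pᵀ * G * P) * (k : Matrix ι' ι' F)
              = (Pᵀ * P'ᵀ) * (k : Matrix ι' ι' F)ᵀ * Pᵀ * G * P * (k : Matrix ι' ι' F) * (P' * P) := by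
                rw [hPt, h2, Matrix.one_mul, Matrix.mul_one]
                simp only [Matrix.mul_assoc]
            _ = _ := by simp only [Matrix.mul_assoc]
      _ = _ := by rw [← hMcoe, e2, Matrix.mul_smul, Matrix.smul_mul]
  · rintro ⟨c, hc⟩
    refine ⟨c⁻¹, ?_⟩
    have e2 : (M : Matrix (Fin n) (Fin n) F)ᵀ * G * (M : Matrix (Fin n) (Fin n) F)
        = (c : F) • G := by
      rw [hMcoe, Matrix.transpose_mul, Matrix.transpose_mul]
      calc P'ᵀ * ((k : Matrix ι' ι' F)ᵀ * Pᵀ) * G * (P * (k : Matrix ι' ι' F) * P')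
          = P'ᵀ * ((k : Matrix ι' ι' F)ᵀ * (Pᵀ * G * P) * (k : Matrix ι' ι' F)) * P' := by
            simp only [Matrix.mul_assoc]
        _ = (c : F) • ((P'ᵀ * Pᵀ) * G * (P * P')) := by
            rw [hc, Matrix.mul_smul, Matrix.smul_mul]
            simp only [Matrix.mul_assoc]
        _ = _ := by rw [hPt', h1, Matrix.one_mul, Matrix.mul_one]
    calc ((M⁻¹ : GL (Fin n) F) : Matrix (Fin n) (Fin n) F)ᵀ * G
          * ((M⁻¹ : GL (Fin n) F) : Matrix (Fin n) (Fin n) F)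
        = ((c⁻¹ : Fˣ) : F) • (((M⁻¹ : GL (Fin n) F) : Matrix (Fin n) (Fin n) F)ᵀ * ((c : F) • G)
          * ((M⁻¹ : GL (Fin n) F) : Matrix (Fin n) (Fin n) F)) := by
          rw [Matrix.mul_smul, Matrix.smul_mul, smul_smul, ← Units.val_mul, inv_mul_cancel,
            Units.val_one, one_smul]
      _ = ((c⁻¹ : Fˣ) : F) • ((((M : Matrix (Fin n) (Fin n) F)
            * ((M⁻¹ : GL (Fin n) F) : Matrix (Fin n) (Fin n) F))ᵀ) * G
            * ((M : Matrix (Fin n) (Fin n) F)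
              * ((M⁻¹ : GL (Fin n) F) : Matrix (Fin n) (Fin n) F))) := by
          rw [← e2, Matrix.transpose_mul]
          simp only [Matrix.mul_assoc]
      _ = _ := by rw [hMM', Matrix.transpose_one, Matrix.one_mul, Matrix.mul_one]

/-- **Centralizer of a graph automorphism** in `Inndiag(PSL_n)`. -/
theorem centralizer_graphAut_equiv (h1 : P * P' = 1) (h2 : P' * P = 1) (g₀ : GL (Fin n) F)
    (S' : Subgroup (GL ι' F))
    (hS : ∀ k : GL ι' F, k ∈ S' ↔
      ∃ c : Fˣ, (k : Matrix ι' ι' F)ᵀ * (Pᵀ * (g₀ : Matrix (Fin n) (Fin n) F) * P)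
        * (k : Matrix ι' ι' F) = (c : F) • (Pᵀ * (g₀ : Matrix (Fin n) (Fin n) F) * P)) :
    Nonempty (↥(Cfsg.inndiagPSL n F ⊓ Subgroup.centralizer {graphAut g₀})
      ≃* Cfsg.projQuot S') := by
  have key := centralizer_equiv (PhiP P P' h1 h2) (graphAut g₀) S' (fun k => by
    rw [hS k, PhiP_commute_iff])
  rw [range_PhiP] at key
  obtain ⟨e⟩ := key
  have hk : (PhiP P P' h1 h2).ker.subgroupOf S' = (Cfsg.Geo.scalars ι' F).subgroupOf S' := by
    rw [ker_PhiP]
  exact ⟨e.trans (QuotientGroup.quotientMulEquivOfEq hk)⟩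

end transport

end Cfsg.Agent.Helper7.GraphPSL
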