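import Cfsg.Agent.Helper7.GraphPSL4
import Cfsg.Agent.Helper7.OrthUni3

/-!
# Graph automorphisms of `PSL_n`, part 5 (helper7)

Symmetric case in odd characteristic: the centralizer of `graphAut g₀` (`g₀` symmetric) is the
projective conformal orthogonal group of any quadratic form of the same discriminant class.
-/

set_option autoImplicit false
set_option linter.unusedSectionVars false

namespace Cfsg.Agent.Helper7.GraphPSL

open scoped Matrix
open Cfsg.Agent.Helper7.OrthUni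

variable {n : ℕ} {F : Type*} [Field F]
variable {ι' : Type} [Fintype ι'] [DecidableEq ι']

theorem polar_eq_gram {I : Type*} [Fintype I] [DecidableEq I] (Q : QuadraticForm F (I → F))
    (u v : I → F) : QuadraticMap.polar ⇑Q u v = u ⬝ᵥ gram Q *ᵥ v := by
  rw [← QuadraticMap.polarBilin_apply_apply, ← Matrix.toBilin'_apply', gram,
    Matrix.toBilin'_toMatrix']

/-- membership in the similarity group of a quadratic form, in terms of a matrix of its polar form -/
theorem mem_quadSimilarityGroup_iff (h2 : (2 : F) ≠ 0) (Q : QuadraticForm F (ι' → F))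
    (A : Matrix ι' ι' F) (d : F) (hd : d ≠ 0)
    (hpol : ∀ u v : ι' → F, QuadraticMap.polar ⇑Q u v = d * (u ⬝ᵥ A *ᵥ v)) (k : GL ι' F) :
    k ∈ Cfsg.Geo.quadSimilarityGroup (F := F) ⇑Q ↔
      ∃ c : Fˣ, (k : Matrix ι' ι' F)ᵀ * A * (k : Matrix ι' ι' F) = (c : F) • A := by
  have hQ : ∀ v : ι' → F, Q v = (2 : F)⁻¹ * (d * (v ⬝ᵥ A *ᵥ v)) := by
    intro v
    rw [← hpol, QuadraticMap.polar_self, two_smul, ← two_mul, ← mul_assoc, inv_mul_cancel₀ h2,
      one_mul]
  constructor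
  · rintro ⟨c, hc⟩
    refine ⟨c, ?_⟩
    rw [← form_eq_iff_matrix_eq]
    intro u v
    have e1 : d * ((k : Matrix ι' ι' F) *ᵥ u ⬝ᵥ A *ᵥ ((k : Matrix ι' ι' F) *ᵥ v))
        = d * ((c : F) * (u ⬝ᵥ A *ᵥ v)) := by
      rw [← hpol, QuadraticMap.polar, ← Matrix.mulVec_add, hc, hc, hc, mul_left_comm, ← hpol,
        QuadraticMap.polar]
      ring
    exact mul_left_cancel₀ hd e1
  · rintro ⟨c, hc⟩
    refine ⟨c, fun v => ?_⟩
    rw [← form_eq_iff_matrix_eq] at hc
    rw [hQ, hQ, hc]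
    ring

/-- the polar form of `Q'` in the coordinates given by an isometry from `v ↦ v ⬝ᵥ G v` -/
theorem polar_of_isometry {G : Matrix (Fin n) (Fin n) F} (hG : Gᵀ = G)
    (Q' : QuadraticForm F (ι' → F)) (g : (Fin n → F) ≃ₗ[F] (ι' → F))
    (hg : ∀ v, Q' (g v) = v ⬝ᵥ G *ᵥ v) (u v : ι' → F) :
    QuadraticMap.polar ⇑Q' u v
      = 2 * (u ⬝ᵥ ((LinearMap.toMatrix' g.symm.toLinearMap)ᵀ * G
          * LinearMap.toMatrix' g.symm.toLinearMap) *ᵥ v) := by
  set P := LinearMap.toMatrix' g.symm.toLinearMap with hP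
  have hPu : ∀ w : ι' → F, P *ᵥ w = g.symm w := by
    intro w
    rw [hP, LinearMap.toMatrix'_mulVec]
    rfl
  have key : u ⬝ᵥ (Pᵀ * G * P) *ᵥ v = (g.symm u) ⬝ᵥ G *ᵥ (g.symm v) := by
    rw [← Matrix.mulVec_mulVec, ← Matrix.mulVec_mulVec, Matrix.dotProduct_mulVec u Pᵀ,
      Matrix.vecMul_transpose, hPu, hPu]
  have hQ : ∀ w : ι' → F, Q' w = (g.symm w) ⬝ᵥ G *ᵥ (g.symm w) := by
    intro w
    rw [← hg, LinearEquiv.apply_symm_apply]
  have hsym : (g.symm v) ⬝ᵥ G *ᵥ (g.symm u) = (g.symm u) ⬝ᵥ G *ᵥ (g.symm v) := by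
    rw [Matrix.dotProduct_mulVec, ← Matrix.mulVec_transpose, hG, dotProduct_comm]
  rw [key, QuadraticMap.polar, hQ, hQ, hQ, map_add, Matrix.mulVec_add, dotProduct_add,
    add_dotProduct, add_dotProduct, hsym]
  ring

/-- **Centralizer of a symmetric graph automorphism, odd characteristic.** -/
theorem centralizer_graphAut_quad [Fintype F] (h2 : (2 : F) ≠ 0) (g₀ : GL (Fin n) F)
    (hsym : (g₀ : Matrix (Fin n) (Fin n) F)ᵀ = (g₀ : Matrix (Fin n) (Fin n) F))
    (Q' : QuadraticForm F (ι' → F)) (hQ' : (QuadraticMap.polarBilin Q').Nondegenerate)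
    (hcard : Fintype.card ι' = n)
    (hsq : IsSquare (((2 : F) • (g₀ : Matrix (Fin n) (Fin n) F)).det * (gram Q').det)) :
    Nonempty (↥(Cfsg.inndiagPSL n F ⊓ Subgroup.centralizer {graphAut g₀})
      ≃* Cfsg.PGO F ⇑Q') := by
  set G : Matrix (Fin n) (Fin n) F := (g₀ : Matrix (Fin n) (Fin n) F) with hG
  have hsym2 : ((2 : F) • G)ᵀ = (2 : F) • G := by rw [Matrix.transpose_smul, hsym]
  have hu : IsUnit ((2 : F) • G) := by
    rw [Matrix.isUnit_iff_isUnit_det, Matrix.det_smul]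
    exact (IsUnit.pow _ (isUnit_iff_ne_zero.2 h2)).mul
      ((Matrix.isUnit_iff_isUnit_det _).1 g₀.isUnit)
  obtain ⟨g, hg⟩ := exists_isometry_of_disc h2 (qf ((2 : F) • G)) Q'
    (qf_nondeg h2 hsym2 hu) hQ' (by rw [Fintype.card_fin, hcard])
    (by rw [gram_qf h2 hsym2]; exact hsq)
  have hg' : ∀ v, Q' (g v) = v ⬝ᵥ G *ᵥ v := by
    intro v
    rw [hg, qf_apply, Matrix.smul_mulVec, dotProduct_smul, smul_eq_mul, ← mul_assoc,
      inv_mul_cancel₀ h2, one_mul]
  set P := LinearMap.toMatrix' g.symm.toLinearMap with hP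
  set P' := LinearMap.toMatrix' g.toLinearMap with hP'
  have h1 : P * P' = 1 := by
    rw [hP, hP', ← LinearMap.toMatrix'_comp]
    have : g.symm.toLinearMap ∘ₗ g.toLinearMap = LinearMap.id := by
      ext v
      simp
    rw [this, LinearMap.toMatrix'_id]
  have h1' : P' * P = 1 := by
    rw [hP, hP', ← LinearMap.toMatrix'_comp]
    have : g.toLinearMap ∘ₗ g.symm.toLinearMap = LinearMap.id := by
      ext v
      simp
    rw [this, LinearMap.toMatrix'_id]
  exact centralizer_graphAut_equiv P P' h1 h1' g₀ (Cfsg.Geo.quadSimilarityGroup (F := F) ⇑Q')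
    (mem_quadSimilarityGroup_iff h2 Q' (Pᵀ * G * P) 2 h2 (polar_of_isometry hsym Q' g hg'))

end Cfsg.Agent.Helper7.GraphPSL
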