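import Cfsg.Agent.Helper7.GraphPSL4

/-!
# Graph automorphisms of `PSL_n`, part 7 (helper7)

General facts: `iotaT` is not inner-diagonal for `n ≥ 3`; involutory graph automorphisms
correspond to symmetric or skew-symmetric matrices; the conjugacy criterion.
-/

set_option autoImplicit false
set_option linter.unusedSectionVars false

namespace Cfsg.Agent.Helper7.GraphPSL

open Matrix

variable {n : ℕ} {F : Type*} [Field F]

/-- the nilpotency trick: `1 + E' = r • (1 + N)` with `N² = 0 = E'²` and a zero diagonal entry of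
`E'` forces `r = 1` and `N = E'` -/
theorem eq_of_one_add_eq_smul {N E' : Matrix (Fin n) (Fin n) F} {r : F} (hN : N * N = 0)
    (hE' : E' * E' = 0) (i : Fin n) (hi : E' i i = 0) (h : 1 + E' = r • (1 + N)) :
    N = E' := by
  have hr0 : r ≠ 0 := by
    rintro rfl
    rw [zero_smul] at h
    have := congrFun (congrFun h i) i
    rw [Matrix.add_apply, Matrix.one_apply_eq, hi, add_zero, Matrix.zero_apply] at this
    exact one_ne_zero this
  have h6 : N = r⁻¹ • (1 + E') - 1 := by
    rw [h, smul_smul, inv_mul_cancel₀ hr0, one_smul]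
    abel
  have h7 : (r⁻¹ • (1 + E') - 1) * (r⁻¹ • (1 + E') - 1) = 0 := by rw [← h6, hN]
  have h8 := congrFun (congrFun h7 i) i
  have hexp : (r⁻¹ • (1 + E') - 1) * (r⁻¹ • (1 + E') - 1)
      = ((r⁻¹ - 1) * (r⁻¹ - 1)) • (1 : Matrix (Fin n) (Fin n) F)
        + (2 * r⁻¹ * (r⁻¹ - 1)) • E' := by
    have e1 : r⁻¹ • (1 + E') - 1 = (r⁻¹ - 1) • (1 : Matrix (Fin n) (Fin n) F) + r⁻¹ • E' := by
      rw [smul_add, sub_smul, one_smul]
      abel
    rw [e1, Matrix.add_mul, Matrix.mul_add, Matrix.mul_add]
    simp only [Matrix.smul_mul, Matrix.mul_smul, Matrix.one_mul, Matrix.mul_one, hE', smul_zero,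
      add_zero, smul_smul]
    rw [add_assoc, ← add_smul]
    congr 2
    ring
  rw [hexp, Matrix.add_apply, Matrix.smul_apply, Matrix.smul_apply, Matrix.one_apply_eq, hi,
    smul_zero, add_zero, Matrix.zero_apply, smul_eq_mul, mul_one] at h8
  have hr1 : r⁻¹ = 1 := by
    have := mul_self_eq_zero.1 h8
    linear_combination this
  rw [h6, hr1, one_smul]
  abel

/-- the inverse-transpose automorphism is not inner-diagonal when `n ≥ 3` -/
theorem iotaT_ne_cGL (hn : 3 ≤ n) (h : GL (Fin n) F) :
    (iotaT : MulAut (Matrix.ProjectiveSpecialLinearGroup (Fin n) F)) ≠ cGL h := by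
  classical
  intro heq
  set G : Matrix (Fin n) (Fin n) F := (h : Matrix (Fin n) (Fin n) F) with hG
  set G' : Matrix (Fin n) (Fin n) F := ((h⁻¹ : GL (Fin n) F) : Matrix (Fin n) (Fin n) F) with hG'
  have hGG' : G * G' = 1 := by rw [hG, hG', ← Units.val_mul, mul_inv_cancel, Units.val_one]
  have hG'G : G' * G = 1 := by rw [hG, hG', ← Units.val_mul, inv_mul_cancel, Units.val_one]
  have key : ∀ i j : Fin n, i ≠ j →
      G * Matrix.single i j (1 : F) * G' = Matrix.single j i (-1 : F) := by
    intro i j hij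
    set t : Matrix.SpecialLinearGroup (Fin n) F :=
      ⟨Matrix.transvection i j 1, Matrix.det_transvection_of_ne i j hij 1⟩ with ht
    set t' : Matrix.SpecialLinearGroup (Fin n) F :=
      ⟨Matrix.transvection i j (-1), Matrix.det_transvection_of_ne i j hij (-1)⟩ with ht'
    have htt' : t⁻¹ = t' := by
      apply inv_eq_of_mul_eq_one_right
      apply Subtype.ext
      rw [Matrix.SpecialLinearGroup.coe_mul, Matrix.SpecialLinearGroup.coe_one]
      show Matrix.transvection i j (1 : F) * Matrix.transvection i j (-1) = 1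
      rw [Matrix.transvection_mul_transvection_same _ _ hij, add_neg_cancel,
        Matrix.transvection_zero]
    have h1 : (QuotientGroup.mk (conjSL h t) : Matrix.ProjectiveSpecialLinearGroup (Fin n) F)
        = QuotientGroup.mk (invT t) := by
      rw [← cGL_mk, ← heq, iotaT_mk]
    rw [QuotientGroup.eq] at h1
    rw [Matrix.SpecialLinearGroup.mem_center_iff] at h1
    obtain ⟨r, -, hr⟩ := h1
    have hsc : Matrix.scalar (Fin n) r = r • (1 : Matrix (Fin n) (Fin n) F) := by
      rw [Matrix.smul_one_eq_diagonal]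
      rfl
    have h3 : ((invT t : Matrix.SpecialLinearGroup (Fin n) F) : Matrix (Fin n) (Fin n) F)
        = ((conjSL h t : Matrix.SpecialLinearGroup (Fin n) F) : Matrix (Fin n) (Fin n) F)
          * Matrix.scalar (Fin n) r := by
      rw [hr, ← Matrix.SpecialLinearGroup.coe_mul, mul_inv_cancel_left]
    have hinvT : ((invT t : Matrix.SpecialLinearGroup (Fin n) F) : Matrix (Fin n) (Fin n) F)
        = 1 + Matrix.single j i (-1 : F) := by
      rw [invT_coe, htt']
      show (Matrix.transvection i j (-1 : F))ᵀ = _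
      rw [Matrix.transvection, Matrix.transpose_add, Matrix.transpose_one, Matrix.transpose_single]
    have hconj : ((conjSL h t : Matrix.SpecialLinearGroup (Fin n) F) : Matrix (Fin n) (Fin n) F)
        = 1 + G * Matrix.single i j (1 : F) * G' := by
      rw [conjSL_coe]
      show G * (1 + Matrix.single i j (1 : F)) * G' = _
      rw [Matrix.mul_add, Matrix.mul_one, Matrix.add_mul, hGG']
    rw [hinvT, hconj, hsc, Matrix.mul_smul, Matrix.mul_one] at h3
    apply eq_of_one_add_eq_smul _ _ i _ h3
    · calc G * Matrix.single i j (1 : F) * G' * (G * Matrix.single i j (1 : F) * G')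
          = G * (Matrix.single i j (1 : F) * ((G' * G) * Matrix.single i j (1 : F))) * G' := by
            simp only [Matrix.mul_assoc]
        _ = 0 := by
            rw [hG'G, Matrix.one_mul, Matrix.single_mul_single_of_ne _ _ _ _ (Ne.symm hij),
              Matrix.mul_zero, Matrix.zero_mul]
    · rw [Matrix.single_mul_single_of_ne _ _ _ _ hij]
    · rw [Matrix.single_apply_of_ne]
      rintro ⟨h1, -⟩
      exact hij h1.symm
  -- three distinct indices
  set i : Fin n := ⟨0, by omega⟩ with hi
  set j : Fin n := ⟨1, by omega⟩ with hj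
  set k : Fin n := ⟨2, by omega⟩ with hk
  have hij : i ≠ j := by
    intro h
    have := congrArg Fin.val h
    simp [hi, hj] at this
  have hjk : j ≠ k := by
    intro h
    have := congrArg Fin.val h
    simp [hj, hk] at this
  have hik : i ≠ k := by
    intro h
    have := congrArg Fin.val h
    simp [hi, hk] at this
  have e1 : Matrix.single i k (1 : F) = Matrix.single i j (1 : F) * Matrix.single j k (1 : F) := by
    rw [Matrix.single_mul_single_same, mul_one]
  have e2 : G * Matrix.single i k (1 : F) * G' = 0 := by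
    calc G * Matrix.single i k (1 : F) * G'
        = (G * Matrix.single i j (1 : F) * G') * (G * Matrix.single j k (1 : F) * G') := by
          rw [e1]
          calc G * (Matrix.single i j (1 : F) * Matrix.single j k (1 : F)) * G'
              = G * (Matrix.single i j (1 : F) * (1 * Matrix.single j k (1 : F))) * G' := by
                rw [Matrix.one_mul]
            _ = _ := by
                rw [← hG'G]
                simp only [Matrix.mul_assoc]
      _ = 0 := by
          rw [key i j hij, key j k hjk, Matrix.single_mul_single_of_ne _ _ _ _ hik]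
  rw [key i k hik] at e2
  have := congrFun (congrFun e2 k) i
  rw [Matrix.single_apply_same, Matrix.zero_apply] at this
  exact one_ne_zero (neg_eq_zero.1 this)

theorem graphAut_ne_one (hn : 3 ≤ n) (g : GL (Fin n) F) : graphAut g ≠ 1 := by
  intro h
  unfold graphAut at h
  have : (iotaT : MulAut (Matrix.ProjectiveSpecialLinearGroup (Fin n) F)) = cGL g⁻¹ := by
    rw [map_inv]
    exact eq_inv_of_mul_eq_one_right h
  exact iotaT_ne_cGL hn _ this

theorem isGraphAutClassPSL_iff (hn : 3 ≤ n)
    (β : MulAut (Matrix.ProjectiveSpecialLinearGroup (Fin n) F)) :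
    Cfsg.IsGraphAutClassPSL β ↔ ∃ g : GL (Fin n) F, β = graphAut g := by
  constructor
  · rintro ⟨-, δ, γ, hδ, hγ, rfl⟩
    rw [isInnerDiagonalAutPSL_iff] at hδ
    rw [isInverseTransposeAutPSL_iff] at hγ
    obtain ⟨g, rfl⟩ := hδ
    exact ⟨g, by rw [hγ]; rfl⟩
  · rintro ⟨g, rfl⟩
    exact ⟨hn, cGL g, iotaT, (isInnerDiagonalAutPSL_iff _).2 ⟨g, rfl⟩,
      (isInverseTransposeAutPSL_iff _).2 rfl, rfl⟩

/-- a graph automorphism is an involution iff its matrix is symmetric or skew-symmetric -/
theorem orderOf_graphAut_eq_two_iff (hn : 3 ≤ n) (g : GL (Fin n) F) :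
    orderOf (graphAut g) = 2 ↔
      ((g : Matrix (Fin n) (Fin n) F)ᵀ = (g : Matrix (Fin n) (Fin n) F) ∨
        (g : Matrix (Fin n) (Fin n) F)ᵀ = -(g : Matrix (Fin n) (Fin n) F)) := by
  have : Fact (Nat.Prime 2) := ⟨Nat.prime_two⟩
  rw [orderOf_eq_prime_iff, pow_two, graphAut_mul_self]
  set G : Matrix (Fin n) (Fin n) F := (g : Matrix (Fin n) (Fin n) F) with hG
  set G' : Matrix (Fin n) (Fin n) F := ((g⁻¹ : GL (Fin n) F) : Matrix (Fin n) (Fin n) F) with hG'
  have hGG' : G * G' = 1 := by rw [hG, hG', ← Units.val_mul, mul_inv_cancel, Units.val_one]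
  have hG'G : G' * G = 1 := by rw [hG, hG', ← Units.val_mul, inv_mul_cancel, Units.val_one]
  have hne : graphAut g ≠ 1 := graphAut_ne_one hn g
  have hG0 : G ≠ 0 := by
    intro h0
    have : (1 : Matrix (Fin n) (Fin n) F) = 0 := by rw [← hGG', h0, Matrix.zero_mul]
    have := congrFun (congrFun this ⟨0, by omega⟩) ⟨0, by omega⟩
    rw [Matrix.one_apply_eq, Matrix.zero_apply] at this
    exact one_ne_zero this
  constructor
  · rintro ⟨h1, -⟩
    rw [← MonoidHom.mem_ker, ker_cGL, Cfsg.Geo.mem_scalars_iff] at h1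
    obtain ⟨c, hc⟩ := h1
    rw [Units.val_mul, invTGL_coe] at hc
    -- `G = c • Gᵀ`
    have e1 : G = (c : F) • Gᵀ := by
      calc G = G * (G * G')ᵀ := by rw [hGG', Matrix.transpose_one, Matrix.mul_one]
        _ = (G * G'ᵀ) * Gᵀ := by rw [Matrix.transpose_mul, Matrix.mul_assoc]
        _ = _ := by rw [hc, Matrix.smul_mul, Matrix.one_mul]
    have e2 : Gᵀ = (c : F) • G := by
      conv_lhs => rw [e1]
      rw [Matrix.transpose_smul, Matrix.transpose_transpose]
    have e3 : ((c : F) * (c : F) - 1) • G = 0 := by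
      rw [sub_smul, one_smul, ← smul_smul, ← e2, ← e1, sub_self]
    have e4 : (c : F) * (c : F) - 1 = 0 := by
      rcases smul_eq_zero.1 e3 with h | h
      · exact h
      · exact absurd h hG0
    have e5 : ((c : F) - 1) * ((c : F) + 1) = 0 := by linear_combination e4
    rcases mul_eq_zero.1 e5 with h | h
    · left
      rw [e2, sub_eq_zero.1 h, one_smul]
    · right
      rw [e2, eq_neg_of_add_eq_zero_left h, neg_one_smul]
  · intro h
    refine ⟨?_, hne⟩
    rw [← MonoidHom.mem_ker, ker_cGL, Cfsg.Geo.mem_scalars_iff]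
    have hG't : G'ᵀ * Gᵀ = 1 := by rw [← Matrix.transpose_mul, hGG', Matrix.transpose_one]
    rcases h with h | h
    · refine ⟨1, ?_⟩
      rw [Units.val_mul, invTGL_coe, Units.val_one, one_smul]
      show G * G'ᵀ = 1
      calc G * G'ᵀ = Gᵀ * G'ᵀ := by rw [h]
        _ = 1 := by rw [← Matrix.transpose_mul, hG'G, Matrix.transpose_one]
    · refine ⟨-1, ?_⟩
      rw [Units.val_mul, invTGL_coe, Units.val_neg, Units.val_one, neg_one_smul]
      show G * G'ᵀ = -1
      calc G * G'ᵀ = (-Gᵀ) * G'ᵀ := by rw [h, neg_neg]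
        _ = -(Gᵀ * G'ᵀ) := by rw [Matrix.neg_mul]
        _ = -1 := by rw [← Matrix.transpose_mul, hG'G, Matrix.transpose_one]

/-- conjugacy of graph automorphisms under `Inndiag` -/
theorem isConjUnder_graphAut_iff (g g' : GL (Fin n) F) :
    Cfsg.IsConjUnder (Cfsg.inndiagPSL n F) (graphAut g) (graphAut g') ↔
      ∃ (h : GL (Fin n) F) (c : Fˣ), (g' : Matrix (Fin n) (Fin n) F)
        = (c : F) • ((h : Matrix (Fin n) (Fin n) F) * (g : Matrix (Fin n) (Fin n) F)
          * (h : Matrix (Fin n) (Fin n) F)ᵀ) := by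
  unfold Cfsg.IsConjUnder
  rw [inndiagPSL_eq_range]
  constructor
  · rintro ⟨a, ⟨h, rfl⟩, ha⟩
    rw [cGL_conj_graphAut] at ha
    unfold graphAut at ha
    rw [mul_left_inj, eq_comm, cGL_eq_iff_smul] at ha
    obtain ⟨c, hc⟩ := ha
    exact ⟨h, c, hc⟩
  · rintro ⟨h, c, hc⟩
    refine ⟨cGL h, ⟨h, rfl⟩, ?_⟩
    rw [cGL_conj_graphAut]
    unfold graphAut
    rw [mul_left_inj, eq_comm, cGL_eq_iff_smul]
    exact ⟨c, hc⟩

theorem isConjUnder_symm {X : Type*} [Group X] {H : Subgroup X} {x y : X}
    (h : Cfsg.IsConjUnder H x y) : Cfsg.IsConjUnder H y x := by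
  obtain ⟨a, ha, rfl⟩ := h
  refine ⟨a⁻¹, H.inv_mem ha, ?_⟩
  group

end Cfsg.Agent.Helper7.GraphPSL
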