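import Cfsg.Agent.Helper7.GraphPSL7
import Cfsg.Agent.Helper7.GraphPSL6
import Cfsg.Agent.Helper28.SympFrame

/-!
# Graph automorphisms of `PSL_n`, part 8 (helper7)

Representatives and classification of involutory graph automorphisms of `PSL_{2m}(q)`, `q` odd:
the skew-symmetric class (centralizer `PGSp`) and the symmetric classes.
-/

set_option autoImplicit false
set_option linter.unusedSectionVars false

namespace Cfsg.Agent.Helper7.GraphPSL

open scoped Matrix
open Cfsg.Agent.Helper7.OrthUni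

variable {n : ℕ} {F : Type*} [Field F]

theorem dot_mulVec_rect {I J : Type*} [Fintype I] [Fintype J] (N : Matrix I J F) (A : Matrix I I F)
    (u v : J → F) : (N *ᵥ u) ⬝ᵥ A *ᵥ (N *ᵥ v) = u ⬝ᵥ (Nᵀ * A * N) *ᵥ v := by
  rw [← Matrix.mulVec_mulVec, ← Matrix.mulVec_mulVec, Matrix.dotProduct_mulVec u Nᵀ,
    Matrix.vecMul_transpose]

/-- polarization: a symmetric matrix is determined by its quadratic form (char ≠ 2) -/
theorem eq_of_forall_dotProduct_eq {I : Type*} [Fintype I] [DecidableEq I] (h2 : (2 : F) ≠ 0)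
    {A B : Matrix I I F} (hA : Aᵀ = A) (hB : Bᵀ = B)
    (h : ∀ v : I → F, v ⬝ᵥ A *ᵥ v = v ⬝ᵥ B *ᵥ v) : A = B := by
  have : qf A = qf B := by
    ext v
    rw [qf_apply, qf_apply, h]
  rw [← gram_qf h2 hA, ← gram_qf h2 hB, this]

/-- symmetric matrices with discriminants in the same square class give conjugate graph
automorphisms (finite field of odd characteristic) -/
theorem isConjUnder_of_symm [Fintype F] (h2 : (2 : F) ≠ 0) (g g' : GL (Fin n) F)
    (hg : (g : Matrix (Fin n) (Fin n) F)ᵀ = (g : Matrix (Fin n) (Fin n) F))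
    (hg' : (g' : Matrix (Fin n) (Fin n) F)ᵀ = (g' : Matrix (Fin n) (Fin n) F))
    (hsq : IsSquare ((g : Matrix (Fin n) (Fin n) F).det * (g' : Matrix (Fin n) (Fin n) F).det)) :
    Cfsg.IsConjUnder (Cfsg.inndiagPSL n F) (graphAut g') (graphAut g) := by
  set G : Matrix (Fin n) (Fin n) F := (g : Matrix (Fin n) (Fin n) F) with hG
  set G' : Matrix (Fin n) (Fin n) F := (g' : Matrix (Fin n) (Fin n) F) with hG'
  have hs1 : ((2 : F) • G)ᵀ = (2 : F) • G := by rw [Matrix.transpose_smul, hg]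
  have hs2 : ((2 : F) • G')ᵀ = (2 : F) • G' := by rw [Matrix.transpose_smul, hg']
  have hu1 : IsUnit ((2 : F) • G) := by
    rw [Matrix.isUnit_iff_isUnit_det, Matrix.det_smul]
    exact (IsUnit.pow _ (isUnit_iff_ne_zero.2 h2)).mul
      ((Matrix.isUnit_iff_isUnit_det _).1 g.isUnit)
  have hu2 : IsUnit ((2 : F) • G') := by
    rw [Matrix.isUnit_iff_isUnit_det, Matrix.det_smul]
    exact (IsUnit.pow _ (isUnit_iff_ne_zero.2 h2)).mul
      ((Matrix.isUnit_iff_isUnit_det _).1 g'.isUnit)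
  obtain ⟨φ, hφ⟩ := exists_isometry_of_disc h2 (qf ((2 : F) • G)) (qf ((2 : F) • G'))
    (qf_nondeg h2 hs1 hu1) (qf_nondeg h2 hs2 hu2) rfl (by
      rw [gram_qf h2 hs1, gram_qf h2 hs2, Matrix.det_smul, Matrix.det_smul]
      have : (2 : F) ^ Fintype.card (Fin n) * G.det * ((2 : F) ^ Fintype.card (Fin n) * G'.det)
          = ((2 : F) ^ Fintype.card (Fin n)) ^ 2 * (G.det * G'.det) := by ring
      rw [this]
      exact (IsSquare.sq _).mul hsq)
  have hqf : ∀ (A : Matrix (Fin n) (Fin n) F) (v : Fin n → F),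
      qf ((2 : F) • A) v = v ⬝ᵥ A *ᵥ v := by
    intro A v
    rw [qf_apply, Matrix.smul_mulVec, dotProduct_smul, smul_eq_mul, ← mul_assoc,
      inv_mul_cancel₀ h2, one_mul]
  set M := LinearMap.toMatrix' φ.toLinearMap with hM
  set M' := LinearMap.toMatrix' φ.symm.toLinearMap with hM'
  have h1 : M * M' = 1 := by
    rw [hM, hM', ← LinearMap.toMatrix'_comp]
    have : φ.toLinearMap ∘ₗ φ.symm.toLinearMap = LinearMap.id := by
      ext v
      simp
    rw [this, LinearMap.toMatrix'_id]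
  have h1' : M' * M = 1 := by
    rw [hM, hM', ← LinearMap.toMatrix'_comp]
    have : φ.symm.toLinearMap ∘ₗ φ.toLinearMap = LinearMap.id := by
      ext v
      simp
    rw [this, LinearMap.toMatrix'_id]
  have hMv : ∀ v : Fin n → F, M *ᵥ v = φ v := by
    intro v
    rw [hM, LinearMap.toMatrix'_mulVec]
    rfl
  have key : Mᵀ * G' * M = G := by
    apply eq_of_forall_dotProduct_eq h2
    · rw [Matrix.transpose_mul, Matrix.transpose_mul, Matrix.transpose_transpose, hg',
        Matrix.mul_assoc]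
    · exact hg
    · intro v
      rw [← hqf G v, ← hφ v, hqf G', ← Matrix.mulVec_mulVec, ← Matrix.mulVec_mulVec,
        Matrix.dotProduct_mulVec v Mᵀ, Matrix.vecMul_transpose, hMv]
  rw [isConjUnder_graphAut_iff]
  refine ⟨gT ⟨M, M', h1, h1'⟩, 1, ?_⟩
  rw [Units.val_one, one_smul, gT_coe, Matrix.transpose_transpose]
  exact key.symm

section skew

variable (m : ℕ)

/-- the reindexing `Fin m ⊕ Fin m ≃ Fin (2 * m)` -/
def eSum : Fin m ⊕ Fin m ≃ Fin (2 * m) :=
  finSumFinEquiv.trans (finCongr (two_mul m).symm)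

/-- reindexing matrix -/
def Pre (F : Type*) [Field F] : Matrix (Fin (2 * m)) (Fin m ⊕ Fin m) F :=
  (1 : Matrix (Fin (2 * m)) (Fin (2 * m)) F).submatrix id (eSum m)

/-- reindexing matrix, inverse -/
def Pre' (F : Type*) [Field F] : Matrix (Fin m ⊕ Fin m) (Fin (2 * m)) F :=
  (1 : Matrix (Fin (2 * m)) (Fin (2 * m)) F).submatrix (eSum m) id

theorem Pre_mul_Pre' : Pre m F * Pre' m F = 1 := by
  unfold Pre Pre'
  rw [Matrix.submatrix_mul_equiv, Matrix.one_mul, Matrix.submatrix_id_id]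

theorem Pre'_mul_Pre : Pre' m F * Pre m F = 1 := by
  unfold Pre Pre'
  rw [← Matrix.submatrix_mul _ _ (eSum m) id (eSum m) Function.bijective_id, Matrix.one_mul,
    Matrix.submatrix_one_equiv]

theorem Pre_transpose_mul : (Pre m F)ᵀ * (Pre' m F)ᵀ = 1 := by
  rw [← Matrix.transpose_mul, Pre'_mul_Pre, Matrix.transpose_one]

theorem Pre'_transpose_mul : (Pre' m F)ᵀ * (Pre m F)ᵀ = 1 := by
  rw [← Matrix.transpose_mul, Pre_mul_Pre', Matrix.transpose_one]

theorem J_mul_neg_J : Matrix.J (Fin m) F * (-Matrix.J (Fin m) F) = 1 := by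
  rw [Matrix.mul_neg, Matrix.J_squared, neg_neg]

theorem neg_J_mul_J : (-Matrix.J (Fin m) F) * Matrix.J (Fin m) F = 1 := by
  rw [Matrix.neg_mul, Matrix.J_squared, neg_neg]

/-- the skew-symmetric representative -/
def skewRep (F : Type*) [Field F] : GL (Fin (2 * m)) F :=
  ⟨(Pre' m F)ᵀ * Matrix.J (Fin m) F * Pre' m F, Pre m F * (-Matrix.J (Fin m) F) * (Pre m F)ᵀ, by
    calc (Pre' m F)ᵀ * Matrix.J (Fin m) F * Pre' m F
          * (Pre m F * (-Matrix.J (Fin m) F) * (Pre m F)ᵀ)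
        = (Pre' m F)ᵀ * (Matrix.J (Fin m) F * ((Pre' m F * Pre m F) * (-Matrix.J (Fin m) F)))
          * (Pre m F)ᵀ := by simp only [Matrix.mul_assoc]
      _ = 1 := by
          rw [Pre'_mul_Pre, Matrix.one_mul, J_mul_neg_J, Matrix.mul_one, Pre'_transpose_mul], by
    calc Pre m F * (-Matrix.J (Fin m) F) * (Pre m F)ᵀ
          * ((Pre' m F)ᵀ * Matrix.J (Fin m) F * Pre' m F)
        = Pre m F * ((-Matrix.J (Fin m) F) * (((Pre m F)ᵀ * (Pre' m F)ᵀ) * Matrix.J (Fin m) F))
          * Pre' m F := by simp only [Matrix.mul_assoc]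
      _ = 1 := by
          rw [Pre_transpose_mul, Matrix.one_mul, neg_J_mul_J, Matrix.mul_one, Pre_mul_Pre']⟩

theorem skewRep_coe : ((skewRep m F : GL (Fin (2 * m)) F) : Matrix (Fin (2 * m)) (Fin (2 * m)) F)
    = (Pre' m F)ᵀ * Matrix.J (Fin m) F * Pre' m F := rfl

theorem skewRep_transpose :
    ((skewRep m F : GL (Fin (2 * m)) F) : Matrix (Fin (2 * m)) (Fin (2 * m)) F)ᵀ
      = -((skewRep m F : GL (Fin (2 * m)) F) : Matrix (Fin (2 * m)) (Fin (2 * m)) F) := by
  rw [skewRep_coe, Matrix.transpose_mul, Matrix.transpose_mul, Matrix.transpose_transpose,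
    Matrix.J_transpose, Matrix.neg_mul, Matrix.mul_neg, Matrix.mul_assoc]

theorem Pre_skewRep_Pre :
    (Pre m F)ᵀ * ((skewRep m F : GL (Fin (2 * m)) F) : Matrix (Fin (2 * m)) (Fin (2 * m)) F)
      * Pre m F = Matrix.J (Fin m) F := by
  rw [skewRep_coe]
  calc (Pre m F)ᵀ * ((Pre' m F)ᵀ * Matrix.J (Fin m) F * Pre' m F) * Pre m F
      = ((Pre m F)ᵀ * (Pre' m F)ᵀ) * Matrix.J (Fin m) F * (Pre' m F * Pre m F) := by
        simp only [Matrix.mul_assoc]
    _ = _ := by rw [Pre_transpose_mul, Pre'_mul_Pre, Matrix.one_mul, Matrix.mul_one]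

/-- the centralizer of the skew-symmetric representative is `PGSp` -/
theorem centralizer_skewRep :
    Nonempty (↥(Cfsg.inndiagPSL (2 * m) F ⊓ Subgroup.centralizer {graphAut (skewRep m F)})
      ≃* Cfsg.PGSp m F) := by
  apply centralizer_graphAut_equiv (Pre m F) (Pre' m F) (Pre_mul_Pre' m) (Pre'_mul_Pre m)
    (skewRep m F) (Cfsg.GSp m F)
  intro k
  rw [Pre_skewRep_Pre]
  constructor
  · rintro ⟨c, hc⟩
    exact ⟨c, (form_eq_iff_matrix_eq _ _ _).1 hc⟩
  · rintro ⟨c, hc⟩
    exact ⟨c, (form_eq_iff_matrix_eq _ _ _).2 hc⟩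

/-- every skew-symmetric invertible matrix gives a graph automorphism conjugate to the
representative (char ≠ 2) -/
theorem isConjUnder_of_skew (h2 : (2 : F) ≠ 0) (g : GL (Fin (2 * m)) F)
    (hg : (g : Matrix (Fin (2 * m)) (Fin (2 * m)) F)ᵀ
      = -(g : Matrix (Fin (2 * m)) (Fin (2 * m)) F)) :
    Cfsg.IsConjUnder (Cfsg.inndiagPSL (2 * m) F) (graphAut (skewRep m F)) (graphAut g) := by
  classical
  apply isConjUnder_symm
  set G : Matrix (Fin (2 * m)) (Fin (2 * m)) F := (g : Matrix (Fin (2 * m)) (Fin (2 * m)) F)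
    with hG
  set B : LinearMap.BilinForm F (Fin (2 * m) → F) := Matrix.toBilin' G with hB
  have hBapp : ∀ u v, B u v = u ⬝ᵥ G *ᵥ v := fun u v => Matrix.toBilin'_apply' G u v
  have hflip : ∀ u v : Fin (2 * m) → F, v ⬝ᵥ G *ᵥ u = -(u ⬝ᵥ G *ᵥ v) := by
    intro u v
    rw [Matrix.dotProduct_mulVec, ← Matrix.mulVec_transpose, hg, Matrix.neg_mulVec,
      dotProduct_comm, dotProduct_neg]
  have hA : B.IsAlt := by
    intro v
    rw [hBapp]
    have h := hflip v v
    have h' : (2 : F) * (v ⬝ᵥ G *ᵥ v) = 0 := by linear_combination h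
    rcases mul_eq_zero.1 h' with h0 | h0
    · exact absurd h0 h2
    · exact h0
  have hdet : G.det ≠ 0 := ((Matrix.isUnit_iff_isUnit_det _).1 g.isUnit).ne_zero
  have hnd : B.Nondegenerate := LinearMap.BilinForm.nondegenerate_toBilin'_iff_det_ne_zero.2 hdet
  obtain ⟨e, f, -, -, hee, hff, hef⟩ :=
    Cfsg.Agent.Helper28.SympFrame.exists_alt_frame B hA m ⊤ (by
      rw [finrank_top, Module.finrank_fintype_fun_eq_card, Fintype.card_fin])
      (fun u _ hu => hnd.1 u (fun v => hu v Submodule.mem_top))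
  -- the frame as a matrix
  set x : Fin m ⊕ Fin m → (Fin (2 * m) → F) := Sum.elim f e with hx
  have hxJ : ∀ a b, B (x a) (x b) = Matrix.J (Fin m) F a b := by
    intro a b
    have hfe : ∀ i j, B (f i) (e j) = if i = j then -1 else 0 := by
      intro i j
      rw [← hA.neg_eq, hef]
      by_cases hij : i = j
      · subst hij; simp
      · rw [if_neg hij, if_neg (fun h => hij h.symm), neg_zero]
    rcases a with i | i <;> rcases b with j | j
    · simp [hx, hff, Matrix.J]
    · simp only [hx, Sum.elim_inl, Sum.elim_inr, hfe, Matrix.J, Matrix.fromBlocks_apply₁₂,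
        Matrix.neg_apply, Matrix.one_apply]
      by_cases hij : i = j
      · simp [hij]
      · simp [hij]
    · simp only [hx, Sum.elim_inl, Sum.elim_inr, hef, Matrix.J, Matrix.fromBlocks_apply₂₁,
        Matrix.one_apply]
    · simp [hx, hee, Matrix.J]
  set N : Matrix (Fin (2 * m)) (Fin m ⊕ Fin m) F := Matrix.of (fun i a => x a i) with hN
  have hNcol : ∀ a, N *ᵥ Pi.single a 1 = x a := by
    intro a
    rw [Matrix.mulVec_single_one]
    rfl
  have hNJ : Nᵀ * G * N = Matrix.J (Fin m) F := by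
    ext a b
    have := hxJ a b
    rw [hBapp, ← hNcol a, ← hNcol b, dot_mulVec_rect, Matrix.mulVec_single_one, single_dotProduct,
      one_mul] at this
    exact this
  set K : Matrix (Fin (2 * m)) (Fin (2 * m)) F := N * Pre' m F with hK
  have hKG : Kᵀ * G * K
      = ((skewRep m F : GL (Fin (2 * m)) F) : Matrix (Fin (2 * m)) (Fin (2 * m)) F) := by
    rw [skewRep_coe, ← hNJ, hK, Matrix.transpose_mul]
    simp only [Matrix.mul_assoc]
  have hKdet : K.det ≠ 0 := by
    intro h0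
    have h1 : ((skewRep m F : GL (Fin (2 * m)) F) : Matrix (Fin (2 * m)) (Fin (2 * m)) F).det
        ≠ 0 := ((Matrix.isUnit_iff_isUnit_det _).1 (skewRep m F).isUnit).ne_zero
    apply h1
    rw [← hKG, Matrix.det_mul, Matrix.det_mul, h0, mul_zero]
  rw [isConjUnder_graphAut_iff]
  refine ⟨gT (Matrix.GeneralLinearGroup.mkOfDetNeZero K hKdet), 1, ?_⟩
  rw [Units.val_one, one_smul, gT_coe, Matrix.transpose_transpose]
  exact hKG.symm

end skew

end Cfsg.Agent.Helper7.GraphPSL
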