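import Cfsg.Agent.Helper7.GraphPSL8

/-!
# Graph automorphisms of `PSL_n`, part 9 (helper7)

Diagonal representatives and the non-conjugacy criteria.
-/

set_option autoImplicit false
set_option linter.unusedSectionVars false

namespace Cfsg.Agent.Helper7.GraphPSL

open scoped Matrix

variable {n : ℕ} {F : Type*} [Field F]

theorem update_mul_update (i₀ : Fin n) (x y : F) :
    (fun i => Function.update (fun _ : Fin n => (1 : F)) i₀ x i
      * Function.update (fun _ : Fin n => (1 : F)) i₀ y i)
      = Function.update (fun _ : Fin n => (1 : F)) i₀ (x * y) := by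
  funext i
  by_cases h : i = i₀
  · subst h
    simp
  · simp [Function.update_of_ne h]

theorem update_one_one (i₀ : Fin n) :
    Function.update (fun _ : Fin n => (1 : F)) i₀ 1 = fun _ => 1 := by
  funext i
  by_cases h : i = i₀
  · subst h
    simp
  · simp [Function.update_of_ne h]

/-- the diagonal matrix with entry `x` at position `i₀` and ones elsewhere -/
def diagRep (i₀ : Fin n) (x : Fˣ) : GL (Fin n) F :=
  ⟨Matrix.diagonal (Function.update (fun _ => (1 : F)) i₀ (x : F)),
    Matrix.diagonal (Function.update (fun _ => (1 : F)) i₀ ((x⁻¹ : Fˣ) : F)), by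
    rw [Matrix.diagonal_mul_diagonal, update_mul_update, ← Units.val_mul, mul_inv_cancel,
      Units.val_one, update_one_one, Matrix.diagonal_one], by
    rw [Matrix.diagonal_mul_diagonal, update_mul_update, ← Units.val_mul, inv_mul_cancel,
      Units.val_one, update_one_one, Matrix.diagonal_one]⟩

theorem diagRep_coe (i₀ : Fin n) (x : Fˣ) :
    ((diagRep i₀ x : GL (Fin n) F) : Matrix (Fin n) (Fin n) F)
      = Matrix.diagonal (Function.update (fun _ => (1 : F)) i₀ (x : F)) := rfl

theorem diagRep_transpose (i₀ : Fin n) (x : Fˣ) :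
    ((diagRep i₀ x : GL (Fin n) F) : Matrix (Fin n) (Fin n) F)ᵀ
      = ((diagRep i₀ x : GL (Fin n) F) : Matrix (Fin n) (Fin n) F) := by
  rw [diagRep_coe, Matrix.diagonal_transpose]

theorem diagRep_det (i₀ : Fin n) (x : Fˣ) :
    ((diagRep i₀ x : GL (Fin n) F) : Matrix (Fin n) (Fin n) F).det = (x : F) := by
  rw [diagRep_coe, Matrix.det_diagonal, Finset.prod_update_of_mem (Finset.mem_univ i₀),
    Finset.prod_const_one, mul_one]

/-- a skew-symmetric and a symmetric matrix never give conjugate graph automorphisms (char ≠ 2) -/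
theorem not_isConjUnder_skew_symm (h2 : (2 : F) ≠ 0) (hn : 0 < n) (g g' : GL (Fin n) F)
    (hg : (g : Matrix (Fin n) (Fin n) F)ᵀ = -(g : Matrix (Fin n) (Fin n) F))
    (hg' : (g' : Matrix (Fin n) (Fin n) F)ᵀ = (g' : Matrix (Fin n) (Fin n) F)) :
    ¬ Cfsg.IsConjUnder (Cfsg.inndiagPSL n F) (graphAut g) (graphAut g') := by
  rw [isConjUnder_graphAut_iff]
  rintro ⟨h, c, hc⟩
  set G' : Matrix (Fin n) (Fin n) F := (g' : Matrix (Fin n) (Fin n) F) with hG'
  have e1 : G'ᵀ = -G' := by
    rw [hc, Matrix.transpose_smul, Matrix.transpose_mul, Matrix.transpose_mul,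
      Matrix.transpose_transpose, hg, Matrix.neg_mul, Matrix.mul_neg, smul_neg, Matrix.mul_assoc]
  rw [hg'] at e1
  have e2 : (2 : F) • G' = 0 := by
    rw [two_smul]
    nth_rewrite 1 [e1]
    exact neg_add_cancel G'
  have e3 : G' = 0 := by
    rcases smul_eq_zero.1 e2 with h0 | h0
    · exact absurd h0 h2
    · exact h0
  have hdet : G'.det ≠ 0 := ((Matrix.isUnit_iff_isUnit_det _).1 g'.isUnit).ne_zero
  apply hdet
  rw [e3]
  have : Nonempty (Fin n) := ⟨⟨0, hn⟩⟩
  exact Matrix.det_zero

/-- in even dimension the square class of the determinant is a conjugacy invariant -/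
theorem isSquare_det_iff_of_isConjUnder {m : ℕ} (g g' : GL (Fin (2 * m)) F)
    (h : Cfsg.IsConjUnder (Cfsg.inndiagPSL (2 * m) F) (graphAut g) (graphAut g')) :
    IsSquare (g : Matrix (Fin (2 * m)) (Fin (2 * m)) F).det
      ↔ IsSquare (g' : Matrix (Fin (2 * m)) (Fin (2 * m)) F).det := by
  rw [isConjUnder_graphAut_iff] at h
  obtain ⟨k, c, hc⟩ := h
  set s : F := (c : F) ^ m * (k : Matrix (Fin (2 * m)) (Fin (2 * m)) F).det with hs
  have hs0 : s ≠ 0 := by
    apply mul_ne_zero (pow_ne_zero _ c.ne_zero)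
    exact ((Matrix.isUnit_iff_isUnit_det _).1 k.isUnit).ne_zero
  have e1 : (g' : Matrix (Fin (2 * m)) (Fin (2 * m)) F).det
      = s ^ 2 * (g : Matrix (Fin (2 * m)) (Fin (2 * m)) F).det := by
    rw [hc, Matrix.det_smul, Matrix.det_mul, Matrix.det_mul, Matrix.det_transpose,
      Fintype.card_fin, pow_mul', hs]
    ring
  rw [e1]
  constructor
  · intro h
    exact (IsSquare.sq s).mul h
  · rintro ⟨t, ht⟩
    refine ⟨t / s, ?_⟩
    field_simp
    linear_combination ht

end Cfsg.Agent.Helper7.GraphPSL
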