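import Mathlib
import Cfsg.Prelude.Def_LieTypeDatum
import Cfsg.Agent.Helper7.GraphPSL2
import Cfsg.Agent.Helper28.GU

/-!
# Graph automorphisms of `PSU_n`, part 1 (helper7)

Data of the involution `x ↦ x ^ q`, the matrix description of `SU_n`, homomorphisms of `SU_n`
induced by monoid endomorphisms of the matrix ring.
-/

set_option autoImplicit false
set_option linter.unusedSectionVars false

namespace Cfsg.Agent.Helper7.GraphPSU

open Matrix

/-- the involution `x ↦ x ^ q` of a field with `q ^ 2` elements -/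
structure UData (F : Type*) [Field F] (q : ℕ) where
  /-- the involution -/
  bar : F ≃+* F
  bar_apply : ∀ x, bar x = x ^ q
  bar_bar : ∀ x, bar (bar x) = x
  bar_ne : ∃ t, bar t ≠ t

variable {F : Type*} [Field F] {n q : ℕ} (D : UData F q)

/-- the matrix of an element of `SU_n` -/
def suMat (s : ↥(Cfsg.SU n F q)) : Matrix (Fin n) (Fin n) F :=
  ((s : Matrix.SpecialLinearGroup (Fin n) F) : Matrix (Fin n) (Fin n) F)

theorem suMat_injective : Function.Injective (suMat : ↥(Cfsg.SU n F q) → _) := by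
  intro s t h
  apply Subtype.ext
  apply Subtype.ext
  exact h

theorem suMat_mul (s t : ↥(Cfsg.SU n F q)) : suMat (s * t) = suMat s * suMat t := rfl

theorem suMat_one : suMat (1 : ↥(Cfsg.SU n F q)) = 1 := rfl

theorem suMat_det (s : ↥(Cfsg.SU n F q)) : (suMat s).det = 1 := s.1.2

/-- unitarity of a matrix -/
def IsU (M : Matrix (Fin n) (Fin n) F) : Prop := Mᵀ * M.map D.bar = 1

theorem isU_iff_preserves (M : Matrix (Fin n) (Fin n) F) :
    IsU D M ↔ ∀ u v, Cfsg.hermForm n F q (M *ᵥ u) (M *ᵥ v) = Cfsg.hermForm n F q u v :=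
  (Cfsg.Agent.Helper28.GUlib.preserves_iff (D.bar : F →+* F) D.bar_apply M).symm

theorem suMat_isU (s : ↥(Cfsg.SU n F q)) : IsU D (suMat s) :=
  (isU_iff_preserves D _).2 s.2

/-- build an element of `SU_n` from a unitary matrix of determinant one -/
def mkSU (M : Matrix (Fin n) (Fin n) F) (hdet : M.det = 1) (hU : IsU D M) : ↥(Cfsg.SU n F q) :=
  ⟨⟨M, hdet⟩, (isU_iff_preserves D M).1 hU⟩

theorem suMat_mkSU (M : Matrix (Fin n) (Fin n) F) (hdet : M.det = 1) (hU : IsU D M) :
    suMat (mkSU D M hdet hU) = M := rfl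

theorem mem_GU_iff (g : GL (Fin n) F) :
    g ∈ Cfsg.GU n F q ↔ IsU D (g : Matrix (Fin n) (Fin n) F) :=
  Cfsg.Agent.Helper28.GUlib.mem_GU_iff (D.bar : F →+* F) D.bar_apply g

open Cfsg.Agent.Helper7.GraphPSL (gT gT_coe gT_mul gT_inv gT_gT)

/-- entrywise conjugation on `GL_n` -/
def barGL : GL (Fin n) F →* GL (Fin n) F := Matrix.GeneralLinearGroup.map (D.bar : F →+* F)

theorem barGL_coe (g : GL (Fin n) F) :
    ((barGL D g : GL (Fin n) F) : Matrix (Fin n) (Fin n) F)
      = (g : Matrix (Fin n) (Fin n) F).map D.bar := rfl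

theorem barGL_barGL (g : GL (Fin n) F) : barGL D (barGL D g) = g := by
  apply Units.ext
  rw [barGL_coe, barGL_coe]
  ext i j
  simp only [Matrix.map_apply, D.bar_bar]

theorem barGL_gT (g : GL (Fin n) F) : barGL D (gT g) = gT (barGL D g) := by
  apply Units.ext
  rw [barGL_coe, gT_coe, gT_coe, barGL_coe, Matrix.transpose_map]

/-- the embedding of `SU_n` into `GL_n` -/
def suGL : ↥(Cfsg.SU n F q) →* GL (Fin n) F :=
  (Matrix.SpecialLinearGroup.toGL).comp (Cfsg.SU n F q).subtype

theorem suGL_coe (s : ↥(Cfsg.SU n F q)) :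
    ((suGL s : GL (Fin n) F) : Matrix (Fin n) (Fin n) F) = suMat s := rfl

theorem suGL_injective : Function.Injective (suGL : ↥(Cfsg.SU n F q) →* GL (Fin n) F) := by
  intro s t h
  apply suMat_injective
  rw [← suGL_coe, ← suGL_coe, h]

/-- unitarity of an element of `GL_n` -/
def IsUG (g : GL (Fin n) F) : Prop := gT g * barGL D g = 1

theorem isUG_iff (g : GL (Fin n) F) : IsUG D g ↔ IsU D (g : Matrix (Fin n) (Fin n) F) := by
  unfold IsUG IsU
  rw [Units.ext_iff, Units.val_mul, gT_coe, barGL_coe, Units.val_one]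

theorem suGL_isUG (s : ↥(Cfsg.SU n F q)) : IsUG D (suGL s) :=
  (isUG_iff D _).2 (suMat_isU D s)

theorem suGL_det (s : ↥(Cfsg.SU n F q)) : Matrix.GeneralLinearGroup.det (suGL s) = 1 := by
  apply Units.ext
  rw [Matrix.GeneralLinearGroup.val_det_apply, suGL_coe, suMat_det, Units.val_one]

/-- build an element of `SU_n` from a unitary element of `GL_n` of determinant one -/
def mkSUG (g : GL (Fin n) F) (hdet : Matrix.GeneralLinearGroup.det g = 1) (hU : IsUG D g) :
    ↥(Cfsg.SU n F q) :=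
  mkSU D (g : Matrix (Fin n) (Fin n) F) (by
    have := congrArg Units.val hdet
    rwa [Matrix.GeneralLinearGroup.val_det_apply, Units.val_one] at this) ((isUG_iff D g).1 hU)

theorem suGL_mkSUG (g : GL (Fin n) F) (hdet : Matrix.GeneralLinearGroup.det g = 1)
    (hU : IsUG D g) : suGL (mkSUG D g hdet hU) = g := by
  apply Units.ext
  rfl

/-- an endomorphism of `GL_n` preserving unitary matrices of determinant one induces an
endomorphism of `SU_n` -/
def suHom (f : GL (Fin n) F →* GL (Fin n) F)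
    (hf : ∀ g : GL (Fin n) F, Matrix.GeneralLinearGroup.det g = 1 → IsUG D g →
      Matrix.GeneralLinearGroup.det (f g) = 1 ∧ IsUG D (f g)) :
    ↥(Cfsg.SU n F q) →* ↥(Cfsg.SU n F q) where
  toFun s := mkSUG D (f (suGL s)) (hf _ (suGL_det s) (suGL_isUG D s)).1
    (hf _ (suGL_det s) (suGL_isUG D s)).2
  map_one' := by
    apply suGL_injective
    rw [suGL_mkSUG, map_one, map_one]
  map_mul' s t := by
    apply suGL_injective
    rw [suGL_mkSUG, map_mul, map_mul, map_mul, suGL_mkSUG, suGL_mkSUG]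

theorem suGL_suHom (f : GL (Fin n) F →* GL (Fin n) F)
    (hf : ∀ g : GL (Fin n) F, Matrix.GeneralLinearGroup.det g = 1 → IsUG D g →
      Matrix.GeneralLinearGroup.det (f g) = 1 ∧ IsUG D (f g))
    (s : ↥(Cfsg.SU n F q)) : suGL (suHom D f hf s) = f (suGL s) :=
  suGL_mkSUG D _ (hf _ (suGL_det s) (suGL_isUG D s)).1 (hf _ (suGL_det s) (suGL_isUG D s)).2

/-- an automorphism of `SU_n` from two mutually inverse endomorphisms of `GL_n` -/
def suAut (f f' : GL (Fin n) F →* GL (Fin n) F)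
    (hf : ∀ g : GL (Fin n) F, Matrix.GeneralLinearGroup.det g = 1 → IsUG D g →
      Matrix.GeneralLinearGroup.det (f g) = 1 ∧ IsUG D (f g))
    (hf' : ∀ g : GL (Fin n) F, Matrix.GeneralLinearGroup.det g = 1 → IsUG D g →
      Matrix.GeneralLinearGroup.det (f' g) = 1 ∧ IsUG D (f' g))
    (h1 : ∀ g, f' (f g) = g) (h2 : ∀ g, f (f' g) = g) : MulAut ↥(Cfsg.SU n F q) :=
  MonoidHom.toMulEquiv (suHom D f hf) (suHom D f' hf')
    (by
      apply MonoidHom.ext
      intro s
      apply suGL_injective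
      rw [MonoidHom.comp_apply, suGL_suHom, suGL_suHom, h1]
      rfl)
    (by
      apply MonoidHom.ext
      intro s
      apply suGL_injective
      rw [MonoidHom.comp_apply, suGL_suHom, suGL_suHom, h2]
      rfl)

theorem suGL_suAut (f f' : GL (Fin n) F →* GL (Fin n) F)
    (hf : ∀ g : GL (Fin n) F, Matrix.GeneralLinearGroup.det g = 1 → IsUG D g →
      Matrix.GeneralLinearGroup.det (f g) = 1 ∧ IsUG D (f g))
    (hf' : ∀ g : GL (Fin n) F, Matrix.GeneralLinearGroup.det g = 1 → IsUG D g →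
      Matrix.GeneralLinearGroup.det (f' g) = 1 ∧ IsUG D (f' g))
    (h1 : ∀ g, f' (f g) = g) (h2 : ∀ g, f (f' g) = g) (s : ↥(Cfsg.SU n F q)) :
    suGL (suAut D f f' hf hf' h1 h2 s) = f (suGL s) :=
  suGL_suHom D f hf s

end Cfsg.Agent.Helper7.GraphPSU
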