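import Cfsg.Agent.Helper7.GraphPSU9
import Cfsg.Agent.Helper7.GraphPSL7

/-!
# Graph automorphisms of `PSU_n`, part 10 (helper7)

Transfer between `PSU_n(q)` and `PSL_n(q)`: conjugacy of related graph automorphisms (T3) and
isomorphism of their centralizers (T2).
-/

set_option autoImplicit false
set_option linter.unusedSectionVars false

namespace Cfsg.Agent.Helper7.GraphPSU

open Matrix
open Cfsg.Agent.Helper7.GraphPSL (gT gT_coe gT_mul gT_inv gT_gT graphAut)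

variable {F : Type*} [Field F] {n q : ℕ} {F₀ : Type*} [Field F₀] (E : UDesc F q F₀)

/-- the middle statement: the two forms over `F₀` are similar -/
def SimRel (A₀ A₀' : GL (Fin n) F₀) : Prop :=
  ∃ (m : GL (Fin n) F₀) (c : F₀ˣ), gT m * A₀' * m = scalarGL c * A₀

theorem simRel_iff_isConjUnder (A₀ A₀' : GL (Fin n) F₀) :
    SimRel A₀ A₀' ↔
      Cfsg.IsConjUnder (Cfsg.inndiagPSL n F₀) (graphAut A₀) (graphAut A₀') := by
  rw [Cfsg.Agent.Helper7.GraphPSL.isConjUnder_graphAut_iff]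
  constructor
  · rintro ⟨m, c, hm⟩
    refine ⟨(gT m)⁻¹, c, ?_⟩
    have h1 : A₀' = scalarGL c * ((gT m)⁻¹ * A₀ * gT ((gT m)⁻¹)) := by
      rw [gT_inv, gT_gT]
      calc A₀' = (gT m)⁻¹ * (gT m * A₀' * m) * m⁻¹ := by group
        _ = (gT m)⁻¹ * (scalarGL c * A₀) * m⁻¹ := by rw [hm]
        _ = ((gT m)⁻¹ * scalarGL c) * A₀ * m⁻¹ := by group
        _ = (scalarGL c * (gT m)⁻¹) * A₀ * m⁻¹ := by rw [scalarGL_comm]
        _ = _ := by group
    have := congrArg Units.val h1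
    rw [Units.val_mul, scalarGL_coe, Units.val_mul, Units.val_mul, gT_coe, Matrix.smul_mul,
      Matrix.one_mul] at this
    exact this
  · rintro ⟨h, c, hc⟩
    refine ⟨(gT h)⁻¹, c, ?_⟩
    have h1 : A₀' = scalarGL c * (h * A₀ * gT h) := by
      apply Units.ext
      rw [Units.val_mul, scalarGL_coe, Units.val_mul, Units.val_mul, gT_coe, Matrix.smul_mul,
        Matrix.one_mul]
      exact hc
    rw [h1, ← gT_inv, gT_gT]
    calc h⁻¹ * (scalarGL c * (h * A₀ * gT h)) * (gT h)⁻¹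
        = h⁻¹ * (scalarGL c * h) * A₀ := by group
      _ = h⁻¹ * (h * scalarGL c) * A₀ := by rw [scalarGL_comm]
      _ = _ := by group

/-- **T3**: conjugacy of related graph automorphisms. -/
theorem isConjUnder_iff_of_rel [Finite F] (hn : 3 ≤ n) {γ γ' : MulAut (Cfsg.PSU n F q)}
    {A₀ A₀' : GL (Fin n) F₀} (hr : Rel E γ A₀) (hr' : Rel E γ' A₀') :
    Cfsg.IsConjUnder (Cfsg.inndiagPSU n F q) γ γ' ↔
      Cfsg.IsConjUnder (Cfsg.inndiagPSL n F₀) (graphAut A₀) (graphAut A₀') := by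
  have : NeZero n := ⟨by omega⟩
  rw [← simRel_iff_isConjUnder]
  set D := E.toUData with hD
  obtain ⟨a, ε, hg, rfl, hA⟩ := hr
  obtain ⟨a', ε', hg', rfl, hA'⟩ := hr'
  constructor
  · rintro ⟨β, hβ, hconj⟩
    rw [inndiagPSU_eq_range D] at hβ
    obtain ⟨k, rfl⟩ := hβ
    rw [cU_conj_gammaU, gammaU_eq_iff D hn] at hconj
    obtain ⟨s, hs⟩ := exists_scalarGL hconj
    rw [Subgroup.coe_mul, Subgroup.coe_inv, Subgroup.coe_mul, Subgroup.coe_mul, Subgroup.coe_inv,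
      barHS_coe] at hs
    have hs' : (k : GL (Fin n) F) * (a * (barGL D a)⁻¹) * (barGL D (k : GL (Fin n) F))⁻¹
        = scalarGL s * (a' * (barGL D a')⁻¹) := by
      rw [scalarGL_comm, ← hs]
      show _ = (a' * (barGL D a')⁻¹) * ((a' * (barGL D a')⁻¹)⁻¹ * _)
      rw [mul_inv_cancel_left]
    obtain ⟨m, ν, c, -, hm⟩ := descend_conj E a a' ε ε' A₀ A₀' hA hA' k k.2 s hs'
    exact ⟨m, c, hm⟩
  · rintro ⟨m, c, hm⟩
    obtain ⟨hk, hkk⟩ := ascend_conj E a a' ε ε' A₀ A₀' hA hA' m c hm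
    refine ⟨cU D ⟨a' * jGL E m * a⁻¹, hk⟩, ?_, ?_⟩
    · rw [inndiagPSU_eq_range D]
      exact ⟨_, rfl⟩
    · rw [cU_conj_gammaU]
      congr 1
      apply Subtype.ext
      rw [Subgroup.coe_mul, Subgroup.coe_mul, Subgroup.coe_inv, barHS_coe]
      exact hkk.symm

/-! ### centralizers -/

open Cfsg.Agent.Helper7.GraphPSL (PhiP PhiP_commute_iff centralizer_graphAut_equiv)

/-- the similarity group of the bilinear form with matrix `A₀` -/
noncomputable def simS (A₀ : GL (Fin n) F₀) : Subgroup (GL (Fin n) F₀) :=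
  (Subgroup.centralizer {graphAut A₀}).comap
    (PhiP (1 : Matrix (Fin n) (Fin n) F₀) 1 (Matrix.one_mul 1) (Matrix.one_mul 1))

theorem mem_simS_iff' (A₀ m : GL (Fin n) F₀) :
    m ∈ simS A₀ ↔ ∃ c : F₀ˣ, (m : Matrix (Fin n) (Fin n) F₀)ᵀ
        * ((1 : Matrix (Fin n) (Fin n) F₀)ᵀ * (A₀ : Matrix (Fin n) (Fin n) F₀) * 1)
        * (m : Matrix (Fin n) (Fin n) F₀)
      = (c : F₀) • ((1 : Matrix (Fin n) (Fin n) F₀)ᵀ * (A₀ : Matrix (Fin n) (Fin n) F₀) * 1) := by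
  unfold simS
  rw [Subgroup.mem_comap, Subgroup.mem_centralizer_singleton_iff, PhiP_commute_iff]

theorem mem_simS_iff (A₀ m : GL (Fin n) F₀) :
    m ∈ simS A₀ ↔ ∃ c : F₀ˣ, gT m * A₀ * m = scalarGL c * A₀ := by
  rw [mem_simS_iff']
  constructor
  · rintro ⟨c, hc⟩
    refine ⟨c, ?_⟩
    apply Units.ext
    rw [Units.val_mul, Units.val_mul, Units.val_mul, gT_coe, scalarGL_coe, Matrix.smul_mul,
      Matrix.one_mul]
    rw [Matrix.transpose_one, Matrix.one_mul, Matrix.mul_one] at hc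
    exact hc
  · rintro ⟨c, hc⟩
    refine ⟨c, ?_⟩
    have := congrArg Units.val hc
    rw [Units.val_mul, Units.val_mul, Units.val_mul, gT_coe, scalarGL_coe, Matrix.smul_mul,
      Matrix.one_mul] at this
    rw [Matrix.transpose_one, Matrix.one_mul, Matrix.mul_one]
    exact this

theorem centralizer_PSL_equiv (A₀ : GL (Fin n) F₀) :
    Nonempty (↥(Cfsg.inndiagPSL n F₀ ⊓ Subgroup.centralizer {graphAut A₀})
      ≃* Cfsg.projQuot (simS A₀)) :=
  centralizer_graphAut_equiv (1 : Matrix (Fin n) (Fin n) F₀) 1 (Matrix.one_mul 1)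
    (Matrix.one_mul 1) A₀ (simS A₀) (mem_simS_iff' A₀)

end Cfsg.Agent.Helper7.GraphPSU
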