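import Cfsg.Agent.Helper7.GraphPSU10

/-!
# Graph automorphisms of `PSU_n`, part 11 (helper7)

The centralizer in `Inndiag(PSU_n(q))` of a graph automorphism related to the matrix `A₀` over
`F₀` is the projective similarity group of `A₀` (T2).
-/

set_option autoImplicit false
set_option linter.unusedSectionVars false

namespace Cfsg.Agent.Helper7.GraphPSU

open Matrix
open Cfsg.Agent.Helper7.GraphPSL (gT gT_coe gT_mul gT_inv gT_gT graphAut)

variable {F : Type*} [Field F] {n q : ℕ} {F₀ : Type*} [Field F₀] (E : UDesc F q F₀)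

/-- conjugate of the base change -/
def conjJ (a : GL (Fin n) F) : GL (Fin n) F₀ →* GL (Fin n) F :=
  (MulAut.conj a).toMonoidHom.comp (jGL E)

theorem conjJ_apply (a : GL (Fin n) F) (m : GL (Fin n) F₀) :
    conjJ E a m = a * jGL E m * a⁻¹ := rfl

theorem conjJ_mem_HS (a : GL (Fin n) F) (ε : Fˣ) (A₀ : GL (Fin n) F₀)
    (hA : gT a * barGL E.toUData a = scalarGL ε * jGL E A₀) (m : ↥(simS A₀)) :
    conjJ E a (m : GL (Fin n) F₀) ∈ HS E.toUData n := by
  obtain ⟨c, hc⟩ := (mem_simS_iff A₀ m).1 m.2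
  exact (ascend_conj E a a ε ε A₀ A₀ hA hA m c hc).1

/-- the hom from the similarity group of `A₀` to the Hermitian similitudes -/
noncomputable def simToHS (a : GL (Fin n) F) (ε : Fˣ) (A₀ : GL (Fin n) F₀)
    (hA : gT a * barGL E.toUData a = scalarGL ε * jGL E A₀) : ↥(simS A₀) →* ↥(HS E.toUData n) :=
  ((conjJ E a).comp (simS A₀).subtype).codRestrict (HS E.toUData n) (conjJ_mem_HS E a ε A₀ hA)

theorem simToHS_coe (a : GL (Fin n) F) (ε : Fˣ) (A₀ : GL (Fin n) F₀)
    (hA : gT a * barGL E.toUData a = scalarGL ε * jGL E A₀) (m : ↥(simS A₀)) :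
    ((simToHS E a ε A₀ hA m : ↥(HS E.toUData n)) : GL (Fin n) F)
      = a * jGL E (m : GL (Fin n) F₀) * a⁻¹ := rfl

/-- **T2** (unitary side): the centralizer of a related graph automorphism -/
theorem centralizer_PSU_equiv [Finite F] (hn : 3 ≤ n) {γ : MulAut (Cfsg.PSU n F q)}
    {A₀ : GL (Fin n) F₀} (hr : Rel E γ A₀) :
    Nonempty (↥(Cfsg.inndiagPSU n F q ⊓ Subgroup.centralizer {γ}) ≃* Cfsg.projQuot (simS A₀)) := by
  have : NeZero n := ⟨by omega⟩
  set D := E.toUData with hD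
  obtain ⟨a, ε, hg, rfl, hA⟩ := hr
  set Φ : ↥(simS A₀) →* MulAut (Cfsg.PSU n F q) := (cU D).comp (simToHS E a ε A₀ hA) with hΦ
  have hΦa : ∀ m, Φ m = cU D (simToHS E a ε A₀ hA m) := fun m => rfl
  set g : ↥(HS D n) := ⟨a * (barGL D a)⁻¹, hg⟩ with hgdef
  -- the range
  have hrange : Φ.range = Cfsg.inndiagPSU n F q ⊓ Subgroup.centralizer {gammaU D g} := by
    ext β
    rw [Subgroup.mem_inf, Subgroup.mem_centralizer_singleton_iff, inndiagPSU_eq_range D]
    constructor
    · rintro ⟨m, rfl⟩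
      refine ⟨⟨_, rfl⟩, ?_⟩
      rw [hΦa]
      obtain ⟨c, hc⟩ := (mem_simS_iff A₀ m).1 m.2
      have hkk := (ascend_conj E a a ε ε A₀ A₀ hA hA m c hc).2
      have h1 : cU D (simToHS E a ε A₀ hA m) * gammaU D g * (cU D (simToHS E a ε A₀ hA m))⁻¹
          = gammaU D g := by
        rw [cU_conj_gammaU]
        congr 1
        apply Subtype.ext
        rw [Subgroup.coe_mul, Subgroup.coe_mul, Subgroup.coe_inv, barHS_coe, simToHS_coe]
        exact hkk
      calc cU D (simToHS E a ε A₀ hA m) * gammaU D g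
          = (cU D (simToHS E a ε A₀ hA m) * gammaU D g * (cU D (simToHS E a ε A₀ hA m))⁻¹)
            * cU D (simToHS E a ε A₀ hA m) := by group
        _ = _ := by rw [h1]
    · rintro ⟨⟨k, rfl⟩, hcomm⟩
      have h1 : cU D k * gammaU D g * (cU D k)⁻¹ = gammaU D g := by
        rw [hcomm]
        group
      rw [cU_conj_gammaU, gammaU_eq_iff D hn] at h1
      obtain ⟨s, hs⟩ := exists_scalarGL h1
      rw [Subgroup.coe_mul, Subgroup.coe_inv, Subgroup.coe_mul, Subgroup.coe_mul, Subgroup.coe_inv,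
        barHS_coe] at hs
      have hs' : (k : GL (Fin n) F) * (a * (barGL D a)⁻¹) * (barGL D (k : GL (Fin n) F))⁻¹
          = scalarGL s⁻¹ * (a * (barGL D a)⁻¹) := by
        have e1 : (a * (barGL D a)⁻¹ : GL (Fin n) F)
            = ((k : GL (Fin n) F) * (a * (barGL D a)⁻¹) * (barGL D (k : GL (Fin n) F))⁻¹)
              * scalarGL s := by
          rw [← hs]
          show _ = _ * ((_)⁻¹ * (a * (barGL D a)⁻¹))
          rw [mul_inv_cancel_left]
        conv_rhs => rw [e1]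
        rw [scalarGL_inv, ← scalarGL_comm, inv_mul_cancel_left]
      obtain ⟨m, ν, c, hym, hm⟩ := descend_conj E a a ε ε A₀ A₀ hA hA k k.2 s⁻¹ hs'
      have hmS : m ∈ simS A₀ := (mem_simS_iff A₀ m).2 ⟨c, hm⟩
      refine ⟨⟨m, hmS⟩, ?_⟩
      rw [hΦa]
      have hk : k = scalarHS D ν * simToHS E a ε A₀ hA ⟨m, hmS⟩ := by
        apply Subtype.ext
        rw [Subgroup.coe_mul, simToHS_coe]
        show (k : GL (Fin n) F) = scalarGL ν * (a * jGL E m * a⁻¹)
        calc (k : GL (Fin n) F) = a * (a⁻¹ * k * a) * a⁻¹ := by group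
          _ = a * (scalarGL ν * jGL E m) * a⁻¹ := by rw [hym]
          _ = (a * scalarGL ν) * jGL E m * a⁻¹ := by group
          _ = (scalarGL ν * a) * jGL E m * a⁻¹ := by rw [scalarGL_comm]
          _ = _ := by group
      rw [hk, map_mul, cU_scalarHS, one_mul]
  -- the kernel
  have hker : Φ.ker = (Cfsg.Geo.scalars (Fin n) F₀).subgroupOf (simS A₀) := by
    ext m
    rw [MonoidHom.mem_ker, hΦa, cU_eq_one_iff D hn, simToHS_coe, Subgroup.mem_subgroupOf]
    constructor
    · intro h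
      obtain ⟨s, hs⟩ := exists_scalarGL h
      have h1 : jGL E (m : GL (Fin n) F₀) = scalarGL s * jGL E 1 := by
        rw [map_one, mul_one]
        calc jGL E (m : GL (Fin n) F₀) = a⁻¹ * (a * jGL E m * a⁻¹) * a := by group
          _ = a⁻¹ * (scalarGL s * a) := by rw [hs]; group
          _ = a⁻¹ * (a * scalarGL s) := by rw [scalarGL_comm]
          _ = _ := by group
      obtain ⟨c, hc⟩ := real_scalar E _ _ _ h1
      rw [hc, mul_one]
      exact scalarGL_mem c
    · intro h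
      obtain ⟨c, hc⟩ := exists_scalarGL h
      rw [hc, jGL_scalarGL, ← scalarGL_comm, mul_inv_cancel_right]
      exact scalarGL_mem _
  have e1 : ↥(simS A₀) ⧸ Φ.ker ≃* ↥Φ.range := QuotientGroup.quotientKerEquivRange Φ
  have e2 : ↥Φ.range ≃* ↥(Cfsg.inndiagPSU n F q ⊓ Subgroup.centralizer {gammaU D g}) :=
    MulEquiv.subgroupCongr hrange
  have e3 : ↥(simS A₀) ⧸ Φ.ker ≃* Cfsg.projQuot (simS A₀) :=
    QuotientGroup.quotientMulEquivOfEq hker
  exact ⟨(e2.symm.trans e1.symm).trans e3⟩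

end Cfsg.Agent.Helper7.GraphPSU
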