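import Cfsg.Agent.Helper7.GraphPSU11
import Cfsg.Agent.S0755

/-!
# Graph automorphisms of `PSU_n`, part 12 (helper7)

Every invertible Hermitian matrix over a finite field is of the form `aᵀ ā` (orthonormal bases),
and existence of a graph automorphism related to a given symmetric or skew matrix over `F₀` (T4).
-/

set_option autoImplicit false
set_option linter.unusedSectionVars false

namespace Cfsg.Agent.Helper7.GraphPSU

open Matrix
open Cfsg.Agent.Helper7.GraphPSL (gT gT_coe gT_mul gT_inv gT_gT graphAut)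

variable {F : Type*} [Field F] {n q : ℕ} (D : UData F q)

/-- the sesquilinear form with Gram matrix `H` -/
noncomputable def gramForm (H : Matrix (Fin n) (Fin n) F) :
    (Fin n → F) →ₛₗ[(D.bar : F →+* F)] (Fin n → F) →ₗ[F] F :=
  LinearMap.mk₂'ₛₗ (D.bar : F →+* F) (RingHom.id F)
    (fun u v => (fun i => D.bar (u i)) ⬝ᵥ (H *ᵥ v))
    (by
      intro u u' v
      have : (fun i => D.bar ((u + u') i)) = (fun i => D.bar (u i)) + (fun i => D.bar (u' i)) := by
        funext i
        exact map_add D.bar _ _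
      rw [this, add_dotProduct])
    (by
      intro c u v
      have : (fun i => D.bar ((c • u) i)) = D.bar c • (fun i => D.bar (u i)) := by
        funext i
        exact map_mul D.bar _ _
      rw [this, smul_dotProduct]
      rfl)
    (by
      intro u v v'
      rw [Matrix.mulVec_add, dotProduct_add])
    (by
      intro c u v
      rw [Matrix.mulVec_smul, dotProduct_smul]
      rfl)

theorem gramForm_apply (H : Matrix (Fin n) (Fin n) F) (u v : Fin n → F) :
    gramForm D H u v = (fun i => D.bar (u i)) ⬝ᵥ (H *ᵥ v) := rfl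

/-- every invertible Hermitian matrix over a finite field is `aᵀ ā` -/
theorem exists_gram [Finite F] (H : GL (Fin n) F) (hH : gT (barGL D H) = H) :
    ∃ a : GL (Fin n) F, gT a * barGL D a = H := by
  classical
  set Hm : Matrix (Fin n) (Fin n) F := (H : Matrix (Fin n) (Fin n) F) with hHm
  have hHerm : (Hm.map D.bar)ᵀ = Hm := by
    have := congrArg Units.val hH
    rwa [gT_coe, barGL_coe] at this
  have hsymm : (gramForm D Hm).IsSymm := by
    refine ⟨fun u v => ?_⟩
    rw [gramForm_apply, gramForm_apply]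
    show D.bar ((fun i => D.bar (u i)) ⬝ᵥ (Hm *ᵥ v)) = _
    simp only [dotProduct, Matrix.mulVec, map_sum, map_mul, D.bar_bar, Finset.mul_sum]
    rw [Finset.sum_comm]
    apply Finset.sum_congr rfl
    intro i _
    apply Finset.sum_congr rfl
    intro l _
    have h1 : D.bar (Hm l i) = Hm i l := by
      have := congrFun (congrFun hHerm i) l
      simpa using this
    rw [h1]
    ring
  have hsep : (gramForm D Hm).SeparatingRight := by
    intro v hv
    have h0 : Hm *ᵥ v = 0 := by
      funext i
      have := hv (Pi.single i 1)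
      rw [gramForm_apply] at this
      have e : (fun l => D.bar ((Pi.single i 1 : Fin n → F) l)) = Pi.single i 1 := by
        funext l
        by_cases hl : l = i
        · subst hl
          simp
        · simp [hl]
      rw [e, single_one_dotProduct] at this
      exact this
    have hinv : ((H⁻¹ : GL (Fin n) F) : Matrix (Fin n) (Fin n) F) * Hm = 1 := by
      rw [hHm, ← Units.val_mul, inv_mul_cancel, Units.val_one]
    calc v = (((H⁻¹ : GL (Fin n) F) : Matrix (Fin n) (Fin n) F) * Hm) *ᵥ v := by
          rw [hinv, Matrix.one_mulVec]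
      _ = 0 := by rw [← Matrix.mulVec_mulVec, h0, Matrix.mulVec_zero]
  obtain ⟨b, hb⟩ := Cfsg.Agent.S0755.aux (D.bar : F →+* F) (bar_ne_id D) D.bar_bar n
    (gramForm D Hm) hsymm hsep (Module.finrank_fin_fun F)
  -- the matrix of the orthonormal basis
  set N : Matrix (Fin n) (Fin n) F := Matrix.of fun r i => b i r with hN
  have hNHN : (N.map D.bar)ᵀ * Hm * N = 1 := by
    ext i l
    have := hb i l
    rw [gramForm_apply] at this
    rw [Matrix.mul_apply]
    simp only [Matrix.mul_apply, Matrix.transpose_apply, Matrix.map_apply, hN, Matrix.of_apply]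
    simp only [dotProduct, Matrix.mulVec] at this
    rw [Matrix.one_apply, ← this]
    simp only [Finset.sum_mul, Finset.mul_sum]
    rw [Finset.sum_comm]
    apply Finset.sum_congr rfl
    intro r _
    apply Finset.sum_congr rfl
    intro s _
    ring
  have hNdet : N.det ≠ 0 := by
    intro h0
    have := congrArg Matrix.det hNHN
    rw [Matrix.det_mul, h0, mul_zero, Matrix.det_one] at this
    exact zero_ne_one this
  set Ng : GL (Fin n) F := Matrix.GeneralLinearGroup.mkOfDetNeZero N hNdet with hNg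
  have hgl : gT (barGL D Ng) * H * Ng = 1 := by
    apply Units.ext
    rw [Units.val_mul, Units.val_mul, gT_coe, barGL_coe, Units.val_one]
    exact hNHN
  refine ⟨(barGL D Ng)⁻¹, ?_⟩
  rw [map_inv, barGL_barGL, gT_inv]
  calc (gT (barGL D Ng))⁻¹ * Ng⁻¹ = (gT (barGL D Ng))⁻¹ * (gT (barGL D Ng) * H * Ng) * Ng⁻¹ := by
        rw [hgl, mul_one]
    _ = H := by group

variable {F₀ : Type*} [Field F₀] (E : UDesc F q F₀)

theorem exists_rel_of_hermitian [Finite F] (hn : 3 ≤ n) (A₀ : GL (Fin n) F₀) (ε : Fˣ)
    (hε : gT (barGL E.toUData (scalarGL ε * jGL E A₀)) = scalarGL ε * jGL E A₀) :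
    ∃ γ : MulAut (Cfsg.PSU n F q), Cfsg.IsGraphAutClassPSU γ ∧ orderOf γ = 2 ∧ Rel E γ A₀ := by
  have : NeZero n := ⟨by omega⟩
  set D := E.toUData with hD
  obtain ⟨a, ha⟩ := exists_gram D _ hε
  have hg := rel_mem_HS E a ε A₀ ha
  refine ⟨gammaU D ⟨a * (barGL D a)⁻¹, hg⟩, isGraphAutClassPSU_gammaU D hn _, ?_,
    ⟨a, ε, hg, rfl, ha⟩⟩
  rw [orderOf_gammaU_eq_two_iff D hn]
  rw [Subgroup.coe_mul, barHS_coe]
  show a * (barGL D a)⁻¹ * barGL D (a * (barGL D a)⁻¹) ∈ _
  rw [map_mul, map_inv, barGL_barGL]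
  have : a * (barGL D a)⁻¹ * (barGL D a * a⁻¹) = 1 := by group
  rw [this]
  exact Subgroup.one_mem _

/-- **T4**: every symmetric or skew invertible matrix over `F₀` is related to an involutory graph
automorphism of `PSU_n(q)`. -/
theorem exists_rel_of_symm_or_skew [Finite F] (hn : 3 ≤ n) (A₀ : GL (Fin n) F₀)
    (h : (A₀ : Matrix (Fin n) (Fin n) F₀)ᵀ = (A₀ : Matrix (Fin n) (Fin n) F₀) ∨
      (A₀ : Matrix (Fin n) (Fin n) F₀)ᵀ = -(A₀ : Matrix (Fin n) (Fin n) F₀)) :
    ∃ γ : MulAut (Cfsg.PSU n F q), Cfsg.IsGraphAutClassPSU γ ∧ orderOf γ = 2 ∧ Rel E γ A₀ := by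
  set D := E.toUData with hD
  rcases h with h | h
  · have hT : gT A₀ = A₀ := Units.ext (by rw [gT_coe, h])
    apply exists_rel_of_hermitian E hn A₀ 1
    rw [barGL_scalarGL_mul, barGL_jGL, map_one, gT_scalarGL_mul, ← jGL_gT, hT]
  · obtain ⟨e, he0, he⟩ := exists_skew D
    have hT : gT A₀ = scalarGL (-1) * A₀ := by
      apply Units.ext
      rw [gT_coe, h, Units.val_mul, scalarGL_coe, Matrix.smul_mul, Matrix.one_mul, Units.val_neg,
        Units.val_one, neg_smul, one_smul]
    apply exists_rel_of_hermitian E hn A₀ (Units.mk0 e he0)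
    rw [barGL_scalarGL_mul, barGL_jGL, gT_scalarGL_mul, ← jGL_gT, hT, map_mul, jGL_scalarGL,
      ← mul_assoc, ← scalarGL_mul]
    congr 2
    apply Units.ext
    rw [Units.val_mul, Units.coe_map, Units.coe_map, Units.val_mk0, Units.val_neg, Units.val_one]
    show E.bar e * E.j (-1) = e
    rw [map_neg, map_one]
    have : E.bar e = D.bar e := rfl
    rw [this]
    linear_combination -he

end Cfsg.Agent.Helper7.GraphPSU
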