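import Cfsg.Agent.Helper7.GraphPSU1

/-!
# Graph automorphisms of `PSU_n`, part 2 (helper7)

Hermitian similitudes, the conjugation hom `cU : HS →* MulAut (PSU_n)`, the field automorphisms
`phiU : (F ≃+* F) →* MulAut (PSU_n)`.
-/

set_option autoImplicit false
set_option linter.unusedSectionVars false

namespace Cfsg.Agent.Helper7.GraphPSU

open Matrix
open Cfsg.Agent.Helper7.GraphPSL (gT gT_coe gT_mul gT_inv gT_gT liftCenter liftCenter_mk)

variable {F : Type*} [Field F] {n q : ℕ} (D : UData F q)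

theorem scalars_comm {z : GL (Fin n) F} (hz : z ∈ Cfsg.Geo.scalars (Fin n) F) (g : GL (Fin n) F) :
    z * g = g * z := by
  rw [Cfsg.Geo.mem_scalars_iff] at hz
  obtain ⟨c, hc⟩ := hz
  apply Units.ext
  rw [Units.val_mul, Units.val_mul, hc, Matrix.smul_mul, Matrix.mul_smul, Matrix.one_mul,
    Matrix.mul_one]

/-- the Hermitian similitudes -/
def HS (n : ℕ) : Subgroup (GL (Fin n) F) where
  carrier := {x | gT x * barGL D x ∈ Cfsg.Geo.scalars (Fin n) F}
  one_mem' := by
    show gT 1 * barGL D 1 ∈ Cfsg.Geo.scalars (Fin n) F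
    have : gT (1 : GL (Fin n) F) = 1 := by
      apply Units.ext
      rw [gT_coe, Units.val_one, Matrix.transpose_one]
    rw [this, map_one, one_mul]
    exact Subgroup.one_mem _
  mul_mem' := by
    intro x y hx hy
    show gT (x * y) * barGL D (x * y) ∈ Cfsg.Geo.scalars (Fin n) F
    have hx' : gT x * barGL D x ∈ Cfsg.Geo.scalars (Fin n) F := hx
    have hy' : gT y * barGL D y ∈ Cfsg.Geo.scalars (Fin n) F := hy
    have : gT (x * y) * barGL D (x * y)
        = (gT x * barGL D x) * (gT y * barGL D y) := by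
      rw [gT_mul, map_mul]
      calc gT y * gT x * (barGL D x * barGL D y)
          = gT y * ((gT x * barGL D x) * barGL D y) := by group
        _ = gT y * (barGL D y * (gT x * barGL D x)) := by rw [scalars_comm hx']
        _ = (gT y * barGL D y) * (gT x * barGL D x) := by group
        _ = _ := (scalars_comm hx' _).symm
    rw [this]
    exact Subgroup.mul_mem _ hx' hy'
  inv_mem' := by
    intro x hx
    show gT x⁻¹ * barGL D x⁻¹ ∈ Cfsg.Geo.scalars (Fin n) F
    have hx' : gT x * barGL D x ∈ Cfsg.Geo.scalars (Fin n) F := hx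
    have h1 : barGL D x * gT x = gT x * barGL D x := by
      have := scalars_comm hx' (barGL D x)
      calc barGL D x * gT x = barGL D x * (gT x * barGL D x) * (barGL D x)⁻¹ := by group
        _ = (gT x * barGL D x) * barGL D x * (barGL D x)⁻¹ := by rw [this]
        _ = _ := by group
    have : gT x⁻¹ * barGL D x⁻¹ = (gT x * barGL D x)⁻¹ := by
      rw [gT_inv, map_inv, ← h1]
      group
    rw [this]
    exact Subgroup.inv_mem _ hx'

theorem mem_HS_iff (x : GL (Fin n) F) :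
    x ∈ HS D n ↔ gT x * barGL D x ∈ Cfsg.Geo.scalars (Fin n) F := Iff.rfl

theorem bar_gT_comm {x : GL (Fin n) F} (hx : x ∈ HS D n) :
    barGL D x * gT x = gT x * barGL D x := by
  have hx' : gT x * barGL D x ∈ Cfsg.Geo.scalars (Fin n) F := hx
  have := scalars_comm hx' (barGL D x)
  calc barGL D x * gT x = barGL D x * (gT x * barGL D x) * (barGL D x)⁻¹ := by group
    _ = (gT x * barGL D x) * barGL D x * (barGL D x)⁻¹ := by rw [this]
    _ = _ := by group

theorem isUG_mem_HS {g : GL (Fin n) F} (hg : IsUG D g) : g ∈ HS D n := by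
  rw [mem_HS_iff, show gT g * barGL D g = 1 from hg]
  exact Subgroup.one_mem _

/-- conjugation by a Hermitian similitude preserves unitarity -/
theorem isUG_conj {x : GL (Fin n) F} (hx : x ∈ HS D n) {g : GL (Fin n) F} (hg : IsUG D g) :
    IsUG D (x * g * x⁻¹) := by
  unfold IsUG at hg ⊢
  have hx' : gT x * barGL D x ∈ Cfsg.Geo.scalars (Fin n) F := hx
  have hz := scalars_comm hx'
  have h1 := bar_gT_comm D hx
  rw [gT_mul, gT_mul, gT_inv, map_mul, map_mul, map_inv]
  calc (gT x)⁻¹ * (gT g * gT x) * (barGL D x * barGL D g * (barGL D x)⁻¹)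
      = (gT x)⁻¹ * gT g * ((gT x * barGL D x) * barGL D g) * (barGL D x)⁻¹ := by group
    _ = (gT x)⁻¹ * gT g * (barGL D g * (gT x * barGL D x)) * (barGL D x)⁻¹ := by rw [hz]
    _ = (gT x)⁻¹ * (gT g * barGL D g) * gT x := by group
    _ = 1 := by rw [hg]; group

theorem det_conj (x g : GL (Fin n) F) :
    Matrix.GeneralLinearGroup.det (x * g * x⁻¹) = Matrix.GeneralLinearGroup.det g := by
  rw [map_mul, map_mul, map_inv, mul_comm, ← mul_assoc, inv_mul_cancel, one_mul]

/-- conjugation of `SU_n` by a Hermitian similitude, as an automorphism -/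
def conjSUaut (x : GL (Fin n) F) (hx : x ∈ HS D n) : MulAut ↥(Cfsg.SU n F q) :=
  suAut D (MulAut.conj x).toMonoidHom (MulAut.conj x⁻¹).toMonoidHom
    (fun g hdet hU => ⟨by
        show Matrix.GeneralLinearGroup.det (x * g * x⁻¹) = 1
        rw [det_conj, hdet], isUG_conj D hx hU⟩)
    (fun g hdet hU => ⟨by
        show Matrix.GeneralLinearGroup.det (x⁻¹ * g * (x⁻¹)⁻¹) = 1
        rw [det_conj, hdet], isUG_conj D ((HS D n).inv_mem hx) hU⟩)
    (fun g => by
      show x⁻¹ * (x * g * x⁻¹) * (x⁻¹)⁻¹ = g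
      group)
    (fun g => by
      show x * (x⁻¹ * g * (x⁻¹)⁻¹) * x⁻¹ = g
      group)

theorem suGL_conjSUaut (x : GL (Fin n) F) (hx : x ∈ HS D n) (s : ↥(Cfsg.SU n F q)) :
    suGL (conjSUaut D x hx s) = x * suGL s * x⁻¹ := by
  unfold conjSUaut
  rw [suGL_suAut]
  rfl

/-- conjugation of `SU_n` by a Hermitian similitude -/
def conjSU : ↥(HS D n) →* MulAut ↥(Cfsg.SU n F q) where
  toFun x := conjSUaut D x.1 x.2
  map_one' := by
    apply MulEquiv.ext
    intro s
    apply suGL_injective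
    rw [suGL_conjSUaut]
    show ((1 : ↥(HS D n)) : GL (Fin n) F) * suGL s * ((1 : ↥(HS D n)) : GL (Fin n) F)⁻¹ = _
    rw [Subgroup.coe_one, inv_one, one_mul, mul_one]
    rfl
  map_mul' x y := by
    apply MulEquiv.ext
    intro s
    apply suGL_injective
    rw [suGL_conjSUaut, MulAut.mul_apply, suGL_conjSUaut, suGL_conjSUaut]
    show ((x * y : ↥(HS D n)) : GL (Fin n) F) * suGL s * ((x * y : ↥(HS D n)) : GL (Fin n) F)⁻¹
      = (x : GL (Fin n) F) * ((y : GL (Fin n) F) * suGL s * (y : GL (Fin n) F)⁻¹)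
        * (x : GL (Fin n) F)⁻¹
    rw [Subgroup.coe_mul]
    group

theorem suGL_conjSU (x : ↥(HS D n)) (s : ↥(Cfsg.SU n F q)) :
    suGL (conjSU D x s) = (x : GL (Fin n) F) * suGL s * (x : GL (Fin n) F)⁻¹ :=
  suGL_conjSUaut D x.1 x.2 s

/-- the conjugation hom from the Hermitian similitudes to `Aut(PSU_n)` -/
noncomputable def cU : ↥(HS D n) →* MulAut (Cfsg.PSU n F q) :=
  (liftCenter ↥(Cfsg.SU n F q)).comp (conjSU D)

theorem cU_mk (x : ↥(HS D n)) (s : ↥(Cfsg.SU n F q)) :
    cU D x (QuotientGroup.mk s) = QuotientGroup.mk (conjSU D x s) := rfl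

/-! ### field automorphisms -/

/-- entrywise application of a field automorphism on `GL_n` -/
def tauGL (τ : F ≃+* F) : GL (Fin n) F →* GL (Fin n) F :=
  Matrix.GeneralLinearGroup.map (τ : F →+* F)

theorem tauGL_coe (τ : F ≃+* F) (g : GL (Fin n) F) :
    ((tauGL τ g : GL (Fin n) F) : Matrix (Fin n) (Fin n) F)
      = (g : Matrix (Fin n) (Fin n) F).map τ := rfl

theorem tauGL_symm (τ : F ≃+* F) (g : GL (Fin n) F) : tauGL τ.symm (tauGL τ g) = g := by
  apply Units.ext
  rw [tauGL_coe, tauGL_coe]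
  ext i j
  simp only [Matrix.map_apply, RingEquiv.symm_apply_apply]

theorem tauGL_symm' (τ : F ≃+* F) (g : GL (Fin n) F) : tauGL τ (tauGL τ.symm g) = g := by
  apply Units.ext
  rw [tauGL_coe, tauGL_coe]
  ext i j
  simp only [Matrix.map_apply, RingEquiv.apply_symm_apply]

theorem tauGL_gT (τ : F ≃+* F) (g : GL (Fin n) F) : tauGL τ (gT g) = gT (tauGL τ g) := by
  apply Units.ext
  rw [tauGL_coe, gT_coe, gT_coe, tauGL_coe, Matrix.transpose_map]

theorem bar_comm (τ : F ≃+* F) (x : F) : τ (D.bar x) = D.bar (τ x) := by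
  rw [D.bar_apply, D.bar_apply, map_pow]

theorem tauGL_barGL (τ : F ≃+* F) (g : GL (Fin n) F) :
    tauGL τ (barGL D g) = barGL D (tauGL τ g) := by
  apply Units.ext
  rw [tauGL_coe, barGL_coe, barGL_coe, tauGL_coe]
  ext i j
  simp only [Matrix.map_apply, bar_comm]

theorem tauGL_det (τ : F ≃+* F) (g : GL (Fin n) F) (h : Matrix.GeneralLinearGroup.det g = 1) :
    Matrix.GeneralLinearGroup.det (tauGL τ g) = 1 := by
  unfold tauGL
  rw [Matrix.GeneralLinearGroup.map_det, h, map_one]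

theorem tauGL_isUG (τ : F ≃+* F) {g : GL (Fin n) F} (h : IsUG D g) : IsUG D (tauGL τ g) := by
  unfold IsUG at h ⊢
  rw [← tauGL_gT, ← tauGL_barGL, ← map_mul, h, map_one]

theorem tauGL_mem_scalars (τ : F ≃+* F) {z : GL (Fin n) F}
    (hz : z ∈ Cfsg.Geo.scalars (Fin n) F) : tauGL τ z ∈ Cfsg.Geo.scalars (Fin n) F := by
  rw [Cfsg.Geo.mem_scalars_iff] at hz ⊢
  obtain ⟨c, hc⟩ := hz
  refine ⟨Units.map (τ : F →* F) c, ?_⟩
  rw [tauGL_coe, hc]
  ext i j
  by_cases hij : i = j
  · subst hij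
    simp
  · simp [hij]

theorem tauGL_mem_HS (τ : F ≃+* F) {x : GL (Fin n) F} (hx : x ∈ HS D n) :
    tauGL τ x ∈ HS D n := by
  rw [mem_HS_iff] at hx ⊢
  rw [← tauGL_gT, ← tauGL_barGL, ← map_mul]
  exact tauGL_mem_scalars τ hx

/-- entrywise field automorphism of `SU_n` -/
def phiSUaut (τ : F ≃+* F) : MulAut ↥(Cfsg.SU n F q) :=
  suAut D (tauGL τ) (tauGL τ.symm)
    (fun g hdet hU => ⟨tauGL_det τ g hdet, tauGL_isUG D τ hU⟩)
    (fun g hdet hU => ⟨tauGL_det τ.symm g hdet, tauGL_isUG D τ.symm hU⟩)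
    (tauGL_symm τ) (tauGL_symm' τ)

theorem suGL_phiSUaut (τ : F ≃+* F) (s : ↥(Cfsg.SU n F q)) :
    suGL (phiSUaut D τ s) = tauGL τ (suGL s) := by
  unfold phiSUaut
  rw [suGL_suAut]

/-- entrywise field automorphisms of `SU_n` -/
def phiSU : (F ≃+* F) →* MulAut ↥(Cfsg.SU n F q) where
  toFun τ := phiSUaut D τ
  map_one' := by
    apply MulEquiv.ext
    intro s
    apply suGL_injective
    rw [suGL_phiSUaut]
    apply Units.ext
    rw [tauGL_coe]
    ext i j
    rfl
  map_mul' τ ρ := by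
    apply MulEquiv.ext
    intro s
    apply suGL_injective
    rw [suGL_phiSUaut, MulAut.mul_apply, suGL_phiSUaut, suGL_phiSUaut]
    apply Units.ext
    rw [tauGL_coe, tauGL_coe, tauGL_coe]
    ext i j
    rfl

theorem suGL_phiSU (τ : F ≃+* F) (s : ↥(Cfsg.SU n F q)) :
    suGL (phiSU D τ s) = tauGL τ (suGL s) := suGL_phiSUaut D τ s

/-- the field automorphisms of `PSU_n` -/
noncomputable def phiU : (F ≃+* F) →* MulAut (Cfsg.PSU n F q) :=
  (liftCenter ↥(Cfsg.SU n F q)).comp (phiSU D)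

theorem phiU_mk (τ : F ≃+* F) (s : ↥(Cfsg.SU n F q)) :
    phiU D τ (QuotientGroup.mk s) = QuotientGroup.mk (phiSU D τ s) := rfl

/-- entrywise field automorphism on the Hermitian similitudes -/
def tauHS (τ : F ≃+* F) : ↥(HS D n) →* ↥(HS D n) where
  toFun x := ⟨tauGL τ x.1, tauGL_mem_HS D τ x.2⟩
  map_one' := by
    apply Subtype.ext
    show tauGL τ ((1 : ↥(HS D n)) : GL (Fin n) F) = _
    rw [Subgroup.coe_one, map_one]
  map_mul' x y := by
    apply Subtype.ext
    show tauGL τ ((x * y : ↥(HS D n)) : GL (Fin n) F) = _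
    rw [Subgroup.coe_mul, map_mul]
    rfl

theorem tauHS_coe (τ : F ≃+* F) (x : ↥(HS D n)) :
    ((tauHS D τ x : ↥(HS D n)) : GL (Fin n) F) = tauGL τ (x : GL (Fin n) F) := rfl

theorem phiSU_conjSU (τ : F ≃+* F) (x : ↥(HS D n)) :
    phiSU D τ * conjSU D x = conjSU D (tauHS D τ x) * phiSU D τ := by
  apply MulEquiv.ext
  intro s
  apply suGL_injective
  rw [MulAut.mul_apply, MulAut.mul_apply, suGL_phiSU, suGL_conjSU, suGL_conjSU, suGL_phiSU,
    map_mul, map_mul, map_inv, tauHS_coe]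

theorem phiU_cU (τ : F ≃+* F) (x : ↥(HS D n)) :
    phiU D τ * cU D x = cU D (tauHS D τ x) * phiU D τ := by
  unfold phiU cU
  rw [MonoidHom.comp_apply, MonoidHom.comp_apply, MonoidHom.comp_apply, ← map_mul, ← map_mul,
    phiSU_conjSU]

end Cfsg.Agent.Helper7.GraphPSU
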