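import Cfsg.Agent.Helper7.GraphPSU2
import Cfsg.Agent.Helper28.Norm

/-!
# Graph automorphisms of `PSU_n`, part 3 (helper7)

The Prelude predicates `IsFieldAutPSUOf`, `IsInnerDiagonalAutPSU`, `inndiagPSU` in terms of
`phiU` and `cU`.
-/

set_option autoImplicit false
set_option linter.unusedSectionVars false

namespace Cfsg.Agent.Helper7.GraphPSU

open Matrix
open Cfsg.Agent.Helper7.GraphPSL (gT gT_coe gT_mul gT_inv gT_gT liftCenter liftCenter_mk)

variable {F : Type*} [Field F] {n q : ℕ} (D : UData F q)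

theorem suMat_phiSU (τ : F ≃+* F) (s : ↥(Cfsg.SU n F q)) :
    suMat (phiSU D τ s) = (suMat s).map τ := by
  rw [← suGL_coe, suGL_phiSU, tauGL_coe, suGL_coe]

theorem suMat_conjSU (x : ↥(HS D n)) (s : ↥(Cfsg.SU n F q)) :
    suMat (conjSU D x s) = ((x : GL (Fin n) F) : Matrix (Fin n) (Fin n) F) * suMat s
      * (((x : GL (Fin n) F)⁻¹ : GL (Fin n) F) : Matrix (Fin n) (Fin n) F) := by
  rw [← suGL_coe, suGL_conjSU, Units.val_mul, Units.val_mul, suGL_coe]

theorem isFieldAutPSUOf_iff (τ : F ≃+* F) (φ : MulAut (Cfsg.PSU n F q)) :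
    Cfsg.IsFieldAutPSUOf τ φ ↔ φ = phiU D τ := by
  constructor
  · intro h
    ext x
    induction x using QuotientGroup.induction_on with
    | H s =>
      rw [phiU_mk]
      exact h s (phiSU D τ s) (suMat_phiSU D τ s)
  · rintro rfl s s' hs'
    rw [phiU_mk]
    congr 1
    apply suMat_injective
    rw [suMat_phiSU]
    exact hs'.symm

theorem isInnerDiagonalAutPSU_iff (δ : MulAut (Cfsg.PSU n F q)) :
    Cfsg.IsInnerDiagonalAutPSU δ ↔ ∃ x : ↥(HS D n), IsUG D (x : GL (Fin n) F) ∧ cU D x = δ := by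
  constructor
  · rintro ⟨g, hg, h⟩
    have hU : IsUG D g := (isUG_iff D g).2 ((mem_GU_iff D g).1 hg)
    refine ⟨⟨g, isUG_mem_HS D hU⟩, hU, ?_⟩
    ext x
    induction x using QuotientGroup.induction_on with
    | H s =>
      rw [cU_mk]
      exact (h s (conjSU D ⟨g, isUG_mem_HS D hU⟩ s) (suMat_conjSU D _ s)).symm
  · rintro ⟨x, hU, rfl⟩
    refine ⟨x.1, (mem_GU_iff D x.1).2 ((isUG_iff D x.1).1 hU), fun s s' hs' => ?_⟩
    rw [cU_mk]
    congr 1
    apply suMat_injective
    rw [suMat_conjSU]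
    exact hs'.symm

/-- scalar matrices -/
def scalarGL (c : Fˣ) : GL (Fin n) F :=
  Units.map (Matrix.scalar (Fin n) : F →+* Matrix (Fin n) (Fin n) F).toMonoidHom c

theorem scalarGL_mem (c : Fˣ) : (scalarGL c : GL (Fin n) F) ∈ Cfsg.Geo.scalars (Fin n) F :=
  ⟨c, rfl⟩

theorem scalarGL_coe (c : Fˣ) :
    ((scalarGL c : GL (Fin n) F) : Matrix (Fin n) (Fin n) F)
      = (c : F) • (1 : Matrix (Fin n) (Fin n) F) := by
  show Matrix.scalar (Fin n) (c : F) = _
  rw [Matrix.scalar_apply, Matrix.smul_one_eq_diagonal]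

theorem exists_scalarGL {z : GL (Fin n) F} (hz : z ∈ Cfsg.Geo.scalars (Fin n) F) :
    ∃ c : Fˣ, z = scalarGL c := by
  obtain ⟨c, hc⟩ := hz
  exact ⟨c, hc.symm⟩

theorem gT_scalarGL (c : Fˣ) : gT (scalarGL c : GL (Fin n) F) = scalarGL c := by
  apply Units.ext
  rw [gT_coe, scalarGL_coe, Matrix.transpose_smul, Matrix.transpose_one]

theorem barGL_scalarGL (c : Fˣ) :
    barGL D (scalarGL c : GL (Fin n) F) = scalarGL (Units.map (D.bar : F →* F) c) := by
  apply Units.ext
  rw [barGL_coe, scalarGL_coe, scalarGL_coe]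
  ext i j
  by_cases hij : i = j
  · subst hij
    simp
  · simp [hij]

theorem scalarGL_mul (c d : Fˣ) : (scalarGL (c * d) : GL (Fin n) F) = scalarGL c * scalarGL d :=
  map_mul _ c d

theorem scalarGL_inv (c : Fˣ) : (scalarGL c⁻¹ : GL (Fin n) F) = (scalarGL c)⁻¹ :=
  map_inv (Units.map (Matrix.scalar (Fin n) : F →+* Matrix (Fin n) (Fin n) F).toMonoidHom) c

theorem scalarGL_one : (scalarGL 1 : GL (Fin n) F) = 1 :=
  map_one (Units.map (Matrix.scalar (Fin n) : F →+* Matrix (Fin n) (Fin n) F).toMonoidHom)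

theorem scalarGL_injective [NeZero n] : Function.Injective (scalarGL : Fˣ → GL (Fin n) F) := by
  intro c d h
  have h1 := congrArg (fun g : GL (Fin n) F => (g : Matrix (Fin n) (Fin n) F) 0 0) h
  simp only [scalarGL_coe, Matrix.smul_apply, Matrix.one_apply_eq, smul_eq_mul, mul_one] at h1
  exact Units.ext h1

theorem scalarGL_mem_HS (c : Fˣ) : (scalarGL c : GL (Fin n) F) ∈ HS D n := by
  rw [mem_HS_iff, gT_scalarGL, barGL_scalarGL, ← scalarGL_mul]
  exact scalarGL_mem _

/-- scalar Hermitian similitudes -/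
def scalarHS (c : Fˣ) : ↥(HS D n) := ⟨scalarGL c, scalarGL_mem_HS D c⟩

theorem cU_scalarHS (c : Fˣ) : cU D (scalarHS D c : ↥(HS D n)) = 1 := by
  ext x
  induction x using QuotientGroup.induction_on with
  | H s =>
    rw [cU_mk]
    congr 1
    apply suGL_injective
    rw [suGL_conjSU]
    show (scalarGL c : GL (Fin n) F) * suGL s * (scalarGL c)⁻¹ = suGL s
    rw [scalars_comm (scalarGL_mem c), mul_assoc, mul_inv_cancel, mul_one]

theorem cU_of_mem_scalars (x : ↥(HS D n)) (hx : (x : GL (Fin n) F) ∈ Cfsg.Geo.scalars (Fin n) F) :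
    cU D x = 1 := by
  obtain ⟨c, hc⟩ := exists_scalarGL hx
  have : x = scalarHS D c := Subtype.ext hc
  rw [this, cU_scalarHS]

/-- the multiplier of a Hermitian similitude is fixed by the involution -/
theorem multiplier_fixed [NeZero n] {x : GL (Fin n) F} {c : Fˣ}
    (hc : gT x * barGL D x = scalarGL c) : D.bar (c : F) = c := by
  have h1 : barGL D (gT x * barGL D x) = gT (gT x * barGL D x) := by
    rw [map_mul, barGL_gT, barGL_barGL, gT_mul, gT_gT]
  rw [hc, barGL_scalarGL, gT_scalarGL] at h1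
  have := scalarGL_injective h1
  exact congrArg Units.val this

theorem bar_ne_id : (D.bar : F →+* F) ≠ RingHom.id F := by
  obtain ⟨t, ht⟩ := D.bar_ne
  intro h
  apply ht
  have := congrArg (fun f : F →+* F => f t) h
  exact this

/-- norm surjectivity -/
theorem exists_norm [Finite F] (c : F) (hc : c ≠ 0) (hfix : D.bar c = c) :
    ∃ a : F, a * D.bar a = c :=
  Cfsg.Agent.Helper28.exists_norm_eq (D.bar : F →+* F) (bar_ne_id D) D.bar_bar c hc hfix

/-- every Hermitian similitude is a scalar multiple of a unitary matrix -/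
theorem exists_unitary_mul [Finite F] [NeZero n] {x : GL (Fin n) F} (hx : x ∈ HS D n) :
    ∃ ν : Fˣ, IsUG D (scalarGL ν * x) := by
  obtain ⟨c, hc⟩ := exists_scalarGL ((mem_HS_iff D x).1 hx)
  have hfix := multiplier_fixed D hc
  obtain ⟨a, ha⟩ := exists_norm D ((c⁻¹ : Fˣ) : F) (Units.ne_zero _) (by
    rw [Units.val_inv_eq_inv_val, map_inv₀, hfix])
  have ha0 : a ≠ 0 := by
    rintro rfl
    rw [zero_mul] at ha
    exact Units.ne_zero _ ha.symm
  refine ⟨Units.mk0 a ha0, ?_⟩
  unfold IsUG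
  rw [gT_mul, map_mul, gT_scalarGL, barGL_scalarGL]
  calc gT x * scalarGL (Units.mk0 a ha0)
        * (scalarGL (Units.map (D.bar : F →* F) (Units.mk0 a ha0)) * barGL D x)
      = gT x * (scalarGL (Units.mk0 a ha0)
        * scalarGL (Units.map (D.bar : F →* F) (Units.mk0 a ha0))) * barGL D x := by group
    _ = gT x * scalarGL (c⁻¹) * barGL D x := by
        rw [← scalarGL_mul]
        congr 3
        apply Units.ext
        rw [Units.val_mul, Units.val_mk0, Units.coe_map, Units.val_mk0]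
        exact ha
    _ = scalarGL (c⁻¹) * (gT x * barGL D x) := by
        rw [← scalars_comm (scalarGL_mem c⁻¹) (gT x)]
        group
    _ = 1 := by
        rw [hc, ← scalarGL_mul, inv_mul_cancel]
        exact map_one _

theorem inndiagPSU_eq_range [Finite F] [NeZero n] :
    Cfsg.inndiagPSU n F q = (cU D : ↥(HS D n) →* _).range := by
  unfold Cfsg.inndiagPSU Cfsg.autSubgroupOf
  have h : {β : MulAut (Cfsg.PSU n F q) | Cfsg.IsInnerDiagonalAutPSU β}
      = ((cU D : ↥(HS D n) →* _).range : Set _) := by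
    ext β
    rw [Set.mem_ofPred_eq, isInnerDiagonalAutPSU_iff D]
    constructor
    · rintro ⟨x, -, rfl⟩
      exact ⟨x, rfl⟩
    · rintro ⟨x, rfl⟩
      obtain ⟨ν, hν⟩ := exists_unitary_mul D x.2
      refine ⟨scalarHS D ν * x, hν, ?_⟩
      rw [map_mul, cU_scalarHS, one_mul]
  rw [h, Subgroup.closure_eq]

end Cfsg.Agent.Helper7.GraphPSU
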