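import Cfsg.Agent.Helper7.GraphPSU3

/-!
# Graph automorphisms of `PSU_n`, part 4 (helper7)

The core geometric lemma: a semilinear map fixing all isotropic points of the Hermitian space
(`n ≥ 3`) is linear and scalar.
-/

set_option autoImplicit false
set_option linter.unusedSectionVars false

namespace Cfsg.Agent.Helper7.GraphPSU

open Matrix

variable {F : Type*} [Field F] {n q : ℕ} (D : UData F q)

theorem exists_norm' [Finite F] (c : F) (hfix : D.bar c = c) : ∃ a : F, a * D.bar a = c := by
  by_cases hc : c = 0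
  · exact ⟨0, by rw [zero_mul, hc]⟩
  · exact exists_norm D c hc hfix

/-- a norm one element different from one -/
theorem exists_norm_one_ne : ∃ ζ : F, ζ ≠ 1 ∧ ζ * D.bar ζ = 1 := by
  obtain ⟨t, ht⟩ := D.bar_ne
  have ht0 : t ≠ 0 := by
    rintro rfl
    exact ht (map_zero _)
  have hbt0 : D.bar t ≠ 0 := by
    intro h
    apply ht0
    rw [← D.bar_bar t, h, map_zero]
  refine ⟨t / D.bar t, ?_, ?_⟩
  · intro h
    apply ht
    rw [div_eq_one_iff_eq hbt0] at h
    exact h.symm
  · rw [map_div₀, D.bar_bar]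
    field_simp

include D in
theorem q_ne_zero : q ≠ 0 := by
  rintro rfl
  obtain ⟨t, ht⟩ := D.bar_ne
  apply ht
  have h1 := D.bar_apply t
  have h2 := D.bar_apply (t + 1)
  rw [pow_zero] at h1 h2
  rw [map_add, map_one, h1] at h2
  have : (1 : F) = 0 := by linear_combination h2
  exact absurd this one_ne_zero

theorem hermForm_two {i j : Fin n} (hij : i ≠ j) (b : F) (hb : b * D.bar b = -1) :
    Cfsg.hermForm n F q (Pi.single i 1 + b • Pi.single j 1)
      (Pi.single i 1 + b • Pi.single j 1) = 0 := by
  classical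
  unfold Cfsg.hermForm
  have hpt : ∀ l : Fin n, ((Pi.single i 1 + b • Pi.single j 1 : Fin n → F) l)
      * ((Pi.single i 1 + b • Pi.single j 1 : Fin n → F) l) ^ q
      = (if l = i then 1 else 0) + (if l = j then b * D.bar b else 0) := by
    intro l
    simp only [Pi.add_apply, Pi.smul_apply, Pi.single_apply, smul_eq_mul]
    by_cases hli : l = i
    · subst hli
      simp [hij]
    · by_cases hlj : l = j
      · subst hlj
        simp [hli, D.bar_apply]
      · have hq : q ≠ 0 := q_ne_zero D
        simp [hli, hlj, hq]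
  rw [Finset.sum_congr rfl (fun l _ => hpt l), Finset.sum_add_distrib, Finset.sum_ite_eq',
    Finset.sum_ite_eq', if_pos (Finset.mem_univ _), if_pos (Finset.mem_univ _), hb]
  ring

theorem hermForm_three {i j k : Fin n} (hij : i ≠ j) (hik : i ≠ k) (hjk : j ≠ k) (α β : F)
    (h : α * D.bar α + β * D.bar β = -1) :
    Cfsg.hermForm n F q (α • Pi.single i 1 + β • Pi.single j 1 + Pi.single k 1)
      (α • Pi.single i 1 + β • Pi.single j 1 + Pi.single k 1) = 0 := by
  classical
  unfold Cfsg.hermForm
  have hq : q ≠ 0 := q_ne_zero D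
  have hpt : ∀ l : Fin n,
      ((α • Pi.single i 1 + β • Pi.single j 1 + Pi.single k 1 : Fin n → F) l)
      * ((α • Pi.single i 1 + β • Pi.single j 1 + Pi.single k 1 : Fin n → F) l) ^ q
      = (if l = i then α * D.bar α else 0) + (if l = j then β * D.bar β else 0)
        + (if l = k then 1 else 0) := by
    intro l
    simp only [Pi.add_apply, Pi.smul_apply, Pi.single_apply, smul_eq_mul]
    by_cases hli : l = i
    · subst hli
      simp [hij, hik, D.bar_apply]
    · by_cases hlj : l = j
      · subst hlj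
        simp [hli, hjk, D.bar_apply]
      · by_cases hlk : l = k
        · subst hlk
          simp [hli, hlj]
        · simp [hli, hlj, hlk, hq]
  rw [Finset.sum_congr rfl (fun l _ => hpt l), Finset.sum_add_distrib, Finset.sum_add_distrib,
    Finset.sum_ite_eq', Finset.sum_ite_eq', Finset.sum_ite_eq', if_pos (Finset.mem_univ _),
    if_pos (Finset.mem_univ _), if_pos (Finset.mem_univ _), h]
  ring

theorem exists_third (hn : 3 ≤ n) (i j : Fin n) : ∃ k : Fin n, k ≠ i ∧ k ≠ j := by
  by_contra hcon
  push Not at hcon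
  have hsub : (Finset.univ : Finset (Fin n)) ⊆ {i, j} := by
    intro k _
    by_cases hki : k = i
    · simp [hki]
    · simp [hcon k hki]
  have := Finset.card_le_card hsub
  rw [Finset.card_univ, Fintype.card_fin] at this
  have h2 : ({i, j} : Finset (Fin n)).card ≤ 2 := Finset.card_le_two
  omega

include D in
/-- **Core lemma**: a semilinear map fixing every isotropic point is linear and scalar. -/
theorem core_lemma [Finite F] (hn : 3 ≤ n) (τ : F →+* F) (M : Matrix (Fin n) (Fin n) F)
    (hM : M.det ≠ 0)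
    (h : ∀ v : Fin n → F, Cfsg.hermForm n F q v v = 0 →
      ∃ ρ : F, M *ᵥ (fun i => τ (v i)) = ρ • v) :
    (∀ x, τ x = x) ∧ ∃ m : F, M = m • (1 : Matrix (Fin n) (Fin n) F) := by
  classical
  -- two distinct elements of norm `-1`
  obtain ⟨b₀, hb₀⟩ := exists_norm D (-1) (by norm_num) (by rw [map_neg, map_one])
  obtain ⟨ζ, hζ1, hζ⟩ := exists_norm_one_ne D
  have hb₀0 : b₀ ≠ 0 := by
    rintro rfl
    rw [zero_mul] at hb₀
    exact absurd hb₀ (by norm_num)
  have hb₁ : (ζ * b₀) * D.bar (ζ * b₀) = -1 := by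
    rw [map_mul]
    calc ζ * b₀ * (D.bar ζ * D.bar b₀) = (ζ * D.bar ζ) * (b₀ * D.bar b₀) := by ring
      _ = -1 := by rw [hζ, hb₀, one_mul]
  have hne : τ b₀ ≠ τ (ζ * b₀) := by
    intro heq
    have := τ.injective heq
    apply hζ1
    have h2 : (ζ - 1) * b₀ = 0 := by linear_combination -this
    rcases mul_eq_zero.mp h2 with h3 | h3
    · exact sub_eq_zero.mp h3
    · exact absurd h3 hb₀0
  -- the two-coordinate isotropic vectors
  have hcol : ∀ (i j : Fin n), i ≠ j → ∀ b : F, b * D.bar b = -1 →
      ∃ ρ : F, ∀ k : Fin n, M k i + τ b * M k j = ρ * ((if k = i then 1 else 0)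
        + b * (if k = j then 1 else 0)) := by
    intro i j hij b hb
    obtain ⟨ρ, hρ⟩ := h _ (hermForm_two D hij b hb)
    refine ⟨ρ, fun k => ?_⟩
    have := congrFun hρ k
    have e1 : (fun l => τ ((Pi.single i 1 + b • Pi.single j 1 : Fin n → F) l))
        = Pi.single i 1 + τ b • Pi.single j 1 := by
      funext l
      simp only [Pi.add_apply, Pi.smul_apply, Pi.single_apply, smul_eq_mul, map_add, map_mul]
      by_cases hli : l = i
      · by_cases hlj : l = j
        · simp [hli]
        · simp [hli]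
      · by_cases hlj : l = j
        · simp [hlj]
        · simp [hli, hlj]
    rw [e1, Matrix.mulVec_add, Matrix.mulVec_smul, Matrix.mulVec_single_one,
      Matrix.mulVec_single_one] at this
    simp only [Pi.add_apply, Pi.smul_apply, smul_eq_mul, Pi.single_apply] at this
    rw [Matrix.col_apply, Matrix.col_apply] at this
    rw [this]
  -- `M` is diagonal
  have hoff : ∀ k j : Fin n, k ≠ j → M k j = 0 := by
    intro k j hkj
    obtain ⟨i, hik, hij⟩ := exists_third hn k j
    obtain ⟨ρ₀, h0⟩ := hcol i j hij b₀ hb₀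
    obtain ⟨ρ₁, h1⟩ := hcol i j hij (ζ * b₀) hb₁
    have e0 := h0 k
    have e1 := h1 k
    rw [if_neg hik.symm, if_neg hkj] at e0 e1
    have : (τ b₀ - τ (ζ * b₀)) * M k j = 0 := by linear_combination e0 - e1
    rcases mul_eq_zero.mp this with h3 | h3
    · exact absurd (sub_eq_zero.mp h3) hne
    · exact h3
  have hmul : ∀ (w : Fin n → F) (k : Fin n), (M *ᵥ w) k = M k k * w k := by
    intro w k
    rw [Matrix.mulVec, dotProduct, Finset.sum_eq_single k]
    · intro l _ hlk
      rw [hoff k l hlk.symm, zero_mul]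
    · intro hk
      exact absurd (Finset.mem_univ k) hk
  -- three-coordinate isotropic vectors
  have hthree : ∀ (i k : Fin n), i ≠ k → ∀ α : F, M i i * τ α = M k k * α := by
    intro i k hik α
    obtain ⟨j, hji, hjk⟩ := exists_third hn i k
    have hfix : D.bar (-1 - α * D.bar α) = -1 - α * D.bar α := by
      rw [map_sub, map_neg, map_one, map_mul, D.bar_bar]
      ring
    obtain ⟨β, hβ⟩ := exists_norm' D _ hfix
    obtain ⟨ρ, hρ⟩ := h _ (hermForm_three D hji.symm hik hjk α β (by rw [hβ]; ring))
    have ek := congrFun hρ k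
    have ei := congrFun hρ i
    rw [hmul] at ek ei
    simp only [Pi.add_apply, Pi.smul_apply, Pi.single_apply, smul_eq_mul, hik, hik.symm,
      hjk.symm, hji.symm, if_true, if_false, mul_zero, add_zero, zero_add, mul_one, map_one]
      at ek ei
    rw [ei, ← ek]
  -- conclusion
  have hn0 : 0 < n := by omega
  set i₀ : Fin n := ⟨0, hn0⟩ with hi₀
  have hdiag : ∀ i : Fin n, M i i = M i₀ i₀ := by
    intro i
    by_cases hi : i = i₀
    · rw [hi]
    · have := hthree i i₀ hi 1
      rw [map_one, mul_one, mul_one] at this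
      exact this
  have hMeq : M = (M i₀ i₀) • (1 : Matrix (Fin n) (Fin n) F) := by
    ext i j
    by_cases hij : i = j
    · subst hij
      rw [Matrix.smul_apply, Matrix.one_apply_eq, smul_eq_mul, mul_one, hdiag]
    · rw [Matrix.smul_apply, Matrix.one_apply_ne hij, smul_eq_mul, mul_zero, hoff i j hij]
  have hm0 : M i₀ i₀ ≠ 0 := by
    intro h0
    apply hM
    have : Nonempty (Fin n) := ⟨i₀⟩
    rw [hMeq, h0, zero_smul, Matrix.det_zero]
  refine ⟨fun α => ?_, ⟨M i₀ i₀, hMeq⟩⟩
  obtain ⟨k, hk, -⟩ := exists_third hn i₀ i₀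
  have := hthree k i₀ hk α
  rw [hdiag k] at this
  exact mul_left_cancel₀ hm0 this

end Cfsg.Agent.Helper7.GraphPSU
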