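import Cfsg.Agent.Helper7.GraphPSU5

/-!
# Graph automorphisms of `PSU_n`, part 6 (helper7)

The graph automorphisms `gammaU g = cU g * iotaU`, their products and conjugates, and the
structure of the involutory members of the Prelude class `IsGraphAutClassPSU`.
-/

set_option autoImplicit false
set_option linter.unusedSectionVars false

namespace Cfsg.Agent.Helper7.GraphPSU

open Matrix
open Cfsg.Agent.Helper7.GraphPSL (gT gT_coe gT_mul gT_inv gT_gT liftCenter liftCenter_mk)

/-- a finite field has at most one involutory automorphism -/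
theorem invol_unique {F : Type*} [Field F] [Finite F] (σ ρ : F ≃+* F) (hσ2 : ∀ x, σ (σ x) = x)
    (hρ2 : ∀ x, ρ (ρ x) = x) (hσ : σ ≠ RingEquiv.refl F) (hρ : ρ ≠ RingEquiv.refl F) :
    σ = ρ := by
  classical
  obtain ⟨p, hp⟩ := CharP.exists F
  have := hp
  have : Fact p.Prime := ⟨CharP.char_is_prime F p⟩
  let _ : Algebra (ZMod p) F := ZMod.algebra F p
  have hcomm : ∀ (τ : F ≃+* F) (r : ZMod p),
      τ (algebraMap (ZMod p) F r) = algebraMap (ZMod p) F r := by
    intro τ r
    exact RingHom.congr_fun (Subsingleton.elim ((τ : F →+* F).comp (algebraMap (ZMod p) F))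
      (algebraMap (ZMod p) F)) r
  let toA : (F ≃+* F) → (F ≃ₐ[ZMod p] F) := fun τ => AlgEquiv.ofRingEquiv (f := τ) (hcomm τ)
  have htoA : ∀ τ x, toA τ x = τ x := fun τ x => rfl
  have : Fintype (F ≃ₐ[ZMod p] F) := Fintype.ofFinite _
  have hcard := IsCyclic.card_pow_eq_one_le (α := F ≃ₐ[ZMod p] F) (n := 2) (by norm_num)
  by_contra hne
  have h1 : toA σ ≠ 1 := by
    intro h
    apply hσ
    ext x
    exact DFunLike.congr_fun h x
  have h2 : toA ρ ≠ 1 := by
    intro h
    apply hρ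
    ext x
    exact DFunLike.congr_fun h x
  have h3 : toA σ ≠ toA ρ := by
    intro h
    apply hne
    ext x
    exact DFunLike.congr_fun h x
  have hsub : ({1, toA σ, toA ρ} : Finset (F ≃ₐ[ZMod p] F))
      ⊆ Finset.univ.filter (fun a => a ^ 2 = 1) := by
    intro a ha
    simp only [Finset.mem_insert, Finset.mem_singleton] at ha
    rw [Finset.mem_filter]
    refine ⟨Finset.mem_univ _, ?_⟩
    rcases ha with rfl | rfl | rfl
    · simp
    · ext x
      rw [pow_two, AlgEquiv.mul_apply, htoA, htoA, hσ2]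
      rfl
    · ext x
      rw [pow_two, AlgEquiv.mul_apply, htoA, htoA, hρ2]
      rfl
  have hc3 : ({1, toA σ, toA ρ} : Finset (F ≃ₐ[ZMod p] F)).card = 3 := by
    rw [Finset.card_insert_of_notMem, Finset.card_insert_of_notMem, Finset.card_singleton]
    · simpa using h3
    · simp only [Finset.mem_insert, Finset.mem_singleton, not_or]
      exact ⟨h1.symm, h2.symm⟩
  have := Finset.card_le_card hsub
  omega

variable {F : Type*} [Field F] {n q : ℕ} (D : UData F q)

theorem bar_ne_refl : D.bar ≠ RingEquiv.refl F := by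
  obtain ⟨t, ht⟩ := D.bar_ne
  intro h
  apply ht
  rw [h]
  rfl

/-- the standard graph automorphism of `PSU_n`: the field automorphism `x ↦ x ^ q` -/
noncomputable def iotaU : MulAut (Cfsg.PSU n F q) := phiU D D.bar

theorem iotaU_mul_self : (iotaU D : MulAut (Cfsg.PSU n F q)) * iotaU D = 1 := by
  unfold iotaU
  rw [← map_mul]
  have : D.bar * D.bar = 1 := by
    ext x
    exact D.bar_bar x
  rw [this, map_one]

theorem iotaU_inv : (iotaU D : MulAut (Cfsg.PSU n F q))⁻¹ = iotaU D :=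
  inv_eq_of_mul_eq_one_right (iotaU_mul_self D)

/-- entrywise conjugation of Hermitian similitudes -/
def barHS : ↥(HS D n) →* ↥(HS D n) := tauHS D D.bar

theorem barHS_coe (x : ↥(HS D n)) :
    ((barHS D x : ↥(HS D n)) : GL (Fin n) F) = barGL D (x : GL (Fin n) F) := rfl

theorem barHS_barHS (x : ↥(HS D n)) : barHS D (barHS D x) = x := by
  apply Subtype.ext
  rw [barHS_coe, barHS_coe, barGL_barGL]

theorem iotaU_mul_cU (x : ↥(HS D n)) : iotaU D * cU D x = cU D (barHS D x) * iotaU D :=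
  phiU_cU D D.bar x

/-- the graph automorphism attached to a Hermitian similitude -/
noncomputable def gammaU (g : ↥(HS D n)) : MulAut (Cfsg.PSU n F q) := cU D g * iotaU D

theorem cU_conj_gammaU (k g : ↥(HS D n)) :
    cU D k * gammaU D g * (cU D k)⁻¹ = gammaU D (k * g * (barHS D k)⁻¹) := by
  unfold gammaU
  rw [← map_inv, mul_assoc, mul_assoc, iotaU_mul_cU, ← mul_assoc, ← mul_assoc, ← map_mul,
    ← map_mul, map_inv]

theorem gammaU_mul_self (g : ↥(HS D n)) :
    gammaU D g * gammaU D g = cU D (g * barHS D g) := by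
  unfold gammaU
  rw [mul_assoc, ← mul_assoc (iotaU D), iotaU_mul_cU, mul_assoc, iotaU_mul_self, mul_one, map_mul]

theorem gammaU_eq_iff [Finite F] (hn : 3 ≤ n) (g g' : ↥(HS D n)) :
    gammaU D g = gammaU D g' ↔
      ((g⁻¹ * g' : ↥(HS D n)) : GL (Fin n) F) ∈ Cfsg.Geo.scalars (Fin n) F := by
  unfold gammaU
  rw [mul_left_inj, cU_eq_iff D hn]

theorem gammaU_ne_one [Finite F] (hn : 3 ≤ n) (g : ↥(HS D n)) : gammaU D g ≠ 1 := by
  intro h
  unfold gammaU at h
  have h1 : iotaU D = cU D g⁻¹ := by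
    rw [map_inv]
    exact eq_inv_of_mul_eq_one_right h
  exact phiU_ne_cU D hn D.bar (bar_ne_refl D) g⁻¹ h1

theorem orderOf_gammaU_eq_two_iff [Finite F] (hn : 3 ≤ n) (g : ↥(HS D n)) :
    orderOf (gammaU D g) = 2 ↔
      ((g * barHS D g : ↥(HS D n)) : GL (Fin n) F) ∈ Cfsg.Geo.scalars (Fin n) F := by
  have : Fact (Nat.Prime 2) := ⟨Nat.prime_two⟩
  rw [orderOf_eq_iff (by norm_num)]
  constructor
  · rintro ⟨h2, -⟩
    rw [pow_two, gammaU_mul_self] at h2
    exact (cU_eq_one_iff D hn _).1 h2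
  · intro h
    refine ⟨by rw [pow_two, gammaU_mul_self]; exact (cU_eq_one_iff D hn _).2 h, ?_⟩
    intro m hm hm0
    have : m = 1 := by omega
    subst this
    rw [pow_one]
    exact gammaU_ne_one D hn g

theorem orderOf_bar : orderOf D.bar = 2 := by
  rw [orderOf_eq_iff (by norm_num)]
  refine ⟨?_, ?_⟩
  · ext x
    rw [pow_two]
    exact D.bar_bar x
  · intro m hm hm0
    have : m = 1 := by omega
    subst this
    rw [pow_one]
    exact bar_ne_refl D

theorem isInnerDiagonalAutPSU_cU [Finite F] [NeZero n] (x : ↥(HS D n)) :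
    Cfsg.IsInnerDiagonalAutPSU (cU D x) := by
  rw [isInnerDiagonalAutPSU_iff D]
  obtain ⟨ν, hν⟩ := exists_unitary_mul D x.2
  refine ⟨scalarHS D ν * x, hν, ?_⟩
  rw [map_mul, cU_scalarHS, one_mul]

theorem isGraphAutClassPSU_gammaU [Finite F] (hn : 3 ≤ n) (g : ↥(HS D n)) :
    Cfsg.IsGraphAutClassPSU (gammaU D g) := by
  have : NeZero n := ⟨by omega⟩
  refine ⟨hn, cU D g, iotaU D, D.bar, ?_, isInnerDiagonalAutPSU_cU D g, ?_, rfl⟩
  · rw [orderOf_bar]
    exact even_two
  · rw [isFieldAutPSUOf_iff D]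
    rfl

/-- **Structure of involutory graph automorphisms of `PSU_n`.** -/
theorem exists_gammaU_of_graphClass [Finite F] (hn : 3 ≤ n) (γ : MulAut (Cfsg.PSU n F q))
    (hγ : Cfsg.IsGraphAutClassPSU γ) (h2 : orderOf γ = 2) :
    ∃ g : ↥(HS D n), γ = gammaU D g ∧
      ((g * barHS D g : ↥(HS D n)) : GL (Fin n) F) ∈ Cfsg.Geo.scalars (Fin n) F := by
  obtain ⟨-, δ, φ, σ, hev, hδ, hφ, rfl⟩ := hγ
  rw [isInnerDiagonalAutPSU_iff D] at hδ
  obtain ⟨x, -, rfl⟩ := hδ
  rw [isFieldAutPSUOf_iff D] at hφ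
  subst hφ
  have hsq : (cU D x * phiU D σ) * (cU D x * phiU D σ) = 1 := by
    rw [← pow_two, ← h2]
    exact pow_orderOf_eq_one _
  have h3 : phiU D (σ * σ) = cU D (x * tauHS D σ x)⁻¹ := by
    rw [map_inv]
    apply eq_inv_of_mul_eq_one_right
    rw [map_mul, map_mul]
    calc cU D x * cU D (tauHS D σ x) * (phiU D σ * phiU D σ)
        = cU D x * (cU D (tauHS D σ x) * phiU D σ) * phiU D σ := by group
      _ = cU D x * (phiU D σ * cU D x) * phiU D σ := by rw [phiU_cU]
      _ = (cU D x * phiU D σ) * (cU D x * phiU D σ) := by group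
      _ = 1 := hsq
  have hσ2 : σ * σ = RingEquiv.refl F := (phiU_eq_cU D hn (σ * σ) _ h3).1
  have hσ1 : σ ≠ RingEquiv.refl F := by
    rintro rfl
    have : orderOf (RingEquiv.refl F : F ≃+* F) = 1 := orderOf_one
    rw [this] at hev
    exact absurd hev (by decide)
  have hσb : σ = D.bar := invol_unique σ D.bar (fun x => by
      have := DFunLike.congr_fun hσ2 x
      exact this) D.bar_bar hσ1 (bar_ne_refl D)
  subst hσb
  refine ⟨x, rfl, ?_⟩
  exact (orderOf_gammaU_eq_two_iff D hn x).1 h2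

end Cfsg.Agent.Helper7.GraphPSU
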