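import Cfsg.Agent.Helper7.GraphPSU6

/-!
# Graph automorphisms of `PSU_n`, part 7 (helper7)

Hilbert 90 for `GL_n` over the quadratic extension `F / F₀` (descent along the involution), and
for scalars.
-/

set_option autoImplicit false
set_option linter.unusedSectionVars false

namespace Cfsg.Agent.Helper7.GraphPSU

open Matrix
open Cfsg.Agent.Helper7.GraphPSL (gT gT_coe gT_mul gT_inv gT_gT)

variable {F : Type*} [Field F] {n q : ℕ} (D : UData F q)

/-- Hilbert 90 for scalars: an element of norm one is of the form `ν / ν̄` -/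
theorem hilbert90_scalar (μ : F) (hμ : μ * D.bar μ = 1) : ∃ ν : F, ν ≠ 0 ∧ ν = μ * D.bar ν := by
  by_cases h1 : 1 + μ = 0
  · -- `μ = -1`
    obtain ⟨a, ha0, ha⟩ := exists_skew D
    refine ⟨a, ha0, ?_⟩
    have hμ' : μ = -1 := by linear_combination h1
    rw [hμ']
    linear_combination ha
  · refine ⟨1 + μ, h1, ?_⟩
    rw [map_add, map_one, mul_add, mul_one, hμ]
    ring

/-- **Hilbert 90 for `GL_n`** (involution case): if `g ḡ = 1` then `g = a ā⁻¹`. -/
theorem hilbert90_GL (g : GL (Fin n) F) (hg : g * barGL D g = 1) :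
    ∃ a : GL (Fin n) F, g * barGL D a = a := by
  classical
  set G : Matrix (Fin n) (Fin n) F := (g : Matrix (Fin n) (Fin n) F) with hG
  have hGG : G * G.map D.bar = 1 := by
    have := congrArg Units.val hg
    rwa [Units.val_mul, barGL_coe, Units.val_one] at this
  -- the fixed vectors of the semilinear involution `v ↦ G v̄`
  let cj : (Fin n → F) → (Fin n → F) := fun v i => D.bar (v i)
  have hcj_add : ∀ v w, cj (v + w) = cj v + cj w := by
    intro v w
    funext i
    exact map_add D.bar _ _
  have hcj_smul : ∀ (c : F) v, cj (c • v) = D.bar c • cj v := by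
    intro c v
    funext i
    exact map_mul D.bar _ _
  have hcj_mulVec : ∀ (M : Matrix (Fin n) (Fin n) F) v, cj (M *ᵥ v) = M.map D.bar *ᵥ cj v := by
    intro M v
    funext i
    simp only [cj, Matrix.mulVec, dotProduct, map_sum, map_mul, Matrix.map_apply]
  have hcj_cj : ∀ v, cj (cj v) = v := by
    intro v
    funext i
    exact D.bar_bar _
  let S : Set (Fin n → F) := {v | G *ᵥ cj v = v}
  have hS1 : ∀ v, v + G *ᵥ cj v ∈ S := by
    intro v
    show G *ᵥ cj (v + G *ᵥ cj v) = v + G *ᵥ cj v
    rw [hcj_add, hcj_mulVec, hcj_cj, Matrix.mulVec_add, Matrix.mulVec_mulVec, hGG,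
      Matrix.one_mulVec, add_comm]
  have hspan : Submodule.span F S = ⊤ := by
    rw [eq_top_iff]
    intro v _
    obtain ⟨t, ht⟩ := D.bar_ne
    have h1 := hS1 v
    have h2 := hS1 (t • v)
    rw [hcj_smul, Matrix.mulVec_smul] at h2
    have hne : t - D.bar t ≠ 0 := fun h0 => ht (sub_eq_zero.mp h0).symm
    have hv : v = (t - D.bar t)⁻¹ • ((t • v + D.bar t • G *ᵥ cj v) - D.bar t • (v + G *ᵥ cj v)) := by
      have : (t • v + D.bar t • G *ᵥ cj v) - D.bar t • (v + G *ᵥ cj v) = (t - D.bar t) • v := by
        module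
      rw [this, smul_smul, inv_mul_cancel₀ hne, one_smul]
    rw [hv]
    exact Submodule.smul_mem _ _ (Submodule.sub_mem _ (Submodule.subset_span h2)
      (Submodule.smul_mem _ _ (Submodule.subset_span h1)))
  obtain ⟨b, hbS, hbspan, hbli⟩ := exists_linearIndependent F S
  have hbtop : ⊤ ≤ Submodule.span F (Set.range ((↑) : b → (Fin n → F))) := by
    rw [Subtype.range_coe, hbspan, hspan]
  let B : Module.Basis b F (Fin n → F) := Module.Basis.mk hbli hbtop
  have : Fintype b := FiniteDimensional.fintypeBasisIndex B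
  have hcard : Fintype.card b = n := by
    rw [← Module.finrank_eq_card_basis B, Module.finrank_fin_fun]
  let e : Fin n ≃ b := (Fintype.equivFinOfCardEq hcard).symm
  let A : Matrix (Fin n) (Fin n) F := Matrix.of fun i k => ((e k : b) : Fin n → F) i
  have hAcol : A.col = fun k => ((e k : b) : Fin n → F) := by
    funext k i
    rfl
  have hAunit : IsUnit A := by
    rw [← Matrix.linearIndependent_cols_iff_isUnit, hAcol]
    exact hbli.comp e e.injective
  have hGA : G * A.map D.bar = A := by
    ext i k
    have hk : ((e k : b) : Fin n → F) ∈ S := hbS (e k).2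
    have := congrFun hk i
    simp only [Matrix.mulVec, dotProduct] at this
    rw [Matrix.mul_apply]
    exact this
  refine ⟨hAunit.unit, ?_⟩
  apply Units.ext
  rw [Units.val_mul, barGL_coe]
  exact hGA

end Cfsg.Agent.Helper7.GraphPSU
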