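import Cfsg.Agent.Helper7.GraphPSU7

/-!
# Graph automorphisms of `PSU_n`, part 8 (helper7)

Descent data `F₀ → F`, real matrices, and the relation `Rel γ A₀` between an involutory graph
automorphism of `PSU_n(q)` and a symmetric or skew matrix over `F₀`.
-/

set_option autoImplicit false
set_option linter.unusedSectionVars false

namespace Cfsg.Agent.Helper7.GraphPSU

open Matrix
open Cfsg.Agent.Helper7.GraphPSL (gT gT_coe gT_mul gT_inv gT_gT)

/-- the involution together with an embedding of the fixed field -/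
structure UDesc (F : Type*) [Field F] (q : ℕ) (F₀ : Type*) [Field F₀] extends UData F q where
  /-- the embedding of the fixed field -/
  j : F₀ →+* F
  bar_j : ∀ x, bar (j x) = j x
  exists_j : ∀ y, bar y = y → ∃ x, j x = y

variable {F : Type*} [Field F] {n q : ℕ} {F₀ : Type*} [Field F₀] (E : UDesc F q F₀)

/-- base change of invertible matrices -/
def jGL : GL (Fin n) F₀ →* GL (Fin n) F := Matrix.GeneralLinearGroup.map E.j

theorem jGL_coe (k : GL (Fin n) F₀) :
    ((jGL E k : GL (Fin n) F) : Matrix (Fin n) (Fin n) F)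
      = (k : Matrix (Fin n) (Fin n) F₀).map E.j := rfl

theorem jGL_injective : Function.Injective (jGL E : GL (Fin n) F₀ →* GL (Fin n) F) := by
  intro k k' h
  apply Units.ext
  have := congrArg Units.val h
  rw [jGL_coe, jGL_coe] at this
  ext i l
  have h2 := congrFun (congrFun this i) l
  simp only [Matrix.map_apply] at h2
  exact E.j.injective h2

theorem barGL_jGL (k : GL (Fin n) F₀) : barGL E.toUData (jGL E k) = jGL E k := by
  apply Units.ext
  rw [barGL_coe, jGL_coe]
  ext i l
  simp only [Matrix.map_apply]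
  exact E.bar_j _

theorem jGL_gT (k : GL (Fin n) F₀) : jGL E (gT k) = gT (jGL E k) := by
  apply Units.ext
  rw [jGL_coe, gT_coe, gT_coe, jGL_coe, Matrix.transpose_map]

/-- a matrix fixed by the involution comes from `F₀` -/
theorem exists_jGL_of_real (g : GL (Fin n) F) (hg : barGL E.toUData g = g) :
    ∃ k : GL (Fin n) F₀, jGL E k = g := by
  classical
  have hfix : ∀ i l, E.bar ((g : Matrix (Fin n) (Fin n) F) i l)
      = (g : Matrix (Fin n) (Fin n) F) i l := by
    intro i l
    have := congrArg (fun x : GL (Fin n) F => (x : Matrix (Fin n) (Fin n) F) i l) hg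
    exact this
  choose K hK using fun i l => E.exists_j _ (hfix i l)
  have hKmap : (Matrix.of K).map E.j = (g : Matrix (Fin n) (Fin n) F) := by
    ext i l
    simp only [Matrix.map_apply, Matrix.of_apply]
    exact hK i l
  have hdet : (Matrix.of K).det ≠ 0 := by
    intro h0
    have h1 : ((Matrix.of K).map E.j).det = 0 := by
      rw [← RingHom.mapMatrix_apply, ← RingHom.map_det, h0, map_zero]
    rw [hKmap] at h1
    have := g.isUnit.map Matrix.detMonoidHom
    rw [Matrix.coe_detMonoidHom] at this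
    exact this.ne_zero h1
  refine ⟨Matrix.GeneralLinearGroup.mkOfDetNeZero (Matrix.of K) hdet, ?_⟩
  apply Units.ext
  rw [jGL_coe]
  exact hKmap

theorem jGL_scalarGL (c : F₀ˣ) :
    jGL E (scalarGL c : GL (Fin n) F₀) = scalarGL (Units.map (E.j : F₀ →* F) c) := by
  apply Units.ext
  rw [jGL_coe, scalarGL_coe, scalarGL_coe]
  ext i l
  by_cases hil : i = l
  · subst hil
    simp
  · simp [hil]

/-- the relation between a graph automorphism of `PSU_n(q)` and a matrix over `F₀` -/
def Rel (γ : MulAut (Cfsg.PSU n F q)) (A₀ : GL (Fin n) F₀) : Prop :=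
  ∃ (a : GL (Fin n) F) (ε : Fˣ) (hg : a * (barGL E.toUData a)⁻¹ ∈ HS E.toUData n),
    γ = gammaU E.toUData ⟨a * (barGL E.toUData a)⁻¹, hg⟩ ∧
      gT a * barGL E.toUData a = scalarGL ε * jGL E A₀

theorem barGL_scalarGL_mul (c : Fˣ) (g : GL (Fin n) F) :
    barGL E.toUData (scalarGL c * g)
      = scalarGL (Units.map (E.bar : F →* F) c) * barGL E.toUData g := by
  rw [map_mul, barGL_scalarGL]

/-- if `aᵀ ā` is a scalar multiple of a real matrix then `a ā⁻¹` is a Hermitian similitude -/
theorem rel_mem_HS [NeZero n] (a : GL (Fin n) F) (ε : Fˣ) (A₀ : GL (Fin n) F₀)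
    (h : gT a * barGL E.toUData a = scalarGL ε * jGL E A₀) :
    a * (barGL E.toUData a)⁻¹ ∈ HS E.toUData n := by
  rw [mem_HS_iff]
  set D := E.toUData with hD
  have hbar : gT (barGL D a) * a = scalarGL (Units.map (E.bar : F →* F) ε) * jGL E A₀ := by
    have := congrArg (barGL D) h
    rw [map_mul, barGL_gT, barGL_barGL, barGL_scalarGL_mul, barGL_jGL] at this
    exact this
  have hJ : jGL E A₀ = (scalarGL (Units.map (E.bar : F →* F) ε))⁻¹ * (gT (barGL D a) * a) := by
    rw [hbar, inv_mul_cancel_left]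
  have hz := scalars_comm (scalarGL_mem (n := n) (ε * (Units.map (E.bar : F →* F) ε)⁻¹))
  have key : gT (a * (barGL D a)⁻¹) * barGL D (a * (barGL D a)⁻¹)
      = scalarGL (ε * (Units.map (E.bar : F →* F) ε)⁻¹) := by
    rw [gT_mul, gT_inv, map_mul, map_inv, barGL_barGL]
    calc (gT (barGL D a))⁻¹ * gT a * (barGL D a * a⁻¹)
        = (gT (barGL D a))⁻¹ * (gT a * barGL D a) * a⁻¹ := by group
      _ = (gT (barGL D a))⁻¹ * (scalarGL ε * ((scalarGL (Units.map (E.bar : F →* F) ε))⁻¹
            * (gT (barGL D a) * a))) * a⁻¹ := by rw [h, ← hJ]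
      _ = (gT (barGL D a))⁻¹ * ((scalarGL ε * (scalarGL (Units.map (E.bar : F →* F) ε))⁻¹)
            * (gT (barGL D a) * a)) * a⁻¹ := by group
      _ = (gT (barGL D a))⁻¹ * (scalarGL (ε * (Units.map (E.bar : F →* F) ε)⁻¹)
            * (gT (barGL D a) * a)) * a⁻¹ := by
          rw [scalarGL_mul, scalarGL_inv]
      _ = (gT (barGL D a))⁻¹ * ((gT (barGL D a) * a)
            * scalarGL (ε * (Units.map (E.bar : F →* F) ε)⁻¹)) * a⁻¹ := by rw [hz]
      _ = a * scalarGL (ε * (Units.map (E.bar : F →* F) ε)⁻¹) * a⁻¹ := by group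
      _ = scalarGL (ε * (Units.map (E.bar : F →* F) ε)⁻¹) * a * a⁻¹ := by rw [← hz]
      _ = _ := by group
  rw [key]
  exact scalarGL_mem _

theorem gammaU_scalarHS_mul (D : UData F q) (c : Fˣ) (g : ↥(HS D n)) :
    gammaU D (scalarHS D c * g) = gammaU D g := by
  unfold gammaU
  rw [map_mul, cU_scalarHS, one_mul]

/-- **T1**: every involutory graph automorphism of `PSU_n(q)` is related to a matrix over `F₀`. -/
theorem exists_rel [Finite F] (hn : 3 ≤ n) (γ : MulAut (Cfsg.PSU n F q))
    (hγ : Cfsg.IsGraphAutClassPSU γ) (h2 : orderOf γ = 2) :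
    ∃ A₀ : GL (Fin n) F₀, Rel E γ A₀ := by
  have : NeZero n := ⟨by omega⟩
  set D := E.toUData with hD
  obtain ⟨g, rfl, hgs⟩ := exists_gammaU_of_graphClass D hn γ hγ h2
  obtain ⟨l, hl⟩ := exists_scalarGL hgs
  rw [Subgroup.coe_mul, barHS_coe] at hl
  set G : GL (Fin n) F := (g : GL (Fin n) F) with hGdef
  -- `l` is fixed
  have hlfix : D.bar (l : F) = l := by
    have h1 : barGL D (G * barGL D G) = scalarGL l := by
      rw [map_mul, barGL_barGL]
      calc barGL D G * G = G⁻¹ * (G * barGL D G) * G := by group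
        _ = G⁻¹ * scalarGL l * G := by rw [hl]
        _ = G⁻¹ * (G * scalarGL l) := by
            rw [mul_assoc, scalars_comm (scalarGL_mem l)]
        _ = scalarGL l := by group
    rw [hl, barGL_scalarGL] at h1
    exact congrArg Units.val (scalarGL_injective h1)
  obtain ⟨r, hr⟩ := exists_norm D ((l⁻¹ : Fˣ) : F) (Units.ne_zero _) (by
    rw [Units.val_inv_eq_inv_val, map_inv₀, hlfix])
  have hr0 : r ≠ 0 := by
    rintro rfl
    rw [zero_mul] at hr
    exact Units.ne_zero _ hr.symm
  set ρ : Fˣ := Units.mk0 r hr0 with hρ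
  have hρρ : ρ * Units.map (D.bar : F →* F) ρ = l⁻¹ := by
    apply Units.ext
    rw [Units.val_mul, Units.coe_map, hρ, Units.val_mk0]
    exact hr
  set g₁ : GL (Fin n) F := scalarGL ρ * G with hg₁
  have hg₁1 : g₁ * barGL D g₁ = 1 := by
    rw [hg₁, map_mul, barGL_scalarGL]
    calc scalarGL ρ * G * (scalarGL (Units.map (D.bar : F →* F) ρ) * barGL D G)
        = scalarGL ρ * (G * scalarGL (Units.map (D.bar : F →* F) ρ))
          * barGL D G := by group
      _ = scalarGL ρ * (scalarGL (Units.map (D.bar : F →* F) ρ) * G)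
          * barGL D G := by
          rw [← scalars_comm (scalarGL_mem (Units.map (D.bar : F →* F) ρ)) G]
      _ = (scalarGL ρ * scalarGL (Units.map (D.bar : F →* F) ρ))
          * (G * barGL D G) := by group
      _ = 1 := by rw [← scalarGL_mul, hρρ, hl, scalarGL_inv, inv_mul_cancel]
  obtain ⟨a, ha⟩ := hilbert90_GL D g₁ hg₁1
  have hg₁a : g₁ = a * (barGL D a)⁻¹ := by rw [eq_mul_inv_iff_mul_eq]; exact ha
  have hg₁HS : g₁ ∈ HS D n := (HS D n).mul_mem (scalarGL_mem_HS D ρ) g.2
  have hgam : gammaU D ⟨g₁, hg₁HS⟩ = gammaU D g := by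
    have : (⟨g₁, hg₁HS⟩ : ↥(HS D n)) = scalarHS D ρ * g := Subtype.ext rfl
    rw [this, gammaU_scalarHS_mul]
  -- the multiplier of `g₁`
  obtain ⟨c₁, hc₁⟩ := exists_scalarGL ((mem_HS_iff D g₁).1 hg₁HS)
  have hbg₁ : barGL D g₁ = g₁⁻¹ := eq_inv_of_mul_eq_one_right hg₁1
  set H : GL (Fin n) F := gT a * barGL D a with hH
  have hbH : barGL D H = gT (barGL D a) * a := by
    rw [hH, map_mul, barGL_gT, barGL_barGL]
  have hHc : H = scalarGL c₁ * barGL D H := by
    rw [hbH]
    have e1 : (gT (barGL D a))⁻¹ * gT a * (barGL D a * a⁻¹) = scalarGL c₁ := by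
      rw [← hc₁, hbg₁, hg₁a, gT_mul, gT_inv]
      group
    calc H = gT (barGL D a) * ((gT (barGL D a))⁻¹ * gT a * (barGL D a * a⁻¹)) * a := by
          rw [hH]; group
      _ = gT (barGL D a) * scalarGL c₁ * a := by rw [e1]
      _ = scalarGL c₁ * gT (barGL D a) * a := by rw [scalars_comm (scalarGL_mem c₁)]
      _ = _ := by group
  have hN : (c₁ : F) * D.bar (c₁ : F) = 1 := by
    have e2 : barGL D H = scalarGL (Units.map (D.bar : F →* F) c₁) * H := by
      conv_lhs => rw [hHc]
      rw [map_mul, barGL_scalarGL, barGL_barGL]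
    have e3 : scalarGL (c₁ * Units.map (D.bar : F →* F) c₁) = (1 : GL (Fin n) F) := by
      have : H = scalarGL (c₁ * Units.map (D.bar : F →* F) c₁) * H := by
        conv_lhs => rw [hHc, e2]
        rw [scalarGL_mul]
        group
      calc scalarGL (c₁ * Units.map (D.bar : F →* F) c₁)
          = (scalarGL (c₁ * Units.map (D.bar : F →* F) c₁) * H) * H⁻¹ := by group
        _ = H * H⁻¹ := by rw [← this]
        _ = 1 := mul_inv_cancel H
    rw [← scalarGL_one] at e3
    have := congrArg Units.val (scalarGL_injective e3)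
    rwa [Units.val_mul, Units.coe_map, Units.val_one] at this
  obtain ⟨ν, hν0, hν⟩ := hilbert90_scalar D (c₁ : F) hN
  set ε : Fˣ := Units.mk0 ν hν0 with hε
  have hεc : ε = c₁ * Units.map (D.bar : F →* F) ε := by
    apply Units.ext
    rw [Units.val_mul, Units.coe_map, hε, Units.val_mk0]
    exact hν
  have hreal : barGL D ((scalarGL ε)⁻¹ * H) = (scalarGL ε)⁻¹ * H := by
    rw [map_mul, map_inv, barGL_scalarGL]
    have e4 : barGL D H = (scalarGL c₁)⁻¹ * H := by
      conv_rhs => rw [hHc]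
      group
    rw [e4]
    conv_rhs => rw [hεc, scalarGL_mul]
    group
  obtain ⟨A₀, hA₀⟩ := exists_jGL_of_real E _ hreal
  refine ⟨A₀, a, ε, by rw [← hg₁a]; exact hg₁HS, ?_, ?_⟩
  · rw [← hgam]
    congr 1
    exact Subtype.ext hg₁a
  · rw [hA₀, mul_inv_cancel_left]

end Cfsg.Agent.Helper7.GraphPSU
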