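import Cfsg.Agent.Helper7.GraphPSU8

/-!
# Graph automorphisms of `PSU_n`, part 9 (helper7)

Descent of conjugators: the key lemmas `descend_conj` (K) and `ascend_conj` (K').
-/

set_option autoImplicit false
set_option linter.unusedSectionVars false

namespace Cfsg.Agent.Helper7.GraphPSU

open Matrix
open Cfsg.Agent.Helper7.GraphPSL (gT gT_coe gT_mul gT_inv gT_gT)

variable {F : Type*} [Field F] {n q : ℕ} {F₀ : Type*} [Field F₀] (E : UDesc F q F₀)

theorem scalarGL_comm (c : Fˣ) (g : GL (Fin n) F) : scalarGL c * g = g * scalarGL c :=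
  scalars_comm (scalarGL_mem c) g

theorem gT_scalarGL_mul (c : Fˣ) (g : GL (Fin n) F) : gT (scalarGL c * g) = scalarGL c * gT g := by
  rw [gT_mul, gT_scalarGL, scalarGL_comm]

/-- a scalar relating two real matrices is real -/
theorem real_scalar [NeZero n] (X Y : GL (Fin n) F₀) (s : Fˣ)
    (h : jGL E X = scalarGL s * jGL E Y) : ∃ c : F₀ˣ, X = scalarGL c * Y := by
  have h1 := congrArg (barGL E.toUData) h
  rw [barGL_jGL, barGL_scalarGL_mul, barGL_jGL, h] at h1
  have h2 : (scalarGL s : GL (Fin n) F) = scalarGL (Units.map (E.bar : F →* F) s) :=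
    mul_right_cancel h1
  have h3 := congrArg Units.val (scalarGL_injective h2)
  rw [Units.coe_map] at h3
  obtain ⟨c₀, hc₀⟩ := E.exists_j (s : F) h3.symm
  have hc₀0 : c₀ ≠ 0 := by
    rintro rfl
    rw [map_zero] at hc₀
    exact Units.ne_zero s hc₀.symm
  refine ⟨Units.mk0 c₀ hc₀0, ?_⟩
  apply jGL_injective E
  rw [h, map_mul, jGL_scalarGL]
  congr 2
  apply Units.ext
  rw [Units.coe_map, Units.val_mk0]
  exact hc₀.symm

/-- **Lemma K**: descent of a conjugator. -/
theorem descend_conj [NeZero n] (a a' : GL (Fin n) F) (ε ε' : Fˣ) (A₀ A₀' : GL (Fin n) F₀)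
    (hA : gT a * barGL E.toUData a = scalarGL ε * jGL E A₀)
    (hA' : gT a' * barGL E.toUData a' = scalarGL ε' * jGL E A₀')
    (k : GL (Fin n) F) (hk : k ∈ HS E.toUData n) (μ : Fˣ)
    (hconj : k * (a * (barGL E.toUData a)⁻¹) * (barGL E.toUData k)⁻¹
      = scalarGL μ * (a' * (barGL E.toUData a')⁻¹)) :
    ∃ (m : GL (Fin n) F₀) (ν : Fˣ) (c : F₀ˣ), a'⁻¹ * k * a = scalarGL ν * jGL E m ∧
      gT m * A₀' * m = scalarGL c * A₀ := by
  set D := E.toUData with hD
  set y : GL (Fin n) F := a'⁻¹ * k * a with hy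
  have hby : barGL D y = (barGL D a')⁻¹ * barGL D k * barGL D a := by
    rw [hy, map_mul, map_mul, map_inv]
  -- (1)
  have h1 : y = scalarGL μ * barGL D y := by
    rw [hby]
    calc y = a'⁻¹ * (k * (a * (barGL D a)⁻¹) * (barGL D k)⁻¹) * (barGL D k * barGL D a) := by
          rw [hy]; group
      _ = a'⁻¹ * (scalarGL μ * (a' * (barGL D a')⁻¹)) * (barGL D k * barGL D a) := by rw [hconj]
      _ = a'⁻¹ * (scalarGL μ * a') * ((barGL D a')⁻¹ * barGL D k * barGL D a) := by group
      _ = a'⁻¹ * (a' * scalarGL μ) * ((barGL D a')⁻¹ * barGL D k * barGL D a) := by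
          rw [scalarGL_comm]
      _ = _ := by group
  -- (2)
  have h2 : (μ : F) * D.bar (μ : F) = 1 := by
    have e1 : barGL D y = scalarGL (Units.map (D.bar : F →* F) μ) * y := by
      conv_lhs => rw [h1]
      rw [map_mul, barGL_scalarGL, barGL_barGL]
    have e2 : scalarGL (μ * Units.map (D.bar : F →* F) μ) = (1 : GL (Fin n) F) := by
      have : y = scalarGL (μ * Units.map (D.bar : F →* F) μ) * y := by
        conv_lhs => rw [h1, e1]
        rw [scalarGL_mul]
        group
      calc scalarGL (μ * Units.map (D.bar : F →* F) μ)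
          = (scalarGL (μ * Units.map (D.bar : F →* F) μ) * y) * y⁻¹ := by group
        _ = y * y⁻¹ := by rw [← this]
        _ = 1 := mul_inv_cancel y
    rw [← scalarGL_one] at e2
    have := congrArg Units.val (scalarGL_injective e2)
    rwa [Units.val_mul, Units.coe_map, Units.val_one] at this
  -- (3)
  obtain ⟨ν₀, hν0, hν⟩ := hilbert90_scalar D (μ : F) h2
  set ν : Fˣ := Units.mk0 ν₀ hν0 with hνdef
  have hνμ : ν = μ * Units.map (D.bar : F →* F) ν := by
    apply Units.ext
    rw [Units.val_mul, Units.coe_map, hνdef, Units.val_mk0]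
    exact hν
  have hreal : barGL D ((scalarGL ν)⁻¹ * y) = (scalarGL ν)⁻¹ * y := by
    rw [map_mul, map_inv, barGL_scalarGL]
    have e4 : barGL D y = (scalarGL μ)⁻¹ * y := by
      conv_rhs => rw [h1]
      group
    rw [e4]
    conv_rhs => rw [hνμ, scalarGL_mul]
    group
  obtain ⟨m, hm⟩ := exists_jGL_of_real E _ hreal
  have hym : y = scalarGL ν * jGL E m := by rw [hm, mul_inv_cancel_left]
  -- (4)
  obtain ⟨ck, hck⟩ := exists_scalarGL ((mem_HS_iff D k).1 hk)
  have hk_y : k = a' * y * a⁻¹ := by rw [hy]; group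
  have h4 : gT y * (gT a' * barGL D a') * barGL D y = scalarGL ck * (gT a * barGL D a) := by
    have e5 : gT k * barGL D k
        = (gT a)⁻¹ * (gT y * (gT a' * barGL D a') * barGL D y) * (barGL D a)⁻¹ := by
      rw [hk_y, gT_mul, gT_mul, gT_inv, map_mul, map_mul, map_inv]
      group
    calc gT y * (gT a' * barGL D a') * barGL D y
        = gT a * ((gT a)⁻¹ * (gT y * (gT a' * barGL D a') * barGL D y) * (barGL D a)⁻¹)
          * barGL D a := by group
      _ = gT a * scalarGL ck * barGL D a := by rw [← e5, hck]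
      _ = scalarGL ck * gT a * barGL D a := by rw [scalarGL_comm]
      _ = _ := by group
  -- (5): pass to matrices
  rw [hA, hA', hym, barGL_scalarGL_mul, barGL_jGL, gT_scalarGL_mul, ← jGL_gT] at h4
  have h5 : jGL E (gT m * A₀' * m)
      = scalarGL ((ν * ε' * Units.map (D.bar : F →* F) ν)⁻¹ * (ck * ε)) * jGL E A₀ := by
    rw [map_mul, map_mul]
    have e6 : scalarGL ν * jGL E (gT m) * (scalarGL ε' * jGL E A₀')
        * (scalarGL (Units.map (D.bar : F →* F) ν) * jGL E m)
        = scalarGL (ν * ε' * Units.map (D.bar : F →* F) ν)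
          * (jGL E (gT m) * jGL E A₀' * jGL E m) := by
      rw [scalarGL_mul, scalarGL_mul]
      calc scalarGL ν * jGL E (gT m) * (scalarGL ε' * jGL E A₀')
            * (scalarGL (Units.map (D.bar : F →* F) ν) * jGL E m)
          = scalarGL ν * (jGL E (gT m) * scalarGL ε') * (jGL E A₀'
            * scalarGL (Units.map (D.bar : F →* F) ν)) * jGL E m := by group
        _ = scalarGL ν * (scalarGL ε' * jGL E (gT m))
            * (scalarGL (Units.map (D.bar : F →* F) ν) * jGL E A₀') * jGL E m := by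
            rw [← scalarGL_comm ε', ← scalarGL_comm (Units.map (D.bar : F →* F) ν)]
        _ = scalarGL ν * scalarGL ε' * (jGL E (gT m)
            * scalarGL (Units.map (D.bar : F →* F) ν)) * jGL E A₀' * jGL E m := by group
        _ = scalarGL ν * scalarGL ε' * (scalarGL (Units.map (D.bar : F →* F) ν)
            * jGL E (gT m)) * jGL E A₀' * jGL E m := by
            rw [← scalarGL_comm (Units.map (D.bar : F →* F) ν)]
        _ = _ := by group
    rw [e6] at h4
    rw [scalarGL_mul, scalarGL_inv, scalarGL_mul ck]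
    calc jGL E (gT m) * jGL E A₀' * jGL E m
        = (scalarGL (ν * ε' * Units.map (D.bar : F →* F) ν))⁻¹
          * (scalarGL (ν * ε' * Units.map (D.bar : F →* F) ν)
            * (jGL E (gT m) * jGL E A₀' * jGL E m)) := by group
      _ = (scalarGL (ν * ε' * Units.map (D.bar : F →* F) ν))⁻¹
          * (scalarGL ck * (scalarGL ε * jGL E A₀)) := by rw [h4]
      _ = _ := by group
  obtain ⟨c, hc⟩ := real_scalar E _ _ _ h5
  exact ⟨m, ν, c, hym, hc⟩

/-- **Lemma K'**: a similarity of the descended forms gives a conjugating Hermitian similitude. -/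
theorem ascend_conj (a a' : GL (Fin n) F) (ε ε' : Fˣ) (A₀ A₀' : GL (Fin n) F₀)
    (hA : gT a * barGL E.toUData a = scalarGL ε * jGL E A₀)
    (hA' : gT a' * barGL E.toUData a' = scalarGL ε' * jGL E A₀')
    (m : GL (Fin n) F₀) (c : F₀ˣ) (hm : gT m * A₀' * m = scalarGL c * A₀) :
    a' * jGL E m * a⁻¹ ∈ HS E.toUData n ∧
      (a' * jGL E m * a⁻¹) * (a * (barGL E.toUData a)⁻¹) * (barGL E.toUData (a' * jGL E m * a⁻¹))⁻¹
        = a' * (barGL E.toUData a')⁻¹ := by
  set D := E.toUData with hD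
  have hbk : barGL D (a' * jGL E m * a⁻¹) = barGL D a' * jGL E m * (barGL D a)⁻¹ := by
    rw [map_mul, map_mul, map_inv, barGL_jGL]
  constructor
  · rw [mem_HS_iff, hbk, gT_mul, gT_mul, gT_inv]
    have hjm : jGL E (gT m) * jGL E A₀' * jGL E m
        = scalarGL (Units.map (E.j : F₀ →* F) c) * jGL E A₀ := by
      rw [← map_mul, ← map_mul, hm, map_mul, jGL_scalarGL]
    have key : (gT a)⁻¹ * (gT (jGL E m) * gT a') * (barGL D a' * jGL E m * (barGL D a)⁻¹)
        = scalarGL (ε' * Units.map (E.j : F₀ →* F) c * ε⁻¹) := by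
      calc (gT a)⁻¹ * (gT (jGL E m) * gT a') * (barGL D a' * jGL E m * (barGL D a)⁻¹)
          = (gT a)⁻¹ * gT (jGL E m) * (gT a' * barGL D a') * jGL E m * (barGL D a)⁻¹ := by group
        _ = (gT a)⁻¹ * jGL E (gT m) * (scalarGL ε' * jGL E A₀') * jGL E m * (barGL D a)⁻¹ := by
            rw [hA', jGL_gT]
        _ = (gT a)⁻¹ * (jGL E (gT m) * scalarGL ε') * jGL E A₀' * jGL E m * (barGL D a)⁻¹ := by
            group
        _ = (gT a)⁻¹ * (scalarGL ε' * jGL E (gT m)) * jGL E A₀' * jGL E m * (barGL D a)⁻¹ := by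
            rw [scalarGL_comm]
        _ = (gT a)⁻¹ * scalarGL ε' * (jGL E (gT m) * jGL E A₀' * jGL E m) * (barGL D a)⁻¹ := by
            group
        _ = (gT a)⁻¹ * scalarGL ε' * (scalarGL (Units.map (E.j : F₀ →* F) c) * jGL E A₀)
            * (barGL D a)⁻¹ := by rw [hjm]
        _ = (gT a)⁻¹ * (scalarGL ε' * scalarGL (Units.map (E.j : F₀ →* F) c) * (scalarGL ε)⁻¹)
            * (scalarGL ε * jGL E A₀) * (barGL D a)⁻¹ := by group
        _ = (gT a)⁻¹ * scalarGL (ε' * Units.map (E.j : F₀ →* F) c * ε⁻¹)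
            * (gT a * barGL D a) * (barGL D a)⁻¹ := by
            rw [← hA, scalarGL_mul, scalarGL_mul, scalarGL_inv]
        _ = (gT a)⁻¹ * (scalarGL (ε' * Units.map (E.j : F₀ →* F) c * ε⁻¹) * gT a) := by group
        _ = (gT a)⁻¹ * (gT a * scalarGL (ε' * Units.map (E.j : F₀ →* F) c * ε⁻¹)) := by
            rw [scalarGL_comm]
        _ = _ := by group
    rw [key]
    exact scalarGL_mem _
  · rw [hbk]
    group

end Cfsg.Agent.Helper7.GraphPSU
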