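import Cfsg.Agent.Helper7.GraphSplit1
import Cfsg.Agent.Helper7.GraphPSL14
import Cfsg.Agent.Helper28.Spin1

/-!
# Class splitting, part 2 (helper7)

Multipliers and determinants of the similitudes `kᵀ A k = c A` of a symmetric or skew-symmetric
matrix `A`.
-/

set_option autoImplicit false
set_option linter.unusedSectionVars false

namespace Cfsg.Agent.Helper7.GraphSplit

open scoped Matrix
open Cfsg.Agent.Helper7.OrthUni Cfsg.Agent.Helper7.GraphPSL

variable {n : ℕ} {F : Type*} [Field F]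

/-- (K1) the square of the determinant of a similitude -/
theorem det_sq_of_sim {A k : Matrix (Fin n) (Fin n) F} {c : F} (hA : A.det ≠ 0)
    (h : kᵀ * A * k = c • A) : k.det ^ 2 = c ^ n := by
  have := congrArg Matrix.det h
  rw [Matrix.det_mul, Matrix.det_mul, Matrix.det_transpose, Matrix.det_smul, Fintype.card_fin]
    at this
  have h2 : (k.det ^ 2 - c ^ n) * A.det = 0 := by linear_combination this
  rcases mul_eq_zero.1 h2 with h3 | h3
  · exact sub_eq_zero.1 h3
  · exact absurd h3 hA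

/-- (K2) odd dimension: the multiplier is a square `μ²` and the determinant is `μⁿ` -/
theorem sim_odd {m : ℕ} {A k : Matrix (Fin (2 * m + 1)) (Fin (2 * m + 1)) F} {c : F}
    (hc : c ≠ 0) (hA : A.det ≠ 0) (h : kᵀ * A * k = c • A) :
    ∃ μ : F, c = μ ^ 2 ∧ k.det = μ ^ (2 * m + 1) := by
  have h1 := det_sq_of_sim hA h
  have hcm : c ^ m ≠ 0 := pow_ne_zero _ hc
  have hμ : (k.det / c ^ m) ^ 2 = c := by
    rw [div_pow, h1, pow_succ, ← pow_mul, mul_comm 2 m, pow_mul]
    field_simp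
  refine ⟨k.det / c ^ m, hμ.symm, ?_⟩
  rw [pow_succ, pow_mul, hμ]
  field_simp

/-- (K3) even dimension, characteristic two -/
theorem sim_even_char_two [Fintype F] [CharP F 2] {m : ℕ}
    {A k : Matrix (Fin (2 * m)) (Fin (2 * m)) F} {c : F}
    (hA : A.det ≠ 0) (h : kᵀ * A * k = c • A) :
    ∃ μ : F, c = μ ^ 2 ∧ k.det = μ ^ (2 * m) := by
  obtain ⟨μ, hμ⟩ := exists_sq_eq c
  refine ⟨μ, hμ.symm, ?_⟩
  apply CharTwo.sq_injective
  simp only
  rw [det_sq_of_sim hA h, ← hμ]
  ring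

/-- (K6) even dimension: the determinant is `± c^m` -/
theorem sim_even_det {m : ℕ} {A k : Matrix (Fin (2 * m)) (Fin (2 * m)) F} {c : F}
    (hA : A.det ≠ 0) (h : kᵀ * A * k = c • A) : k.det = c ^ m ∨ k.det = -c ^ m := by
  have h1 := det_sq_of_sim hA h
  have : k.det ^ 2 = (c ^ m) ^ 2 := by rw [h1]; ring
  exact sq_eq_sq_iff_eq_or_eq_neg.1 this

/-- congruence of symmetric matrices with discriminants in the same square class -/
theorem exists_congr_of_symm [Fintype F] (h2 : (2 : F) ≠ 0) (G G' : Matrix (Fin n) (Fin n) F)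
    (hg : Gᵀ = G) (hg' : G'ᵀ = G') (hu : IsUnit G) (hu' : IsUnit G')
    (hsq : IsSquare (G.det * G'.det)) :
    ∃ M M' : Matrix (Fin n) (Fin n) F, M * M' = 1 ∧ M' * M = 1 ∧ Mᵀ * G' * M = G := by
  have hs1 : ((2 : F) • G)ᵀ = (2 : F) • G := by rw [Matrix.transpose_smul, hg]
  have hs2 : ((2 : F) • G')ᵀ = (2 : F) • G' := by rw [Matrix.transpose_smul, hg']
  have hu1 : IsUnit ((2 : F) • G) := by
    rw [Matrix.isUnit_iff_isUnit_det, Matrix.det_smul]
    exact (IsUnit.pow _ (isUnit_iff_ne_zero.2 h2)).mul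
      ((Matrix.isUnit_iff_isUnit_det _).1 hu)
  have hu2 : IsUnit ((2 : F) • G') := by
    rw [Matrix.isUnit_iff_isUnit_det, Matrix.det_smul]
    exact (IsUnit.pow _ (isUnit_iff_ne_zero.2 h2)).mul
      ((Matrix.isUnit_iff_isUnit_det _).1 hu')
  obtain ⟨φ, hφ⟩ := exists_isometry_of_disc h2 (qf ((2 : F) • G)) (qf ((2 : F) • G'))
    (qf_nondeg h2 hs1 hu1) (qf_nondeg h2 hs2 hu2) rfl (by
      rw [gram_qf h2 hs1, gram_qf h2 hs2, Matrix.det_smul, Matrix.det_smul]
      have : (2 : F) ^ Fintype.card (Fin n) * G.det * ((2 : F) ^ Fintype.card (Fin n) * G'.det)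
          = ((2 : F) ^ Fintype.card (Fin n)) ^ 2 * (G.det * G'.det) := by ring
      rw [this]
      exact (IsSquare.sq _).mul hsq)
  have hqf : ∀ (A : Matrix (Fin n) (Fin n) F) (v : Fin n → F),
      qf ((2 : F) • A) v = v ⬝ᵥ A *ᵥ v := by
    intro A v
    rw [qf_apply, Matrix.smul_mulVec, dotProduct_smul, smul_eq_mul, ← mul_assoc,
      inv_mul_cancel₀ h2, one_mul]
  set M := LinearMap.toMatrix' φ.toLinearMap with hM
  set M' := LinearMap.toMatrix' φ.symm.toLinearMap with hM'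
  have h1 : M * M' = 1 := by
    rw [hM, hM', ← LinearMap.toMatrix'_comp]
    have : φ.toLinearMap ∘ₗ φ.symm.toLinearMap = LinearMap.id := by
      ext v
      simp
    rw [this, LinearMap.toMatrix'_id]
  have h1' : M' * M = 1 := by
    rw [hM, hM', ← LinearMap.toMatrix'_comp]
    have : φ.symm.toLinearMap ∘ₗ φ.toLinearMap = LinearMap.id := by
      ext v
      simp
    rw [this, LinearMap.toMatrix'_id]
  have hMv : ∀ v : Fin n → F, M *ᵥ v = φ v := by
    intro v
    rw [hM, LinearMap.toMatrix'_mulVec]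
    rfl
  refine ⟨M, M', h1, h1', ?_⟩
  apply eq_of_forall_dotProduct_eq h2
  · rw [Matrix.transpose_mul, Matrix.transpose_mul, Matrix.transpose_transpose, hg',
      Matrix.mul_assoc]
  · exact hg
  · intro v
    rw [← hqf G v, ← hφ v, hqf G', ← Matrix.mulVec_mulVec, ← Matrix.mulVec_mulVec,
      Matrix.dotProduct_mulVec v Mᵀ, Matrix.vecMul_transpose, hMv]

/-- (K7) every non-zero scalar is the multiplier of a similitude of a symmetric matrix of even
size over a finite field of odd characteristic -/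
theorem exists_sim_of_symm [Fintype F] (h2 : (2 : F) ≠ 0) {m : ℕ}
    (A : Matrix (Fin (2 * m)) (Fin (2 * m)) F) (hA : Aᵀ = A) (hu : IsUnit A) (c : F)
    (hc : c ≠ 0) :
    ∃ M M' : Matrix (Fin (2 * m)) (Fin (2 * m)) F, M * M' = 1 ∧ M' * M = 1 ∧
      Mᵀ * A * M = c • A := by
  apply exists_congr_of_symm h2 (c • A) A (by rw [Matrix.transpose_smul, hA]) hA ?_ hu ?_
  · rw [Matrix.isUnit_iff_isUnit_det, Matrix.det_smul]
    exact (IsUnit.pow _ (isUnit_iff_ne_zero.2 hc)).mul ((Matrix.isUnit_iff_isUnit_det _).1 hu)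
  · rw [Matrix.det_smul, Fintype.card_fin]
    exact ⟨c ^ m * A.det, by ring⟩

/-- (K8) a reflection: an isometry of determinant `-1` -/
theorem exists_refl (h2 : (2 : F) ≠ 0) (A : Matrix (Fin n) (Fin n) F) (hA : Aᵀ = A)
    (hne : A ≠ 0) :
    ∃ R : Matrix (Fin n) (Fin n) F, R * R = 1 ∧ Rᵀ * A * R = A ∧ R.det = -1 := by
  have hex : ∃ v : Fin n → F, v ⬝ᵥ A *ᵥ v ≠ 0 := by
    by_contra hcon
    push Not at hcon
    apply hne
    apply eq_of_forall_dotProduct_eq h2 hA (Matrix.transpose_zero)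
    intro v
    rw [hcon v, Matrix.zero_mulVec, dotProduct_zero]
  obtain ⟨v, hv⟩ := hex
  have hqf : ∀ (v : Fin n → F), qf ((2 : F) • A) v = v ⬝ᵥ A *ᵥ v := by
    intro v
    rw [qf_apply, Matrix.smul_mulVec, dotProduct_smul, smul_eq_mul, ← mul_assoc,
      inv_mul_cancel₀ h2, one_mul]
  set Q := qf ((2 : F) • A) with hQ
  have hQv : Q v ≠ 0 := by rw [hqf]; exact hv
  refine ⟨Cfsg.reflectionMatrix ⇑Q v, Cfsg.Agent.Helper28.Spin.refl_sq Q hQv, ?_,
    Cfsg.Agent.Helper28.Spin.refl_det Q hQv⟩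
  apply eq_of_forall_dotProduct_eq h2
  · rw [Matrix.transpose_mul, Matrix.transpose_mul, Matrix.transpose_transpose, hA,
      Matrix.mul_assoc]
  · exact hA
  · intro x
    rw [← dot_mulVec_rect, ← hqf, ← hqf]
    exact Cfsg.Agent.Helper28.Spin.refl_pres Q hQv x

end Cfsg.Agent.Helper7.GraphSplit
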