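import Cfsg.Agent.Helper7.GraphSplit2

/-!
# Class splitting, part 3 (helper7)

Similitudes of skew-symmetric matrices: normal form, determinant `c^m`, all multipliers occur.
-/

set_option autoImplicit false
set_option linter.unusedSectionVars false

namespace Cfsg.Agent.Helper7.GraphSplit

open scoped Matrix
open Cfsg.Agent.Helper7.OrthUni Cfsg.Agent.Helper7.GraphPSL

variable {F : Type*} [Field F]

/-- normal form of a skew-symmetric invertible matrix (char ≠ 2) -/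
theorem skew_normal_form (h2 : (2 : F) ≠ 0) (m : ℕ) (A : GL (Fin (2 * m)) F)
    (hA : (A : Matrix (Fin (2 * m)) (Fin (2 * m)) F)ᵀ
      = -(A : Matrix (Fin (2 * m)) (Fin (2 * m)) F)) :
    ∃ (N : Matrix (Fin m ⊕ Fin m) (Fin (2 * m)) F) (N' : Matrix (Fin (2 * m)) (Fin m ⊕ Fin m) F)
      (c₀ : Fˣ), N * N' = 1 ∧ N' * N = 1 ∧
        (A : Matrix (Fin (2 * m)) (Fin (2 * m)) F) = (c₀ : F) • (Nᵀ * Matrix.J (Fin m) F * N) := by
  have h := isConjUnder_of_skew m h2 A hA
  rw [isConjUnder_graphAut_iff] at h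
  obtain ⟨h, c, hc⟩ := h
  set H : Matrix (Fin (2 * m)) (Fin (2 * m)) F := (h : Matrix (Fin (2 * m)) (Fin (2 * m)) F)
    with hH
  set H' : Matrix (Fin (2 * m)) (Fin (2 * m)) F :=
    ((h⁻¹ : GL (Fin (2 * m)) F) : Matrix (Fin (2 * m)) (Fin (2 * m)) F) with hH'
  have hHH' : H * H' = 1 := by rw [hH, hH', ← Units.val_mul, mul_inv_cancel, Units.val_one]
  have hH'H : H' * H = 1 := by rw [hH, hH', ← Units.val_mul, inv_mul_cancel, Units.val_one]
  refine ⟨Pre' m F * Hᵀ, H'ᵀ * Pre m F, c, ?_, ?_, ?_⟩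
  · calc Pre' m F * Hᵀ * (H'ᵀ * Pre m F) = Pre' m F * (Hᵀ * H'ᵀ) * Pre m F := by
          simp only [Matrix.mul_assoc]
      _ = 1 := by
          rw [← Matrix.transpose_mul, hH'H, Matrix.transpose_one, Matrix.mul_one, Pre'_mul_Pre]
  · calc H'ᵀ * Pre m F * (Pre' m F * Hᵀ) = H'ᵀ * (Pre m F * Pre' m F) * Hᵀ := by
          simp only [Matrix.mul_assoc]
      _ = 1 := by
          rw [Pre_mul_Pre', Matrix.mul_one, ← Matrix.transpose_mul, hHH', Matrix.transpose_one]
  · rw [hc, skewRep_coe, Matrix.transpose_mul, Matrix.transpose_transpose]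
    simp only [Matrix.mul_assoc]

/-- the diagonal similitude `diag(a, 1)` of the standard alternating form -/
theorem diagBlock_J (m : ℕ) (a : F) :
    (Matrix.fromBlocks (a • (1 : Matrix (Fin m) (Fin m) F)) 0 0 1)ᵀ * Matrix.J (Fin m) F
        * Matrix.fromBlocks (a • (1 : Matrix (Fin m) (Fin m) F)) 0 0 1
      = a • Matrix.J (Fin m) F := by
  rw [Matrix.J, Matrix.fromBlocks_transpose, Matrix.fromBlocks_multiply,
    Matrix.fromBlocks_multiply, Matrix.fromBlocks_smul]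
  simp

theorem diagBlock_mul (m : ℕ) (a b : F) :
    Matrix.fromBlocks (a • (1 : Matrix (Fin m) (Fin m) F)) 0 0 (1 : Matrix (Fin m) (Fin m) F)
        * Matrix.fromBlocks (b • (1 : Matrix (Fin m) (Fin m) F)) 0 0 1
      = Matrix.fromBlocks ((a * b) • (1 : Matrix (Fin m) (Fin m) F)) 0 0 1 := by
  rw [Matrix.fromBlocks_multiply]
  simp [smul_smul, mul_comm]

theorem diagBlock_one (m : ℕ) :
    Matrix.fromBlocks ((1 : F) • (1 : Matrix (Fin m) (Fin m) F)) 0 0
      (1 : Matrix (Fin m) (Fin m) F) = 1 := by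
  rw [one_smul, Matrix.fromBlocks_one]

theorem diagBlock_det (m : ℕ) (a : F) :
    (Matrix.fromBlocks (a • (1 : Matrix (Fin m) (Fin m) F)) 0 0
      (1 : Matrix (Fin m) (Fin m) F)).det = a ^ m := by
  rw [Matrix.det_fromBlocks_zero₂₁, Matrix.det_smul, Matrix.det_one,
    Fintype.card_fin, mul_one, mul_one]

/-- similitudes of the standard alternating form have determinant `c^m` -/
theorem det_of_J_sim {m : ℕ} {k : Matrix (Fin m ⊕ Fin m) (Fin m ⊕ Fin m) F} {c : F} (hc : c ≠ 0)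
    (h : kᵀ * Matrix.J (Fin m) F * k = c • Matrix.J (Fin m) F) : k.det = c ^ m := by
  set d : Matrix (Fin m ⊕ Fin m) (Fin m ⊕ Fin m) F :=
    Matrix.fromBlocks (c⁻¹ • (1 : Matrix (Fin m) (Fin m) F)) 0 0 1 with hd
  have hmem : k * d ∈ Matrix.symplecticGroup (Fin m) F := by
    rw [SymplecticGroup.mem_iff', Matrix.transpose_mul]
    calc dᵀ * kᵀ * Matrix.J (Fin m) F * (k * d)
        = dᵀ * (kᵀ * Matrix.J (Fin m) F * k) * d := by simp only [Matrix.mul_assoc]
      _ = c • (dᵀ * Matrix.J (Fin m) F * d) := by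
          rw [h, Matrix.mul_smul, Matrix.smul_mul]
      _ = _ := by rw [hd, diagBlock_J, smul_smul, mul_inv_cancel₀ hc, one_smul]
  have hdet := SymplecticGroup.det_eq_one hmem
  rw [Matrix.det_mul, hd, diagBlock_det, inv_pow] at hdet
  field_simp at hdet
  exact hdet

/-- (K4) similitudes of a skew-symmetric matrix have determinant `c^m` -/
theorem sim_skew_det (h2 : (2 : F) ≠ 0) {m : ℕ} (A : GL (Fin (2 * m)) F)
    (hA : (A : Matrix (Fin (2 * m)) (Fin (2 * m)) F)ᵀ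
      = -(A : Matrix (Fin (2 * m)) (Fin (2 * m)) F))
    {k : Matrix (Fin (2 * m)) (Fin (2 * m)) F} {c : F} (hc : c ≠ 0)
    (h : kᵀ * (A : Matrix (Fin (2 * m)) (Fin (2 * m)) F) * k
      = c • (A : Matrix (Fin (2 * m)) (Fin (2 * m)) F)) : k.det = c ^ m := by
  obtain ⟨N, N', c₀, h1, h1', hN⟩ := skew_normal_form h2 m A hA
  have hJ : Nᵀ * Matrix.J (Fin m) F * N
      = ((c₀⁻¹ : Fˣ) : F) • (A : Matrix (Fin (2 * m)) (Fin (2 * m)) F) := by
    rw [hN, smul_smul, ← Units.val_mul, inv_mul_cancel, Units.val_one, one_smul]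
  have hNt : N'ᵀ * Nᵀ = 1 := by rw [← Matrix.transpose_mul, h1, Matrix.transpose_one]
  have key : (N * k * N')ᵀ * Matrix.J (Fin m) F * (N * k * N') = c • Matrix.J (Fin m) F := by
    rw [Matrix.transpose_mul, Matrix.transpose_mul]
    calc N'ᵀ * (kᵀ * Nᵀ) * Matrix.J (Fin m) F * (N * k * N')
        = N'ᵀ * kᵀ * (Nᵀ * Matrix.J (Fin m) F * N) * k * N' := by simp only [Matrix.mul_assoc]
      _ = ((c₀⁻¹ : Fˣ) : F) • (N'ᵀ * (kᵀ * (A : Matrix (Fin (2 * m)) (Fin (2 * m)) F) * k) * N') := by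
          rw [hJ]
          simp only [Matrix.mul_smul, Matrix.smul_mul, Matrix.mul_assoc]
      _ = ((c₀⁻¹ : Fˣ) : F) • (c • (N'ᵀ * (A : Matrix (Fin (2 * m)) (Fin (2 * m)) F) * N')) := by
          rw [h]
          simp only [Matrix.mul_smul, Matrix.smul_mul, Matrix.mul_assoc]
      _ = ((c₀⁻¹ : Fˣ) : F) • (c • ((c₀ : F) • ((N'ᵀ * Nᵀ) * Matrix.J (Fin m) F * (N * N')))) := by
          rw [hN]
          simp only [Matrix.mul_smul, Matrix.smul_mul, Matrix.mul_assoc]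
      _ = _ := by
          rw [hNt, h1, Matrix.one_mul, Matrix.mul_one, smul_smul, smul_smul, mul_comm _ c,
            mul_assoc, ← Units.val_mul, inv_mul_cancel, Units.val_one, mul_one]
  rw [← det_of_J_sim hc key, Matrix.det_conj_of_mul_eq_one h1 h1']

/-- (K5) every non-zero scalar is the multiplier of a similitude of a skew-symmetric matrix -/
theorem exists_sim_of_skew (h2 : (2 : F) ≠ 0) {m : ℕ} (A : GL (Fin (2 * m)) F)
    (hA : (A : Matrix (Fin (2 * m)) (Fin (2 * m)) F)ᵀ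
      = -(A : Matrix (Fin (2 * m)) (Fin (2 * m)) F)) (c : F) (hc : c ≠ 0) :
    ∃ M M' : Matrix (Fin (2 * m)) (Fin (2 * m)) F, M * M' = 1 ∧ M' * M = 1 ∧
      Mᵀ * (A : Matrix (Fin (2 * m)) (Fin (2 * m)) F) * M
        = c • (A : Matrix (Fin (2 * m)) (Fin (2 * m)) F) := by
  obtain ⟨N, N', c₀, h1, h1', hN⟩ := skew_normal_form h2 m A hA
  set d : Matrix (Fin m ⊕ Fin m) (Fin m ⊕ Fin m) F :=
    Matrix.fromBlocks (c • (1 : Matrix (Fin m) (Fin m) F)) 0 0 1 with hd
  set d' : Matrix (Fin m ⊕ Fin m) (Fin m ⊕ Fin m) F :=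
    Matrix.fromBlocks (c⁻¹ • (1 : Matrix (Fin m) (Fin m) F)) 0 0 1 with hd'
  have hdd' : d * d' = 1 := by rw [hd, hd', diagBlock_mul, mul_inv_cancel₀ hc, diagBlock_one]
  have hd'd : d' * d = 1 := by rw [hd, hd', diagBlock_mul, inv_mul_cancel₀ hc, diagBlock_one]
  have hNt : N'ᵀ * Nᵀ = 1 := by rw [← Matrix.transpose_mul, h1, Matrix.transpose_one]
  refine ⟨N' * d * N, N' * d' * N, ?_, ?_, ?_⟩
  · calc N' * d * N * (N' * d' * N) = N' * (d * (N * N') * d') * N := by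
          simp only [Matrix.mul_assoc]
      _ = 1 := by rw [h1, Matrix.mul_one, hdd', Matrix.mul_one, h1']
  · calc N' * d' * N * (N' * d * N) = N' * (d' * (N * N') * d) * N := by
          simp only [Matrix.mul_assoc]
      _ = 1 := by rw [h1, Matrix.mul_one, hd'd, Matrix.mul_one, h1']
  · rw [Matrix.transpose_mul, Matrix.transpose_mul]
    calc Nᵀ * (dᵀ * N'ᵀ) * (A : Matrix (Fin (2 * m)) (Fin (2 * m)) F) * (N' * d * N)
        = Nᵀ * dᵀ * (N'ᵀ * (A : Matrix (Fin (2 * m)) (Fin (2 * m)) F) * N') * d * N := by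
          simp only [Matrix.mul_assoc]
      _ = (c₀ : F) • (Nᵀ * dᵀ * ((N'ᵀ * Nᵀ) * Matrix.J (Fin m) F * (N * N')) * d * N) := by
          rw [hN]
          simp only [Matrix.mul_smul, Matrix.smul_mul, Matrix.mul_assoc]
      _ = (c₀ : F) • (Nᵀ * (dᵀ * Matrix.J (Fin m) F * d) * N) := by
          rw [hNt, h1, Matrix.one_mul, Matrix.mul_one]
          simp only [Matrix.mul_assoc]
      _ = _ := by
          rw [hd, diagBlock_J, hN]
          simp only [Matrix.mul_smul, Matrix.smul_mul, smul_smul, mul_comm]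

end Cfsg.Agent.Helper7.GraphSplit
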