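import Cfsg.Agent.Helper7.GraphSplit3
import Cfsg.Agent.Helper7.GraphPSL10

/-!
# Class splitting, part 4 (helper7)

The group of determinants of the similitudes, and the class-splitting counts for `PSL_n`.
-/

set_option autoImplicit false
set_option linter.unusedSectionVars false

namespace Cfsg.Agent.Helper7.GraphSplit

open scoped Matrix
open Cfsg.Agent.Helper7.OrthUni Cfsg.Agent.Helper7.GraphPSL

variable {n : ℕ} {F : Type*} [Field F]

/-- the group of determinants of similitudes -/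
noncomputable def detSim (A : GL (Fin n) F) : Subgroup Fˣ :=
  (Csub A).map (Matrix.GeneralLinearGroup.det : GL (Fin n) F →* Fˣ)

theorem mem_detSim_iff (A : GL (Fin n) F) (u : Fˣ) :
    u ∈ detSim A ↔ ∃ (k : GL (Fin n) F) (c : Fˣ),
      (k : Matrix (Fin n) (Fin n) F)ᵀ * (A : Matrix (Fin n) (Fin n) F)
          * (k : Matrix (Fin n) (Fin n) F) = (c : F) • (A : Matrix (Fin n) (Fin n) F) ∧
        (k : Matrix (Fin n) (Fin n) F).det = (u : F) := by
  unfold detSim
  constructor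
  · rintro ⟨h, hh, rfl⟩
    obtain ⟨c, hc⟩ := (mem_Csub_iff A h).1 hh
    refine ⟨gT h, c, ?_, ?_⟩
    · rw [gT_coe, Matrix.transpose_transpose]
      exact hc
    · rw [gT_coe, Matrix.det_transpose]
      rfl
  · rintro ⟨k, c, hk, hdet⟩
    refine ⟨gT k, (mem_Csub_iff A _).2 ⟨c, ?_⟩, ?_⟩
    · rw [gT_coe, Matrix.transpose_transpose]
      exact hk
    · apply Units.ext
      rw [← hdet]
      show ((gT k : GL (Fin n) F) : Matrix (Fin n) (Fin n) F).det = _
      rw [gT_coe, Matrix.det_transpose]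

theorem mem_detSim_of_matrix (A : GL (Fin n) F) (u : Fˣ) (M M' : Matrix (Fin n) (Fin n) F)
    (h1 : M * M' = 1) (h1' : M' * M = 1) (c : F) (hc : c ≠ 0)
    (hM : Mᵀ * (A : Matrix (Fin n) (Fin n) F) * M = c • (A : Matrix (Fin n) (Fin n) F))
    (hdet : M.det = (u : F)) : u ∈ detSim A :=
  (mem_detSim_iff A u).2 ⟨⟨M, M', h1, h1'⟩, Units.mk0 c hc, hM, hdet⟩

theorem det_A_ne_zero (A : GL (Fin n) F) : (A : Matrix (Fin n) (Fin n) F).det ≠ 0 := by
  have := (Matrix.isUnit_iff_isUnit_det _).1 A.isUnit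
  exact this.ne_zero

theorem scalar_pow_mem_detSim (A : GL (Fin n) F) (y : Fˣ) : y ^ n ∈ detSim A := by
  rw [mem_detSim_iff]
  refine ⟨Cfsg.Agent.Helper7.GraphPSL.scalarGL y, y ^ 2, ?_, ?_⟩
  · rw [Cfsg.Agent.Helper7.GraphPSL.scalarGL_coe, Matrix.transpose_smul, Matrix.transpose_one,
      Matrix.smul_mul, Matrix.one_mul, Matrix.mul_smul, Matrix.mul_one, smul_smul, Units.val_pow_eq_pow_val,
      pow_two]
  · rw [Cfsg.Agent.Helper7.GraphPSL.scalarGL_coe, Matrix.det_smul, Matrix.det_one, mul_one,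
      Fintype.card_fin, Units.val_pow_eq_pow_val]

/-- odd dimension -/
theorem detSim_odd {m : ℕ} (A : GL (Fin (2 * m + 1)) F) :
    detSim A = (powMonoidHom (2 * m + 1) : Fˣ →* Fˣ).range := by
  ext u
  constructor
  · intro hu
    obtain ⟨k, c, hk, hdet⟩ := (mem_detSim_iff A u).1 hu
    obtain ⟨μ, hμ, hμ'⟩ := sim_odd c.ne_zero (det_A_ne_zero A) hk
    have hμ0 : μ ≠ 0 := by
      rintro rfl
      rw [zero_pow two_ne_zero] at hμ
      exact c.ne_zero hμ
    refine ⟨Units.mk0 μ hμ0, ?_⟩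
    apply Units.ext
    rw [powMonoidHom_apply, Units.val_pow_eq_pow_val, Units.val_mk0, ← hμ', hdet]
  · rintro ⟨y, rfl⟩
    exact scalar_pow_mem_detSim A y

/-- even dimension, characteristic two -/
theorem detSim_even_char_two [Fintype F] [CharP F 2] {m : ℕ} (A : GL (Fin (2 * m)) F) :
    detSim A = (powMonoidHom (2 * m) : Fˣ →* Fˣ).range := by
  ext u
  constructor
  · intro hu
    obtain ⟨k, c, hk, hdet⟩ := (mem_detSim_iff A u).1 hu
    obtain ⟨μ, hμ, hμ'⟩ := sim_even_char_two (det_A_ne_zero A) hk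
    have hμ0 : μ ≠ 0 := by
      rintro rfl
      rw [zero_pow two_ne_zero] at hμ
      exact c.ne_zero hμ
    refine ⟨Units.mk0 μ hμ0, ?_⟩
    apply Units.ext
    rw [powMonoidHom_apply, Units.val_pow_eq_pow_val, Units.val_mk0, ← hμ', hdet]
  · rintro ⟨y, rfl⟩
    exact scalar_pow_mem_detSim A y

/-- even dimension, skew-symmetric matrix, odd characteristic -/
theorem detSim_skew (h2 : (2 : F) ≠ 0) {m : ℕ} (A : GL (Fin (2 * m)) F)
    (hA : (A : Matrix (Fin (2 * m)) (Fin (2 * m)) F)ᵀ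
      = -(A : Matrix (Fin (2 * m)) (Fin (2 * m)) F)) :
    detSim A = (powMonoidHom m : Fˣ →* Fˣ).range := by
  ext u
  constructor
  · intro hu
    obtain ⟨k, c, hk, hdet⟩ := (mem_detSim_iff A u).1 hu
    refine ⟨c, ?_⟩
    apply Units.ext
    rw [powMonoidHom_apply, Units.val_pow_eq_pow_val, ← hdet]
    exact (sim_skew_det h2 A hA c.ne_zero hk).symm
  · rintro ⟨y, rfl⟩
    obtain ⟨M, M', h1, h1', hM⟩ := exists_sim_of_skew h2 A hA (y : F) y.ne_zero
    apply mem_detSim_of_matrix A _ M M' h1 h1' (y : F) y.ne_zero hM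
    rw [powMonoidHom_apply, Units.val_pow_eq_pow_val]
    exact sim_skew_det h2 A hA y.ne_zero hM

end Cfsg.Agent.Helper7.GraphSplit
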