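import Cfsg.Agent.Helper7.GraphSplit4

/-!
# Class splitting, part 5 (helper7)

The symmetric case and the class-splitting counts for `PSL_n`.
-/

set_option autoImplicit false
set_option linter.unusedSectionVars false

namespace Cfsg.Agent.Helper7.GraphSplit

open scoped Matrix
open Cfsg.Agent.Helper7.OrthUni Cfsg.Agent.Helper7.GraphPSL

variable {n : ℕ} {F : Type*} [Field F] [Fintype F]

theorem ringChar_ne_two (h2 : (2 : F) ≠ 0) : ringChar F ≠ 2 := by
  intro h
  apply h2
  have := ringChar.Nat.cast_ringChar (R := F)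
  rw [h] at this
  exact_mod_cast this

theorem half_card (hodd : Odd (Fintype.card F)) :
    Fintype.card F / 2 = (Fintype.card F - 1) / 2 := by
  obtain ⟨t, ht⟩ := hodd
  rw [ht]
  omega

theorem two_mul_half_card (hodd : Odd (Fintype.card F)) :
    2 * ((Fintype.card F - 1) / 2) = Fintype.card F - 1 := by
  obtain ⟨t, ht⟩ := hodd
  rw [ht]
  omega

theorem neg_one_mem_pow_range (hodd : Odd (Fintype.card F)) (g : ℕ)
    (hg : g ∣ (Fintype.card F - 1) / 2) :
    (-1 : Fˣ) ∈ (powMonoidHom g : Fˣ →* Fˣ).range := by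
  have h2 := two_ne_zero_of_odd_card hodd
  obtain ⟨ν, hν⟩ := exists_nonsquare_of_two_ne_zero h2
  have hν0 : ν ≠ 0 := by
    rintro rfl
    exact hν ⟨0, by ring⟩
  have hdich := FiniteField.pow_dichotomy (ringChar_ne_two h2) hν0
  have hneg : ν ^ ((Fintype.card F - 1) / 2) = -1 := by
    rw [← half_card hodd]
    rcases hdich with h | h
    · exact absurd ((FiniteField.isSquare_iff (ringChar_ne_two h2) hν0).2 h) hν
    · exact h
  obtain ⟨s, hs⟩ := hg
  refine ⟨(Units.mk0 ν hν0) ^ s, ?_⟩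
  apply Units.ext
  rw [powMonoidHom_apply, ← pow_mul, mul_comm, ← hs, Units.val_pow_eq_pow_val, Units.val_mk0,
    hneg, Units.val_neg, Units.val_one]

theorem pow_half_card (hodd : Odd (Fintype.card F)) (y : Fˣ) :
    y ^ ((Fintype.card F - 1) / 2) = 1 ∨ y ^ ((Fintype.card F - 1) / 2) = -1 := by
  have h2 := two_ne_zero_of_odd_card hodd
  have hdich := FiniteField.pow_dichotomy (ringChar_ne_two h2) y.ne_zero
  rw [half_card hodd] at hdich
  rcases hdich with h | h
  · left
    apply Units.ext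
    rw [Units.val_pow_eq_pow_val, h, Units.val_one]
  · right
    apply Units.ext
    rw [Units.val_pow_eq_pow_val, h, Units.val_neg, Units.val_one]

section symm

variable (hodd : Odd (Fintype.card F)) {m : ℕ} (A : GL (Fin (2 * m)) F)
  (hA : (A : Matrix (Fin (2 * m)) (Fin (2 * m)) F)ᵀ = (A : Matrix (Fin (2 * m)) (Fin (2 * m)) F))

include hodd hA

theorem neg_one_mem_detSim (hm : 1 ≤ m) : (-1 : Fˣ) ∈ detSim A := by
  have h2 := two_ne_zero_of_odd_card hodd
  have hne : (A : Matrix (Fin (2 * m)) (Fin (2 * m)) F) ≠ 0 := by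
    intro h0
    have : Nonempty (Fin (2 * m)) := ⟨⟨0, by omega⟩⟩
    apply det_A_ne_zero A
    rw [h0, Matrix.det_zero]
  obtain ⟨R, hRR, hR, hdet⟩ := exists_refl h2 _ hA hne
  apply mem_detSim_of_matrix A (-1) R R hRR hRR 1 one_ne_zero
  · rw [one_smul]
    exact hR
  · rw [hdet, Units.val_neg, Units.val_one]

theorem pow_mem_detSim (hm : 1 ≤ m) (μ : Fˣ) : μ ^ m ∈ detSim A := by
  have h2 := two_ne_zero_of_odd_card hodd
  obtain ⟨M, M', h1, h1', hM⟩ := exists_sim_of_symm h2 _ hA A.isUnit (μ : F) μ.ne_zero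
  rcases sim_even_det (det_A_ne_zero A) hM with h | h
  · apply mem_detSim_of_matrix A _ M M' h1 h1' (μ : F) μ.ne_zero hM
    rw [h, Units.val_pow_eq_pow_val]
  · have h3 : (-1 : Fˣ) * μ ^ m ∈ detSim A := by
      apply mem_detSim_of_matrix A _ M M' h1 h1' (μ : F) μ.ne_zero hM
      rw [h, Units.val_mul, Units.val_neg, Units.val_one, Units.val_pow_eq_pow_val, neg_one_mul]
    have h4 := (detSim A).mul_mem (neg_one_mem_detSim hodd A hA hm) h3
    rwa [← mul_assoc, neg_one_mul, neg_neg, one_mul] at h4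

/-- even dimension, symmetric matrix, odd characteristic -/
theorem detSim_symm (hm : 1 ≤ m) :
    detSim A = (powMonoidHom (Nat.gcd m ((Fintype.card F - 1) / 2)) : Fˣ →* Fˣ).range := by
  set N' := (Fintype.card F - 1) / 2 with hN'
  set g := Nat.gcd m N' with hg
  ext u
  constructor
  · intro hu
    obtain ⟨k, c, hk, hdet⟩ := (mem_detSim_iff A u).1 hu
    obtain ⟨s, hs⟩ := Nat.gcd_dvd_left m N'
    have hcm : c ^ m ∈ (powMonoidHom g : Fˣ →* Fˣ).range := by
      refine ⟨c ^ s, ?_⟩
      rw [powMonoidHom_apply, ← pow_mul, mul_comm, hs]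
    rcases sim_even_det (det_A_ne_zero A) hk with h | h
    · have : u = c ^ m := by
        apply Units.ext
        rw [← hdet, h, Units.val_pow_eq_pow_val]
      rw [this]
      exact hcm
    · have : u = (-1 : Fˣ) * c ^ m := by
        apply Units.ext
        rw [← hdet, h, Units.val_mul, Units.val_neg, Units.val_one, Units.val_pow_eq_pow_val,
          neg_one_mul]
      rw [this]
      exact Subgroup.mul_mem _ (neg_one_mem_pow_range hodd g (Nat.gcd_dvd_right m N')) hcm
  · rintro ⟨y, rfl⟩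
    rw [powMonoidHom_apply]
    have hbez := Nat.gcd_eq_gcd_ab m N'
    have hy : y ^ g = (y ^ m) ^ (Nat.gcdA m N') * (y ^ N') ^ (Nat.gcdB m N') := by
      rw [← zpow_natCast y g, hg, hbez, zpow_add, zpow_mul, zpow_mul, zpow_natCast, zpow_natCast]
    rw [hy]
    apply Subgroup.mul_mem
    · exact Subgroup.zpow_mem _ (pow_mem_detSim hodd A hA hm y) _
    · apply Subgroup.zpow_mem
      rcases pow_half_card hodd y with h | h
      · rw [h]
        exact Subgroup.one_mem _
      · rw [h]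
        exact neg_one_mem_detSim hodd A hA hm

end symm

theorem index_pow_range (d : ℕ) :
    (powMonoidHom d : Fˣ →* Fˣ).range.index = Nat.gcd (Fintype.card F - 1) d := by
  classical
  rw [IsCyclic.index_powMonoidHom_range, Nat.card_eq_fintype_card, Fintype.card_units]

/-! ### the counts -/

theorem splitClassCount_eq_index_detSim [NeZero n] (A : GL (Fin n) F) :
    Cfsg.splitClassCount (Cfsg.inndiagPSL n F)
        (Cfsg.Inn (Matrix.ProjectiveSpecialLinearGroup (Fin n) F)) (graphAut A)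
      = (detSim A).index :=
  splitClassCount_PSL A

theorem count_odd {m : ℕ} (A : GL (Fin (2 * m + 1)) F) :
    Cfsg.splitClassCount (Cfsg.inndiagPSL (2 * m + 1) F)
        (Cfsg.Inn (Matrix.ProjectiveSpecialLinearGroup (Fin (2 * m + 1)) F)) (graphAut A)
      = Nat.gcd (2 * m + 1) (Fintype.card F - 1) := by
  rw [splitClassCount_eq_index_detSim, detSim_odd, index_pow_range, Nat.gcd_comm]

theorem count_even_char_two [CharP F 2] {m : ℕ} (hm : 1 ≤ m) (A : GL (Fin (2 * m)) F) :
    Cfsg.splitClassCount (Cfsg.inndiagPSL (2 * m) F)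
        (Cfsg.Inn (Matrix.ProjectiveSpecialLinearGroup (Fin (2 * m)) F)) (graphAut A)
      = Nat.gcd (2 * m) (Fintype.card F - 1) := by
  have : NeZero (2 * m) := ⟨by omega⟩
  rw [splitClassCount_eq_index_detSim, detSim_even_char_two, index_pow_range, Nat.gcd_comm]

theorem count_skew (h2 : (2 : F) ≠ 0) {m : ℕ} (hm : 1 ≤ m) (A : GL (Fin (2 * m)) F)
    (hA : (A : Matrix (Fin (2 * m)) (Fin (2 * m)) F)ᵀ
      = -(A : Matrix (Fin (2 * m)) (Fin (2 * m)) F)) :
    Cfsg.splitClassCount (Cfsg.inndiagPSL (2 * m) F)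
        (Cfsg.Inn (Matrix.ProjectiveSpecialLinearGroup (Fin (2 * m)) F)) (graphAut A)
      = Nat.gcd m (Fintype.card F - 1) := by
  have : NeZero (2 * m) := ⟨by omega⟩
  rw [splitClassCount_eq_index_detSim, detSim_skew h2 A hA, index_pow_range, Nat.gcd_comm]

theorem count_symm (hodd : Odd (Fintype.card F)) {m : ℕ} (hm : 1 ≤ m) (A : GL (Fin (2 * m)) F)
    (hA : (A : Matrix (Fin (2 * m)) (Fin (2 * m)) F)ᵀ
      = (A : Matrix (Fin (2 * m)) (Fin (2 * m)) F)) :
    Cfsg.splitClassCount (Cfsg.inndiagPSL (2 * m) F)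
        (Cfsg.Inn (Matrix.ProjectiveSpecialLinearGroup (Fin (2 * m)) F)) (graphAut A)
      = Nat.gcd (2 * m) (Fintype.card F - 1) / 2 := by
  have : NeZero (2 * m) := ⟨by omega⟩
  rw [splitClassCount_eq_index_detSim, detSim_symm hodd A hA hm, index_pow_range]
  have h2t := two_mul_half_card hodd
  set t := (Fintype.card F - 1) / 2 with ht
  rw [← h2t, Nat.gcd_mul_left, Nat.mul_div_cancel_left _ (by norm_num : 0 < 2)]
  exact Nat.gcd_eq_right (dvd_trans (Nat.gcd_dvd_right m t) (dvd_mul_left t 2))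

end Cfsg.Agent.Helper7.GraphSplit
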