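import Cfsg.Agent.Helper7.GraphSplit6
import Cfsg.Agent.Helper7.GraphPSU10

/-!
# Class splitting, part 7 (helper7)

The centralizer of a graph automorphism of orthogonal type has two characters, hence is not
isomorphic to `PGSp`; the centralizer of one of symplectic type is isomorphic to `PGSp`.
-/

set_option autoImplicit false
set_option linter.unusedSectionVars false

namespace Cfsg.Agent.Helper7.GraphSplit

open scoped Matrix
open Cfsg.Agent.Helper7.GraphPSL (gT gT_coe gT_mul graphAut two_ne_zero_of_odd_card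
  exists_nonsquare_of_two_ne_zero centralizer_graphAut_equiv form_eq_iff_matrix_eq mem_GSp_iff)
open Cfsg.Agent.Helper7.GraphPSU (simS mem_simS_iff centralizer_PSL_equiv scalarGL scalarGL_coe
  scalarGL_comm scalarGL_mul scalarGL_injective exists_scalarGL gT_scalarGL scalarGL_one)

variable {n : ℕ} {F : Type*} [Field F]

section mult

variable [NeZero n] (A : GL (Fin n) F)

/-- the multiplier of a similitude -/
noncomputable def multFun (k : ↥(simS A)) : Fˣ :=
  Classical.choose ((mem_simS_iff A k).1 k.2)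

theorem multFun_spec (k : ↥(simS A)) :
    gT (k : GL (Fin n) F) * A * (k : GL (Fin n) F) = scalarGL (multFun A k) * A :=
  Classical.choose_spec ((mem_simS_iff A k).1 k.2)

theorem multFun_unique (k : ↥(simS A)) (c : Fˣ)
    (h : gT (k : GL (Fin n) F) * A * (k : GL (Fin n) F) = scalarGL c * A) : multFun A k = c := by
  have h1 := multFun_spec A k
  rw [h] at h1
  exact (scalarGL_injective (mul_right_cancel h1)).symm

/-- the multiplier homomorphism -/
noncomputable def multS : ↥(simS A) →* Fˣ :=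
  MonoidHom.mk' (multFun A) (fun k k' => by
    apply multFun_unique
    rw [Subgroup.coe_mul, gT_mul]
    calc gT (k' : GL (Fin n) F) * gT (k : GL (Fin n) F) * A * ((k : GL (Fin n) F) * (k' : GL (Fin n) F))
        = gT (k' : GL (Fin n) F) * (gT (k : GL (Fin n) F) * A * (k : GL (Fin n) F))
          * (k' : GL (Fin n) F) := by group
      _ = gT (k' : GL (Fin n) F) * (scalarGL (multFun A k) * A) * (k' : GL (Fin n) F) := by
          rw [multFun_spec]
      _ = (gT (k' : GL (Fin n) F) * scalarGL (multFun A k)) * A * (k' : GL (Fin n) F) := by group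
      _ = (scalarGL (multFun A k) * gT (k' : GL (Fin n) F)) * A * (k' : GL (Fin n) F) := by
          rw [scalarGL_comm]
      _ = scalarGL (multFun A k) * (gT (k' : GL (Fin n) F) * A * (k' : GL (Fin n) F)) := by group
      _ = _ := by rw [multFun_spec, scalarGL_mul, mul_assoc])

theorem multS_eq (k : ↥(simS A)) (c : Fˣ)
    (h : gT (k : GL (Fin n) F) * A * (k : GL (Fin n) F) = scalarGL c * A) : multS A k = c :=
  multFun_unique A k c h

/-- membership in `simS` from a matrix identity -/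
theorem mem_simS_of_matrix (M M' : Matrix (Fin n) (Fin n) F) (h1 : M * M' = 1) (h1' : M' * M = 1)
    (c : Fˣ) (hM : Mᵀ * (A : Matrix (Fin n) (Fin n) F) * M
      = (c : F) • (A : Matrix (Fin n) (Fin n) F)) :
    gT (⟨M, M', h1, h1'⟩ : GL (Fin n) F) * A * (⟨M, M', h1, h1'⟩ : GL (Fin n) F)
      = scalarGL c * A := by
  apply Units.ext
  rw [Units.val_mul, Units.val_mul, Units.val_mul, gT_coe, scalarGL_coe, Matrix.smul_mul,
    Matrix.one_mul]
  exact hM

theorem multS_scalar (k : ↥(simS A)) (s : Fˣ) (hk : (k : GL (Fin n) F) = scalarGL s) :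
    multS A k = s ^ 2 := by
  apply multS_eq
  rw [hk, gT_scalarGL, pow_two, scalarGL_mul]
  calc scalarGL s * A * scalarGL s = scalarGL s * (A * scalarGL s) := by group
    _ = scalarGL s * (scalarGL s * A) := by rw [← scalarGL_comm s A]
    _ = _ := by group

end mult

section chars

variable [Fintype F] {m : ℕ} (A : GL (Fin (2 * m)) F)

/-- the first character: `det k / mult(k)^m` -/
noncomputable def chi1 [NeZero (2 * m)] : ↥(simS A) →* Fˣ :=
  ((Matrix.GeneralLinearGroup.det : GL (Fin (2 * m)) F →* Fˣ).comp (simS A).subtype)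
    * ((powMonoidHom m : Fˣ →* Fˣ).comp (multS A))⁻¹

/-- the second character: the quadratic character of the multiplier -/
noncomputable def chi2 [NeZero (2 * m)] : ↥(simS A) →* Fˣ :=
  (powMonoidHom ((Fintype.card F - 1) / 2) : Fˣ →* Fˣ).comp (multS A)

theorem chi1_apply [NeZero (2 * m)] (k : ↥(simS A)) :
    chi1 A k = Matrix.GeneralLinearGroup.det (k : GL (Fin (2 * m)) F) * (multS A k ^ m)⁻¹ := rfl

theorem chi2_apply [NeZero (2 * m)] (k : ↥(simS A)) :
    chi2 A k = multS A k ^ ((Fintype.card F - 1) / 2) := rfl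

theorem det_scalarGL (s : Fˣ) :
    Matrix.GeneralLinearGroup.det (scalarGL s : GL (Fin n) F) = s ^ n := by
  apply Units.ext
  show ((scalarGL s : GL (Fin n) F) : Matrix (Fin n) (Fin n) F).det = _
  rw [scalarGL_coe, Matrix.det_smul, Matrix.det_one, mul_one, Fintype.card_fin,
    Units.val_pow_eq_pow_val]

theorem chi1_scalar [NeZero (2 * m)] (k : ↥(simS A))
    (hk : (k : GL (Fin (2 * m)) F) ∈ Cfsg.Geo.scalars (Fin (2 * m)) F) : chi1 A k = 1 := by
  obtain ⟨s, hs⟩ := exists_scalarGL hk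
  rw [chi1_apply, multS_scalar A k s hs, hs, det_scalarGL, ← pow_mul, mul_inv_cancel]

theorem chi2_scalar [NeZero (2 * m)] (hodd : Odd (Fintype.card F)) (k : ↥(simS A))
    (hk : (k : GL (Fin (2 * m)) F) ∈ Cfsg.Geo.scalars (Fin (2 * m)) F) : chi2 A k = 1 := by
  classical
  obtain ⟨s, hs⟩ := exists_scalarGL hk
  rw [chi2_apply, multS_scalar A k s hs, ← pow_mul, two_mul_half_card hodd,
    ← Fintype.card_units]
  exact pow_card_eq_one

/-- the centralizer of a graph automorphism of orthogonal type has two characters -/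
theorem hasTwoChars_simS (hodd : Odd (Fintype.card F)) (hm : 1 ≤ m)
    (hA : (A : Matrix (Fin (2 * m)) (Fin (2 * m)) F)ᵀ
      = (A : Matrix (Fin (2 * m)) (Fin (2 * m)) F)) :
    HasTwoChars F (Cfsg.projQuot (simS A)) := by
  have hne0 : NeZero (2 * m) := ⟨by omega⟩
  have h2 := two_ne_zero_of_odd_card hodd
  -- the characters on the quotient
  have hk1 : (Cfsg.Geo.scalars (Fin (2 * m)) F).subgroupOf (simS A) ≤ (chi1 A).ker := by
    intro k hk
    rw [MonoidHom.mem_ker]
    exact chi1_scalar A k (Subgroup.mem_subgroupOf.1 hk)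
  have hk2 : (Cfsg.Geo.scalars (Fin (2 * m)) F).subgroupOf (simS A) ≤ (chi2 A).ker := by
    intro k hk
    rw [MonoidHom.mem_ker]
    exact chi2_scalar A hodd k (Subgroup.mem_subgroupOf.1 hk)
  set X1 : Cfsg.projQuot (simS A) →* Fˣ := QuotientGroup.lift _ (chi1 A) hk1 with hX1
  set X2 : Cfsg.projQuot (simS A) →* Fˣ := QuotientGroup.lift _ (chi2 A) hk2 with hX2
  -- a reflection
  have hne : (A : Matrix (Fin (2 * m)) (Fin (2 * m)) F) ≠ 0 := by
    intro h0
    have : Nonempty (Fin (2 * m)) := ⟨⟨0, by omega⟩⟩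
    apply det_A_ne_zero A
    rw [h0, Matrix.det_zero]
  obtain ⟨R, hRR, hR, hdetR⟩ := exists_refl h2 _ hA hne
  have hRmem : gT (⟨R, R, hRR, hRR⟩ : GL (Fin (2 * m)) F) * A * (⟨R, R, hRR, hRR⟩ : GL (Fin (2 * m)) F)
      = scalarGL 1 * A := by
    apply mem_simS_of_matrix A R R hRR hRR 1
    rw [Units.val_one, one_smul]
    exact hR
  set r : ↥(simS A) := ⟨⟨R, R, hRR, hRR⟩, (mem_simS_iff A _).2 ⟨1, hRmem⟩⟩ with hr
  have hmr : multS A r = 1 := multS_eq A r 1 hRmem
  have hdr : Matrix.GeneralLinearGroup.det (r : GL (Fin (2 * m)) F) = -1 := by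
    apply Units.ext
    show R.det = _
    rw [hdetR, Units.val_neg, Units.val_one]
  have hneg : (-1 : Fˣ) ≠ 1 := by
    intro h
    have := congrArg Units.val h
    rw [Units.val_neg, Units.val_one] at this
    apply h2
    linear_combination -this
  have hX1r : X1 (QuotientGroup.mk r) = -1 := by
    rw [hX1, QuotientGroup.lift_mk, chi1_apply, hmr, one_pow, inv_one, mul_one, hdr]
  have hX2r : X2 (QuotientGroup.mk r) = 1 := by
    rw [hX2, QuotientGroup.lift_mk, chi2_apply, hmr, one_pow]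
  -- a similitude with non-square multiplier
  obtain ⟨ν, hν⟩ := exists_nonsquare_of_two_ne_zero h2
  have hν0 : ν ≠ 0 := by
    rintro rfl
    exact hν ⟨0, by ring⟩
  obtain ⟨M, M', h1, h1', hM⟩ := exists_sim_of_symm h2 _ hA A.isUnit ν hν0
  have hMmem := mem_simS_of_matrix A M M' h1 h1' (Units.mk0 ν hν0) hM
  set s : ↥(simS A) := ⟨⟨M, M', h1, h1'⟩, (mem_simS_iff A _).2 ⟨_, hMmem⟩⟩ with hs
  have hms : multS A s = Units.mk0 ν hν0 := multS_eq A s _ hMmem
  have hX2s : X2 (QuotientGroup.mk s) = -1 := by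
    rw [hX2, QuotientGroup.lift_mk, chi2_apply, hms]
    apply Units.ext
    rw [Units.val_pow_eq_pow_val, Units.val_mk0, Units.val_neg, Units.val_one, ← half_card hodd]
    rcases FiniteField.pow_dichotomy (ringChar_ne_two h2) hν0 with h | h
    · exact absurd ((FiniteField.isSquare_iff (ringChar_ne_two h2) hν0).2 h) hν
    · exact h
  refine ⟨X1, X2, ?_, ?_, ?_⟩
  · intro h
    rw [h, MonoidHom.one_apply] at hX1r
    exact hneg hX1r.symm
  · intro h
    rw [h, MonoidHom.one_apply] at hX2s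
    exact hneg hX2s.symm
  · intro h
    rw [h, hX2r] at hX1r
    exact hneg hX1r.symm

/-- orthogonal type: the centralizer is not isomorphic to `PGSp` -/
theorem not_equiv_PGSp_of_symm (hodd : Odd (Fintype.card F)) (hm : 2 ≤ m)
    (hA : (A : Matrix (Fin (2 * m)) (Fin (2 * m)) F)ᵀ
      = (A : Matrix (Fin (2 * m)) (Fin (2 * m)) F)) :
    ¬ Nonempty (↥(Cfsg.inndiagPSL (2 * m) F ⊓ Subgroup.centralizer {graphAut A})
      ≃* Cfsg.PGSp m F) := by
  rintro ⟨e⟩
  obtain ⟨e'⟩ := centralizer_PSL_equiv A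
  have h1 : HasTwoChars F (Cfsg.PGSp m F) :=
    (hasTwoChars_simS A hodd (by omega) hA).of_equiv (e'.symm.trans e)
  have hq : 3 ≤ Fintype.card F := by
    have h1 : 1 < Fintype.card F := Fintype.one_lt_card
    obtain ⟨t, ht⟩ := hodd
    omega
  have hperf : commutator (Matrix.symplecticGroup (Fin m) F) = ⊤ := by
    apply Cfsg.Agent.Helper2.Sp.commutator_symplectic_eq_top
    by_cases h3 : 3 ≤ m
    · exact Or.inl h3
    · exact Or.inr (Or.inl ⟨by omega, hq⟩)
  exact not_hasTwoChars_PGSp hodd hperf h1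

end chars

/-- symplectic type: the centralizer is isomorphic to `PGSp` -/
theorem equiv_PGSp_of_skew (h2 : (2 : F) ≠ 0) {m : ℕ} (A : GL (Fin (2 * m)) F)
    (hA : (A : Matrix (Fin (2 * m)) (Fin (2 * m)) F)ᵀ
      = -(A : Matrix (Fin (2 * m)) (Fin (2 * m)) F)) :
    Nonempty (↥(Cfsg.inndiagPSL (2 * m) F ⊓ Subgroup.centralizer {graphAut A})
      ≃* Cfsg.PGSp m F) := by
  obtain ⟨N, N', c₀, h1, h1', hN⟩ := skew_normal_form h2 m A hA
  have hNt : N'ᵀ * Nᵀ = 1 := by rw [← Matrix.transpose_mul, h1, Matrix.transpose_one]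
  have hform : N'ᵀ * (A : Matrix (Fin (2 * m)) (Fin (2 * m)) F) * N'
      = (c₀ : F) • Matrix.J (Fin m) F := by
    rw [hN]
    calc N'ᵀ * ((c₀ : F) • (Nᵀ * Matrix.J (Fin m) F * N)) * N'
        = (c₀ : F) • ((N'ᵀ * Nᵀ) * Matrix.J (Fin m) F * (N * N')) := by
          simp only [Matrix.mul_smul, Matrix.smul_mul, Matrix.mul_assoc]
      _ = _ := by rw [hNt, h1, Matrix.one_mul, Matrix.mul_one]
  apply centralizer_graphAut_equiv N' N h1' h1 A (Cfsg.GSp m F)
  intro k
  rw [hform]
  constructor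
  · rintro ⟨c, hc⟩
    refine ⟨c, ?_⟩
    rw [Matrix.mul_smul, Matrix.smul_mul, smul_comm]
    congr 1
    exact (form_eq_iff_matrix_eq _ _ _).1 hc
  · rintro ⟨c, hc⟩
    refine ⟨c, (form_eq_iff_matrix_eq _ _ _).2 ?_⟩
    rw [Matrix.mul_smul, Matrix.smul_mul, smul_comm] at hc
    have := congrArg (fun X => ((c₀⁻¹ : Fˣ) : F) • X) hc
    simp only [smul_smul, ← Units.val_mul, inv_mul_cancel, Units.val_one, one_smul,
      inv_mul_cancel_left] at this
    exact this

end Cfsg.Agent.Helper7.GraphSplit
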