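import Cfsg.Agent.Helper7.GraphSplit7
import Cfsg.Agent.Helper7.GraphPSU13

/-!
# Class splitting for `PSU_n`, part 1 (helper7)

The set-up: the unitary group `GU_n(q)` maps onto `Inndiag(PSU_n(q))`, the matrices of
determinant one map onto the inner automorphisms, and the determinant maps `GU_n(q)` onto the
group `U₁` of elements of norm one.  Hence the class-splitting count is the index in `U₁` of the
group of determinants of the unitary matrices centralizing the automorphism.
-/

set_option autoImplicit false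
set_option linter.unusedSectionVars false

namespace Cfsg.Agent.Helper7.GraphSplit

open scoped Matrix
open Cfsg.Agent.Helper7.GraphPSL (gT gT_coe gT_mul gT_inv gT_gT diagRep diagRep_coe diagRep_det)
open Cfsg.Agent.Helper7.GraphPSU

variable {F : Type*} [Field F] {n q : ℕ} (D : UData F q)

theorem GU_le_HS : Cfsg.GU n F q ≤ HS D n := by
  intro g hg
  exact isUG_mem_HS D ((isUG_iff D g).2 ((mem_GU_iff D g).1 hg))

theorem isUG_of_mem_GU {g : GL (Fin n) F} (hg : g ∈ Cfsg.GU n F q) : IsUG D g :=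
  (isUG_iff D g).2 ((mem_GU_iff D g).1 hg)

theorem mem_GU_of_isUG {g : GL (Fin n) F} (hg : IsUG D g) : g ∈ Cfsg.GU n F q :=
  (mem_GU_iff D g).2 ((isUG_iff D g).1 hg)

/-- the hom `GU_n(q) →* Aut(PSU_n(q))` -/
noncomputable def cGU : ↥(Cfsg.GU n F q) →* MulAut (Cfsg.PSU n F q) :=
  (cU D).comp (Subgroup.inclusion (GU_le_HS D))

theorem cGU_apply (x : ↥(Cfsg.GU n F q)) :
    cGU D x = cU D ⟨(x : GL (Fin n) F), GU_le_HS D x.2⟩ := rfl

theorem range_cGU [Finite F] [NeZero n] :
    (cGU D : ↥(Cfsg.GU n F q) →* _).range = Cfsg.inndiagPSU n F q := by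
  unfold Cfsg.inndiagPSU Cfsg.autSubgroupOf
  have h : {β : MulAut (Cfsg.PSU n F q) | Cfsg.IsInnerDiagonalAutPSU β}
      = ((cGU D : ↥(Cfsg.GU n F q) →* _).range : Set _) := by
    ext β
    rw [Set.mem_ofPred_eq, isInnerDiagonalAutPSU_iff D]
    constructor
    · rintro ⟨x, hx, rfl⟩
      exact ⟨⟨(x : GL (Fin n) F), mem_GU_of_isUG D hx⟩, rfl⟩
    · rintro ⟨x, rfl⟩
      exact ⟨⟨(x : GL (Fin n) F), GU_le_HS D x.2⟩, isUG_of_mem_GU D x.2, rfl⟩
  rw [h, Subgroup.closure_eq]

/-- the group of elements of norm one -/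
def U1 (F : Type*) [Field F] (q : ℕ) : Subgroup Fˣ := (powMonoidHom (q + 1) : Fˣ →* Fˣ).ker

theorem mem_U1_iff (z : Fˣ) : z ∈ U1 F q ↔ z ^ (q + 1) = 1 := by
  unfold U1
  rw [MonoidHom.mem_ker, powMonoidHom_apply]

theorem mem_U1_iff' (z : Fˣ) : z ∈ U1 F q ↔ (z : F) * D.bar (z : F) = 1 := by
  rw [mem_U1_iff, D.bar_apply, ← pow_succ', Units.ext_iff, Units.val_pow_eq_pow_val,
    Units.val_one]

theorem det_barGL (g : GL (Fin n) F) :
    ((barGL D g : GL (Fin n) F) : Matrix (Fin n) (Fin n) F).det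
      = D.bar ((g : Matrix (Fin n) (Fin n) F).det) := by
  rw [barGL_coe]
  exact (RingHom.map_det (D.bar : F →+* F) _).symm

theorem det_mem_U1 {g : GL (Fin n) F} (hg : IsUG D g) :
    Matrix.GeneralLinearGroup.det g ∈ U1 F q := by
  rw [mem_U1_iff' D]
  have h := congrArg (fun x : GL (Fin n) F => (x : Matrix (Fin n) (Fin n) F).det) hg
  simp only [Units.val_mul, Matrix.det_mul, gT_coe, Matrix.det_transpose, det_barGL,
    Units.val_one, Matrix.det_one] at h
  exact h

/-- the determinant `GU_n(q) →* U₁` -/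
noncomputable def detU : ↥(Cfsg.GU n F q) →* ↥(U1 F q) :=
  ((Matrix.GeneralLinearGroup.det : GL (Fin n) F →* Fˣ).comp (Cfsg.GU n F q).subtype).codRestrict
    (U1 F q) (fun x => det_mem_U1 D (isUG_of_mem_GU D x.2))

theorem detU_coe (x : ↥(Cfsg.GU n F q)) :
    ((detU D x : ↥(U1 F q)) : Fˣ) = Matrix.GeneralLinearGroup.det (x : GL (Fin n) F) := rfl

theorem isUG_diagRep (i₀ : Fin n) (z : Fˣ) (hz : z ∈ U1 F q) : IsUG D (diagRep i₀ z) := by
  rw [isUG_iff]
  unfold IsU
  rw [diagRep_coe, Matrix.diagonal_transpose, Matrix.diagonal_map (map_zero _),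
    Matrix.diagonal_mul_diagonal, ← Matrix.diagonal_one]
  congr 1
  funext i
  by_cases h : i = i₀
  · subst h
    simp only [Function.update_self]
    exact (mem_U1_iff' D z).1 hz
  · simp only [Function.update_of_ne h, map_one, mul_one]

theorem detU_surjective [NeZero n] : Function.Surjective (detU D : ↥(Cfsg.GU n F q) →* _) := by
  intro z
  refine ⟨⟨diagRep ⟨0, Nat.pos_of_ne_zero (NeZero.ne n)⟩ (z : Fˣ),
    mem_GU_of_isUG D (isUG_diagRep D _ _ z.2)⟩, ?_⟩
  apply Subtype.ext
  apply Units.ext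
  exact diagRep_det _ _

/-- conjugation by a special unitary matrix is an inner automorphism -/
theorem cGU_suGL (s : ↥(Cfsg.SU n F q)) (hs : suGL s ∈ Cfsg.GU n F q) :
    cGU D ⟨suGL s, hs⟩ = MulAut.conj (QuotientGroup.mk s : Cfsg.PSU n F q) := by
  ext y
  induction y using QuotientGroup.induction_on with
  | H t =>
    rw [cGU_apply, cU_mk, MulAut.conj_apply]
    show _ = (QuotientGroup.mk (s * t * s⁻¹) : Cfsg.PSU n F q)
    congr 1

/-- the inner automorphisms of `PSU_n` are the image of the unitary matrices of determinant one -/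
theorem inn_eq_map_cGU :
    Cfsg.Inn (Cfsg.PSU n F q) = (detU D : ↥(Cfsg.GU n F q) →* _).ker.map (cGU D) := by
  ext φ
  constructor
  · rintro ⟨x, rfl⟩
    induction x using QuotientGroup.induction_on with
    | H s =>
      have hs : suGL s ∈ Cfsg.GU n F q := mem_GU_of_isUG D (suGL_isUG D s)
      refine ⟨⟨suGL s, hs⟩, ?_, cGU_suGL D s hs⟩
      rw [SetLike.mem_coe, MonoidHom.mem_ker]
      apply Subtype.ext
      exact suGL_det s
  · rintro ⟨x, hx, rfl⟩
    rw [SetLike.mem_coe, MonoidHom.mem_ker] at hx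
    have hdet : Matrix.GeneralLinearGroup.det (x : GL (Fin n) F) = 1 := by
      have := congrArg Subtype.val hx
      exact this
    set s := mkSUG D (x : GL (Fin n) F) hdet (isUG_of_mem_GU D x.2) with hs
    have hxs : x = ⟨suGL s, mem_GU_of_isUG D (suGL_isUG D s)⟩ := by
      apply Subtype.ext
      exact (suGL_mkSUG D _ hdet _).symm
    rw [hxs, cGU_suGL]
    exact ⟨_, rfl⟩

/-- the unitary matrices centralizing an automorphism -/
noncomputable def CsubU (γ : MulAut (Cfsg.PSU n F q)) : Subgroup ↥(Cfsg.GU n F q) :=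
  (Subgroup.centralizer {γ}).comap (cGU D)

/-- **class splitting for `PSU_n`** -/
theorem splitClassCount_PSU [Finite F] [NeZero n] (γ : MulAut (Cfsg.PSU n F q)) :
    Cfsg.splitClassCount (Cfsg.inndiagPSU n F q) (Cfsg.Inn (Cfsg.PSU n F q)) γ
      = ((CsubU D γ).map (detU D)).index := by
  rw [← range_cGU D, inn_eq_map_cGU D, splitClassCount_eq_index,
    ← index_sup_eq_index_map _ (detU_surjective D)]
  rfl

end Cfsg.Agent.Helper7.GraphSplit
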