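import Cfsg.Agent.Helper7.GraphSplitU1

/-!
# Class splitting for `PSU_n`, part 2 (helper7)

The unitary matrices centralizing a graph automorphism related to the matrix `A₀` over `F₀`:
they are the `a (ν · j(m)) a⁻¹` with `m` a similitude of `A₀` of multiplier `c` and
`ν ν̄ j(c) = 1`; the determinant is `νⁿ j(det m)`.
-/

set_option autoImplicit false
set_option linter.unusedSectionVars false

namespace Cfsg.Agent.Helper7.GraphSplit

open scoped Matrix
open Cfsg.Agent.Helper7.GraphPSL (gT gT_coe gT_mul gT_inv gT_gT)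
open Cfsg.Agent.Helper7.GraphPSU

variable {F : Type*} [Field F] {n q : ℕ} {F₀ : Type*} [Field F₀] (E : UDesc F q F₀)

/-- the multiplier of `a j(m) a⁻¹` -/
theorem ascend_mult (a : GL (Fin n) F) (ε : Fˣ) (A₀ : GL (Fin n) F₀)
    (hA : gT a * barGL E.toUData a = scalarGL ε * jGL E A₀)
    (m : GL (Fin n) F₀) (c : F₀ˣ) (hm : gT m * A₀ * m = scalarGL c * A₀) :
    gT (a * jGL E m * a⁻¹) * barGL E.toUData (a * jGL E m * a⁻¹)
      = scalarGL (Units.map (E.j : F₀ →* F) c) := by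
  set D := E.toUData with hD
  have hbk : barGL D (a * jGL E m * a⁻¹) = barGL D a * jGL E m * (barGL D a)⁻¹ := by
    rw [map_mul, map_mul, map_inv, barGL_jGL]
  rw [hbk, gT_mul, gT_mul, gT_inv]
  have hjm : jGL E (gT m) * jGL E A₀ * jGL E m
      = scalarGL (Units.map (E.j : F₀ →* F) c) * jGL E A₀ := by
    rw [← map_mul, ← map_mul, hm, map_mul, jGL_scalarGL]
  calc (gT a)⁻¹ * (gT (jGL E m) * gT a) * (barGL D a * jGL E m * (barGL D a)⁻¹)
      = (gT a)⁻¹ * gT (jGL E m) * (gT a * barGL D a) * jGL E m * (barGL D a)⁻¹ := by group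
    _ = (gT a)⁻¹ * jGL E (gT m) * (scalarGL ε * jGL E A₀) * jGL E m * (barGL D a)⁻¹ := by
        rw [hA, jGL_gT]
    _ = (gT a)⁻¹ * (jGL E (gT m) * scalarGL ε) * jGL E A₀ * jGL E m * (barGL D a)⁻¹ := by
        group
    _ = (gT a)⁻¹ * (scalarGL ε * jGL E (gT m)) * jGL E A₀ * jGL E m * (barGL D a)⁻¹ := by
        rw [scalarGL_comm]
    _ = (gT a)⁻¹ * scalarGL ε * (jGL E (gT m) * jGL E A₀ * jGL E m) * (barGL D a)⁻¹ := by
        group
    _ = (gT a)⁻¹ * scalarGL ε * (scalarGL (Units.map (E.j : F₀ →* F) c) * jGL E A₀)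
        * (barGL D a)⁻¹ := by rw [hjm]
    _ = (gT a)⁻¹ * (scalarGL ε * scalarGL (Units.map (E.j : F₀ →* F) c)) * jGL E A₀
        * (barGL D a)⁻¹ := by group
    _ = (gT a)⁻¹ * (scalarGL (Units.map (E.j : F₀ →* F) c) * scalarGL ε) * jGL E A₀
        * (barGL D a)⁻¹ := by rw [scalarGL_comm ε]
    _ = (gT a)⁻¹ * scalarGL (Units.map (E.j : F₀ →* F) c) * (scalarGL ε * jGL E A₀)
        * (barGL D a)⁻¹ := by group
    _ = (gT a)⁻¹ * scalarGL (Units.map (E.j : F₀ →* F) c) * (gT a * barGL D a)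
        * (barGL D a)⁻¹ := by rw [hA]
    _ = (gT a)⁻¹ * (scalarGL (Units.map (E.j : F₀ →* F) c) * gT a) := by group
    _ = (gT a)⁻¹ * (gT a * scalarGL (Units.map (E.j : F₀ →* F) c)) := by
        rw [scalarGL_comm]
    _ = _ := by group

/-- the element `a (ν j(m)) a⁻¹` -/
def xOf (a : GL (Fin n) F) (ν : Fˣ) (m : GL (Fin n) F₀) : GL (Fin n) F :=
  a * (scalarGL ν * jGL E m) * a⁻¹

theorem xOf_eq (a : GL (Fin n) F) (ν : Fˣ) (m : GL (Fin n) F₀) :
    xOf E a ν m = scalarGL ν * (a * jGL E m * a⁻¹) := by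
  unfold xOf
  calc a * (scalarGL ν * jGL E m) * a⁻¹ = (a * scalarGL ν) * jGL E m * a⁻¹ := by group
    _ = (scalarGL ν * a) * jGL E m * a⁻¹ := by rw [scalarGL_comm]
    _ = _ := by group

/-- **Lemma U**: the multiplier of `a (ν j(m)) a⁻¹` -/
theorem xOf_mult (a : GL (Fin n) F) (ε : Fˣ) (A₀ : GL (Fin n) F₀)
    (hA : gT a * barGL E.toUData a = scalarGL ε * jGL E A₀)
    (m : GL (Fin n) F₀) (c : F₀ˣ) (hm : gT m * A₀ * m = scalarGL c * A₀) (ν : Fˣ) :
    gT (xOf E a ν m) * barGL E.toUData (xOf E a ν m)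
      = scalarGL (ν * Units.map (E.bar : F →* F) ν * Units.map (E.j : F₀ →* F) c) := by
  rw [xOf_eq, gT_scalarGL_mul, barGL_scalarGL_mul]
  set k₀ := a * jGL E m * a⁻¹ with hk₀
  calc scalarGL ν * gT k₀ * (scalarGL (Units.map (E.bar : F →* F) ν) * barGL E.toUData k₀)
      = scalarGL ν * (gT k₀ * scalarGL (Units.map (E.bar : F →* F) ν)) * barGL E.toUData k₀ := by
        group
    _ = scalarGL ν * (scalarGL (Units.map (E.bar : F →* F) ν) * gT k₀) * barGL E.toUData k₀ := by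
        rw [← scalarGL_comm (Units.map (E.bar : F →* F) ν) (gT k₀)]
    _ = scalarGL ν * scalarGL (Units.map (E.bar : F →* F) ν) * (gT k₀ * barGL E.toUData k₀) := by
        group
    _ = _ := by
        rw [ascend_mult E a ε A₀ hA m c hm, ← scalarGL_mul, ← scalarGL_mul]

theorem isUG_xOf_iff [NeZero n] (a : GL (Fin n) F) (ε : Fˣ) (A₀ : GL (Fin n) F₀)
    (hA : gT a * barGL E.toUData a = scalarGL ε * jGL E A₀)
    (m : GL (Fin n) F₀) (c : F₀ˣ) (hm : gT m * A₀ * m = scalarGL c * A₀) (ν : Fˣ) :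
    IsUG E.toUData (xOf E a ν m) ↔
      ν * Units.map (E.bar : F →* F) ν * Units.map (E.j : F₀ →* F) c = 1 := by
  unfold IsUG
  rw [xOf_mult E a ε A₀ hA m c hm ν]
  constructor
  · intro h
    rw [← scalarGL_one] at h
    exact scalarGL_injective h
  · intro h
    rw [h, scalarGL_one]

theorem det_jGL (m : GL (Fin n) F₀) :
    Matrix.GeneralLinearGroup.det (jGL E m) = Units.map (E.j : F₀ →* F)
      (Matrix.GeneralLinearGroup.det m) := by
  apply Units.ext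
  show ((jGL E m : GL (Fin n) F) : Matrix (Fin n) (Fin n) F).det = _
  rw [jGL_coe, Units.coe_map]
  exact (RingHom.map_det E.j _).symm

theorem det_scalarGLU (s : Fˣ) :
    Matrix.GeneralLinearGroup.det (scalarGL s : GL (Fin n) F) = s ^ n := by
  apply Units.ext
  show ((scalarGL s : GL (Fin n) F) : Matrix (Fin n) (Fin n) F).det = _
  rw [scalarGL_coe, Matrix.det_smul, Matrix.det_one, mul_one, Fintype.card_fin,
    Units.val_pow_eq_pow_val]

theorem det_xOf (a : GL (Fin n) F) (ν : Fˣ) (m : GL (Fin n) F₀) :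
    Matrix.GeneralLinearGroup.det (xOf E a ν m)
      = ν ^ n * Units.map (E.j : F₀ →* F) (Matrix.GeneralLinearGroup.det m) := by
  unfold xOf
  rw [map_mul, map_mul, map_mul, map_inv, det_scalarGLU, det_jGL, mul_comm, ← mul_assoc,
    inv_mul_cancel, one_mul]

variable [Finite F] (hn : 3 ≤ n) {γ : MulAut (Cfsg.PSU n F q)} {A₀ : GL (Fin n) F₀}

include hn in
/-- forward: the shape of the unitary matrices centralizing `γ` -/
theorem exists_of_mem_CsubU (a : GL (Fin n) F) (ε : Fˣ)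
    (hg : a * (barGL E.toUData a)⁻¹ ∈ HS E.toUData n)
    (hA : gT a * barGL E.toUData a = scalarGL ε * jGL E A₀)
    (x : ↥(Cfsg.GU n F q))
    (hx : x ∈ CsubU E.toUData (gammaU E.toUData ⟨a * (barGL E.toUData a)⁻¹, hg⟩)) :
    ∃ (m : GL (Fin n) F₀) (ν : Fˣ) (c : F₀ˣ), (x : GL (Fin n) F) = xOf E a ν m ∧
      gT m * A₀ * m = scalarGL c * A₀ ∧
      ν * Units.map (E.bar : F →* F) ν * Units.map (E.j : F₀ →* F) c = 1 := by
  have : NeZero n := ⟨by omega⟩
  set D := E.toUData with hD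
  set g : ↥(HS D n) := ⟨a * (barGL D a)⁻¹, hg⟩ with hgdef
  set k : ↥(HS D n) := ⟨(x : GL (Fin n) F), GU_le_HS D x.2⟩ with hk
  have hcomm : cU D k * gammaU D g = gammaU D g * cU D k := by
    unfold CsubU at hx
    rw [Subgroup.mem_comap, Subgroup.mem_centralizer_singleton_iff] at hx
    exact hx
  have h1 : cU D k * gammaU D g * (cU D k)⁻¹ = gammaU D g := by
    rw [hcomm]
    group
  rw [cU_conj_gammaU, gammaU_eq_iff D hn] at h1
  obtain ⟨s, hs⟩ := exists_scalarGL h1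
  rw [Subgroup.coe_mul, Subgroup.coe_inv, Subgroup.coe_mul, Subgroup.coe_mul, Subgroup.coe_inv,
    barHS_coe] at hs
  have hs' : (k : GL (Fin n) F) * (a * (barGL D a)⁻¹) * (barGL D (k : GL (Fin n) F))⁻¹
      = scalarGL s⁻¹ * (a * (barGL D a)⁻¹) := by
    have e1 : (a * (barGL D a)⁻¹ : GL (Fin n) F)
        = ((k : GL (Fin n) F) * (a * (barGL D a)⁻¹) * (barGL D (k : GL (Fin n) F))⁻¹)
          * scalarGL s := by
      rw [← hs]
      show _ = _ * ((_)⁻¹ * (a * (barGL D a)⁻¹))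
      rw [mul_inv_cancel_left]
    conv_rhs => rw [e1]
    rw [scalarGL_inv, ← scalarGL_comm, inv_mul_cancel_left]
  obtain ⟨m, ν, c, hym, hm⟩ := descend_conj E a a ε ε A₀ A₀ hA hA k k.2 s⁻¹ hs'
  have hxe : (x : GL (Fin n) F) = xOf E a ν m := by
    unfold xOf
    calc (x : GL (Fin n) F) = (k : GL (Fin n) F) := rfl
      _ = a * (a⁻¹ * (k : GL (Fin n) F) * a) * a⁻¹ := by group
      _ = _ := by rw [hym]
  refine ⟨m, ν, c, hxe, hm, ?_⟩
  rw [← isUG_xOf_iff E a ε A₀ hA m c hm ν, ← hxe]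
  exact isUG_of_mem_GU D x.2

include hn in
/-- backward: such matrices are unitary and centralize `γ` -/
theorem mem_CsubU_of (a : GL (Fin n) F) (ε : Fˣ)
    (hg : a * (barGL E.toUData a)⁻¹ ∈ HS E.toUData n)
    (hA : gT a * barGL E.toUData a = scalarGL ε * jGL E A₀)
    (m : GL (Fin n) F₀) (ν : Fˣ) (c : F₀ˣ) (hm : gT m * A₀ * m = scalarGL c * A₀)
    (hν : ν * Units.map (E.bar : F →* F) ν * Units.map (E.j : F₀ →* F) c = 1) :
    ∃ x : ↥(Cfsg.GU n F q), (x : GL (Fin n) F) = xOf E a ν m ∧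
      x ∈ CsubU E.toUData (gammaU E.toUData ⟨a * (barGL E.toUData a)⁻¹, hg⟩) := by
  have : NeZero n := ⟨by omega⟩
  set D := E.toUData with hD
  set g : ↥(HS D n) := ⟨a * (barGL D a)⁻¹, hg⟩ with hgdef
  have hU : IsUG D (xOf E a ν m) := (isUG_xOf_iff E a ε A₀ hA m c hm ν).2 hν
  refine ⟨⟨xOf E a ν m, mem_GU_of_isUG D hU⟩, rfl, ?_⟩
  unfold CsubU
  rw [Subgroup.mem_comap, Subgroup.mem_centralizer_singleton_iff, cGU_apply]
  obtain ⟨hk₀, hkk⟩ := ascend_conj E a a ε ε A₀ A₀ hA hA m c hm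
  set k₀ : ↥(HS D n) := ⟨a * jGL E m * a⁻¹, hk₀⟩ with hk₀def
  have hxk : (⟨xOf E a ν m, GU_le_HS D (mem_GU_of_isUG D hU)⟩ : ↥(HS D n))
      = scalarHS D ν * k₀ := by
    apply Subtype.ext
    rw [Subgroup.coe_mul]
    exact xOf_eq E a ν m
  rw [hxk, map_mul, cU_scalarHS, one_mul]
  have h1 : cU D k₀ * gammaU D g * (cU D k₀)⁻¹ = gammaU D g := by
    rw [cU_conj_gammaU]
    congr 1
    apply Subtype.ext
    rw [Subgroup.coe_mul, Subgroup.coe_mul, Subgroup.coe_inv, barHS_coe]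
    exact hkk
  calc cU D k₀ * gammaU D g = (cU D k₀ * gammaU D g * (cU D k₀)⁻¹) * cU D k₀ := by group
    _ = _ := by rw [h1]

end Cfsg.Agent.Helper7.GraphSplit
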