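import Cfsg.Agent.Helper7.GraphSplitU2

/-!
# Class splitting for `PSU_n`, part 3 (helper7)

The group of determinants of the unitary matrices centralizing a graph automorphism: odd
dimension, characteristic two, and symplectic type.
-/

set_option autoImplicit false
set_option linter.unusedSectionVars false

namespace Cfsg.Agent.Helper7.GraphSplit

open scoped Matrix
open Cfsg.Agent.Helper7.GraphPSL (gT gT_coe gT_mul gT_inv gT_gT)
open Cfsg.Agent.Helper7.GraphPSU

variable {F : Type*} [Field F] {n q : ℕ} {F₀ : Type*} [Field F₀] (E : UDesc F q F₀)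

/-- the data `(a, ε)` of a relation -/
structure RelData (A₀ : GL (Fin n) F₀) where
  a : GL (Fin n) F
  ε : Fˣ
  hg : a * (barGL E.toUData a)⁻¹ ∈ HS E.toUData n
  hA : gT a * barGL E.toUData a = scalarGL ε * jGL E A₀

variable {E}

/-- the graph automorphism of a relation datum -/
noncomputable def RelData.γ {A₀ : GL (Fin n) F₀} (R : RelData E A₀) : MulAut (Cfsg.PSU n F q) :=
  gammaU E.toUData ⟨R.a * (barGL E.toUData R.a)⁻¹, R.hg⟩

theorem exists_relData {γ : MulAut (Cfsg.PSU n F q)} {A₀ : GL (Fin n) F₀} (hr : Rel E γ A₀) :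
    ∃ R : RelData E A₀, γ = R.γ := by
  obtain ⟨a, ε, hg, h1, hA⟩ := hr
  exact ⟨⟨a, ε, hg, hA⟩, h1⟩

/-- the group of determinants -/
noncomputable def detSimU {A₀ : GL (Fin n) F₀} (R : RelData E A₀) : Subgroup ↥(U1 F q) :=
  (CsubU E.toUData R.γ).map (detU E.toUData)

variable [Finite F]

theorem mem_detSimU_iff (hn : 3 ≤ n) {A₀ : GL (Fin n) F₀} (R : RelData E A₀) (u : ↥(U1 F q)) :
    u ∈ detSimU R ↔ ∃ (m : GL (Fin n) F₀) (ν : Fˣ) (c : F₀ˣ),
      gT m * A₀ * m = scalarGL c * A₀ ∧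
      ν * Units.map (E.bar : F →* F) ν * Units.map (E.j : F₀ →* F) c = 1 ∧
      (u : Fˣ) = ν ^ n * Units.map (E.j : F₀ →* F) (Matrix.GeneralLinearGroup.det m) := by
  unfold detSimU RelData.γ
  constructor
  · rintro ⟨x, hx, rfl⟩
    obtain ⟨m, ν, c, hxe, hm, hν⟩ := exists_of_mem_CsubU E hn R.a R.ε R.hg R.hA x hx
    refine ⟨m, ν, c, hm, hν, ?_⟩
    rw [detU_coe, hxe, det_xOf]
  · rintro ⟨m, ν, c, hm, hν, hu⟩
    obtain ⟨x, hx1, hx2⟩ := mem_CsubU_of E hn R.a R.ε R.hg R.hA m ν c hm hν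
    refine ⟨x, hx2, ?_⟩
    apply Subtype.ext
    rw [detU_coe, hx1, det_xOf, hu]

theorem sim_matrix_of_GL {K : Type*} [Field K] {A m : GL (Fin n) K} {c : Kˣ}
    (h : gT m * A * m = scalarGL c * A) :
    (m : Matrix (Fin n) (Fin n) K)ᵀ * (A : Matrix (Fin n) (Fin n) K)
      * (m : Matrix (Fin n) (Fin n) K) = (c : K) • (A : Matrix (Fin n) (Fin n) K) := by
  have := congrArg Units.val h
  rwa [Units.val_mul, Units.val_mul, Units.val_mul, gT_coe, scalarGL_coe, Matrix.smul_mul,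
    Matrix.one_mul] at this

theorem bar_bar_units (ν : Fˣ) :
    Units.map (E.bar : F →* F) (Units.map (E.bar : F →* F) ν) = ν := by
  apply Units.ext
  rw [Units.coe_map, Units.coe_map]
  exact E.bar_bar _

theorem bar_j_units (c : F₀ˣ) :
    Units.map (E.bar : F →* F) (Units.map (E.j : F₀ →* F) c) = Units.map (E.j : F₀ →* F) c := by
  apply Units.ext
  rw [Units.coe_map, Units.coe_map]
  exact E.bar_j _

theorem mem_U1_of_units {z : Fˣ} (h : z * Units.map (E.bar : F →* F) z = 1) : z ∈ U1 F q := by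
  rw [mem_U1_iff' E.toUData]
  have := congrArg Units.val h
  rwa [Units.val_mul, Units.coe_map, Units.val_one] at this

theorem units_of_mem_U1 {z : Fˣ} (h : z ∈ U1 F q) : z * Units.map (E.bar : F →* F) z = 1 := by
  apply Units.ext
  rw [Units.val_mul, Units.coe_map, Units.val_one]
  exact (mem_U1_iff' E.toUData z).1 h

/-- scalars: every `n`-th power is a determinant -/
theorem pow_mem_detSimU (hn : 3 ≤ n) {A₀ : GL (Fin n) F₀} (R : RelData E A₀) (w : ↥(U1 F q)) :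
    w ^ n ∈ detSimU R := by
  rw [mem_detSimU_iff hn]
  refine ⟨1, (w : Fˣ), 1, ?_, ?_, ?_⟩
  · have : gT (1 : GL (Fin n) F₀) = 1 := by
      apply Units.ext
      rw [gT_coe, Units.val_one, Matrix.transpose_one]
    rw [this, one_mul, mul_one, scalarGL_one, one_mul]
  · rw [map_one, mul_one]
    exact units_of_mem_U1 w.2
  · rw [map_one, map_one, mul_one, Subgroup.coe_pow]

/-- the case where multiplier and determinant come from a common `μ` -/
theorem mem_range_of_root (hn : 3 ≤ n) {A₀ : GL (Fin n) F₀} (R : RelData E A₀)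
    (hroot : ∀ (m : GL (Fin n) F₀) (c : F₀ˣ), gT m * A₀ * m = scalarGL c * A₀ →
      ∃ μ : F₀ˣ, c = μ ^ 2 ∧ Matrix.GeneralLinearGroup.det m = μ ^ n) :
    detSimU R = (powMonoidHom n : ↥(U1 F q) →* ↥(U1 F q)).range := by
  ext u
  constructor
  · intro hu
    obtain ⟨m, ν, c, hm, hν, hu'⟩ := (mem_detSimU_iff hn R u).1 hu
    obtain ⟨μ, hμ, hμ'⟩ := hroot m c hm
    set z : Fˣ := ν * Units.map (E.j : F₀ →* F) μ with hz
    have hzU : z ∈ U1 F q := by
      apply mem_U1_of_units (E := E)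
      rw [hz, map_mul, bar_j_units]
      calc ν * Units.map (E.j : F₀ →* F) μ
            * (Units.map (E.bar : F →* F) ν * Units.map (E.j : F₀ →* F) μ)
          = ν * Units.map (E.bar : F →* F) ν * (Units.map (E.j : F₀ →* F) μ) ^ 2 := by
            rw [pow_two]
            simp only [mul_assoc, mul_comm, mul_left_comm]
        _ = 1 := by rw [← map_pow, ← hμ, hν]
    refine ⟨⟨z, hzU⟩, ?_⟩
    apply Subtype.ext
    rw [powMonoidHom_apply, Subgroup.coe_pow, hu', hμ', map_pow]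
    show z ^ n = _
    rw [hz, mul_pow]
  · rintro ⟨w, rfl⟩
    exact pow_mem_detSimU hn R w

/-- odd dimension -/
theorem detSimU_odd {k : ℕ} (hk : 1 ≤ k) {A₀ : GL (Fin (2 * k + 1)) F₀} (R : RelData E A₀) :
    detSimU R = (powMonoidHom (2 * k + 1) : ↥(U1 F q) →* ↥(U1 F q)).range := by
  apply mem_range_of_root (by omega)
  intro m c hm
  obtain ⟨μ, hμ, hμ'⟩ := sim_odd c.ne_zero (det_A_ne_zero A₀) (sim_matrix_of_GL hm)
  have hμ0 : μ ≠ 0 := by
    rintro rfl
    rw [zero_pow two_ne_zero] at hμ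
    exact c.ne_zero hμ
  refine ⟨Units.mk0 μ hμ0, ?_, ?_⟩
  · apply Units.ext
    rw [hμ, Units.val_pow_eq_pow_val, Units.val_mk0]
  · apply Units.ext
    rw [Units.val_pow_eq_pow_val, Units.val_mk0, ← hμ']
    rfl

/-- even dimension, characteristic two -/
theorem detSimU_even_char_two [Fintype F₀] [CharP F₀ 2] {k : ℕ} (hk : 2 ≤ k)
    {A₀ : GL (Fin (2 * k)) F₀} (R : RelData E A₀) :
    detSimU R = (powMonoidHom (2 * k) : ↥(U1 F q) →* ↥(U1 F q)).range := by
  apply mem_range_of_root (by omega)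
  intro m c hm
  obtain ⟨μ, hμ, hμ'⟩ := sim_even_char_two (det_A_ne_zero A₀) (sim_matrix_of_GL hm)
  have hμ0 : μ ≠ 0 := by
    rintro rfl
    rw [zero_pow two_ne_zero] at hμ
    exact c.ne_zero hμ
  refine ⟨Units.mk0 μ hμ0, ?_, ?_⟩
  · apply Units.ext
    rw [hμ, Units.val_pow_eq_pow_val, Units.val_mk0]
  · apply Units.ext
    rw [Units.val_pow_eq_pow_val, Units.val_mk0, ← hμ']
    rfl

/-- the determinant in terms of `ν / ν̄` -/
theorem det_formula {k : ℕ} {ν : Fˣ} {c s : F₀ˣ}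
    (hν : ν * Units.map (E.bar : F →* F) ν * Units.map (E.j : F₀ →* F) c = 1) :
    ν ^ (2 * k) * Units.map (E.j : F₀ →* F) (s * c ^ k)
      = Units.map (E.j : F₀ →* F) s * (ν * (Units.map (E.bar : F →* F) ν)⁻¹) ^ k := by
  have hc : Units.map (E.j : F₀ →* F) c = (ν * Units.map (E.bar : F →* F) ν)⁻¹ :=
    eq_inv_of_mul_eq_one_right hν
  rw [map_mul, map_pow, hc, pow_mul, pow_two]
  have h1 : ν * ν * (ν * Units.map (E.bar : F →* F) ν)⁻¹
      = ν * (Units.map (E.bar : F →* F) ν)⁻¹ := by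
    rw [mul_inv, mul_assoc, mul_inv_cancel_left]
  rw [← h1, mul_pow (ν * ν)]
  simp only [mul_assoc, mul_comm]

/-- Hilbert 90 in the form needed: an element of norm one is `ν / ν̄`, and `(ν ν̄)⁻¹` comes from
`F₀` -/
theorem exists_nu (w : ↥(U1 F q)) :
    ∃ (ν : Fˣ) (c : F₀ˣ), ν * (Units.map (E.bar : F →* F) ν)⁻¹ = (w : Fˣ) ∧
      ν * Units.map (E.bar : F →* F) ν * Units.map (E.j : F₀ →* F) c = 1 := by
  obtain ⟨ν₀, hν0, hν⟩ := hilbert90_scalar E.toUData ((w : Fˣ) : F)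
    ((mem_U1_iff' E.toUData _).1 w.2)
  set ν : Fˣ := Units.mk0 ν₀ hν0 with hνdef
  have hfix : E.bar (ν₀ * E.bar ν₀) = ν₀ * E.bar ν₀ := by
    rw [map_mul, E.bar_bar, mul_comm]
  obtain ⟨x₀, hx₀⟩ := E.exists_j _ hfix
  have hbar0 : E.bar ν₀ ≠ 0 := by
    intro h
    apply hν0
    have := congrArg E.bar h
    rwa [E.bar_bar, map_zero] at this
  have hx₀0 : x₀ ≠ 0 := by
    rintro rfl
    rw [map_zero] at hx₀
    exact mul_ne_zero hν0 hbar0 hx₀.symm
  refine ⟨ν, (Units.mk0 x₀ hx₀0)⁻¹, ?_, ?_⟩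
  · apply Units.ext
    rw [Units.val_mul, Units.val_inv_eq_inv_val, Units.coe_map, hνdef, Units.val_mk0]
    show ν₀ * (E.bar ν₀)⁻¹ = _
    rw [mul_inv_eq_iff_eq_mul₀ hbar0]
    exact hν
  · rw [map_inv]
    apply mul_inv_eq_one.2
    apply Units.ext
    rw [Units.val_mul, Units.coe_map, Units.coe_map, hνdef, Units.val_mk0, Units.val_mk0]
    exact hx₀.symm

/-- symplectic type -/
theorem detSimU_skew (h2 : (2 : F₀) ≠ 0) {k : ℕ} (hk : 2 ≤ k) {A₀ : GL (Fin (2 * k)) F₀}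
    (hA₀ : (A₀ : Matrix (Fin (2 * k)) (Fin (2 * k)) F₀)ᵀ
      = -(A₀ : Matrix (Fin (2 * k)) (Fin (2 * k)) F₀)) (R : RelData E A₀) :
    detSimU R = (powMonoidHom k : ↥(U1 F q) →* ↥(U1 F q)).range := by
  have hn : 3 ≤ 2 * k := by omega
  ext u
  constructor
  · intro hu
    obtain ⟨m, ν, c, hm, hν, hu'⟩ := (mem_detSimU_iff hn R u).1 hu
    have hdet : Matrix.GeneralLinearGroup.det m = 1 * c ^ k := by
      apply Units.ext
      rw [one_mul, Units.val_pow_eq_pow_val]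
      exact sim_skew_det h2 A₀ hA₀ c.ne_zero (sim_matrix_of_GL hm)
    have hz : ν * (Units.map (E.bar : F →* F) ν)⁻¹ ∈ U1 F q := by
      apply mem_U1_of_units (E := E)
      rw [map_mul, map_inv, bar_bar_units]
      simp only [mul_assoc, mul_comm, mul_left_comm, mul_inv_cancel_left, mul_inv_cancel]
    refine ⟨⟨_, hz⟩, ?_⟩
    apply Subtype.ext
    rw [powMonoidHom_apply, Subgroup.coe_pow, hu', hdet, det_formula hν, map_one, one_mul]
  · rintro ⟨w, rfl⟩
    obtain ⟨ν, c, hνw, hν⟩ := exists_nu (E := E) w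
    obtain ⟨M, M', h1, h1', hM⟩ := exists_sim_of_skew h2 A₀ hA₀ (c : F₀) c.ne_zero
    have hne : NeZero (2 * k) := ⟨by omega⟩
    have hm := mem_simS_of_matrix A₀ M M' h1 h1' c hM
    rw [mem_detSimU_iff hn]
    refine ⟨⟨M, M', h1, h1'⟩, ν, c, hm, hν, ?_⟩
    have hdet : Matrix.GeneralLinearGroup.det (⟨M, M', h1, h1'⟩ : GL (Fin (2 * k)) F₀)
        = 1 * c ^ k := by
      apply Units.ext
      rw [one_mul, Units.val_pow_eq_pow_val]
      exact sim_skew_det h2 A₀ hA₀ c.ne_zero hM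
    rw [hdet, det_formula hν, map_one, one_mul, hνw, powMonoidHom_apply, Subgroup.coe_pow]

end Cfsg.Agent.Helper7.GraphSplit
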