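import Cfsg.Agent.Helper7.GraphSplitU4

/-!
# Class splitting for `PSU_n`, part 5 (helper7)

The class-splitting counts for `PSU_n(q)`.
-/

set_option autoImplicit false
set_option linter.unusedSectionVars false

namespace Cfsg.Agent.Helper7.GraphSplit

open scoped Matrix
open Cfsg.Agent.Helper7.GraphPSU

variable {F : Type*} [Field F] [Fintype F] {q : ℕ} {F₀ : Type*} [Field F₀] [Fintype F₀]
  {E : UDesc F q F₀}

theorem splitClassCount_eq_index_detSimU {n : ℕ} (hn : 3 ≤ n) {A₀ : GL (Fin n) F₀}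
    (R : RelData E A₀) :
    Cfsg.splitClassCount (Cfsg.inndiagPSU n F q) (Cfsg.Inn (Cfsg.PSU n F q)) R.γ
      = (detSimU R).index := by
  have : NeZero n := ⟨by omega⟩
  exact splitClassCount_PSU E.toUData R.γ

theorem countU_odd (hF : Fintype.card F = q ^ 2) {k : ℕ} (hk : 1 ≤ k)
    {A₀ : GL (Fin (2 * k + 1)) F₀} (R : RelData E A₀) :
    Cfsg.splitClassCount (Cfsg.inndiagPSU (2 * k + 1) F q)
        (Cfsg.Inn (Cfsg.PSU (2 * k + 1) F q)) R.γ = Nat.gcd (2 * k + 1) (q + 1) := by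
  rw [splitClassCount_eq_index_detSimU (by omega), detSimU_odd hk, index_pow_range_U1 hF,
    Nat.gcd_comm]

theorem countU_even_char_two (hF : Fintype.card F = q ^ 2) [CharP F₀ 2] {k : ℕ} (hk : 2 ≤ k)
    {A₀ : GL (Fin (2 * k)) F₀} (R : RelData E A₀) :
    Cfsg.splitClassCount (Cfsg.inndiagPSU (2 * k) F q)
        (Cfsg.Inn (Cfsg.PSU (2 * k) F q)) R.γ = Nat.gcd (2 * k) (q + 1) := by
  rw [splitClassCount_eq_index_detSimU (by omega), detSimU_even_char_two hk,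
    index_pow_range_U1 hF, Nat.gcd_comm]

theorem countU_skew (hF : Fintype.card F = q ^ 2) (h2 : (2 : F₀) ≠ 0) {k : ℕ} (hk : 2 ≤ k)
    {A₀ : GL (Fin (2 * k)) F₀}
    (hA₀ : (A₀ : Matrix (Fin (2 * k)) (Fin (2 * k)) F₀)ᵀ
      = -(A₀ : Matrix (Fin (2 * k)) (Fin (2 * k)) F₀)) (R : RelData E A₀) :
    Cfsg.splitClassCount (Cfsg.inndiagPSU (2 * k) F q)
        (Cfsg.Inn (Cfsg.PSU (2 * k) F q)) R.γ = Nat.gcd k (q + 1) := by
  rw [splitClassCount_eq_index_detSimU (by omega), detSimU_skew h2 hk hA₀,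
    index_pow_range_U1 hF, Nat.gcd_comm]

theorem countU_symm (hF : Fintype.card F = q ^ 2) (hodd : Odd q) (h2 : (2 : F₀) ≠ 0) {k : ℕ}
    (hk : 2 ≤ k) {A₀ : GL (Fin (2 * k)) F₀}
    (hA₀ : (A₀ : Matrix (Fin (2 * k)) (Fin (2 * k)) F₀)ᵀ
      = (A₀ : Matrix (Fin (2 * k)) (Fin (2 * k)) F₀)) (R : RelData E A₀) :
    Cfsg.splitClassCount (Cfsg.inndiagPSU (2 * k) F q)
        (Cfsg.Inn (Cfsg.PSU (2 * k) F q)) R.γ = Nat.gcd (2 * k) (q + 1) / 2 := by
  rw [splitClassCount_eq_index_detSimU (by omega), detSimU_symm hF hodd h2 hk hA₀,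
    index_pow_range_U1 hF]
  have h2t : 2 * ((q + 1) / 2) = q + 1 := by
    obtain ⟨t, rfl⟩ := hodd
    omega
  set t := (q + 1) / 2 with ht
  rw [← h2t, Nat.gcd_mul_left, Nat.mul_div_cancel_left _ (by norm_num : 0 < 2)]
  exact Nat.gcd_eq_right (dvd_trans (Nat.gcd_dvd_right k t) (dvd_mul_left t 2))

end Cfsg.Agent.Helper7.GraphSplit
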