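import Mathlib
import Cfsg.Agent.Helper25.HT3371Defs

/-!
# S3371 piece DQD: `dq_count`
-/

set_option autoImplicit false

namespace Cfsg.Agent.HT3371

namespace DQD

theorem arith {Q n c : ℕ} (hc : c = Q ^ 2) (h2 : 2 ≤ c) (h : c - 1 = n * (Q - 1)) :
    Q + 1 = n := by
  have hQ2 : 2 ≤ Q := by
    by_contra hlt
    have : Q ≤ 1 := by omega
    have : Q ^ 2 ≤ 1 ^ 2 := Nat.pow_le_pow_left this 2
    omega
  obtain ⟨r, hr⟩ : ∃ r, Q = r + 1 := ⟨Q - 1, by omega⟩
  rw [hc, hr] at h
  have e : (r + 1) ^ 2 = r * (r + 2) + 1 := by ring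
  rw [e, Nat.add_sub_cancel, Nat.add_sub_cancel, mul_comm n r] at h
  have hr0 : 0 < r := by omega
  have := Nat.eq_of_mul_eq_mul_left hr0 h
  omega

end DQD

open DQD in
theorem dq_count {q : ℕ} {V : Type*} [AddCommGroup V] [Module (ZMod q) V] [Finite V]
    [Nontrivial V] {G : Type*} [Group G] [Finite G] (ρ : G →* (V ≃ₗ[ZMod q] V)) (I : Set G)
    (hstab : ∀ v : V, v ≠ 0 → ∃ t : G, t ∈ I ∧ ρ t v = v ∧ ∀ t' : G, t' ∈ I → ρ t' v = v → t' = t)
    (hsq : ∀ t : G, t ∈ I → Nat.card V = Nat.card (fixSp ρ t) ^ 2) :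
    ∃ Q : ℕ, Nat.card V = Q ^ 2 ∧ Q + 1 = Nat.card I := by
  classical
  have _iV : Fintype V := Fintype.ofFinite V
  have _iG : Fintype G := Fintype.ofFinite G
  obtain ⟨v₀, hv₀⟩ := exists_ne (0 : V)
  obtain ⟨t₀, ht₀I, -, -⟩ := hstab v₀ hv₀
  obtain ⟨Q, hQdef⟩ : ∃ Q, Q = Nat.card (fixSp ρ t₀) := ⟨_, rfl⟩
  have hVQ : Nat.card V = Q ^ 2 := by rw [hQdef]; exact hsq t₀ ht₀I
  have hQ : ∀ t ∈ I, Nat.card (fixSp ρ t) = Q := by
    intro t ht
    have h1 := hsq t ht
    rw [hVQ] at h1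
    exact (Nat.pow_left_injective (n := 2) (by norm_num) h1).symm
  refine ⟨Q, hVQ, ?_⟩
  choose! f hf using hstab
  have hfix_card : ∀ b ∈ I,
      (Finset.univ.filter (fun v : V => v ≠ 0 ∧ ρ b v = v)).card = Q - 1 := by
    intro b hb
    have h1 : Finset.univ.filter (fun v : V => v ≠ 0 ∧ ρ b v = v) =
        (Finset.univ.filter (fun v : V => ρ b v = v)).erase 0 := by
      ext v
      simp only [Finset.mem_filter, Finset.mem_univ, true_and, Finset.mem_erase]
    have h0 : (0 : V) ∈ Finset.univ.filter (fun v : V => ρ b v = v) := by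
      simp
    have h2 : (Finset.univ.filter (fun v : V => ρ b v = v)).card = Q := by
      rw [← hQ b hb]
      have : Nat.card (fixSp ρ b) = Nat.card {v : V // ρ b v = v} := rfl
      rw [this, Nat.card_eq_fintype_card, Fintype.card_subtype]
    rw [h1, Finset.card_erase_of_mem h0, h2]
  have hST : ∀ v ∈ Finset.univ.filter (fun v : V => v ≠ 0),
      f v ∈ Finset.univ.filter (fun t : G => t ∈ I) := by
    intro v hv
    have hv' : v ≠ 0 := (Finset.mem_filter.mp hv).2
    exact Finset.mem_filter.mpr ⟨Finset.mem_univ _, (hf v hv').1⟩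
  have hcount := Finset.card_eq_sum_card_fiberwise hST
  have hfiber : ∀ b ∈ Finset.univ.filter (fun t : G => t ∈ I),
      ((Finset.univ.filter (fun v : V => v ≠ 0)).filter (fun v => f v = b)).card = Q - 1 := by
    intro b hb
    have hbI : b ∈ I := (Finset.mem_filter.mp hb).2
    rw [← hfix_card b hbI]
    congr 1
    ext v
    simp only [Finset.mem_filter, Finset.mem_univ, true_and]
    constructor
    · rintro ⟨hv, hfb⟩
      refine ⟨hv, ?_⟩
      rw [← hfb]
      exact (hf v hv).2.1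
    · rintro ⟨hv, hbv⟩
      exact ⟨hv, ((hf v hv).2.2 b hbI hbv).symm⟩
  rw [Finset.sum_congr rfl hfiber, Finset.sum_const, smul_eq_mul] at hcount
  have hS : (Finset.univ.filter (fun v : V => v ≠ 0)).card = Nat.card V - 1 := by
    rw [Finset.filter_ne' Finset.univ (0 : V), Finset.card_erase_of_mem (Finset.mem_univ _),
      Finset.card_univ, Nat.card_eq_fintype_card]
  have hT : (Finset.univ.filter (fun t : G => t ∈ I)).card = Nat.card I := by
    have : Nat.card I = Nat.card {t : G // t ∈ I} := rfl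
    rw [this, Nat.card_eq_fintype_card, Fintype.card_subtype]
  rw [hS, hT] at hcount
  have h2 : 2 ≤ Nat.card V := by
    rw [Nat.card_eq_fintype_card]
    exact Fintype.one_lt_card
  exact arith hVQ h2 hcount

end Cfsg.Agent.HT3371
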