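import Mathlib
import Cfsg.Agent.Helper25.HT3371Defs

/-!
# S3371 piece ODDC: `sum_pow_eq_zero_of_mem_fixSp`
-/

set_option autoImplicit false

namespace Cfsg.Agent.HT3371

namespace ODDC

/-- reindexing a sum over `range p` by multiplication with `d` prime to `p` -/
theorem sum_mul_mod {M : Type*} [AddCommMonoid M] (p d : ℕ) (hp : p.Prime) (hd : ¬ p ∣ d)
    (f : ℕ → M) :
    ∑ i ∈ Finset.range p, f ((d * i) % p) = ∑ t ∈ Finset.range p, f t := by
  have hcop : Nat.gcd p d = 1 := (Nat.Prime.coprime_iff_not_dvd hp).mpr hd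
  have hinj : Set.InjOn (fun i => (d * i) % p) (Finset.range p : Set ℕ) := by
    intro i hi i' hi' h
    have hi1 : i < p := Finset.mem_range.mp hi
    have hi2 : i' < p := Finset.mem_range.mp hi'
    have h1 : d * i ≡ d * i' [MOD p] := h
    have h2 : i ≡ i' [MOD p] := Nat.ModEq.cancel_left_of_coprime hcop h1
    exact Nat.ModEq.eq_of_lt_of_lt h2 hi1 hi2
  have himg : (Finset.range p).image (fun i => (d * i) % p) = Finset.range p := by
    apply Finset.eq_of_subset_of_card_le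
    · intro t ht
      obtain ⟨i, _, rfl⟩ := Finset.mem_image.mp ht
      exact Finset.mem_range.mpr (Nat.mod_lt _ hp.pos)
    · rw [Finset.card_image_of_injOn hinj]
  conv_rhs => rw [← himg]
  rw [Finset.sum_image hinj]

end ODDC

open ODDC in
theorem sum_pow_eq_zero_of_mem_fixSp {q : ℕ} {V : Type*} [AddCommGroup V] [Module (ZMod q) V]
    {G : Type*} [Group G] (ρ : G →* (V ≃ₗ[ZMod q] V)) (p : ℕ) [Fact p.Prime] (z a : G)
    (hc : a * z = z * a) (hz : orderOf z = p) (hsum : SumZ ρ p z) (j l : ℕ) (hj : j < p)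
    (hl : l < p) (hjl : j ≠ l) (u : V) (hu : u ∈ fixSp ρ (a * z ^ j)) :
    ∑ i ∈ Finset.range p, ρ ((a * z ^ l) ^ i) u = 0 := by
  have hpp : p.Prime := Fact.out
  have hzp : z ^ p = 1 := by rw [← hz]; exact pow_orderOf_eq_one z
  obtain ⟨d, hddef⟩ : ∃ d, d = l + p - j := ⟨_, rfl⟩
  have hdp : ¬ p ∣ d := by
    rintro ⟨k, hk⟩
    rcases Nat.lt_or_ge k 2 with h2 | h2
    · interval_cases k
      · omega
      · omega
    · have : p * 2 ≤ p * k := Nat.mul_le_mul_left p h2
      omega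
  have hzl : z ^ l = z ^ j * z ^ d := by
    rw [← pow_add, hddef]
    have : j + (l + p - j) = l + p := by omega
    rw [this, pow_add, hzp, mul_one]
  have hcomm : Commute (a * z ^ j) (z ^ d) :=
    Commute.mul_left (Commute.pow_right hc d) ((Commute.refl z).pow_pow j d)
  have hfix : ∀ i : ℕ, ρ ((a * z ^ j) ^ i) u = u := by
    intro i
    have h1 : a * z ^ j ∈ stab ρ u := hu
    exact Subgroup.pow_mem _ h1 i
  have hterm : ∀ i : ℕ, ρ ((a * z ^ l) ^ i) u = ρ (z ^ ((d * i) % p)) u := by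
    intro i
    have h1 : a * z ^ l = a * z ^ j * z ^ d := by rw [hzl, mul_assoc]
    have h2 : (a * z ^ j * z ^ d) ^ i = (z ^ d) ^ i * (a * z ^ j) ^ i := by
      rw [hcomm.mul_pow]
      exact (hcomm.pow_pow i i).eq
    have h3 : (z ^ d) ^ i = z ^ ((d * i) % p) := by
      rw [← pow_mul, ← hz, pow_mod_orderOf]
    rw [h1, h2, map_mul, LinearEquiv.mul_apply, hfix i, h3]
  rw [Finset.sum_congr rfl (fun i _ => hterm i)]
  rw [sum_mul_mod p d hpp hdp (fun t => ρ (z ^ t) u)]
  exact hsum u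

end Cfsg.Agent.HT3371
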