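import Mathlib
import Cfsg.Agent.Helper25.HT3371Defs

/-!
# S3371 piece ODDE: `stabLe_of_direct`
-/

set_option autoImplicit false

namespace Cfsg.Agent.HT3371

namespace ODDE

variable {q : ℕ} {V : Type*} [AddCommGroup V] [Module (ZMod q) V] {G : Type*} [Group G]

theorem sum_four {M : Type*} [AddCommGroup M] (p j l J L : ℕ) (hj : j < p) (hl : l < p)
    (hJ : J < p) (hL : L < p) (x y x' y' : M) :
    ∑ m ∈ Finset.range p, ((if m = j then x else 0) + (if m = l then y else 0)
      - (if m = J then x' else 0) - (if m = L then y' else 0)) = x + y - x' - y' := by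
  simp only [Finset.sum_add_distrib, Finset.sum_sub_distrib, Finset.sum_ite_eq',
    Finset.mem_range, hj, hl, hJ, hL, if_true]

theorem mod_add_ne {p j c : ℕ} (hj : j < p) (hc : c < p) (hc0 : c ≠ 0) : (j + c) % p ≠ j := by
  intro h
  apply hc0
  have h1 : j ≡ j + c [MOD p] := by
    unfold Nat.ModEq
    rw [Nat.mod_eq_of_lt hj, h]
  have h2 := (Nat.modEq_iff_dvd' (Nat.le_add_right j c)).mp h1
  rw [Nat.add_sub_cancel_left] at h2
  exact Nat.eq_zero_of_dvd_of_lt h2 hc

end ODDE

open ODDE in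
theorem stabLe_of_direct {q : ℕ} {V : Type*} [AddCommGroup V] [Module (ZMod q) V]
    {G : Type*} [Group G] (ρ : G →* (V ≃ₗ[ZMod q] V)) (p : ℕ) [Fact p.Prime] (hp2 : p ≠ 2)
    (z a : G) (hd : OddData p z a) (hdirect : Direct ρ p z a) : StabLe ρ p z a := by
  have hpp : p.Prime := Fact.out
  intro j l hj hl hjl u₁ u₂ hu₁ hu₂ hu₁0 hu₂0 g hg
  obtain ⟨i, hi⟩ := hd.conj g
  obtain ⟨c, hcdef⟩ : ∃ c, c = i % p := ⟨_, rfl⟩
  have hcp : c < p := by rw [hcdef]; exact Nat.mod_lt _ hpp.pos
  obtain ⟨J, hJdef⟩ : ∃ J, J = (j + c) % p := ⟨_, rfl⟩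
  obtain ⟨L, hLdef⟩ : ∃ L, L = (l + c) % p := ⟨_, rfl⟩
  have hJ : J < p := by rw [hJdef]; exact Nat.mod_lt _ hpp.pos
  have hL : L < p := by rw [hLdef]; exact Nat.mod_lt _ hpp.pos
  -- conjugation of the block elements
  have hzpow : ∀ k : ℕ, z ^ ((k + c) % p) = z ^ (i + k) := by
    intro k
    rw [hcdef, ← hd.z_ord, pow_mod_orderOf, pow_add, pow_mod_orderOf, ← pow_add, add_comm]
  have hconj : ∀ k : ℕ, g * (a * z ^ k) * g⁻¹ = a * z ^ ((k + c) % p) := by
    intro k
    have hzc : g * z ^ k * g⁻¹ = z ^ k := by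
      have hc : Commute g (z ^ k) := Commute.pow_right (hd.z_comm g) k
      rw [hc.eq, mul_assoc, mul_inv_cancel, mul_one]
    have hm : g * (a * z ^ k) * g⁻¹ = (g * a * g⁻¹) * (g * z ^ k * g⁻¹) := by
      simp only [mul_assoc, inv_mul_cancel_left]
    rw [hm, hi, hzc, mul_assoc, ← pow_add, hzpow]
  have hgu₁ : ρ g u₁ ∈ fixSp ρ (a * z ^ J) := by
    have := map_mem_fixSp ρ g (a * z ^ j) u₁ hu₁
    rwa [hconj j, ← hJdef] at this
  have hgu₂ : ρ g u₂ ∈ fixSp ρ (a * z ^ L) := by
    have := map_mem_fixSp ρ g (a * z ^ l) u₂ hu₂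
    rwa [hconj l, ← hLdef] at this
  have hsum0 : u₁ + u₂ - ρ g u₁ - ρ g u₂ = 0 := by
    have h1 : ρ g (u₁ + u₂) = u₁ + u₂ := hg
    rw [map_add] at h1
    rw [sub_sub, h1, sub_self]
  -- the four-term function
  have hf : ∀ m, m < p →
      (fun m => (if m = j then u₁ else 0) + (if m = l then u₂ else 0)
        - (if m = J then ρ g u₁ else 0) - (if m = L then ρ g u₂ else 0)) m
        ∈ fixSp ρ (a * z ^ m) := by
    intro m _
    show (if m = j then u₁ else 0) + (if m = l then u₂ else 0)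
        - (if m = J then ρ g u₁ else 0) - (if m = L then ρ g u₂ else 0) ∈ fixSp ρ (a * z ^ m)
    refine Submodule.sub_mem _ (Submodule.sub_mem _ (Submodule.add_mem _ ?_ ?_) ?_) ?_
    · by_cases h : m = j
      · rw [if_pos h, h]; exact hu₁
      · rw [if_neg h]; exact Submodule.zero_mem _
    · by_cases h : m = l
      · rw [if_pos h, h]; exact hu₂
      · rw [if_neg h]; exact Submodule.zero_mem _
    · by_cases h : m = J
      · rw [if_pos h, h]; exact hgu₁
      · rw [if_neg h]; exact Submodule.zero_mem _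
    · by_cases h : m = L
      · rw [if_pos h, h]; exact hgu₂
      · rw [if_neg h]; exact Submodule.zero_mem _
  have hs : ∑ m ∈ Finset.range p,
      (fun m => (if m = j then u₁ else 0) + (if m = l then u₂ else 0)
        - (if m = J then ρ g u₁ else 0) - (if m = L then ρ g u₂ else 0)) m = 0 := by
    show ∑ m ∈ Finset.range p, ((if m = j then u₁ else 0) + (if m = l then u₂ else 0)
        - (if m = J then ρ g u₁ else 0) - (if m = L then ρ g u₂ else 0)) = 0
    rw [sum_four p j l J L hj hl hJ hL, hsum0]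
  have hall := hdirect _ hf hs
  have hfj : (if j = j then u₁ else 0) + (if j = l then u₂ else 0)
        - (if j = J then ρ g u₁ else 0) - (if j = L then ρ g u₂ else 0) = 0 := hall j hj
  have hfl : (if l = j then u₁ else 0) + (if l = l then u₂ else 0)
        - (if l = J then ρ g u₁ else 0) - (if l = L then ρ g u₂ else 0) = 0 := hall l hl
  rw [if_pos rfl, if_neg hjl, add_zero] at hfj
  rw [if_neg (Ne.symm hjl), if_pos rfl, zero_add] at hfl
  by_cases hc0 : c = 0
  · -- c = 0: J = j, L = l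
    have hJj : J = j := by rw [hJdef, hc0, add_zero, Nat.mod_eq_of_lt hj]
    have hLl : L = l := by rw [hLdef, hc0, add_zero, Nat.mod_eq_of_lt hl]
    rw [hJj, hLl] at hfj hfl
    rw [if_pos rfl, if_neg hjl, sub_zero] at hfj
    rw [if_neg (Ne.symm hjl), sub_zero, if_pos rfl] at hfl
    refine ⟨?_, ?_⟩
    · exact (sub_eq_zero.mp hfj).symm
    · exact (sub_eq_zero.mp hfl).symm
  · exfalso
    have hJj : j ≠ J := by rw [hJdef]; exact (mod_add_ne hj hcp hc0).symm
    have hLl : l ≠ L := by rw [hLdef]; exact (mod_add_ne hl hcp hc0).symm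
    rw [if_neg hJj, sub_zero] at hfj
    rw [if_neg hLl, sub_zero] at hfl
    have hjL : j = L := by
      by_contra h
      rw [if_neg h, sub_zero] at hfj
      exact hu₁0 hfj
    have hlJ : l = J := by
      by_contra h
      rw [if_neg h, sub_zero] at hfl
      exact hu₂0 hfl
    have e1 : (j : ZMod p) = (l : ZMod p) + (c : ZMod p) := by
      have := congrArg (Nat.cast : ℕ → ZMod p) hjL
      rwa [hLdef, ZMod.natCast_mod, Nat.cast_add] at this
    have e2 : (l : ZMod p) = (j : ZMod p) + (c : ZMod p) := by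
      have := congrArg (Nat.cast : ℕ → ZMod p) hlJ
      rwa [hJdef, ZMod.natCast_mod, Nat.cast_add] at this
    have e3 : (2 : ZMod p) * (c : ZMod p) = 0 := by linear_combination -e1 - e2
    have h2 : (2 : ZMod p) ≠ 0 := by
      intro h
      have h' : ((2 : ℕ) : ZMod p) = 0 := by exact_mod_cast h
      rw [ZMod.natCast_eq_zero_iff] at h'
      exact hp2 ((Nat.prime_dvd_prime_iff_eq hpp Nat.prime_two).mp h')
    rcases mul_eq_zero.mp e3 with h | h
    · exact h2 h
    · rw [ZMod.natCast_eq_zero_iff] at h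
      exact hc0 (Nat.eq_zero_of_dvd_of_lt h hcp)

end Cfsg.Agent.HT3371
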