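import Mathlib
import Cfsg.Agent.Helper25.HT3371Defs

/-!
# S3371 piece ODDF: `semireg_of_odd`
-/

set_option autoImplicit false

namespace Cfsg.Agent.HT3371

namespace ODDF

variable {q : ℕ} {V : Type*} [AddCommGroup V] [Module (ZMod q) V] {G : Type*} [Group G]

/-- the trace-like sum over the powers of `x` (`x ^ p = 1`) is fixed by `x` -/
theorem sum_pow_mem_fixSp (ρ : G →* (V ≃ₗ[ZMod q] V)) (p : ℕ) (x : G) (hx : x ^ p = 1) (v : V) :
    ∑ i ∈ Finset.range p, ρ (x ^ i) v ∈ fixSp ρ x := by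
  rw [mem_fixSp, map_sum]
  have h1 : ∀ i, ρ x (ρ (x ^ i) v) = ρ (x ^ (i + 1)) v := by
    intro i
    rw [← LinearEquiv.mul_apply, ← map_mul, ← pow_succ']
  simp only [h1]
  have h2 := Finset.sum_range_succ' (fun i => ρ (x ^ i) v) p
  have h3 := Finset.sum_range_succ (fun i => ρ (x ^ i) v) p
  rw [h3] at h2
  simp only [hx, pow_zero] at h2
  exact (add_right_cancel h2).symm

theorem sum_two {M : Type*} [AddCommMonoid M] (p j l : ℕ) (hj : j < p) (hl : l < p)
    (hjl : j ≠ l) (x y : M) :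
    ∑ m ∈ Finset.range p, (if m = j then x else if m = l then y else 0) = x + y := by
  have h : ∀ m, (if m = j then x else if m = l then y else 0) =
      (if m = j then x else 0) + (if m = l then y else 0) := by
    intro m
    by_cases h1 : m = j
    · have h2 : m ≠ l := fun h => hjl (h1.symm.trans h)
      rw [if_pos h1, if_pos h1, if_neg h2, add_zero]
    · rw [if_neg h1, if_neg h1, zero_add]
  simp only [h, Finset.sum_add_distrib, Finset.sum_ite_eq', Finset.mem_range, hj, hl, if_true]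

end ODDF

open ODDF in
theorem semireg_of_odd {q : ℕ} [Fact q.Prime] {V : Type*} [AddCommGroup V] [Module (ZMod q) V]
    [Nontrivial V] {G : Type*} [Group G] [Finite G] (ρ : G →* (V ≃ₗ[ZMod q] V))
    (hinj : Function.Injective ρ) (hEq : EqStab ρ) (p : ℕ) [Fact p.Prime] (hpq : p ≠ q)
    (z a : G) (hd : OddData p z a) (h₀ : G) (i₀ : ℕ) (hi₀ : ¬ p ∣ i₀)
    (hh₀ : h₀ * a * h₀⁻¹ = a * z ^ i₀) (hspan : SpanId ρ p z a) (hdirect : Direct ρ p z a)
    (hstab : StabLe ρ p z a) : Semireg ρ := by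
  have hqp : q.Prime := Fact.out
  have hpp : p.Prime := Fact.out
  have hp0 : (p : ZMod q) ≠ 0 := by
    intro h
    rw [ZMod.natCast_eq_zero_iff] at h
    exact hpq ((Nat.prime_dvd_prime_iff_eq hqp hpp).mp h).symm
  have hzp : z ^ p = 1 := by rw [← hd.z_ord]; exact pow_orderOf_eq_one z
  have hap : a ^ p = 1 := by rw [← hd.a_ord]; exact pow_orderOf_eq_one a
  have hxp : ∀ j : ℕ, (a * z ^ j) ^ p = 1 := by
    intro j
    have hc : Commute a (z ^ j) := Commute.pow_right (hd.z_comm a) j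
    rw [hc.mul_pow, hap, one_mul, ← pow_mul, mul_comm, pow_mul, hzp, one_pow]
  have hwmem : ∀ (j : ℕ) (v : V),
      ∑ i ∈ Finset.range p, ρ ((a * z ^ j) ^ i) v ∈ fixSp ρ (a * z ^ j) :=
    fun j v => sum_pow_mem_fixSp ρ p _ (hxp j) v
  obtain ⟨v₀, hv₀⟩ := exists_ne (0 : V)
  have hex : ∃ j, j < p ∧ ∑ i ∈ Finset.range p, ρ ((a * z ^ j) ^ i) v₀ ≠ 0 := by
    by_contra hall
    have hall' : ∀ j, j < p → ∑ i ∈ Finset.range p, ρ ((a * z ^ j) ^ i) v₀ = 0 := by
      intro j hj
      by_contra h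
      exact hall ⟨j, hj, h⟩
    have h1 : ∑ j ∈ Finset.range p, ∑ i ∈ Finset.range p, ρ ((a * z ^ j) ^ i) v₀ = 0 :=
      Finset.sum_eq_zero (fun j hj => hall' j (Finset.mem_range.mp hj))
    rw [hspan v₀] at h1
    rcases smul_eq_zero.mp h1 with h | h
    · exact hp0 h
    · exact hv₀ h
  obtain ⟨j, hj, hw0⟩ := hex
  obtain ⟨w, hwdef⟩ : ∃ w, w = ∑ i ∈ Finset.range p, ρ ((a * z ^ j) ^ i) v₀ := ⟨_, rfl⟩
  rw [← hwdef] at hw0
  have hwU : w ∈ fixSp ρ (a * z ^ j) := by rw [hwdef]; exact hwmem j v₀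
  obtain ⟨j', hj'def⟩ : ∃ j', j' = (j + i₀) % p := ⟨_, rfl⟩
  have hj' : j' < p := by rw [hj'def]; exact Nat.mod_lt _ hpp.pos
  have hjj' : j ≠ j' := by
    intro h
    apply hi₀
    have h1 : j ≡ j + i₀ [MOD p] := by
      unfold Nat.ModEq
      rw [Nat.mod_eq_of_lt hj, ← hj'def]
      exact h
    have h2 := (Nat.modEq_iff_dvd' (Nat.le_add_right j i₀)).mp h1
    rwa [Nat.add_sub_cancel_left] at h2
  have hconj : h₀ * (a * z ^ j) * h₀⁻¹ = a * z ^ j' := by
    have hzc : h₀ * z ^ j * h₀⁻¹ = z ^ j := by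
      have hc : Commute h₀ (z ^ j) := Commute.pow_right (hd.z_comm h₀) j
      rw [hc.eq, mul_assoc, mul_inv_cancel, mul_one]
    have hm : h₀ * (a * z ^ j) * h₀⁻¹ = (h₀ * a * h₀⁻¹) * (h₀ * z ^ j * h₀⁻¹) := by
      simp only [mul_assoc, inv_mul_cancel_left]
    rw [hm, hh₀, hzc, mul_assoc, ← pow_add, add_comm i₀ j, hj'def, ← hd.z_ord, pow_mod_orderOf]
  have hw'U : ρ h₀ w ∈ fixSp ρ (a * z ^ j') := by
    have := map_mem_fixSp ρ h₀ (a * z ^ j) w hwU
    rwa [hconj] at this
  have hw'0 : ρ h₀ w ≠ 0 := fun h => hw0 ((ρ h₀).map_eq_zero_iff.mp h)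
  have hpair : ∀ (l m : ℕ), l < p → m < p → l ≠ m → ∀ u u' : V, u ∈ fixSp ρ (a * z ^ l) →
      u' ∈ fixSp ρ (a * z ^ m) → u ≠ 0 → u' ≠ 0 → stab ρ u = stab ρ u' := by
    intro l m hl hm hlm u u' hu hu' hu0 hu'0
    have hne : u + u' ≠ 0 := by
      intro h0
      have hf : ∀ n, n < p →
          (fun n => if n = l then u else if n = m then u' else 0) n ∈ fixSp ρ (a * z ^ n) := by
        intro n _
        show (if n = l then u else if n = m then u' else 0) ∈ fixSp ρ (a * z ^ n)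
        by_cases h1 : n = l
        · rw [if_pos h1, h1]; exact hu
        · rw [if_neg h1]
          by_cases h2 : n = m
          · rw [if_pos h2, h2]; exact hu'
          · rw [if_neg h2]; exact Submodule.zero_mem _
      have hs : ∑ n ∈ Finset.range p,
          (fun n => if n = l then u else if n = m then u' else 0) n = 0 := by
        show ∑ n ∈ Finset.range p, (if n = l then u else if n = m then u' else 0) = 0
        rw [sum_two p l m hl hm hlm u u', h0]
      have h3 := hdirect _ hf hs l hl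
      have h4 : (if l = l then u else if l = m then u' else 0) = u := if_pos rfl
      rw [h4] at h3
      exact hu0 h3
    have h1 := hstab l m hl hm hlm u u' hu hu' hu0 hu'0
    have e1 : stab ρ (u + u') = stab ρ u :=
      Subgroup.eq_of_le_of_card_ge (h1.trans inf_le_left) (le_of_eq (hEq u (u + u') hu0 hne))
    have e2 : stab ρ (u + u') = stab ρ u' :=
      Subgroup.eq_of_le_of_card_ge (h1.trans inf_le_right) (le_of_eq (hEq u' (u + u') hu'0 hne))
    rw [← e1, e2]
  have hS : ∀ (l : ℕ), l < p → ∀ u : V, u ∈ fixSp ρ (a * z ^ l) → u ≠ 0 →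
      stab ρ u = stab ρ w := by
    intro l hl u hu hu0
    by_cases h : l = j
    · have h1 : stab ρ u = stab ρ (ρ h₀ w) :=
        hpair l j' hl hj' (by rw [h]; exact hjj') u _ hu hw'U hu0 hw'0
      have h2 : stab ρ w = stab ρ (ρ h₀ w) := hpair j j' hj hj' hjj' w _ hwU hw'U hw0 hw'0
      rw [h1, h2]
    · exact hpair l j hl hj h u w hu hwU hu0 hw0
  have hSbot : stab ρ w = ⊥ := by
    rw [Subgroup.eq_bot_iff_forall]
    intro g hg
    apply hinj
    rw [map_one]
    apply LinearEquiv.ext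
    intro v
    have hfix : ∀ l ∈ Finset.range p,
        ρ g (∑ i ∈ Finset.range p, ρ ((a * z ^ l) ^ i) v) =
          ∑ i ∈ Finset.range p, ρ ((a * z ^ l) ^ i) v := by
      intro l hl
      have hl' := Finset.mem_range.mp hl
      by_cases h0 : ∑ i ∈ Finset.range p, ρ ((a * z ^ l) ^ i) v = 0
      · rw [h0, map_zero]
      · have := hS l hl' _ (hwmem l v) h0
        rw [← this] at hg
        exact hg
    have h1 : ρ g ((p : ZMod q) • v) = (p : ZMod q) • v := by
      rw [← hspan v, map_sum]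
      exact Finset.sum_congr rfl hfix
    rw [map_smul] at h1
    exact smul_right_injective V hp0 h1
  intro v hv g hg
  have hc : Nat.card (stab ρ v) = 1 := by
    rw [hEq v w hv hw0, hSbot]
    exact Subgroup.card_bot
  have hb : stab ρ v = ⊥ := Subgroup.card_eq_one.mp hc
  have hg' : g ∈ stab ρ v := hg
  rw [hb] at hg'
  exact Subgroup.mem_bot.mp hg'

end Cfsg.Agent.HT3371
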