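import Mathlib
import Cfsg.Agent.Helper25.HT3371Defs
import Cfsg.Prelude.Def_CaseTheorems

/-!
# S3371 piece QDH: `dq_of_quasiDihedral`
-/

set_option autoImplicit false

namespace Cfsg.Agent.HT3371

theorem dq_of_quasiDihedral {G : Type*} [Group G] [Finite G] (h : Cfsg.IsQuasiDihedral G) :
    ∃ (k : ℕ) (x : G), 3 ≤ k ∧ DQ G x k ∧ Nat.card (outInv x) = 2 ^ (k - 1) := by
  classical
  obtain ⟨n, hn, hcard, x, y, hx, hy, hconj⟩ := h
  obtain ⟨P, hPdef⟩ : ∃ P, P = 2 ^ (n - 1) := ⟨_, rfl⟩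
  obtain ⟨r, hrdef⟩ : ∃ r, r = P - 1 := ⟨_, rfl⟩
  have hP4 : 4 ≤ P := by
    rw [hPdef]
    calc 4 = 2 ^ 2 := by norm_num
      _ ≤ 2 ^ (n - 1) := Nat.pow_le_pow_right (by norm_num) (by omega)
  have h2n : 2 ^ n = 2 * P := by
    rw [hPdef, ← pow_succ']
    congr 1
    omega
  have hr1 : r + 1 = P := by omega
  rw [← hPdef, ← hrdef] at hconj
  have hyy : y * y = 1 := by
    rw [← sq, ← hy]
    exact pow_orderOf_eq_one y
  have hyx : ∀ m : ℕ, y * x ^ m = x ^ (r * m) * y := by
    intro m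
    have h1 : y * x ^ m * y⁻¹ = (x ^ r) ^ m := by rw [← hconj, conj_pow]
    calc y * x ^ m = y * x ^ m * y⁻¹ * y := by group
      _ = x ^ (r * m) * y := by rw [h1, ← pow_mul]
  have hynot : y ∉ Subgroup.zpowers x := by
    intro hmem
    have hc : y * x = x * y := by
      obtain ⟨k, hk⟩ := Subgroup.mem_zpowers_iff.mp hmem
      rw [← hk]
      group
    have h1 : x ^ r = x ^ 1 := by
      rw [← hconj, hc, mul_assoc, mul_inv_cancel, mul_one, pow_one]
    have h2 : r ≡ 1 [MOD orderOf x] := pow_eq_pow_iff_modEq.mp h1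
    rw [hx] at h2
    have h3 : r = 1 := Nat.ModEq.eq_of_lt_of_lt h2 (by omega) (by omega)
    omega
  have hH : Nat.card (Subgroup.zpowers x) = 2 ^ n := by rw [Nat.card_zpowers, hx]
  have hidx : (Subgroup.zpowers x).index = 2 := by
    have h1 := Subgroup.card_mul_index (Subgroup.zpowers x)
    rw [hH, hcard, pow_succ] at h1
    exact Nat.eq_of_mul_eq_mul_left (by positivity) h1
  have hout : ∀ t, t ∉ Subgroup.zpowers x → ∃ i : ℕ, i < 2 ^ n ∧ t = x ^ i * y := by
    intro t ht
    have h1 : t * y⁻¹ ∈ Subgroup.zpowers x := by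
      rw [Subgroup.mul_mem_iff_of_index_two hidx]
      constructor
      · intro h; exact absurd h ht
      · intro h; exact absurd ((Subgroup.inv_mem_iff _).mp h) hynot
    rw [mem_zpowers_iff_mem_range_orderOf, Finset.mem_image] at h1
    obtain ⟨i, hi, hi'⟩ := h1
    refine ⟨i, by rw [← hx]; exact Finset.mem_range.mp hi, ?_⟩
    have hi'' : x ^ i = t * y⁻¹ := hi'
    rw [hi'']
    group
  have hsq : ∀ i : ℕ, (x ^ i * y) * (x ^ i * y) = x ^ (i * P) := by
    intro i
    calc x ^ i * y * (x ^ i * y) = x ^ i * (y * x ^ i) * y := by group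
      _ = x ^ i * (x ^ (r * i) * y) * y := by rw [hyx]
      _ = x ^ i * x ^ (r * i) * (y * y) := by group
      _ = x ^ (i * P) := by
        rw [hyy, mul_one, ← pow_add]
        congr 1
        rw [← hr1]
        ring
  have hdq : DQ G x n := by
    refine ⟨by omega, hx, hcard, ?_⟩
    intro t ht
    obtain ⟨i, _, rfl⟩ := hout t ht
    obtain ⟨e, hedef⟩ : ∃ e, e = 2 ^ (n - 2) := ⟨_, rfl⟩
    rw [← hedef]
    have h1 : x ^ i * y * x ^ e * (x ^ i * y)⁻¹ = x ^ (r * e) := by
      rw [mul_assoc (x ^ i), hyx e]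
      group
    rw [h1]
    apply eq_inv_of_mul_eq_one_left
    rw [← pow_add]
    have h2 : r * e + e = 2 ^ n * 2 ^ (n - 3) := by
      have : r * e + e = (r + 1) * e := by ring
      rw [this, hr1, hPdef, hedef, ← pow_add, ← pow_add]
      congr 1
      omega
    rw [h2, pow_mul, ← hx, pow_orderOf_eq_one, one_pow]
  refine ⟨n, x, hn, hdq, ?_⟩
  -- counting the involutions outside `⟨x⟩`
  have hset : outInv x = ((Finset.range P).image (fun k => x ^ (2 * k) * y) : Finset G) := by
    ext t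
    simp only [outInv, Set.mem_ofPred_eq, Finset.coe_image, Finset.coe_range, Set.mem_image,
      Set.mem_Iio]
    constructor
    · rintro ⟨ht, htt⟩
      obtain ⟨i, hi, rfl⟩ := hout t ht
      rw [hsq i] at htt
      have h1 : orderOf x ∣ i * P := orderOf_dvd_of_pow_eq_one htt
      rw [hx, h2n] at h1
      have h2 : 2 ∣ i := Nat.dvd_of_mul_dvd_mul_right (by omega) h1
      obtain ⟨k, rfl⟩ := h2
      exact ⟨k, by omega, rfl⟩
    · rintro ⟨k, hk, rfl⟩
      refine ⟨?_, ?_⟩
      · intro hmem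
        apply hynot
        exact ((Subgroup.zpowers x).mul_mem_cancel_left
          (Subgroup.pow_mem _ (Subgroup.mem_zpowers x) _)).mp hmem
      · rw [hsq]
        have : 2 * k * P = 2 ^ n * k := by rw [h2n]; ring
        rw [this, pow_mul, ← hx, pow_orderOf_eq_one, one_pow]
  have hinj : Set.InjOn (fun k => x ^ (2 * k) * y) (Finset.range P : Set ℕ) := by
    intro k hk k' hk' hkk
    have hk1 : k < P := Finset.mem_range.mp hk
    have hk2 : k' < P := Finset.mem_range.mp hk'
    have h1 : x ^ (2 * k) = x ^ (2 * k') := mul_right_cancel hkk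
    have h2 : 2 * k = 2 * k' := by
      apply pow_injOn_Iio_orderOf (x := x)
      · rw [Set.mem_Iio, hx]; omega
      · rw [Set.mem_Iio, hx]; omega
      · exact h1
    omega
  rw [Nat.card_coe_set_eq, hset, Set.ncard_coe_finset, Finset.card_image_of_injOn hinj,
    Finset.card_range, hPdef]

end Cfsg.Agent.HT3371
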