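import Mathlib
import Cfsg.Agent.Helper25.HT3371Defs

/-!
# S3371 piece TWOA: `two_fixOrTrans`
-/

set_option autoImplicit false

namespace Cfsg.Agent.HT3371

namespace TWOA

variable {q : ℕ} {V : Type*} [AddCommGroup V] [Module (ZMod q) V] {G : Type*} [Group G]

/-- the `N`-orbit of `u` -/
def orb (ρ : G →* (V ≃ₗ[ZMod q] V)) (N : Subgroup G) (u : V) : Set V :=
  {w | ∃ n ∈ N, ρ n u = w}

/-- orbit-stabilizer for a subgroup `N` containing the stabilizer -/
theorem orb_ncard_mul [Finite G] (ρ : G →* (V ≃ₗ[ZMod q] V)) (N : Subgroup G) (u : V)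
    (hle : stab ρ u ≤ N) :
    (orb ρ N u).ncard * Nat.card (stab ρ u) = Nat.card N := by
  let _i : MulAction N V := MulAction.compHom V (ρ.comp N.subtype)
  have hsm : ∀ (n : N) (v : V), n • v = ρ (n : G) v := fun _ _ => rfl
  have h1 : MulAction.orbit N u = orb ρ N u := by
    ext w
    constructor
    · rintro ⟨n, hn⟩
      exact ⟨n.1, n.2, by rw [← hn]; rfl⟩
    · rintro ⟨n, hn, hw⟩
      exact ⟨⟨n, hn⟩, by rw [← hw]; rfl⟩
  have h2 : MulAction.stabilizer N u = (stab ρ u).subgroupOf N := by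
    ext n
    rw [MulAction.mem_stabilizer_iff, Subgroup.mem_subgroupOf, mem_stab, hsm]
  have h3 := MulAction.index_stabilizer N u
  rw [h1, h2] at h3
  rw [← h3, ← Nat.card_congr (Subgroup.subgroupOfEquivOfLe hle).toEquiv, mul_comm]
  exact Subgroup.card_mul_index _

theorem conj_z {z a : G} (hk : Klein z a) (g : G) : g * z * g⁻¹ = z := by
  rw [hk.z_comm g, mul_assoc, mul_inv_cancel, mul_one]

theorem conj_az {z a : G} (hk : Klein z a) {g : G} (h : g * a * g⁻¹ = a * z) :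
    g * (a * z) * g⁻¹ = a := by
  have hm : g * (a * z) * g⁻¹ = (g * a * g⁻¹) * (g * z * g⁻¹) := by
    simp only [mul_assoc, inv_mul_cancel_left]
  rw [hm, h, conj_z hk, mul_assoc, hk.z_sq, mul_one]

theorem conj_az_of_comm {z a : G} (hk : Klein z a) {g : G} (h : a * g = g * a) :
    g * (a * z) * g⁻¹ = a * z := by
  have hm : g * (a * z) * g⁻¹ = (g * a * g⁻¹) * (g * z * g⁻¹) := by
    simp only [mul_assoc, inv_mul_cancel_left]
  rw [hm, conj_z hk, ← h, mul_assoc a g, mul_inv_cancel, mul_one]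

theorem inv_conj {z a : G} (hk : Klein z a) {g : G} (h : g * a * g⁻¹ = a * z) :
    g⁻¹ * a * g = a * z := by
  have h1 := conj_az hk h
  calc g⁻¹ * a * g = g⁻¹ * (g * (a * z) * g⁻¹) * g := by rw [h1]
    _ = a * z := by group

end TWOA

open TWOA in
theorem two_fixOrTrans {q : ℕ} [Fact q.Prime] {V : Type*} [AddCommGroup V]
    [Module (ZMod q) V] [Finite V] {G : Type*} [Group G] [Finite G]
    (ρ : G →* (V ≃ₗ[ZMod q] V)) (hq2 : q ≠ 2) (hEq : EqStab ρ) (z a : G) (hk : Klein z a)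
    (hcompl : IsCompl (fixSp ρ a) (fixSp ρ (a * z))) (hdich : Dich ρ z a) (g₀ : G)
    (hg₀ : g₀ * a * g₀⁻¹ = a * z) : FixOrTrans ρ a (fixSp ρ a) (fixSp ρ (a * z)) := by
  intro u₁ hu₁ hu₁0
  by_contra hcon
  obtain ⟨hnf, hnt⟩ := not_or.mp hcon
  have hqp : q.Prime := Fact.out
  have hq3 : 3 ≤ q := by
    have := hqp.two_le
    omega
  have hdisj : ∀ v, v ∈ fixSp ρ a → v ∈ fixSp ρ (a * z) → v = 0 :=
    fun v h0 h1 => Submodule.disjoint_def.mp hcompl.disjoint v h0 h1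
  let N : Subgroup G := Subgroup.centralizer {a}
  have hN : ∀ g : G, g ∈ N ↔ a * g = g * a := by
    intro g
    show g ∈ Subgroup.centralizer {a} ↔ _
    rw [Subgroup.mem_centralizer_iff]
    simp
  have hNor : ∀ g : G, g ∈ N ∨ g * a * g⁻¹ = a * z := by
    intro g
    rcases hk.conj g with h | h
    · left
      rw [hN]
      calc a * g = g * a * g⁻¹ * g := by rw [h]
        _ = g * a := by group
    · right; exact h
  have hstabN : ∀ u, u ∈ fixSp ρ (a * z) → u ≠ 0 → stab ρ u ≤ N := by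
    intro u hu hu0 g hg
    rcases hNor g with h | h
    · exact h
    · exfalso
      apply hu0
      have h1 : ρ g u ∈ fixSp ρ (g * (a * z) * g⁻¹) := map_mem_fixSp ρ g (a * z) u hu
      rw [conj_az hk h, (mem_stab ρ u g).mp hg] at h1
      exact hdisj u h1 hu
  have hNU : ∀ n ∈ N, ∀ u ∈ fixSp ρ (a * z), ρ n u ∈ fixSp ρ (a * z) := by
    intro n hn u hu
    have h1 := map_mem_fixSp ρ n (a * z) u hu
    rwa [conj_az_of_comm hk ((hN n).mp hn)] at h1
  have hw₁U : ρ g₀ u₁ ∈ fixSp ρ (a * z) := by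
    have h1 := map_mem_fixSp ρ g₀ a u₁ hu₁
    rwa [hg₀] at h1
  have hw₁0 : ρ g₀ u₁ ≠ 0 := fun h => hu₁0 ((ρ g₀).map_eq_zero_iff.mp h)
  have hkey : ∀ w, w ∈ fixSp ρ (a * z) → w ≠ 0 → w ∉ orb ρ N (ρ g₀ u₁) →
      ∀ g ∈ stab ρ u₁, ρ g w = w := by
    intro w hw hw0 hwO g hg
    rcases hdich u₁ w hu₁ hw hu₁0 hw0 with h | ⟨g', hg', hgw⟩
    · rw [h] at hg; exact hg
    · exfalso
      apply hwO
      refine ⟨g' * g₀⁻¹, ?_, ?_⟩
      · rw [hN]
        have e1 : g₀⁻¹ * a = a * z * g₀⁻¹ := by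
          have := inv_conj hk hg₀
          calc g₀⁻¹ * a = g₀⁻¹ * a * g₀ * g₀⁻¹ := by group
            _ = a * z * g₀⁻¹ := by rw [this]
        have e2 : g' * (a * z) = a * g' := by
          have := conj_az hk hg'
          calc g' * (a * z) = g' * (a * z) * g'⁻¹ * g' := by group
            _ = a * g' := by rw [this]
        calc a * (g' * g₀⁻¹) = a * g' * g₀⁻¹ := by rw [mul_assoc]
          _ = g' * (a * z) * g₀⁻¹ := by rw [e2]
          _ = g' * (a * z * g₀⁻¹) := by rw [mul_assoc]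
          _ = g' * (g₀⁻¹ * a) := by rw [e1]
          _ = g' * g₀⁻¹ * a := by rw [mul_assoc]
      · rw [← LinearEquiv.mul_apply, ← map_mul, inv_mul_cancel_right, hgw]
  let F : Submodule (ZMod q) V :=
    { carrier := {w | w ∈ fixSp ρ (a * z) ∧ ∀ g ∈ stab ρ u₁, ρ g w = w}
      zero_mem' := ⟨(fixSp ρ (a * z)).zero_mem, fun g _ => map_zero _⟩
      add_mem' := by
        rintro x y ⟨hx, hx'⟩ ⟨hy, hy'⟩
        exact ⟨(fixSp ρ (a * z)).add_mem hx hy,
          fun g hg => by rw [map_add, hx' g hg, hy' g hg]⟩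
      smul_mem' := by
        rintro c x ⟨hx, hx'⟩
        exact ⟨(fixSp ρ (a * z)).smul_mem c hx, fun g hg => by rw [map_smul, hx' g hg]⟩ }
  have hFmem : ∀ w, w ∈ F ↔ (w ∈ fixSp ρ (a * z) ∧ ∀ g ∈ stab ρ u₁, ρ g w = w) :=
    fun w => Iff.rfl
  have hFU : F ≤ fixSp ρ (a * z) := fun w hw => hw.1
  have hFlt : F < fixSp ρ (a * z) := by
    refine lt_of_le_of_ne hFU ?_
    intro h
    apply hnf
    intro g hg u₂ hu₂
    have : u₂ ∈ F := by rw [h]; exact hu₂
    exact this.2 g hg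
  have hcardF : q * Nat.card F ≤ Nat.card (fixSp ρ (a * z)) := by
    have h1 : Nat.card F = q ^ Module.finrank (ZMod q) F := by
      rw [Module.natCard_eq_pow_finrank (K := ZMod q), Nat.card_zmod]
    have h2 : Nat.card (fixSp ρ (a * z)) = q ^ Module.finrank (ZMod q) (fixSp ρ (a * z)) := by
      rw [Module.natCard_eq_pow_finrank (K := ZMod q), Nat.card_zmod]
    have h3 : Module.finrank (ZMod q) F < Module.finrank (ZMod q) (fixSp ρ (a * z)) :=
      Submodule.finrank_lt_finrank_of_lt hFlt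
    rw [h1, h2, ← pow_succ']
    exact Nat.pow_le_pow_right hqp.pos h3
  -- covering
  have hcover : ((fixSp ρ (a * z) : Submodule (ZMod q) V) : Set V) ⊆
      (F : Set V) ∪ orb ρ N (ρ g₀ u₁) := by
    intro w hw
    by_cases hw0 : w = 0
    · left; rw [hw0]; exact F.zero_mem
    · by_cases hO : w ∈ orb ρ N (ρ g₀ u₁)
      · right; exact hO
      · left; exact ⟨hw, hkey w hw hw0 hO⟩
  have hc1 : Nat.card (fixSp ρ (a * z)) ≤ Nat.card F + (orb ρ N (ρ g₀ u₁)).ncard := by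
    have e1 : Nat.card (fixSp ρ (a * z)) =
        ((fixSp ρ (a * z) : Submodule (ZMod q) V) : Set V).ncard :=
      Nat.card_coe_set_eq _
    have e2 : Nat.card F = (F : Set V).ncard := Nat.card_coe_set_eq _
    rw [e1, e2]
    exact (Set.ncard_le_ncard hcover (Set.toFinite _)).trans (Set.ncard_union_le _ _)
  -- a point outside the orbit
  have hex : ∃ w₀, w₀ ∈ fixSp ρ (a * z) ∧ w₀ ≠ 0 ∧ w₀ ∉ orb ρ N (ρ g₀ u₁) := by
    by_contra hall
    apply hnt
    intro u u' hu hu' hu0 hu'0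
    have h1 : u ∈ orb ρ N (ρ g₀ u₁) := by
      by_contra h; exact hall ⟨u, hu, hu0, h⟩
    have h2 : u' ∈ orb ρ N (ρ g₀ u₁) := by
      by_contra h; exact hall ⟨u', hu', hu'0, h⟩
    obtain ⟨n₁, hn₁, e₁⟩ := h1
    obtain ⟨n₂, hn₂, e₂⟩ := h2
    refine ⟨n₂ * n₁⁻¹, ?_, ?_⟩
    · have := N.mul_mem hn₂ (N.inv_mem hn₁)
      exact ((hN _).mp this).symm
    · rw [← e₁, ← LinearEquiv.mul_apply, ← map_mul, inv_mul_cancel_right, e₂]
  obtain ⟨w₀, hw₀U, hw₀0, hw₀O⟩ := hex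
  have hsub : orb ρ N w₀ ⊆ (F : Set V) \ {0} := by
    rintro w ⟨n, hn, rfl⟩
    have hU : ρ n w₀ ∈ fixSp ρ (a * z) := hNU n hn w₀ hw₀U
    have h0 : ρ n w₀ ≠ 0 := fun h => hw₀0 ((ρ n).map_eq_zero_iff.mp h)
    have hO : ρ n w₀ ∉ orb ρ N (ρ g₀ u₁) := by
      rintro ⟨n', hn', e⟩
      apply hw₀O
      refine ⟨n⁻¹ * n', N.mul_mem (N.inv_mem hn) hn', ?_⟩
      rw [map_mul, LinearEquiv.mul_apply, e, ← LinearEquiv.mul_apply, ← map_mul,
        inv_mul_cancel, map_one]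
      rfl
    exact ⟨⟨hU, hkey _ hU h0 hO⟩, h0⟩
  have hs : ∀ u, u ≠ 0 → Nat.card (stab ρ u) = Nat.card (stab ρ u₁) :=
    fun u hu => hEq u u₁ hu hu₁0
  have ho1 := orb_ncard_mul ρ N (ρ g₀ u₁) (hstabN _ hw₁U hw₁0)
  have ho2 := orb_ncard_mul ρ N w₀ (hstabN w₀ hw₀U hw₀0)
  rw [hs _ hw₁0] at ho1
  rw [hs w₀ hw₀0] at ho2
  have hspos : 0 < Nat.card (stab ρ u₁) := Nat.card_pos
  have heq : (orb ρ N w₀).ncard = (orb ρ N (ρ g₀ u₁)).ncard :=
    Nat.eq_of_mul_eq_mul_right hspos (ho2.trans ho1.symm)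
  have hc2 : (orb ρ N w₀).ncard ≤ Nat.card F - 1 := by
    have e2 : Nat.card F = (F : Set V).ncard := Nat.card_coe_set_eq _
    rw [e2, ← Set.ncard_sdiff_singleton_of_mem (F.zero_mem : (0 : V) ∈ (F : Set V))]
    exact Set.ncard_le_ncard hsub (Set.toFinite _)
  have hFpos : 0 < Nat.card F := Nat.card_pos
  have h3F : 3 * Nat.card F ≤ q * Nat.card F := Nat.mul_le_mul_right _ hq3
  omega

end Cfsg.Agent.HT3371
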