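import Mathlib
import Cfsg.Prelude.Def_Balance
import Cfsg.Agent.Helper7.Hyperplane

set_option autoImplicit false
set_option linter.style.haveILetI false
set_option linter.unusedSectionVars false

/-! # Consequences of generation by centralizers of hyperplanes: S1331, S1282 -/

namespace Cfsg.Agent.Helper7

open Subgroup Cfsg

variable {G : Type*} [Group G]

/-- S1331 -/
theorem signalizerFamily_eq_iSup_inf_signalizerInf [Finite G] (p : ℕ) [hp : Fact p.Prime]
    (A : Subgroup G) (hA : IsElementaryAbelian p A) (θ : G → Subgroup G) (X : Subgroup G)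
    (hX : X ∈ signalizerFamily p A θ) (B : Subgroup G) (hB : B ≤ A)
    (hB2 : p ^ 2 ≤ Nat.card B) :
    X = ⨆ D : {D : Subgroup G // D ≤ B ∧ D.relIndex B = p},
      X ⊓ signalizerInf (D : Subgroup G) θ := by
  obtain ⟨_, hpX, hinv, hθ⟩ := hX
  have hBel : IsElementaryAbelian p B := IsElementaryAbelian.mono hA hB
  have hAX : A ≤ normalizer (X : Set G) :=
    le_normalizer_of_forall_conj_mem (fun a ha x hx => hinv a ha x hx)
  refine le_antisymm ?_ (iSup_le fun _ => inf_le_left)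
  have h1 := le_iSup_inf_centralizer_hyperplane p _ B X rfl hBel hpX (hB.trans hAX)
  refine h1.trans (iSup_le ?_)
  rintro ⟨D, hDB, hDidx⟩
  -- key: for a hyperplane `D' ≤ B`, `X ⊓ C(D') ≤ X ⊓ signalizerInf D' θ`
  have key : ∀ D' : Subgroup G, D' ≤ B → D'.relIndex B = p →
      X ⊓ centralizer (D' : Set G) ≤
        ⨆ D : {D : Subgroup G // D ≤ B ∧ D.relIndex B = p},
          X ⊓ signalizerInf (D : Subgroup G) θ := by
    intro D' hD'B hD'idx
    refine le_trans ?_ (le_iSup (fun D : {D : Subgroup G // D ≤ B ∧ D.relIndex B = p} =>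
      X ⊓ signalizerInf (D : Subgroup G) θ) ⟨D', hD'B, hD'idx⟩)
    refine le_inf inf_le_left ?_
    unfold signalizerInf
    refine le_iInf ?_
    rintro ⟨d, hdD, hd1⟩
    refine le_trans ?_ (hθ d (hB (hD'B hdD)) hd1)
    refine inf_le_inf_left _ ?_
    exact centralizer_le (Set.singleton_subset_iff.2 hdD)
  rcases relIndex_eq_one_or_prime_of_le (IsElementaryAbelian.isPGroup hBel) hDidx with h | h
  · -- `D = B`: pick any hyperplane
    have hBD : B ≤ D := relIndex_eq_one.1 h
    have h1B : 1 < Nat.card B := by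
      have := hp.out.one_lt
      nlinarith
    obtain ⟨D', hD'B, hD'idx⟩ := exists_relIndex_eq_prime hBel h1B
    refine le_trans ?_ (key D' hD'B hD'idx)
    exact inf_le_inf_left _ (centralizer_le (hD'B.trans hBD))
  · exact key D hDB h

/-- S1282 -/
theorem exists_mem_normalizer_inf_centralizer_not_le [Finite G] (p : ℕ) [hp : Fact p.Prime]
    (A : Subgroup G) (hA : IsElementaryAbelian p A) (hA3 : p ^ 3 ≤ Nat.card A) (q : ℕ)
    [hq : Fact q.Prime] (hqp : q ≠ p) (Q₁ Q₂ : Subgroup G) (h₁ : IsPGroup q Q₁)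
    (h₂ : IsPGroup q Q₂) (hA₁ : A ≤ normalizer (Q₁ : Set G)) (hA₂ : A ≤ normalizer (Q₂ : Set G))
    (hD₁ : Q₁ ⊓ Q₂ ≠ Q₁) (hD₂ : Q₁ ⊓ Q₂ ≠ Q₂) :
    ∃ a ∈ A, a ≠ 1 ∧
      ¬ (normalizer ((Q₁ ⊓ Q₂ : Subgroup G) : Set G) ⊓ Q₁ ⊓ centralizer {a} ≤ Q₁ ⊓ Q₂) ∧
      ¬ (normalizer ((Q₁ ⊓ Q₂ : Subgroup G) : Set G) ⊓ Q₂ ⊓ centralizer {a} ≤ Q₁ ⊓ Q₂) := by
  set D := Q₁ ⊓ Q₂ with hD
  have hAD : A ≤ normalizer (D : Set G) :=
    (le_inf hA₁ hA₂).trans (normalizer_inf_normalizer_le_normalizer_inf _ _)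
  have hAND : A ≤ normalizer ((normalizer (D : Set G) : Subgroup G) : Set G) :=
    hAD.trans le_normalizer
  -- general step for one `q`-group
  have step : ∀ Q : Subgroup G, IsPGroup q Q → A ≤ normalizer (Q : Set G) → D ≤ Q → D ≠ Q →
      ∃ B : Subgroup G, B ≤ A ∧ B.relIndex A ≤ p ∧
        ¬ (normalizer (D : Set G) ⊓ Q ⊓ centralizer (B : Set G) ≤ D) := by
    intro Q hQ hAQ hDQ hne
    -- normalizers grow
    have hgrow : ¬ (normalizer (D : Set G) ⊓ Q ≤ D) := by
      intro hcon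
      haveI : Group.IsNilpotent Q := hQ.isNilpotent
      have hnc := Group.normalizerCondition_of_isNilpotent (G := Q)
      have hlt : D.subgroupOf Q < ⊤ := by
        rw [lt_top_iff_ne_top, Ne, subgroupOf_eq_top]
        intro h
        exact hne (le_antisymm hDQ h)
      have h2 := hnc _ hlt
      obtain ⟨x, hxN, hxD⟩ := SetLike.exists_of_lt h2
      apply hxD
      rw [mem_subgroupOf]
      apply hcon
      refine ⟨?_, x.2⟩
      rw [mem_normalizer_iff] at hxN
      show (x : G) ∈ normalizer (D : Set G)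
      rw [mem_normalizer_iff]
      intro y
      constructor
      · intro hy
        have := (hxN ⟨y, hDQ hy⟩).1 (mem_subgroupOf.2 hy)
        rw [mem_subgroupOf] at this
        exact this
      · intro hy
        have hyQ : y ∈ Q := by
          have h3 : (x : G) * y * (x : G)⁻¹ ∈ Q := hDQ hy
          have : y = (x : G)⁻¹ * ((x : G) * y * (x : G)⁻¹) * x := by group
          rw [this]
          exact Q.mul_mem (Q.mul_mem (Q.inv_mem x.2) h3) x.2
        have := (hxN ⟨y, hyQ⟩).2 (mem_subgroupOf.2 hy)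
        rw [mem_subgroupOf] at this
        exact this
    set N := normalizer (D : Set G) ⊓ Q with hN
    have hAN : A ≤ normalizer (N : Set G) :=
      (le_inf hAND hAQ).trans (normalizer_inf_normalizer_le_normalizer_inf _ _)
    have hpN : ¬ p ∣ Nat.card N := by
      intro hdvd
      have hNQ : IsPGroup q N := hQ.to_le inf_le_right
      obtain ⟨k, hk⟩ := hNQ.exists_card_eq
      rw [hk] at hdvd
      have := (Nat.prime_dvd_prime_iff_eq hp.out hq.out).1 (hp.out.dvd_of_dvd_pow hdvd)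
      exact hqp this.symm
    have hgen := le_iSup_inf_centralizer_hyperplane p _ A N rfl hA hpN hAN
    by_contra hcon
    push Not at hcon
    apply hgrow
    refine hgen.trans (iSup_le ?_)
    rintro ⟨B, hBA, hBidx⟩
    exact hcon B hBA hBidx
  obtain ⟨B₁, hB₁A, hB₁idx, hB₁⟩ := step Q₁ h₁ hA₁ inf_le_left hD₁
  obtain ⟨B₂, hB₂A, hB₂idx, hB₂⟩ := step Q₂ h₂ hA₂ inf_le_right hD₂
  -- a nonidentity element of `B₁ ⊓ B₂`
  have hidx : (B₁ ⊓ B₂).relIndex A ≤ p * p :=
    (relIndex_inf_le).trans (Nat.mul_le_mul hB₁idx hB₂idx)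
  have hcard := card_mul_relIndex_of_le (inf_le_left.trans hB₁A : B₁ ⊓ B₂ ≤ A)
  have hpos : 0 < (B₁ ⊓ B₂).relIndex A := by
    rcases Nat.eq_zero_or_pos ((B₁ ⊓ B₂).relIndex A) with h | h
    · rw [h, mul_zero] at hcard
      have : 0 < Nat.card A := Nat.card_pos
      omega
    · exact h
  have h1 : 1 < Nat.card (B₁ ⊓ B₂ : Subgroup G) := by
    by_contra hle
    push Not at hle
    have hc1 : Nat.card (B₁ ⊓ B₂ : Subgroup G) = 1 := by
      have : 0 < Nat.card (B₁ ⊓ B₂ : Subgroup G) := Nat.card_pos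
      omega
    rw [hc1, one_mul] at hcard
    have h2 := hp.out.one_lt
    have : p ^ 3 ≤ p * p := by rw [← hcard] at hA3; exact hA3.trans hidx
    have h3 : p * p < p ^ 3 := by
      have : p ^ 3 = p * p * p := by ring
      rw [this]
      have : 0 < p * p := Nat.mul_pos hp.out.pos hp.out.pos
      nlinarith
    omega
  obtain ⟨a, haB, ha1⟩ : ∃ a ∈ B₁ ⊓ B₂, a ≠ 1 := by
    by_contra hcon
    push Not at hcon
    have : B₁ ⊓ B₂ = ⊥ := (eq_bot_iff_forall _).2 hcon
    rw [this, card_bot] at h1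
    exact lt_irrefl _ h1
  refine ⟨a, hB₁A haB.1, ha1, ?_, ?_⟩
  · intro hcon
    apply hB₁
    refine le_trans (inf_le_inf_left _ ?_) hcon
    exact centralizer_le (Set.singleton_subset_iff.2 haB.1)
  · intro hcon
    apply hB₂
    refine le_trans (inf_le_inf_left _ ?_) hcon
    exact centralizer_le (Set.singleton_subset_iff.2 haB.2)

end Cfsg.Agent.Helper7
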