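import Mathlib

/-!
# S3278 piece LOCC (helper7): `C(x)` centralizes a normal Klein four Sylow subgroup `S₀ ∋ x`.

NB: the extra hypothesis `hx : orderOf x = 2` is needed (the statement is false for `x = 1`,
e.g. `G = A4`, `S₀ = V4`).
-/

set_option autoImplicit false

namespace Cfsg.Agent.Helper7.K4C

variable {G : Type*} [Group G] [Finite G]

/-- Conjugation by an element of `C(x)` moves `s ∈ S₀` to `s` or `x * s`. -/
theorem conj_eq_or (x : G) (hx : orderOf x = 2) (S₀ : Subgroup G)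
    (hK : IsKleinFour ↥S₀)
    (hn : (S₀.subgroupOf (Subgroup.centralizer ({x} : Set G))).Normal)
    (hle : S₀ ≤ Subgroup.centralizer ({x} : Set G))
    (hxS : x ∈ S₀) (g : G) (hg : g ∈ Subgroup.centralizer ({x} : Set G))
    (s : G) (hs : s ∈ S₀) :
    g * s * g⁻¹ = s ∨ g * s * g⁻¹ = x * s := by
  have hx1 : x ≠ 1 := by
    intro h
    rw [h, orderOf_one] at hx
    omega
  have hgx : g * x * g⁻¹ = x := by
    have := (Subgroup.mem_centralizer_iff.mp hg) x (Set.mem_singleton x)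
    rw [← this]; group
  have htS : g * s * g⁻¹ ∈ S₀ := by
    have h1 : (⟨s, hle hs⟩ : ↥(Subgroup.centralizer ({x} : Set G))) ∈
        S₀.subgroupOf (Subgroup.centralizer ({x} : Set G)) := by
      rw [Subgroup.mem_subgroupOf]; exact hs
    have h2 := hn.conj_mem _ h1 ⟨g, hg⟩
    rw [Subgroup.mem_subgroupOf] at h2
    simpa using h2
  by_cases hts : g * s * g⁻¹ = s
  · exact Or.inl hts
  · right
    have hs1 : s ≠ 1 := by
      rintro rfl
      exact hts (by group)
    have hsx : s ≠ x := by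
      rintro rfl
      exact hts hgx
    have ht1 : g * s * g⁻¹ ≠ 1 := by
      intro h
      apply hs1
      have : s = g⁻¹ * (g * s * g⁻¹) * g := by group
      rw [this, h]; group
    have htx : g * s * g⁻¹ ≠ x := by
      intro h
      apply hsx
      have : s = g⁻¹ * (g * s * g⁻¹) * g := by group
      rw [this, h]
      calc g⁻¹ * x * g = g⁻¹ * (g * x * g⁻¹) * g := by rw [hgx]
        _ = x := by group
    have key := @IsKleinFour.eq_mul_of_ne_all ↥S₀ _ hK ⟨x, hxS⟩ ⟨s, hs⟩ ⟨g * s * g⁻¹, htS⟩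
      (fun h => hx1 (congrArg Subtype.val h))
      (fun h => hs1 (congrArg Subtype.val h))
      (fun h => hsx (congrArg Subtype.val h).symm)
      (fun h => ht1 (congrArg Subtype.val h))
      (fun h => htx (congrArg Subtype.val h))
      (fun h => hts (congrArg Subtype.val h))
    exact congrArg Subtype.val key

/-- The square of an element of `C(x)` centralizes `S₀`. -/
theorem sq_mem_centralizer (x : G) (hx : orderOf x = 2) (S₀ : Subgroup G)
    (hK : IsKleinFour ↥S₀)
    (hn : (S₀.subgroupOf (Subgroup.centralizer ({x} : Set G))).Normal)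
    (hle : S₀ ≤ Subgroup.centralizer ({x} : Set G))
    (hxS : x ∈ S₀) (g : G) (hg : g ∈ Subgroup.centralizer ({x} : Set G)) :
    g ^ 2 ∈ Subgroup.centralizer (S₀ : Set G) := by
  have hxx : x * x = 1 := by
    have := pow_orderOf_eq_one x
    rw [hx, pow_two] at this
    exact this
  have hgx : g * x * g⁻¹ = x := by
    have := (Subgroup.mem_centralizer_iff.mp hg) x (Set.mem_singleton x)
    rw [← this]; group
  rw [Subgroup.mem_centralizer_iff]
  intro s hs
  have hconj : g ^ 2 * s * (g ^ 2)⁻¹ = s := by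
    have e : g ^ 2 * s * (g ^ 2)⁻¹ = g * (g * s * g⁻¹) * g⁻¹ := by
      rw [pow_two]; group
    rw [e]
    rcases conj_eq_or x hx S₀ hK hn hle hxS g hg s hs with h | h
    · rw [h, h]
    · rw [h]
      have e2 : g * (x * s) * g⁻¹ = (g * x * g⁻¹) * (g * s * g⁻¹) := by group
      rw [e2, hgx, h, ← mul_assoc, hxx, one_mul]
  calc s * g ^ 2 = (g ^ 2 * s * (g ^ 2)⁻¹) * g ^ 2 := by rw [hconj]
    _ = g ^ 2 * s := by group

theorem centralizer_le_centralizer (x : G) (hx : orderOf x = 2) (S₀ : Subgroup G)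
    (hle : S₀ ≤ Subgroup.centralizer ({x} : Set G)) (hK : IsKleinFour ↥S₀)
    (hn : (S₀.subgroupOf (Subgroup.centralizer ({x} : Set G))).Normal)
    (hxS : x ∈ S₀)
    (hmem : ∀ u ∈ Subgroup.centralizer ({x} : Set G), ∀ k : ℕ, u ^ (2 ^ k) = 1 → u ∈ S₀) :
    Subgroup.centralizer ({x} : Set G) ≤ Subgroup.centralizer (S₀ : Set G) := by
  intro g hg
  obtain ⟨k, m, hm, hkm⟩ := Nat.exists_eq_two_pow_mul_odd (orderOf_pos g).ne'
  obtain ⟨j, rfl⟩ := hm
  -- `g ^ (2j+1)` is a 2-element of `C(x)`, hence in the abelian group `S₀`.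
  have h1 : g ^ (2 * j + 1) ∈ S₀ := by
    apply hmem _ (Subgroup.pow_mem _ hg _) k
    rw [← pow_mul, mul_comm, ← hkm, pow_orderOf_eq_one]
  have h1c : g ^ (2 * j + 1) ∈ Subgroup.centralizer (S₀ : Set G) := by
    rw [Subgroup.mem_centralizer_iff]
    intro s hs
    have := @IsKleinFour.isMulCommutative ↥S₀ _ hK
    have hc : (⟨s, hs⟩ : ↥S₀) * ⟨g ^ (2 * j + 1), h1⟩ = ⟨g ^ (2 * j + 1), h1⟩ * ⟨s, hs⟩ :=
      mul_comm' _ _
    exact congrArg Subtype.val hc
  have h2c : g ^ 2 ∈ Subgroup.centralizer (S₀ : Set G) :=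
    sq_mem_centralizer x hx S₀ hK hn hle hxS g hg
  have e : g = g ^ (2 * j + 1) * ((g ^ 2) ^ j)⁻¹ := by
    rw [← pow_mul, pow_succ]
    group
  rw [e]
  exact Subgroup.mul_mem _ h1c (Subgroup.inv_mem _ (Subgroup.pow_mem _ h2c _))

end Cfsg.Agent.Helper7.K4C

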