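import Mathlib
import Cfsg.Prelude.Def_Solvable
import Cfsg.Agent.Helper28.FieldB1

set_option autoImplicit false
set_option linter.unusedSectionVars false

/-! Abstract group theory for the failure of local balance at an automorphism of prime order:
triviality of the `p'`-core of the centralizer, in two steps. -/

namespace Cfsg.Agent.Helper7.LBal

open scoped commutatorElement

section nnp

variable {T T' : Type*} [Group T] [Group T']

/-- no nontrivial normal subgroup of order prime to `p` -/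
def NNP (p : ℕ) (T : Type*) [Group T] : Prop :=
  ∀ M : Subgroup T, M.Normal → (Nat.card M).Coprime p → M = ⊥

theorem NNP_of_simple {p : ℕ} (hp : p.Prime) [Finite T] [IsSimpleGroup T] (hdvd : p ∣ Nat.card T) :
    NNP p T := by
  intro M hM hcop
  rcases hM.eq_bot_or_eq_top with h | h
  · exact h
  · exfalso
    subst h
    have h1 : Nat.card (⊤ : Subgroup T) = Nat.card T := Subgroup.card_top
    rw [h1] at hcop
    have := Nat.Coprime.eq_one_of_dvd hcop.symm hdvd
    exact hp.one_lt.ne' this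

theorem NNP_of_equiv {p : ℕ} (e : T ≃* T') (h : NNP p T) : NNP p T' := by
  intro M hM hcop
  have h1 := h (M.comap e.toMonoidHom) (hM.comap _) (by
    have : Nat.card ↥(M.comap e.toMonoidHom) = Nat.card M := by
      apply Nat.card_congr
      exact { toFun := fun x => ⟨e x.1, x.2⟩
              invFun := fun y => ⟨e.symm y.1, by
                show e (e.symm y.1) ∈ M
                rw [e.apply_symm_apply]; exact y.2⟩
              left_inv := fun x => by ext; simp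
              right_inv := fun y => by ext; simp }
    rw [this]
    exact hcop)
  rw [eq_bot_iff] at h1 ⊢
  intro y hy
  have h2 : e.symm y ∈ M.comap e.toMonoidHom := by
    show e (e.symm y) ∈ M
    rw [e.apply_symm_apply]; exact hy
  have h3 := h1 h2
  rw [Subgroup.mem_bot] at h3 ⊢
  have := congrArg e h3
  rwa [e.apply_symm_apply, map_one] at this

theorem NNP_prod {p : ℕ} {A B : Type*} [Group A] [Group B] [Finite A] [Finite B]
    (hA : NNP p A) (hB : NNP p B) : NNP p (A × B) := by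
  intro M hM hcop
  have h1 : M.map (MonoidHom.fst A B) = ⊥ := by
    apply hA _ (hM.map _ Prod.fst_surjective)
    exact Nat.Coprime.coprime_dvd_left (Subgroup.card_map_dvd M (MonoidHom.fst A B)) hcop
  have h2 : M.map (MonoidHom.snd A B) = ⊥ := by
    apply hB _ (hM.map _ Prod.snd_surjective)
    exact Nat.Coprime.coprime_dvd_left (Subgroup.card_map_dvd M (MonoidHom.snd A B)) hcop
  rw [eq_bot_iff]
  intro x hx
  have hx1 : x.1 ∈ M.map (MonoidHom.fst A B) := ⟨x, hx, rfl⟩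
  have hx2 : x.2 ∈ M.map (MonoidHom.snd A B) := ⟨x, hx, rfl⟩
  rw [h1, Subgroup.mem_bot] at hx1
  rw [h2, Subgroup.mem_bot] at hx2
  rw [Subgroup.mem_bot]
  exact Prod.ext hx1 hx2

/-- the image of `S` under a homomorphism whose kernel on `S` is the centre of `S` -/
theorem NNP_range_of_ker_eq_center {p : ℕ} {S G : Type*} [Group S] [Group G] (ψ : S →* G)
    (hker : ψ.ker = Subgroup.center S) (h : NNP p (S ⧸ Subgroup.center S)) : NNP p ↥ψ.range := by
  have e1 : S ⧸ Subgroup.center S ≃* S ⧸ ψ.ker := QuotientGroup.quotientMulEquivOfEq hker.symm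
  have e2 := QuotientGroup.quotientKerEquivRange ψ
  exact NNP_of_equiv (e1.trans e2) h

end nnp

section ambient

variable {G : Type*} [Group G]

/-- **Step I**: a `p'`-subgroup normalised by the centralizer meets `I` trivially. -/
theorem stepI {p : ℕ} (β : G) (I A I₀ : Subgroup G) [hI : I.Normal]
    (hI₀I : I₀ ≤ I) (hI₀A : I₀ ≤ A) (hI₀C : I₀ ≤ Subgroup.centralizer {β})
    (hnorm : ∀ d ∈ I ⊓ Subgroup.centralizer {β}, ∀ s ∈ I₀, d * s * d⁻¹ ∈ I₀)
    (hb : NNP p ↥I₀)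
    (hc : ∀ d ∈ I ⊓ Subgroup.centralizer {β}, (∀ s ∈ I₀, d * s = s * d) → d = 1)
    (N : Subgroup G) (hNC : N ≤ A ⊓ Subgroup.centralizer {β})
    (hNnorm : ∀ c ∈ A ⊓ Subgroup.centralizer {β}, ∀ n ∈ N, c * n * c⁻¹ ∈ N)
    (hcop : (Nat.card N).Coprime p) : N ⊓ I = ⊥ := by
  have hI₀C' : I₀ ≤ A ⊓ Subgroup.centralizer {β} := le_inf hI₀A hI₀C
  -- `M = N ⊓ I ⊓ I₀` is a normal `p'`-subgroup of `I₀`
  have hM : ((N ⊓ I ⊓ I₀).subgroupOf I₀) = ⊥ := by
    apply hb
    · constructor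
      intro n hn s
      rw [Subgroup.mem_subgroupOf] at hn ⊢
      refine ⟨⟨?_, ?_⟩, ?_⟩
      · exact hNnorm s.1 (hI₀C' s.2) n.1 hn.1.1
      · exact hI.conj_mem n.1 hn.1.2 s.1
      · exact I₀.mul_mem (I₀.mul_mem s.2 n.2) (I₀.inv_mem s.2)
    · have h1 : Nat.card ↥((N ⊓ I ⊓ I₀).subgroupOf I₀) = Nat.card ↥(N ⊓ I ⊓ I₀) :=
        Nat.card_congr (Subgroup.subgroupOfEquivOfLe inf_le_right).toEquiv
      rw [h1]
      exact Nat.Coprime.coprime_dvd_left
        (Subgroup.card_dvd_of_le (inf_le_left.trans inf_le_left)) hcop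
  have hM' : N ⊓ I ⊓ I₀ = ⊥ := by
    rw [Subgroup.subgroupOf_eq_bot] at hM
    rw [eq_bot_iff]
    intro x hx
    exact hM.le_bot ⟨hx, hx.2⟩
  rw [eq_bot_iff]
  intro d hd
  rw [Subgroup.mem_bot]
  have hdIC : d ∈ I ⊓ Subgroup.centralizer {β} := ⟨hd.2, (hNC hd.1).2⟩
  apply hc d hdIC
  intro s hs
  have h1 : d * s * d⁻¹ * s⁻¹ ∈ N ⊓ I ⊓ I₀ := by
    refine ⟨⟨?_, ?_⟩, ?_⟩
    · have h := hNnorm s (hI₀C' hs) d⁻¹ (N.inv_mem hd.1)
      have e : d * s * d⁻¹ * s⁻¹ = d * (s * d⁻¹ * s⁻¹) := by group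
      rw [e]
      exact N.mul_mem hd.1 h
    · have h := hI.conj_mem d⁻¹ (I.inv_mem hd.2) s
      have e : d * s * d⁻¹ * s⁻¹ = d * (s * d⁻¹ * s⁻¹) := by group
      rw [e]
      exact I.mul_mem hd.2 h
    · exact I₀.mul_mem (hnorm d hdIC s hs) (I₀.inv_mem hs)
  rw [hM', Subgroup.mem_bot] at h1
  have e : d * s = (d * s * d⁻¹ * s⁻¹) * (s * d) := by group
  rw [e, h1, one_mul]

/-- **Step II**: then it centralizes the inner part of the centralizer. -/
theorem stepII (β : G) (I A Inn : Subgroup G) [hInn : Inn.Normal]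
    (hInnA : Inn ≤ A) (hInnI : Inn ≤ I)
    (N : Subgroup G)
    (hNnorm : ∀ c ∈ A ⊓ Subgroup.centralizer {β}, ∀ n ∈ N, c * n * c⁻¹ ∈ N)
    (hNI : N ⊓ I = ⊥) :
    ∀ n ∈ N, ∀ y ∈ Inn ⊓ Subgroup.centralizer {β}, n * y = y * n := by
  intro n hn y hy
  have h1 : n * y * n⁻¹ * y⁻¹ ∈ N ⊓ I := by
    refine ⟨?_, ?_⟩
    · have h := hNnorm y ⟨hInnA hy.1, hy.2⟩ n⁻¹ (N.inv_mem hn)
      have e : n * y * n⁻¹ * y⁻¹ = n * (y * n⁻¹ * y⁻¹) := by group
      rw [e]
      exact N.mul_mem hn h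
    · apply hInnI
      exact Inn.mul_mem (hInn.conj_mem y hy.1 n) (Inn.inv_mem hy.1)
  rw [hNI, Subgroup.mem_bot] at h1
  have e : n * y = (n * y * n⁻¹ * y⁻¹) * (y * n) := by group
  rw [e, h1, one_mul]

/-- **the core lemma**: if no element of prime order different from `p` outside `I` centralizes
the inner part of the centralizer, the `p'`-subgroup is trivial. -/
theorem core_trivial [Finite G] {p : ℕ} (β : G) (I A Inn : Subgroup G) [hInn : Inn.Normal]
    (hInnA : Inn ≤ A) (hInnI : Inn ≤ I)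
    (N : Subgroup G) (hNC : N ≤ A ⊓ Subgroup.centralizer {β})
    (hNnorm : ∀ c ∈ A ⊓ Subgroup.centralizer {β}, ∀ n ∈ N, c * n * c⁻¹ ∈ N)
    (hcop : (Nat.card N).Coprime p)
    (hNI : N ⊓ I = ⊥)
    (hP2 : ∀ ν ∈ Subgroup.centralizer {β}, ν ∉ I → (orderOf ν).Prime → orderOf ν ≠ p →
      (∀ y ∈ Inn ⊓ Subgroup.centralizer {β}, ν * y = y * ν) → False) : N = ⊥ := by
  by_contra hne
  have hcard : Nat.card N ≠ 1 := by
    intro h
    exact hne (Subgroup.card_eq_one.1 h)
  obtain ⟨l, hl, hdvd⟩ := Nat.exists_prime_and_dvd hcard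
  haveI : Fact l.Prime := ⟨hl⟩
  obtain ⟨ν, hν⟩ := exists_prime_orderOf_dvd_card' (G := ↥N) l hdvd
  have hν' : orderOf (ν : G) = l := by rw [Subgroup.orderOf_coe, hν]
  have hlp : l ≠ p := by
    rintro rfl
    have := Nat.Coprime.eq_one_of_dvd hcop.symm hdvd
    exact hl.one_lt.ne' this
  apply hP2 ν.1 (hNC ν.2).2
  · intro hI
    have h1 : (ν : G) ∈ N ⊓ I := ⟨ν.2, hI⟩
    rw [hNI, Subgroup.mem_bot] at h1
    rw [h1, orderOf_one] at hν'
    exact hl.one_lt.ne hν'
  · rw [hν']; exact hl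
  · rw [hν']; exact hlp
  · exact stepII β I A Inn hInnA hInnI N hNnorm hNI ν.1 ν.2

end ambient

end Cfsg.Agent.Helper7.LBal
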