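import Mathlib
import Cfsg.Agent.Helper7.AutPSL18
import Cfsg.Agent.Helper7.LBal1

set_option autoImplicit false
set_option linter.unusedSectionVars false

/-! Killing the field part of an automorphism of `PSL_n(F)` that fixes a polynomial family of
unipotent elements. -/

namespace Cfsg.Agent.Helper7.LBal

open Matrix Cfsg.Agent.Helper7.GraphPSL Cfsg.Agent.Helper7.AutPSL

variable {n : ℕ} {F : Type*} [Field F]

/-- the pure matrix computation -/
theorem tau_fix_of_matrix_family (τ : F →+* F) (g : Matrix (Fin n) (Fin n) F) (hg : IsUnit g)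
    (N₁ N₂ L₁ L₂ : Matrix (Fin n) (Fin n) F) (hN₁ : N₁ ≠ 0) (A : Set F) (h1 : (1 : F) ∈ A)
    (hneg : ∀ a ∈ A, -a ∈ A) (h2 : (2 : F) ≠ 0 ∨ (N₂ = 0 ∧ L₂ = 0))
    (hfam : ∀ a ∈ A, (1 + a • N₁ + (a * a) • N₂) * g = g * (1 + τ a • L₁ + (τ a * τ a) • L₂)) :
    ∀ a ∈ A, τ a = a := by
  -- the linear part
  have hlin : ∀ a ∈ A, a • (N₁ * g) = τ a • (g * L₁) := by
    intro a ha
    rcases h2 with h2 | ⟨hN₂, hL₂⟩
    · have e1 := hfam a ha
      have e2 := hfam (-a) (hneg a ha)
      rw [map_neg] at e2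
      have e3 : (2 : F) • (a • (N₁ * g)) = (2 : F) • (τ a • (g * L₁)) := by
        have l1 : (1 + a • N₁ + (a * a) • N₂) * g - (1 + (-a) • N₁ + (-a * -a) • N₂) * g
            = (2 : F) • (a • (N₁ * g)) := by
          simp only [Matrix.add_mul, Matrix.smul_mul, Matrix.one_mul, neg_smul, neg_mul_neg,
            Matrix.neg_mul]
          module
        have l2 : g * (1 + τ a • L₁ + (τ a * τ a) • L₂)
            - g * (1 + (-τ a) • L₁ + (-τ a * -τ a) • L₂) = (2 : F) • (τ a • (g * L₁)) := by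
          simp only [Matrix.mul_add, Matrix.mul_smul, Matrix.mul_one, neg_smul, neg_mul_neg,
            Matrix.mul_neg]
          module
        rw [← l1, ← l2, e1, e2]
      have e4 := congrArg (fun M => (2 : F)⁻¹ • M) e3
      simp only [smul_smul, ← mul_assoc, inv_mul_cancel₀ h2, one_mul] at e4
      exact e4
    · have e1 := hfam a ha
      rw [hN₂, hL₂, smul_zero, smul_zero, add_zero, add_zero, Matrix.add_mul, Matrix.mul_add,
        Matrix.one_mul, Matrix.mul_one, Matrix.smul_mul, Matrix.mul_smul] at e1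
      exact add_left_cancel e1
  have hone : N₁ * g = g * L₁ := by
    have := hlin 1 h1
    rwa [map_one, one_smul, one_smul] at this
  have hne : N₁ * g ≠ 0 := by
    intro h
    apply hN₁
    obtain ⟨u, rfl⟩ := hg
    have := congrArg (fun M => M * ((u⁻¹ : (Matrix (Fin n) (Fin n) F)ˣ) : Matrix (Fin n) (Fin n) F)) h
    simp only [Matrix.mul_assoc, Units.mul_inv, Matrix.mul_one, Matrix.zero_mul] at this
    exact this
  intro a ha
  have h3 := hlin a ha
  rw [← hone] at h3
  by_contra hne'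
  apply hne
  have h4 : (a - τ a) • (N₁ * g) = 0 := by rw [sub_smul, h3, sub_self]
  rcases smul_eq_zero.1 h4 with h5 | h5
  · exact absurd (sub_eq_zero.1 h5).symm hne'
  · exact h5

/-- a scalar multiple of a unipotent element of order `r` that again has order dividing `r` -/
theorem smul_eq_of_pow_eq_one {r : ℕ} [Fact r.Prime] [CharP F r]
    (s t : Matrix.SpecialLinearGroup (Fin n) F) [NeZero n] (c : F)
    (h : (t : Matrix (Fin n) (Fin n) F) = c • (s : Matrix (Fin n) (Fin n) F))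
    (hs : s ^ r = 1) (ht : t ^ r = 1) : t = s := by
  have h1 : ((t ^ r : Matrix.SpecialLinearGroup (Fin n) F) : Matrix (Fin n) (Fin n) F)
      = c ^ r • ((s ^ r : Matrix.SpecialLinearGroup (Fin n) F) : Matrix (Fin n) (Fin n) F) := by
    rw [Matrix.SpecialLinearGroup.coe_pow, Matrix.SpecialLinearGroup.coe_pow, h, smul_pow]
  rw [hs, ht, Matrix.SpecialLinearGroup.coe_one] at h1
  have h2 : c ^ r = 1 := by
    have := congrFun (congrFun h1 ⟨0, Nat.pos_of_ne_zero (NeZero.ne n)⟩)
      ⟨0, Nat.pos_of_ne_zero (NeZero.ne n)⟩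
    simp at this
    exact this.symm
  have h3 : c = 1 := by
    have : frobenius F r c = frobenius F r 1 := by
      rw [frobenius_def, frobenius_def, h2, one_pow]
    exact frobenius_inj F r this
  apply Subtype.ext
  rw [h, h3, one_smul]

/-- the automorphisms `cGL g * fieldPSL τ * ι^e` act on `pr s` through an automorphism of `SL_n` -/
theorem apply_pr_zero (g : GL (Fin n) F) (τ : F ≃+* F) (s : Matrix.SpecialLinearGroup (Fin n) F) :
    (cGL g * fieldPSL τ : MulAut (Matrix.ProjectiveSpecialLinearGroup (Fin n) F)) (pr s)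
      = pr (conjSL g (fieldSL τ s)) := rfl

theorem apply_pr_one (g : GL (Fin n) F) (τ : F ≃+* F) (s : Matrix.SpecialLinearGroup (Fin n) F) :
    (cGL g * fieldPSL τ * iotaT : MulAut (Matrix.ProjectiveSpecialLinearGroup (Fin n) F)) (pr s)
      = pr (conjSL g (fieldSL τ (invT s))) := rfl

/-- **killing the field part**, no graph part -/
theorem tau_fix_zero {r : ℕ} [Fact r.Prime] [CharP F r] [NeZero n] (g : GL (Fin n) F)
    (τ : F ≃+* F) (u : F → Matrix.SpecialLinearGroup (Fin n) F)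
    (N₁ N₂ : Matrix (Fin n) (Fin n) F) (hN₁ : N₁ ≠ 0)
    (hu : ∀ a, ((u a : Matrix.SpecialLinearGroup (Fin n) F) : Matrix (Fin n) (Fin n) F)
      = 1 + a • N₁ + (a * a) • N₂)
    (hpow : ∀ a, u a ^ r = 1)
    (A : Set F) (h1 : (1 : F) ∈ A) (hneg : ∀ a ∈ A, -a ∈ A) (h2 : (2 : F) ≠ 0 ∨ N₂ = 0)
    (hfix : ∀ a ∈ A, (cGL g * fieldPSL τ :
      MulAut (Matrix.ProjectiveSpecialLinearGroup (Fin n) F)) (pr (u a)) = pr (u a)) :
    ∀ a ∈ A, τ a = a := by
  apply tau_fix_of_matrix_family (τ : F →+* F) (g : Matrix (Fin n) (Fin n) F)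
    ((Matrix.isUnit_iff_isUnit_det _).2 ((Matrix.isUnit_iff_isUnit_det _).1 g.isUnit))
    N₁ N₂ (N₁.map τ) (N₂.map τ) hN₁ A h1 hneg
  · rcases h2 with h2 | h2
    · exact Or.inl h2
    · right
      refine ⟨h2, ?_⟩
      rw [h2]
      ext i j
      simp
  · intro a ha
    have h3 := hfix a ha
    rw [apply_pr_zero, pr_eq_iff] at h3
    obtain ⟨c, hc⟩ := h3
    have h4 : u a = conjSL g (fieldSL τ (u a)) := by
      apply smul_eq_of_pow_eq_one _ _ c hc
      · rw [← map_pow, ← map_pow, hpow, map_one, map_one]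
      · exact hpow a
    have h5 := congrArg (fun s : Matrix.SpecialLinearGroup (Fin n) F =>
      (s : Matrix (Fin n) (Fin n) F) * (g : Matrix (Fin n) (Fin n) F)) h4
    simp only [conjSL_coe, fieldSL_coe] at h5
    rw [Matrix.mul_assoc, ← Matrix.GeneralLinearGroup.coe_mul, inv_mul_cancel,
      Matrix.GeneralLinearGroup.coe_one, Matrix.mul_one, hu] at h5
    rw [h5]
    congr 1
    ext i j
    simp [Matrix.map_apply, Matrix.add_apply, Matrix.smul_apply, Matrix.one_apply]

/-- **killing the field part**, with graph part -/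
theorem tau_fix_one {r : ℕ} [Fact r.Prime] [CharP F r] [NeZero n] (g : GL (Fin n) F)
    (τ : F ≃+* F) (u : F → Matrix.SpecialLinearGroup (Fin n) F)
    (N₁ N₂ : Matrix (Fin n) (Fin n) F) (hN₁ : N₁ ≠ 0)
    (hu : ∀ a, ((u a : Matrix.SpecialLinearGroup (Fin n) F) : Matrix (Fin n) (Fin n) F)
      = 1 + a • N₁ + (a * a) • N₂)
    (hinv : ∀ a, (u a)⁻¹ = u (-a))
    (hpow : ∀ a, u a ^ r = 1)
    (A : Set F) (h1 : (1 : F) ∈ A) (hneg : ∀ a ∈ A, -a ∈ A) (h2 : (2 : F) ≠ 0 ∨ N₂ = 0)
    (hfix : ∀ a ∈ A, (cGL g * fieldPSL τ * iotaT :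
      MulAut (Matrix.ProjectiveSpecialLinearGroup (Fin n) F)) (pr (u a)) = pr (u a)) :
    ∀ a ∈ A, τ a = a := by
  apply tau_fix_of_matrix_family (τ : F →+* F) (g : Matrix (Fin n) (Fin n) F)
    ((Matrix.isUnit_iff_isUnit_det _).2 ((Matrix.isUnit_iff_isUnit_det _).1 g.isUnit))
    N₁ N₂ (-(N₁ᵀ.map τ)) (N₂ᵀ.map τ) hN₁ A h1 hneg
  · rcases h2 with h2 | h2
    · exact Or.inl h2
    · right
      refine ⟨h2, ?_⟩
      rw [h2]
      ext i j
      simp
  · intro a ha
    have h3 := hfix a ha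
    rw [apply_pr_one, pr_eq_iff] at h3
    obtain ⟨c, hc⟩ := h3
    have h4 : u a = conjSL g (fieldSL τ (invT (u a))) := by
      apply smul_eq_of_pow_eq_one _ _ c hc
      · rw [← map_pow, ← map_pow, ← map_pow, hpow, map_one, map_one, map_one]
      · exact hpow a
    have h5 := congrArg (fun s : Matrix.SpecialLinearGroup (Fin n) F =>
      (s : Matrix (Fin n) (Fin n) F) * (g : Matrix (Fin n) (Fin n) F)) h4
    simp only [conjSL_coe, fieldSL_coe, invT_coe] at h5
    rw [Matrix.mul_assoc, ← Matrix.GeneralLinearGroup.coe_mul, inv_mul_cancel,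
      Matrix.GeneralLinearGroup.coe_one, Matrix.mul_one, hinv, hu, hu] at h5
    rw [h5]
    congr 1
    ext i j
    simp [Matrix.map_apply, Matrix.add_apply, Matrix.smul_apply, Matrix.one_apply,
      Matrix.transpose_apply]

end Cfsg.Agent.Helper7.LBal
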