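import Mathlib
import Cfsg.Agent.Helper28.Siegel2
import Cfsg.Agent.Helper7.LBal1

set_option autoImplicit false
set_option linter.unusedSectionVars false

/-! Generic facts on the commutator subgroup `Ω(Q)` of the isometry group of a quadratic form with
a hyperbolic pair, in characteristic not two: Siegel elements lie in `Ω`, matrices commuting
projectively with `Ω` are scalar, `Ω` contains a non-scalar involution. -/

namespace Cfsg.Agent.Helper7.LBal

open Matrix Cfsg.Agent.Helper28.IsoTransport Cfsg.Agent.Helper28.Spin Cfsg.Agent.Helper28.Sg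
open scoped commutatorElement

variable {F : Type*} [Field F] {ι : Type} [Fintype ι] [DecidableEq ι]
  (Q : QuadraticForm F (ι → F))

/-- a hyperbolic pair together with a non-singular vector orthogonal to it -/
structure HPair where
  e : ι → F
  f : ι → F
  v : ι → F
  Qe : Q e = 0
  Qf : Q f = 0
  Bef : B Q e f = 1
  Bev : B Q e v = 0
  Bfv : B Q f v = 0
  Qv : Q v ≠ 0

variable {Q}

def HPair.swap (D : HPair Q) : HPair Q :=
  ⟨D.f, D.e, D.v, D.Qf, D.Qe, by rw [B_comm]; exact D.Bef, D.Bfv, D.Bev, D.Qv⟩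

theorem Q_sub_smul {u f : ι → F} (hu : Q u = 0) (hf : Q f = 0) (huf : B Q u f = 1) (c : F) :
    Q (u - c • f) = -c := by
  rw [map_sub'', hu, Q_smul, hf]
  show _ - QuadraticMap.polar ⇑Q u (c • f) = _
  rw [QuadraticMap.polar_smul_right]
  simp only [B] at huf
  rw [huf]
  simp

/-- the hyperbolic rotation `u ↦ c⁻¹ u`, `f ↦ c f` -/
noncomputable def hrot {u f : ι → F} (hu : Q u = 0) (hf : Q f = 0) (huf : B Q u f = 1) (c : F)
    (hc : c ≠ 0) : ↥(Cfsg.isometryGroup F ⇑Q) :=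
  reflO Q (u - c • f) (by rw [Q_sub_smul hu hf huf]; exact neg_ne_zero.2 hc) *
    reflO Q (u - (1 : F) • f) (by rw [Q_sub_smul hu hf huf]; exact neg_ne_zero.2 one_ne_zero)

theorem hrot_mulVec_u {u f : ι → F} (hu : Q u = 0) (hf : Q f = 0) (huf : B Q u f = 1) (c : F)
    (hc : c ≠ 0) : mt Q (hrot hu hf huf c hc) *ᵥ u = c⁻¹ • u := by
  unfold hrot
  rw [mt_mul_mulVec]
  show Cfsg.reflectionMatrix ⇑Q (u - c • f) *ᵥ (Cfsg.reflectionMatrix ⇑Q (u - (1 : F) • f) *ᵥ u) = _
  have huu : QuadraticMap.polar ⇑Q u u = 0 := B_self_of_singular Q hu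
  have hff : QuadraticMap.polar ⇑Q f f = 0 := B_self_of_singular Q hf
  have huf' : QuadraticMap.polar ⇑Q u f = 1 := huf
  have hfu' : QuadraticMap.polar ⇑Q f u = 1 := by rw [QuadraticMap.polar_comm]; exact huf
  rw [refl_mulVec Q (u - (1 : F) • f) u, Q_sub_smul hu hf huf, QuadraticMap.polar_sub_left,
    QuadraticMap.polar_smul_left, huu, hfu']
  have e1 : u - ((-(1 : F))⁻¹ * (0 - (1 : F) • (1 : F))) • (u - (1 : F) • f) = f := by
    simp
  rw [e1, refl_mulVec, Q_sub_smul hu hf huf, QuadraticMap.polar_sub_left,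
    QuadraticMap.polar_smul_left, huf', hff]
  have e2 : ((-c)⁻¹ * (1 - c • (0 : F))) = -c⁻¹ := by
    rw [smul_zero, sub_zero, mul_one, inv_neg]
  rw [e2, smul_sub, smul_smul, neg_mul, inv_mul_cancel₀ hc]
  simp

theorem hrot_mulVec_perp {u f : ι → F} (hu : Q u = 0) (hf : Q f = 0) (huf : B Q u f = 1) (c : F)
    (hc : c ≠ 0) {x : ι → F} (hux : B Q u x = 0) (hfx : B Q f x = 0) :
    mt Q (hrot hu hf huf c hc) *ᵥ x = x := by
  unfold hrot
  rw [mt_mul_mulVec]
  show Cfsg.reflectionMatrix ⇑Q (u - c • f) *ᵥ (Cfsg.reflectionMatrix ⇑Q (u - (1 : F) • f) *ᵥ x) = _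
  simp only [B] at hux hfx
  have e1 : Cfsg.reflectionMatrix ⇑Q (u - (1 : F) • f) *ᵥ x = x :=
    refl_fix Q (by rw [QuadraticMap.polar_sub_left, QuadraticMap.polar_smul_left, hux, hfx]; simp)
  rw [e1]
  exact refl_fix Q (by rw [QuadraticMap.polar_sub_left, QuadraticMap.polar_smul_left, hux, hfx]; simp)

/-- **Siegel elements attached to a hyperbolic pair lie in `Ω`** (characteristic not two) -/
theorem siegO_mem_Omega (h2 : (2 : F) ≠ 0) {u f w : ι → F} (hu : Q u = 0) (hf : Q f = 0)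
    (huf : B Q u f = 1) (huw : B Q u w = 0) (hfw : B Q f w = 0) :
    siegO Q u w hu huw ∈ Cfsg.Omega F ⇑Q := by
  have hc : (2 : F)⁻¹ ≠ 0 := inv_ne_zero h2
  set h := hrot hu hf huf (2 : F)⁻¹ hc with hh
  have h1 : mt Q h *ᵥ u = (2 : F) • u := by
    rw [hh, hrot_mulVec_u, inv_inv]
  have h3 : mt Q h *ᵥ w = w := hrot_mulVec_perp hu hf huf _ hc huw hfw
  have hu' : Q (mt Q h *ᵥ u) = 0 := by rw [isom_apply Q h]; exact hu
  have huv' : B Q (mt Q h *ᵥ u) (mt Q h *ᵥ w) = 0 := by rw [B_isom]; exact huw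
  have e1 := siegO_conj Q h hu huw hu' huv'
  have hu2 : Q ((2 : F) • u) = 0 := by rw [← h1]; exact hu'
  have hu2w : B Q ((2 : F) • u) w = 0 := B_smul_left_zero Q 2 huw
  have hu2w' : B Q u ((2 : F) • w) = 0 := B_smul_right_zero Q 2 huw
  have e2 : siegO Q (mt Q h *ᵥ u) (mt Q h *ᵥ w) hu' huv' = siegO Q u ((2 : F) • w) hu hu2w' := by
    rw [← siegO_smul Q 2 hu huw hu2 hu2w hu2w']
    exact siegO_congr Q hu' huv' hu2 hu2w h1 h3
  have hww : B Q u (w + w) = 0 := B_add_right_zero Q huw huw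
  have e3 : siegO Q u ((2 : F) • w) hu hu2w' = siegO Q u w hu huw * siegO Q u w hu huw := by
    rw [siegO_mul Q hu huw huw hww]
    exact siegO_congr Q hu hu2w' hu hww rfl (two_smul F w)
  have e4 : siegO Q u w hu huw = ⁅h, siegO Q u w hu huw⁆ := by
    rw [commutatorElement_def, e1, e2, e3, mul_inv_cancel_right]
  rw [e4]
  exact Subgroup.commutator_mem_commutator (Subgroup.mem_top _) (Subgroup.mem_top _)

theorem siegO_pow {u w : ι → F} (hu : Q u = 0) (huw : B Q u w = 0) (k : ℕ) :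
    siegO Q u w hu huw ^ k = siegO Q u ((k : F) • w) hu (B_smul_right_zero Q _ huw) := by
  induction k with
  | zero =>
    rw [pow_zero]
    symm
    have : ((0 : ℕ) : F) • w = 0 := by simp
    rw [siegO_congr Q hu (B_smul_right_zero Q _ huw) hu
      (QuadraticMap.polar_zero_right _ _) rfl this]
    exact siegO_zero Q u hu _
  | succ k ih =>
    rw [pow_succ, ih, siegO_mul Q hu (B_smul_right_zero Q _ huw) huw
      (B_add_right_zero Q (B_smul_right_zero Q _ huw) huw)]
    apply siegO_congr Q hu _ hu _ rfl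
    push_cast
    rw [add_smul, one_smul]

theorem siegO_pow_char {r : ℕ} [CharP F r] {u w : ι → F} (hu : Q u = 0) (huw : B Q u w = 0) :
    siegO Q u w hu huw ^ r = 1 := by
  rw [siegO_pow]
  have : ((r : ℕ) : F) • w = 0 := by rw [CharP.cast_eq_zero, zero_smul]
  rw [siegO_congr Q hu (B_smul_right_zero Q _ huw) hu
    (QuadraticMap.polar_zero_right _ _) rfl this]
  exact siegO_zero Q u hu _

end Cfsg.Agent.Helper7.LBal
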