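import Mathlib
import Cfsg.Agent.Helper7.LBal3

set_option autoImplicit false
set_option linter.unusedSectionVars false

/-! A matrix commuting projectively with `Ω(Q)` is scalar (hyperbolic pair, characteristic
not two). -/

namespace Cfsg.Agent.Helper7.LBal

open Matrix Cfsg.Agent.Helper28.IsoTransport Cfsg.Agent.Helper28.Spin Cfsg.Agent.Helper28.Sg
open scoped commutatorElement

variable {F : Type*} [Field F] {ι : Type} [Fintype ι] [DecidableEq ι]
  {Q : QuadraticForm F (ι → F)}

/-- from projective commutation with a unipotent element of order `r` to commutation -/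
theorem commute_of_proj {r : ℕ} [Fact r.Prime] [CharP F r] [Nonempty ι] (K K' : Matrix ι ι F)
    (hKK' : K * K' = 1) (hK'K : K' * K = 1) (S : Matrix ι ι F) (hS : S ^ r = 1) (c : F)
    (h : K * S * K' = c • S) : K * S = S * K := by
  have h1 : (K * S * K') ^ r = 1 := by
    have : ∀ k : ℕ, (K * S * K') ^ k = K * S ^ k * K' := by
      intro k
      induction k with
      | zero => rw [pow_zero, pow_zero, Matrix.mul_one, hKK']
      | succ k ih =>
        rw [pow_succ, ih, pow_succ]
        calc K * S ^ k * K' * (K * S * K') = K * S ^ k * (K' * K) * S * K' := by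
              simp only [Matrix.mul_assoc]
          _ = K * (S ^ k * S) * K' := by rw [hK'K, Matrix.mul_one, Matrix.mul_assoc K]
    rw [this, hS, Matrix.mul_one, hKK']
  rw [h, smul_pow, hS] at h1
  have h2 : c ^ r = 1 := by
    obtain ⟨i⟩ := (inferInstance : Nonempty ι)
    have := congrFun (congrFun h1 i) i
    simpa using this
  have h3 : c = 1 := by
    have : frobenius F r c = frobenius F r 1 := by
      rw [frobenius_def, frobenius_def, h2, one_pow]
    exact frobenius_inj F r this
  rw [h3, one_smul] at h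
  calc K * S = K * S * (K' * K) := by rw [hK'K, Matrix.mul_one]
    _ = (K * S * K') * K := by simp only [Matrix.mul_assoc]
    _ = S * K := by rw [h]

/-- decomposition along a hyperbolic pair -/
theorem B_decomp (D : HPair Q) (x y : ι → F)
    (he : B Q y D.e = 0) (hf : B Q y D.f = 0)
    (hW : ∀ w, B Q D.e w = 0 → B Q D.f w = 0 → B Q y w = 0) : B Q y x = 0 := by
  set xW := x - B Q D.f x • D.e - B Q D.e x • D.f with hxW
  have h1 : B Q D.e xW = 0 := by
    have hee : QuadraticMap.polar ⇑Q D.e D.e = 0 := B_self_of_singular Q D.Qe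
    have hef : QuadraticMap.polar ⇑Q D.e D.f = 1 := D.Bef
    rw [hxW]
    show QuadraticMap.polar ⇑Q D.e _ = 0
    rw [QuadraticMap.polar_sub_right, QuadraticMap.polar_sub_right, QuadraticMap.polar_smul_right,
      QuadraticMap.polar_smul_right, hee, hef]
    simp
  have h2 : B Q D.f xW = 0 := by
    have hff : QuadraticMap.polar ⇑Q D.f D.f = 0 := B_self_of_singular Q D.Qf
    have hfe : QuadraticMap.polar ⇑Q D.f D.e = 1 := by
      rw [QuadraticMap.polar_comm]; exact D.Bef
    rw [hxW]
    show QuadraticMap.polar ⇑Q D.f _ = 0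
    rw [QuadraticMap.polar_sub_right, QuadraticMap.polar_sub_right, QuadraticMap.polar_smul_right,
      QuadraticMap.polar_smul_right, hff, hfe]
    simp
  have h3 : x = xW + B Q D.f x • D.e + B Q D.e x • D.f := by
    rw [hxW]; abel
  have h4 := hW xW h1 h2
  rw [h3]
  show QuadraticMap.polar ⇑Q y _ = 0
  simp only [B] at he hf h4
  rw [QuadraticMap.polar_add_right, QuadraticMap.polar_add_right, QuadraticMap.polar_smul_right,
    QuadraticMap.polar_smul_right, he, hf, h4]
  simp

theorem v_ne_zero (D : HPair Q) : D.v ≠ 0 := by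
  intro h
  apply D.Qv
  rw [h, map_zero]

/-- a matrix commuting with the Siegel elements `ρ_{e,w}` maps `e` to a multiple of `e` -/
theorem mulVec_e_of_commute (hQ : (QuadraticMap.polarBilin Q).Nondegenerate) (D : HPair Q)
    (K : Matrix ι ι F)
    (hcomm : ∀ w, B Q D.e w = 0 → B Q D.f w = 0 → K * siegM Q D.e w = siegM Q D.e w * K) :
    K *ᵥ D.e = B Q D.f (K *ᵥ D.e) • D.e := by
  have hee : B Q D.e D.e = 0 := B_self_of_singular Q D.Qe
  -- `ρ_w (K e) = K e`
  have h1 : ∀ w, B Q D.e w = 0 → B Q D.f w = 0 →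
      B Q D.e (K *ᵥ D.e) • w = (B Q w (K *ᵥ D.e) + Q w * B Q D.e (K *ᵥ D.e)) • D.e := by
    intro w hew hfw
    have h := congrArg (fun M => M *ᵥ D.e) (hcomm w hew hfw)
    simp only [← Matrix.mulVec_mulVec] at h
    rw [siegM_mulVec Q D.e w D.e, siegM_mulVec] at h
    have hwe : B Q w D.e = 0 := by rw [B_comm]; exact hew
    rw [hee, hwe] at h
    simp only [zero_smul, mul_zero, sub_zero, add_zero] at h
    have h' : B Q D.e (K *ᵥ D.e) • w - B Q w (K *ᵥ D.e) • D.e
        - (Q w * B Q D.e (K *ᵥ D.e)) • D.e = 0 := by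
      have := h.symm
      rw [sub_sub, add_sub_assoc, add_eq_left] at this
      rw [sub_sub]
      exact this
    rw [add_smul]
    rw [sub_sub, sub_eq_zero] at h'
    exact h'
  -- apply `B(f, ·)`
  have h2 : ∀ w, B Q D.e w = 0 → B Q D.f w = 0 →
      B Q w (K *ᵥ D.e) + Q w * B Q D.e (K *ᵥ D.e) = 0 := by
    intro w hew hfw
    have h := congrArg (fun z => B Q D.f z) (h1 w hew hfw)
    simp only [B, QuadraticMap.polar_smul_right, smul_eq_mul] at h
    simp only [B] at hfw
    rw [hfw, mul_zero] at h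
    have hfe : QuadraticMap.polar ⇑Q D.f D.e = 1 := by
      rw [QuadraticMap.polar_comm]; exact D.Bef
    rw [hfe, mul_one] at h
    exact h.symm
  have h3 : B Q D.e (K *ᵥ D.e) = 0 := by
    have h := h1 D.v D.Bev D.Bfv
    rw [h2 D.v D.Bev D.Bfv, zero_smul] at h
    rcases smul_eq_zero.1 h with h | h
    · exact h
    · exact absurd h (v_ne_zero D)
  have h4 : ∀ w, B Q D.e w = 0 → B Q D.f w = 0 → B Q w (K *ᵥ D.e) = 0 := by
    intro w hew hfw
    have := h2 w hew hfw
    rwa [h3, mul_zero, add_zero] at this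
  -- `y = K e - B(f, K e) e` is orthogonal to everything
  set y := K *ᵥ D.e - B Q D.f (K *ᵥ D.e) • D.e with hy
  have hy0 : y = 0 := by
    apply hQ.1 y
    intro x
    apply B_decomp D x y
    · show QuadraticMap.polar ⇑Q y D.e = 0
      rw [hy, QuadraticMap.polar_sub_left, QuadraticMap.polar_smul_left]
      have : QuadraticMap.polar ⇑Q (K *ᵥ D.e) D.e = 0 := by
        rw [QuadraticMap.polar_comm]; exact h3
      simp only [B] at hee
      rw [this, hee]
      simp
    · show QuadraticMap.polar ⇑Q y D.f = 0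
      rw [hy, QuadraticMap.polar_sub_left, QuadraticMap.polar_smul_left]
      have hef : QuadraticMap.polar ⇑Q D.e D.f = 1 := D.Bef
      rw [hef, QuadraticMap.polar_comm (⇑Q) (K *ᵥ D.e) D.f]
      simp
    · intro w hew hfw
      show QuadraticMap.polar ⇑Q y w = 0
      rw [hy, QuadraticMap.polar_sub_left, QuadraticMap.polar_smul_left]
      have := h4 w hew hfw
      simp only [B] at this hew
      rw [QuadraticMap.polar_comm (⇑Q) (K *ᵥ D.e) w, this, hew]
      simp
  exact sub_eq_zero.1 hy0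

theorem siegM_pow_char {r : ℕ} [CharP F r] {u w : ι → F} (hu : Q u = 0) (huw : B Q u w = 0) :
    siegM Q u w ^ r = 1 := by
  have h := siegO_pow_char (r := r) hu huw
  have h1 := congrArg (fun g : ↥(Cfsg.isometryGroup F ⇑Q) => mt Q g) h
  exact h1

/-- the image of `w` under a matrix commuting with `ρ_{e,w}`, given the images of `e` and `f` -/
theorem mulVec_w_of_commute (D : HPair Q) (K : Matrix ι ι F) (α β : F)
    (he : K *ᵥ D.e = α • D.e) (hf : K *ᵥ D.f = β • D.f) (w : ι → F)
    (hew : B Q D.e w = 0) (hfw : B Q D.f w = 0)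
    (hcomm : K * siegM Q D.e w = siegM Q D.e w * K) :
    K *ᵥ w = β • w + ((α - β) * Q w) • D.e := by
  have h := congrArg (fun M => M *ᵥ D.f) hcomm
  simp only [← Matrix.mulVec_mulVec] at h
  rw [siegM_mulVec Q D.e w D.f, hf, Matrix.mulVec_smul, siegM_mulVec] at h
  have hwf : B Q w D.f = 0 := by rw [B_comm]; exact hfw
  rw [D.Bef, hwf] at h
  simp only [zero_smul, sub_zero, one_smul, mul_one, Matrix.mulVec_add, Matrix.mulVec_sub,
    Matrix.mulVec_smul, he, hf] at h
  have h' : K *ᵥ w = β • (D.f + w - Q w • D.e) - β • D.f + Q w • α • D.e := by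
    rw [← h]; abel
  rw [h']
  module

/-- **a matrix commuting projectively with `Ω(Q)` is scalar** -/
theorem scalar_of_proj_commute {r : ℕ} [Fact r.Prime] [CharP F r] [Nonempty ι] (h2 : (2 : F) ≠ 0)
    (hQ : (QuadraticMap.polarBilin Q).Nondegenerate) (D : HPair Q) (K K' : Matrix ι ι F)
    (hKK' : K * K' = 1) (hK'K : K' * K = 1)
    (hk : ∀ s : ↥(Cfsg.isometryGroup F ⇑Q), s ∈ Cfsg.Omega F ⇑Q →
      ∃ c : F, K * mt Q s * K' = c • mt Q s) : ∃ α : F, K = α • (1 : Matrix ι ι F) := by
  have hfe : B Q D.f D.e = 1 := by rw [B_comm]; exact D.Bef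
  have hcomm_e : ∀ w, B Q D.e w = 0 → B Q D.f w = 0 → K * siegM Q D.e w = siegM Q D.e w * K := by
    intro w hew hfw
    obtain ⟨c, hc⟩ := hk _ (siegO_mem_Omega h2 D.Qe D.Qf D.Bef hew hfw)
    exact commute_of_proj (r := r) K K' hKK' hK'K _ (siegM_pow_char D.Qe hew) c hc
  have hcomm_f : ∀ w, B Q D.f w = 0 → B Q D.e w = 0 → K * siegM Q D.f w = siegM Q D.f w * K := by
    intro w hfw hew
    obtain ⟨c, hc⟩ := hk _ (siegO_mem_Omega h2 D.Qf D.Qe hfe hfw hew)
    exact commute_of_proj (r := r) K K' hKK' hK'K _ (siegM_pow_char D.Qf hfw) c hc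
  have he := mulVec_e_of_commute hQ D K hcomm_e
  have hf := mulVec_e_of_commute hQ D.swap K hcomm_f
  set α := B Q D.f (K *ᵥ D.e) with hα
  set β := B Q D.e (K *ᵥ D.f) with hβ
  have hf' : K *ᵥ D.f = β • D.f := hf
  have hA : ∀ w, B Q D.e w = 0 → B Q D.f w = 0 → K *ᵥ w = β • w + ((α - β) * Q w) • D.e :=
    fun w hew hfw => mulVec_w_of_commute D K α β he hf' w hew hfw (hcomm_e w hew hfw)
  have hB : ∀ w, B Q D.e w = 0 → B Q D.f w = 0 → K *ᵥ w = α • w + ((β - α) * Q w) • D.f :=
    fun w hew hfw => mulVec_w_of_commute D.swap K β α hf' he w hfw hew (hcomm_f w hfw hew)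
  have hαβ : α = β := by
    have h := (hA D.v D.Bev D.Bfv).symm.trans (hB D.v D.Bev D.Bfv)
    have h' := congrArg (fun z => B Q D.f z) h
    simp only [B, QuadraticMap.polar_add_right, QuadraticMap.polar_smul_right, smul_eq_mul] at h'
    have hff : QuadraticMap.polar ⇑Q D.f D.f = 0 := B_self_of_singular Q D.Qf
    have hfv : QuadraticMap.polar ⇑Q D.f D.v = 0 := D.Bfv
    have hfe' : QuadraticMap.polar ⇑Q D.f D.e = 1 := hfe
    rw [hff, hfv, hfe'] at h'
    simp only [mul_zero, mul_one, zero_add, add_zero] at h'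
    rcases mul_eq_zero.1 h' with h'' | h''
    · exact sub_eq_zero.1 h''
    · exact absurd h'' D.Qv
  refine ⟨α, ?_⟩
  apply matrix_ext_mulVec
  intro x
  rw [Matrix.smul_mulVec, Matrix.one_mulVec]
  set xW := x - B Q D.f x • D.e - B Q D.e x • D.f with hxW
  have h1 : B Q D.e xW = 0 := by
    have hee : QuadraticMap.polar ⇑Q D.e D.e = 0 := B_self_of_singular Q D.Qe
    have hef : QuadraticMap.polar ⇑Q D.e D.f = 1 := D.Bef
    rw [hxW]
    show QuadraticMap.polar ⇑Q D.e _ = 0
    rw [QuadraticMap.polar_sub_right, QuadraticMap.polar_sub_right, QuadraticMap.polar_smul_right,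
      QuadraticMap.polar_smul_right, hee, hef]
    simp
  have h2' : B Q D.f xW = 0 := by
    have hff : QuadraticMap.polar ⇑Q D.f D.f = 0 := B_self_of_singular Q D.Qf
    have hfe' : QuadraticMap.polar ⇑Q D.f D.e = 1 := hfe
    rw [hxW]
    show QuadraticMap.polar ⇑Q D.f _ = 0
    rw [QuadraticMap.polar_sub_right, QuadraticMap.polar_sub_right, QuadraticMap.polar_smul_right,
      QuadraticMap.polar_smul_right, hff, hfe']
    simp
  have h3 : x = xW + B Q D.f x • D.e + B Q D.e x • D.f := by
    rw [hxW]; abel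
  have h4 := hA xW h1 h2'
  rw [← hαβ, sub_self, zero_mul, zero_smul, add_zero] at h4
  conv_lhs => rw [h3]
  rw [Matrix.mulVec_add, Matrix.mulVec_add, Matrix.mulVec_smul, Matrix.mulVec_smul, he, hf',
    h4, ← hαβ]
  conv_rhs => rw [h3]
  module

end Cfsg.Agent.Helper7.LBal
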