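import Mathlib
import Cfsg.Agent.Helper7.LBal4

set_option autoImplicit false
set_option linter.unusedSectionVars false

/-! `Ω(Q)` contains a non-scalar involution; the Siegel family as a polynomial family. -/

namespace Cfsg.Agent.Helper7.LBal

open Matrix Cfsg.Agent.Helper28.IsoTransport Cfsg.Agent.Helper28.Spin Cfsg.Agent.Helper28.Sg
open scoped commutatorElement

variable {F : Type*} [Field F] {ι : Type} [Fintype ι] [DecidableEq ι]
  {Q : QuadraticForm F (ι → F)}

theorem reflO_congr {a b : ι → F} (ha : Q a ≠ 0) (hb : Q b ≠ 0) (h : a = b) :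
    reflO Q a ha = reflO Q b hb := by
  subst h; rfl

/-- **a non-scalar involution in `Ω(Q)`** -/
theorem exists_involution (h2 : (2 : F) ≠ 0) (D : HPair Q) :
    ∃ s : ↥(Cfsg.isometryGroup F ⇑Q), s ∈ Cfsg.Omega F ⇑Q ∧ s * s = 1 ∧
      ¬ ∃ c : F, mt Q s = c • (1 : Matrix ι ι F) := by
  set c := Q D.v with hc
  have hc0 : c ≠ 0 := D.Qv
  set u := D.e + c • D.f with hu
  have hee : QuadraticMap.polar ⇑Q D.e D.e = 0 := B_self_of_singular Q D.Qe
  have hff : QuadraticMap.polar ⇑Q D.f D.f = 0 := B_self_of_singular Q D.Qf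
  have hef : QuadraticMap.polar ⇑Q D.e D.f = 1 := D.Bef
  have hfe : QuadraticMap.polar ⇑Q D.f D.e = 1 := by rw [QuadraticMap.polar_comm]; exact D.Bef
  have hev : QuadraticMap.polar ⇑Q D.e D.v = 0 := D.Bev
  have hfv : QuadraticMap.polar ⇑Q D.f D.v = 0 := D.Bfv
  have hQu : Q u = c := by
    rw [hu, Q_add, D.Qe, Q_smul, D.Qf]
    show _ + _ + QuadraticMap.polar ⇑Q D.e (c • D.f) = _
    rw [QuadraticMap.polar_smul_right, hef]
    simp
  have hQu0 : Q u ≠ 0 := by rw [hQu]; exact hc0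
  have huv : QuadraticMap.polar ⇑Q u D.v = 0 := by
    rw [hu, QuadraticMap.polar_add_left, QuadraticMap.polar_smul_left, hev, hfv]
    simp
  have hQd : Q (u - D.v) = 2 * c := by
    rw [map_sub'', hQu, huv]
    ring
  have hQd0 : Q (u - D.v) ≠ 0 := by rw [hQd]; exact mul_ne_zero h2 hc0
  set h := reflO Q (u - D.v) hQd0 with hh
  have hmove : ((h : GL ι F) : Matrix ι ι F) *ᵥ D.v = u := refl_move Q hQu hQd0
  have hv' : Q (((h : GL ι F) : Matrix ι ι F) *ᵥ D.v) ≠ 0 := by rw [hmove]; exact hQu0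
  have e1 : reflO Q u hQu0 = h * reflO Q D.v D.Qv * h⁻¹ := by
    rw [← reflO_conj Q h D.v D.Qv hv']
    exact reflO_congr hQu0 hv' hmove.symm
  set s := reflO Q u hQu0 * reflO Q D.v D.Qv with hs
  have e2 : s = ⁅h, reflO Q D.v D.Qv⁆ := by
    rw [commutatorElement_def, hs, e1, reflO_inv Q D.v D.Qv]
  -- the two reflections commute
  have hfix : ((reflO Q u hQu0 : GL ι F) : Matrix ι ι F) *ᵥ D.v = D.v := refl_fix Q huv
  have hv'' : Q (((reflO Q u hQu0 : GL ι F) : Matrix ι ι F) *ᵥ D.v) ≠ 0 := by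
    rw [hfix]; exact D.Qv
  have e3 : reflO Q D.v D.Qv = reflO Q u hQu0 * reflO Q D.v D.Qv * (reflO Q u hQu0)⁻¹ := by
    rw [← reflO_conj Q (reflO Q u hQu0) D.v D.Qv hv'']
    exact reflO_congr D.Qv hv'' hfix.symm
  have e4 : reflO Q D.v D.Qv * reflO Q u hQu0 = reflO Q u hQu0 * reflO Q D.v D.Qv := by
    conv_lhs => rw [e3]
    rw [inv_mul_cancel_right]
  refine ⟨s, ?_, ?_, ?_⟩
  · rw [e2]
    exact Subgroup.commutator_mem_commutator (Subgroup.mem_top _) (Subgroup.mem_top _)
  · rw [hs]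
    calc reflO Q u hQu0 * reflO Q D.v D.Qv * (reflO Q u hQu0 * reflO Q D.v D.Qv)
        = reflO Q u hQu0 * (reflO Q D.v D.Qv * reflO Q u hQu0) * reflO Q D.v D.Qv := by group
      _ = 1 := by
        rw [e4, ← mul_assoc, reflO_mul_self, one_mul, reflO_mul_self]
  · rintro ⟨l, hl⟩
    have h5 : mt Q s *ᵥ D.v = -D.v := by
      rw [hs, mt_mul_mulVec]
      show Cfsg.reflectionMatrix ⇑Q u *ᵥ (Cfsg.reflectionMatrix ⇑Q D.v *ᵥ D.v) = _
      rw [refl_self Q D.Qv, Matrix.mulVec_neg, refl_fix Q huv]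
    set x₀ := D.e - c • D.f with hx₀
    have h6 : mt Q s *ᵥ x₀ = x₀ := by
      rw [hs, mt_mul_mulVec]
      show Cfsg.reflectionMatrix ⇑Q u *ᵥ (Cfsg.reflectionMatrix ⇑Q D.v *ᵥ x₀) = _
      have hvx : QuadraticMap.polar ⇑Q D.v x₀ = 0 := by
        rw [hx₀, QuadraticMap.polar_sub_right, QuadraticMap.polar_smul_right,
          QuadraticMap.polar_comm (⇑Q) D.v D.e, QuadraticMap.polar_comm (⇑Q) D.v D.f, hev, hfv]
        simp
      have hux : QuadraticMap.polar ⇑Q u x₀ = 0 := by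
        rw [hu, hx₀, QuadraticMap.polar_add_left, QuadraticMap.polar_sub_right,
          QuadraticMap.polar_sub_right, QuadraticMap.polar_smul_left,
          QuadraticMap.polar_smul_right, QuadraticMap.polar_smul_left,
          QuadraticMap.polar_smul_right, hee, hef, hfe, hff]
        simp
      rw [refl_fix Q hvx, refl_fix Q hux]
    rw [hl, Matrix.smul_mulVec, Matrix.one_mulVec] at h5 h6
    have hl1 : l = -1 := by
      have : (l + 1) • D.v = 0 := by rw [add_smul, one_smul, h5, neg_add_cancel]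
      rcases smul_eq_zero.1 this with h7 | h7
      · exact eq_neg_of_add_eq_zero_left h7
      · exact absurd h7 (v_ne_zero D)
    have hx₀0 : x₀ ≠ 0 := by
      intro h0
      have : QuadraticMap.polar ⇑Q D.f x₀ = 1 := by
        rw [hx₀, QuadraticMap.polar_sub_right, QuadraticMap.polar_smul_right, hfe, hff]
        simp
      rw [h0, QuadraticMap.polar_zero_right] at this
      exact zero_ne_one this
    have hl2 : l = 1 := by
      have : (l - 1) • x₀ = 0 := by rw [sub_smul, one_smul, h6, sub_self]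
      rcases smul_eq_zero.1 this with h7 | h7
      · exact sub_eq_zero.1 h7
      · exact absurd h7 hx₀0
    rw [hl1] at hl2
    apply h2
    have : (2 : F) = 1 - (-1) := by ring
    rw [this, hl2, sub_self]

/-- the linear part of the Siegel family -/
def famN₁ (Q : QuadraticForm F (ι → F)) (u v : ι → F) : Matrix ι ι F :=
  Matrix.vecMulVec v (Cfsg.polarVec ⇑Q u) - Matrix.vecMulVec u (Cfsg.polarVec ⇑Q v)

/-- the quadratic part of the Siegel family -/
def famN₂ (Q : QuadraticForm F (ι → F)) (u v : ι → F) : Matrix ι ι F :=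
  -(Q v • Matrix.vecMulVec u (Cfsg.polarVec ⇑Q u))

theorem famN₁_mulVec (u v x : ι → F) : famN₁ Q u v *ᵥ x = B Q u x • v - B Q v x • u := by
  unfold famN₁
  rw [Matrix.sub_mulVec, Matrix.vecMulVec_mulVec, Matrix.vecMulVec_mulVec, polarVec_dot,
    polarVec_dot]
  ext i
  simp only [Pi.sub_apply, Pi.smul_apply, MulOpposite.smul_eq_mul_unop, MulOpposite.unop_op,
    smul_eq_mul]
  ring

theorem famN₂_mulVec (u v x : ι → F) : famN₂ Q u v *ᵥ x = -((Q v * B Q u x) • u) := by
  unfold famN₂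
  rw [Matrix.neg_mulVec, Matrix.smul_mulVec, Matrix.vecMulVec_mulVec, polarVec_dot]
  ext i
  simp only [Pi.neg_apply, Pi.smul_apply, MulOpposite.smul_eq_mul_unop, MulOpposite.unop_op,
    smul_eq_mul]
  ring

/-- **the Siegel family is polynomial** -/
theorem siegM_smul_eq (u v : ι → F) (a : F) :
    siegM Q u (a • v) = 1 + a • famN₁ Q u v + (a * a) • famN₂ Q u v := by
  apply matrix_ext_mulVec
  intro x
  rw [siegM_mulVec, Matrix.add_mulVec, Matrix.add_mulVec, Matrix.one_mulVec, Matrix.smul_mulVec,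
    Matrix.smul_mulVec, famN₁_mulVec, famN₂_mulVec, Q_smul]
  simp only [B, QuadraticMap.polar_smul_left, smul_eq_mul]
  module

theorem famN₁_ne_zero (D : HPair Q) : famN₁ Q D.e D.v ≠ 0 := by
  intro h
  have h1 := congrArg (fun M => M *ᵥ D.f) h
  simp only [famN₁_mulVec, Matrix.zero_mulVec] at h1
  have hvf : B Q D.v D.f = 0 := by rw [B_comm]; exact D.Bfv
  rw [D.Bef, hvf, one_smul, zero_smul, sub_zero] at h1
  exact v_ne_zero D h1

end Cfsg.Agent.Helper7.LBal
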