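import Mathlib
import Cfsg.Agent.Helper7.LBal5
import Cfsg.Agent.Helper7.LBal2
import Cfsg.Agent.Helper7.GraphSplit1
import Cfsg.Agent.Helper28.PgoAut1
import Cfsg.Agent.Helper28.FieldB4

set_option autoImplicit false
set_option linter.unusedSectionVars false

/-! The `2'`-core of the centralizer of a symmetric graph involution of `PSL_n(F)`: set-up. -/

namespace Cfsg.Agent.Helper7.LBal

open Matrix Cfsg.Agent.Helper28.IsoTransport Cfsg.Agent.Helper28.Spin Cfsg.Agent.Helper28.Sg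
  Cfsg.Agent.Helper7.GraphPSL Cfsg.Agent.Helper7.AutPSL Cfsg.Agent.Helper28.PG
open scoped commutatorElement

variable {n : ℕ} {F : Type*} [Field F]
variable {ι' : Type} [Fintype ι'] [DecidableEq ι']
variable {Q : QuadraticForm F (ι' → F)}

/-- elements of `Ω(Q)` have determinant one -/
theorem det_eq_one_of_mem_Omega (s : ↥(Cfsg.isometryGroup F ⇑Q)) (hs : s ∈ Cfsg.Omega F ⇑Q) :
    Matrix.GeneralLinearGroup.det (s : GL ι' F) = 1 := by
  set f : ↥(Cfsg.isometryGroup F ⇑Q) →* Fˣ :=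
    (Matrix.GeneralLinearGroup.det : GL ι' F →* Fˣ).comp (Subgroup.subtype _) with hf
  have h1 : commutator ↥(Cfsg.isometryGroup F ⇑Q) ≤ f.ker := Abelianization.commutator_subset_ker f
  exact h1 hs

variable (P : Matrix (Fin n) ι' F) (P' : Matrix ι' (Fin n) F)

/-- the coordinate change followed by inverse transpose -/
def thetaGL (h1 : P * P' = 1) (h2 : P' * P = 1) : GL ι' F →* GL (Fin n) F :=
  invTGL.comp (conjP P P' h1 h2)

theorem PhiP_eq (h1 : P * P' = 1) (h2 : P' * P = 1) (k : GL ι' F) :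
    PhiP P P' h1 h2 k = cGL (thetaGL P P' h1 h2 k) := rfl

theorem det_thetaGL (h1 : P * P' = 1) (h2 : P' * P = 1) (k : GL ι' F) :
    Matrix.GeneralLinearGroup.det (thetaGL P P' h1 h2 k)
      = (Matrix.GeneralLinearGroup.det k)⁻¹ := by
  have e1 : Matrix.GeneralLinearGroup.det (conjP P P' h1 h2 k) = Matrix.GeneralLinearGroup.det k := by
    apply Units.ext
    show (P * (k : Matrix ι' ι' F) * P').det = (k : Matrix ι' ι' F).det
    exact Matrix.det_conj_of_mul_eq_one h1 h2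
  have e2 : ∀ g : GL (Fin n) F, Matrix.GeneralLinearGroup.det (invTGL g)
      = (Matrix.GeneralLinearGroup.det g)⁻¹ := by
    intro g
    rw [← map_inv]
    apply Units.ext
    show ((invTGL g : GL (Fin n) F) : Matrix (Fin n) (Fin n) F).det
      = ((g⁻¹ : GL (Fin n) F) : Matrix (Fin n) (Fin n) F).det
    rw [invTGL_coe, Matrix.det_transpose]
  show Matrix.GeneralLinearGroup.det (invTGL (conjP P P' h1 h2 k)) = _
  rw [e2, e1]

/-- the hom `Ω(Q) →* SL_n(F)` -/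
noncomputable def ThetaSL (h1 : P * P' = 1) (h2 : P' * P = 1) :
    ↥(Cfsg.Omega F ⇑Q) →* Matrix.SpecialLinearGroup (Fin n) F where
  toFun s := ⟨((thetaGL P P' h1 h2 ((s : ↥(Cfsg.isometryGroup F ⇑Q)) : GL ι' F) : GL (Fin n) F) :
      Matrix (Fin n) (Fin n) F), by
    have := det_thetaGL P P' h1 h2 ((s : ↥(Cfsg.isometryGroup F ⇑Q)) : GL ι' F)
    rw [det_eq_one_of_mem_Omega _ s.2, inv_one] at this
    exact congrArg Units.val this⟩
  map_one' := by
    apply Subtype.ext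
    show ((thetaGL P P' h1 h2 (1 : GL ι' F) : GL (Fin n) F) : Matrix (Fin n) (Fin n) F) = 1
    rw [map_one]; rfl
  map_mul' s t := by
    apply Subtype.ext
    show ((thetaGL P P' h1 h2 (((s : ↥(Cfsg.isometryGroup F ⇑Q)) : GL ι' F) *
      ((t : ↥(Cfsg.isometryGroup F ⇑Q)) : GL ι' F)) : GL (Fin n) F) :
        Matrix (Fin n) (Fin n) F) = _
    rw [map_mul]; rfl

theorem toGL_ThetaSL (h1 : P * P' = 1) (h2 : P' * P = 1) (s : ↥(Cfsg.Omega F ⇑Q)) :
    Matrix.SpecialLinearGroup.toGL (ThetaSL P P' h1 h2 s)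
      = thetaGL P P' h1 h2 ((s : ↥(Cfsg.isometryGroup F ⇑Q)) : GL ι' F) := by
  apply Units.ext
  rfl

/-- the hom `Ω(Q) →* Aut(PSL_n)` -/
noncomputable def psiOm (h1 : P * P' = 1) (h2 : P' * P = 1) :
    ↥(Cfsg.Omega F ⇑Q) →* MulAut (Matrix.ProjectiveSpecialLinearGroup (Fin n) F) :=
  (PhiP P P' h1 h2).comp ((Subgroup.subtype _).comp (Subgroup.subtype _))

theorem psiOm_apply (h1 : P * P' = 1) (h2 : P' * P = 1) (s : ↥(Cfsg.Omega F ⇑Q)) :
    psiOm P P' h1 h2 s = PhiP P P' h1 h2 ((s : ↥(Cfsg.isometryGroup F ⇑Q)) : GL ι' F) := rfl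

theorem psiOm_eq_conj (h1 : P * P' = 1) (h2 : P' * P = 1) (s : ↥(Cfsg.Omega F ⇑Q)) :
    psiOm P P' h1 h2 s = MulAut.conj (pr (ThetaSL P P' h1 h2 s)) := by
  rw [psiOm_apply, PhiP_eq, ← toGL_ThetaSL, Cfsg.Agent.Helper7.GraphSplit.cGL_toGL]
  rfl

end Cfsg.Agent.Helper7.LBal
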