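import Mathlib
import Cfsg.Agent.Helper7.LBal6

set_option autoImplicit false
set_option linter.unusedSectionVars false

/-! The `2'`-core of the centralizer of a symmetric graph involution of `PSL_n(F)`: Step I. -/

namespace Cfsg.Agent.Helper7.LBal

open Matrix Cfsg.Agent.Helper28.IsoTransport Cfsg.Agent.Helper28.Spin Cfsg.Agent.Helper28.Sg
  Cfsg.Agent.Helper7.GraphPSL Cfsg.Agent.Helper7.AutPSL Cfsg.Agent.Helper28.PG
open scoped commutatorElement

variable {n : ℕ} {F : Type*} [Field F]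
variable {ι' : Type} [Fintype ι'] [DecidableEq ι']
variable {Q : QuadraticForm F (ι' → F)}
variable (P : Matrix (Fin n) ι' F) (P' : Matrix ι' (Fin n) F) (h1 : P * P' = 1) (h2 : P' * P = 1)
variable (g₀ : GL (Fin n) F)

/-- the hypothesis identifying the similarity group with the centralizer condition -/
def SimHyp (Q : QuadraticForm F (ι' → F)) (P : Matrix (Fin n) ι' F) (g₀ : GL (Fin n) F) : Prop :=
  ∀ k : GL ι' F, k ∈ GO Q ↔
    ∃ c : Fˣ, (k : Matrix ι' ι' F)ᵀ * (Pᵀ * (g₀ : Matrix (Fin n) (Fin n) F) * P)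
      * (k : Matrix ι' ι' F) = (c : F) • (Pᵀ * (g₀ : Matrix (Fin n) (Fin n) F) * P)

theorem PhiP_mem_centralizer_iff (hS : SimHyp Q P g₀) (k : GL ι' F) :
    PhiP P P' h1 h2 k ∈ Subgroup.centralizer {graphAut g₀} ↔ k ∈ GO Q := by
  rw [Subgroup.mem_centralizer_singleton_iff, hS k, ← PhiP_commute_iff P P' h1 h2 g₀ k]

theorem psiOm_mem_centralizer (hS : SimHyp Q P g₀) (s : ↥(Cfsg.Omega F ⇑Q)) :
    psiOm P P' h1 h2 s ∈ Subgroup.centralizer {graphAut g₀} := by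
  rw [psiOm_apply, PhiP_mem_centralizer_iff P P' h1 h2 g₀ hS]
  exact O_le_GO Q (s : ↥(Cfsg.isometryGroup F ⇑Q)).2

theorem exists_of_mem_inf (hS : SimHyp Q P g₀)
    (d : MulAut (Matrix.ProjectiveSpecialLinearGroup (Fin n) F))
    (hd : d ∈ Cfsg.inndiagPSL n F ⊓ Subgroup.centralizer {graphAut g₀}) :
    ∃ k : ↥(GO Q), d = PhiP P P' h1 h2 (k : GL ι' F) := by
  have h3 : d ∈ (PhiP P P' h1 h2).range := by rw [range_PhiP]; exact hd.1
  obtain ⟨k, rfl⟩ := h3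
  exact ⟨⟨k, (PhiP_mem_centralizer_iff P P' h1 h2 g₀ hS k).1 hd.2⟩, rfl⟩

/-- the image of `Ω` is normalised by the inner-diagonal centralizer -/
theorem psiOm_range_normalized (hS : SimHyp Q P g₀)
    (d : MulAut (Matrix.ProjectiveSpecialLinearGroup (Fin n) F))
    (hd : d ∈ Cfsg.inndiagPSL n F ⊓ Subgroup.centralizer {graphAut g₀})
    (x : MulAut (Matrix.ProjectiveSpecialLinearGroup (Fin n) F))
    (hx : x ∈ (psiOm (Q := Q) P P' h1 h2).range) :
    d * x * d⁻¹ ∈ (psiOm (Q := Q) P P' h1 h2).range := by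
  obtain ⟨k, rfl⟩ := exists_of_mem_inf P P' h1 h2 g₀ hS d hd
  obtain ⟨s, rfl⟩ := hx
  refine ⟨conjΩ Q k s, ?_⟩
  rw [psiOm_apply, psiOm_apply, ← map_inv, ← map_mul, ← map_mul]
  congr 1

/-- the projective-commutation hypothesis in matrix form -/
theorem proj_commute_of_PhiP (k : GL ι' F) (s : GL ι' F)
    (h : PhiP P P' h1 h2 k * PhiP P P' h1 h2 s = PhiP P P' h1 h2 s * PhiP P P' h1 h2 k) :
    ∃ c : F, (k : Matrix ι' ι' F) * (s : Matrix ι' ι' F) * ((k⁻¹ : GL ι' F) : Matrix ι' ι' F)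
      = c • (s : Matrix ι' ι' F) := by
  have h3 : k * s * k⁻¹ * s⁻¹ ∈ (PhiP P P' h1 h2).ker := by
    rw [MonoidHom.mem_ker, map_mul, map_mul, map_mul, map_inv, map_inv, h]
    group
  rw [ker_PhiP, Cfsg.Geo.mem_scalars_iff] at h3
  obtain ⟨c, hc⟩ := h3
  refine ⟨c, ?_⟩
  have h4 : ((k * s * k⁻¹ : GL ι' F) : Matrix ι' ι' F)
      = ((k * s * k⁻¹ * s⁻¹ : GL ι' F) : Matrix ι' ι' F) * (s : Matrix ι' ι' F) := by
    rw [← Units.val_mul, inv_mul_cancel_right]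
  have h5 : ((k * s * k⁻¹ : GL ι' F) : Matrix ι' ι' F)
      = (k : Matrix ι' ι' F) * (s : Matrix ι' ι' F) * ((k⁻¹ : GL ι' F) : Matrix ι' ι' F) := by
    simp only [Units.val_mul]
  rw [← h5, h4, hc, Matrix.smul_mul, Matrix.one_mul]

variable [Nonempty ι']

/-- a similarity whose image centralizes the image of `Ω` is scalar -/
theorem PhiP_eq_one_of_centralizes (r : ℕ) [Fact r.Prime] [CharP F r] (hF2 : (2 : F) ≠ 0)
    (hQ : (QuadraticMap.polarBilin Q).Nondegenerate) (D : HPair Q) (k : GL ι' F)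
    (h : ∀ s : ↥(Cfsg.Omega F ⇑Q),
      PhiP P P' h1 h2 k * psiOm P P' h1 h2 s = psiOm P P' h1 h2 s * PhiP P P' h1 h2 k) :
    PhiP P P' h1 h2 k = 1 := by
  have h3 : ∃ α : F, (k : Matrix ι' ι' F) = α • (1 : Matrix ι' ι' F) := by
    apply scalar_of_proj_commute (r := r) hF2 hQ D (k : Matrix ι' ι' F)
      ((k⁻¹ : GL ι' F) : Matrix ι' ι' F)
      (by rw [← Units.val_mul, mul_inv_cancel, Units.val_one])
      (by rw [← Units.val_mul, inv_mul_cancel, Units.val_one])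
    intro s hs
    exact proj_commute_of_PhiP P P' h1 h2 k (s : GL ι' F) (h ⟨s, hs⟩)
  obtain ⟨α, hα⟩ := h3
  rw [← MonoidHom.mem_ker, ker_PhiP, Cfsg.Geo.mem_scalars_iff]
  have hα0 : α ≠ 0 := by
    rintro rfl
    rw [zero_smul] at hα
    have := k.isUnit
    have h4 : IsUnit (k : Matrix ι' ι' F) := ⟨k, rfl⟩
    rw [hα] at h4
    exact not_isUnit_zero h4
  exact ⟨Units.mk0 α hα0, hα⟩

/-- the kernel of `psiOm` is the centre of `Ω` -/
theorem ker_psiOm (r : ℕ) [Fact r.Prime] [CharP F r] (hF2 : (2 : F) ≠ 0)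
    (hQ : (QuadraticMap.polarBilin Q).Nondegenerate) (D : HPair Q) :
    (psiOm (Q := Q) P P' h1 h2).ker = Subgroup.center ↥(Cfsg.Omega F ⇑Q) := by
  ext z
  rw [MonoidHom.mem_ker, Subgroup.mem_center_iff]
  constructor
  · intro hz s
    rw [psiOm_apply, ← MonoidHom.mem_ker, ker_PhiP, Cfsg.Geo.mem_scalars_iff] at hz
    obtain ⟨c, hc⟩ := hz
    apply Subtype.ext
    apply Subtype.ext
    apply Units.ext
    show ((s : ↥(Cfsg.isometryGroup F ⇑Q)) : GL ι' F).val *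
      ((z : ↥(Cfsg.isometryGroup F ⇑Q)) : GL ι' F).val =
      ((z : ↥(Cfsg.isometryGroup F ⇑Q)) : GL ι' F).val *
        ((s : ↥(Cfsg.isometryGroup F ⇑Q)) : GL ι' F).val
    rw [hc, Matrix.mul_smul, Matrix.smul_mul, Matrix.mul_one, Matrix.one_mul]
  · intro hz
    rw [psiOm_apply]
    apply PhiP_eq_one_of_centralizes P P' h1 h2 r hF2 hQ D
    intro s
    rw [← psiOm_apply, ← map_mul, ← map_mul, hz s]

end Cfsg.Agent.Helper7.LBal
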