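import Mathlib
import Cfsg.Agent.Helper7.LBal7

set_option autoImplicit false
set_option linter.unusedSectionVars false

/-! Generic tools in `Aut(PSL_n(F))` for the second step. -/

namespace Cfsg.Agent.Helper7.LBal

open Matrix Cfsg.Agent.Helper7.GraphPSL Cfsg.Agent.Helper7.AutPSL

variable {n : ℕ} {F : Type*} [Field F]

/-- a unipotent polynomial family in `SL_n(F)` -/
structure UFam (n : ℕ) (F : Type*) [Field F] (r : ℕ) where
  u : F → Matrix.SpecialLinearGroup (Fin n) F
  N₁ : Matrix (Fin n) (Fin n) F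
  N₂ : Matrix (Fin n) (Fin n) F
  hN₁ : N₁ ≠ 0
  hu : ∀ a, ((u a : Matrix.SpecialLinearGroup (Fin n) F) : Matrix (Fin n) (Fin n) F)
      = 1 + a • N₁ + (a * a) • N₂
  hinv : ∀ a, (u a)⁻¹ = u (-a)
  hpow : ∀ a, u a ^ r = 1

/-- **killing the field part** of an automorphism commuting with the inner automorphisms of a
unipotent family -/
theorem tau_fix_of_commute {r : ℕ} [Fact r.Prime] [CharP F r] [NeZero n]
    (hZ : Subgroup.center (Matrix.ProjectiveSpecialLinearGroup (Fin n) F) = ⊥)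
    (U : UFam n F r) (A : Set F) (h1 : (1 : F) ∈ A) (hneg : ∀ a ∈ A, -a ∈ A)
    (h2 : (2 : F) ≠ 0 ∨ U.N₂ = 0)
    (ν : MulAut (Matrix.ProjectiveSpecialLinearGroup (Fin n) F))
    (hcomm : ∀ a ∈ A, ν * MulAut.conj (pr (U.u a)) = MulAut.conj (pr (U.u a)) * ν)
    (g : GL (Fin n) F) (τ : F ≃+* F)
    (hν : ν = cGL g * fieldPSL τ ∨ ν = cGL g * fieldPSL τ * iotaT) :
    ∀ a ∈ A, τ a = a := by
  have hfix : ∀ a ∈ A, ν (pr (U.u a)) = pr (U.u a) := fun a ha =>
    Cfsg.Agent.Helper28.FB.apply_eq_of_comm_conj hZ ν _ (hcomm a ha)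
  rcases hν with hν | hν
  · subst hν
    exact tau_fix_zero (r := r) g τ U.u U.N₁ U.N₂ U.hN₁ U.hu U.hpow A h1 hneg h2 hfix
  · subst hν
    exact tau_fix_one (r := r) g τ U.u U.N₁ U.N₂ U.hN₁ U.hu U.hinv U.hpow A h1 hneg h2 hfix

/-- an element of odd order whose square lies in a subgroup lies in it -/
theorem mem_of_sq_mem {G : Type*} [Group G] (I : Subgroup G) (ν : G) (hodd : Odd (orderOf ν))
    (hsq : ν * ν ∈ I) : ν ∈ I := by
  obtain ⟨k, hk⟩ := hodd
  have h1 : ν = (ν * ν) ^ (k + 1) := by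
    rw [← pow_two, ← pow_mul]
    have : 2 * (k + 1) = orderOf ν + 1 := by omega
    rw [this, pow_succ, pow_orderOf_eq_one, one_mul]
  rw [h1]
  exact I.pow_mem hsq _

/-- automorphisms without field part have their square in the inner-diagonal group -/
theorem sq_mem_inndiag (g : GL (Fin n) F) :
    (cGL g * iotaT : MulAut (Matrix.ProjectiveSpecialLinearGroup (Fin n) F)) * (cGL g * iotaT)
      ∈ Cfsg.inndiagPSL n F := by
  rw [inndiagPSL_eq_range]
  have : (cGL g * iotaT : MulAut (Matrix.ProjectiveSpecialLinearGroup (Fin n) F)) * (cGL g * iotaT)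
      = cGL g * (iotaT * cGL g * iotaT) := by group
  rw [this, iotaT_cGL_iotaT, ← map_mul]
  exact ⟨_, rfl⟩

theorem fieldPSL_one' : (fieldPSL (1 : F ≃+* F) :
    MulAut (Matrix.ProjectiveSpecialLinearGroup (Fin n) F)) = 1 := by
  have := fieldPSL_one (n := n) (F := F)
  exact this

/-- an element of odd order without field part is inner-diagonal -/
theorem mem_inndiag_of_odd (ν : MulAut (Matrix.ProjectiveSpecialLinearGroup (Fin n) F))
    (hodd : Odd (orderOf ν)) (g : GL (Fin n) F)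
    (hν : ν = cGL g ∨ ν = cGL g * iotaT) : ν ∈ Cfsg.inndiagPSL n F := by
  rcases hν with hν | hν
  · rw [hν, inndiagPSL_eq_range]
    exact ⟨_, rfl⟩
  · apply mem_of_sq_mem _ ν hodd
    rw [hν]
    exact sq_mem_inndiag g

end Cfsg.Agent.Helper7.LBal
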