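import Mathlib
import Cfsg.Agent.Helper7.LBal8

set_option autoImplicit false
set_option linter.unusedSectionVars false

/-! The Siegel family in `SL_n(F)`, and the `2'`-core for symmetric graph involutions. -/

namespace Cfsg.Agent.Helper7.LBal

open Matrix Cfsg.Agent.Helper28.IsoTransport Cfsg.Agent.Helper28.Spin Cfsg.Agent.Helper28.Sg
  Cfsg.Agent.Helper7.GraphPSL Cfsg.Agent.Helper7.AutPSL Cfsg.Agent.Helper28.PG
open scoped commutatorElement

variable {n : ℕ} {F : Type*} [Field F]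
variable {ι' : Type} [Fintype ι'] [DecidableEq ι']
variable {Q : QuadraticForm F (ι' → F)}
variable (P : Matrix (Fin n) ι' F) (P' : Matrix ι' (Fin n) F) (h1 : P * P' = 1) (h2 : P' * P = 1)

/-- the Siegel element `ρ_{e, a v}` as an element of `Ω` -/
noncomputable def siegOm (hF2 : (2 : F) ≠ 0) (D : HPair Q) (a : F) : ↥(Cfsg.Omega F ⇑Q) :=
  ⟨siegO Q D.e (a • D.v) D.Qe (B_smul_right_zero Q a D.Bev),
    siegO_mem_Omega hF2 D.Qe D.Qf D.Bef (B_smul_right_zero Q a D.Bev)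
      (B_smul_right_zero Q a D.Bfv)⟩

theorem siegOm_inv (hF2 : (2 : F) ≠ 0) (D : HPair Q) (a : F) :
    (siegOm hF2 D a)⁻¹ = siegOm hF2 D (-a) := by
  apply Subtype.ext
  have h' : B Q D.e (-(a • D.v)) = 0 := by
    rw [B_neg_right, B_smul_right_zero Q a D.Bev, neg_zero]
  show (siegO Q D.e (a • D.v) D.Qe (B_smul_right_zero Q a D.Bev))⁻¹ =
    siegO Q D.e (-a • D.v) D.Qe (B_smul_right_zero Q (-a) D.Bev)
  rw [siegO_inv Q D.Qe (B_smul_right_zero Q a D.Bev) h']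
  exact siegO_congr Q D.Qe h' D.Qe (B_smul_right_zero Q (-a) D.Bev) rfl (by rw [neg_smul])

theorem siegOm_pow (hF2 : (2 : F) ≠ 0) (D : HPair Q) (a : F) (r : ℕ) [CharP F r] :
    siegOm hF2 D a ^ r = 1 := by
  apply Subtype.ext
  show (siegO Q D.e (a • D.v) D.Qe (B_smul_right_zero Q a D.Bev)) ^ r = 1
  exact siegO_pow_char D.Qe _

theorem ThetaSL_coe (s : ↥(Cfsg.Omega F ⇑Q)) :
    ((ThetaSL P P' h1 h2 s : Matrix.SpecialLinearGroup (Fin n) F) : Matrix (Fin n) (Fin n) F)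
      = (P * (((s⁻¹ : ↥(Cfsg.Omega F ⇑Q)) : ↥(Cfsg.isometryGroup F ⇑Q)) : GL ι' F).val * P')ᵀ := by
  show ((invTGL (conjP P P' h1 h2 ((s : ↥(Cfsg.isometryGroup F ⇑Q)) : GL ι' F)) : GL (Fin n) F) :
    Matrix (Fin n) (Fin n) F) = _
  rw [invTGL_coe, ← map_inv]
  rfl

theorem ThetaSL_siegOm_coe (hF2 : (2 : F) ≠ 0) (D : HPair Q) (a : F) :
    ((ThetaSL P P' h1 h2 (siegOm hF2 D a) : Matrix.SpecialLinearGroup (Fin n) F) :
      Matrix (Fin n) (Fin n) F)
      = 1 + a • (-(P * famN₁ Q D.e D.v * P')ᵀ) + (a * a) • (P * famN₂ Q D.e D.v * P')ᵀ := by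
  rw [ThetaSL_coe, siegOm_inv]
  show (P * siegM Q D.e (-a • D.v) * P')ᵀ = _
  rw [siegM_smul_eq, Matrix.mul_add, Matrix.mul_add, Matrix.add_mul, Matrix.add_mul,
    Matrix.mul_one, h1, Matrix.transpose_add, Matrix.transpose_add, Matrix.transpose_one,
    Matrix.mul_smul, Matrix.smul_mul, Matrix.mul_smul, Matrix.smul_mul, Matrix.transpose_smul,
    Matrix.transpose_smul, neg_mul_neg, neg_smul, smul_neg]

/-- **the Siegel family in `SL_n(F)`** -/
noncomputable def siegFam (hF2 : (2 : F) ≠ 0) (D : HPair Q) (r : ℕ) [CharP F r] : UFam n F r where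
  u a := ThetaSL P P' h1 h2 (siegOm hF2 D a)
  N₁ := -(P * famN₁ Q D.e D.v * P')ᵀ
  N₂ := (P * famN₂ Q D.e D.v * P')ᵀ
  hN₁ := by
    intro h
    apply famN₁_ne_zero D
    have h3 : P * famN₁ Q D.e D.v * P' = 0 := by
      have := congrArg Matrix.transpose (neg_eq_zero.1 h)
      rwa [Matrix.transpose_transpose, Matrix.transpose_zero] at this
    calc famN₁ Q D.e D.v = (P' * P) * famN₁ Q D.e D.v * (P' * P) := by
          rw [h2, Matrix.one_mul, Matrix.mul_one]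
      _ = P' * (P * famN₁ Q D.e D.v * P') * P := by simp only [Matrix.mul_assoc]
      _ = 0 := by rw [h3, Matrix.mul_zero, Matrix.zero_mul]
  hu a := ThetaSL_siegOm_coe P P' h1 h2 hF2 D a
  hinv a := by rw [← map_inv, siegOm_inv]
  hpow a := by rw [← map_pow, siegOm_pow, map_one]

theorem conj_pr_siegFam (hF2 : (2 : F) ≠ 0) (D : HPair Q) (r : ℕ) [CharP F r] (a : F) :
    MulAut.conj (pr ((siegFam P P' h1 h2 hF2 D r).u a)) = psiOm P P' h1 h2 (siegOm hF2 D a) :=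
  (psiOm_eq_conj P P' h1 h2 _).symm

end Cfsg.Agent.Helper7.LBal
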