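import Mathlib
import Cfsg.Agent.Helper7.LBal9

set_option autoImplicit false
set_option linter.unusedSectionVars false

/-! The second step in `Aut(PSL_n(F))`, in general form, and the resulting criterion for the
triviality of the `p'`-core. -/

namespace Cfsg.Agent.Helper7.LBal

open Matrix Cfsg.Agent.Helper7.GraphPSL Cfsg.Agent.Helper7.AutPSL

variable {n : ℕ} {F : Type*} [Field F]

/-- elementary root elements of `SL_n(F)` -/
noncomputable def rootSL (i j : Fin n) (hij : i ≠ j) (a : F) : Matrix.SpecialLinearGroup (Fin n) F :=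
  ⟨Matrix.transvection i j a, Matrix.det_transvection_of_ne i j hij a⟩

theorem rootSL_coe (i j : Fin n) (hij : i ≠ j) (a : F) :
    ((rootSL i j hij a : Matrix.SpecialLinearGroup (Fin n) F) : Matrix (Fin n) (Fin n) F)
      = 1 + Matrix.single i j a := rfl

theorem rootSL_mul (i j : Fin n) (hij : i ≠ j) (a b : F) :
    rootSL i j hij a * rootSL i j hij b = rootSL i j hij (a + b) := by
  apply Subtype.ext
  show Matrix.transvection i j a * Matrix.transvection i j b = Matrix.transvection i j (a + b)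
  exact Matrix.transvection_mul_transvection_same i j hij a b

theorem rootSL_zero (i j : Fin n) (hij : i ≠ j) : rootSL i j hij (0 : F) = 1 := by
  apply Subtype.ext
  show Matrix.transvection i j (0 : F) = 1
  exact Matrix.transvection_zero i j

theorem rootSL_inv (i j : Fin n) (hij : i ≠ j) (a : F) :
    (rootSL i j hij a)⁻¹ = rootSL i j hij (-a) := by
  apply inv_eq_of_mul_eq_one_right
  rw [rootSL_mul, add_neg_cancel, rootSL_zero]

theorem rootSL_pow (i j : Fin n) (hij : i ≠ j) (a : F) (k : ℕ) :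
    rootSL i j hij a ^ k = rootSL i j hij (k • a) := by
  induction k with
  | zero => rw [pow_zero, zero_smul, rootSL_zero]
  | succ k ih => rw [pow_succ, ih, rootSL_mul, succ_nsmul]

theorem rootSL_pow_char (r : ℕ) [CharP F r] (i j : Fin n) (hij : i ≠ j) (a : F) :
    rootSL i j hij a ^ r = 1 := by
  rw [rootSL_pow, nsmul_eq_mul, CharP.cast_eq_zero, zero_mul, rootSL_zero]

/-- the root family -/
noncomputable def rootFam (r : ℕ) [CharP F r] (i j : Fin n) (hij : i ≠ j) : UFam n F r where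
  u := rootSL i j hij
  N₁ := Matrix.single i j 1
  N₂ := 0
  hN₁ := by
    intro h
    have := congrFun (congrFun h i) j
    simp at this
  hu a := by
    rw [rootSL_coe, smul_zero, add_zero, Matrix.smul_single, smul_eq_mul, mul_one]
  hinv := rootSL_inv i j hij
  hpow := rootSL_pow_char r i j hij

/-- powers modulo a normal subgroup -/
theorem pow_mul_mem {G : Type*} [Group G] (I : Subgroup G) [hI : I.Normal] (a x : G) (ha : a ∈ I)
    (l : ℕ) : ∃ a' ∈ I, (a * x) ^ l = a' * x ^ l := by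
  induction l with
  | zero => exact ⟨1, I.one_mem, by simp⟩
  | succ l ih =>
    obtain ⟨a', ha', h⟩ := ih
    refine ⟨a' * (x ^ l * a * (x ^ l)⁻¹), I.mul_mem ha' (hI.conj_mem a ha _), ?_⟩
    rw [pow_succ, h, pow_succ]
    group

/-- the class of a power, `n ≥ 3` -/
theorem pow_eq_one_three [Fintype F] (p : ℕ) [Fact p.Prime] [CharP F p] {f : ℕ}
    (hF : Fintype.card F = p ^ f) (hf : 1 ≤ f) (hn : 3 ≤ n) (g : GL (Fin n) F)
    (t : (F ≃+* F) × Multiplicative (ZMod 2)) (l : ℕ)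
    (h : (cGL g * thetaHom t : MulAut (Matrix.ProjectiveSpecialLinearGroup (Fin n) F)) ^ l = 1) :
    t ^ l = 1 := by
  have := normal_range_cGL (n := n) hF hf (by omega) (by omega)
  obtain ⟨a', ha', h1⟩ := pow_mul_mem
    (cGL : GL (Fin n) F →* MulAut (Matrix.ProjectiveSpecialLinearGroup (Fin n) F)).range
    (cGL g) (thetaHom t) ⟨g, rfl⟩ l
  rw [h, ← map_pow] at h1
  apply thetaHom_mem_range_cGL p hn
  have h2 : (thetaHom (t ^ l) : MulAut (Matrix.ProjectiveSpecialLinearGroup (Fin n) F)) = a'⁻¹ :=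
    eq_inv_of_mul_eq_one_right h1.symm
  rw [h2]
  exact Subgroup.inv_mem _ ha'

/-- the class of a power, `n = 2` -/
theorem pow_eq_one_two [Fintype F] (p : ℕ) [Fact p.Prime] [CharP F p] {f : ℕ}
    (hF : Fintype.card F = p ^ f) (hf : 1 ≤ f) (hs : 4 ≤ Fintype.card F) (g : GL (Fin 2) F)
    (τ : F ≃+* F) (l : ℕ)
    (h : (cGL g * fieldPSL τ : MulAut (Matrix.ProjectiveSpecialLinearGroup (Fin 2) F)) ^ l = 1) :
    τ ^ l = 1 := by
  have := normal_range_cGL (n := 2) hF hf (by omega) (fun _ => hs)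
  obtain ⟨a', ha', h1⟩ := pow_mul_mem
    (cGL : GL (Fin 2) F →* MulAut (Matrix.ProjectiveSpecialLinearGroup (Fin 2) F)).range
    (cGL g) (fieldPSL τ) ⟨g, rfl⟩ l
  rw [h, ← fieldHom_apply, ← map_pow, fieldHom_apply] at h1
  have h2 : (fieldPSL (τ ^ l) : MulAut (Matrix.ProjectiveSpecialLinearGroup (Fin 2) F)) = a'⁻¹ :=
    eq_inv_of_mul_eq_one_right h1.symm
  obtain ⟨k, hk⟩ := Subgroup.inv_mem _ ha'
  rw [← h2] at hk
  exact sigma_eq_one_of_eq_cGL_two hk.symm

/-- the matrix form of `ν (pr s) = pr s` for `ν` with graph part -/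
theorem fix_one_matrix {r : ℕ} [Fact r.Prime] [CharP F r] [NeZero n] (g : GL (Fin n) F)
    (τ : F ≃+* F) (s : Matrix.SpecialLinearGroup (Fin n) F) (hs : s ^ r = 1)
    (hfix : (cGL g * fieldPSL τ * iotaT :
      MulAut (Matrix.ProjectiveSpecialLinearGroup (Fin n) F)) (pr s) = pr s) :
    (s : Matrix (Fin n) (Fin n) F) * (g : Matrix (Fin n) (Fin n) F)
      = (g : Matrix (Fin n) (Fin n) F) *
        (((s⁻¹ : Matrix.SpecialLinearGroup (Fin n) F) : Matrix (Fin n) (Fin n) F)ᵀ).map τ := by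
  have h3 := hfix
  rw [apply_pr_one, pr_eq_iff] at h3
  obtain ⟨c, hc⟩ := h3
  have h4 : s = conjSL g (fieldSL τ (invT s)) := by
    apply smul_eq_of_pow_eq_one _ _ c hc
    · rw [← map_pow, ← map_pow, ← map_pow, hs, map_one, map_one, map_one]
    · exact hs
  have h5 := congrArg (fun s : Matrix.SpecialLinearGroup (Fin n) F =>
    (s : Matrix (Fin n) (Fin n) F) * (g : Matrix (Fin n) (Fin n) F)) h4
  simp only [conjSL_coe, fieldSL_coe, invT_coe] at h5
  rw [Matrix.mul_assoc, ← Matrix.GeneralLinearGroup.coe_mul, inv_mul_cancel,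
    Matrix.GeneralLinearGroup.coe_one, Matrix.mul_one] at h5
  exact h5

/-- a graph-type automorphism cannot fix all root elements -/
theorem graph_no_fix {r : ℕ} [Fact r.Prime] [CharP F r] (hn : 3 ≤ n) (g : GL (Fin n) F)
    (hfix : ∀ (i j : Fin n) (hij : i ≠ j), (cGL g * iotaT :
      MulAut (Matrix.ProjectiveSpecialLinearGroup (Fin n) F)) (pr (rootSL i j hij 1))
        = pr (rootSL i j hij 1)) : False := by
  haveI : NeZero n := ⟨by omega⟩
  have key : ∀ (i j : Fin n) (hij : i ≠ j),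
      Matrix.single i j (1 : F) * (g : Matrix (Fin n) (Fin n) F)
        = -((g : Matrix (Fin n) (Fin n) F) * Matrix.single j i (1 : F)) := by
    intro i j hij
    have h1 := fix_one_matrix (r := r) g (1 : F ≃+* F) (rootSL i j hij 1)
      (rootSL_pow_char r i j hij 1) (by
        rw [fieldPSL_one', mul_one]
        exact hfix i j hij)
    rw [rootSL_inv, rootSL_coe, rootSL_coe, Matrix.transpose_add, Matrix.transpose_one,
      Matrix.transpose_single] at h1
    have h2 : ((1 : Matrix (Fin n) (Fin n) F) + Matrix.single j i (-1 : F)).map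
        ((1 : F ≃+* F) : F → F) = 1 - Matrix.single j i (1 : F) := by
      ext a b
      simp [Matrix.map_apply, Matrix.add_apply, Matrix.sub_apply, Matrix.single_apply,
        sub_eq_add_neg]
      split_ifs <;> simp
    rw [h2, Matrix.add_mul, Matrix.one_mul, Matrix.mul_sub, Matrix.mul_one] at h1
    rw [sub_eq_add_neg] at h1
    exact add_left_cancel h1
  set i0 : Fin n := ⟨0, by omega⟩
  set i1 : Fin n := ⟨1, by omega⟩
  set i2 : Fin n := ⟨2, by omega⟩
  have h01 : i0 ≠ i1 := by simp [i0, i1, Fin.ext_iff]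
  have h12 : i1 ≠ i2 := by simp [i1, i2, Fin.ext_iff]
  have h02 : i0 ≠ i2 := by simp [i0, i2, Fin.ext_iff]
  have e1 : Matrix.single i0 i2 (1 : F) * (g : Matrix (Fin n) (Fin n) F) = 0 := by
    have : Matrix.single i0 i2 (1 : F) = Matrix.single i0 i1 (1 : F) * Matrix.single i1 i2 (1 : F) := by
      rw [Matrix.single_mul_single_same, mul_one]
    rw [this, Matrix.mul_assoc, key i1 i2 h12, Matrix.mul_neg, ← Matrix.mul_assoc, key i0 i1 h01,
      Matrix.neg_mul, neg_neg, Matrix.mul_assoc, Matrix.single_mul_single_of_ne _ _ _ _ h02,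
      Matrix.mul_zero]
  have e2 : Matrix.single i0 i2 (1 : F) = 0 := by
    have := congrArg (fun M => M * ((g⁻¹ : GL (Fin n) F) : Matrix (Fin n) (Fin n) F)) e1
    simp only [Matrix.mul_assoc, Matrix.zero_mul] at this
    rw [← Matrix.GeneralLinearGroup.coe_mul, mul_inv_cancel, Matrix.GeneralLinearGroup.coe_one,
      Matrix.mul_one] at this
    exact this
  have := congrFun (congrFun e2 i0) i2
  simp at this

/-- **the second step, general form** -/
theorem P2_main [Fintype F] {r f : ℕ} [Fact r.Prime] [CharP F r]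
    (hF : Fintype.card F = r ^ f) (hf : 1 ≤ f) (hn : 2 ≤ n) (hs : n = 2 → 4 ≤ Fintype.card F)
    (hZ : Subgroup.center (Matrix.ProjectiveSpecialLinearGroup (Fin n) F) = ⊥)
    (β : MulAut (Matrix.ProjectiveSpecialLinearGroup (Fin n) F)) (p : ℕ) (hp : p.Prime)
    (U : UFam n F r) (A : Set F) (h1 : (1 : F) ∈ A) (hneg : ∀ a ∈ A, -a ∈ A)
    (h2 : (2 : F) ≠ 0 ∨ U.N₂ = 0)
    (hU : ∀ a ∈ A, MulAut.conj (pr (U.u a)) ∈ Subgroup.centralizer {β})
    (hτ : ∀ τ : F ≃+* F, (∀ a ∈ A, τ a = a) → τ ^ p = 1)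
    (h3 : p ≠ 2 → 3 ≤ n → ∀ (i j : Fin n) (hij : i ≠ j),
      MulAut.conj (pr (rootSL i j hij (1 : F))) ∈ Subgroup.centralizer {β})
    (ν : MulAut (Matrix.ProjectiveSpecialLinearGroup (Fin n) F))
    (hνI : ν ∉ Cfsg.inndiagPSL n F)
    (hl : (orderOf ν).Prime) (hlp : orderOf ν ≠ p)
    (hcomm : ∀ y ∈ Cfsg.Inn (Matrix.ProjectiveSpecialLinearGroup (Fin n) F) ⊓
      Subgroup.centralizer {β}, ν * y = y * ν) : False := by
  haveI : NeZero n := ⟨by omega⟩
  have hone : ∀ τ : F ≃+* F, τ ^ p = 1 → τ ^ orderOf ν = 1 → τ = 1 := by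
    intro τ hτp hτl
    have h4 : orderOf τ ∣ p := orderOf_dvd_of_pow_eq_one hτp
    have h5 : orderOf τ ∣ orderOf ν := orderOf_dvd_of_pow_eq_one hτl
    have h6 : orderOf τ ∣ Nat.gcd p (orderOf ν) := Nat.dvd_gcd h4 h5
    have h7 : Nat.gcd p (orderOf ν) = 1 := (Nat.coprime_primes hp hl).2 (Ne.symm hlp)
    rw [h7] at h6
    exact orderOf_eq_one_iff.1 (Nat.dvd_one.1 h6)
  obtain ⟨g, τ, hν | ⟨hn3, hν⟩⟩ := aut_decomp_all hF hf hn hs ν
  · have hfixA : ∀ a ∈ A, τ a = a :=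
      tau_fix_of_commute hZ U A h1 hneg h2 ν (fun a ha => hcomm _ ⟨⟨_, rfl⟩, hU a ha⟩) g τ
        (Or.inl hν)
    have hτl : τ ^ orderOf ν = 1 := by
      have hpow : (cGL g * fieldPSL τ : MulAut (Matrix.ProjectiveSpecialLinearGroup (Fin n) F))
          ^ orderOf ν = 1 := by
        rw [← hν]; exact pow_orderOf_eq_one ν
      rcases Nat.lt_or_ge n 3 with hlt | hge
      · obtain rfl : n = 2 := by omega
        exact pow_eq_one_two r hF hf (hs rfl) g τ _ hpow
      · have e : (thetaHom (τ, 1) : MulAut (Matrix.ProjectiveSpecialLinearGroup (Fin n) F))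
            = fieldPSL τ := by rw [thetaHom_apply, map_one, mul_one]
        rw [← e] at hpow
        have := pow_eq_one_three r hF hf hge g (τ, 1) _ hpow
        exact congrArg Prod.fst this
    have hτ1 := hone τ (hτ τ hfixA) hτl
    apply hνI
    rw [hν, hτ1, fieldPSL_one', mul_one, inndiagPSL_eq_range]
    exact ⟨g, rfl⟩
  · have hfixA : ∀ a ∈ A, τ a = a :=
      tau_fix_of_commute hZ U A h1 hneg h2 ν (fun a ha => hcomm _ ⟨⟨_, rfl⟩, hU a ha⟩) g τ
        (Or.inr hν)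
    have e : (thetaHom (τ, Multiplicative.ofAdd (1 : ZMod 2)) :
        MulAut (Matrix.ProjectiveSpecialLinearGroup (Fin n) F)) = fieldPSL τ * iotaT := by
      rw [thetaHom_apply, iotaHom_one]
    have hpow : (cGL g * thetaHom (τ, Multiplicative.ofAdd (1 : ZMod 2)) :
        MulAut (Matrix.ProjectiveSpecialLinearGroup (Fin n) F)) ^ orderOf ν = 1 := by
      rw [e, ← mul_assoc, ← hν]; exact pow_orderOf_eq_one ν
    have hpow' := pow_eq_one_three r hF hf hn3 g _ _ hpow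
    have hτl : τ ^ orderOf ν = 1 := congrArg Prod.fst hpow'
    have hεl : (Multiplicative.ofAdd (1 : ZMod 2)) ^ orderOf ν = 1 := congrArg Prod.snd hpow'
    have hτ1 := hone τ (hτ τ hfixA) hτl
    have hl2 : orderOf ν = 2 := by
      have h4 : ((orderOf ν : ℕ) : ZMod 2) = 0 := by
        have h5 : Multiplicative.toAdd ((Multiplicative.ofAdd (1 : ZMod 2)) ^ orderOf ν) = 0 := by
          rw [hεl]; rfl
        rw [toAdd_pow, toAdd_ofAdd, nsmul_eq_mul, mul_one] at h5
        exact h5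
      have h5 : 2 ∣ orderOf ν := (ZMod.natCast_eq_zero_iff _ 2).1 h4
      exact ((Nat.prime_dvd_prime_iff_eq Nat.prime_two hl).1 h5).symm
    have hp2 : p ≠ 2 := by
      intro h
      exact hlp (by rw [hl2, h])
    have hν' : ν = cGL g * iotaT := by rw [hν, hτ1, fieldPSL_one', mul_one]
    apply graph_no_fix (r := r) hn3 g
    intro i j hij
    rw [← hν']
    apply Cfsg.Agent.Helper28.FB.apply_eq_of_comm_conj hZ
    exact hcomm _ ⟨⟨_, rfl⟩, h3 hp2 hn3 i j hij⟩

/-- **the criterion for a trivial `p'`-core** -/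
theorem core_bot_main [Fintype F] {r f : ℕ} [Fact r.Prime] [CharP F r]
    (hF : Fintype.card F = r ^ f) (hf : 1 ≤ f) (hn : 2 ≤ n) (hs : n = 2 → 4 ≤ Fintype.card F)
    (hZ : Subgroup.center (Matrix.ProjectiveSpecialLinearGroup (Fin n) F) = ⊥)
    (𝒢 : Subgroup (MulAut (Matrix.ProjectiveSpecialLinearGroup (Fin n) F)))
    (hinn : ∀ k : Matrix.ProjectiveSpecialLinearGroup (Fin n) F, MulAut.conj k ∈ 𝒢)
    (β : MulAut (Matrix.ProjectiveSpecialLinearGroup (Fin n) F)) (p : ℕ) [hp : Fact p.Prime]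
    (I₀ : Subgroup (MulAut (Matrix.ProjectiveSpecialLinearGroup (Fin n) F)))
    (hI₀Inn : I₀ ≤ Cfsg.Inn (Matrix.ProjectiveSpecialLinearGroup (Fin n) F))
    (hI₀C : I₀ ≤ Subgroup.centralizer {β})
    (hnorm : ∀ d ∈ Cfsg.inndiagPSL n F ⊓ Subgroup.centralizer {β}, ∀ s ∈ I₀, d * s * d⁻¹ ∈ I₀)
    (hb : NNP p ↥I₀)
    (hc : ∀ d ∈ Cfsg.inndiagPSL n F ⊓ Subgroup.centralizer {β},
      (∀ s ∈ I₀, d * s = s * d) → d = 1)
    (U : UFam n F r) (A : Set F) (h1 : (1 : F) ∈ A) (hneg : ∀ a ∈ A, -a ∈ A)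
    (h2 : (2 : F) ≠ 0 ∨ U.N₂ = 0)
    (hU : ∀ a ∈ A, MulAut.conj (pr (U.u a)) ∈ Subgroup.centralizer {β})
    (hτ : ∀ τ : F ≃+* F, (∀ a ∈ A, τ a = a) → τ ^ p = 1)
    (h3 : p ≠ 2 → 3 ≤ n → ∀ (i j : Fin n) (hij : i ≠ j),
      MulAut.conj (pr (rootSL i j hij (1 : F))) ∈ Subgroup.centralizer {β}) :
    Cfsg.pPrimeCore p ↥(𝒢 ⊓ Subgroup.centralizer {β}) = ⊥ := by
  have hInnI : Cfsg.Inn (Matrix.ProjectiveSpecialLinearGroup (Fin n) F) ≤ Cfsg.inndiagPSL n F := by
    rw [inndiagPSL_eq_range, Cfsg.Agent.Helper7.GraphSplit.inn_eq_map]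
    rintro _ ⟨g, -, rfl⟩
    exact ⟨g, rfl⟩
  have hInnA : Cfsg.Inn (Matrix.ProjectiveSpecialLinearGroup (Fin n) F) ≤ 𝒢 := by
    rintro _ ⟨k, rfl⟩
    exact hinn k
  haveI hIn : (Cfsg.inndiagPSL n F).Normal := by
    rw [inndiagPSL_eq_range]
    exact normal_range_cGL hF hf hn hs
  haveI hInnN : (Cfsg.Inn (Matrix.ProjectiveSpecialLinearGroup (Fin n) F)).Normal := by
    constructor
    rintro _ ⟨k, rfl⟩ α
    refine ⟨α k, ?_⟩
    ext x
    simp [MulAut.conj_apply]
  apply Cfsg.Agent.Helper28.FB.pPrimeCore_eq_bot_of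
  intro N hNC hNnorm hcop
  have hNI : N ⊓ Cfsg.inndiagPSL n F = ⊥ :=
    stepI β (Cfsg.inndiagPSL n F) 𝒢 I₀ (hI₀Inn.trans hInnI) (hI₀Inn.trans hInnA) hI₀C hnorm hb hc
      N hNC hNnorm hcop
  apply core_trivial β (Cfsg.inndiagPSL n F) 𝒢
    (Cfsg.Inn (Matrix.ProjectiveSpecialLinearGroup (Fin n) F)) hInnA hInnI N hNC hNnorm hcop hNI
  intro ν hνC hνI hl hlp hcomm
  exact P2_main hF hf hn hs hZ β p hp.out U A h1 hneg h2 hU hτ h3 ν hνI hl hlp hcomm

end Cfsg.Agent.Helper7.LBal
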