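import Mathlib
import Cfsg.Agent.Helper7.LBal10

set_option autoImplicit false
set_option linter.unusedSectionVars false

/-! The `2'`-core of the centralizer of a symmetric graph involution of `PSL_n(F)`. -/

namespace Cfsg.Agent.Helper7.LBal

open Matrix Cfsg.Agent.Helper28.IsoTransport Cfsg.Agent.Helper28.Spin Cfsg.Agent.Helper28.Sg
  Cfsg.Agent.Helper7.GraphPSL Cfsg.Agent.Helper7.AutPSL Cfsg.Agent.Helper28.PG
  Cfsg.Agent.Helper7.OrthUni

variable {n : ℕ} {F : Type*} [Field F]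
variable {ι' : Type} [Fintype ι'] [DecidableEq ι']

/-- coordinates adapted to a quadratic form of the right discriminant -/
theorem exists_SimHyp [Fintype F] (h2 : (2 : F) ≠ 0) (g₀ : GL (Fin n) F)
    (hsym : (g₀ : Matrix (Fin n) (Fin n) F)ᵀ = (g₀ : Matrix (Fin n) (Fin n) F))
    (Q' : QuadraticForm F (ι' → F)) (hQ' : (QuadraticMap.polarBilin Q').Nondegenerate)
    (hcard : Fintype.card ι' = n)
    (hsq : IsSquare (((2 : F) • (g₀ : Matrix (Fin n) (Fin n) F)).det * (gram Q').det)) :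
    ∃ (P : Matrix (Fin n) ι' F) (P' : Matrix ι' (Fin n) F), P * P' = 1 ∧ P' * P = 1 ∧
      SimHyp Q' P g₀ := by
  set G : Matrix (Fin n) (Fin n) F := (g₀ : Matrix (Fin n) (Fin n) F) with hG
  have hsym2 : ((2 : F) • G)ᵀ = (2 : F) • G := by rw [Matrix.transpose_smul, hsym]
  have hu : IsUnit ((2 : F) • G) := by
    rw [Matrix.isUnit_iff_isUnit_det, Matrix.det_smul]
    exact (IsUnit.pow _ (isUnit_iff_ne_zero.2 h2)).mul
      ((Matrix.isUnit_iff_isUnit_det _).1 g₀.isUnit)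
  obtain ⟨g, hg⟩ := exists_isometry_of_disc h2 (qf ((2 : F) • G)) Q'
    (qf_nondeg h2 hsym2 hu) hQ' (by rw [Fintype.card_fin, hcard])
    (by rw [gram_qf h2 hsym2]; exact hsq)
  have hg' : ∀ v, Q' (g v) = v ⬝ᵥ G *ᵥ v := by
    intro v
    rw [hg, qf_apply, Matrix.smul_mulVec, dotProduct_smul, smul_eq_mul, ← mul_assoc,
      inv_mul_cancel₀ h2, one_mul]
  set P := LinearMap.toMatrix' g.symm.toLinearMap with hP
  set P' := LinearMap.toMatrix' g.toLinearMap with hP'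
  have h1 : P * P' = 1 := by
    rw [hP, hP', ← LinearMap.toMatrix'_comp]
    have : g.symm.toLinearMap ∘ₗ g.toLinearMap = LinearMap.id := by
      ext v
      simp
    rw [this, LinearMap.toMatrix'_id]
  have h1' : P' * P = 1 := by
    rw [hP, hP', ← LinearMap.toMatrix'_comp]
    have : g.toLinearMap ∘ₗ g.symm.toLinearMap = LinearMap.id := by
      ext v
      simp
    rw [this, LinearMap.toMatrix'_id]
  exact ⟨P, P', h1, h1',
    mem_quadSimilarityGroup_iff h2 Q' (Pᵀ * G * P) 2 h2 (polar_of_isometry hsym Q' g hg')⟩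

variable {Q : QuadraticForm F (ι' → F)}

/-- **symmetric graph involutions: the `2'`-core is trivial**, adapted coordinates -/
theorem graph_sym_core_bot_aux (P : Matrix (Fin n) ι' F) (P' : Matrix ι' (Fin n) F)
    (h1 : P * P' = 1) (h2 : P' * P = 1)
    [Fintype F] [Nonempty ι'] {r f : ℕ} [Fact r.Prime] [CharP F r]
    (hF : Fintype.card F = r ^ f) (hf : 1 ≤ f) (hn : 2 ≤ n) (hs : n = 2 → 4 ≤ Fintype.card F)
    (hZ : Subgroup.center (Matrix.ProjectiveSpecialLinearGroup (Fin n) F) = ⊥)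
    (𝒢 : Subgroup (MulAut (Matrix.ProjectiveSpecialLinearGroup (Fin n) F)))
    (hinn : ∀ k : Matrix.ProjectiveSpecialLinearGroup (Fin n) F, MulAut.conj k ∈ 𝒢)
    (g₀ : GL (Fin n) F) (hS : SimHyp Q P g₀) (hF2 : (2 : F) ≠ 0)
    (hQ : (QuadraticMap.polarBilin Q).Nondegenerate) (D : HPair Q)
    (hNNP : NNP 2 (Cfsg.POmega F ⇑Q)) :
    Cfsg.pPrimeCore 2 ↥(𝒢 ⊓ Subgroup.centralizer {graphAut g₀}) = ⊥ := by
  haveI : Fact (Nat.Prime 2) := ⟨Nat.prime_two⟩
  apply core_bot_main hF hf hn hs hZ 𝒢 hinn (graphAut g₀) 2 (psiOm (Q := Q) P P' h1 h2).range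
    (U := siegFam P P' h1 h2 hF2 D r) (A := Set.univ)
  · rintro _ ⟨s, rfl⟩
    rw [psiOm_eq_conj]
    exact ⟨_, rfl⟩
  · rintro _ ⟨s, rfl⟩
    exact psiOm_mem_centralizer P P' h1 h2 g₀ hS s
  · intro d hd x hx
    exact psiOm_range_normalized P P' h1 h2 g₀ hS d hd x hx
  · exact NNP_range_of_ker_eq_center _ (ker_psiOm P P' h1 h2 r hF2 hQ D) hNNP
  · intro d hd hcomm
    obtain ⟨k, rfl⟩ := exists_of_mem_inf P P' h1 h2 g₀ hS d hd
    apply PhiP_eq_one_of_centralizes P P' h1 h2 r hF2 hQ D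
    intro s
    exact hcomm _ ⟨s, rfl⟩
  · exact Set.mem_univ 1
  · intro a _
    exact Set.mem_univ _
  · exact Or.inl hF2
  · intro a _
    rw [conj_pr_siegFam P P' h1 h2 hF2 D r a]
    exact psiOm_mem_centralizer P P' h1 h2 g₀ hS _
  · intro τ hτ
    have : τ = 1 := by
      ext a
      exact hτ a (Set.mem_univ a)
    rw [this, one_pow]
  · intro h
    exact absurd rfl h

/-- **symmetric graph involutions: the `2'`-core is trivial** -/
theorem graph_sym_core_bot [Fintype F] [Nonempty ι'] {r f : ℕ} [Fact r.Prime] [CharP F r]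
    (hF : Fintype.card F = r ^ f) (hf : 1 ≤ f) (hn : 2 ≤ n) (hs : n = 2 → 4 ≤ Fintype.card F)
    (hZ : Subgroup.center (Matrix.ProjectiveSpecialLinearGroup (Fin n) F) = ⊥)
    (𝒢 : Subgroup (MulAut (Matrix.ProjectiveSpecialLinearGroup (Fin n) F)))
    (hinn : ∀ k : Matrix.ProjectiveSpecialLinearGroup (Fin n) F, MulAut.conj k ∈ 𝒢)
    (hF2 : (2 : F) ≠ 0) (g₀ : GL (Fin n) F)
    (hsym : (g₀ : Matrix (Fin n) (Fin n) F)ᵀ = (g₀ : Matrix (Fin n) (Fin n) F))
    (Q' : QuadraticForm F (ι' → F)) (hQ' : (QuadraticMap.polarBilin Q').Nondegenerate)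
    (hcard : Fintype.card ι' = n)
    (hsq : IsSquare (((2 : F) • (g₀ : Matrix (Fin n) (Fin n) F)).det * (gram Q').det))
    (D : HPair Q') (hNNP : NNP 2 (Cfsg.POmega F ⇑Q')) :
    Cfsg.pPrimeCore 2 ↥(𝒢 ⊓ Subgroup.centralizer {graphAut g₀}) = ⊥ := by
  obtain ⟨P, P', h1, h2, hS⟩ := exists_SimHyp hF2 g₀ hsym Q' hQ' hcard hsq
  exact graph_sym_core_bot_aux P P' h1 h2 hF hf hn hs hZ 𝒢 hinn g₀ hS hF2 hQ' D hNNP

end Cfsg.Agent.Helper7.LBal
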