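import Mathlib
import Cfsg.Agent.Helper7.LBal11
import Cfsg.Agent.S2613
import Cfsg.Agent.S2614
import Cfsg.Agent.S2615

set_option autoImplicit false
set_option linter.unusedSectionVars false

/-! Hyperbolic pairs with an orthogonal non-singular vector for the standard forms, and the
evenness of `|PΩ(Q)|`. -/

namespace Cfsg.Agent.Helper7.LBal

open Matrix Cfsg.Agent.Helper28.IsoTransport Cfsg.Agent.Helper28.Spin Cfsg.Agent.Helper28.Sg
  Cfsg.Agent.Helper28.QPlus

variable {F : Type*} [Field F]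
variable {ι : Type} [Fintype ι] [DecidableEq ι]
variable {Q : QuadraticForm F (ι → F)}

/-- an `HPair` from a coordinate hyperbolic pair -/
noncomputable def HPair.ofHyp {a b : ι} (H : IsHypPair Q a b) (v : ι → F) (hva : v a = 0)
    (hvb : v b = 0) (hQv : Q v ≠ 0) : HPair Q where
  e := Pi.single a 1
  f := Pi.single b 1
  v := v
  Qe := Q_single_left H
  Qf := Q_single_right H
  Bef := by
    show QuadraticMap.polar ⇑Q (Pi.single a 1) (Pi.single b 1) = 1
    rw [polar_single_left H, Pi.single_eq_same]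
  Bev := by
    show QuadraticMap.polar ⇑Q (Pi.single a 1) v = 0
    rw [polar_single_left H, hvb]
  Bfv := by
    show QuadraticMap.polar ⇑Q (Pi.single b 1) v = 0
    rw [polar_single_right H, hva]
  Qv := hQv

/-- the odd-dimensional form -/
noncomputable def hpairOdd (m : ℕ) (hm : 1 ≤ m) : HPair (Cfsg.Agent.S2614.QfOdd m F) :=
  HPair.ofHyp (Cfsg.Agent.S2614.hypPair_odd m ⟨0, hm⟩) (Pi.single (Sum.inl ()) 1)
    (by simp) (by simp) (by
      rw [Cfsg.Agent.S2614.QfOdd_coe]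
      simp [Cfsg.quadFormOdd])

/-- the plus form -/
noncomputable def hpairPlus (m : ℕ) (hm : 2 ≤ m) : HPair (QfPlus m F) :=
  HPair.ofHyp (Cfsg.Agent.S2613.hypPair_plus m ⟨0, by omega⟩)
    (Pi.single (Sum.inl ⟨1, by omega⟩) 1 + Pi.single (Sum.inr ⟨1, by omega⟩) 1)
    (by simp [Fin.ext_iff]) (by simp [Fin.ext_iff]) (by
      have := (negPair (QfPlus m F) (a := Sum.inl ⟨1, by omega⟩) (b := Sum.inr ⟨1, by omega⟩)
        (by simp) (Cfsg.Agent.S2613.hypPair_plus m ⟨1, by omega⟩)).1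
      rw [this]
      exact one_ne_zero)

/-- the minus form -/
noncomputable def hpairMinus (m : ℕ) (hm : 1 ≤ m) (a c : F) : HPair (QfMinus m F a c) :=
  HPair.ofHyp (Cfsg.Agent.S2615.hypPair_minus m a c ⟨0, hm⟩) (Pi.single (Sum.inr 0) 1)
    (by simp) (by simp) (by
      rw [QfMinus_coe]
      simp [Cfsg.quadFormMinus])

/-- **`|PΩ(Q)|` is even** -/
theorem two_dvd_card_POmega [Fintype F] [Nonempty ι] (r : ℕ) [Fact r.Prime] [CharP F r]
    (h2 : (2 : F) ≠ 0) (hQ : (QuadraticMap.polarBilin Q).Nondegenerate) (D : HPair Q) :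
    2 ∣ Nat.card (Cfsg.POmega F ⇑Q) := by
  obtain ⟨s, hsΩ, hss, hns⟩ := exists_involution h2 D
  set x : Cfsg.POmega F ⇑Q := QuotientGroup.mk ⟨s, hsΩ⟩ with hx
  have hx1 : x ≠ 1 := by
    intro h
    rw [hx, QuotientGroup.eq_one_iff, Subgroup.mem_center_iff] at h
    apply hns
    apply scalar_of_proj_commute (r := r) h2 hQ D (mt Q s) (mt Q s⁻¹)
      (by rw [← mt_mul, mul_inv_cancel, mt_one]) (by rw [← mt_mul, inv_mul_cancel, mt_one])
    intro t ht
    refine ⟨1, ?_⟩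
    have h3 := h ⟨t, ht⟩
    have h4 : t * s = s * t := congrArg (fun z : ↥(Cfsg.Omega F ⇑Q) => (z : ↥(Cfsg.isometryGroup F ⇑Q))) h3
    rw [one_smul, ← mt_mul, ← mt_mul, ← h4, mul_inv_cancel_right]
  have hx2 : x ^ 2 = 1 := by
    rw [hx, ← QuotientGroup.mk_pow, pow_two]
    have : (⟨s, hsΩ⟩ : ↥(Cfsg.Omega F ⇑Q)) * ⟨s, hsΩ⟩ = 1 := Subtype.ext hss
    rw [this]
    rfl
  have hord : orderOf x = 2 := orderOf_eq_prime hx2 hx1
  rw [← hord]
  exact orderOf_dvd_natCard x

end Cfsg.Agent.Helper7.LBal
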