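import Mathlib
import Cfsg.Agent.Helper7.LBal1

set_option autoImplicit false
set_option linter.unusedSectionVars false

/-! Normal subgroups of `PSL₂(F)` via Iwasawa, and the small cases `F₂`, `F₃`. -/

namespace Cfsg.Agent.Helper7.LBal

open Matrix MulAction
open scoped MatrixGroups LinearAlgebra.Projectivization commutatorElement

variable {F : Type*} [Field F]

/-- a normal subgroup of `PSL₂(F)` is trivial or contains the commutator subgroup -/
theorem PSL2_normal_cases (N : Subgroup (Matrix.ProjectiveSpecialLinearGroup (Fin 2) F))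
    [hN : N.Normal] :
    N = ⊥ ∨ commutator (Matrix.ProjectiveSpecialLinearGroup (Fin 2) F) ≤ N := by
  by_cases h : MulAction.fixedPoints N (ℙ F (Fin 2 → F)) = Set.univ
  · left
    rw [Subgroup.eq_bot_iff_forall]
    intro x hx
    have hf : FaithfulSMul (Matrix.ProjectiveSpecialLinearGroup (Fin 2) F) (ℙ F (Fin 2 → F)) :=
      inferInstance
    apply hf.eq_of_smul_eq_smul
    intro a
    rw [one_smul]
    have : a ∈ MulAction.fixedPoints N (ℙ F (Fin 2 → F)) := by rw [h]; exact Set.mem_univ a
    exact this ⟨x, hx⟩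
  · right
    exact (PSL2.Iwasawa (F := F)).commutator_le N h

/-- the commutator of the two elementary transvections -/
def comW : Matrix.SpecialLinearGroup (Fin 2) F :=
  ⟨!![3, -1; 1, 0], by simp [Matrix.det_fin_two]⟩

def tr1 : Matrix.SpecialLinearGroup (Fin 2) F :=
  ⟨!![1, 1; 0, 1], by simp [Matrix.det_fin_two]⟩

def tr2 : Matrix.SpecialLinearGroup (Fin 2) F :=
  ⟨!![1, 0; 1, 1], by simp [Matrix.det_fin_two]⟩

theorem comW_eq : (comW : Matrix.SpecialLinearGroup (Fin 2) F)
    = ⁅(tr1 : Matrix.SpecialLinearGroup (Fin 2) F), (tr2 : Matrix.SpecialLinearGroup (Fin 2) F)⁆ := by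
  have h : (comW : Matrix.SpecialLinearGroup (Fin 2) F) *
      ((tr2 : Matrix.SpecialLinearGroup (Fin 2) F) * tr1) = tr1 * tr2 := by
    apply Subtype.ext
    show (!![3, -1; 1, 0] : Matrix (Fin 2) (Fin 2) F) * (!![1, 0; 1, 1] * !![1, 1; 0, 1])
      = !![1, 1; 0, 1] * !![1, 0; 1, 1]
    ext i j
    fin_cases i <;> fin_cases j <;> simp [Matrix.mul_apply, Fin.sum_univ_two] <;> ring
  rw [commutatorElement_def]
  calc (comW : Matrix.SpecialLinearGroup (Fin 2) F)
      = comW * ((tr2 : Matrix.SpecialLinearGroup (Fin 2) F) * tr1) *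
          ((tr2 : Matrix.SpecialLinearGroup (Fin 2) F) * tr1)⁻¹ := by rw [mul_inv_cancel_right]
    _ = tr1 * tr2 * tr1⁻¹ * tr2⁻¹ := by rw [h, _root_.mul_inv_rev, ← mul_assoc]

theorem mk_comW_mem_commutator :
    (QuotientGroup.mk (comW : Matrix.SpecialLinearGroup (Fin 2) F) :
      Matrix.ProjectiveSpecialLinearGroup (Fin 2) F)
      ∈ commutator (Matrix.ProjectiveSpecialLinearGroup (Fin 2) F) := by
  rw [comW_eq, commutator_def]
  have : (QuotientGroup.mk (⁅(tr1 : Matrix.SpecialLinearGroup (Fin 2) F), tr2⁆) :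
      Matrix.ProjectiveSpecialLinearGroup (Fin 2) F)
      = ⁅(QuotientGroup.mk tr1 : Matrix.ProjectiveSpecialLinearGroup (Fin 2) F),
          QuotientGroup.mk tr2⁆ := rfl
  rw [this]
  exact Subgroup.commutator_mem_commutator (Subgroup.mem_top _) (Subgroup.mem_top _)

theorem mk_comW_ne_one :
    (QuotientGroup.mk (comW : Matrix.SpecialLinearGroup (Fin 2) F) :
      Matrix.ProjectiveSpecialLinearGroup (Fin 2) F) ≠ 1 := by
  intro h
  rw [QuotientGroup.eq_one_iff, Matrix.SpecialLinearGroup.mem_center_iff] at h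
  obtain ⟨c, -, hc⟩ := h
  have := congrFun (congrFun hc 1) 0
  simp [comW, Matrix.scalar_apply] at this

/-- a prime-order element of the commutator subgroup forces `NNP` -/
theorem NNP_PSL2_of_orderOf [Finite F] {p : ℕ} (hp : p.Prime)
    (h : (QuotientGroup.mk (comW : Matrix.SpecialLinearGroup (Fin 2) F) :
      Matrix.ProjectiveSpecialLinearGroup (Fin 2) F) ^ p = 1) :
    NNP p (Matrix.ProjectiveSpecialLinearGroup (Fin 2) F) := by
  intro M hM hcop
  rcases PSL2_normal_cases M with h1 | h1
  · exact h1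
  · exfalso
    haveI := Fact.mk hp
    have hmem := h1 mk_comW_mem_commutator
    have hord : orderOf (⟨_, hmem⟩ : M) = p := by
      apply orderOf_eq_prime
      · apply Subtype.ext
        rw [Subgroup.coe_pow]
        exact h
      · intro h2
        exact mk_comW_ne_one (congrArg Subtype.val h2)
    have hdvd : p ∣ Nat.card M := by
      rw [← hord]
      exact orderOf_dvd_natCard _
    have := Nat.Coprime.eq_one_of_dvd hcop.symm hdvd
    exact hp.one_lt.ne' this

theorem NNP_two_PSL2_char_three [Finite F] [CharP F 3] :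
    NNP 2 (Matrix.ProjectiveSpecialLinearGroup (Fin 2) F) := by
  apply NNP_PSL2_of_orderOf Nat.prime_two
  rw [← QuotientGroup.mk_pow, QuotientGroup.eq_one_iff, Matrix.SpecialLinearGroup.mem_center_iff]
  refine ⟨-1, by norm_num, ?_⟩
  have h3 : (3 : F) = 0 := by exact_mod_cast CharP.cast_eq_zero F 3
  rw [pow_two]
  show Matrix.scalar (Fin 2) (-1 : F) = (!![3, -1; 1, 0] : Matrix (Fin 2) (Fin 2) F) * !![3, -1; 1, 0]
  ext i j
  fin_cases i <;> fin_cases j <;> simp [Matrix.mul_apply, Fin.sum_univ_two, h3, Matrix.scalar_apply]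

theorem NNP_three_PSL2_char_two [Finite F] [CharP F 2] :
    NNP 3 (Matrix.ProjectiveSpecialLinearGroup (Fin 2) F) := by
  apply NNP_PSL2_of_orderOf Nat.prime_three
  rw [← QuotientGroup.mk_pow]
  have h2 : (2 : F) = 0 := by exact_mod_cast CharP.cast_eq_zero F 2
  have : (comW : Matrix.SpecialLinearGroup (Fin 2) F) ^ 3 = 1 := by
    apply Subtype.ext
    rw [pow_succ, pow_two]
    show (!![3, -1; 1, 0] : Matrix (Fin 2) (Fin 2) F) * !![3, -1; 1, 0] * !![3, -1; 1, 0] = 1
    ext i j
    fin_cases i <;> fin_cases j <;>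
      simp [Matrix.mul_apply, Fin.sum_univ_two, Matrix.one_apply] <;>
      first
        | linear_combination (10 : F) * h2
        | linear_combination (-4 : F) * h2
        | linear_combination (4 : F) * h2
        | linear_combination (-2 : F) * h2
  rw [this]
  rfl

end Cfsg.Agent.Helper7.LBal
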