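import Mathlib
import Cfsg.Agent.Helper7.LBal12
import Cfsg.Agent.Helper7.LBal13
import Cfsg.Agent.Helper21.OCm
import Cfsg.Agent.S2171
import Cfsg.Agent.S0249
import Cfsg.Agent.S0270
import Cfsg.Agent.S0283
import Cfsg.Agent.S0295
import Cfsg.Agent.S0296
import Cfsg.Agent.S0297
import Cfsg.Agent.S0298
import Cfsg.Agent.S0299
import Cfsg.Agent.S0300
import Cfsg.Agent.S0301
import Cfsg.Agent.S0302
import Cfsg.Agent.S0303

set_option autoImplicit false
set_option linter.unusedSectionVars false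

/-! `PΩ(Q)` has no nontrivial normal subgroup of odd order, for the standard forms in odd
characteristic and dimension at least three. -/

namespace Cfsg.Agent.Helper7.LBal

open Matrix Cfsg.Agent.Helper28.IsoTransport Cfsg.Agent.Helper28.Spin Cfsg.Agent.Helper28.Sg
  Cfsg.Agent.Helper28.QPlus

variable {F : Type*} [Field F]

/-- `|PSL₂(F)|` is even -/
theorem two_dvd_card_PSL2 [Finite F] :
    2 ∣ Nat.card (Matrix.ProjectiveSpecialLinearGroup (Fin 2) F) := by
  set w : Matrix.SpecialLinearGroup (Fin 2) F := ⟨!![0, -1; 1, 0], by simp [Matrix.det_fin_two]⟩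
    with hw
  set x : Matrix.ProjectiveSpecialLinearGroup (Fin 2) F := QuotientGroup.mk w with hx
  have hx1 : x ≠ 1 := by
    intro h
    rw [hx, QuotientGroup.eq_one_iff, Matrix.SpecialLinearGroup.mem_center_iff] at h
    obtain ⟨c, -, hc⟩ := h
    have := congrFun (congrFun hc 1) 0
    simp [hw, Matrix.scalar_apply] at this
  have hx2 : x ^ 2 = 1 := by
    rw [hx, ← QuotientGroup.mk_pow, QuotientGroup.eq_one_iff,
      Matrix.SpecialLinearGroup.mem_center_iff]
    refine ⟨-1, by norm_num, ?_⟩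
    rw [pow_two]
    show Matrix.scalar (Fin 2) (-1 : F)
      = (!![0, -1; 1, 0] : Matrix (Fin 2) (Fin 2) F) * !![0, -1; 1, 0]
    ext i j
    fin_cases i <;> fin_cases j <;> simp [Matrix.mul_apply, Fin.sum_univ_two, Matrix.scalar_apply]
  have hord : orderOf x = 2 := orderOf_eq_prime hx2 hx1
  have := orderOf_dvd_natCard x
  rwa [hord] at this

/-- `PSL₂(F)` has no nontrivial normal subgroup of odd order, `|F|` odd -/
theorem NNP_two_PSL2 [Fintype F] (h2 : (2 : F) ≠ 0) :
    NNP 2 (Matrix.ProjectiveSpecialLinearGroup (Fin 2) F) := by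
  rcases Nat.lt_or_ge (Fintype.card F) 4 with hlt | hge
  · have h1 : 1 < Fintype.card F := Fintype.one_lt_card
    have h3 : Fintype.card F = 3 := by
      rcases Nat.lt_or_ge (Fintype.card F) 3 with h | h
      · exfalso
        have h4 : Fintype.card F = 2 := by omega
        haveI : Fact (Nat.Prime 2) := ⟨Nat.prime_two⟩
        haveI := charP_of_card_eq_prime (R := F) h4
        apply h2
        exact_mod_cast CharP.cast_eq_zero F 2
      · omega
    haveI : Fact (Nat.Prime 3) := ⟨Nat.prime_three⟩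
    haveI := charP_of_card_eq_prime (R := F) h3
    exact NNP_two_PSL2_char_three
  · haveI := Matrix.ProjectiveSpecialLinearGroup.rank_two_simple (F := F)
      (by rw [Nat.card_eq_fintype_card]; exact hge)
    exact NNP_of_simple Nat.prime_two two_dvd_card_PSL2

/-- transfer along an isomorphism onto a simple group -/
theorem NNP_two_of_equiv_simple {T T' : Type*} [Group T] [Group T'] [Finite T]
    (e : Nonempty (T ≃* T')) [IsSimpleGroup T'] (hdvd : 2 ∣ Nat.card T) : NNP 2 T := by
  obtain ⟨e⟩ := e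
  haveI : Finite T' := Finite.of_equiv T e.toEquiv
  apply NNP_of_equiv e.symm
  apply NNP_of_simple Nat.prime_two
  rw [← Nat.card_congr e.toEquiv]
  exact hdvd

theorem three_le_card_of_odd [Fintype F] (hodd : Odd (Fintype.card F)) : 3 ≤ Fintype.card F := by
  have h1 : 1 < Fintype.card F := Fintype.one_lt_card
  rcases hodd with ⟨k, hk⟩
  omega

theorem two_ne_zero_of_odd_card' [Fintype F] (hodd : Odd (Fintype.card F)) : (2 : F) ≠ 0 :=
  Cfsg.Agent.Helper7.GraphPSL.two_ne_zero_of_odd_card hodd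

/-- the odd-dimensional form -/
theorem NNP_two_odd [Fintype F] (hodd : Odd (Fintype.card F)) (m : ℕ) (hm : 1 ≤ m) :
    NNP 2 (Cfsg.POmega F ⇑(Cfsg.Agent.S2614.QfOdd m F)) := by
  classical
  have h2 := two_ne_zero_of_odd_card' hodd
  obtain ⟨r, hr⟩ := CharP.exists F
  haveI : Fact r.Prime := ⟨CharP.char_is_prime F r⟩
  have hev : 2 ∣ Nat.card (Cfsg.POmega F ⇑(Cfsg.Agent.S2614.QfOdd m F)) :=
    two_dvd_card_POmega r h2 (Cfsg.Agent.Helper21.OC.QfOdd_nondeg_of h2 m) (hpairOdd m hm)
  rw [Cfsg.Agent.S2614.QfOdd_coe] at hev ⊢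
  rcases Nat.lt_or_ge m 3 with hlt | hge
  · rcases Nat.lt_or_ge m 2 with hlt2 | hge2
    · obtain rfl : m = 1 := by omega
      obtain ⟨e⟩ := Cfsg.Agent.S0298.result hodd
      exact NNP_of_equiv e.symm (NNP_two_PSL2 h2)
    · obtain rfl : m = 2 := by omega
      haveI := Cfsg.Agent.S0270.result (F := F) 2 le_rfl (fun _ => three_le_card_of_odd hodd)
      exact NNP_two_of_equiv_simple (Cfsg.Agent.S0301.result hodd) hev
  · haveI := Cfsg.Agent.S0295.result hodd m hge
    exact NNP_of_simple Nat.prime_two hev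

/-- the plus form -/
theorem NNP_two_plus [Fintype F] (hodd : Odd (Fintype.card F)) (m : ℕ) (hm : 2 ≤ m) :
    NNP 2 (Cfsg.POmega F ⇑(QfPlus m F)) := by
  classical
  have h2 := two_ne_zero_of_odd_card' hodd
  obtain ⟨r, hr⟩ := CharP.exists F
  haveI : Fact r.Prime := ⟨CharP.char_is_prime F r⟩
  haveI : Nonempty (Fin m ⊕ Fin m) := ⟨Sum.inl ⟨0, by omega⟩⟩
  have hev : 2 ∣ Nat.card (Cfsg.POmega F ⇑(QfPlus m F)) :=
    two_dvd_card_POmega r h2 (QfPlus_nondeg m) (hpairPlus m hm)
  rw [QfPlus_coe] at hev ⊢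
  rcases Nat.lt_or_ge m 4 with hlt | hge
  · rcases Nat.lt_or_ge m 3 with hlt2 | hge2
    · obtain rfl : m = 2 := by omega
      obtain ⟨e⟩ := Cfsg.Agent.S0299.result (three_le_card_of_odd hodd)
      exact NNP_of_equiv e.symm (NNP_prod (NNP_two_PSL2 h2) (NNP_two_PSL2 h2))
    · obtain rfl : m = 3 := by omega
      haveI := Cfsg.Agent.S0249.result (F := F) 4 (by norm_num)
      exact NNP_two_of_equiv_simple (Cfsg.Agent.S0302.result (F := F)) hev
  · haveI := Cfsg.Agent.S0296.result (F := F) m hge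
    exact NNP_of_simple Nat.prime_two hev

/-- a quadratic extension of a finite field -/
theorem exists_quadratic_ext [Fintype F] :
    ∃ (K : Type) (_ : Field K) (_ : Fintype K), Fintype.card K = Fintype.card F ^ 2 := by
  obtain ⟨r, hr⟩ := CharP.exists F
  obtain ⟨k, hrp, hk⟩ := FiniteField.card F r
  haveI : Fact r.Prime := ⟨hrp⟩
  letI : Fintype (GaloisField r (2 * k)) := Fintype.ofFinite _
  refine ⟨GaloisField r (2 * k), inferInstance, inferInstance, ?_⟩
  rw [← Nat.card_eq_fintype_card, GaloisField.card r (2 * k) (by positivity), hk, ← pow_mul,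
    mul_comm]

/-- the minus form -/
theorem NNP_two_minus [Fintype F] (hodd : Odd (Fintype.card F)) (m : ℕ) (hm : 1 ≤ m) (a b : F)
    (hab : ∀ z₁ z₂ : F, z₁ ^ 2 + a * z₁ * z₂ + b * z₂ ^ 2 = 0 → z₁ = 0 ∧ z₂ = 0)
    (hab' : 4 * b - a ^ 2 ≠ 0) :
    NNP 2 (Cfsg.POmega F ⇑(QfMinus m F a b)) := by
  classical
  have h2 := two_ne_zero_of_odd_card' hodd
  obtain ⟨r, hr⟩ := CharP.exists F
  haveI : Fact r.Prime := ⟨CharP.char_is_prime F r⟩
  have hev : 2 ∣ Nat.card (Cfsg.POmega F ⇑(QfMinus m F a b)) :=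
    two_dvd_card_POmega r h2 (Cfsg.Agent.S2171.QfMinus_nondeg_of m a b hab') (hpairMinus m hm a b)
  rw [QfMinus_coe] at hev ⊢
  obtain ⟨K, hKf, hKfin, hK⟩ := exists_quadratic_ext (F := F)
  have h3 := three_le_card_of_odd hodd
  rcases Nat.lt_or_ge m 3 with hlt | hge
  · rcases Nat.lt_or_ge m 2 with hlt2 | hge2
    · obtain rfl : m = 1 := by omega
      haveI := Matrix.ProjectiveSpecialLinearGroup.rank_two_simple (F := K)
        (by rw [Nat.card_eq_fintype_card, hK]; nlinarith)
      exact NNP_two_of_equiv_simple (Cfsg.Agent.S0300.result rfl hK a b hab) hev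
    · obtain rfl : m = 2 := by omega
      haveI := Cfsg.Agent.S0283.result (F := K) hK 4 (by norm_num) (by omega)
      exact NNP_two_of_equiv_simple (Cfsg.Agent.S0303.result rfl hK a b hab) hev
  · haveI : IsSimpleGroup (Cfsg.POmega F (Cfsg.quadFormMinus m F a b)) :=
      Cfsg.Agent.S0297.result (F := F) (m + 1) (by omega) a b hab
    exact NNP_of_simple Nat.prime_two hev

end Cfsg.Agent.Helper7.LBal
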