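import Mathlib
import Cfsg.Agent.Helper7.LBal14

set_option autoImplicit false
set_option linter.unusedSectionVars false

/-! Symmetric graph involutions of `PSL_n(F)`: the `2'`-core of the centralizer is trivial. -/

namespace Cfsg.Agent.Helper7.LBal

open Matrix Cfsg.Agent.Helper28.IsoTransport Cfsg.Agent.Helper28.Spin Cfsg.Agent.Helper28.Sg
  Cfsg.Agent.Helper28.QPlus Cfsg.Agent.Helper7.GraphPSL Cfsg.Agent.Helper7.AutPSL
  Cfsg.Agent.Helper7.OrthUni

variable {F : Type*} [Field F]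

theorem Qp_eq_QfPlus (m : ℕ) : Cfsg.Agent.S2617.Qp m F = QfPlus m F :=
  DFunLike.coe_injective (by rw [Cfsg.Agent.S2617.Qp_coe, QfPlus_coe])

theorem Qm_eq_QfMinus (m : ℕ) (a c : F) : Cfsg.Agent.S2562.Qm m F a c = QfMinus m F a c :=
  DFunLike.coe_injective (by rw [Cfsg.Agent.S2562.Qm_coe, QfMinus_coe])

theorem odd_card_of_two_ne_zero [Fintype F] (h2 : (2 : F) ≠ 0) : Odd (Fintype.card F) := by
  rw [← Nat.not_even_iff_odd]
  intro h
  apply h2
  have h3 := FiniteField.even_card_iff_char_two.2 (Nat.even_iff.1 h)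
  have : ((2 : ℕ) : F) = 0 := by
    rw [← h3]
    exact ringChar.Nat.cast_ringChar
  exact_mod_cast this

/-- the square-class condition in even dimension -/
theorem hsq_of_iff [Fintype F] (h2 : (2 : F) ≠ 0) {m : ℕ} {ι' : Type} [Fintype ι'] [DecidableEq ι']
    (g₀ : GL (Fin (2 * m)) F) (Q' : QuadraticForm F (ι' → F))
    (hQ' : (QuadraticMap.polarBilin Q').Nondegenerate)
    (hsq : IsSquare (g₀ : Matrix (Fin (2 * m)) (Fin (2 * m)) F).det ↔ IsSquare (gram Q').det) :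
    IsSquare (((2 : F) • (g₀ : Matrix (Fin (2 * m)) (Fin (2 * m)) F)).det * (gram Q').det) := by
  rw [Matrix.det_smul, Fintype.card_fin, pow_mul', mul_assoc]
  have hd0 : (g₀ : Matrix (Fin (2 * m)) (Fin (2 * m)) F).det ≠ 0 :=
    ((Matrix.isUnit_iff_isUnit_det _).1 g₀.isUnit).ne_zero
  have hq0 : (gram Q').det ≠ 0 := (nondeg_iff_det Q').1 hQ'
  apply IsSquare.mul (IsSquare.sq _)
  by_cases h : IsSquare (g₀ : Matrix (Fin (2 * m)) (Fin (2 * m)) F).det
  · exact h.mul (hsq.1 h)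
  · exact isSquare_mul_of_not h2 hd0 hq0 h (fun h' => h (hsq.2 h'))

variable {n : ℕ}

/-- **symmetric graph involutions, all dimensions** -/
theorem graph_sym_final [Fintype F] {r f : ℕ} [Fact r.Prime] [CharP F r]
    (hF : Fintype.card F = r ^ f) (hf : 1 ≤ f) (hn : 3 ≤ n)
    (hZ : Subgroup.center (Matrix.ProjectiveSpecialLinearGroup (Fin n) F) = ⊥)
    (𝒢 : Subgroup (MulAut (Matrix.ProjectiveSpecialLinearGroup (Fin n) F)))
    (hinn : ∀ k : Matrix.ProjectiveSpecialLinearGroup (Fin n) F, MulAut.conj k ∈ 𝒢)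
    (hF2 : (2 : F) ≠ 0) (g₀ : GL (Fin n) F)
    (hsym : (g₀ : Matrix (Fin n) (Fin n) F)ᵀ = (g₀ : Matrix (Fin n) (Fin n) F)) :
    Cfsg.pPrimeCore 2 ↥(𝒢 ⊓ Subgroup.centralizer {graphAut g₀}) = ⊥ := by
  classical
  have hodd := odd_card_of_two_ne_zero hF2
  have hn2 : 2 ≤ n := by omega
  have hs : n = 2 → 4 ≤ Fintype.card F := fun h => by omega
  rcases Nat.even_or_odd' n with ⟨m, hm | hm⟩
  · -- even dimension
    subst hm
    have hm2 : 2 ≤ m := by omega
    by_cases hiff : IsSquare (g₀ : Matrix (Fin (2 * m)) (Fin (2 * m)) F).det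
        ↔ Even (m * (Fintype.card F - 1) / 2)
    · haveI : Nonempty (Fin m ⊕ Fin m) := ⟨Sum.inl ⟨0, by omega⟩⟩
      apply graph_sym_core_bot hF hf hn2 hs hZ 𝒢 hinn hF2 g₀ hsym (QfPlus m F) (QfPlus_nondeg m)
        (by simp; ring) _ (hpairPlus m hm2) (NNP_two_plus hodd m hm2)
      apply hsq_of_iff hF2 g₀ _ (QfPlus_nondeg m)
      rw [hiff, ← Qp_eq_QfPlus, gram_Qp_det_isSquare_iff hodd (by omega)]
    · obtain ⟨a, c, hac, hac'⟩ := exists_anisotropic (F := F) hF2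
      apply graph_sym_core_bot hF hf hn2 hs hZ 𝒢 hinn hF2 g₀ hsym (QfMinus (m - 1) F a c)
        (Cfsg.Agent.S2171.QfMinus_nondeg_of (m - 1) a c hac')
        (by simp only [Fintype.card_sum, Fintype.card_fin]; omega) _
        (hpairMinus (m - 1) (by omega) a c) (NNP_two_minus hodd (m - 1) (by omega) a c hac hac')
      apply hsq_of_iff hF2 g₀ _ (Cfsg.Agent.S2171.QfMinus_nondeg_of (m - 1) a c hac')
      rw [← Qm_eq_QfMinus, gram_Qm_det_isSquare_iff hodd (by omega) a c hac]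
      tauto
  · -- odd dimension
    subst hm
    have hm1 : 1 ≤ m := by omega
    set Q' := Cfsg.Agent.S2614.QfOdd m F with hQ'
    have hQnd : (QuadraticMap.polarBilin Q').Nondegenerate :=
      Cfsg.Agent.Helper21.OC.QfOdd_nondeg_of hF2 m
    have hd : (gram Q').det ≠ 0 := (nondeg_iff_det Q').1 hQnd
    have hd0 : ((2 : F) • (g₀ : Matrix (Fin (2 * m + 1)) (Fin (2 * m + 1)) F)).det ≠ 0 := by
      rw [Matrix.det_smul]
      exact mul_ne_zero (pow_ne_zero _ hF2) ((Matrix.isUnit_iff_isUnit_det _).1 g₀.isUnit).ne_zero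
    set c : F := ((2 : F) • (g₀ : Matrix (Fin (2 * m + 1)) (Fin (2 * m + 1)) F)).det
      * (gram Q').det with hc
    have hc0 : c ≠ 0 := mul_ne_zero hd0 hd
    rw [← graphAut_scalarGL_mul (Units.mk0 c hc0) g₀]
    apply graph_sym_core_bot hF hf hn2 hs hZ 𝒢 hinn hF2 (scalarGL (Units.mk0 c hc0) * g₀)
      (by rw [scalarGL_mul_coe, Matrix.transpose_smul, hsym]) Q' hQnd
      (by simp only [Fintype.card_sum, Fintype.card_fin, Fintype.card_unit]; omega) _
      (hpairOdd m hm1) (NNP_two_odd hodd m hm1)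
    rw [scalarGL_mul_coe, Units.val_mk0, smul_comm, Matrix.det_smul, Fintype.card_fin, mul_assoc,
      ← hc]
    exact ⟨c ^ (m + 1), by ring⟩

end Cfsg.Agent.Helper7.LBal
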