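import Mathlib
import Cfsg.Agent.Helper7.LBal15
import Cfsg.Agent.Helper7.AutPSp12
import Cfsg.Agent.Helper7.GraphSplit6
import Cfsg.Agent.S0269

set_option autoImplicit false
set_option linter.unusedSectionVars false

/-! Generic subgroups of the inner-diagonal centralizer of a graph automorphism, and the
skew-symmetric graph involutions of `PSL_{2m}(F)`. -/

namespace Cfsg.Agent.Helper7.LBal

open Matrix Cfsg.Agent.Helper7.GraphPSL Cfsg.Agent.Helper7.AutPSL

variable {n : ℕ} {F : Type*} [Field F]
variable {ι' : Type} [Fintype ι'] [DecidableEq ι']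

section generic

variable (P : Matrix (Fin n) ι' F) (P' : Matrix ι' (Fin n) F) (h1 : P * P' = 1) (h2 : P' * P = 1)
variable {S : Type*} [Group S] (j : S →* GL ι' F)
  (hdet : ∀ s, Matrix.GeneralLinearGroup.det (j s) = 1)

/-- the hom `S →* SL_n(F)` attached to a determinant-one subgroup of `GL` -/
noncomputable def ThetaOf : S →* Matrix.SpecialLinearGroup (Fin n) F where
  toFun s := ⟨((thetaGL P P' h1 h2 (j s) : GL (Fin n) F) : Matrix (Fin n) (Fin n) F), by
    have := det_thetaGL P P' h1 h2 (j s)
    rw [hdet, inv_one] at this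
    exact congrArg Units.val this⟩
  map_one' := by
    apply Subtype.ext
    show ((thetaGL P P' h1 h2 (j 1) : GL (Fin n) F) : Matrix (Fin n) (Fin n) F) = 1
    rw [map_one, map_one]; rfl
  map_mul' s t := by
    apply Subtype.ext
    show ((thetaGL P P' h1 h2 (j (s * t)) : GL (Fin n) F) : Matrix (Fin n) (Fin n) F) = _
    rw [map_mul, map_mul]; rfl

theorem toGL_ThetaOf (s : S) :
    Matrix.SpecialLinearGroup.toGL (ThetaOf P P' h1 h2 j hdet s) = thetaGL P P' h1 h2 (j s) := by
  apply Units.ext
  rfl

theorem PhiP_eq_conj (s : S) :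
    PhiP P P' h1 h2 (j s) = MulAut.conj (pr (ThetaOf P P' h1 h2 j hdet s)) := by
  rw [PhiP_eq, ← toGL_ThetaOf P P' h1 h2 j hdet, Cfsg.Agent.Helper7.GraphSplit.cGL_toGL]
  rfl

theorem ThetaOf_coe (s : S) :
    ((ThetaOf P P' h1 h2 j hdet s : Matrix.SpecialLinearGroup (Fin n) F) :
      Matrix (Fin n) (Fin n) F) = (P * (j s⁻¹ : GL ι' F).val * P')ᵀ := by
  show ((invTGL (conjP P P' h1 h2 (j s)) : GL (Fin n) F) : Matrix (Fin n) (Fin n) F) = _
  rw [invTGL_coe, ← map_inv, ← map_inv]
  rfl

/-- a one-parameter additive family gives a unipotent family in `SL_n(F)` -/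
noncomputable def addFam (r : ℕ) [CharP F r] (t : F → S) (M : Matrix ι' ι' F) (hM : M ≠ 0)
    (ht : ∀ a, ((j (t a) : GL ι' F) : Matrix ι' ι' F) = 1 + a • M)
    (hadd : ∀ a b, t a * t b = t (a + b)) : UFam n F r where
  u a := ThetaOf P P' h1 h2 j hdet (t a)
  N₁ := -(P * M * P')ᵀ
  N₂ := 0
  hN₁ := by
    intro h
    apply hM
    have h3 : P * M * P' = 0 := by
      have := congrArg Matrix.transpose (neg_eq_zero.1 h)
      rwa [Matrix.transpose_transpose, Matrix.transpose_zero] at this
    calc M = (P' * P) * M * (P' * P) := by rw [h2, Matrix.one_mul, Matrix.mul_one]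
      _ = P' * (P * M * P') * P := by simp only [Matrix.mul_assoc]
      _ = 0 := by rw [h3, Matrix.mul_zero, Matrix.zero_mul]
  hu a := by
    have h0 : t 0 = 1 := by
      have := hadd 0 0
      rw [add_zero] at this
      exact mul_left_cancel (this.trans (mul_one _).symm)
    have hinv : (t a)⁻¹ = t (-a) := by
      apply inv_eq_of_mul_eq_one_right
      rw [hadd, add_neg_cancel, h0]
    rw [ThetaOf_coe, hinv, ht, Matrix.mul_add, Matrix.add_mul, Matrix.mul_one, h1,
      Matrix.transpose_add, Matrix.transpose_one, Matrix.mul_smul, Matrix.smul_mul,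
      Matrix.transpose_smul, smul_zero, add_zero, neg_smul, smul_neg]
  hinv a := by
    have h0 : t 0 = 1 := by
      have := hadd 0 0
      rw [add_zero] at this
      exact mul_left_cancel (this.trans (mul_one _).symm)
    rw [← map_inv]
    congr 1
    apply inv_eq_of_mul_eq_one_right
    rw [hadd, add_neg_cancel, h0]
  hpow a := by
    have h0 : t 0 = 1 := by
      have := hadd 0 0
      rw [add_zero] at this
      exact mul_left_cancel (this.trans (mul_one _).symm)
    have hk : ∀ k : ℕ, t a ^ k = t (k • a) := by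
      intro k
      induction k with
      | zero => rw [pow_zero, zero_smul, h0]
      | succ k ih => rw [pow_succ, ih, hadd, succ_nsmul]
    rw [← map_pow, hk, nsmul_eq_mul, CharP.cast_eq_zero, zero_mul, h0, map_one]

end generic

end Cfsg.Agent.Helper7.LBal
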