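import Mathlib
import Cfsg.Agent.Helper7.LBal16
import Cfsg.Agent.Helper28.FieldB6

set_option autoImplicit false
set_option linter.unusedSectionVars false

/-! Skew-symmetric graph involutions of `PSL_{2m}(F)`: the `2'`-core of the centralizer is
trivial. -/

namespace Cfsg.Agent.Helper7.LBal

open Matrix Cfsg.Agent.Helper7.GraphPSL Cfsg.Agent.Helper7.AutPSL Cfsg.Agent.Helper2.Sp
  Cfsg.Agent.Helper7.AutPSp
open Cfsg.Agent.Helper7.GraphSplit (spToGSp spToGSp_coe)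

variable {F : Type*} [Field F] {m : ℕ}

local notation "V" => (Fin m ⊕ Fin m → F)
local notation "Mt" => Matrix (Fin m ⊕ Fin m) (Fin m ⊕ Fin m) F
local notation "SpG" => Matrix.symplecticGroup (Fin m) F
local notation "GLm" => GL (Fin m ⊕ Fin m) F
local notation "KK" => Matrix.ProjectiveSpecialLinearGroup (Fin (2 * m)) F

theorem det_spGLhom (hperf : commutator SpG = ⊤) (s : SpG) :
    Matrix.GeneralLinearGroup.det (spGLhom m F s) = 1 := by
  set f : SpG →* Fˣ := (Matrix.GeneralLinearGroup.det : GLm →* Fˣ).comp (spGLhom m F) with hf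
  have h1 : commutator SpG ≤ f.ker := Abelianization.commutator_subset_ker f
  rw [hperf] at h1
  exact h1 (Subgroup.mem_top s)

/-- the map `Sp_{2m}(F) → Aut(PSL_{2m}(F))` -/
noncomputable def psiSp : SpG →* MulAut KK :=
  (PhiP (Pre m F) (Pre' m F) (Pre_mul_Pre' m) (Pre'_mul_Pre m)).comp (spGLhom m F)

theorem psiSp_apply (s : SpG) :
    psiSp s = PhiP (Pre m F) (Pre' m F) (Pre_mul_Pre' m) (Pre'_mul_Pre m) (spGLhom m F s) := rfl

theorem PhiP_mem_centralizer_skew_iff (k : GLm) :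
    PhiP (Pre m F) (Pre' m F) (Pre_mul_Pre' m) (Pre'_mul_Pre m) k
      ∈ Subgroup.centralizer {graphAut (skewRep m F)} ↔ k ∈ Cfsg.GSp m F := by
  rw [Subgroup.mem_centralizer_singleton_iff,
    PhiP_commute_iff (Pre m F) (Pre' m F) (Pre_mul_Pre' m) (Pre'_mul_Pre m) (skewRep m F) k,
    Pre_skewRep_Pre]
  constructor
  · rintro ⟨c, hc⟩
    exact ⟨c, (form_eq_iff_matrix_eq _ _ _).2 hc⟩
  · rintro ⟨c, hc⟩
    exact ⟨c, (form_eq_iff_matrix_eq _ _ _).1 hc⟩

theorem exists_of_mem_inf_skew (d : MulAut KK)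
    (hd : d ∈ Cfsg.inndiagPSL (2 * m) F ⊓ Subgroup.centralizer {graphAut (skewRep m F)}) :
    ∃ k : ↥(Cfsg.GSp m F),
      d = PhiP (Pre m F) (Pre' m F) (Pre_mul_Pre' m) (Pre'_mul_Pre m) (k : GLm) := by
  have h3 : d ∈ (PhiP (Pre m F) (Pre' m F) (Pre_mul_Pre' m) (Pre'_mul_Pre m)).range := by
    rw [range_PhiP]; exact hd.1
  obtain ⟨k, rfl⟩ := h3
  exact ⟨⟨k, (PhiP_mem_centralizer_skew_iff k).1 hd.2⟩, rfl⟩

/-- a symplectic matrix which is scalar is central -/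
theorem mem_center_of_scalar (s : SpG)
    (hs : spGLhom m F s ∈ Cfsg.Geo.scalars (Fin m ⊕ Fin m) F) : s ∈ Subgroup.center SpG := by
  rw [Cfsg.Geo.mem_scalars_iff] at hs
  obtain ⟨c, hc⟩ := hs
  rw [Subgroup.mem_center_iff]
  intro t
  apply Subtype.ext
  show (t : Mt) * (s : Mt) = (s : Mt) * (t : Mt)
  have : (s : Mt) = (c : F) • (1 : Mt) := hc
  rw [this, Matrix.mul_smul, Matrix.smul_mul, Matrix.mul_one, Matrix.one_mul]

section charp

variable (p : ℕ) [Fact p.Prime] [CharP F p]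

include p in
/-- a central symplectic matrix is scalar -/
theorem scalar_of_mem_center (hm : 1 ≤ m) (s : SpG) (hs : s ∈ Subgroup.center SpG) :
    spGLhom m F s ∈ Cfsg.Geo.scalars (Fin m ⊕ Fin m) F := by
  have h1 : cSp (spToGSp m F s) = 1 := by
    ext x
    obtain ⟨t, rfl⟩ := prS_surjective x
    rw [cSp_prS, MulAut.one_apply]
    congr 1
    apply spGLhom_injective
    rw [spGLhom_conjSp]
    show spGLhom m F s * spGLhom m F t * (spGLhom m F s)⁻¹ = spGLhom m F t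
    rw [← map_mul, ← map_inv, ← map_mul, ← (Subgroup.mem_center_iff.1 hs t), mul_inv_cancel_right]
  exact (cSp_eq_one_iff p hm _).1 h1

include p in
theorem ker_psiSp (hm : 1 ≤ m) : (psiSp (F := F) (m := m)).ker = Subgroup.center SpG := by
  ext s
  rw [MonoidHom.mem_ker, psiSp_apply, ← MonoidHom.mem_ker, ker_PhiP]
  exact ⟨mem_center_of_scalar s, scalar_of_mem_center p hm s⟩

include p in
/-- an element of the inner-diagonal centralizer commuting with the image of `Sp` is trivial -/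
theorem eq_one_of_centralizes_skew (hm : 1 ≤ m) (k : ↥(Cfsg.GSp m F))
    (h : ∀ s : SpG, PhiP (Pre m F) (Pre' m F) (Pre_mul_Pre' m) (Pre'_mul_Pre m) (k : GLm) * psiSp s
      = psiSp s * PhiP (Pre m F) (Pre' m F) (Pre_mul_Pre' m) (Pre'_mul_Pre m) (k : GLm)) :
    PhiP (Pre m F) (Pre' m F) (Pre_mul_Pre' m) (Pre'_mul_Pre m) (k : GLm) = 1 := by
  have h1 : cSp k = 1 := by
    ext x
    obtain ⟨t, rfl⟩ := prS_surjective x
    rw [cSp_prS, MulAut.one_apply]
    symm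
    rw [prS_eq_iff]
    apply mem_center_of_scalar
    rw [← ker_PhiP (Pre m F) (Pre' m F) (Pre_mul_Pre' m) (Pre'_mul_Pre m), MonoidHom.mem_ker]
    have e : spGLhom m F (t⁻¹ * conjSp k t)
        = (spGLhom m F t)⁻¹ * ((k : GLm) * spGLhom m F t * (k : GLm)⁻¹) := by
      rw [map_mul, map_inv, spGLhom_conjSp]
    rw [e]
    simp only [map_mul, map_inv]
    rw [← psiSp_apply, h t]
    group
  rw [← MonoidHom.mem_ker, ker_PhiP]
  exact (cSp_eq_one_iff p hm k).1 h1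

end charp

/-- the image of `Sp` is normalised by the inner-diagonal centralizer -/
theorem psiSp_range_normalized (d : MulAut KK)
    (hd : d ∈ Cfsg.inndiagPSL (2 * m) F ⊓ Subgroup.centralizer {graphAut (skewRep m F)})
    (x : MulAut KK) (hx : x ∈ (psiSp (F := F) (m := m)).range) :
    d * x * d⁻¹ ∈ (psiSp (F := F) (m := m)).range := by
  obtain ⟨k, rfl⟩ := exists_of_mem_inf_skew d hd
  obtain ⟨s, rfl⟩ := hx
  refine ⟨conjSp k s, ?_⟩
  rw [psiSp_apply, psiSp_apply, spGLhom_conjSp, map_mul, map_mul, map_inv]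

/-- the symplectic transvection family -/
noncomputable def trSp (hm : 1 ≤ m) (a : F) : SpG :=
  ⟨T (Pi.single (Sum.inl ⟨0, hm⟩) 1) a, T_mem _ a⟩

theorem trSp_mul (hm : 1 ≤ m) (a b : F) : trSp hm a * trSp hm b = trSp hm (a + b) :=
  Subtype.ext (T_mulS _ a b)

theorem trSp_M_ne_zero (hm : 1 ≤ m) :
    vecMulVec (Pi.single (Sum.inl ⟨0, hm⟩) (1 : F) : V)
      ((Pi.single (Sum.inl ⟨0, hm⟩) (1 : F) : V) ᵥ* Matrix.J (Fin m) F) ≠ 0 := by
  intro h
  have := congrFun (congrFun h (Sum.inl ⟨0, hm⟩)) (Sum.inr ⟨0, hm⟩)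
  simp [vecMulVec_apply, Matrix.J, Matrix.vecMul, dotProduct, Fintype.sum_sum_type,
    Pi.single_apply, Matrix.fromBlocks_apply₁₂] at this

theorem psiSp_mem_centralizer (s : SpG) :
    psiSp s ∈ Subgroup.centralizer {graphAut (skewRep m F)} := by
  rw [psiSp_apply, PhiP_mem_centralizer_skew_iff]
  exact (spToGSp m F s).2

/-- `|PSp_{2m}(F)|` is even -/
theorem two_dvd_card_PSp [Finite F] (p : ℕ) [Fact p.Prime] [CharP F p] (hm : 1 ≤ m) :
    2 ∣ Nat.card (Cfsg.PSp m F) := by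
  set s : SpG := ⟨Matrix.J (Fin m) F, SymplecticGroup.J_mem (Fin m) F⟩ with hs
  set x : Cfsg.PSp m F := prS s with hx
  have hx1 : x ≠ 1 := by
    intro h
    rw [hx, prS_eq_one_iff] at h
    have h1 := scalar_of_mem_center p hm s h
    rw [Cfsg.Geo.mem_scalars_iff] at h1
    obtain ⟨c, hc⟩ := h1
    have h2 := congrFun (congrFun hc (Sum.inl ⟨0, hm⟩)) (Sum.inr ⟨0, hm⟩)
    simp [spGLhom_coe, hs, Matrix.J] at h2
  have hx2 : x ^ 2 = 1 := by
    rw [hx, ← map_pow, prS_eq_one_iff]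
    apply mem_center_of_scalar
    rw [Cfsg.Geo.mem_scalars_iff]
    refine ⟨-1, ?_⟩
    show ((s ^ 2 : SpG) : Mt) = ((-1 : Fˣ) : F) • (1 : Mt)
    rw [pow_two]
    show Matrix.J (Fin m) F * Matrix.J (Fin m) F = _
    rw [Matrix.J_squared]
    simp
  have hord : orderOf x = 2 := orderOf_eq_prime hx2 hx1
  have := orderOf_dvd_natCard x
  rwa [hord] at this

/-- transport of the triviality of the core along a conjugation -/
theorem core_bot_of_conj {G : Type*} [Group G] (p : ℕ) (x φ α : MulAut G) (h : α * x * α⁻¹ = φ)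
    (H : ∀ 𝒢' : Subgroup (MulAut G), (∀ k : G, MulAut.conj k ∈ 𝒢') →
      Cfsg.pPrimeCore p ↥(𝒢' ⊓ Subgroup.centralizer {φ}) = ⊥)
    (𝒢 : Subgroup (MulAut G)) (hinn : ∀ k : G, MulAut.conj k ∈ 𝒢) :
    Cfsg.pPrimeCore p ↥(𝒢 ⊓ Subgroup.centralizer {x}) = ⊥ := by
  by_contra hne
  have h1 := (Cfsg.Agent.Helper28.FB.core_conj p 𝒢 α x φ h).1 hne
  exact h1 (H _ (Cfsg.Agent.Helper28.FB.conj_mem_map_conj 𝒢 hinn α))

/-- **skew-symmetric graph involutions, the representative** -/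
theorem graph_skew_rep [Fintype F] {r f : ℕ} [Fact r.Prime] [CharP F r]
    (hF : Fintype.card F = r ^ f) (hf : 1 ≤ f) (hm : 2 ≤ m) (hF2 : (2 : F) ≠ 0)
    (hZ : Subgroup.center KK = ⊥)
    (𝒢 : Subgroup (MulAut KK)) (hinn : ∀ k : KK, MulAut.conj k ∈ 𝒢) :
    Cfsg.pPrimeCore 2 ↥(𝒢 ⊓ Subgroup.centralizer {graphAut (skewRep m F)}) = ⊥ := by
  classical
  haveI : Fact (Nat.Prime 2) := ⟨Nat.prime_two⟩
  have hm1 : 1 ≤ m := by omega
  have hodd := odd_card_of_two_ne_zero hF2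
  have h3 := three_le_card_of_odd hodd
  have hperf : commutator SpG = ⊤ := Cfsg.Agent.S0269.result (F := F) m (by
    rcases Nat.lt_or_ge m 3 with h | h
    · right; left; exact ⟨by omega, h3⟩
    · left; exact h)
  have hdet := det_spGLhom (F := F) (m := m) hperf
  have hn2 : 2 ≤ 2 * m := by omega
  have hs : 2 * m = 2 → 4 ≤ Fintype.card F := fun h => by omega
  apply core_bot_main hF hf hn2 hs hZ 𝒢 hinn (graphAut (skewRep m F)) 2
    (psiSp (F := F) (m := m)).range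
    (U := addFam (Pre m F) (Pre' m F) (Pre_mul_Pre' m) (Pre'_mul_Pre m) (spGLhom m F) hdet r
      (trSp hm1) _ (trSp_M_ne_zero hm1) (fun a => rfl) (trSp_mul hm1)) (A := Set.univ)
  · rintro _ ⟨s, rfl⟩
    rw [psiSp_apply, PhiP_eq_conj _ _ _ _ (spGLhom m F) hdet]
    exact ⟨_, rfl⟩
  · rintro _ ⟨s, rfl⟩
    exact psiSp_mem_centralizer s
  · intro d hd x hx
    exact psiSp_range_normalized d hd x hx
  · haveI := Cfsg.Agent.S0270.result (F := F) m hm (fun _ => h3)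
    exact NNP_range_of_ker_eq_center _ (ker_psiSp r hm1)
      (NNP_of_simple Nat.prime_two (two_dvd_card_PSp r hm1))
  · intro d hd hcomm
    obtain ⟨k, rfl⟩ := exists_of_mem_inf_skew d hd
    apply eq_one_of_centralizes_skew r hm1
    intro s
    exact hcomm _ ⟨s, rfl⟩
  · exact Set.mem_univ 1
  · intro a _
    exact Set.mem_univ _
  · exact Or.inr rfl
  · intro a _
    show MulAut.conj (pr (ThetaOf (Pre m F) (Pre' m F) (Pre_mul_Pre' m) (Pre'_mul_Pre m)
      (spGLhom m F) hdet (trSp hm1 a))) ∈ _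
    rw [← PhiP_eq_conj, ← psiSp_apply]
    exact psiSp_mem_centralizer _
  · intro τ hτ
    have : τ = 1 := by
      ext a
      exact hτ a (Set.mem_univ a)
    rw [this, one_pow]
  · intro h
    exact absurd rfl h

/-- **skew-symmetric graph involutions** -/
theorem graph_skew_final [Fintype F] {r f : ℕ} [Fact r.Prime] [CharP F r]
    (hF : Fintype.card F = r ^ f) (hf : 1 ≤ f) (hm : 2 ≤ m) (hF2 : (2 : F) ≠ 0)
    (hZ : Subgroup.center KK = ⊥)
    (𝒢 : Subgroup (MulAut KK)) (hinn : ∀ k : KK, MulAut.conj k ∈ 𝒢)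
    (g : GL (Fin (2 * m)) F)
    (hg : (g : Matrix (Fin (2 * m)) (Fin (2 * m)) F)ᵀ
      = -(g : Matrix (Fin (2 * m)) (Fin (2 * m)) F)) :
    Cfsg.pPrimeCore 2 ↥(𝒢 ⊓ Subgroup.centralizer {graphAut g}) = ⊥ := by
  obtain ⟨k, -, hk⟩ := isConjUnder_of_skew m hF2 g hg
  apply core_bot_of_conj 2 (graphAut g) (graphAut (skewRep m F)) k⁻¹ (by rw [hk]; group) _ 𝒢 hinn
  intro 𝒢' hinn'
  exact graph_skew_rep hF hf hm hF2 hZ 𝒢' hinn'

end Cfsg.Agent.Helper7.LBal
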