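import Mathlib
import Cfsg.Agent.Helper7.LBal17
import Cfsg.Agent.Helper7.FieldPSL12
import Cfsg.Agent.Helper7.GraphPSU6
import Cfsg.Agent.Helper7.AutPSU6
import Cfsg.Agent.S0283
import Cfsg.Agent.S0781

set_option autoImplicit false
set_option linter.unusedSectionVars false

/-! Graph-field involutions of `PSL_n(F)`: the `2'`-core of the centralizer is trivial. -/

namespace Cfsg.Agent.Helper7.LBal

open Matrix Cfsg.Agent.Helper7.GraphPSL Cfsg.Agent.Helper7.AutPSL Cfsg.Agent.Helper7.FieldPSL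
open Cfsg.Agent.Helper7.GraphPSU (UData HS mem_HS_iff IsUG isUG_iff IsU mem_GU_iff isUG_mem_HS suGL
  suGL_coe suGL_isUG suGL_det suGL_injective conjSU suGL_conjSU cU cU_mk cU_eq_one_iff suMat mkSU
  suMat_mkSU T_det T_isU)

variable {F : Type*} [Field F] {n q : ℕ} (D : UData F q)

local notation "KK" => Matrix.ProjectiveSpecialLinearGroup (Fin n) F
local notation "h" => Cfsg.hermForm n F q
local notation "T" => Cfsg.unitaryTransvection n q

/-- the map `SU_n → Aut(PSL_n(F))` -/
noncomputable def psiSU : ↥(Cfsg.SU n F q) →* MulAut KK :=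
  (cGL : GL (Fin n) F →* MulAut KK).comp suGL

theorem psiSU_apply (s : ↥(Cfsg.SU n F q)) : (psiSU s : MulAut KK) = cGL (suGL s) := rfl

theorem psiSU_eq_conj (s : ↥(Cfsg.SU n F q)) :
    (psiSU s : MulAut KK) = MulAut.conj (pr (s : Matrix.SpecialLinearGroup (Fin n) F)) := by
  rw [psiSU_apply]
  exact Cfsg.Agent.Helper7.GraphSplit.cGL_toGL _

include D in
theorem suGL_mem_GU (s : ↥(Cfsg.SU n F q)) : suGL s ∈ Cfsg.GU n F q :=
  (mem_GU_iff_isUG D _).2 (suGL_isUG D s)

theorem psiSU_mem [Finite F] [NeZero n] (s : ↥(Cfsg.SU n F q)) :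
    (psiSU s : MulAut KK) ∈ Cfsg.inndiagPSL n F ⊓ Subgroup.centralizer {psiGF D.bar} := by
  rw [← range_psiU D]
  exact ⟨⟨suGL s, suGL_mem_GU D s⟩, rfl⟩

theorem exists_of_mem_inf_gf [Finite F] [NeZero n] (d : MulAut KK)
    (hd : d ∈ Cfsg.inndiagPSL n F ⊓ Subgroup.centralizer {psiGF D.bar}) :
    ∃ u : ↥(HS D n), d = cGL (u : GL (Fin n) F) := by
  rw [← range_psiU D] at hd
  obtain ⟨u, rfl⟩ := hd
  exact ⟨⟨u, isUG_mem_HS D ((mem_GU_iff_isUG D _).1 u.2)⟩, rfl⟩

theorem psiSU_range_normalized [Finite F] [NeZero n] (d : MulAut KK)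
    (hd : d ∈ Cfsg.inndiagPSL n F ⊓ Subgroup.centralizer {psiGF D.bar})
    (x : MulAut KK) (hx : x ∈ (psiSU (F := F) (n := n) (q := q)).range) :
    d * x * d⁻¹ ∈ (psiSU (F := F) (n := n) (q := q)).range := by
  obtain ⟨u, rfl⟩ := exists_of_mem_inf_gf D d hd
  obtain ⟨s, rfl⟩ := hx
  refine ⟨conjSU D u s, ?_⟩
  rw [psiSU_apply, psiSU_apply, suGL_conjSU, map_mul, map_mul, map_inv]

/-- scalar elements of `SU_n` are central -/
theorem mem_center_of_scalar_SU (s : ↥(Cfsg.SU n F q))
    (hs : suGL s ∈ Cfsg.Geo.scalars (Fin n) F) : s ∈ Subgroup.center ↥(Cfsg.SU n F q) := by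
  rw [Cfsg.Geo.mem_scalars_iff] at hs
  obtain ⟨c, hc⟩ := hs
  rw [Subgroup.mem_center_iff]
  intro t
  apply suGL_injective
  apply Units.ext
  rw [map_mul, map_mul, Units.val_mul, Units.val_mul, hc, Matrix.mul_smul, Matrix.smul_mul,
    Matrix.mul_one, Matrix.one_mul]

theorem scalar_of_mem_center_SU [Fintype F] (hF : Fintype.card F = q ^ 2) (hn : 1 ≤ n) (s : ↥(Cfsg.SU n F q))
    (hs : s ∈ Subgroup.center ↥(Cfsg.SU n F q)) : suGL s ∈ Cfsg.Geo.scalars (Fin n) F := by
  obtain ⟨c, hc⟩ := Cfsg.Agent.Helper7.AutPSU.center_tm hF hn hs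
  rw [Cfsg.Geo.mem_scalars_iff]
  have hc0 : c ≠ 0 := by
    rintro rfl
    rw [zero_smul] at hc
    have h1 : (Cfsg.Agent.S2644.toM F n q s).det = 1 := s.1.2
    haveI : Nonempty (Fin n) := ⟨⟨0, by omega⟩⟩
    rw [hc, Matrix.det_zero] at h1
    exact zero_ne_one h1
  exact ⟨Units.mk0 c hc0, hc⟩

theorem ker_psiSU [Fintype F] (hF : Fintype.card F = q ^ 2) (hn : 1 ≤ n) :
    (psiSU (F := F) (n := n) (q := q)).ker = Subgroup.center ↥(Cfsg.SU n F q) := by
  ext s
  rw [MonoidHom.mem_ker, psiSU_apply, ← MonoidHom.mem_ker, ker_cGL]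
  exact ⟨mem_center_of_scalar_SU s, scalar_of_mem_center_SU hF hn s⟩

/-- an element of the inner-diagonal centralizer commuting with the image of `SU` is trivial -/
theorem eq_one_of_centralizes_gf [Finite F] (hn : 3 ≤ n) (u : ↥(HS D n))
    (hc : ∀ s : ↥(Cfsg.SU n F q), (cGL (u : GL (Fin n) F) : MulAut KK) * psiSU s
      = psiSU s * cGL (u : GL (Fin n) F)) :
    (cGL (u : GL (Fin n) F) : MulAut KK) = 1 := by
  have h1 : cU D u = 1 := by
    ext x
    induction x using QuotientGroup.induction_on with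
    | H t =>
      rw [cU_mk, MulAut.one_apply]
      symm
      rw [QuotientGroup.eq]
      apply mem_center_of_scalar_SU
      rw [← ker_cGL, MonoidHom.mem_ker]
      have e : suGL (t⁻¹ * conjSU D u t)
          = (suGL t)⁻¹ * ((u : GL (Fin n) F) * suGL t * (u : GL (Fin n) F)⁻¹) := by
        rw [map_mul, map_inv, suGL_conjSU]
      rw [e]
      simp only [map_mul, map_inv]
      rw [← psiSU_apply, hc t]
      group
  rw [← MonoidHom.mem_ker, ker_cGL]
  exact (cU_eq_one_iff D hn u).1 h1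

/-- additive families in `SL_n(F)` -/
noncomputable def addFam' (r : ℕ) [CharP F r] (t : F → Matrix.SpecialLinearGroup (Fin n) F)
    (M : Matrix (Fin n) (Fin n) F) (hM : M ≠ 0)
    (ht : ∀ a, ((t a : Matrix.SpecialLinearGroup (Fin n) F) : Matrix (Fin n) (Fin n) F)
      = 1 + a • M)
    (hadd : ∀ a b, t a * t b = t (a + b)) : UFam n F r where
  u := t
  N₁ := M
  N₂ := 0
  hN₁ := hM
  hu a := by rw [ht, smul_zero, add_zero]
  hinv a := by
    have h0 : t 0 = 1 := by
      have := hadd 0 0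
      rw [add_zero] at this
      exact mul_left_cancel (this.trans (mul_one _).symm)
    apply inv_eq_of_mul_eq_one_right
    rw [hadd, add_neg_cancel, h0]
  hpow a := by
    have h0 : t 0 = 1 := by
      have := hadd 0 0
      rw [add_zero] at this
      exact mul_left_cancel (this.trans (mul_one _).symm)
    have hk : ∀ k : ℕ, t a ^ k = t (k • a) := by
      intro k
      induction k with
      | zero => rw [pow_zero, zero_smul, h0]
      | succ k ih => rw [pow_succ, ih, hadd, succ_nsmul]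
    rw [hk, nsmul_eq_mul, CharP.cast_eq_zero, zero_mul, h0]

include D in
/-- an isotropic vector -/
theorem exists_isotropic [Finite F] (hn : 2 ≤ n) : ∃ e : Fin n → F, e ≠ 0 ∧ h e e = 0 := by
  obtain ⟨ζ, hζ⟩ := Cfsg.Agent.Helper7.GraphPSU.exists_norm' D (-1 : F) (by rw [map_neg, map_one])
  set i0 : Fin n := ⟨0, by omega⟩
  set i1 : Fin n := ⟨1, by omega⟩
  have h01 : i0 ≠ i1 := by simp [i0, i1, Fin.ext_iff]
  refine ⟨Pi.single i0 1 + ζ • Pi.single i1 1, ?_, ?_⟩
  · intro h0
    have := congrFun h0 i0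
    simp [Pi.single_apply, h01] at this
  · unfold Cfsg.hermForm
    have : ∀ i : Fin n, ((Pi.single i0 (1 : F) + ζ • Pi.single i1 (1 : F) : Fin n → F) i)
        * ((Pi.single i0 (1 : F) + ζ • Pi.single i1 (1 : F) : Fin n → F) i) ^ q
        = (if i = i0 then 1 else 0) + (if i = i1 then ζ * D.bar ζ else 0) := by
      intro i
      rw [D.bar_apply]
      have hq : q ≠ 0 := Cfsg.Agent.Helper7.GraphPSU.q_ne_zero D
      by_cases hi0 : i = i0
      · subst hi0
        simp [Pi.single_apply, h01]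
      · by_cases hi1 : i = i1
        · subst hi1
          simp [Pi.single_apply, h01.symm]
        · simp [Pi.single_apply, hi0, hi1, hq]
    rw [Finset.sum_congr rfl (fun i _ => this i), Finset.sum_add_distrib, Finset.sum_ite_eq',
      Finset.sum_ite_eq', if_pos (Finset.mem_univ _), if_pos (Finset.mem_univ _), hζ]
    ring

/-- the transvection family -/
noncomputable def trSL (e : Fin n → F) (hee : h e e = 0) (c₀ : F) (a : F) :
    Matrix.SpecialLinearGroup (Fin n) F :=
  ⟨T e (a * c₀), T_det D e (a * c₀) hee⟩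

theorem trSL_mul (e : Fin n → F) (hee : h e e = 0) (c₀ : F) (a b : F) :
    trSL D e hee c₀ a * trSL D e hee c₀ b = trSL D e hee c₀ (a + b) := by
  apply Subtype.ext
  show T e (a * c₀) * T e (b * c₀) = T e ((a + b) * c₀)
  rw [Cfsg.Agent.S0781.T_mul (D.bar : F →+* F) D.bar_apply e _ _ hee, add_mul]

theorem trSL_M_ne_zero (e : Fin n → F) (he : e ≠ 0) (c₀ : F) (hc₀ : c₀ ≠ 0) :
    c₀ • Matrix.vecMulVec e (fun j => e j ^ q) ≠ 0 := by
  intro h0
  obtain ⟨i, hi⟩ : ∃ i, e i ≠ 0 := by
    by_contra hne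
    apply he
    funext i
    by_contra hi
    exact hne ⟨i, hi⟩
  have := congrFun (congrFun h0 i) i
  simp [Matrix.vecMulVec_apply, hc₀, hi] at this

/-- the transvections with parameter in the fixed field are unitary -/
theorem trSL_mem_SU (e : Fin n → F) (hee : h e e = 0) (c₀ : F) (hc₀ : c₀ + D.bar c₀ = 0) (a : F)
    (ha : D.bar a = a) : trSL D e hee c₀ a ∈ Cfsg.SU n F q := by
  have := T_isU D e (a * c₀) hee (by rw [map_mul, ha, ← mul_add, hc₀, mul_zero])
  exact (Cfsg.Agent.Helper7.GraphPSU.isU_iff_preserves D _).1 this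

include D in
/-- `|PSU_n|` is even in odd characteristic -/
theorem two_dvd_card_PSU [Fintype F] (hF : Fintype.card F = q ^ 2) (hn : 3 ≤ n)
    (h2 : (2 : F) ≠ 0) : 2 ∣ Nat.card (Cfsg.PSU n F q) := by
  classical
  set i0 : Fin n := ⟨0, by omega⟩ with hi0
  set i1 : Fin n := ⟨1, by omega⟩ with hi1
  set i2 : Fin n := ⟨2, by omega⟩ with hi2
  have h01 : i0 ≠ i1 := by simp [i0, i1, Fin.ext_iff]
  have h02 : i2 ≠ i0 := by simp [i0, i2, Fin.ext_iff]
  have h12 : i2 ≠ i1 := by simp [i1, i2, Fin.ext_iff]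
  set d : Fin n → F := fun i => if i = i0 ∨ i = i1 then -1 else 1 with hd
  have hdd : ∀ i, d i * d i = 1 := by
    intro i
    simp only [hd]
    split_ifs <;> ring
  have hdb : ∀ i, D.bar (d i) = d i := by
    intro i
    simp only [hd]
    split_ifs <;> simp
  have hdet : (Matrix.diagonal d).det = 1 := by
    rw [Matrix.det_diagonal]
    have : ∀ i, d i = (if i = i0 then (-1 : F) else 1) * (if i = i1 then (-1 : F) else 1) := by
      intro i
      simp only [hd]
      by_cases h0 : i = i0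
      · have h1 : i ≠ i1 := by rw [h0]; exact h01
        simp [h0, h1, h01]
      · by_cases h1 : i = i1
        · subst h1
          simp [h01.symm]
        · simp [h0, h1]
    rw [Finset.prod_congr rfl (fun i _ => this i), Finset.prod_mul_distrib, Finset.prod_ite_eq',
      Finset.prod_ite_eq', if_pos (Finset.mem_univ _), if_pos (Finset.mem_univ _)]
    ring
  have hU : IsU D (Matrix.diagonal d) := by
    unfold Cfsg.Agent.Helper7.GraphPSU.IsU
    rw [Matrix.diagonal_transpose, Matrix.diagonal_map (map_zero _), Matrix.diagonal_mul_diagonal,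
      ← Matrix.diagonal_one]
    congr 1
    funext i
    show d i * D.bar (d i) = 1
    rw [hdb, hdd]
  set s : ↥(Cfsg.SU n F q) := mkSU D (Matrix.diagonal d) hdet hU with hs
  set x : Cfsg.PSU n F q := QuotientGroup.mk s with hx
  have hx1 : x ≠ 1 := by
    intro h1
    rw [hx, QuotientGroup.eq_one_iff] at h1
    have h3 := scalar_of_mem_center_SU hF (by omega) s h1
    rw [Cfsg.Geo.mem_scalars_iff] at h3
    obtain ⟨c, hc⟩ := h3
    have e0 := congrFun (congrFun hc i0) i0
    have e2 := congrFun (congrFun hc i2) i2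
    rw [suGL_coe] at e0 e2
    have e0' : (-1 : F) = c := by
      have : suMat s i0 i0 = -1 := by
        show Matrix.diagonal d i0 i0 = -1
        rw [Matrix.diagonal_apply_eq]
        simp [hd]
      rw [this] at e0
      simpa using e0
    have e2' : (1 : F) = c := by
      have : suMat s i2 i2 = 1 := by
        show Matrix.diagonal d i2 i2 = 1
        rw [Matrix.diagonal_apply_eq]
        simp [hd, h02, h12]
      rw [this] at e2
      simpa using e2
    apply h2
    have : (-1 : F) = 1 := by rw [e0', ← e2']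
    linear_combination -this
  have hx2 : x ^ 2 = 1 := by
    rw [hx, ← QuotientGroup.mk_pow]
    have : s ^ 2 = 1 := by
      apply Cfsg.Agent.S2644.toM_injective
      rw [pow_two, map_mul, map_one]
      show Matrix.diagonal d * Matrix.diagonal d = 1
      rw [Matrix.diagonal_mul_diagonal, ← Matrix.diagonal_one]
      congr 1
      funext i
      exact hdd i
    rw [this]
    rfl
  have hord : orderOf x = 2 := orderOf_eq_prime hx2 hx1
  have := orderOf_dvd_natCard x
  rwa [hord] at this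

end Cfsg.Agent.Helper7.LBal
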