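import Mathlib
import Cfsg.Agent.Helper7.LBal18
import Cfsg.Agent.Helper28.FieldB2

set_option autoImplicit false
set_option linter.unusedSectionVars false

/-! Graph-field involutions of `PSL_n(F)`: the `2'`-core of the centralizer is trivial (end). -/

namespace Cfsg.Agent.Helper7.LBal

open Matrix Cfsg.Agent.Helper7.GraphPSL Cfsg.Agent.Helper7.AutPSL Cfsg.Agent.Helper7.FieldPSL
open Cfsg.Agent.Helper7.GraphPSU (UData HS)

variable {F : Type*} [Field F] {n q : ℕ}

local notation "KK" => Matrix.ProjectiveSpecialLinearGroup (Fin n) F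

/-- **graph-field involutions, the representative** -/
theorem graph_field_rep [Fintype F] {r f : ℕ} [Fact r.Prime] [CharP F r]
    (hF : Fintype.card F = r ^ f) (hf : 1 ≤ f) (hn : 3 ≤ n) (hF2 : (2 : F) ≠ 0)
    (D : UData F q) (hFq : Fintype.card F = q ^ 2)
    (hZ : Subgroup.center KK = ⊥)
    (𝒢 : Subgroup (MulAut KK)) (hinn : ∀ k : KK, MulAut.conj k ∈ 𝒢) :
    Cfsg.pPrimeCore 2 ↥(𝒢 ⊓ Subgroup.centralizer {(psiGF D.bar : MulAut KK)}) = ⊥ := by
  classical
  haveI : Fact (Nat.Prime 2) := ⟨Nat.prime_two⟩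
  haveI : NeZero n := ⟨by omega⟩
  have hn2 : 2 ≤ n := by omega
  have hs : n = 2 → 4 ≤ Fintype.card F := fun h => by omega
  obtain ⟨e, he0, hee⟩ := exists_isotropic D (F := F) (n := n) hn2
  obtain ⟨c₀, hc₀, hc₀'⟩ := Cfsg.Agent.Helper7.GraphPSU.exists_skew D
  have hq2 : ¬ (n = 3 ∧ q = 2) := by
    rintro ⟨-, rfl⟩
    have hodd := odd_card_of_two_ne_zero hF2
    rw [hFq] at hodd
    exact absurd hodd (by decide)
  refine core_bot_main hF hf hn2 hs hZ 𝒢 hinn (psiGF D.bar) 2
    (psiSU (F := F) (n := n) (q := q)).range ?hInn ?hC ?hnorm ?hb ?hc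
    (addFam' r (trSL D e hee c₀) _ (trSL_M_ne_zero e he0 c₀ hc₀)
      (fun a => by
        show Cfsg.unitaryTransvection n q e (a * c₀) = _
        unfold Cfsg.unitaryTransvection
        rw [mul_smul])
      (trSL_mul D e hee c₀)) {a | D.bar a = a} ?h1 ?hneg ?h2 ?hU ?hτ ?h3
  case hInn =>
    rintro _ ⟨s, rfl⟩
    rw [psiSU_eq_conj]
    exact ⟨_, rfl⟩
  case hC =>
    rintro _ ⟨s, rfl⟩
    exact (psiSU_mem D s).2
  case hnorm =>
    intro d hd x hx
    exact psiSU_range_normalized D d hd x hx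
  case hb =>
    haveI := Cfsg.Agent.S0283.result (F := F) hFq n hn hq2
    exact NNP_range_of_ker_eq_center _ (ker_psiSU hFq (by omega))
      (NNP_of_simple Nat.prime_two (two_dvd_card_PSU D hFq hn hF2))
  case hc =>
    intro d hd hcomm
    obtain ⟨u, rfl⟩ := exists_of_mem_inf_gf D d hd
    apply eq_one_of_centralizes_gf D hn u
    intro s
    exact hcomm _ ⟨s, rfl⟩
  case h1 =>
    show D.bar 1 = 1
    exact map_one _
  case hneg =>
    intro a ha
    show D.bar (-a) = -a
    rw [map_neg, ha]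
  case h2 => exact Or.inr rfl
  case hU =>
    intro a ha
    show MulAut.conj (pr (trSL D e hee c₀ a)) ∈ _
    have := (psiSU_mem D ⟨trSL D e hee c₀ a, trSL_mem_SU D e hee c₀ hc₀' a ha⟩).2
    rwa [psiSU_eq_conj] at this
  case hτ =>
    intro τ hτ
    have h1 : τ ∈ Subgroup.zpowers D.bar :=
      Cfsg.Agent.Helper28.FB.mem_zpowers_of_fixes D.bar τ (fun y hy => hτ y hy)
    obtain ⟨k, rfl⟩ := h1
    rw [← zpow_natCast, ← _root_.zpow_mul, mul_comm, _root_.zpow_mul, zpow_natCast]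
    have : D.bar ^ 2 = 1 := by
      rw [← orderOf_bar D]
      exact pow_orderOf_eq_one _
    rw [this, _root_.one_zpow]
  case h3 =>
    intro h
    exact absurd rfl h

theorem ofAdd_one_ne_one : Multiplicative.ofAdd (1 : ZMod 2) ≠ 1 := by decide

/-- the standard graph-field automorphism of an involution has order two -/
theorem orderOf_psiGF_two [Fintype F] (p : ℕ) [Fact p.Prime] [CharP F p] (hn : 3 ≤ n)
    (σ : F ≃+* F) (hσ2 : σ * σ = 1) :
    orderOf (psiGF σ : MulAut KK) = 2 := by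
  haveI : Fact (Nat.Prime 2) := ⟨Nat.prime_two⟩
  apply orderOf_eq_prime
  · rw [pow_two]
    unfold psiGF
    calc (fieldPSL σ * iotaT : MulAut KK) * (fieldPSL σ * iotaT)
        = fieldPSL σ * (iotaT * fieldPSL σ) * iotaT := by group
      _ = fieldPSL σ * (fieldPSL σ * iotaT) * iotaT := by rw [iotaT_fieldPSL]
      _ = (fieldPSL σ * fieldPSL σ) * (iotaT * iotaT) := by group
      _ = 1 := by rw [← fieldPSL_mul, hσ2, fieldPSL_one', iotaT_mul_self, mul_one]
  · intro h
    rw [psiGF_eq_thetaHom] at h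
    have h1 := thetaHom_injective (F := F) (n := n) p hn (h.trans (map_one _).symm)
    have h2 : Multiplicative.ofAdd (1 : ZMod 2) = 1 := congrArg Prod.snd h1
    exact ofAdd_one_ne_one h2

/-- **automorphisms with graph part of order two: the `2'`-core is trivial** -/
theorem nonfield_core_bot [Fintype F] {r f : ℕ} [Fact r.Prime] [CharP F r]
    (hF : Fintype.card F = r ^ f) (hf : 1 ≤ f) (hn : 3 ≤ n) (hF2 : (2 : F) ≠ 0)
    (hZ : Subgroup.center KK = ⊥)
    (𝒢 : Subgroup (MulAut KK)) (hinn : ∀ k : KK, MulAut.conj k ∈ 𝒢)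
    (g : GL (Fin n) F) (σ : F ≃+* F)
    (hord : orderOf (cGL g * fieldPSL σ * iotaT : MulAut KK) = 2) :
    Cfsg.pPrimeCore 2 ↥(𝒢 ⊓ Subgroup.centralizer {(cGL g * fieldPSL σ * iotaT : MulAut KK)})
      = ⊥ := by
  classical
  haveI : NeZero n := ⟨by omega⟩
  have hn2 : 2 ≤ n := by omega
  have hs : n = 2 → 4 ≤ Fintype.card F := fun h => by omega
  by_cases hσ : σ = 1
  · subst hσ
    rw [fieldPSL_one', mul_one] at hord ⊢
    have hord' : orderOf (graphAut g) = 2 := hord
    rcases (orderOf_graphAut_eq_two_iff hn g).1 hord' with hsym | hskew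
    · exact graph_sym_final hF hf hn hZ 𝒢 hinn hF2 g hsym
    · rcases Nat.even_or_odd' n with ⟨m, hm | hm⟩
      · subst hm
        exact graph_skew_final hF hf (by omega) hF2 hZ 𝒢 hinn g hskew
      · exfalso
        exact not_skew_of_odd hF2 ⟨m, hm⟩ g hskew
  · -- graph-field
    have hpow : (cGL g * thetaHom (σ, Multiplicative.ofAdd (1 : ZMod 2)) : MulAut KK) ^ 2 = 1 := by
      rw [thetaHom_apply, iotaHom_one, ← mul_assoc]
      have := pow_orderOf_eq_one (cGL g * fieldPSL σ * iotaT : MulAut KK)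
      rwa [hord] at this
    have hσ2 : σ ^ 2 = 1 := congrArg Prod.fst (pow_eq_one_three r hF hf hn g _ 2 hpow)
    rw [pow_two] at hσ2
    have hσ2' : ∀ a, σ (σ a) = a := fun a => by
      have := congrArg (fun τ : F ≃+* F => τ a) hσ2
      exact this
    obtain ⟨hev, D, hD⟩ := exists_UData_of_invol hf hF σ hσ hσ2'
    have hFq : Fintype.card F = (r ^ (f / 2)) ^ 2 := by
      rw [← pow_mul, Nat.div_mul_cancel (even_iff_two_dvd.1 hev), hF]
    have hx2 := orderOf_psiGF_two (F := F) (n := n) r hn σ hσ2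
    have hconj := (coset_conj_main hF hf hn2 hs (psiGF σ) (cGL g)
      (Or.inr ⟨hn, 1, fieldPSL σ, iotaT, σ, hσ, (isStdFieldAutPSL_iff _ _).2 rfl,
        (isInverseTransposeAutPSL_iff _).2 rfl, by rw [one_mul, inv_one, mul_one]; rfl⟩)
      Nat.prime_two hx2 (by rw [inndiagPSL_eq_range]; exact ⟨g, rfl⟩)).1 (by
        have : (cGL g * psiGF σ : MulAut KK) = cGL g * fieldPSL σ * iotaT := by
          unfold psiGF; rw [mul_assoc]
        rw [this, hord])
    obtain ⟨k, -, hk⟩ := hconj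
    have hk' : (cGL g * fieldPSL σ * iotaT : MulAut KK) = k * psiGF σ * k⁻¹ := by
      rw [← hk]; unfold psiGF; rw [mul_assoc]
    apply core_bot_of_conj 2 _ (psiGF σ) k⁻¹ (by rw [hk']; group) _ 𝒢 hinn
    intro 𝒢' hinn'
    subst hD
    exact graph_field_rep hF hf hn hF2 D hFq hZ 𝒢' hinn'

end Cfsg.Agent.Helper7.LBal
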