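import Mathlib
import Cfsg.Agent.Helper7.LBal19
import Cfsg.Agent.Helper2.SLCard
import Cfsg.Agent.S0249

set_option autoImplicit false
set_option linter.unusedSectionVars false

/-! Primes dividing `|PSL_n(F₀)|`, and the absence of normal `p'`-subgroups in `PSL_n(F₀)`. -/

namespace Cfsg.Agent.Helper7.LBal

open Matrix Cfsg.Agent.Helper7.GraphPSL Cfsg.Agent.Helper7.AutPSL

section card

variable {n : ℕ} {F₀ : Type*} [Field F₀]

/-- the diagonal element `diag(ζ, ζ⁻¹, 1, …, 1)` -/
noncomputable def dzSL (i₀ i₁ : Fin n) (h01 : i₀ ≠ i₁) (ζ : F₀ˣ) :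
    Matrix.SpecialLinearGroup (Fin n) F₀ :=
  ⟨Matrix.diagonal (fun k => if k = i₀ then (ζ : F₀) else if k = i₁ then ((ζ⁻¹ : F₀ˣ) : F₀) else 1),
    by
      rw [Matrix.det_diagonal, Finset.prod_eq_mul i₀ i₁ h01]
      · rw [if_pos rfl, if_neg h01.symm, if_pos rfl, ← Units.val_mul, mul_inv_cancel, Units.val_one]
      · intro c _ hc
        rw [if_neg hc.1, if_neg hc.2]
      · intro h; exact absurd (Finset.mem_univ _) h
      · intro h; exact absurd (Finset.mem_univ _) h⟩

theorem dzSL_coe (i₀ i₁ : Fin n) (h01 : i₀ ≠ i₁) (ζ : F₀ˣ) :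
    ((dzSL i₀ i₁ h01 ζ : Matrix.SpecialLinearGroup (Fin n) F₀) : Matrix (Fin n) (Fin n) F₀)
      = Matrix.diagonal (fun k => if k = i₀ then (ζ : F₀) else
          if k = i₁ then ((ζ⁻¹ : F₀ˣ) : F₀) else 1) := rfl

theorem dzSL_pow (i₀ i₁ : Fin n) (h01 : i₀ ≠ i₁) (ζ : F₀ˣ) (k : ℕ) (hk : ζ ^ k = 1) :
    dzSL i₀ i₁ h01 ζ ^ k = 1 := by
  apply Subtype.ext
  rw [Matrix.SpecialLinearGroup.coe_pow, dzSL_coe, Matrix.diagonal_pow,
    Matrix.SpecialLinearGroup.coe_one, ← Matrix.diagonal_one]
  congr 1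
  funext j
  rw [Pi.pow_apply]
  show _ = (1 : F₀)
  by_cases h0 : j = i₀
  · rw [if_pos h0, ← Units.val_pow_eq_pow_val, hk, Units.val_one]
  · rw [if_neg h0]
    by_cases h1 : j = i₁
    · rw [if_pos h1, ← Units.val_pow_eq_pow_val, inv_pow, hk, inv_one, Units.val_one]
    · rw [if_neg h1, one_pow]

/-- an element of order `p` in `PSL_n(F₀)` from a `p`-th root of unity -/
theorem dvd_card_PSL_of_unit [Finite F₀] (hn : 2 ≤ n) {p : ℕ} (hp : p.Prime) (ζ : F₀ˣ)
    (hζ : orderOf ζ = p) : p ∣ Nat.card (Matrix.ProjectiveSpecialLinearGroup (Fin n) F₀) := by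
  haveI : Fact p.Prime := ⟨hp⟩
  by_cases h22 : n = 2 ∧ p = 2
  · obtain ⟨rfl, rfl⟩ := h22
    exact two_dvd_card_PSL2
  set i₀ : Fin n := ⟨0, by omega⟩ with hi₀
  set i₁ : Fin n := ⟨1, by omega⟩ with hi₁
  have h01 : i₀ ≠ i₁ := by
    intro h
    have := congrArg Fin.val h
    simp [hi₀, hi₁] at this
  have hζp : ζ ^ p = 1 := by rw [← hζ]; exact pow_orderOf_eq_one ζ
  have hζ1 : ζ ≠ 1 := by
    intro h
    rw [h, orderOf_one] at hζ
    exact hp.one_lt.ne hζ
  set x : Matrix.ProjectiveSpecialLinearGroup (Fin n) F₀ := pr (dzSL i₀ i₁ h01 ζ) with hx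
  have hx2 : x ^ p = 1 := by
    rw [hx, ← map_pow, dzSL_pow i₀ i₁ h01 ζ p hζp, map_one]
  have hx1 : x ≠ 1 := by
    intro h
    rw [hx] at h
    have h' : (QuotientGroup.mk (dzSL i₀ i₁ h01 ζ) :
        Matrix.ProjectiveSpecialLinearGroup (Fin n) F₀) = 1 := h
    rw [QuotientGroup.eq_one_iff, Matrix.SpecialLinearGroup.mem_center_iff] at h'
    obtain ⟨c, -, hc⟩ := h'
    rw [dzSL_coe] at hc
    have e0 := congrFun (congrFun hc i₀) i₀
    have e1 := congrFun (congrFun hc i₁) i₁
    rw [Matrix.scalar_apply, Matrix.diagonal_apply_eq, Matrix.diagonal_apply_eq, if_pos rfl] at e0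
    rw [Matrix.scalar_apply, Matrix.diagonal_apply_eq, Matrix.diagonal_apply_eq, if_neg h01.symm,
      if_pos rfl] at e1
    rcases Nat.lt_or_ge n 3 with hlt | hge
    · have hn2 : n = 2 := by omega
      have hp2 : p ≠ 2 := fun h => h22 ⟨hn2, h⟩
      have hsq : ζ ^ 2 = 1 := by
        apply Units.ext
        rw [Units.val_pow_eq_pow_val, Units.val_one, pow_two]
        nth_rewrite 1 [← e0]
        rw [e1, ← Units.val_mul, inv_mul_cancel, Units.val_one]
      have := orderOf_dvd_of_pow_eq_one hsq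
      rw [hζ] at this
      exact hp2 ((Nat.prime_dvd_prime_iff_eq hp Nat.prime_two).1 this)
    · set i₂ : Fin n := ⟨2, by omega⟩ with hi₂
      have h20 : i₂ ≠ i₀ := by
        intro h
        have := congrArg Fin.val h
        simp [hi₀, hi₂] at this
      have h21 : i₂ ≠ i₁ := by
        intro h
        have := congrArg Fin.val h
        simp [hi₁, hi₂] at this
      have e2 := congrFun (congrFun hc i₂) i₂
      rw [Matrix.scalar_apply, Matrix.diagonal_apply_eq, Matrix.diagonal_apply_eq, if_neg h20,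
        if_neg h21] at e2
      apply hζ1
      apply Units.ext
      rw [Units.val_one, ← e0, e2]
  have hord : orderOf x = p := orderOf_eq_prime hx2 hx1
  have := orderOf_dvd_natCard x
  rwa [hord] at this

/-- a prime dividing `|GL_n(F₀)|` divides `|PSL_n(F₀)|` -/
theorem dvd_card_PSL_of_dvd_card_GL [Fintype F₀] (hn : 2 ≤ n) {p : ℕ} (hp : p.Prime)
    (h : p ∣ Nat.card (GL (Fin n) F₀)) :
    p ∣ Nat.card (Matrix.ProjectiveSpecialLinearGroup (Fin n) F₀) := by
  haveI : Fact p.Prime := ⟨hp⟩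
  haveI : Nonempty (Fin n) := ⟨⟨0, by omega⟩⟩
  rw [← Cfsg.Agent.Helper2.card_SL_mul_card_units (ι := Fin n) (F := F₀),
    Subgroup.card_eq_card_quotient_mul_card_subgroup
      (Subgroup.center (Matrix.SpecialLinearGroup (Fin n) F₀))] at h
  rcases (Nat.Prime.dvd_mul hp).1 h with h1 | h1
  · rcases (Nat.Prime.dvd_mul hp).1 h1 with h2 | h2
    · exact h2
    · obtain ⟨z, hz⟩ := exists_prime_orderOf_dvd_card' (G :=
        ↥(Subgroup.center (Matrix.SpecialLinearGroup (Fin n) F₀))) p h2
      have hzc := z.2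
      rw [Matrix.SpecialLinearGroup.mem_center_iff] at hzc
      obtain ⟨c, hcn, hc⟩ := hzc
      have hc0 : c ≠ 0 := by
        intro h0
        rw [h0, zero_pow (by rw [Fintype.card_fin]; omega)] at hcn
        exact zero_ne_one hcn
      have hzp : (z : Matrix.SpecialLinearGroup (Fin n) F₀) ^ p = 1 := by
        have := pow_orderOf_eq_one z
        rw [hz] at this
        have h3 := congrArg Subtype.val this
        simpa using h3
      have hz1 : (z : Matrix.SpecialLinearGroup (Fin n) F₀) ≠ 1 := by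
        intro h3
        have : z = 1 := Subtype.ext h3
        rw [this, orderOf_one] at hz
        exact hp.one_lt.ne hz
      apply dvd_card_PSL_of_unit hn hp (Units.mk0 c hc0)
      apply orderOf_eq_prime
      · apply Units.ext
        rw [Units.val_pow_eq_pow_val, Units.val_mk0, Units.val_one]
        have h4 := congrArg (fun s : Matrix.SpecialLinearGroup (Fin n) F₀ =>
          (s : Matrix (Fin n) (Fin n) F₀)) hzp
        simp only [Matrix.SpecialLinearGroup.coe_pow, Matrix.SpecialLinearGroup.coe_one] at h4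
        rw [← hc, ← map_pow] at h4
        have h5 := congrFun (congrFun h4 ⟨0, by omega⟩) ⟨0, by omega⟩
        rw [Matrix.scalar_apply, Matrix.diagonal_apply_eq, Matrix.one_apply_eq] at h5
        exact h5
      · intro h3
        apply hz1
        apply Subtype.ext
        rw [← hc, Matrix.SpecialLinearGroup.coe_one]
        have : c = 1 := by
          have := congrArg Units.val h3
          rwa [Units.val_mk0, Units.val_one] at this
        rw [this, map_one]
  · obtain ⟨ζ, hζ⟩ := exists_prime_orderOf_dvd_card' (G := F₀ˣ) p h1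
    exact dvd_card_PSL_of_unit hn hp ζ hζ

theorem card_GL_two_of_card (q : ℕ) [Fintype F₀] (hq : Fintype.card F₀ = q) :
    Nat.card (GL (Fin 2) F₀) = (q ^ 2 - 1) * (q ^ 2 - q) := by
  rw [Matrix.card_GL_field, Fin.prod_univ_two, hq]
  simp

/-- **`PSL_n(F₀)` has no nontrivial normal `p'`-subgroup** when `p ≠ char` divides `|GL_n(F₀)|` -/
theorem NNP_PSL_of_dvd [Fintype F₀] {r : ℕ} [Fact r.Prime] [hch0 : CharP F₀ r] (hn : 2 ≤ n) {p : ℕ}
    (hp : p.Prime) (hpr : p ≠ r) (h : p ∣ Nat.card (GL (Fin n) F₀)) :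
    NNP p (Matrix.ProjectiveSpecialLinearGroup (Fin n) F₀) := by
  have hdvd := dvd_card_PSL_of_dvd_card_GL hn hp h
  rcases Nat.lt_or_ge n 3 with hlt | hge
  · obtain rfl : n = 2 := by omega
    rcases Nat.lt_or_ge (Fintype.card F₀) 4 with hlt4 | hge4
    · have h1 : 1 < Fintype.card F₀ := Fintype.one_lt_card
      rcases Nat.lt_or_ge (Fintype.card F₀) 3 with hlt3 | hge3
      · have h2 : Fintype.card F₀ = 2 := by omega
        haveI : Fact (Nat.Prime 2) := ⟨Nat.prime_two⟩
        haveI hch := charP_of_card_eq_prime (R := F₀) h2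
        have hr2 : r = 2 := CharP.eq F₀ hch0 hch
        rw [card_GL_two_of_card 2 h2] at h
        have h6 : p ∣ 6 := by simpa using h
        have hp3 : p = 3 := by
          have : p ∣ 2 * 3 := h6
          rcases (Nat.Prime.dvd_mul hp).1 this with h7 | h7
          · exact absurd ((Nat.prime_dvd_prime_iff_eq hp Nat.prime_two).1 h7) (by rw [← hr2]; exact hpr)
          · exact (Nat.prime_dvd_prime_iff_eq hp Nat.prime_three).1 h7
        rw [hp3]
        exact NNP_three_PSL2_char_two
      · have h3 : Fintype.card F₀ = 3 := by omega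
        haveI : Fact (Nat.Prime 3) := ⟨Nat.prime_three⟩
        haveI hch := charP_of_card_eq_prime (R := F₀) h3
        have hr3 : r = 3 := CharP.eq F₀ hch0 hch
        rw [card_GL_two_of_card 3 h3] at h
        have h48 : p ∣ 2 ^ 4 * 3 := by simpa using h
        have hp2 : p = 2 := by
          rcases (Nat.Prime.dvd_mul hp).1 h48 with h7 | h7
          · exact (Nat.prime_dvd_prime_iff_eq hp Nat.prime_two).1 (hp.dvd_of_dvd_pow h7)
          · exact absurd ((Nat.prime_dvd_prime_iff_eq hp Nat.prime_three).1 h7)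
              (by rw [← hr3]; exact hpr)
        rw [hp2]
        exact NNP_two_PSL2_char_three
    · haveI := Matrix.ProjectiveSpecialLinearGroup.rank_two_simple (F := F₀)
        (by rw [Nat.card_eq_fintype_card]; exact hge4)
      exact NNP_of_simple hp hdvd
  · haveI := Cfsg.Agent.S0249.result (F := F₀) n hge
    exact NNP_of_simple hp hdvd

end card

end Cfsg.Agent.Helper7.LBal
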