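import Mathlib
import Cfsg.Agent.Helper7.LBal20

set_option autoImplicit false
set_option linter.unusedSectionVars false

/-! The field automorphisms of `PSL_n(F)`: the `p'`-core of the centralizer. -/

namespace Cfsg.Agent.Helper7.LBal

open Matrix Cfsg.Agent.Helper7.GraphPSL Cfsg.Agent.Helper7.AutPSL Cfsg.Agent.Helper7.FieldPSL
  Cfsg.Agent.Helper7.GraphSplit

section psi

variable {n : ℕ} {F : Type*} [Field F] {F₀ : Type*} [Field F₀] (E : FDesc F F₀)

/-- the map `SL_n(F₀) → Aut(PSL_n(F))` -/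
noncomputable def psiSL : Matrix.SpecialLinearGroup (Fin n) F₀ →*
    MulAut (Matrix.ProjectiveSpecialLinearGroup (Fin n) F) :=
  (psiHom E).comp Matrix.SpecialLinearGroup.toGL

theorem psiSL_apply (s : Matrix.SpecialLinearGroup (Fin n) F₀) :
    psiSL E s = psiHom E (Matrix.SpecialLinearGroup.toGL s) := rfl

theorem jGL_toGL (s : Matrix.SpecialLinearGroup (Fin n) F₀) :
    jGL E (Matrix.SpecialLinearGroup.toGL s)
      = Matrix.SpecialLinearGroup.toGL (Matrix.SpecialLinearGroup.map E.j s) := by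
  apply Units.ext
  rfl

theorem psiSL_eq_conj (s : Matrix.SpecialLinearGroup (Fin n) F₀) :
    psiSL E s = MulAut.conj (pr (Matrix.SpecialLinearGroup.map E.j s)) := by
  rw [psiSL_apply, psiHom_apply, jGL_toGL, cGL_toGL]
  rfl

theorem toGL_mem_center_iff (s : Matrix.SpecialLinearGroup (Fin n) F₀) :
    Matrix.SpecialLinearGroup.toGL s ∈ Subgroup.center (GL (Fin n) F₀)
      ↔ s ∈ Subgroup.center (Matrix.SpecialLinearGroup (Fin n) F₀) := by
  rw [Matrix.GeneralLinearGroup.mem_center_iff_val_mem_range_scalar,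
    Matrix.SpecialLinearGroup.mem_center_iff]
  constructor
  · rintro ⟨c, hc⟩
    have hc' : Matrix.scalar (Fin n) c = (s : Matrix (Fin n) (Fin n) F₀) := hc
    refine ⟨c, ?_, hc'⟩
    have hdet := s.2
    rw [← hc', Matrix.scalar_apply, Matrix.det_diagonal, Finset.prod_const, Finset.card_univ]
      at hdet
    exact hdet
  · rintro ⟨c, -, hc⟩
    exact ⟨c, hc⟩

theorem ker_psiSL [NeZero n] :
    (psiSL E : Matrix.SpecialLinearGroup (Fin n) F₀ →* _).ker
      = Subgroup.center (Matrix.SpecialLinearGroup (Fin n) F₀) := by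
  ext s
  rw [MonoidHom.mem_ker, psiSL_apply, ← MonoidHom.mem_ker, ker_psiHom, toGL_mem_center_iff]

theorem toGL_conjSL (k : GL (Fin n) F₀) (s : Matrix.SpecialLinearGroup (Fin n) F₀) :
    Matrix.SpecialLinearGroup.toGL (conjSL k s) = k * Matrix.SpecialLinearGroup.toGL s * k⁻¹ := by
  apply Units.ext
  rfl

/-- the image of `SL_n(F₀)` is normalised by the image of `GL_n(F₀)` -/
theorem psiSL_conj (k : GL (Fin n) F₀) (s : Matrix.SpecialLinearGroup (Fin n) F₀) :
    psiHom E k * psiSL E s * (psiHom E k)⁻¹ = psiSL E (conjSL k s) := by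
  rw [psiSL_apply, psiSL_apply, toGL_conjSL, map_mul, map_mul, map_inv]

/-- an element of the image of `GL_n(F₀)` centralizing the image of `SL_n(F₀)` is trivial -/
theorem psiHom_eq_one_of_commute [NeZero n] (k : GL (Fin n) F₀)
    (h : ∀ s : Matrix.SpecialLinearGroup (Fin n) F₀,
      psiHom E k * psiSL E s = psiSL E s * psiHom E k) : psiHom E k = 1 := by
  have h1 : (cGL k : MulAut (Matrix.ProjectiveSpecialLinearGroup (Fin n) F₀)) = 1 := by
    ext x
    induction x using QuotientGroup.induction_on with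
    | H s =>
      rw [cGL_mk, MulAut.one_apply]
      rw [QuotientGroup.eq, ← ker_psiSL E, MonoidHom.mem_ker, map_mul, map_inv, ← psiSL_conj, h s]
      group
  have h2 : k ∈ Cfsg.Geo.scalars (Fin n) F₀ := by
    rw [← ker_cGL]
    exact h1
  rw [Cfsg.Geo.mem_scalars_iff] at h2
  obtain ⟨c, hc⟩ := h2
  rw [← MonoidHom.mem_ker, ker_psiHom,
    Matrix.GeneralLinearGroup.mem_center_iff_val_mem_range_scalar]
  refine ⟨(c : F₀), ?_⟩
  rw [hc, Matrix.smul_one_eq_diagonal]
  rfl

end psi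

section main

variable {n : ℕ} {F : Type*} [Field F]

theorem fieldSL_rootSL (σ : F ≃+* F) (i j : Fin n) (hij : i ≠ j) (a : F) :
    fieldSL σ (rootSL i j hij a) = rootSL i j hij (σ a) := by
  apply Subtype.ext
  rw [fieldSL_coe, rootSL_coe, rootSL_coe]
  ext k l
  simp only [Matrix.map_apply, Matrix.add_apply, Matrix.one_apply, Matrix.single_apply, map_add]
  by_cases h1 : k = l
  · by_cases h2 : i = k ∧ j = l
    · simp only [if_pos h1, if_pos h2, map_one]
    · simp only [if_pos h1, if_neg h2, map_one, map_zero]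
  · by_cases h2 : i = k ∧ j = l
    · simp only [if_neg h1, if_pos h2, map_zero]
    · simp only [if_neg h1, if_neg h2, map_zero]

/-- root elements over the fixed field give inner automorphisms commuting with `fieldPSL σ` -/
theorem conj_rootSL_mem_centralizer (σ : F ≃+* F) (i j : Fin n) (hij : i ≠ j) (a : F)
    (ha : σ a = a) :
    MulAut.conj (pr (rootSL i j hij a)) ∈ Subgroup.centralizer {(fieldPSL σ :
      MulAut (Matrix.ProjectiveSpecialLinearGroup (Fin n) F))} := by
  rw [Subgroup.mem_centralizer_singleton_iff, Cfsg.Agent.Helper28.FB.aut_mul_conj, fieldPSL_pr,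
    fieldSL_rootSL, ha]

theorem pr_rootSL_ne_one (hn : 2 ≤ n) :
    ∃ (i j : Fin n) (hij : i ≠ j), pr (rootSL i j hij (1 : F)) ≠ 1 := by
  set i₀ : Fin n := ⟨0, by omega⟩ with hi₀
  set i₁ : Fin n := ⟨1, by omega⟩ with hi₁
  have h01 : i₀ ≠ i₁ := by
    intro h
    have := congrArg Fin.val h
    simp [hi₀, hi₁] at this
  refine ⟨i₀, i₁, h01, ?_⟩
  intro h
  rw [← map_one (pr : Matrix.SpecialLinearGroup (Fin n) F →* _), pr_eq_iff] at h
  obtain ⟨c, hc⟩ := h
  rw [rootSL_coe, Matrix.SpecialLinearGroup.coe_one] at hc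
  have e00 := congrFun (congrFun hc i₀) i₀
  have e01 := congrFun (congrFun hc i₀) i₁
  simp only [Matrix.smul_apply, Matrix.add_apply, Matrix.one_apply, Matrix.single_apply,
    smul_eq_mul, if_true, and_true, if_neg h01, if_neg h01.symm, add_zero,
    mul_one, true_and, zero_add] at e00 e01
  rw [← e00] at e01
  exact one_ne_zero e01.symm

/-- **the standard field automorphism of prime order `p` with `p ∣ |C_K(φ)|`: the core is
trivial** -/
theorem field_std_core_bot [Fintype F] {r f : ℕ} [Fact r.Prime] [CharP F r]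
    (hF : Fintype.card F = r ^ f) (hf : 1 ≤ f) (hn : 2 ≤ n) (hs : n = 2 → 4 ≤ Fintype.card F)
    (hZ : Subgroup.center (Matrix.ProjectiveSpecialLinearGroup (Fin n) F) = ⊥)
    (𝒢 : Subgroup (MulAut (Matrix.ProjectiveSpecialLinearGroup (Fin n) F)))
    (hinn : ∀ k : Matrix.ProjectiveSpecialLinearGroup (Fin n) F, MulAut.conj k ∈ 𝒢)
    (σ : F ≃+* F) (p : ℕ) [hp : Fact p.Prime] (hpr : p ≠ r) (hσ : orderOf σ = p)
    (hdvd : p ∣ Nat.card ↥(MonoidHom.eqLocus (fieldPSL σ :
      MulAut (Matrix.ProjectiveSpecialLinearGroup (Fin n) F)).toMonoidHom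
        (MonoidHom.id (Matrix.ProjectiveSpecialLinearGroup (Fin n) F)))) :
    Cfsg.pPrimeCore p ↥(𝒢 ⊓ Subgroup.centralizer {(fieldPSL σ :
      MulAut (Matrix.ProjectiveSpecialLinearGroup (Fin n) F))}) = ⊥ := by
  classical
  haveI : NeZero n := ⟨by omega⟩
  set E := Cfsg.Agent.Helper28.FB.fdescOf σ with hE
  have hEσ : E.σ = σ := rfl
  have hσpos : 0 < orderOf E.σ := by rw [hEσ, hσ]; exact hp.out.pos
  haveI : Fintype ↥(Cfsg.Agent.Helper28.FB.fixF σ) := Fintype.ofFinite _
  haveI : CharP ↥(Cfsg.Agent.Helper28.FB.fixF σ) r := inferInstance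
  have hrange := range_psiHom (n := n) E hσpos
  rw [hEσ] at hrange
  -- `p` divides `|GL_n(F₀)|`
  have hpGL : p ∣ Nat.card (GL (Fin n) ↥(Cfsg.Agent.Helper28.FB.fixF σ)) := by
    rw [← Cfsg.Agent.Helper28.FB.card_inn_inf_centralizer hZ] at hdvd
    have h1 : Cfsg.Inn (Matrix.ProjectiveSpecialLinearGroup (Fin n) F) ⊓
        Subgroup.centralizer {(fieldPSL σ :
          MulAut (Matrix.ProjectiveSpecialLinearGroup (Fin n) F))} ≤ (psiHom E).range := by
      rw [hrange]
      apply inf_le_inf_right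
      rw [inndiagPSL_eq_range, inn_eq_map]
      rintro _ ⟨g, -, rfl⟩
      exact ⟨g, rfl⟩
    exact (hdvd.trans (Subgroup.card_dvd_of_le h1)).trans (Subgroup.card_range_dvd _)
  obtain ⟨i, j, hij, hne⟩ := pr_rootSL_ne_one (F := F) hn
  refine core_bot_main hF hf hn hs hZ 𝒢 hinn (fieldPSL σ) p (psiSL E).range ?hInn ?hC ?hnorm ?hb ?hc
    (rootFam r i j hij) {a | σ a = a} ?h1 ?hneg ?h2 ?hU ?hτ ?h3
  case hInn =>
    rintro _ ⟨s, rfl⟩
    rw [psiSL_eq_conj]
    exact ⟨_, rfl⟩
  case hC =>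
    rintro _ ⟨s, rfl⟩
    have : psiSL E s ∈ (psiHom E).range := ⟨_, rfl⟩
    rw [hrange] at this
    exact this.2
  case hnorm =>
    rintro d hd _ ⟨s, rfl⟩
    rw [← hrange] at hd
    obtain ⟨k, rfl⟩ := hd
    rw [psiSL_conj]
    exact ⟨_, rfl⟩
  case hb =>
    apply NNP_range_of_ker_eq_center (psiSL E) (ker_psiSL E)
    exact NNP_PSL_of_dvd hn hp.out hpr hpGL
  case hc =>
    intro d hd hcomm
    rw [← hrange] at hd
    obtain ⟨k, rfl⟩ := hd
    exact psiHom_eq_one_of_commute E k (fun s => hcomm _ ⟨s, rfl⟩)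
  case h1 => exact map_one σ
  case hneg =>
    intro a ha
    show σ (-a) = -a
    rw [map_neg, ha]
  case h2 => right; rfl
  case hU =>
    intro a ha
    exact conj_rootSL_mem_centralizer σ i j hij a ha
  case hτ =>
    intro τ hτ
    obtain ⟨k, rfl⟩ := Cfsg.Agent.Helper28.FB.mem_zpowers_of_fixes σ τ hτ
    rw [← zpow_natCast, ← _root_.zpow_mul, mul_comm, _root_.zpow_mul, zpow_natCast, ← hσ,
      pow_orderOf_eq_one, _root_.one_zpow]
  case h3 =>
    intro _ _ i' j' hij'
    exact conj_rootSL_mem_centralizer σ i' j' hij' 1 (map_one σ)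

/-- **the standard field automorphism of prime order `p`: the criterion** -/
theorem field_std_core_iff [Fintype F] {r f : ℕ} [Fact r.Prime] [CharP F r]
    (hF : Fintype.card F = r ^ f) (hf : 1 ≤ f) (hn : 2 ≤ n) (hs : n = 2 → 4 ≤ Fintype.card F)
    (hZ : Subgroup.center (Matrix.ProjectiveSpecialLinearGroup (Fin n) F) = ⊥)
    (𝒢 : Subgroup (MulAut (Matrix.ProjectiveSpecialLinearGroup (Fin n) F)))
    (hinn : ∀ k : Matrix.ProjectiveSpecialLinearGroup (Fin n) F, MulAut.conj k ∈ 𝒢)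
    (σ : F ≃+* F) (p : ℕ) [hp : Fact p.Prime] (hpr : p ≠ r) (hσ : orderOf σ = p) :
    Cfsg.pPrimeCore p ↥(𝒢 ⊓ Subgroup.centralizer {(fieldPSL σ :
      MulAut (Matrix.ProjectiveSpecialLinearGroup (Fin n) F))}) ≠ ⊥ ↔
    Nat.Coprime p (Nat.card ↥(MonoidHom.eqLocus (fieldPSL σ :
      MulAut (Matrix.ProjectiveSpecialLinearGroup (Fin n) F)).toMonoidHom
        (MonoidHom.id (Matrix.ProjectiveSpecialLinearGroup (Fin n) F)))) := by
  constructor
  · intro hne
    by_contra hcop
    apply hne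
    apply field_std_core_bot hF hf hn hs hZ 𝒢 hinn σ p hpr hσ
    by_contra h
    exact hcop ((Nat.Prime.coprime_iff_not_dvd hp.out).2 h)
  · intro hcop
    have hInnA : Cfsg.Inn (Matrix.ProjectiveSpecialLinearGroup (Fin n) F) ≤ 𝒢 := by
      rintro _ ⟨k, rfl⟩
      exact hinn k
    apply Cfsg.Agent.Helper28.FB.pPrimeCore_ne_bot_of p _
      (Cfsg.Inn (Matrix.ProjectiveSpecialLinearGroup (Fin n) F) ⊓
        Subgroup.centralizer {(fieldPSL σ :
          MulAut (Matrix.ProjectiveSpecialLinearGroup (Fin n) F))})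
      (inf_le_inf_right _ hInnA)
    · rintro c hc d ⟨⟨k, rfl⟩, hd⟩
      refine ⟨⟨c k, ?_⟩, ?_⟩
      · show MulAut.conj (c k) = c * MulAut.conj k * c⁻¹
        rw [Cfsg.Agent.Helper28.FB.aut_mul_conj, mul_inv_cancel_right]
      · exact Subgroup.mul_mem _ (Subgroup.mul_mem _ hc.2 hd) (Subgroup.inv_mem _ hc.2)
    · rw [Cfsg.Agent.Helper28.FB.card_inn_inf_centralizer hZ]
      exact hcop.symm
    · obtain ⟨i, j, hij, hne⟩ := pr_rootSL_ne_one (F := F) hn
      intro hbot
      have hmem : MulAut.conj (pr (rootSL i j hij (1 : F))) ∈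
          Cfsg.Inn (Matrix.ProjectiveSpecialLinearGroup (Fin n) F) ⊓
            Subgroup.centralizer {(fieldPSL σ :
              MulAut (Matrix.ProjectiveSpecialLinearGroup (Fin n) F))} :=
        ⟨⟨_, rfl⟩, conj_rootSL_mem_centralizer σ i j hij 1 (map_one σ)⟩
      rw [hbot, Subgroup.mem_bot] at hmem
      apply hne
      apply Cfsg.Agent.Helper28.FB.conj_injective_of_center hZ
      rw [hmem, map_one]

/-- **field-type automorphisms of prime order `p`: the criterion** -/
theorem field_core_iff [Fintype F] {r f : ℕ} [Fact r.Prime] [CharP F r]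
    (hF : Fintype.card F = r ^ f) (hf : 1 ≤ f) (hn : 2 ≤ n) (hs : n = 2 → 4 ≤ Fintype.card F)
    (hZ : Subgroup.center (Matrix.ProjectiveSpecialLinearGroup (Fin n) F) = ⊥)
    (𝒢 : Subgroup (MulAut (Matrix.ProjectiveSpecialLinearGroup (Fin n) F)))
    (hinn : ∀ k : Matrix.ProjectiveSpecialLinearGroup (Fin n) F, MulAut.conj k ∈ 𝒢)
    (g : GL (Fin n) F) (σ : F ≃+* F) (hσ1 : σ ≠ 1) (p : ℕ) [hp : Fact p.Prime] (hpr : p ≠ r)
    (hord : orderOf (cGL g * fieldPSL σ :
      MulAut (Matrix.ProjectiveSpecialLinearGroup (Fin n) F)) = p) :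
    Cfsg.pPrimeCore p ↥(𝒢 ⊓ Subgroup.centralizer {(cGL g * fieldPSL σ :
      MulAut (Matrix.ProjectiveSpecialLinearGroup (Fin n) F))}) ≠ ⊥ ↔
    Nat.Coprime p (Nat.card ↥(MonoidHom.eqLocus (cGL g * fieldPSL σ :
      MulAut (Matrix.ProjectiveSpecialLinearGroup (Fin n) F)).toMonoidHom
        (MonoidHom.id (Matrix.ProjectiveSpecialLinearGroup (Fin n) F)))) := by
  haveI : NeZero n := ⟨by omega⟩
  have hpow : (cGL g * fieldPSL σ :
      MulAut (Matrix.ProjectiveSpecialLinearGroup (Fin n) F)) ^ p = 1 := by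
    rw [← hord]; exact pow_orderOf_eq_one _
  have hσp : σ ^ p = 1 := by
    rcases Nat.lt_or_ge n 3 with hlt | hge
    · obtain rfl : n = 2 := by omega
      exact pow_eq_one_two r hF hf (hs rfl) g σ p hpow
    · have h1 : (thetaHom ((σ, 1) : (F ≃+* F) × Multiplicative (ZMod 2)) :
          MulAut (Matrix.ProjectiveSpecialLinearGroup (Fin n) F)) = fieldPSL σ := by
        rw [thetaHom_apply, map_one, mul_one]
      have h2 := pow_eq_one_three r hF hf hge g ((σ, 1) : (F ≃+* F) × Multiplicative (ZMod 2)) p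
        (by rw [h1]; exact hpow)
      have := congrArg Prod.fst h2
      simpa using this
  have hσ : orderOf σ = p := orderOf_eq_prime hσp hσ1
  obtain ⟨B, hB⟩ := conj_of_pow_eq_one σ g (by rw [hσ]; exact hpow)
  have hα : (cGL B)⁻¹ * (cGL g * fieldPSL σ) * ((cGL B)⁻¹)⁻¹ = (fieldPSL σ :
      MulAut (Matrix.ProjectiveSpecialLinearGroup (Fin n) F)) := by
    rw [hB]; group
  rw [Cfsg.Agent.Helper28.FB.core_conj p 𝒢 _ _ _ hα,
    ← Cfsg.Agent.Helper28.FB.card_eqLocus_conj _ _ _ hα]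
  exact field_std_core_iff hF hf hn hs hZ _
    (Cfsg.Agent.Helper28.FB.conj_mem_map_conj 𝒢 hinn _) σ p hpr hσ

end main

end Cfsg.Agent.Helper7.LBal
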