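import Mathlib
import Cfsg.Agent.Helper7.LBal21
import Cfsg.Agent.Helper24.Burnside

set_option autoImplicit false
set_option linter.unusedSectionVars false

/-! The failure of local balance in `Aut(PSL_n(F))`: assembly. -/

namespace Cfsg.Agent.Helper7.LBal

open Matrix Cfsg.Agent.Helper7.GraphPSL Cfsg.Agent.Helper7.AutPSL Cfsg.Agent.Helper7.FieldPSL
  Cfsg.Agent.Helper7.GraphSplit

section basic

variable {n : ℕ} {F : Type*} [Field F]

/-- `PSL_n(F)` is not abelian, `n ≥ 2` -/
theorem PSL_nonabelian (hn : 2 ≤ n) :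
    ∃ x y : Matrix.ProjectiveSpecialLinearGroup (Fin n) F, x * y ≠ y * x := by
  set i₀ : Fin n := ⟨0, by omega⟩ with hi₀
  set i₁ : Fin n := ⟨1, by omega⟩ with hi₁
  have h01 : i₀ ≠ i₁ := by
    intro h
    have := congrArg Fin.val h
    simp [hi₀, hi₁] at this
  refine ⟨pr (rootSL i₀ i₁ h01 (1 : F)), pr (rootSL i₁ i₀ h01.symm (1 : F)), ?_⟩
  intro h
  rw [← map_mul, ← map_mul, pr_eq_iff] at h
  obtain ⟨c, hc⟩ := h
  rw [Matrix.SpecialLinearGroup.coe_mul, Matrix.SpecialLinearGroup.coe_mul, rootSL_coe,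
    rootSL_coe] at hc
  simp only [add_mul, mul_add, one_mul, mul_one, Matrix.single_mul_single_same] at hc
  have e01 := congrFun (congrFun hc i₀) i₁
  have e00 := congrFun (congrFun hc i₀) i₀
  simp [Matrix.smul_apply, Matrix.add_apply, Matrix.one_apply,
    Matrix.single_apply, smul_eq_mul, h01, h01.symm] at e00 e01
  rw [← e01] at e00
  exact one_ne_zero (by linear_combination -e00 : (1 : F) = 0)

/-- the centre of a simple `PSL_n(F)` is trivial -/
theorem center_PSL_of_simple (hn : 2 ≤ n)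
    [IsSimpleGroup (Matrix.ProjectiveSpecialLinearGroup (Fin n) F)] :
    Subgroup.center (Matrix.ProjectiveSpecialLinearGroup (Fin n) F) = ⊥ := by
  rcases Subgroup.Normal.eq_bot_or_eq_top (inferInstance :
    (Subgroup.center (Matrix.ProjectiveSpecialLinearGroup (Fin n) F)).Normal) with h0 | h0
  · exact h0
  · exfalso
    obtain ⟨x, y, hxy⟩ := PSL_nonabelian (F := F) hn
    apply hxy
    have hy : y ∈ Subgroup.center (Matrix.ProjectiveSpecialLinearGroup (Fin n) F) := by
      rw [h0]; exact Subgroup.mem_top _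
    exact Subgroup.mem_center_iff.1 hy x

/-- a simple `PSL₂(F)` has `|F| ≥ 4` -/
theorem four_le_card_of_simple [Fintype F]
    [hK : IsSimpleGroup (Matrix.ProjectiveSpecialLinearGroup (Fin 2) F)] :
    4 ≤ Fintype.card F := by
  by_contra hlt
  have h1 : 1 < Fintype.card F := Fintype.one_lt_card
  have hdvd : Nat.card (Matrix.ProjectiveSpecialLinearGroup (Fin 2) F)
      ∣ Nat.card (GL (Fin 2) F) := by
    have h2 : Nat.card (Matrix.ProjectiveSpecialLinearGroup (Fin 2) F)
        ∣ Nat.card (Matrix.SpecialLinearGroup (Fin 2) F) := Subgroup.card_quotient_dvd_card _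
    have h3 : Nat.card (Matrix.SpecialLinearGroup (Fin 2) F) ∣ Nat.card (GL (Fin 2) F) :=
      ⟨_, (Cfsg.Agent.Helper2.card_SL_mul_card_units (ι := Fin 2) (F := F)).symm⟩
    exact h2.trans h3
  have hsolv : Group.IsSolvable (Matrix.ProjectiveSpecialLinearGroup (Fin 2) F) := by
    have hq : Fintype.card F = 2 ∨ Fintype.card F = 3 := by omega
    have h4 : Nat.card (GL (Fin 2) F) = 2 ^ 1 * 3 ^ 1 ∨ Nat.card (GL (Fin 2) F) = 2 ^ 4 * 3 ^ 1 := by
      rcases hq with hq | hq
      · left; rw [card_GL_two_of_card _ hq]; norm_num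
      · right; rw [card_GL_two_of_card _ hq]; norm_num
    rcases h4 with h4 | h4
    · rw [h4] at hdvd
      obtain ⟨a, b, hab⟩ := Cfsg.Agent.Helper24.dvd_prime_pow_mul_prime_pow Nat.prime_two
        Nat.prime_three hdvd
      exact Cfsg.Agent.Helper24.isSolvable_of_card_eq_prime_pow_mul 2 3 a b Nat.prime_two
        Nat.prime_three hab
    · rw [h4] at hdvd
      obtain ⟨a, b, hab⟩ := Cfsg.Agent.Helper24.dvd_prime_pow_mul_prime_pow Nat.prime_two
        Nat.prime_three hdvd
      exact Cfsg.Agent.Helper24.isSolvable_of_card_eq_prime_pow_mul 2 3 a b Nat.prime_two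
        Nat.prime_three hab
  obtain ⟨x, y, hxy⟩ := PSL_nonabelian (F := F) (n := 2) le_rfl
  exact hxy (IsSimpleGroup.comm_iff_isSolvable.2 hsolv x y)

end basic

section final

variable {n : ℕ} {F : Type*} [Field F]

/-- **failure of local balance for `PSL_n(F)`** -/
theorem main_PSL [Fintype F] (r : ℕ) [Fact r.Prime] [CharP F r] (hn : 2 ≤ n)
    (hK : IsSimpleGroup (Matrix.ProjectiveSpecialLinearGroup (Fin n) F))
    (𝒢 : Subgroup (MulAut (Matrix.ProjectiveSpecialLinearGroup (Fin n) F)))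
    (hinn : ∀ k : Matrix.ProjectiveSpecialLinearGroup (Fin n) F, MulAut.conj k ∈ 𝒢)
    (p : ℕ) [hp : Fact p.Prime] (hpr : p ≠ r)
    (β : MulAut (Matrix.ProjectiveSpecialLinearGroup (Fin n) F)) (hord : orderOf β = p)
    (hnot : ¬ Cfsg.IsInnerDiagonalAutPSL β) :
    Cfsg.pPrimeCore p ↥(𝒢 ⊓ Subgroup.centralizer {β}) ≠ ⊥ ↔
      ((∃ γ φ : MulAut (Matrix.ProjectiveSpecialLinearGroup (Fin n) F),
        Cfsg.IsInnerDiagonalAutPSL γ ∧ Cfsg.IsFieldAutPSL φ ∧ β = φ.trans γ) ∧
        Nat.Coprime p (Nat.card ↥(MonoidHom.eqLocus β.toMonoidHom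
          (MonoidHom.id (Matrix.ProjectiveSpecialLinearGroup (Fin n) F))))) := by
  obtain ⟨f, -, hF⟩ := FiniteField.card F r
  have hf : 1 ≤ (f : ℕ) := f.pos
  have hs : n = 2 → 4 ≤ Fintype.card F := by
    intro h2
    subst h2
    exact four_le_card_of_simple
  have hZ := center_PSL_of_simple (F := F) hn
  obtain ⟨g, σ, hβ | ⟨hn3, hβ⟩⟩ := aut_decomp_all hF hf hn hs β
  · -- field type
    have hσ1 : σ ≠ 1 := by
      intro h1
      apply hnot
      rw [isInnerDiagonalAutPSL_iff]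
      refine ⟨g, ?_⟩
      rw [hβ, h1, fieldPSL_one', mul_one]
    have hfirst : ∃ γ φ : MulAut (Matrix.ProjectiveSpecialLinearGroup (Fin n) F),
        Cfsg.IsInnerDiagonalAutPSL γ ∧ Cfsg.IsFieldAutPSL φ ∧ β = φ.trans γ :=
      ⟨cGL g, fieldPSL σ, (isInnerDiagonalAutPSL_iff _).2 ⟨g, rfl⟩,
        ⟨σ, (isStdFieldAutPSL_iff σ _).2 rfl⟩, hβ⟩
    rw [and_iff_right hfirst]
    subst hβ
    exact field_core_iff hF hf hn hs hZ 𝒢 hinn g σ hσ1 p hpr hord
  · -- graph part
    have hpow : (cGL g * thetaHom (σ, Multiplicative.ofAdd (1 : ZMod 2)) :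
        MulAut (Matrix.ProjectiveSpecialLinearGroup (Fin n) F)) ^ p = 1 := by
      rw [thetaHom_apply, iotaHom_one, ← mul_assoc, ← hβ, ← hord]
      exact pow_orderOf_eq_one _
    have h1 := pow_eq_one_three r hF hf hn3 g _ p hpow
    have h2 : (Multiplicative.ofAdd (1 : ZMod 2)) ^ p = 1 := congrArg Prod.snd h1
    have hp2 : p = 2 := by
      have h3 : orderOf (Multiplicative.ofAdd (1 : ZMod 2)) ∣ p := orderOf_dvd_of_pow_eq_one h2
      have h4 : orderOf (Multiplicative.ofAdd (1 : ZMod 2)) ≠ 1 := by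
        rw [Ne, orderOf_eq_one_iff]
        exact ofAdd_one_ne_one
      exact ((Nat.dvd_prime hp.out).1 h3).resolve_left h4 ▸ (by
        have h5 : (Multiplicative.ofAdd (1 : ZMod 2)) ^ 2 = 1 := by decide
        have h6 := orderOf_dvd_of_pow_eq_one h5
        rcases (Nat.dvd_prime Nat.prime_two).1 h6 with h7 | h7
        · exact absurd h7 h4
        · exact h7)
    subst hp2
    have hF2 : (2 : F) ≠ 0 := by
      intro h0
      have h3 : ((2 : ℕ) : F) = 0 := by exact_mod_cast h0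
      rw [CharP.cast_eq_zero_iff F r] at h3
      exact hpr ((Nat.prime_dvd_prime_iff_eq (Fact.out : r.Prime) Nat.prime_two).1 h3).symm
    constructor
    · intro hne
      exfalso
      apply hne
      subst hβ
      exact nonfield_core_bot hF hf hn3 hF2 hZ 𝒢 hinn g σ hord
    · rintro ⟨⟨γ, φ, hγ, ⟨σ', hφ⟩, hβ'⟩, -⟩
      exfalso
      rw [isInnerDiagonalAutPSL_iff] at hγ
      obtain ⟨g', rfl⟩ := hγ
      have hφ' : φ = fieldPSL σ' := (isStdFieldAutPSL_iff σ' φ).1 hφ
      subst hφ'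
      have hβ'' : β = cGL g' * fieldPSL σ' := hβ'
      rw [hβ] at hβ''
      -- `thetaHom (σ'⁻¹ σ, 1)` lies in the range of `cGL`
      have hnorm := normal_range_cGL (n := n) hF hf hn hs
      have h3 : (thetaHom ((σ'⁻¹ * σ, Multiplicative.ofAdd (1 : ZMod 2)) :
          (F ≃+* F) × Multiplicative (ZMod 2)) :
          MulAut (Matrix.ProjectiveSpecialLinearGroup (Fin n) F))
            ∈ (cGL : GL (Fin n) F →* _).range := by
        have h4 : (thetaHom ((σ'⁻¹ * σ, Multiplicative.ofAdd (1 : ZMod 2)) :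
            (F ≃+* F) × Multiplicative (ZMod 2)) :
            MulAut (Matrix.ProjectiveSpecialLinearGroup (Fin n) F))
            = (fieldPSL σ')⁻¹ * (cGL (g⁻¹ * g')) * ((fieldPSL σ')⁻¹)⁻¹ := by
          rw [thetaHom_apply, iotaHom_one]
          show fieldPSL (σ'⁻¹ * σ) * iotaT = _
          rw [fieldPSL_mul, map_mul, map_inv, inv_inv]
          have h5 : (fieldPSL σ * iotaT : MulAut (Matrix.ProjectiveSpecialLinearGroup (Fin n) F))
              = (cGL g)⁻¹ * (cGL g' * fieldPSL σ') := by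
            rw [← hβ'']; group
          have h6 : (fieldPSL σ'⁻¹ : MulAut (Matrix.ProjectiveSpecialLinearGroup (Fin n) F))
              = (fieldPSL σ')⁻¹ := by
            apply eq_inv_of_mul_eq_one_left
            rw [← fieldPSL_mul, inv_mul_cancel, fieldPSL_one']
          rw [mul_assoc, h5, h6]
          group
        rw [h4]
        exact hnorm.conj_mem _ ⟨g⁻¹ * g', rfl⟩ _
      have h7 := thetaHom_mem_range_cGL r hn3 _ h3
      exact ofAdd_one_ne_one (congrArg Prod.snd h7)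

end final

end Cfsg.Agent.Helper7.LBal
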