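import Mathlib
import Cfsg.Agent.Helper7.LBal22
import Cfsg.Agent.Helper7.FieldPSU6
import Cfsg.Agent.Helper7.AutPSU30
import Cfsg.Agent.Helper7.GraphSplitU5

set_option autoImplicit false
set_option linter.unusedSectionVars false

/-! Local balance in `Aut(PSU_n(q))`: killing the field part, and the general criterion for the
triviality of the `p'`-core. -/

namespace Cfsg.Agent.Helper7.LBalU

open Matrix
open Cfsg.Agent.Helper7.GraphPSU (UData HS cU phiU cU_mk phiU_mk conjSU phiSU suMat suMat_phiSU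
  suMat_conjSU center_scalar inndiagPSU_eq_range suMat_mul)
open Cfsg.Agent.Helper7.LBal (NNP stepI core_trivial tau_fix_of_matrix_family smul_eq_of_pow_eq_one)

variable {F : Type*} [Field F] {n q : ℕ} (D : UData F q)

local notation "KU" => Cfsg.PSU n F q

theorem apply_mkU (g : ↥(HS D n)) (τ : F ≃+* F) (s : ↥(Cfsg.SU n F q)) :
    (cU D g * phiU D τ : MulAut KU) (QuotientGroup.mk s)
      = QuotientGroup.mk (conjSU D g (phiSU D τ s)) := rfl

/-- an automorphism fixing the class of a unipotent element fixes the element -/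
theorem fix_unipotent_U [Finite F] {r : ℕ} [Fact r.Prime] [CharP F r] (hn : 3 ≤ n)
    (g : ↥(HS D n)) (τ : F ≃+* F) (s : ↥(Cfsg.SU n F q)) (hs : s ^ r = 1)
    (hfix : (cU D g * phiU D τ : MulAut KU) (QuotientGroup.mk s) = QuotientGroup.mk s) :
    suMat s * ((g : GL (Fin n) F) : Matrix (Fin n) (Fin n) F)
      = ((g : GL (Fin n) F) : Matrix (Fin n) (Fin n) F) * (suMat s).map τ := by
  haveI : NeZero n := ⟨by omega⟩
  rw [apply_mkU, QuotientGroup.eq] at hfix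
  set t := conjSU D g (phiSU D τ s) with ht
  obtain ⟨m, hm⟩ := center_scalar D hn _ hfix
  have h1 : suMat s = m • suMat t := by
    have e : s = t * (t⁻¹ * s) := by group
    have e2 := congrArg suMat e
    rw [suMat_mul, hm, Matrix.mul_smul, Matrix.mul_one] at e2
    exact e2
  have htr : t ^ r = 1 := by
    rw [ht, ← map_pow, ← map_pow, hs, map_one, map_one]
  have h2 : (s : Matrix.SpecialLinearGroup (Fin n) F) = (t : Matrix.SpecialLinearGroup (Fin n) F) := by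
    apply smul_eq_of_pow_eq_one _ _ m h1
    · have := congrArg Subtype.val htr
      simpa using this
    · have := congrArg Subtype.val hs
      simpa using this
  have h3 : suMat s = suMat t := congrArg (fun x : Matrix.SpecialLinearGroup (Fin n) F =>
    (x : Matrix (Fin n) (Fin n) F)) h2
  rw [ht, suMat_conjSU, suMat_phiSU] at h3
  have h4 := congrArg (fun M => M * ((g : GL (Fin n) F) : Matrix (Fin n) (Fin n) F)) h3
  beta_reduce at h4
  rw [Matrix.mul_assoc, ← Units.val_mul, inv_mul_cancel, Units.val_one, Matrix.mul_one] at h4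
  exact h4

/-- **killing the field part** in `Aut(PSU_n)` -/
theorem tau_fix_U [Finite F] {r : ℕ} [Fact r.Prime] [CharP F r] (hn : 3 ≤ n)
    (g : ↥(HS D n)) (τ : F ≃+* F) (u : F → ↥(Cfsg.SU n F q))
    (N₁ N₂ : Matrix (Fin n) (Fin n) F) (hN₁ : N₁ ≠ 0) (A : Set F)
    (hu : ∀ a ∈ A, suMat (u a) = 1 + a • N₁ + (a * a) • N₂)
    (hpow : ∀ a ∈ A, u a ^ r = 1)
    (h1 : (1 : F) ∈ A) (hneg : ∀ a ∈ A, -a ∈ A) (h2 : (2 : F) ≠ 0 ∨ N₂ = 0)
    (hfix : ∀ a ∈ A, (cU D g * phiU D τ : MulAut KU) (QuotientGroup.mk (u a))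
      = QuotientGroup.mk (u a)) :
    ∀ a ∈ A, τ a = a := by
  apply tau_fix_of_matrix_family (τ : F →+* F) ((g : GL (Fin n) F) : Matrix (Fin n) (Fin n) F)
    ((Matrix.isUnit_iff_isUnit_det _).2 ((Matrix.isUnit_iff_isUnit_det _).1
      (g : GL (Fin n) F).isUnit))
    N₁ N₂ (N₁.map τ) (N₂.map τ) hN₁ A h1 hneg
  · rcases h2 with h2 | h2
    · exact Or.inl h2
    · right
      refine ⟨h2, ?_⟩
      rw [h2]
      ext i j
      simp
  · intro a ha
    have h5 := fix_unipotent_U D hn g τ (u a) (hpow a ha) (hfix a ha)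
    rw [hu a ha] at h5
    rw [h5]
    congr 1
    ext i j
    simp [Matrix.map_apply, Matrix.add_apply, Matrix.smul_apply, Matrix.one_apply]

include D in
theorem inn_le_inndiagPSU [Fintype F] (hn : 3 ≤ n) :
    Cfsg.Inn KU ≤ Cfsg.inndiagPSU n F q := by
  haveI : NeZero n := ⟨by omega⟩
  rintro _ ⟨k, rfl⟩
  obtain ⟨g, rfl⟩ := Cfsg.Agent.Helper7.AutPSU.prU_surjective k
  rw [inndiagPSU_eq_range D, Cfsg.Agent.Helper7.AutPSU.conj_eq_cU D]
  exact ⟨_, rfl⟩

theorem inn_normal {G : Type*} [Group G] : (Cfsg.Inn G).Normal := by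
  constructor
  rintro _ ⟨k, rfl⟩ α
  refine ⟨α k, ?_⟩
  ext x
  simp [MulAut.conj_apply]

/-- **the criterion for a trivial `p'`-core in `Aut(PSU_n(q))`** -/
theorem core_bot_main_U [Fintype F] (hF : Fintype.card F = q ^ 2) (hn : 3 ≤ n)
    (h32 : ¬ (n = 3 ∧ q = 2))
    (𝒢 : Subgroup (MulAut KU)) (hinn : ∀ k : KU, MulAut.conj k ∈ 𝒢)
    (β : MulAut KU) (p : ℕ) [hp : Fact p.Prime]
    (I₀ : Subgroup (MulAut KU))
    (hI₀Inn : I₀ ≤ Cfsg.Inn KU) (hI₀C : I₀ ≤ Subgroup.centralizer {β})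
    (hnorm : ∀ d ∈ Cfsg.inndiagPSU n F q ⊓ Subgroup.centralizer {β}, ∀ s ∈ I₀,
      d * s * d⁻¹ ∈ I₀)
    (hb : NNP p ↥I₀)
    (hc : ∀ d ∈ Cfsg.inndiagPSU n F q ⊓ Subgroup.centralizer {β},
      (∀ s ∈ I₀, d * s = s * d) → d = 1)
    (hP2 : ∀ (g : ↥(HS D n)) (τ : F ≃+* F) (l : ℕ), l.Prime → l ≠ p → τ ^ l = 1 →
      (∀ y ∈ Cfsg.Inn KU ⊓ Subgroup.centralizer {β},
        (cU D g * phiU D τ : MulAut KU) * y = y * (cU D g * phiU D τ)) → τ = 1) :
    Cfsg.pPrimeCore p ↥(𝒢 ⊓ Subgroup.centralizer {β}) = ⊥ := by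
  haveI : NeZero n := ⟨by omega⟩
  have hInnI := inn_le_inndiagPSU (n := n) D hn
  have hInnA : Cfsg.Inn KU ≤ 𝒢 := by
    rintro _ ⟨k, rfl⟩
    exact hinn k
  haveI hIn : (Cfsg.inndiagPSU n F q).Normal :=
    Cfsg.Agent.Helper7.FieldPSU.normal_inndiagPSU hF hn h32
  haveI hInnN : (Cfsg.Inn KU).Normal := inn_normal
  apply Cfsg.Agent.Helper28.FB.pPrimeCore_eq_bot_of
  intro N hNC hNnorm hcop
  have hNI : N ⊓ Cfsg.inndiagPSU n F q = ⊥ :=
    stepI β (Cfsg.inndiagPSU n F q) 𝒢 I₀ (hI₀Inn.trans hInnI) (hI₀Inn.trans hInnA) hI₀C hnorm hb hc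
      N hNC hNnorm hcop
  apply core_trivial β (Cfsg.inndiagPSU n F q) 𝒢 (Cfsg.Inn KU) hInnA hInnI N hNC hNnorm hcop hNI
  intro ν hνC hνI hl hlp hcomm
  obtain ⟨x, τ, hν⟩ := Cfsg.Agent.Helper7.AutPSU.aut_PSU D hF hn h32 ν
  have hτl : τ ^ orderOf ν = 1 := by
    have h1 := Cfsg.Agent.Helper7.AutPSU.psiHom_apply D hF hn h32 hν
    rw [← h1, ← map_pow, pow_orderOf_eq_one, map_one]
  have hτ1 : τ = 1 := by
    apply hP2 x τ (orderOf ν) hl hlp hτl
    rw [← hν]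
    exact hcomm
  apply hνI
  rw [hν, hτ1, map_one, mul_one, inndiagPSU_eq_range D]
  exact ⟨x, rfl⟩

end Cfsg.Agent.Helper7.LBalU
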