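import Mathlib
import Cfsg.Agent.Helper7.LBalU1

set_option autoImplicit false
set_option linter.unusedSectionVars false

/-! The image of `SU_n(q₀)` in the centralizer of the standard field automorphism of
`PSU_n(q)`. -/

namespace Cfsg.Agent.Helper7.LBalU

open Matrix
open Cfsg.Agent.Helper7.GraphPSU (UData HS cU phiU cU_mk phiU_mk conjSU phiSU suMat suMat_phiSU
  suMat_conjSU center_scalar inndiagPSU_eq_range suMat_mul suGL suGL_coe suGL_isUG suGL_det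
  mkSUG suGL_mkSUG suGL_injective suGL_conjSU cU_eq_one_iff IsUG isUG_mem_HS)
open Cfsg.Agent.Helper7.FieldPSU (UFD jGU jGU_coe psiUF psiUF_apply range_psiUF ker_psiUF
  isUG_jGL_iff)
open Cfsg.Agent.Helper7.FieldPSL (jGL jGL_coe jGL_injective)
open Cfsg.Agent.Helper7.GraphSplit (cGU cGU_apply GU_le_HS cGU_suGL mem_GU_of_isUG isUG_of_mem_GU)
open Cfsg.Agent.Helper7.LBal (NNP suGL_mem_GU mem_center_of_scalar_SU scalar_of_mem_center_SU)

variable {F : Type*} [Field F] {F₀ : Type*} [Field F₀] {n q q₀ : ℕ} (R : UFD F F₀ q q₀)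

/-- `SU_n → GU_n` -/
def suGU (D : UData F q) : ↥(Cfsg.SU n F q) →* ↥(Cfsg.GU n F q) where
  toFun s := ⟨suGL s, suGL_mem_GU D s⟩
  map_one' := by
    apply Subtype.ext
    show suGL (1 : ↥(Cfsg.SU n F q)) = 1
    rw [map_one]
  map_mul' s t := by
    apply Subtype.ext
    show suGL (s * t) = suGL s * suGL t
    rw [map_mul]

theorem suGU_coe (D : UData F q) (s : ↥(Cfsg.SU n F q)) :
    ((suGU D s : ↥(Cfsg.GU n F q)) : GL (Fin n) F) = suGL s := rfl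

theorem det_jGL' (k : GL (Fin n) F₀) :
    Matrix.GeneralLinearGroup.det (jGL R.E k) = Units.map (R.E.j : F₀ →* F)
      (Matrix.GeneralLinearGroup.det k) := by
  apply Units.ext
  show ((jGL R.E k : GL (Fin n) F) : Matrix (Fin n) (Fin n) F).det = _
  rw [jGL_coe, Units.coe_map]
  exact (RingHom.map_det R.E.j _).symm

/-- base change `SU_n(q₀) → SU_n(q)` -/
def jSU : ↥(Cfsg.SU n F₀ q₀) →* ↥(Cfsg.SU n F q) where
  toFun s := mkSUG R.U (jGL R.E (suGL s)) (by rw [det_jGL', suGL_det, map_one])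
    ((isUG_jGL_iff R _).2 (suGL_isUG R.U₀ s))
  map_one' := by
    apply suGL_injective
    rw [suGL_mkSUG, map_one, map_one, map_one]
  map_mul' s t := by
    apply suGL_injective
    rw [suGL_mkSUG, map_mul, map_mul, map_mul, suGL_mkSUG, suGL_mkSUG]

theorem suGL_jSU (s : ↥(Cfsg.SU n F₀ q₀)) : suGL (jSU R s) = jGL R.E (suGL s) :=
  suGL_mkSUG R.U _ (by rw [det_jGL', suGL_det, map_one])
    ((isUG_jGL_iff R _).2 (suGL_isUG R.U₀ s))

theorem suMat_jSU (s : ↥(Cfsg.SU n F₀ q₀)) : suMat (jSU R s) = (suMat s).map R.E.j := by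
  rw [← suGL_coe, suGL_jSU, jGL_coe, suGL_coe]

/-- the map `SU_n(q₀) → Aut(PSU_n(q))` -/
noncomputable def psiSUF : ↥(Cfsg.SU n F₀ q₀) →* MulAut (Cfsg.PSU n F q) :=
  (psiUF R).comp (suGU R.U₀)

theorem psiSUF_apply (s : ↥(Cfsg.SU n F₀ q₀)) : psiSUF R s = psiUF R (suGU R.U₀ s) := rfl

theorem psiSUF_eq_conj (s : ↥(Cfsg.SU n F₀ q₀)) :
    psiSUF R s = MulAut.conj (QuotientGroup.mk (jSU R s) : Cfsg.PSU n F q) := by
  rw [← cGU_suGL R.U (jSU R s) (suGL_mem_GU R.U _)]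
  show cGU R.U (jGU R (suGU R.U₀ s)) = _
  congr 1
  apply Subtype.ext
  rw [jGU_coe]
  show jGL R.E (suGL s) = suGL (jSU R s)
  rw [suGL_jSU]

theorem ker_psiSUF [Fintype F] [Fintype F₀] (hF₀ : Fintype.card F₀ = q₀ ^ 2) (hn : 3 ≤ n) :
    (psiSUF R : ↥(Cfsg.SU n F₀ q₀) →* MulAut (Cfsg.PSU n F q)).ker
      = Subgroup.center ↥(Cfsg.SU n F₀ q₀) := by
  haveI : NeZero n := ⟨by omega⟩
  ext s
  rw [MonoidHom.mem_ker, psiSUF_apply, ← MonoidHom.mem_ker, ker_psiUF R hn,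
    Subgroup.mem_subgroupOf, suGU_coe]
  exact ⟨mem_center_of_scalar_SU s, scalar_of_mem_center_SU hF₀ (by omega) s⟩

/-- the image of `SU_n(q₀)` is normalised by the image of `GU_n(q₀)` -/
theorem psiSUF_conj (k : ↥(Cfsg.GU n F₀ q₀)) (s : ↥(Cfsg.SU n F₀ q₀)) :
    psiUF R k * psiSUF R s * (psiUF R k)⁻¹
      = psiSUF R (conjSU R.U₀ ⟨k.1, GU_le_HS R.U₀ k.2⟩ s) := by
  rw [psiSUF_apply, psiSUF_apply, ← map_inv, ← map_mul, ← map_mul]
  congr 1
  apply Subtype.ext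
  rw [suGU_coe, suGL_conjSU]
  rfl

/-- an element of the image of `GU_n(q₀)` centralizing the image of `SU_n(q₀)` is trivial -/
theorem psiUF_eq_one_of_commute [Fintype F] [Fintype F₀] (hF₀ : Fintype.card F₀ = q₀ ^ 2)
    (hn : 3 ≤ n) (k : ↥(Cfsg.GU n F₀ q₀))
    (h : ∀ s : ↥(Cfsg.SU n F₀ q₀), psiUF R k * psiSUF R s = psiSUF R s * psiUF R k) :
    psiUF R k = 1 := by
  haveI : NeZero n := ⟨by omega⟩
  have h1 : cU R.U₀ (⟨k.1, GU_le_HS R.U₀ k.2⟩ : ↥(HS R.U₀ n)) = 1 := by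
    ext x
    induction x using QuotientGroup.induction_on with
    | H s =>
      rw [cU_mk, MulAut.one_apply]
      rw [QuotientGroup.eq, ← ker_psiSUF R hF₀ hn, MonoidHom.mem_ker, map_mul, map_inv,
        ← psiSUF_conj, h s]
      group
  rw [cU_eq_one_iff R.U₀ hn] at h1
  rw [← MonoidHom.mem_ker, ker_psiUF R hn, Subgroup.mem_subgroupOf]
  exact h1

end Cfsg.Agent.Helper7.LBalU
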