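import Mathlib
import Cfsg.Agent.Helper7.LBalU2
import Cfsg.Agent.S0277
import Cfsg.Agent.S0280
import Cfsg.Agent.S0283

set_option autoImplicit false
set_option linter.unusedSectionVars false

/-! Primes dividing `|PSU_n(q)|`, and the absence of normal `p'`-subgroups in `PSU_n(q)`. -/

namespace Cfsg.Agent.Helper7.LBalU

open Matrix
open Cfsg.Agent.Helper7.GraphPSU (UData suMat center_scalar suMat_mul IsU mkSU suMat_mkSU)
open Cfsg.Agent.Helper7.GraphSplit (U1 mem_U1_iff' card_U1)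
open Cfsg.Agent.Helper7.LBal (NNP NNP_of_simple)

variable {F : Type*} [Field F] {n q : ℕ} (D : UData F q)

/-- the diagonal function `(ζ, ζ⁻¹, 1, …, 1)` -/
noncomputable def dzFun (i₀ i₁ : Fin n) (ζ : Fˣ) : Fin n → F :=
  fun k => if k = i₀ then (ζ : F) else if k = i₁ then ((ζ⁻¹ : Fˣ) : F) else 1

theorem dzFun_det (i₀ i₁ : Fin n) (h01 : i₀ ≠ i₁) (ζ : Fˣ) :
    (Matrix.diagonal (dzFun i₀ i₁ ζ)).det = 1 := by
  rw [Matrix.det_diagonal, Finset.prod_eq_mul i₀ i₁ h01]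
  · unfold dzFun
    rw [if_pos rfl, if_neg h01.symm, if_pos rfl, ← Units.val_mul, mul_inv_cancel, Units.val_one]
  · intro c _ hc
    unfold dzFun
    rw [if_neg hc.1, if_neg hc.2]
  · intro h; exact absurd (Finset.mem_univ _) h
  · intro h; exact absurd (Finset.mem_univ _) h

theorem dzFun_isU (i₀ i₁ : Fin n) (ζ : Fˣ) (hζ : (ζ : F) * D.bar (ζ : F) = 1) :
    IsU D (Matrix.diagonal (dzFun i₀ i₁ ζ)) := by
  unfold IsU
  rw [Matrix.diagonal_transpose, Matrix.diagonal_map (map_zero _), Matrix.diagonal_mul_diagonal,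
    ← Matrix.diagonal_one]
  congr 1
  funext k
  unfold dzFun
  by_cases h0 : k = i₀
  · simp only [if_pos h0]
    exact hζ
  · simp only [if_neg h0]
    by_cases h1 : k = i₁
    · simp only [if_pos h1]
      have h3 : ((ζ⁻¹ : Fˣ) : F) = D.bar (ζ : F) := by
        rw [Units.val_inv_eq_inv_val]
        exact inv_eq_of_mul_eq_one_right hζ
      rw [h3, D.bar_bar, mul_comm]
      exact hζ
    · simp only [if_neg h1, map_one, mul_one]

/-- the element `diag(ζ, ζ⁻¹, 1, …, 1)` of `SU_n` -/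
noncomputable def dzSU (i₀ i₁ : Fin n) (h01 : i₀ ≠ i₁) (ζ : Fˣ)
    (hζ : (ζ : F) * D.bar (ζ : F) = 1) : ↥(Cfsg.SU n F q) :=
  mkSU D (Matrix.diagonal (dzFun i₀ i₁ ζ)) (dzFun_det i₀ i₁ h01 ζ) (dzFun_isU D i₀ i₁ ζ hζ)

theorem dzSU_pow (i₀ i₁ : Fin n) (h01 : i₀ ≠ i₁) (ζ : Fˣ)
    (hζ : (ζ : F) * D.bar (ζ : F) = 1) (k : ℕ) (hk : ζ ^ k = 1) :
    dzSU D i₀ i₁ h01 ζ hζ ^ k = 1 := by
  apply Subtype.ext
  apply Subtype.ext
  show ((dzSU D i₀ i₁ h01 ζ hζ ^ k : ↥(Cfsg.SU n F q)) : Matrix (Fin n) (Fin n) F) = 1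
  rw [Subgroup.coe_pow, Matrix.SpecialLinearGroup.coe_pow]
  show (Matrix.diagonal (dzFun i₀ i₁ ζ)) ^ k = 1
  rw [Matrix.diagonal_pow, ← Matrix.diagonal_one]
  congr 1
  funext j
  rw [Pi.pow_apply]
  show _ = (1 : F)
  unfold dzFun
  by_cases h0 : j = i₀
  · rw [if_pos h0, ← Units.val_pow_eq_pow_val, hk, Units.val_one]
  · rw [if_neg h0]
    by_cases h1 : j = i₁
    · rw [if_pos h1, ← Units.val_pow_eq_pow_val, inv_pow, hk, inv_one, Units.val_one]
    · rw [if_neg h1, one_pow]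

/-- an element of order `p` in `PSU_n(q)` from a norm-one element of order `p` -/
theorem dvd_card_PSU_of_unit [Finite F] (hn : 3 ≤ n) {p : ℕ} (hp : p.Prime) (ζ : Fˣ)
    (hζ : orderOf ζ = p) (hU : (ζ : F) * D.bar (ζ : F) = 1) :
    p ∣ Nat.card (Cfsg.PSU n F q) := by
  haveI : Fact p.Prime := ⟨hp⟩
  haveI : Finite (Cfsg.PSU n F q) := by
    haveI : Finite ↥(Cfsg.SU n F q) := inferInstance
    exact inferInstance
  set i₀ : Fin n := ⟨0, by omega⟩ with hi₀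
  set i₁ : Fin n := ⟨1, by omega⟩ with hi₁
  set i₂ : Fin n := ⟨2, by omega⟩ with hi₂
  have h01 : i₀ ≠ i₁ := by simp [hi₀, hi₁, Fin.ext_iff]
  have h20 : i₂ ≠ i₀ := by simp [hi₀, hi₂, Fin.ext_iff]
  have h21 : i₂ ≠ i₁ := by simp [hi₁, hi₂, Fin.ext_iff]
  have hζp : ζ ^ p = 1 := by rw [← hζ]; exact pow_orderOf_eq_one ζ
  have hζ1 : ζ ≠ 1 := by
    intro h
    rw [h, orderOf_one] at hζ
    exact hp.one_lt.ne hζ
  set x : Cfsg.PSU n F q := QuotientGroup.mk (dzSU D i₀ i₁ h01 ζ hU) with hx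
  have hx2 : x ^ p = 1 := by
    rw [hx, ← QuotientGroup.mk_pow, dzSU_pow D i₀ i₁ h01 ζ hU p hζp]
    rfl
  have hx1 : x ≠ 1 := by
    intro h
    rw [hx, QuotientGroup.eq_one_iff] at h
    obtain ⟨m, hm⟩ := center_scalar D hn _ h
    have hm' : Matrix.diagonal (dzFun i₀ i₁ ζ) = m • (1 : Matrix (Fin n) (Fin n) F) := hm
    have e0 := congrFun (congrFun hm' i₀) i₀
    have e2 := congrFun (congrFun hm' i₂) i₂
    rw [Matrix.diagonal_apply_eq, Matrix.smul_apply, Matrix.one_apply_eq, smul_eq_mul, mul_one]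
      at e0 e2
    unfold dzFun at e0 e2
    rw [if_pos rfl] at e0
    rw [if_neg h20, if_neg h21] at e2
    apply hζ1
    apply Units.ext
    rw [Units.val_one, e0, ← e2]
  have hord : orderOf x = p := orderOf_eq_prime hx2 hx1
  have := orderOf_dvd_natCard x
  rwa [hord] at this

include D in
/-- a prime dividing `|GU_n(q)|` divides `|PSU_n(q)|` -/
theorem dvd_card_PSU_of_dvd_card_GU [Fintype F] (hF : Fintype.card F = q ^ 2) (hn : 3 ≤ n)
    {p : ℕ} (hp : p.Prime) (h : p ∣ Nat.card ↥(Cfsg.GU n F q)) :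
    p ∣ Nat.card (Cfsg.PSU n F q) := by
  haveI : Fact p.Prime := ⟨hp⟩
  rw [Cfsg.Agent.S0277.result hF n, ← Cfsg.Agent.S0280.result hF n (by omega)] at h
  have key : p ∣ q + 1 → p ∣ Nat.card (Cfsg.PSU n F q) := by
    intro h1
    rw [← card_U1 hF] at h1
    obtain ⟨ζ, hζ⟩ := exists_prime_orderOf_dvd_card' (G := ↥(U1 F q)) p h1
    have hζ' : orderOf (ζ : Fˣ) = p := by rw [Subgroup.orderOf_coe, hζ]
    exact dvd_card_PSU_of_unit D hn hp ζ.1 hζ' ((mem_U1_iff' D ζ.1).1 ζ.2)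
  rcases (Nat.Prime.dvd_mul hp).1 h with h1 | h1
  · exact key (h1.trans (Nat.gcd_dvd_right _ _))
  · rcases (Nat.Prime.dvd_mul hp).1 h1 with h2 | h2
    · exact key h2
    · exact h2

end Cfsg.Agent.Helper7.LBalU
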