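import Mathlib
import Cfsg.Agent.Helper7.LBalU3
import Cfsg.Agent.Helper2.SU.Simple

set_option autoImplicit false
set_option linter.unusedSectionVars false
set_option linter.unusedSimpArgs false

/-! `PSU₃(2)` has no nontrivial normal subgroup of order prime to `3`. -/

namespace Cfsg.Agent.Helper7.LBalU

open Matrix Module Cfsg.Agent.S2644 Cfsg.Agent.Helper28 Cfsg.Agent.Helper2.SUGen
open Cfsg.Agent.Helper7.LBal (NNP)

/-- the product of two "hyperbolic" transvections has order three in characteristic two -/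
theorem cube_one_ring {R : Type*} [Ring R] (h2 : (2 : R) = 0) (a b : R) (ha : a * a = 0)
    (hb : b * b = 0) (haba : a * b * a = a) (hbab : b * a * b = b) :
    ((1 + a) * (1 + b)) ^ 3 = 1 := by
  have ha' : ∀ c, a * (a * c) = 0 := fun c => by rw [← mul_assoc, ha, zero_mul]
  have hb' : ∀ c, b * (b * c) = 0 := fun c => by rw [← mul_assoc, hb, zero_mul]
  have haba1 : a * (b * a) = a := by rw [← mul_assoc, haba]
  have hbab1 : b * (a * b) = b := by rw [← mul_assoc, hbab]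
  have haba' : ∀ c, a * (b * (a * c)) = a * c := fun c => by rw [← mul_assoc, ← mul_assoc, haba]
  have hbab' : ∀ c, b * (a * (b * c)) = b * c := fun c => by rw [← mul_assoc, ← mul_assoc, hbab]
  have h2' : ∀ y : R, y + y = 0 := fun y => by rw [← two_mul, h2, zero_mul]
  have hx2 : ((1 + a) * (1 + b)) * ((1 + a) * (1 + b)) = 1 + a + b + b * a := by
    simp only [mul_add, add_mul, mul_one, one_mul, mul_assoc, ha, hb, ha', hb', haba1, hbab1, haba',
      hbab', add_zero, zero_add, mul_zero, zero_mul]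
    have e : ∀ x y z w : R, x = y + (z + z) + (w + w) → x = y := by
      intro x y z w h
      rw [h, h2', h2', add_zero, add_zero]
    apply e _ _ (a + b + a * b) (a * b)
    abel
  rw [pow_succ, pow_two, hx2]
  simp only [mul_add, add_mul, mul_one, one_mul, mul_assoc, ha, hb, ha', hb', haba1, hbab1, haba',
    hbab', add_zero, zero_add, mul_zero, zero_mul]
  have e : ∀ x y z : R, x = y + (z + z) → x = y := by
    intro x y z h
    rw [h, h2', add_zero]
  apply e _ _ (a + b + b + a * b + b * a)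
  abel

variable {K : Type*} [Field K] {q n : ℕ}

local notation "h" => Cfsg.hermForm n K q
local notation "T" => Cfsg.unitaryTransvection n q
local notation "tm" => Cfsg.Agent.S2644.toM K n q

variable (D : Frob K q)

include D in
/-- every transvection is conjugate under a non-central normal subgroup to an element of a fixed
root group -/
theorem exists_conj_Te {N : Subgroup ↥(Cfsg.SU n K q)} [hN : N.Normal]
    {n₀ : ↥(Cfsg.SU n K q)} (hn₀ : n₀ ∈ N) {v₀ : Fin n → K} (hv₀ : v₀ ≠ 0) (hvv : h v₀ v₀ = 0)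
    (hmove : ∀ a : K, tm n₀ *ᵥ v₀ ≠ a • v₀)
    (A : ↥(Cfsg.SU n K q)) (v : Fin n → K) (c : K) (hv0 : v ≠ 0) (hv : h v v = 0)
    (hA : tm A = T v c) :
    ∃ k ∈ N, ∃ B ∈ Te D v₀ hvv, A = k * B * k⁻¹ := by
  have hrel := rel_of_moves D hn₀ hv₀ hvv hmove
  have hPT : Pres (q := q) (T v c) := by rw [← hA]; exact toM_pres A
  have hc : c ^ q = -c := Cfsg.Agent.S0781.skew_of_Pres D.σ D.pow D.invol v c hv0 hv hPT
  obtain ⟨k, hk, a, ha, hkv⟩ := hrel v₀ v hv₀ hv0 hvv hv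
  have hfixa : D.σ (a ^ (q + 1)) = a ^ (q + 1) := by
    rw [pow_succ, map_mul, ← D.pow, D.invol, mul_comm]
  have hapow : a ^ (q + 1) ≠ 0 := pow_ne_zero _ ha
  set c' := c / a ^ (q + 1) with hc'
  have hc's : D.σ c' = -c' := by
    rw [hc', map_div₀, hfixa, D.pow, hc]; ring
  have hc'q : c' ^ q = -c' := by rw [← D.pow]; exact hc's
  set B := mkSU (T v₀ c') (Cfsg.Agent.S0781.det_T v₀ c' hvv)
    (Cfsg.Agent.S0781.Pres_T D.σ D.pow D.invol v₀ c' hvv hc'q) with hB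
  have hBmem : B ∈ Te D v₀ hvv := ⟨c', hc's, rfl⟩
  refine ⟨k, hk, B, hBmem, ?_⟩
  apply toM_injective
  have h1 : tm k * tm k⁻¹ = 1 := by rw [← map_mul, mul_inv_cancel, map_one]
  rw [map_mul, map_mul, hA, hB, toM_mkSU, T_conj (tm k) (toM_pres k), hkv, T_smul,
    Matrix.mul_assoc, h1, Matrix.mul_one, hc', div_mul_cancel₀ _ hapow]

theorem vmv_sq_zero (u : Fin n → K) (huu : h u u = 0) :
    vecMulVec u (cj (q := q) u) * vecMulVec u (cj (q := q) u) = 0 := by
  apply mat_ext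
  intro z
  rw [← Matrix.mulVec_mulVec, vmv_mulVec, vmv_mulVec, h_smul_left, huu, mul_zero, zero_smul,
    Matrix.zero_mulVec]

theorem vmv_aba (u v : Fin n → K) (huv : h u v = 1) (hvu : h v u = 1) :
    vecMulVec u (cj (q := q) u) * vecMulVec v (cj (q := q) v) * vecMulVec u (cj (q := q) u)
      = vecMulVec u (cj (q := q) u) := by
  apply mat_ext
  intro z
  rw [← Matrix.mulVec_mulVec, ← Matrix.mulVec_mulVec, vmv_mulVec, vmv_mulVec, vmv_mulVec,
    h_smul_left, h_smul_left, huv, hvu, mul_one, mul_one]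

/-- the product of two hyperbolic transvections has order dividing three, characteristic two -/
theorem T_mul_T_cube (h2 : (2 : K) = 0) (u v : Fin n → K) (huu : h u u = 0) (hvv : h v v = 0)
    (huv : h u v = 1) (hvu : h v u = 1) : (T u 1 * T v 1) ^ 3 = 1 := by
  have e1 : T u (1 : K) = 1 + vecMulVec u (cj (q := q) u) := by
    unfold Cfsg.unitaryTransvection
    rw [one_smul]
    rfl
  have e2 : T v (1 : K) = 1 + vecMulVec v (cj (q := q) v) := by
    unfold Cfsg.unitaryTransvection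
    rw [one_smul]
    rfl
  rw [e1, e2]
  apply cube_one_ring _ _ _ (vmv_sq_zero u huu) (vmv_sq_zero v hvv) (vmv_aba u v huv hvu)
    (vmv_aba v u hvu huv)
  have : (2 : Matrix (Fin n) (Fin n) K) = ((2 : K) • (1 : Matrix (Fin n) (Fin n) K)) := by
    rw [two_smul, one_add_one_eq_two]
  rw [this, h2, zero_smul]

/-- **`PSU₃(2)` has no nontrivial normal subgroup of order prime to `3`** -/
theorem NNP_three_PSU32 {F : Type*} [Field F] [Fintype F] (hF : Fintype.card F = 2 ^ 2) :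
    NNP 3 (Cfsg.PSU 3 F 2) := by
  classical
  obtain ⟨σ, hσ, hσ2⟩ := Cfsg.Agent.Helper28.exists_frob hF
  have hσid := Cfsg.Agent.S0837.frob_ne_id hF σ hσ
  let D : Frob F 2 := ⟨σ, hσ, hσ2, hσid⟩
  haveI : Fact (Nat.Prime 2) := ⟨Nat.prime_two⟩
  haveI : Fact (Nat.Prime 3) := ⟨Nat.prime_three⟩
  haveI : CharP F 2 := charP_of_card_eq_prime_pow hF
  have h2 : (2 : F) = 0 := by
    have := CharP.cast_eq_zero F 2
    exact_mod_cast this
  have hadd : ∀ c : F, c + c = 0 := fun c => by rw [← two_mul, h2, zero_mul]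
  intro M hM hcop
  by_contra hne
  set M' : Subgroup ↥(Cfsg.SU 3 F 2) :=
    M.comap (QuotientGroup.mk' (Subgroup.center ↥(Cfsg.SU 3 F 2))) with hM'
  haveI hM'n : M'.Normal := hM.comap _
  have hnc : ¬ M' ≤ Subgroup.center ↥(Cfsg.SU 3 F 2) := by
    intro hle
    apply hne
    rw [eq_bot_iff]
    intro m hm
    obtain ⟨s, rfl⟩ := QuotientGroup.mk_surjective m
    rw [Subgroup.mem_bot, QuotientGroup.eq_one_iff]
    exact hle hm
  obtain ⟨n₀, hn₀, hn₀Z⟩ := SetLike.not_le_iff_exists.mp hnc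
  obtain ⟨v₀, hv₀, hvv, hmove⟩ : ∃ v : Fin 3 → F, v ≠ 0 ∧ Cfsg.hermForm 3 F 2 v v = 0 ∧
      ∀ a : F, Cfsg.Agent.S2644.toM F 3 2 n₀ *ᵥ v ≠ a • v := by
    by_contra hcon
    push Not at hcon
    exact hn₀Z (mem_center_of_fix D (by norm_num) hcon)
  have hfr : 2 ≤ finrank F (⊤ : Submodule F (Fin 3 → F)) := by
    rw [finrank_top, Module.finrank_fin_fun]; norm_num
  obtain ⟨u, -, v, -, hu0, huu, hvv', huv, hvu⟩ := exists_hyp_pair D (nonDeg_top D) hfr
  have hv0 : v ≠ 0 := by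
    rintro rfl
    rw [h_zero_right D] at huv
    exact zero_ne_one huv
  have h1s : (1 : F) ^ 2 = -1 := by
    rw [one_pow]
    have := hadd 1
    exact eq_neg_of_add_eq_zero_left this
  set A₁ := mkSU (Cfsg.unitaryTransvection 3 2 u (1 : F)) (Cfsg.Agent.S0781.det_T u 1 huu)
    (Cfsg.Agent.S0781.Pres_T σ hσ hσ2 u 1 huu h1s) with hA₁
  set A₂ := mkSU (Cfsg.unitaryTransvection 3 2 v (1 : F)) (Cfsg.Agent.S0781.det_T v 1 hvv')
    (Cfsg.Agent.S0781.Pres_T σ hσ hσ2 v 1 hvv' h1s) with hA₂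
  obtain ⟨k₁, hk₁, B₁, hB₁, e₁⟩ := exists_conj_Te D hn₀ hv₀ hvv hmove A₁ u 1 hu0 huu rfl
  obtain ⟨k₂, hk₂, B₂, hB₂, e₂⟩ := exists_conj_Te D hn₀ hv₀ hvv hmove A₂ v 1 hv0 hvv' rfl
  obtain ⟨c₁, hc₁, hB₁'⟩ := hB₁
  obtain ⟨c₂, hc₂, hB₂'⟩ := hB₂
  have hBB : ∀ (B : ↥(Cfsg.SU 3 F 2)) (c : F),
      Cfsg.Agent.S2644.toM F 3 2 B = Cfsg.unitaryTransvection 3 2 v₀ c → B * B = 1 := by
    intro B c hB
    apply toM_injective
    rw [map_mul, hB, Cfsg.Agent.S0781.T_mul σ hσ v₀ c c hvv, hadd, Cfsg.Agent.S0781.T_zero_coeff,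
      map_one]
  have hcomm : B₁ * B₂ = B₂ * B₁ := by
    apply toM_injective
    rw [map_mul, map_mul, hB₁', hB₂', Cfsg.Agent.S0781.T_mul σ hσ v₀ c₁ c₂ hvv,
      Cfsg.Agent.S0781.T_mul σ hσ v₀ c₂ c₁ hvv, add_comm]
  set x : Cfsg.PSU 3 F 2 := QuotientGroup.mk (A₁ * A₂) with hx
  have hx3 : x ^ 3 = 1 := by
    rw [hx, ← QuotientGroup.mk_pow]
    have : (A₁ * A₂) ^ 3 = 1 := by
      apply toM_injective
      rw [map_pow, map_mul, hA₁, hA₂, toM_mkSU, toM_mkSU, map_one]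
      exact T_mul_T_cube h2 u v huu hvv' huv hvu
    rw [this]
    rfl
  have hx2 : x ^ 2 ∈ M := by
    have hk₁' : (QuotientGroup.mk k₁ : Cfsg.PSU 3 F 2) ∈ M := hk₁
    have hk₂' : (QuotientGroup.mk k₂ : Cfsg.PSU 3 F 2) ∈ M := hk₂
    rw [← QuotientGroup.eq_one_iff (N := M), hx, e₁, e₂]
    simp only [QuotientGroup.mk_pow, QuotientGroup.mk_mul, QuotientGroup.mk_inv,
      (QuotientGroup.eq_one_iff _).2 hk₁', (QuotientGroup.eq_one_iff _).2 hk₂', one_mul, mul_one,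
      inv_one]
    have : B₁ * B₂ * (B₁ * B₂) = 1 := by
      calc B₁ * B₂ * (B₁ * B₂) = B₁ * (B₂ * B₁) * B₂ := by group
        _ = B₁ * (B₁ * B₂) * B₂ := by rw [hcomm]
        _ = (B₁ * B₁) * (B₂ * B₂) := by group
        _ = 1 := by rw [hBB B₁ c₁ hB₁', hBB B₂ c₂ hB₂', one_mul]
    have e : ((QuotientGroup.mk (QuotientGroup.mk B₁ : Cfsg.PSU 3 F 2) : Cfsg.PSU 3 F 2 ⧸ M)
        * QuotientGroup.mk (QuotientGroup.mk B₂ : Cfsg.PSU 3 F 2)) ^ 2
        = QuotientGroup.mk (QuotientGroup.mk (B₁ * B₂ * (B₁ * B₂)) : Cfsg.PSU 3 F 2) := by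
      rw [pow_two]
      rfl
    rw [e, this]
    rfl
  have hxM : x ∈ M := by
    have : x = x ^ 3 * (x ^ 2)⁻¹ := by group
    rw [this, hx3, one_mul]
    exact M.inv_mem hx2
  have hx1 : x ≠ 1 := by
    intro h1
    rw [hx, QuotientGroup.eq_one_iff] at h1
    obtain ⟨m, hm⟩ := Cfsg.Agent.Helper7.AutPSU.center_tm hF (by norm_num) h1
    have h3 := congrArg (fun N : Matrix (Fin 3) (Fin 3) F => N *ᵥ u) hm
    beta_reduce at h3
    rw [map_mul, hA₁, hA₂, toM_mkSU, toM_mkSU, ← Matrix.mulVec_mulVec, T_mulVec, T_mulVec, huv,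
      Matrix.smul_mulVec, Matrix.one_mulVec] at h3
    have h4 := congrArg (fun w : Fin 3 → F => Cfsg.hermForm 3 F 2 w u) h3
    beta_reduce at h4
    simp only [h_add_left, h_smul_left, huu, hvu, huv, mul_one, mul_zero, zero_add, add_zero]
      at h4
    exact one_ne_zero h4
  have hord : orderOf x = 3 := orderOf_eq_prime hx3 hx1
  have hdvd : 3 ∣ Nat.card ↥M := by
    have h5 : orderOf (⟨x, hxM⟩ : ↥M) = 3 := by
      rw [← Subgroup.orderOf_coe]
      exact hord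
    have h6 := orderOf_dvd_natCard (⟨x, hxM⟩ : ↥M)
    rwa [h5] at h6
  have := Nat.Coprime.eq_one_of_dvd hcop.symm hdvd
  norm_num at this

/-- **`PSU_n(q)` has no nontrivial normal `p'`-subgroup** when `p ≠ char` divides `|GU_n(q)|` -/
theorem NNP_PSU_of_dvd {F : Type*} [Field F] [Fintype F] {q n : ℕ}
    (U : Cfsg.Agent.Helper7.GraphPSU.UData F q) {r : ℕ} [Fact r.Prime]
    [hch : CharP F r] (hF : Fintype.card F = q ^ 2) (hn : 3 ≤ n) {p : ℕ} (hp : p.Prime)
    (hpr : p ≠ r) (hdvd : p ∣ Nat.card ↥(Cfsg.GU n F q)) : NNP p (Cfsg.PSU n F q) := by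
  by_cases h32 : n = 3 ∧ q = 2
  · obtain ⟨rfl, rfl⟩ := h32
    haveI : Fact (Nat.Prime 2) := ⟨Nat.prime_two⟩
    haveI hch2 : CharP F 2 := charP_of_card_eq_prime_pow hF
    have hr2 : r = 2 := CharP.eq F hch hch2
    rw [Cfsg.Agent.S0277.result hF 3] at hdvd
    have h648 : p ∣ 2 ^ 3 * 3 ^ 4 := by
      simpa [Finset.prod_range_succ] using hdvd
    have hp3 : p = 3 := by
      rcases (Nat.Prime.dvd_mul hp).1 h648 with h7 | h7
      · exact absurd ((Nat.prime_dvd_prime_iff_eq hp Nat.prime_two).1 (hp.dvd_of_dvd_pow h7))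
          (by rw [← hr2]; exact hpr)
      · exact (Nat.prime_dvd_prime_iff_eq hp Nat.prime_three).1 (hp.dvd_of_dvd_pow h7)
    rw [hp3]
    exact NNP_three_PSU32 hF
  · haveI := Cfsg.Agent.S0283.result hF n hn h32
    haveI : Finite (Cfsg.PSU n F q) := inferInstance
    exact Cfsg.Agent.Helper7.LBal.NNP_of_simple hp (dvd_card_PSU_of_dvd_card_GU U hF hn hp hdvd)

end Cfsg.Agent.Helper7.LBalU
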