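import Mathlib
import Cfsg.Agent.Helper7.LBalU4

set_option autoImplicit false
set_option linter.unusedSectionVars false
set_option linter.unusedSimpArgs false

/-! A graph-type involution of `PSU_n(q)` cannot centralize the subfield subgroup `PSU_n(q₀)`. -/

namespace Cfsg.Agent.Helper7.LBalU

open Matrix
open Cfsg.Agent.Helper7.GraphPSU (UData HS cU phiU suMat toFrob tSU suMat_tSU T_map hermForm_map
  hermForm_two)
open Cfsg.Agent.Helper2.SUGen (h_add_left h_smul_left h_add_right h_smul_right h_conj h_symm_ne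
  h_symm_zero h_nondeg T_mulVec cj vmv_mulVec h_zero_left h_zero_right)

variable {F : Type*} [Field F] {n q : ℕ} (D : UData F q)

local notation "h" => Cfsg.hermForm n F q
local notation "T" => Cfsg.unitaryTransvection n q

/-- the entrywise conjugate of a vector -/
def vbar (v : Fin n → F) : Fin n → F := fun i => D.bar (v i)

theorem vbar_add (v w : Fin n → F) : vbar D (v + w) = vbar D v + vbar D w := by
  ext i
  simp [vbar]

theorem vbar_smul (c : F) (v : Fin n → F) : vbar D (c • v) = D.bar c • vbar D v := by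
  ext i
  simp [vbar]

theorem vbar_ne_zero {v : Fin n → F} (hv : v ≠ 0) : vbar D v ≠ 0 := by
  intro h0
  apply hv
  ext i
  have := congrFun h0 i
  simp only [vbar, Pi.zero_apply] at this
  rw [← D.bar_bar (v i), this, map_zero]
  rfl

theorem hR (c : F) (x y : Fin n → F) : h x (c • y) = D.bar c * h x y :=
  h_smul_right (toFrob D) c x y

theorem hC (x y : Fin n → F) : D.bar (h y x) = h x y := h_conj (toFrob D) x y

theorem T_eq (v : Fin n → F) (c : F) : T v c = 1 + c • vecMulVec v (cj (q := q) v) := rfl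

/-- **Lemma A**: the semilinear map attached to a graph-type automorphism fixing the class of a
transvection has the centre of the transvection as an eigenvector -/
theorem eigen_of_fix (g : Matrix (Fin n) (Fin n) F) (e : Fin n → F) (he0 : e ≠ 0)
    (t : F) (ht0 : t ≠ 0) (ht : t + D.bar t = 0)
    (hfix : T e t * g = g * (T e t).map D.bar) :
    ∃ c : F, g *ᵥ vbar D e = c • e := by
  rw [T_map D.bar e t] at hfix
  have hbt : D.bar t = -t := eq_neg_of_add_eq_zero_right ht
  rw [hbt, T_eq, T_eq, Matrix.add_mul, Matrix.mul_add, Matrix.one_mul, Matrix.mul_one] at hfix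
  have h1 := add_left_cancel hfix
  -- a vector `z` with `h z ē ≠ 0`
  obtain ⟨z, hz⟩ : ∃ z, h z (vbar D e) ≠ 0 := by
    by_contra hcon
    push Not at hcon
    apply vbar_ne_zero D he0
    apply h_nondeg (toFrob D)
    intro y
    exact h_symm_zero (toFrob D) (hcon y)
  have h2 := congrArg (fun M : Matrix (Fin n) (Fin n) F => M *ᵥ z) h1
  beta_reduce at h2
  rw [Matrix.smul_mul, Matrix.mul_smul, Matrix.smul_mulVec, Matrix.smul_mulVec,
    ← Matrix.mulVec_mulVec, ← Matrix.mulVec_mulVec, vmv_mulVec] at h2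
  have h3 : vecMulVec (fun i => D.bar (e i)) (cj (q := q) (fun i => D.bar (e i))) *ᵥ z
      = h z (vbar D e) • vbar D e := vmv_mulVec _ _ z
  rw [h3, Matrix.mulVec_smul] at h2
  refine ⟨-(h (g *ᵥ z) e / h z (vbar D e)), ?_⟩
  have h4 : h z (vbar D e) • (g *ᵥ vbar D e) = -(h (g *ᵥ z) e • e) := by
    apply smul_right_injective (Fin n → F) ht0
    show t • (h z (vbar D e) • (g *ᵥ vbar D e)) = t • -(h (g *ᵥ z) e • e)
    rw [smul_neg, h2, neg_smul, neg_neg]
  have h6 := congrArg (fun w : Fin n → F => (h z (vbar D e))⁻¹ • w) h4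
  beta_reduce at h6
  rw [smul_smul, inv_mul_cancel₀ hz, one_smul] at h6
  rw [h6, smul_neg, smul_smul, neg_smul, div_eq_inv_mul]

theorem herm_mem (L : Subfield F) (hL : ∀ a ∈ L, D.bar a ∈ L) (x y : Fin n → F)
    (hxL : ∀ i, x i ∈ L) (hyL : ∀ i, y i ∈ L) : h x y ∈ L := by
  unfold Cfsg.hermForm
  apply Subfield.sum_mem
  intro i _
  rw [← D.bar_apply]
  exact L.mul_mem (hxL i) (hL _ (hyL i))

/-- **the pair lemma** -/
theorem pair_rel (L : Subfield F) (hL : ∀ a ∈ L, D.bar a ∈ L)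
    (g : Matrix (Fin n) (Fin n) F)
    (hE : ∀ e : Fin n → F, (∀ i, e i ∈ L) → e ≠ 0 → h e e = 0 → ∃ c : F, g *ᵥ vbar D e = c • e)
    (s : F) (hsL : s ∈ L) (hs0 : s ≠ 0) (hs : s + D.bar s = 0)
    (x y : Fin n → F) (hxL : ∀ i, x i ∈ L) (hyL : ∀ i, y i ∈ L) (hxx : h x x = 0)
    (hyy : h y y = 0) (hxy : h x y ≠ 0)
    (cx cy : F) (hcx : g *ᵥ vbar D x = cx • x) (hcy : g *ᵥ vbar D y = cy • y) :
    cy * D.bar (h x y) = -(cx * h x y) := by
  set η := h x y with hη
  have hηL : η ∈ L := herm_mem D L hL x y hxL hyL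
  have hyx : h y x = D.bar η := by
    rw [hη]
    exact (hC D y x).symm
  have hbη : D.bar η ≠ 0 := by
    intro h0
    apply hxy
    rw [← D.bar_bar η, h0, map_zero]
  have hbs : D.bar s = -s := eq_neg_of_add_eq_zero_right hs
  set θ := -s / D.bar η with hθ
  have hθL : θ ∈ L := L.div_mem (L.neg_mem hsL) (hL _ hηL)
  have hbθ : D.bar θ = s / η := by
    rw [hθ, map_div₀, map_neg, hbs, neg_neg, D.bar_bar]
  have hθη : θ * D.bar η = -s := by rw [hθ, div_mul_cancel₀ _ hbη]
  set w := x + θ • y with hw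
  have hwL : ∀ i, w i ∈ L := by
    intro i
    rw [hw, Pi.add_apply, Pi.smul_apply, smul_eq_mul]
    exact L.add_mem (hxL i) (L.mul_mem hθL (hyL i))
  have hwy : h w y = η := by
    rw [hw, h_add_left, h_smul_left, hyy, mul_zero, add_zero]
  have hwx : h w x = θ * D.bar η := by
    rw [hw, h_add_left, h_smul_left, hxx, zero_add, hyx]
  have hw0 : w ≠ 0 := by
    intro h0
    apply hxy
    rw [← hwy, h0, h_zero_left]
  have hww : h w w = 0 := by
    have e1 : h w w = h w x + D.bar θ * h w y := by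
      conv_lhs => rw [hw]
      rw [h_add_right (toFrob D), hR]
    rw [e1, hwx, hwy, hbθ, hθη, div_mul_cancel₀ _ hxy, neg_add_cancel]
  obtain ⟨cw, hcw⟩ := hE w hwL hw0 hww
  have h1 : g *ᵥ vbar D w = cx • x + (D.bar θ * cy) • y := by
    rw [hw, vbar_add, vbar_smul, Matrix.mulVec_add, Matrix.mulVec_smul, hcx, hcy, smul_smul]
  rw [h1] at hcw
  have e1 := congrArg (fun v : Fin n → F => h v y) hcw
  have e2 := congrArg (fun v : Fin n → F => h v x) hcw
  beta_reduce at e1 e2
  rw [h_add_left, h_smul_left, h_smul_left, hyy, mul_zero, add_zero, h_smul_left, hwy] at e1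
  rw [h_add_left, h_smul_left, h_smul_left, hxx, mul_zero, zero_add, h_smul_left, hwx, hyx] at e2
  have hcxw : cx = cw := mul_right_cancel₀ hxy e1
  rw [← hcxw, hbθ, hθη] at e2
  have e3 : s / η * cy * D.bar η * η = s * cy * D.bar η := by
    field_simp
  have e4 : s * (cy * D.bar η) = s * (-(cx * η)) := by
    calc s * (cy * D.bar η) = s / η * cy * D.bar η * η := by rw [e3]; ring
      _ = cx * -s * η := by rw [e2]
      _ = s * (-(cx * η)) := by ring
  exact mul_left_cancel₀ hs0 e4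

include D in
theorem h_single_single (i j : Fin n) :
    h (Pi.single i (1 : F)) (Pi.single j 1) = if i = j then 1 else 0 := by
  classical
  rw [Cfsg.Agent.Helper7.GraphPSU.herm_single_left, Pi.single_apply]
  have hq : q ≠ 0 := Cfsg.Agent.Helper7.GraphPSU.q_ne_zero D
  by_cases hij : i = j
  · rw [if_pos hij, one_pow]
  · rw [if_neg hij, zero_pow hq]

/-- the hermitian form on two vectors supported on two coordinates each -/
theorem h_two_two (i j k l : Fin n) (a b : F) :
    h (Pi.single i (1 : F) + a • Pi.single j 1) (Pi.single k 1 + b • Pi.single l 1)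
      = (if i = k then 1 else 0) + D.bar b * (if i = l then 1 else 0)
        + a * ((if j = k then 1 else 0) + D.bar b * (if j = l then 1 else 0)) := by
  rw [h_add_left, h_smul_left, h_add_right (toFrob D), h_add_right (toFrob D), hR D, hR D,
    h_single_single D, h_single_single D, h_single_single D, h_single_single D]

theorem two_mem (L : Subfield F) (i j : Fin n) (a : F) (ha : a ∈ L) :
    ∀ l, (Pi.single i (1 : F) + a • Pi.single j 1 : Fin n → F) l ∈ L := by
  classical
  intro l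
  rw [Pi.add_apply, Pi.smul_apply, smul_eq_mul, Pi.single_apply, Pi.single_apply]
  apply L.add_mem
  · split_ifs
    · exact L.one_mem
    · exact L.zero_mem
  · apply L.mul_mem ha
    split_ifs
    · exact L.one_mem
    · exact L.zero_mem

theorem two_ne_zero' {i j : Fin n} (hij : i ≠ j) (a : F) :
    (Pi.single i (1 : F) + a • Pi.single j 1 : Fin n → F) ≠ 0 := by
  classical
  intro h0
  have := congrFun h0 i
  rw [Pi.add_apply, Pi.smul_apply, smul_eq_mul, Pi.single_eq_same, Pi.single_eq_of_ne hij,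
    mul_zero, add_zero, Pi.zero_apply] at this
  exact one_ne_zero this

/-- **no graph-type eigen system over a subfield on which `bar` acts non-trivially** -/
theorem no_graph_eigen (hn : 3 ≤ n) (L : Subfield F) (hL : ∀ a ∈ L, D.bar a ∈ L)
    (ζ ω s : F) (hζL : ζ ∈ L) (hωL : ω ∈ L) (hsL : s ∈ L) (hζ : ζ * D.bar ζ = -1)
    (hω : ω * D.bar ω = 1) (hω1 : ω ≠ 1) (hs0 : s ≠ 0) (hs : s + D.bar s = 0)
    (g : Matrix (Fin n) (Fin n) F) (hg : ∀ v, g *ᵥ v = 0 → v = 0)
    (hE : ∀ e : Fin n → F, (∀ i, e i ∈ L) → e ≠ 0 → h e e = 0 →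
      ∃ c : F, g *ᵥ vbar D e = c • e) : False := by
  classical
  set i₀ : Fin n := ⟨0, by omega⟩ with hi₀
  set i₁ : Fin n := ⟨1, by omega⟩ with hi₁
  set i₂ : Fin n := ⟨2, by omega⟩ with hi₂
  have h01 : i₀ ≠ i₁ := by rw [hi₀, hi₁]; intro hh; simp [Fin.ext_iff] at hh
  have h02 : i₀ ≠ i₂ := by rw [hi₀, hi₂]; intro hh; simp [Fin.ext_iff] at hh
  have h12 : i₁ ≠ i₂ := by rw [hi₁, hi₂]; intro hh; simp [Fin.ext_iff] at hh
  have hζω : (ζ * ω) * D.bar (ζ * ω) = -1 := by
    rw [map_mul]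
    calc ζ * ω * (D.bar ζ * D.bar ω) = (ζ * D.bar ζ) * (ω * D.bar ω) := by ring
      _ = -1 := by rw [hζ, hω, mul_one]
  set x : Fin n → F := Pi.single i₀ 1 + ζ • Pi.single i₁ 1 with hx
  set y : Fin n → F := Pi.single i₀ 1 + (ζ * ω) • Pi.single i₁ 1 with hy
  set z : Fin n → F := Pi.single i₂ 1 + ζ • Pi.single i₀ 1 with hz
  have hxx : h x x = 0 := hermForm_two D h01 ζ hζ
  have hyy : h y y = 0 := hermForm_two D h01 (ζ * ω) hζω
  have hzz : h z z = 0 := hermForm_two D h02.symm ζ hζ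
  have hxL : ∀ l, x l ∈ L := two_mem L i₀ i₁ ζ hζL
  have hyL : ∀ l, y l ∈ L := two_mem L i₀ i₁ (ζ * ω) (L.mul_mem hζL hωL)
  have hzL : ∀ l, z l ∈ L := two_mem L i₂ i₀ ζ hζL
  have hx0 : x ≠ 0 := two_ne_zero' h01 ζ
  have hy0 : y ≠ 0 := two_ne_zero' h01 (ζ * ω)
  have hz0 : z ≠ 0 := two_ne_zero' h02.symm ζ
  have hxy : h x y = 1 - D.bar ω := by
    rw [hx, hy, h_two_two D, if_pos rfl, if_neg h01, if_neg h01.symm, if_pos rfl, map_mul]
    linear_combination (D.bar ω) * hζ
  have hyz : h y z = D.bar ζ := by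
    rw [hy, hz, h_two_two D, if_neg h02, if_pos rfl, if_neg h12, if_neg h01.symm]
    ring
  have hzx : h z x = ζ := by
    rw [hz, hx, h_two_two D, if_neg h02.symm, if_neg h12.symm, if_pos rfl, if_neg h01]
    ring
  have hbω : D.bar ω ≠ 1 := by
    intro h1
    apply hω1
    rw [← D.bar_bar ω, h1, map_one]
  have hζ0 : ζ ≠ 0 := by
    rintro rfl
    rw [zero_mul] at hζ
    exact one_ne_zero (neg_eq_zero.mp hζ.symm)
  have hbζ0 : D.bar ζ ≠ 0 := by
    intro h0
    rw [h0, mul_zero] at hζ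
    exact one_ne_zero (neg_eq_zero.mp hζ.symm)
  obtain ⟨cx, hcx⟩ := hE x hxL hx0 hxx
  obtain ⟨cy, hcy⟩ := hE y hyL hy0 hyy
  obtain ⟨cz, hcz⟩ := hE z hzL hz0 hzz
  have hcx0 : cx ≠ 0 := by
    rintro rfl
    rw [zero_smul] at hcx
    exact vbar_ne_zero D hx0 (hg _ hcx)
  have r1 := pair_rel D L hL g hE s hsL hs0 hs x y hxL hyL hxx hyy
    (by rw [hxy]; exact sub_ne_zero.mpr (Ne.symm hbω)) cx cy hcx hcy
  have r2 := pair_rel D L hL g hE s hsL hs0 hs y z hyL hzL hyy hzz
    (by rw [hyz]; exact hbζ0) cy cz hcy hcz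
  have r3 := pair_rel D L hL g hE s hsL hs0 hs z x hzL hxL hzz hxx
    (by rw [hzx]; exact hζ0) cz cx hcz hcx
  rw [hxy, map_sub, map_one, D.bar_bar] at r1
  rw [hyz, D.bar_bar] at r2
  rw [hzx] at r3
  have hcxy : cx = cy := by
    apply mul_right_cancel₀ hbζ0
    rw [r3, r2, neg_neg]
  rw [← hcxy] at r1
  have h2 : ω + D.bar ω = 2 := by
    have : cx * (ω + D.bar ω) = cx * 2 := by linear_combination -r1
    exact mul_left_cancel₀ hcx0 this
  apply hω1
  have h3 : (ω - 1) ^ 2 = 0 := by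
    have hb : D.bar ω = 2 - ω := by linear_combination h2
    rw [hb] at hω
    linear_combination -hω
  exact sub_eq_zero.mp ((pow_eq_zero_iff two_ne_zero).mp h3)

end Cfsg.Agent.Helper7.LBalU
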