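import Mathlib
import Cfsg.Agent.Helper7.LBalU5
import Cfsg.Agent.S0781

set_option autoImplicit false
set_option linter.unusedSectionVars false
set_option linter.unusedSimpArgs false

/-! Transvections over the fixed field, and the hypothesis `hP2` in the field case. -/

namespace Cfsg.Agent.Helper7.LBalU

open Matrix
open Cfsg.Agent.Helper7.GraphPSU (UData HS cU phiU cU_mk phiU_mk conjSU phiSU suMat toFrob tSU
  suMat_tSU T_map hermForm_map hermForm_two suMat_phiSU suMat_injective suMat_mul suMat_one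
  exists_skew exists_norm' exists_norm_one_ne invol_unique)
open Cfsg.Agent.Helper2.SUGen (h_add_left h_smul_left h_add_right h_smul_right h_conj h_symm_ne
  h_symm_zero h_nondeg T_mulVec cj vmv_mulVec h_zero_left h_zero_right)

variable {F : Type*} [Field F] {n q : ℕ} (D : UData F q)

local notation "h" => Cfsg.hermForm n F q
local notation "T" => Cfsg.unitaryTransvection n q
local notation "KU" => Cfsg.PSU n F q

theorem isCyclic_ringAut_U [Finite F] : IsCyclic (F ≃+* F) := by
  have hp : (ringChar F).Prime := CharP.char_is_prime F (ringChar F)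
  have : Fact (ringChar F).Prime := ⟨hp⟩
  let _ : Algebra (ZMod (ringChar F)) F := ZMod.algebra F (ringChar F)
  let f : (F ≃ₐ[ZMod (ringChar F)] F) →* (F ≃+* F) :=
    { toFun := fun g => g.toRingEquiv, map_one' := rfl, map_mul' := fun _ _ => rfl }
  have hf : Function.Surjective f := fun σ =>
    ⟨AlgEquiv.ofRingEquiv (f := σ) (fun x => by
      have : (σ : F →+* F).comp (algebraMap (ZMod (ringChar F)) F) =
          algebraMap (ZMod (ringChar F)) F := Subsingleton.elim _ _
      exact RingHom.congr_fun this x), by ext x; rfl⟩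
  exact isCyclic_of_surjective f hf

theorem ringAut_comm_U [Finite F] (σ τ : F ≃+* F) : σ * τ = τ * σ := by
  have := isCyclic_ringAut_U (F := F)
  obtain ⟨g, hg⟩ := IsCyclic.exists_generator (α := F ≃+* F)
  obtain ⟨i, rfl⟩ := Subgroup.mem_zpowers_iff.1 (hg σ)
  obtain ⟨j, rfl⟩ := Subgroup.mem_zpowers_iff.1 (hg τ)
  rw [← _root_.zpow_add, ← _root_.zpow_add, add_comm]

theorem ringAut_comm_apply [Finite F] (σ τ : F ≃+* F) (x : F) : σ (τ x) = τ (σ x) := by
  have := ringAut_comm_U σ τ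
  exact DFunLike.congr_fun this x

theorem ringAut_pow_apply (σ : F ≃+* F) (k : ℕ) (x : F) : (σ ^ k) x = σ^[k] x := by
  induction k generalizing x with
  | zero => rfl
  | succ k ih =>
    rw [pow_succ, Function.iterate_succ_apply, ← ih]
    rfl

/-- fixed points of `σ ∘ bar` for `σ` of odd order are fixed by `σ` and by `bar` -/
theorem fix_mul_bar [Finite F] (σ : F ≃+* F) {p : ℕ} (hp : Odd p) (hσ : σ ^ p = 1) (a : F)
    (ha : σ (D.bar a) = a) : σ a = a ∧ D.bar a = a := by
  have h2 : σ (σ a) = a := by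
    calc σ (σ a) = σ (σ (D.bar (D.bar a))) := by rw [D.bar_bar]
      _ = σ (D.bar (σ (D.bar a))) := by rw [ringAut_comm_apply σ D.bar]
      _ = a := by rw [ha, ha]
  have hp1 : Function.IsPeriodicPt σ 2 a := h2
  have hp2 : Function.IsPeriodicPt σ p a := by
    show σ^[p] a = a
    rw [← ringAut_pow_apply, hσ]
    rfl
  have hp3 := hp1.gcd hp2
  have hg : Nat.gcd 2 p = 1 := (Nat.coprime_two_left.2 hp)
  rw [hg] at hp3
  have h1 : σ a = a := hp3
  refine ⟨h1, ?_⟩
  have := congrArg σ.symm ha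
  rw [RingEquiv.symm_apply_apply] at this
  rw [this]
  exact (RingEquiv.symm_apply_eq σ).2 h1.symm

include D in
theorem T_pow' (v : Fin n → F) (c : F) (hvv : h v v = 0) (k : ℕ) :
    T v c ^ k = T v ((k : F) * c) := by
  induction k with
  | zero => rw [pow_zero, Nat.cast_zero, zero_mul, Cfsg.Agent.S0781.T_zero_coeff]
  | succ k ih =>
    rw [pow_succ, ih, Cfsg.Agent.S0781.T_mul (D.bar : F →+* F) D.bar_apply v _ _ hvv]
    congr 1
    push_cast
    ring

theorem tSU_pow_char {r : ℕ} [CharP F r] (v : Fin n → F) (a : F) (hv : h v v = 0)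
    (ha : a + D.bar a = 0) : tSU D v a hv ha ^ r = 1 := by
  apply suMat_injective
  have hpow : ∀ (s : ↥(Cfsg.SU n F q)) (k : ℕ), suMat (s ^ k) = suMat s ^ k := by
    intro s k
    induction k with
    | zero => rfl
    | succ k ih => rw [pow_succ, pow_succ, suMat_mul, ih]
  rw [hpow, suMat_tSU, T_pow' D v a hv, CharP.cast_eq_zero, zero_mul,
    Cfsg.Agent.S0781.T_zero_coeff, suMat_one]

/-- an automorphism commuting with the inner automorphism of a transvection -/
theorem fix_T [Finite F] {r : ℕ} [Fact r.Prime] [CharP F r] (hn : 3 ≤ n)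
    (hZ : Subgroup.center KU = ⊥) (g : ↥(HS D n)) (τ : F ≃+* F) (e : Fin n → F) (t : F)
    (he : h e e = 0) (ht : t + D.bar t = 0)
    (hcomm : (cU D g * phiU D τ : MulAut KU) * MulAut.conj (QuotientGroup.mk (tSU D e t he ht))
      = MulAut.conj (QuotientGroup.mk (tSU D e t he ht)) * (cU D g * phiU D τ)) :
    T e t * ((g : GL (Fin n) F) : Matrix (Fin n) (Fin n) F)
      = ((g : GL (Fin n) F) : Matrix (Fin n) (Fin n) F) * (T e t).map τ := by
  have h1 := Cfsg.Agent.Helper28.FB.apply_eq_of_comm_conj hZ _ _ hcomm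
  have h2 := fix_unipotent_U D hn g τ _ (tSU_pow_char D e t he ht) h1
  rw [suMat_tSU] at h2
  exact h2

/-- transvections with fixed data give inner automorphisms commuting with `phiU σ` -/
theorem conj_tSU_mem (σ : F ≃+* F) (e : Fin n → F) (t : F) (he : h e e = 0)
    (ht : t + D.bar t = 0) (hσe : ∀ i, σ (e i) = e i) (hσt : σ t = t) :
    MulAut.conj (QuotientGroup.mk (tSU D e t he ht) : KU)
      ∈ Cfsg.Inn KU ⊓ Subgroup.centralizer {(phiU D σ : MulAut KU)} := by
  refine ⟨⟨_, rfl⟩, ?_⟩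
  show _ ∈ Subgroup.centralizer {(phiU D σ : MulAut KU)}
  rw [Subgroup.mem_centralizer_singleton_iff, Cfsg.Agent.Helper28.FB.aut_mul_conj, phiU_mk]
  congr 3
  apply suMat_injective
  rw [suMat_phiSU, suMat_tSU, T_map, hσt]
  congr 1
  funext i
  exact (hσe i).symm

theorem GL_mulVec_eq_zero (g : GL (Fin n) F) (v : Fin n → F)
    (hv : (g : Matrix (Fin n) (Fin n) F) *ᵥ v = 0) : v = 0 := by
  have := congrArg (fun w => ((g⁻¹ : GL (Fin n) F) : Matrix (Fin n) (Fin n) F) *ᵥ w) hv
  beta_reduce at this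
  rw [Matrix.mulVec_mulVec, ← Units.val_mul, inv_mul_cancel, Units.val_one, Matrix.one_mulVec,
    Matrix.mulVec_zero] at this
  exact this

section field

open Cfsg.Agent.Helper7.FieldPSU (UFD)

variable {F₀ : Type*} [Field F₀] {q₀ : ℕ} (R : UFD F F₀ q q₀)

/-- **the hypothesis `hP2` for the standard field automorphism of odd prime order** -/
theorem field_hP2 [Finite F] [Finite F₀] (hn : 3 ≤ n) (hZ : Subgroup.center KU = ⊥)
    {r : ℕ} [Fact r.Prime] [CharP F r] (p : ℕ) (hp : p.Prime) (hpodd : Odd p)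
    (hσ : R.E.σ ^ p = 1) (g : ↥(HS R.U n)) (τ : F ≃+* F) (l : ℕ) (hl : l.Prime) (hlp : l ≠ p)
    (hτl : τ ^ l = 1)
    (hcomm : ∀ y ∈ Cfsg.Inn KU ⊓ Subgroup.centralizer {(phiU R.U R.E.σ : MulAut KU)},
      (cU R.U g * phiU R.U τ : MulAut KU) * y = y * (cU R.U g * phiU R.U τ)) : τ = 1 := by
  classical
  set σ := R.E.σ with hσdef
  have hjinj : Function.Injective R.E.j := R.E.j.injective
  obtain ⟨ζ₀, hζ₀⟩ := exists_norm' R.U₀ (-1 : F₀) (by rw [map_neg, map_one])
  obtain ⟨s₀, hs₀0, hs₀⟩ := exists_skew R.U₀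
  obtain ⟨ω₀, hω₀1, hω₀⟩ := exists_norm_one_ne R.U₀
  set ζ := R.E.j ζ₀ with hζdef
  set s := R.E.j s₀ with hsdef
  set ω := R.E.j ω₀ with hωdef
  have hζ : ζ * R.U.bar ζ = -1 := by
    rw [hζdef, ← R.compat, ← map_mul, hζ₀, map_neg, map_one]
  have hs0 : s ≠ 0 := by
    rw [hsdef]
    intro h0
    apply hs₀0
    apply hjinj
    rw [h0, map_zero]
  have hs : s + R.U.bar s = 0 := by
    rw [hsdef, ← R.compat, ← map_add, hs₀, map_zero]
  have hω : ω * R.U.bar ω = 1 := by
    rw [hωdef, ← R.compat, ← map_mul, hω₀, map_one]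
  have hω1 : ω ≠ 1 := by
    rw [hωdef]
    intro h1
    apply hω₀1
    apply hjinj
    rw [h1, map_one]
  set L : Subfield F := R.E.j.fieldRange with hLdef
  have hL : ∀ a ∈ L, R.U.bar a ∈ L := by
    rintro _ ⟨a, rfl⟩
    exact ⟨R.U₀.bar a, R.compat a⟩
  have hσL : ∀ a ∈ L, σ a = a := by
    rintro _ ⟨a, rfl⟩
    exact R.E.fix_j a
  have hζL : ζ ∈ L := ⟨ζ₀, rfl⟩
  have hsL : s ∈ L := ⟨s₀, rfl⟩
  have hωL : ω ∈ L := ⟨ω₀, rfl⟩
  -- the transvections over the fixed field commute with the automorphism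
  have hfixT : ∀ (e : Fin n → F) (t : F) (he : h e e = 0) (ht : t + R.U.bar t = 0),
      (∀ i, σ (e i) = e i) → σ t = t →
      T e t * ((g : GL (Fin n) F) : Matrix (Fin n) (Fin n) F)
        = ((g : GL (Fin n) F) : Matrix (Fin n) (Fin n) F) * (T e t).map τ := by
    intro e t he ht hσe hσt
    exact fix_T R.U hn hZ g τ e t he ht (hcomm _ (conj_tSU_mem R.U σ e t he ht hσe hσt))
  -- step 1: `τ` fixes the common fixed field of `σ` and `bar`
  set i₀ : Fin n := ⟨0, by omega⟩ with hi₀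
  set i₁ : Fin n := ⟨1, by omega⟩ with hi₁
  have h01 : i₀ ≠ i₁ := by rw [hi₀, hi₁]; intro hh; simp [Fin.ext_iff] at hh
  set e : Fin n → F := Pi.single i₀ 1 + ζ • Pi.single i₁ 1 with he
  have hee : h e e = 0 := hermForm_two R.U h01 ζ hζ
  have heL : ∀ i, e i ∈ L := two_mem L i₀ i₁ ζ hζL
  have hskew : ∀ b : F, R.U.bar b = b → b * s + R.U.bar (b * s) = 0 := by
    intro b hb
    rw [map_mul, hb, ← mul_add, hs, mul_zero]
  set u : F → ↥(Cfsg.SU n F q) := fun b =>
    if hb : R.U.bar b = b then tSU R.U e (b * s) hee (hskew b hb) else 1 with hu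
  set A : Set F := {b | σ b = b ∧ R.U.bar b = b} with hA
  have hτA : ∀ a ∈ A, τ a = a := by
    apply tau_fix_U R.U hn g τ u (s • vecMulVec e (cj (q := q) e)) 0 ?_ A ?_ ?_ ?_ ?_ (Or.inr rfl) ?_
    · intro h0
      have := congrFun (congrFun h0 i₀) i₀
      rw [Matrix.smul_apply, Matrix.vecMulVec_apply, Matrix.zero_apply, smul_eq_mul] at this
      have hei : e i₀ = 1 := by
        rw [he, Pi.add_apply, Pi.smul_apply, Pi.single_eq_same, Pi.single_eq_of_ne h01,
          smul_zero, add_zero]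
      rw [cj, hei, one_pow, mul_one, mul_one] at this
      exact hs0 this
    · intro a ha
      rw [hu]
      beta_reduce
      rw [dif_pos ha.2, suMat_tSU, smul_zero, add_zero, T_eq, smul_smul]
    · intro a ha
      rw [hu]
      beta_reduce
      rw [dif_pos ha.2]
      exact tSU_pow_char R.U e _ hee _
    · exact ⟨map_one σ, map_one R.U.bar⟩
    · intro a ha
      exact ⟨by rw [map_neg, ha.1], by rw [map_neg, ha.2]⟩
    · intro a ha
      rw [hu]
      beta_reduce
      rw [dif_pos ha.2]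
      apply Cfsg.Agent.Helper28.FB.apply_eq_of_comm_conj hZ
      apply hcomm
      apply conj_tSU_mem R.U σ e _ hee _ (fun i => hσL _ (heL i))
      rw [map_mul, ha.1, hσL s hsL]
  -- step 2: `τ` is a power of `σ * bar`
  set ρ : F ≃+* F := σ * R.U.bar with hρ
  have hτρ : τ ∈ Subgroup.zpowers ρ := by
    apply Cfsg.Agent.Helper28.FB.mem_zpowers_of_fixes
    intro y hy
    exact hτA y (fix_mul_bar R.U σ hpodd hσ y hy)
  have hbar2 : (R.U.bar : F ≃+* F) ^ 2 = 1 := by
    ext x
    rw [pow_two]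
    exact R.U.bar_bar x
  have hρ2p : ρ ^ (2 * p) = 1 := by
    rw [hρ, (show Commute σ R.U.bar from ringAut_comm_U σ R.U.bar).mul_pow, mul_comm 2 p, pow_mul,
      hσ, one_pow, one_mul, mul_comm p 2, pow_mul, hbar2, one_pow]
  have hτ2p : τ ^ (2 * p) = 1 := by
    obtain ⟨k, rfl⟩ := Subgroup.mem_zpowers_iff.1 hτρ
    rw [← zpow_natCast, ← _root_.zpow_mul, mul_comm, _root_.zpow_mul, zpow_natCast, hρ2p,
      _root_.one_zpow]
  by_cases hl2 : l = 2
  · subst hl2
    by_contra hτ1
    have hτbar : τ = R.U.bar := by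
      apply invol_unique
      · intro x
        have := DFunLike.congr_fun hτl x
        rw [pow_two] at this
        exact this
      · exact R.U.bar_bar
      · exact hτ1
      · intro hb
        obtain ⟨t, ht⟩ := R.U.bar_ne
        apply ht
        rw [hb]
        rfl
    subst hτbar
    apply no_graph_eigen R.U hn L hL ζ ω s hζL hωL hsL hζ hω hω1 hs0 hs
      ((g : GL (Fin n) F) : Matrix (Fin n) (Fin n) F) (GL_mulVec_eq_zero _)
    intro e' he'L he'0 he'e'
    apply eigen_of_fix R.U _ e' he'0 s hs0 hs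
    exact hfixT e' s he'e' hs (fun i => hσL _ (he'L i)) (hσL s hsL)
  · have hcop : Nat.Coprime l (2 * p) := by
      rw [Nat.Prime.coprime_iff_not_dvd hl]
      intro hdvd
      rcases (Nat.Prime.dvd_mul hl).1 hdvd with h2 | h2
      · exact hl2 ((Nat.prime_dvd_prime_iff_eq hl Nat.prime_two).1 h2)
      · exact hlp ((Nat.prime_dvd_prime_iff_eq hl hp).1 h2)
    have h1 : orderOf τ ∣ Nat.gcd l (2 * p) :=
      Nat.dvd_gcd (orderOf_dvd_of_pow_eq_one hτl) (orderOf_dvd_of_pow_eq_one hτ2p)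
    rw [hcop.gcd_eq_one, Nat.dvd_one] at h1
    exact orderOf_eq_one_iff.1 h1

end field

end Cfsg.Agent.Helper7.LBalU
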