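import Mathlib
import Cfsg.Agent.Helper7.LBalU6

set_option autoImplicit false
set_option linter.unusedSectionVars false
set_option linter.unusedSimpArgs false

/-! The field automorphisms of odd prime order of `PSU_n(q)`: the `p'`-core of the centralizer. -/

namespace Cfsg.Agent.Helper7.LBalU

open Matrix
open Cfsg.Agent.Helper7.GraphPSU (UData HS cU phiU cU_mk phiU_mk conjSU phiSU suMat toFrob tSU
  suMat_tSU T_map hermForm_map hermForm_two suMat_phiSU suMat_injective suMat_mul suMat_one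
  exists_skew exists_norm' exists_norm_one_ne invol_unique center_scalar inndiagPSU_eq_range)
open Cfsg.Agent.Helper2.SUGen (h_add_left h_smul_left h_add_right h_smul_right h_conj h_symm_ne
  h_symm_zero h_nondeg T_mulVec cj vmv_mulVec h_zero_left h_zero_right)
open Cfsg.Agent.Helper7.FieldPSU (UFD psiUF range_psiUF ker_psiUF)
open Cfsg.Agent.Helper7.LBal (NNP NNP_range_of_ker_eq_center)

variable {F : Type*} [Field F] {n q : ℕ} (D : UData F q)

local notation "h" => Cfsg.hermForm n F q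
local notation "T" => Cfsg.unitaryTransvection n q
local notation "KU" => Cfsg.PSU n F q

theorem udata_eq (D D' : UData F q) : D = D' := by
  cases D with
  | mk b ba bb bn =>
    cases D' with
    | mk b' ba' bb' bn' =>
      have : b = b' := RingEquiv.ext (fun x => by rw [ba, ba'])
      subst this
      rfl

theorem center_PSU_bot [Fintype F] (hF : Fintype.card F = q ^ 2) (hn : 3 ≤ n) :
    Subgroup.center KU = ⊥ := by
  rw [eq_bot_iff]
  intro z hz
  rw [Subgroup.mem_bot]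
  apply Cfsg.Agent.Helper7.AutPSU.conj_injective hF hn
  rw [map_one]
  ext x
  rw [MulAut.conj_apply, MulAut.one_apply, (Subgroup.mem_center_iff.1 hz x).symm, mul_inv_cancel_right]

/-- a non-trivial transvection is not central -/
theorem mk_tSU_ne_one [Finite F] (hn : 3 ≤ n) (e : Fin n → F) (t : F) (he : h e e = 0)
    (ht : t + D.bar t = 0) (he0 : e ≠ 0) (ht0 : t ≠ 0) :
    (QuotientGroup.mk (tSU D e t he ht) : KU) ≠ 1 := by
  intro h1
  rw [QuotientGroup.eq_one_iff] at h1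
  obtain ⟨m, hm⟩ := center_scalar D hn _ h1
  rw [suMat_tSU] at hm
  have h2 : ∀ z : Fin n → F, z + (t * h z e) • e = m • z := by
    intro z
    have := congrArg (fun M : Matrix (Fin n) (Fin n) F => M *ᵥ z) hm
    beta_reduce at this
    rw [T_mulVec, Matrix.smul_mulVec, Matrix.one_mulVec] at this
    exact this
  have hm1 : m = 1 := by
    have h3 := h2 e
    rw [he, mul_zero, zero_smul, add_zero] at h3
    by_contra hne
    apply he0
    have h4 : (m - 1) • e = 0 := by rw [sub_smul, one_smul, ← h3, sub_self]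
    rcases smul_eq_zero.1 h4 with h5 | h5
    · exact absurd (sub_eq_zero.1 h5) hne
    · exact h5
  obtain ⟨z, hz⟩ : ∃ z, h z e ≠ 0 := by
    by_contra hcon
    push Not at hcon
    apply he0
    apply h_nondeg (toFrob D)
    intro y
    exact h_symm_zero (toFrob D) (hcon y)
  have h3 := h2 z
  rw [hm1, one_smul, add_eq_left] at h3
  rcases smul_eq_zero.1 h3 with h5 | h5
  · rcases mul_eq_zero.1 h5 with h6 | h6
    · exact ht0 h6
    · exact hz h6
  · exact he0 h5

section field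

variable {F₀ : Type*} [Field F₀] {q₀ : ℕ} (R : UFD F F₀ q q₀)

/-- **the standard field automorphism of odd prime order `p` with `p ∣ |C_K(φ)|`: the core is
trivial** -/
theorem field_std_core_bot_U [Fintype F] [Fintype F₀] {r : ℕ} [Fact r.Prime] [CharP F r]
    (hF : Fintype.card F = q ^ 2) (hF₀ : Fintype.card F₀ = q₀ ^ 2) (hn : 3 ≤ n)
    (h32 : ¬ (n = 3 ∧ q = 2))
    (𝒢 : Subgroup (MulAut KU)) (hinn : ∀ k : KU, MulAut.conj k ∈ 𝒢)
    (p : ℕ) [hp : Fact p.Prime] (hpr : p ≠ r) (hpodd : Odd p) (hσ : orderOf R.E.σ = p)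
    (hdvd : p ∣ Nat.card ↥(MonoidHom.eqLocus (phiU R.U R.E.σ : MulAut KU).toMonoidHom
      (MonoidHom.id KU))) :
    Cfsg.pPrimeCore p ↥(𝒢 ⊓ Subgroup.centralizer {(phiU R.U R.E.σ : MulAut KU)}) = ⊥ := by
  classical
  haveI : NeZero n := ⟨by omega⟩
  have hZ : Subgroup.center KU = ⊥ := center_PSU_bot hF hn
  have hσpos : 0 < orderOf R.E.σ := by rw [hσ]; exact hp.out.pos
  haveI : CharP F₀ r := (RingHom.charP_iff R.E.j R.E.j.injective r).2 inferInstance
  have hrange := range_psiUF (n := n) R hn hσpos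
  have hpGU : p ∣ Nat.card ↥(Cfsg.GU n F₀ q₀) := by
    rw [← Cfsg.Agent.Helper28.FB.card_inn_inf_centralizer hZ] at hdvd
    have h1 : Cfsg.Inn KU ⊓ Subgroup.centralizer {(phiU R.U R.E.σ : MulAut KU)}
        ≤ (psiUF R).range := by
      rw [hrange]
      exact inf_le_inf_right _ (inn_le_inndiagPSU R.U hn)
    exact (hdvd.trans (Subgroup.card_dvd_of_le h1)).trans (Subgroup.card_range_dvd _)
  refine core_bot_main_U R.U hF hn h32 𝒢 hinn _ p (psiSUF R).range ?hInn ?hC ?hnorm ?hb ?hc ?hP2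
  case hInn =>
    rintro _ ⟨s, rfl⟩
    rw [psiSUF_eq_conj]
    exact ⟨_, rfl⟩
  case hC =>
    rintro _ ⟨s, rfl⟩
    have : psiSUF R s ∈ (psiUF R).range := ⟨_, rfl⟩
    rw [hrange] at this
    exact this.2
  case hnorm =>
    rintro d hd _ ⟨s, rfl⟩
    rw [← hrange] at hd
    obtain ⟨k, rfl⟩ := hd
    rw [psiSUF_conj]
    exact ⟨_, rfl⟩
  case hb =>
    apply NNP_range_of_ker_eq_center (psiSUF R) (ker_psiSUF R hF₀ hn)
    exact NNP_PSU_of_dvd R.U₀ hF₀ hn hp.out hpr hpGU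
  case hc =>
    intro d hd hcomm
    rw [← hrange] at hd
    obtain ⟨k, rfl⟩ := hd
    exact psiUF_eq_one_of_commute R hF₀ hn k (fun s => hcomm _ ⟨s, rfl⟩)
  case hP2 =>
    intro g τ l hl hlp hτl hcomm
    exact field_hP2 R hn hZ p hp.out hpodd (by rw [← hσ]; exact pow_orderOf_eq_one _) g τ l hl
      hlp hτl hcomm

/-- **the standard field automorphism of odd prime order `p`: the criterion** -/
theorem field_std_core_iff_U [Fintype F] [Fintype F₀] {r : ℕ} [Fact r.Prime] [CharP F r]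
    (hF : Fintype.card F = q ^ 2) (hF₀ : Fintype.card F₀ = q₀ ^ 2) (hn : 3 ≤ n)
    (h32 : ¬ (n = 3 ∧ q = 2))
    (𝒢 : Subgroup (MulAut KU)) (hinn : ∀ k : KU, MulAut.conj k ∈ 𝒢)
    (p : ℕ) [hp : Fact p.Prime] (hpr : p ≠ r) (hpodd : Odd p) (hσ : orderOf R.E.σ = p) :
    Cfsg.pPrimeCore p ↥(𝒢 ⊓ Subgroup.centralizer {(phiU R.U R.E.σ : MulAut KU)}) ≠ ⊥ ↔
    Nat.Coprime p (Nat.card ↥(MonoidHom.eqLocus (phiU R.U R.E.σ : MulAut KU).toMonoidHom
      (MonoidHom.id KU))) := by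
  classical
  have hZ : Subgroup.center KU = ⊥ := center_PSU_bot hF hn
  constructor
  · intro hne
    by_contra hcop
    apply hne
    apply field_std_core_bot_U R hF hF₀ hn h32 𝒢 hinn p hpr hpodd hσ
    by_contra hnd
    exact hcop ((Nat.Prime.coprime_iff_not_dvd hp.out).2 hnd)
  · intro hcop
    have hInnA : Cfsg.Inn KU ≤ 𝒢 := by
      rintro _ ⟨k, rfl⟩
      exact hinn k
    apply Cfsg.Agent.Helper28.FB.pPrimeCore_ne_bot_of p _
      (Cfsg.Inn KU ⊓ Subgroup.centralizer {(phiU R.U R.E.σ : MulAut KU)})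
      (inf_le_inf_right _ hInnA)
    · rintro c hc d ⟨⟨k, rfl⟩, hd⟩
      refine ⟨⟨c k, ?_⟩, ?_⟩
      · show MulAut.conj (c k) = c * MulAut.conj k * c⁻¹
        rw [Cfsg.Agent.Helper28.FB.aut_mul_conj, mul_inv_cancel_right]
      · exact Subgroup.mul_mem _ (Subgroup.mul_mem _ hc.2 hd) (Subgroup.inv_mem _ hc.2)
    · rw [Cfsg.Agent.Helper28.FB.card_inn_inf_centralizer hZ]
      exact hcop.symm
    · -- a non-trivial transvection over the fixed field
      obtain ⟨ζ₀, hζ₀⟩ := exists_norm' R.U₀ (-1 : F₀) (by rw [map_neg, map_one])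
      obtain ⟨s₀, hs₀0, hs₀⟩ := exists_skew R.U₀
      have hζ : R.E.j ζ₀ * R.U.bar (R.E.j ζ₀) = -1 := by
        rw [← R.compat, ← map_mul, hζ₀, map_neg, map_one]
      have hs0 : R.E.j s₀ ≠ 0 := by
        intro h0
        apply hs₀0
        apply R.E.j.injective
        rw [h0, map_zero]
      have hs : R.E.j s₀ + R.U.bar (R.E.j s₀) = 0 := by
        rw [← R.compat, ← map_add, hs₀, map_zero]
      set i₀ : Fin n := ⟨0, by omega⟩ with hi₀
      set i₁ : Fin n := ⟨1, by omega⟩ with hi₁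
      have h01 : i₀ ≠ i₁ := by rw [hi₀, hi₁]; intro hh; simp [Fin.ext_iff] at hh
      have hee := hermForm_two R.U h01 (R.E.j ζ₀) hζ
      have hmem := conj_tSU_mem R.U R.E.σ _ (R.E.j s₀) hee hs
        (fun i => by
          have := two_mem (R.E.j.fieldRange) i₀ i₁ (R.E.j ζ₀) ⟨ζ₀, rfl⟩ i
          obtain ⟨a, ha⟩ := this
          rw [← ha]
          exact R.E.fix_j a) (R.E.fix_j s₀)
      intro hbot
      rw [hbot, Subgroup.mem_bot] at hmem
      apply mk_tSU_ne_one R.U hn _ (R.E.j s₀) hee hs (two_ne_zero' h01 _) hs0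
      apply Cfsg.Agent.Helper28.FB.conj_injective_of_center hZ
      rw [hmem, map_one]

end field

theorem exists_q_pow [Fintype F] {r : ℕ} [Fact r.Prime] [CharP F r]
    (hF : Fintype.card F = q ^ 2) : ∃ f : ℕ, 1 ≤ f ∧ q = r ^ f := by
  obtain ⟨m, hr, hm⟩ := FiniteField.card F r
  have h1 : q ∣ r ^ (m : ℕ) := by
    rw [← hm, hF]
    exact dvd_pow_self q two_ne_zero
  obtain ⟨f, -, hf⟩ := (Nat.dvd_prime_pow hr).1 h1
  refine ⟨f, ?_, hf⟩
  by_contra h0
  have hf0 : f = 0 := by omega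
  rw [hf0, pow_zero] at hf
  rw [hf, one_pow] at hF
  have := Fintype.one_lt_card (α := F)
  omega

/-- **field-type automorphisms of odd prime order `p` of `PSU_n(q)`: the criterion** -/
theorem field_core_iff_U [Fintype F] {r : ℕ} [Fact r.Prime] [CharP F r]
    (hF : Fintype.card F = q ^ 2) (hn : 3 ≤ n) (h32 : ¬ (n = 3 ∧ q = 2))
    (𝒢 : Subgroup (MulAut KU)) (hinn : ∀ k : KU, MulAut.conj k ∈ 𝒢)
    (g : ↥(HS D n)) (σ : F ≃+* F) (hσ1 : σ ≠ 1) (p : ℕ) [hp : Fact p.Prime] (hpr : p ≠ r)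
    (hpodd : Odd p) (hord : orderOf (cU D g * phiU D σ : MulAut KU) = p) :
    Cfsg.pPrimeCore p ↥(𝒢 ⊓ Subgroup.centralizer {(cU D g * phiU D σ : MulAut KU)}) ≠ ⊥ ↔
    Nat.Coprime p (Nat.card ↥(MonoidHom.eqLocus (cU D g * phiU D σ : MulAut KU).toMonoidHom
      (MonoidHom.id KU))) := by
  classical
  haveI : NeZero n := ⟨by omega⟩
  obtain ⟨f, hf, hq⟩ := exists_q_pow (r := r) hF
  have hpow : (cU D g * phiU D σ : MulAut KU) ^ p = 1 := by
    rw [← hord]; exact pow_orderOf_eq_one _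
  have hσp : σ ^ p = 1 := by
    have h1 := Cfsg.Agent.Helper7.AutPSU.psiHom_apply D hF hn h32
      (α := (cU D g * phiU D σ : MulAut KU)) rfl
    rw [← h1, ← map_pow, hpow, map_one]
  have hσ : orderOf σ = p := orderOf_eq_prime hσp hσ1
  have hσpos : 0 < orderOf σ := by rw [hσ]; exact hp.out.pos
  have hF' : Fintype.card F = r ^ (2 * f) := by rw [hF, hq, ← pow_mul, mul_comm]
  have h1 : p ∣ 2 * f := by
    rw [← hσ]
    exact Cfsg.Agent.Helper7.FieldPSL.orderOf_dvd (by omega) hF' σ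
  have hpf : p ∣ f := (Nat.coprime_two_right.2 hpodd).dvd_of_dvd_mul_left h1
  have hk0 : 2 * (f / p) ≠ 0 := by
    obtain ⟨k, hk⟩ := hpf
    have hppos : 0 < p := hp.out.pos
    rw [hk, Nat.mul_div_cancel_left _ hppos]
    rintro h0
    have : k = 0 := by omega
    rw [this, mul_zero] at hk
    omega
  let F₀ := GaloisField r (2 * (f / p))
  haveI : Fintype F₀ := Fintype.ofFinite _
  have hF₀ : Fintype.card F₀ = r ^ (2 * (f / p)) := by
    rw [← Nat.card_eq_fintype_card]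
    exact GaloisField.card r _ hk0
  obtain ⟨-, R, hR⟩ := Cfsg.Agent.Helper7.FieldPSU.exists_UFD (F₀ := F₀) hq hf hF σ hσ hpodd hF₀
  have hF₀' : Fintype.card F₀ = (r ^ (f / p)) ^ 2 := by rw [hF₀, ← pow_mul, mul_comm]
  obtain rfl : R.U = D := udata_eq _ _
  subst hR
  obtain ⟨B, hB⟩ := Cfsg.Agent.Helper7.FieldPSU.conj_of_pow_eq_one_U R hn hσpos g
    (by rw [hσ]; exact hpow)
  have hα : (cU R.U B)⁻¹ * (cU R.U g * phiU R.U R.E.σ) * ((cU R.U B)⁻¹)⁻¹
      = (phiU R.U R.E.σ : MulAut KU) := by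
    rw [hB]; group
  rw [Cfsg.Agent.Helper28.FB.core_conj p 𝒢 _ _ _ hα,
    ← Cfsg.Agent.Helper28.FB.card_eqLocus_conj _ _ _ hα]
  exact field_std_core_iff_U R hF hF₀' hn h32 _
    (Cfsg.Agent.Helper28.FB.conj_mem_map_conj 𝒢 hinn _) p hpr hpodd hσ

end Cfsg.Agent.Helper7.LBalU
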