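import Mathlib
import Cfsg.Agent.Helper7.LBalU7

set_option autoImplicit false
set_option linter.unusedSectionVars false
set_option linter.unusedSimpArgs false

/-! Graph involutions of `PSU_n(q)`: the inner-diagonal centralizer as the image of a similarity
group over the fixed field, and an abstract criterion for the triviality of the `2'`-core. -/

namespace Cfsg.Agent.Helper7.LBalU

open Matrix
open Cfsg.Agent.Helper7.GraphPSL (gT gT_coe gT_mul gT_inv gT_gT)
open Cfsg.Agent.Helper7.GraphPSU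
open Cfsg.Agent.Helper7.GraphSplit (cGU cGU_apply GU_le_HS cGU_suGL mem_GU_of_isUG isUG_of_mem_GU
  ascend_mult det_jGL)
open Cfsg.Agent.Helper7.LBal (NNP NNP_range_of_ker_eq_center)

variable {F : Type*} [Field F] {n q : ℕ} {F₀ : Type*} [Field F₀] (E : UDesc F q F₀)

section phis

variable (a : GL (Fin n) F) (ε : Fˣ) (A₀ : GL (Fin n) F₀)
  (hA : gT a * barGL E.toUData a = scalarGL ε * jGL E A₀)

/-- the hom from the similarity group of `A₀` to `Aut(PSU_n(q))` -/
noncomputable def PhiS : ↥(simS A₀) →* MulAut (Cfsg.PSU n F q) :=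
  (cU E.toUData).comp (simToHS E a ε A₀ hA)

theorem PhiS_apply (m : ↥(simS A₀)) :
    PhiS E a ε A₀ hA m = cU E.toUData (simToHS E a ε A₀ hA m) := rfl

/-- the range of `PhiS` is the inner-diagonal centralizer of the graph involution -/
theorem range_PhiS [Finite F] (hn : 3 ≤ n)
    (hg : a * (barGL E.toUData a)⁻¹ ∈ HS E.toUData n) :
    (PhiS E a ε A₀ hA).range = Cfsg.inndiagPSU n F q ⊓
      Subgroup.centralizer {gammaU E.toUData ⟨a * (barGL E.toUData a)⁻¹, hg⟩} := by
  have : NeZero n := ⟨by omega⟩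
  set g : ↥(HS E.toUData n) := ⟨a * (barGL E.toUData a)⁻¹, hg⟩ with hgdef
  ext β
  rw [Subgroup.mem_inf, Subgroup.mem_centralizer_singleton_iff, inndiagPSU_eq_range E.toUData]
  constructor
  · rintro ⟨m, rfl⟩
    refine ⟨⟨_, rfl⟩, ?_⟩
    rw [PhiS_apply]
    obtain ⟨c, hc⟩ := (mem_simS_iff A₀ m).1 m.2
    have hkk := (ascend_conj E a a ε ε A₀ A₀ hA hA m c hc).2
    have h1 : cU E.toUData (simToHS E a ε A₀ hA m) * gammaU E.toUData g * (cU E.toUData (simToHS E a ε A₀ hA m))⁻¹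
        = gammaU E.toUData g := by
      rw [cU_conj_gammaU]
      congr 1
      apply Subtype.ext
      rw [Subgroup.coe_mul, Subgroup.coe_mul, Subgroup.coe_inv, barHS_coe, simToHS_coe]
      exact hkk
    calc cU E.toUData (simToHS E a ε A₀ hA m) * gammaU E.toUData g
        = (cU E.toUData (simToHS E a ε A₀ hA m) * gammaU E.toUData g * (cU E.toUData (simToHS E a ε A₀ hA m))⁻¹)
          * cU E.toUData (simToHS E a ε A₀ hA m) := by group
      _ = _ := by rw [h1]
  · rintro ⟨⟨k, rfl⟩, hcomm⟩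
    have h1 : cU E.toUData k * gammaU E.toUData g * (cU E.toUData k)⁻¹ = gammaU E.toUData g := by
      rw [hcomm]
      group
    rw [cU_conj_gammaU, gammaU_eq_iff E.toUData hn] at h1
    obtain ⟨s, hs⟩ := exists_scalarGL h1
    rw [Subgroup.coe_mul, Subgroup.coe_inv, Subgroup.coe_mul, Subgroup.coe_mul, Subgroup.coe_inv,
      barHS_coe] at hs
    have hs' : (k : GL (Fin n) F) * (a * (barGL E.toUData a)⁻¹) * (barGL E.toUData (k : GL (Fin n) F))⁻¹
        = scalarGL s⁻¹ * (a * (barGL E.toUData a)⁻¹) := by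
      have e1 : (a * (barGL E.toUData a)⁻¹ : GL (Fin n) F)
          = ((k : GL (Fin n) F) * (a * (barGL E.toUData a)⁻¹) * (barGL E.toUData (k : GL (Fin n) F))⁻¹)
            * scalarGL s := by
        rw [← hs]
        show _ = _ * ((_)⁻¹ * (a * (barGL E.toUData a)⁻¹))
        rw [mul_inv_cancel_left]
      conv_rhs => rw [e1]
      rw [scalarGL_inv, ← scalarGL_comm, inv_mul_cancel_left]
    obtain ⟨m, ν, c, hym, hm⟩ := descend_conj E a a ε ε A₀ A₀ hA hA k k.2 s⁻¹ hs'
    have hmS : m ∈ simS A₀ := (mem_simS_iff A₀ m).2 ⟨c, hm⟩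
    refine ⟨⟨m, hmS⟩, ?_⟩
    rw [PhiS_apply]
    have hk : k = scalarHS E.toUData ν * simToHS E a ε A₀ hA ⟨m, hmS⟩ := by
      apply Subtype.ext
      rw [Subgroup.coe_mul, simToHS_coe]
      show (k : GL (Fin n) F) = scalarGL ν * (a * jGL E m * a⁻¹)
      calc (k : GL (Fin n) F) = a * (a⁻¹ * k * a) * a⁻¹ := by group
        _ = a * (scalarGL ν * jGL E m) * a⁻¹ := by rw [hym]
        _ = (a * scalarGL ν) * jGL E m * a⁻¹ := by group
        _ = (scalarGL ν * a) * jGL E m * a⁻¹ := by rw [scalarGL_comm]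
        _ = _ := by group
    rw [hk, map_mul, cU_scalarHS, one_mul]

/-- the kernel of `PhiS` consists of the scalar matrices -/
theorem ker_PhiS [Finite F] (hn : 3 ≤ n) :
    (PhiS E a ε A₀ hA).ker = (Cfsg.Geo.scalars (Fin n) F₀).subgroupOf (simS A₀) := by
  have : NeZero n := ⟨by omega⟩
  ext m
  rw [MonoidHom.mem_ker, PhiS_apply, cU_eq_one_iff E.toUData hn, simToHS_coe, Subgroup.mem_subgroupOf]
  constructor
  · intro h
    obtain ⟨s, hs⟩ := exists_scalarGL h
    have h1 : jGL E (m : GL (Fin n) F₀) = scalarGL s * jGL E 1 := by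
      rw [map_one, mul_one]
      calc jGL E (m : GL (Fin n) F₀) = a⁻¹ * (a * jGL E m * a⁻¹) * a := by group
        _ = a⁻¹ * (scalarGL s * a) := by rw [hs]; group
        _ = a⁻¹ * (a * scalarGL s) := by rw [scalarGL_comm]
        _ = _ := by group
    obtain ⟨c, hc⟩ := real_scalar E _ _ _ h1
    rw [hc, mul_one]
    exact scalarGL_mem c
  · intro h
    obtain ⟨c, hc⟩ := exists_scalarGL h
    rw [hc, jGL_scalarGL, ← scalarGL_comm, mul_inv_cancel_right]
    exact scalarGL_mem _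

end phis

section abs

variable (a : GL (Fin n) F) (ε : Fˣ) (A₀ : GL (Fin n) F₀)
  (hA : gT a * barGL E.toUData a = scalarGL ε * jGL E A₀)
variable {S : Type*} [Group S] (ι : S →* GL (Fin n) F₀)
  (hι : ∀ s, gT (ι s) * A₀ * ι s = A₀) (hdet : ∀ s, Matrix.GeneralLinearGroup.det (ι s) = 1)

include hι in
theorem iota_mem_simS (s : S) : ι s ∈ simS A₀ :=
  (mem_simS_iff A₀ _).2 ⟨1, by rw [hι, scalarGL_one, one_mul]⟩

/-- `S → simS A₀` -/
noncomputable def iotaS : S →* ↥(simS A₀) := ι.codRestrict (simS A₀) (iota_mem_simS A₀ ι hι)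

theorem iotaS_coe (s : S) : ((iotaS A₀ ι hι s : ↥(simS A₀)) : GL (Fin n) F₀) = ι s := rfl

include hA hι in
theorem isUG_ascend (s : S) : IsUG E.toUData (a * jGL E (ι s) * a⁻¹) := by
  unfold IsUG
  rw [ascend_mult E a ε A₀ hA (ι s) 1 (by rw [hι, scalarGL_one, one_mul]), map_one, scalarGL_one]

include hdet in
theorem det_ascend (s : S) : Matrix.GeneralLinearGroup.det (a * jGL E (ι s) * a⁻¹) = 1 := by
  rw [map_mul, map_mul, map_inv, det_jGL, hdet, map_one, mul_one, mul_inv_cancel]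

/-- `S → SU_n(q)` -/
def suS : S →* ↥(Cfsg.SU n F q) where
  toFun s := mkSUG E.toUData (a * jGL E (ι s) * a⁻¹) (det_ascend E a ι hdet s)
    (isUG_ascend E a ε A₀ hA ι hι s)
  map_one' := by
    apply suGL_injective
    rw [suGL_mkSUG, map_one, map_one, map_one, mul_one, mul_inv_cancel]
  map_mul' s t := by
    apply suGL_injective
    rw [map_mul suGL, suGL_mkSUG, suGL_mkSUG, suGL_mkSUG, map_mul, map_mul]
    group

theorem suGL_suS (s : S) :
    suGL (suS E a ε A₀ hA ι hι hdet s) = a * jGL E (ι s) * a⁻¹ :=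
  suGL_mkSUG E.toUData _ (det_ascend E a ι hdet s) (isUG_ascend E a ε A₀ hA ι hι s)

theorem suMat_suS (s : S) :
    suMat (suS E a ε A₀ hA ι hι hdet s)
      = (a : Matrix (Fin n) (Fin n) F) * ((ι s : GL (Fin n) F₀) : Matrix (Fin n) (Fin n) F₀).map E.j
        * ((a⁻¹ : GL (Fin n) F) : Matrix (Fin n) (Fin n) F) := by
  rw [← suGL_coe, suGL_suS, Units.val_mul, Units.val_mul, jGL_coe]

/-- `S → Aut(PSU_n(q))` -/
noncomputable def psiS : S →* MulAut (Cfsg.PSU n F q) :=
  (MulAut.conj).comp ((QuotientGroup.mk' _).comp (suS E a ε A₀ hA ι hι hdet))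

theorem psiS_apply (s : S) :
    psiS E a ε A₀ hA ι hι hdet s
      = MulAut.conj (QuotientGroup.mk (suS E a ε A₀ hA ι hι hdet s) : Cfsg.PSU n F q) := rfl

theorem psiS_eq_PhiS (s : S) :
    psiS E a ε A₀ hA ι hι hdet s = PhiS E a ε A₀ hA (iotaS A₀ ι hι s) := by
  have hs : suGL (suS E a ε A₀ hA ι hι hdet s) ∈ Cfsg.GU n F q :=
    mem_GU_of_isUG E.toUData (suGL_isUG E.toUData _)
  rw [psiS_apply, ← cGU_suGL E.toUData _ hs, cGU_apply, PhiS_apply]
  congr 1
  apply Subtype.ext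
  rw [simToHS_coe, iotaS_coe]
  exact suGL_suS E a ε A₀ hA ι hι hdet s

end abs

end Cfsg.Agent.Helper7.LBalU
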