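import Mathlib
import Cfsg.Agent.Helper7.LBalU8

set_option autoImplicit false
set_option linter.unusedSectionVars false
set_option linter.unusedSimpArgs false

/-! Graph involutions of `PSU_n(q)`: the abstract criterion for the triviality of the
`2'`-core. -/

namespace Cfsg.Agent.Helper7.LBalU

open Matrix
open Cfsg.Agent.Helper7.GraphPSL (gT gT_coe gT_mul gT_inv gT_gT)
open Cfsg.Agent.Helper7.GraphPSU
open Cfsg.Agent.Helper7.LBal (NNP NNP_range_of_ker_eq_center)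

variable {F : Type*} [Field F] {n q : ℕ} {F₀ : Type*} [Field F₀] (E : UDesc F q F₀)

variable (a : GL (Fin n) F) (ε : Fˣ) (A₀ : GL (Fin n) F₀)
  (hA : gT a * barGL E.toUData a = scalarGL ε * jGL E A₀)
variable {S : Type*} [Group S] (ι : S →* GL (Fin n) F₀)
  (hι : ∀ s, gT (ι s) * A₀ * ι s = A₀) (hdet : ∀ s, Matrix.GeneralLinearGroup.det (ι s) = 1)

theorem map_family (b : F₀) (N₁ N₂ : Matrix (Fin n) (Fin n) F₀) :
    (1 + b • N₁ + (b * b) • N₂).map E.j
      = 1 + E.j b • N₁.map E.j + (E.j b * E.j b) • N₂.map E.j := by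
  ext i j
  by_cases hij : i = j
  · subst hij
    simp [Matrix.map_apply, Matrix.add_apply, Matrix.smul_apply, Matrix.one_apply]
  · simp [Matrix.map_apply, Matrix.add_apply, Matrix.smul_apply, Matrix.one_apply, hij]

include hA hι hdet in
/-- **graph involutions: the abstract criterion** -/
theorem graph_abs_core_bot [Fintype F] {r : ℕ} [Fact r.Prime] [CharP F r]
    (hF : Fintype.card F = q ^ 2) (hn : 3 ≤ n) (h32 : ¬ (n = 3 ∧ q = 2)) (hF2 : (2 : F) ≠ 0)
    (hg : a * (barGL E.toUData a)⁻¹ ∈ HS E.toUData n)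
    (hN : ∀ m ∈ simS A₀, ∀ s, ∃ s', ι s' = m * ι s * m⁻¹)
    (hker : ∀ s, ι s ∈ Cfsg.Geo.scalars (Fin n) F₀ ↔ s ∈ Subgroup.center S)
    (hNNP : NNP 2 (S ⧸ Subgroup.center S))
    (hcent : ∀ m ∈ simS A₀, (∀ s, ∃ c : F₀ˣ, m * ι s * m⁻¹ = scalarGL c * ι s) →
      m ∈ Cfsg.Geo.scalars (Fin n) F₀)
    (u : F₀ → S) (N₁ N₂ : Matrix (Fin n) (Fin n) F₀) (hN₁ : N₁ ≠ 0)
    (hu : ∀ b, ((ι (u b) : GL (Fin n) F₀) : Matrix (Fin n) (Fin n) F₀)
      = 1 + b • N₁ + (b * b) • N₂)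
    (hpow : ∀ b, u b ^ r = 1)
    (𝒢 : Subgroup (MulAut (Cfsg.PSU n F q))) (hinn : ∀ k : Cfsg.PSU n F q, MulAut.conj k ∈ 𝒢) :
    Cfsg.pPrimeCore 2 ↥(𝒢 ⊓ Subgroup.centralizer
      {gammaU E.toUData ⟨a * (barGL E.toUData a)⁻¹, hg⟩}) = ⊥ := by
  classical
  haveI : NeZero n := ⟨by omega⟩
  haveI : Fact (Nat.Prime 2) := ⟨Nat.prime_two⟩
  have hZ : Subgroup.center (Cfsg.PSU n F q) = ⊥ := center_PSU_bot hF hn
  set ψ := psiS E a ε A₀ hA ι hι hdet with hψ
  have hψΦ : ∀ s, ψ s = PhiS E a ε A₀ hA (iotaS A₀ ι hι s) := psiS_eq_PhiS E a ε A₀ hA ι hι hdet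
  have hrange := range_PhiS E a ε A₀ hA hn hg
  have hkerΦ := ker_PhiS E a ε A₀ hA hn
  have hψC : ∀ s, ψ s ∈ Subgroup.centralizer
      {gammaU E.toUData ⟨a * (barGL E.toUData a)⁻¹, hg⟩} := by
    intro s
    have : ψ s ∈ (PhiS E a ε A₀ hA).range := ⟨_, (hψΦ s).symm⟩
    rw [hrange] at this
    exact this.2
  refine core_bot_main_U E.toUData hF hn h32 𝒢 hinn _ 2 ψ.range ?hInn ?hC ?hnorm ?hb ?hc ?hP2
  case hInn =>
    rintro _ ⟨s, rfl⟩
    exact ⟨_, rfl⟩
  case hC =>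
    rintro _ ⟨s, rfl⟩
    exact hψC s
  case hnorm =>
    rintro d hd _ ⟨s, rfl⟩
    rw [← hrange] at hd
    obtain ⟨m, rfl⟩ := hd
    obtain ⟨s', hs'⟩ := hN m m.2 s
    refine ⟨s', ?_⟩
    rw [hψΦ, hψΦ, ← map_inv, ← map_mul, ← map_mul]
    congr 1
    apply Subtype.ext
    rw [iotaS_coe, hs']
    rfl
  case hb =>
    apply NNP_range_of_ker_eq_center ψ ?_ hNNP
    ext s
    rw [MonoidHom.mem_ker, hψΦ, ← MonoidHom.mem_ker, hkerΦ, Subgroup.mem_subgroupOf, iotaS_coe,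
      hker]
  case hc =>
    intro d hd hcomm
    rw [← hrange] at hd
    obtain ⟨m, rfl⟩ := hd
    rw [← MonoidHom.mem_ker, hkerΦ, Subgroup.mem_subgroupOf]
    apply hcent m m.2
    intro s
    have h1 : m * iotaS A₀ ι hι s * m⁻¹ * (iotaS A₀ ι hι s)⁻¹ ∈ (PhiS E a ε A₀ hA).ker := by
      rw [MonoidHom.mem_ker, map_mul, map_mul, map_mul, map_inv, map_inv, ← hψΦ,
        hcomm _ ⟨s, rfl⟩]
      group
    rw [hkerΦ, Subgroup.mem_subgroupOf] at h1
    obtain ⟨c, hc⟩ := exists_scalarGL h1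
    refine ⟨c, ?_⟩
    have hc' : (m : GL (Fin n) F₀) * ι s * (m : GL (Fin n) F₀)⁻¹ * (ι s)⁻¹ = scalarGL c := hc
    rw [← hc']
    group
  case hP2 =>
    intro g τ l hl hl2 hτl hcomm
    have hjinj : Function.Injective E.j := E.j.injective
    set t : F₀ → ↥(Cfsg.SU n F q) := fun b => suS E a ε A₀ hA ι hι hdet (u b) with ht
    set u' : F → ↥(Cfsg.SU n F q) := fun x =>
      if hx : ∃ b, E.j b = x then t hx.choose else 1 with hu'
    have hu'A : ∀ b, u' (E.j b) = t b := by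
      intro b
      have hex : ∃ b', E.j b' = E.j b := ⟨b, rfl⟩
      rw [hu']
      beta_reduce
      rw [dif_pos hex]
      congr 1
      exact hjinj hex.choose_spec
    have hτA : ∀ x ∈ Set.range E.j, τ x = x := by
      apply tau_fix_U E.toUData hn g τ u'
        ((a : Matrix (Fin n) (Fin n) F) * N₁.map E.j * ((a⁻¹ : GL (Fin n) F) : Matrix _ _ F))
        ((a : Matrix (Fin n) (Fin n) F) * N₂.map E.j * ((a⁻¹ : GL (Fin n) F) : Matrix _ _ F))
        ?_ (Set.range E.j) ?_ ?_ ⟨1, map_one _⟩ ?_ (Or.inl hF2) ?_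
      · intro h0
        apply hN₁
        have h3 : N₁.map E.j = 0 := by
          have := congrArg (fun M => ((a⁻¹ : GL (Fin n) F) : Matrix _ _ F) * M
            * (a : Matrix (Fin n) (Fin n) F)) h0
          beta_reduce at this
          simp only [Matrix.mul_assoc] at this
          rw [← Units.val_mul, inv_mul_cancel, Units.val_one, Matrix.mul_one,
            ← Matrix.mul_assoc, ← Units.val_mul, inv_mul_cancel, Units.val_one, Matrix.one_mul,
            Matrix.zero_mul, Matrix.mul_zero] at this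
          exact this
        ext i j
        have := congrFun (congrFun h3 i) j
        rw [Matrix.map_apply, Matrix.zero_apply] at this
        rw [Matrix.zero_apply]
        exact hjinj (this.trans (map_zero _).symm)
      · rintro _ ⟨b, rfl⟩
        rw [hu'A, ht]
        beta_reduce
        rw [suMat_suS, hu, map_family, Matrix.mul_add, Matrix.mul_add, Matrix.add_mul,
          Matrix.add_mul, Matrix.mul_one, ← Units.val_mul, mul_inv_cancel, Units.val_one,
          Matrix.mul_smul, Matrix.smul_mul, Matrix.mul_smul, Matrix.smul_mul]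
      · rintro _ ⟨b, rfl⟩
        rw [hu'A, ht]
        beta_reduce
        rw [← map_pow, hpow, map_one]
      · rintro _ ⟨b, rfl⟩
        exact ⟨-b, map_neg _ _⟩
      · rintro _ ⟨b, rfl⟩
        rw [hu'A]
        apply Cfsg.Agent.Helper28.FB.apply_eq_of_comm_conj hZ
        apply hcomm
        exact ⟨⟨_, rfl⟩, hψC (u b)⟩
    have hτbar : τ ∈ Subgroup.zpowers E.bar := by
      apply Cfsg.Agent.Helper28.FB.mem_zpowers_of_fixes
      intro y hy
      obtain ⟨x, hx⟩ := E.exists_j y hy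
      rw [← hx]
      exact hτA _ ⟨x, rfl⟩
    have hbar2 : (E.bar : F ≃+* F) ^ 2 = 1 := by
      ext x
      rw [pow_two]
      exact E.bar_bar x
    have hτ2 : τ ^ 2 = 1 := by
      obtain ⟨k, rfl⟩ := Subgroup.mem_zpowers_iff.1 hτbar
      rw [← zpow_natCast, ← _root_.zpow_mul, mul_comm, _root_.zpow_mul, zpow_natCast, hbar2,
        _root_.one_zpow]
    have hcop : Nat.Coprime l 2 := (Nat.coprime_primes hl Nat.prime_two).2 hl2
    have h1 : orderOf τ ∣ Nat.gcd l 2 :=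
      Nat.dvd_gcd (orderOf_dvd_of_pow_eq_one hτl) (orderOf_dvd_of_pow_eq_one hτ2)
    rw [hcop.gcd_eq_one, Nat.dvd_one] at h1
    exact orderOf_eq_one_iff.1 h1

include hA hι hdet in
/-- **graph involutions: the centralizer in `K` has even order** -/
theorem graph_abs_even [Fintype F] [Finite S] (hF : Fintype.card F = q ^ 2) (hn : 3 ≤ n)
    (hg : a * (barGL E.toUData a)⁻¹ ∈ HS E.toUData n)
    (hker : ∀ s, ι s ∈ Cfsg.Geo.scalars (Fin n) F₀ ↔ s ∈ Subgroup.center S)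
    (heven : 2 ∣ Nat.card (S ⧸ Subgroup.center S)) :
    2 ∣ Nat.card ↥(MonoidHom.eqLocus
      (gammaU E.toUData ⟨a * (barGL E.toUData a)⁻¹, hg⟩ : MulAut (Cfsg.PSU n F q)).toMonoidHom
      (MonoidHom.id (Cfsg.PSU n F q))) := by
  classical
  haveI : NeZero n := ⟨by omega⟩
  have hZ : Subgroup.center (Cfsg.PSU n F q) = ⊥ := center_PSU_bot hF hn
  set ψ := psiS E a ε A₀ hA ι hι hdet with hψ
  have hψΦ : ∀ s, ψ s = PhiS E a ε A₀ hA (iotaS A₀ ι hι s) := psiS_eq_PhiS E a ε A₀ hA ι hι hdet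
  have hrange := range_PhiS E a ε A₀ hA hn hg
  have hkerΦ := ker_PhiS E a ε A₀ hA hn
  have hkerψ : ψ.ker = Subgroup.center S := by
    ext s
    rw [MonoidHom.mem_ker, hψΦ, ← MonoidHom.mem_ker, hkerΦ, Subgroup.mem_subgroupOf, iotaS_coe,
      hker]
  have hle : ψ.range ≤ Cfsg.Inn (Cfsg.PSU n F q) ⊓ Subgroup.centralizer
      {gammaU E.toUData ⟨a * (barGL E.toUData a)⁻¹, hg⟩} := by
    rintro _ ⟨s, rfl⟩
    refine ⟨⟨_, rfl⟩, ?_⟩
    have : ψ s ∈ (PhiS E a ε A₀ hA).range := ⟨_, (hψΦ s).symm⟩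
    rw [hrange] at this
    exact this.2
  rw [← Cfsg.Agent.Helper28.FB.card_inn_inf_centralizer hZ]
  refine Dvd.dvd.trans ?_ (Subgroup.card_dvd_of_le hle)
  have e1 : S ⧸ Subgroup.center S ≃* S ⧸ ψ.ker := QuotientGroup.quotientMulEquivOfEq hkerψ.symm
  have e2 := QuotientGroup.quotientKerEquivRange ψ
  rw [← Nat.card_congr (e1.trans e2).toEquiv]
  exact heven

end Cfsg.Agent.Helper7.LBalU
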