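import Mathlib
import Cfsg.Agent.Helper7.LBalU9

set_option autoImplicit false
set_option linter.unusedSectionVars false
set_option linter.unusedSimpArgs false

/-! Graph involutions of `PSU_n(q)`: the criterion in adapted coordinates. -/

namespace Cfsg.Agent.Helper7.LBalU

open Matrix
open Cfsg.Agent.Helper7.GraphPSL (gT gT_coe gT_mul gT_inv gT_gT conjP conjP_coe conjP_surjective
  conjP_mem_scalars_iff)
open Cfsg.Agent.Helper7.GraphPSU
open Cfsg.Agent.Helper7.LBal (NNP NNP_range_of_ker_eq_center)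

variable {F : Type*} [Field F] {n q : ℕ} {F₀ : Type*} [Field F₀] (E : UDesc F q F₀)

variable {ι' : Type} [Fintype ι'] [DecidableEq ι']
variable (P : Matrix (Fin n) ι' F₀) (P' : Matrix ι' (Fin n) F₀) (h1 : P * P' = 1) (h2 : P' * P = 1)

include h1 h2 in
theorem conjP_inj {k k' : GL ι' F₀} (h : conjP P P' h1 h2 k = conjP P P' h1 h2 k') : k = k' := by
  have h3 := congrArg (fun g : GL (Fin n) F₀ => (g : Matrix (Fin n) (Fin n) F₀)) h
  beta_reduce at h3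
  rw [conjP_coe, conjP_coe] at h3
  apply Units.ext
  calc (k : Matrix ι' ι' F₀) = (P' * P) * (k : Matrix ι' ι' F₀) * (P' * P) := by
        rw [h2, Matrix.one_mul, Matrix.mul_one]
    _ = P' * (P * (k : Matrix ι' ι' F₀) * P') * P := by simp only [Matrix.mul_assoc]
    _ = P' * (P * (k' : Matrix ι' ι' F₀) * P') * P := by rw [h3]
    _ = (P' * P) * (k' : Matrix ι' ι' F₀) * (P' * P) := by simp only [Matrix.mul_assoc]
    _ = _ := by rw [h2, Matrix.one_mul, Matrix.mul_one]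

include h1 in
theorem PT_mul : P'ᵀ * Pᵀ = 1 := by rw [← Matrix.transpose_mul, h1, Matrix.transpose_one]

include h2 in
theorem PT_mul' : Pᵀ * P'ᵀ = 1 := by rw [← Matrix.transpose_mul, h2, Matrix.transpose_one]

variable (A₀ : GL (Fin n) F₀)

/-- the form in the adapted coordinates -/
def Mform : Matrix ι' ι' F₀ := Pᵀ * (A₀ : Matrix (Fin n) (Fin n) F₀) * P

include h1 h2 in
/-- the similarity condition in the two coordinate systems -/
theorem sim_coord_iff (k : GL ι' F₀) (c : F₀ˣ) :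
    gT (conjP P P' h1 h2 k) * A₀ * conjP P P' h1 h2 k = scalarGL c * A₀ ↔
      (k : Matrix ι' ι' F₀)ᵀ * Mform P A₀ * (k : Matrix ι' ι' F₀) = (c : F₀) • Mform P A₀ := by
  have hT := PT_mul P P' h1
  have hT' := PT_mul' P P' h2
  constructor
  · intro h
    have h3 := congrArg (fun g : GL (Fin n) F₀ => (g : Matrix (Fin n) (Fin n) F₀)) h
    beta_reduce at h3
    rw [Units.val_mul, Units.val_mul, Units.val_mul, gT_coe, conjP_coe, scalarGL_coe,
      Matrix.smul_mul, Matrix.one_mul, Matrix.transpose_mul, Matrix.transpose_mul] at h3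
    unfold Mform
    calc (k : Matrix ι' ι' F₀)ᵀ * (Pᵀ * (A₀ : Matrix (Fin n) (Fin n) F₀) * P)
          * (k : Matrix ι' ι' F₀)
        = (Pᵀ * P'ᵀ) * ((k : Matrix ι' ι' F₀)ᵀ * (Pᵀ * (A₀ : Matrix (Fin n) (Fin n) F₀) * P)
          * (k : Matrix ι' ι' F₀)) * (P' * P) := by
          rw [hT', h2, Matrix.one_mul, Matrix.mul_one]
      _ = Pᵀ * (P'ᵀ * ((k : Matrix ι' ι' F₀)ᵀ * Pᵀ) * (A₀ : Matrix (Fin n) (Fin n) F₀)
          * (P * (k : Matrix ι' ι' F₀) * P')) * P := by simp only [Matrix.mul_assoc]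
      _ = Pᵀ * ((c : F₀) • (A₀ : Matrix (Fin n) (Fin n) F₀)) * P := by rw [h3]
      _ = _ := by rw [Matrix.mul_smul, Matrix.smul_mul]
  · intro h
    unfold Mform at h
    apply Units.ext
    rw [Units.val_mul, Units.val_mul, Units.val_mul, gT_coe, conjP_coe, scalarGL_coe,
      Matrix.smul_mul, Matrix.one_mul, Matrix.transpose_mul, Matrix.transpose_mul]
    calc P'ᵀ * ((k : Matrix ι' ι' F₀)ᵀ * Pᵀ) * (A₀ : Matrix (Fin n) (Fin n) F₀)
          * (P * (k : Matrix ι' ι' F₀) * P')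
        = P'ᵀ * ((k : Matrix ι' ι' F₀)ᵀ * (Pᵀ * (A₀ : Matrix (Fin n) (Fin n) F₀) * P)
          * (k : Matrix ι' ι' F₀)) * P' := by simp only [Matrix.mul_assoc]
      _ = P'ᵀ * ((c : F₀) • (Pᵀ * (A₀ : Matrix (Fin n) (Fin n) F₀) * P)) * P' := by rw [h]
      _ = (c : F₀) • ((P'ᵀ * Pᵀ) * (A₀ : Matrix (Fin n) (Fin n) F₀) * (P * P')) := by
          rw [Matrix.mul_smul, Matrix.smul_mul]
          simp only [Matrix.mul_assoc]
      _ = _ := by rw [hT, h1, Matrix.one_mul, Matrix.mul_one]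

/-- the hypotheses on a subgroup of the isometry group in adapted coordinates -/
structure CoordHyp (Gsim : Subgroup (GL ι' F₀)) {S : Type*} [Group S] (j : S →* GL ι' F₀)
    (u : F₀ → S) (N₁ N₂ : Matrix ι' ι' F₀) (r : ℕ) : Prop where
  hS : ∀ k : GL ι' F₀, k ∈ Gsim ↔ ∃ c : F₀ˣ,
    (k : Matrix ι' ι' F₀)ᵀ * Mform P A₀ * (k : Matrix ι' ι' F₀) = (c : F₀) • Mform P A₀
  hiso : ∀ s, ((j s : GL ι' F₀) : Matrix ι' ι' F₀)ᵀ * Mform P A₀ * ((j s : GL ι' F₀) : Matrix ι' ι' F₀)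
    = Mform P A₀
  hdet : ∀ s, Matrix.GeneralLinearGroup.det (j s) = 1
  hN : ∀ k ∈ Gsim, ∀ s, ∃ s', j s' = k * j s * k⁻¹
  hker : ∀ s, j s ∈ Cfsg.Geo.scalars ι' F₀ ↔ s ∈ Subgroup.center S
  hcent : ∀ k ∈ Gsim, (∀ s, ∃ c : F₀, (k : Matrix ι' ι' F₀) * ((j s : GL ι' F₀) : Matrix ι' ι' F₀)
    * ((k⁻¹ : GL ι' F₀) : Matrix ι' ι' F₀) = c • ((j s : GL ι' F₀) : Matrix ι' ι' F₀)) →
      k ∈ Cfsg.Geo.scalars ι' F₀
  hN₁ : N₁ ≠ 0
  hu : ∀ b, ((j (u b) : GL ι' F₀) : Matrix ι' ι' F₀) = 1 + b • N₁ + (b * b) • N₂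
  hpow : ∀ b, u b ^ r = 1

section coord

variable {Gsim : Subgroup (GL ι' F₀)} {S : Type*} [Group S] {j : S →* GL ι' F₀}
  {u : F₀ → S} {N₁ N₂ : Matrix ι' ι' F₀} {r : ℕ}
  (H : CoordHyp P A₀ Gsim j u N₁ N₂ r)

include H in
theorem coord_hι (s : S) :
    gT ((conjP P P' h1 h2).comp j s) * A₀ * (conjP P P' h1 h2).comp j s = A₀ := by
  have := (sim_coord_iff P P' h1 h2 A₀ (j s) 1).2 (by rw [Units.val_one, one_smul]; exact H.hiso s)
  rw [scalarGL_one, one_mul] at this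
  exact this

include H in
theorem coord_hdet (s : S) :
    Matrix.GeneralLinearGroup.det ((conjP P P' h1 h2).comp j s) = 1 := by
  rw [← H.hdet s]
  apply Units.ext
  show (P * ((j s : GL ι' F₀) : Matrix ι' ι' F₀) * P').det = ((j s : GL ι' F₀) : Matrix ι' ι' F₀).det
  exact Matrix.det_conj_of_mul_eq_one h1 h2

include H in
theorem coord_mem_Gsim (k : GL ι' F₀) (hk : conjP P P' h1 h2 k ∈ simS A₀) : k ∈ Gsim := by
  obtain ⟨c, hc⟩ := (mem_simS_iff A₀ _).1 hk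
  exact (H.hS k).2 ⟨c, (sim_coord_iff P P' h1 h2 A₀ k c).1 hc⟩

include H in
theorem coord_hN (m : GL (Fin n) F₀) (hm : m ∈ simS A₀) (s : S) :
    ∃ s', (conjP P P' h1 h2).comp j s' = m * (conjP P P' h1 h2).comp j s * m⁻¹ := by
  obtain ⟨k, rfl⟩ := conjP_surjective P P' h1 h2 m
  obtain ⟨s', hs'⟩ := H.hN k (coord_mem_Gsim P P' h1 h2 A₀ H k hm) s
  refine ⟨s', ?_⟩
  rw [MonoidHom.comp_apply, hs', map_mul, map_mul, map_inv]
  rfl

include H in
theorem coord_hker (s : S) :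
    (conjP P P' h1 h2).comp j s ∈ Cfsg.Geo.scalars (Fin n) F₀ ↔ s ∈ Subgroup.center S := by
  rw [MonoidHom.comp_apply, conjP_mem_scalars_iff, H.hker]

include H in
theorem coord_hcent (m : GL (Fin n) F₀) (hm : m ∈ simS A₀)
    (hc : ∀ s, ∃ c : F₀ˣ, m * (conjP P P' h1 h2).comp j s * m⁻¹
      = scalarGL c * (conjP P P' h1 h2).comp j s) : m ∈ Cfsg.Geo.scalars (Fin n) F₀ := by
  obtain ⟨k, rfl⟩ := conjP_surjective P P' h1 h2 m
  rw [conjP_mem_scalars_iff]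
  apply H.hcent k (coord_mem_Gsim P P' h1 h2 A₀ H k hm)
  intro s
  obtain ⟨c, hc⟩ := hc s
  refine ⟨(c : F₀), ?_⟩
  rw [MonoidHom.comp_apply, ← map_inv, ← map_mul, ← map_mul] at hc
  have h3 : P * ((k * j s * k⁻¹ : GL ι' F₀) : Matrix ι' ι' F₀) * P'
      = (c : F₀) • (P * ((j s : GL ι' F₀) : Matrix ι' ι' F₀) * P') := by
    have := congrArg (fun g : GL (Fin n) F₀ => (g : Matrix (Fin n) (Fin n) F₀)) hc
    beta_reduce at this
    rw [Units.val_mul (scalarGL c), scalarGL_coe, Matrix.smul_mul, Matrix.one_mul] at this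
    exact this
  have h4 : ((k * j s * k⁻¹ : GL ι' F₀) : Matrix ι' ι' F₀)
      = (c : F₀) • ((j s : GL ι' F₀) : Matrix ι' ι' F₀) := by
    calc ((k * j s * k⁻¹ : GL ι' F₀) : Matrix ι' ι' F₀)
        = (P' * P) * ((k * j s * k⁻¹ : GL ι' F₀) : Matrix ι' ι' F₀) * (P' * P) := by
          rw [h2, Matrix.one_mul, Matrix.mul_one]
      _ = P' * (P * ((k * j s * k⁻¹ : GL ι' F₀) : Matrix ι' ι' F₀) * P') * P := by
          simp only [Matrix.mul_assoc]
      _ = P' * ((c : F₀) • (P * ((j s : GL ι' F₀) : Matrix ι' ι' F₀) * P')) * P := by rw [h3]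
      _ = (c : F₀) • ((P' * P) * ((j s : GL ι' F₀) : Matrix ι' ι' F₀) * (P' * P)) := by
          rw [Matrix.mul_smul, Matrix.smul_mul]
          simp only [Matrix.mul_assoc]
      _ = _ := by rw [h2, Matrix.one_mul, Matrix.mul_one]
  rw [← h4, Units.val_mul, Units.val_mul]

include H h2 in
theorem coord_hN₁ : P * N₁ * P' ≠ 0 := by
  intro h3
  apply H.hN₁
  calc N₁ = (P' * P) * N₁ * (P' * P) := by rw [h2, Matrix.one_mul, Matrix.mul_one]
    _ = P' * (P * N₁ * P') * P := by simp only [Matrix.mul_assoc]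
    _ = 0 := by rw [h3, Matrix.mul_zero, Matrix.zero_mul]

include H in
theorem coord_hu (b : F₀) :
    (((conjP P P' h1 h2).comp j (u b) : GL (Fin n) F₀) : Matrix (Fin n) (Fin n) F₀)
      = 1 + b • (P * N₁ * P') + (b * b) • (P * N₂ * P') := by
  rw [MonoidHom.comp_apply, conjP_coe, H.hu, Matrix.mul_add, Matrix.mul_add, Matrix.add_mul,
    Matrix.add_mul, Matrix.mul_one, h1, Matrix.mul_smul, Matrix.smul_mul, Matrix.mul_smul,
    Matrix.smul_mul]

variable (a : GL (Fin n) F) (ε : Fˣ)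
  (hA : gT a * barGL E.toUData a = scalarGL ε * jGL E A₀)

include H hA h1 h2 in
/-- **graph involutions: the criterion in adapted coordinates** -/
theorem graph_coord_core_bot [Fintype F] [Fact r.Prime] [CharP F r]
    (hF : Fintype.card F = q ^ 2) (hn : 3 ≤ n) (h32 : ¬ (n = 3 ∧ q = 2)) (hF2 : (2 : F) ≠ 0)
    (hg : a * (barGL E.toUData a)⁻¹ ∈ HS E.toUData n)
    (hNNP : NNP 2 (S ⧸ Subgroup.center S))
    (𝒢 : Subgroup (MulAut (Cfsg.PSU n F q))) (hinn : ∀ k : Cfsg.PSU n F q, MulAut.conj k ∈ 𝒢) :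
    Cfsg.pPrimeCore 2 ↥(𝒢 ⊓ Subgroup.centralizer
      {gammaU E.toUData ⟨a * (barGL E.toUData a)⁻¹, hg⟩}) = ⊥ :=
  graph_abs_core_bot E a ε A₀ hA ((conjP P P' h1 h2).comp j) (coord_hι P P' h1 h2 A₀ H)
    (coord_hdet P P' h1 h2 A₀ H) hF hn h32 hF2 hg (coord_hN P P' h1 h2 A₀ H)
    (coord_hker P P' h1 h2 A₀ H) hNNP (coord_hcent P P' h1 h2 A₀ H) u (P * N₁ * P') (P * N₂ * P')
    (coord_hN₁ P P' h2 A₀ H) (coord_hu P P' h1 h2 A₀ H) H.hpow 𝒢 hinn

include H hA h1 h2 in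
theorem graph_coord_even [Fintype F] [Finite S] (hF : Fintype.card F = q ^ 2) (hn : 3 ≤ n)
    (hg : a * (barGL E.toUData a)⁻¹ ∈ HS E.toUData n)
    (heven : 2 ∣ Nat.card (S ⧸ Subgroup.center S)) :
    2 ∣ Nat.card ↥(MonoidHom.eqLocus
      (gammaU E.toUData ⟨a * (barGL E.toUData a)⁻¹, hg⟩ : MulAut (Cfsg.PSU n F q)).toMonoidHom
      (MonoidHom.id (Cfsg.PSU n F q))) :=
  graph_abs_even E a ε A₀ hA ((conjP P P' h1 h2).comp j) (coord_hι P P' h1 h2 A₀ H)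
    (coord_hdet P P' h1 h2 A₀ H) hF hn hg (coord_hker P P' h1 h2 A₀ H) heven

end coord

end Cfsg.Agent.Helper7.LBalU
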