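import Mathlib
import Cfsg.Agent.Helper7.LBalU10

set_option autoImplicit false
set_option linter.unusedSectionVars false
set_option linter.unusedSimpArgs false

/-! Skew-symmetric graph involutions of `PSU_{2m}(q)`. -/

namespace Cfsg.Agent.Helper7.LBalU

open Matrix Cfsg.Agent.Helper7.GraphPSL Cfsg.Agent.Helper7.AutPSL Cfsg.Agent.Helper2.Sp
  Cfsg.Agent.Helper7.AutPSp
open Cfsg.Agent.Helper7.GraphSplit (spToGSp spToGSp_coe)
open Cfsg.Agent.Helper7.LBal (NNP NNP_of_simple det_spGLhom mem_center_of_scalar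
  scalar_of_mem_center trSp trSp_mul trSp_M_ne_zero two_dvd_card_PSp odd_card_of_two_ne_zero
  three_le_card_of_odd)

variable {F₀ : Type*} [Field F₀] {m : ℕ}

local notation "Mt" => Matrix (Fin m ⊕ Fin m) (Fin m ⊕ Fin m) F₀
local notation "SpG" => Matrix.symplecticGroup (Fin m) F₀
local notation "GLm" => GL (Fin m ⊕ Fin m) F₀

theorem Mform_skew :
    Mform (Pre m F₀) (skewRep m F₀) = Matrix.J (Fin m) F₀ := Pre_skewRep_Pre m

theorem trSp_pow_char (r : ℕ) [CharP F₀ r] (hm : 1 ≤ m) (a : F₀) : trSp hm a ^ r = 1 := by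
  have h0 : trSp hm (0 : F₀) = 1 := by
    have := trSp_mul hm (0 : F₀) 0
    rw [add_zero] at this
    exact mul_left_cancel (this.trans (mul_one _).symm)
  have hk : ∀ k : ℕ, trSp hm a ^ k = trSp hm (k • a) := by
    intro k
    induction k with
    | zero => rw [pow_zero, zero_smul, h0]
    | succ k ih => rw [pow_succ, ih, trSp_mul, succ_nsmul]
  rw [hk, nsmul_eq_mul, CharP.cast_eq_zero, zero_mul, h0]

/-- the coordinate hypotheses for the symplectic group -/
theorem coordHyp_skew [Fintype F₀] (r : ℕ) [Fact r.Prime] [CharP F₀ r] (hm : 2 ≤ m)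
    (hF2 : (2 : F₀) ≠ 0) :
    CoordHyp (Pre m F₀) (skewRep m F₀) (Cfsg.GSp m F₀) (spGLhom m F₀)
      (trSp (by omega : 1 ≤ m))
      (vecMulVec (Pi.single (Sum.inl ⟨0, by omega⟩) (1 : F₀) : Fin m ⊕ Fin m → F₀)
        ((Pi.single (Sum.inl ⟨0, by omega⟩) (1 : F₀) : Fin m ⊕ Fin m → F₀) ᵥ* Matrix.J (Fin m) F₀))
      0 r := by
  have hm1 : 1 ≤ m := by omega
  have hodd := odd_card_of_two_ne_zero hF2
  have h3 := three_le_card_of_odd hodd
  have hperf : commutator SpG = ⊤ := Cfsg.Agent.S0269.result (F := F₀) m (by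
    rcases Nat.lt_or_ge m 3 with h | h
    · right; left; exact ⟨by omega, h3⟩
    · left; exact h)
  refine ⟨?hS, ?hiso, det_spGLhom (F := F₀) (m := m) hperf, ?hN, ?hker, ?hcent,
    trSp_M_ne_zero hm1, ?hu, trSp_pow_char r hm1⟩
  case hS =>
    intro k
    rw [Mform_skew]
    constructor
    · rintro ⟨c, hc⟩
      exact ⟨c, (form_eq_iff_matrix_eq _ _ _).1 hc⟩
    · rintro ⟨c, hc⟩
      exact ⟨c, (form_eq_iff_matrix_eq _ _ _).2 hc⟩
  case hiso =>
    intro s
    rw [Mform_skew, spGLhom_coe]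
    exact SymplecticGroup.mem_iff'.1 s.2
  case hN =>
    intro k hk s
    exact ⟨conjSp ⟨k, hk⟩ s, spGLhom_conjSp ⟨k, hk⟩ s⟩
  case hker =>
    intro s
    exact ⟨mem_center_of_scalar s, scalar_of_mem_center r hm1 s⟩
  case hcent =>
    intro k hk hc
    have h1 : cSp (⟨k, hk⟩ : ↥(Cfsg.GSp m F₀)) = 1 := by
      ext x
      obtain ⟨t, rfl⟩ := prS_surjective x
      rw [cSp_prS, MulAut.one_apply]
      symm
      rw [prS_eq_iff]
      apply mem_center_of_scalar
      obtain ⟨c, hc⟩ := hc t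
      have e : spGLhom m F₀ (t⁻¹ * conjSp ⟨k, hk⟩ t)
          = (spGLhom m F₀ t)⁻¹ * (k * spGLhom m F₀ t * k⁻¹) := by
        rw [map_mul, map_inv, spGLhom_conjSp]
      rw [e, Cfsg.Geo.mem_scalars_iff]
      have hc0 : c ≠ 0 := by
        rintro rfl
        rw [zero_smul] at hc
        have hu : IsUnit ((k * spGLhom m F₀ t * k⁻¹ : GLm) : Mt) := ⟨_, rfl⟩
        rw [Units.val_mul, Units.val_mul, hc] at hu
        haveI : Nonempty (Fin m ⊕ Fin m) := ⟨Sum.inl ⟨0, by omega⟩⟩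
        exact not_isUnit_zero hu
      refine ⟨Units.mk0 c hc0, ?_⟩
      rw [Units.val_mul, Units.val_mul, Units.val_mul, hc, Matrix.mul_smul, ← Units.val_mul,
        inv_mul_cancel, Units.val_one]
      rfl
    exact (cSp_eq_one_iff r hm1 ⟨k, hk⟩).1 h1
  case hu =>
    intro b
    rw [smul_zero, add_zero]
    rfl

end Cfsg.Agent.Helper7.LBalU
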