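import Mathlib
import Cfsg.Agent.Helper7.LBalU11

set_option autoImplicit false
set_option linter.unusedSectionVars false
set_option linter.unusedSimpArgs false

/-! Skew-symmetric graph involutions of `PSU_{2m}(q)`: the conclusion. -/

namespace Cfsg.Agent.Helper7.LBalU

open Matrix
open Cfsg.Agent.Helper7.GraphPSL (gT gT_coe gT_mul gT_inv gT_gT Pre Pre' Pre_mul_Pre' Pre'_mul_Pre
  skewRep spGLhom)
open Cfsg.Agent.Helper7.GraphPSU
open Cfsg.Agent.Helper7.LBal (NNP NNP_of_simple two_dvd_card_PSp odd_card_of_two_ne_zero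
  three_le_card_of_odd)

variable {F : Type*} [Field F] {q : ℕ} {F₀ : Type*} [Field F₀] (E : UDesc F q F₀) {m : ℕ}

include E in
theorem two_ne_zero_desc (hF2 : (2 : F) ≠ 0) : (2 : F₀) ≠ 0 := by
  intro h
  apply hF2
  have := congrArg E.j h
  rw [map_ofNat, map_zero] at this
  exact this

/-- **skew-symmetric graph involutions of `PSU_{2m}(q)`** -/
theorem graph_skew_U [Fintype F] [Fintype F₀] {r : ℕ} [Fact r.Prime] [CharP F r] (hm : 2 ≤ m)
    (hF : Fintype.card F = q ^ 2) (h32 : ¬ (2 * m = 3 ∧ q = 2)) (hF2 : (2 : F) ≠ 0)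
    (a : GL (Fin (2 * m)) F) (ε : Fˣ)
    (hA : gT a * barGL E.toUData a = scalarGL ε * jGL E (skewRep m F₀))
    (hg : a * (barGL E.toUData a)⁻¹ ∈ HS E.toUData (2 * m))
    (𝒢 : Subgroup (MulAut (Cfsg.PSU (2 * m) F q)))
    (hinn : ∀ k : Cfsg.PSU (2 * m) F q, MulAut.conj k ∈ 𝒢) :
    Cfsg.pPrimeCore 2 ↥(𝒢 ⊓ Subgroup.centralizer
      {gammaU E.toUData ⟨a * (barGL E.toUData a)⁻¹, hg⟩}) = ⊥ ∧
    2 ∣ Nat.card ↥(MonoidHom.eqLocus
      (gammaU E.toUData ⟨a * (barGL E.toUData a)⁻¹, hg⟩ :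
        MulAut (Cfsg.PSU (2 * m) F q)).toMonoidHom (MonoidHom.id (Cfsg.PSU (2 * m) F q))) := by
  classical
  haveI : CharP F₀ r := (RingHom.charP_iff E.j E.j.injective r).2 inferInstance
  have hF₀2 : (2 : F₀) ≠ 0 := two_ne_zero_desc E hF2
  have hm1 : 1 ≤ m := by omega
  have hodd := odd_card_of_two_ne_zero hF₀2
  have h3 := three_le_card_of_odd hodd
  have H := coordHyp_skew (F₀ := F₀) r hm hF₀2
  haveI := Cfsg.Agent.S0270.result (F := F₀) m hm (fun _ => h3)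
  have heven := two_dvd_card_PSp (F := F₀) r hm1
  constructor
  · exact graph_coord_core_bot E (Pre m F₀) (Pre' m F₀) (Pre_mul_Pre' m) (Pre'_mul_Pre m)
      (skewRep m F₀) H a ε hA hF (by omega) h32 hF2 hg
      (NNP_of_simple Nat.prime_two heven) 𝒢 hinn
  · exact graph_coord_even E (Pre m F₀) (Pre' m F₀) (Pre_mul_Pre' m) (Pre'_mul_Pre m)
      (skewRep m F₀) H a ε hA hF (by omega) hg heven

end Cfsg.Agent.Helper7.LBalU
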