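import Mathlib
import Cfsg.Agent.Helper7.LBalU12

set_option autoImplicit false
set_option linter.unusedSectionVars false
set_option linter.unusedSimpArgs false

/-! Symmetric graph involutions of `PSU_n(q)`: the coordinate hypotheses for `Ω(Q)`. -/

namespace Cfsg.Agent.Helper7.LBalU

open Matrix Cfsg.Agent.Helper28.IsoTransport Cfsg.Agent.Helper28.Spin Cfsg.Agent.Helper28.Sg
  Cfsg.Agent.Helper28.PG
open Cfsg.Agent.Helper7.GraphPSL (form_eq_iff_matrix_eq mem_quadSimilarityGroup_iff)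
open Cfsg.Agent.Helper7.LBal (HPair siegOm siegOm_pow famN₁ famN₂ famN₁_ne_zero siegM_smul_eq
  scalar_of_proj_commute det_eq_one_of_mem_Omega)

variable {F₀ : Type*} [Field F₀] {n : ℕ}
variable {ι' : Type} [Fintype ι'] [DecidableEq ι']
variable (Q : QuadraticForm F₀ (ι' → F₀))

/-- the inclusion `Ω(Q) → GL` -/
def omGL : ↥(Cfsg.Omega F₀ ⇑Q) →* GL ι' F₀ :=
  (Subgroup.subtype _).comp (Subgroup.subtype _)

theorem omGL_coe (s : ↥(Cfsg.Omega F₀ ⇑Q)) :
    ((omGL Q s : GL ι' F₀) : Matrix ι' ι' F₀) = mt Q (s : ↥(Cfsg.isometryGroup F₀ ⇑Q)) := rfl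

variable {Q}

/-- the coordinate hypotheses for `Ω(Q)` -/
theorem coordHyp_sym [Nonempty ι'] (r : ℕ) [Fact r.Prime] [CharP F₀ r] (hF2 : (2 : F₀) ≠ 0)
    (hQ : (QuadraticMap.polarBilin Q).Nondegenerate) (D : HPair Q)
    (P : Matrix (Fin n) ι' F₀) (A₀ : GL (Fin n) F₀)
    (hpol : ∀ u v : ι' → F₀, QuadraticMap.polar ⇑Q u v = 2 * (u ⬝ᵥ Mform P A₀ *ᵥ v)) :
    CoordHyp P A₀ (GO Q) (omGL Q) (siegOm hF2 D) (famN₁ Q D.e D.v) (famN₂ Q D.e D.v) r := by
  refine ⟨?hS, ?hiso, ?hdet, ?hN, ?hker, ?hcent, famN₁_ne_zero D, ?hu, ?hpow⟩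
  case hS =>
    intro k
    exact mem_quadSimilarityGroup_iff hF2 Q (Mform P A₀) 2 hF2 hpol k
  case hiso =>
    intro s
    have hs := (mem_isometryGroup_iff (⇑Q) _).1 (s : ↥(Cfsg.isometryGroup F₀ ⇑Q)).2
    have h1 := (form_eq_iff_matrix_eq ((omGL Q s : GL ι' F₀) : Matrix ι' ι' F₀) (Mform P A₀) 1).1
      (by
        intro u v
        have e1 := hpol (((omGL Q s : GL ι' F₀) : Matrix ι' ι' F₀) *ᵥ u)
          (((omGL Q s : GL ι' F₀) : Matrix ι' ι' F₀) *ᵥ v)
        have e2 : QuadraticMap.polar ⇑Q (((omGL Q s : GL ι' F₀) : Matrix ι' ι' F₀) *ᵥ u)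
            (((omGL Q s : GL ι' F₀) : Matrix ι' ι' F₀) *ᵥ v) = QuadraticMap.polar ⇑Q u v := by
          unfold QuadraticMap.polar
          rw [← Matrix.mulVec_add]
          show Q (mt Q s.1 *ᵥ (u + v)) - Q (mt Q s.1 *ᵥ u) - Q (mt Q s.1 *ᵥ v) = _
          rw [hs, hs, hs]
        rw [e2, hpol] at e1
        rw [one_mul]
        exact (mul_left_cancel₀ hF2 e1).symm)
    rw [one_smul] at h1
    exact h1
  case hdet =>
    intro s
    exact det_eq_one_of_mem_Omega _ s.2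
  case hN =>
    intro k hk s
    exact ⟨conjΩ Q ⟨k, hk⟩ s, rfl⟩
  case hker =>
    intro s
    constructor
    · intro hs
      rw [Cfsg.Geo.mem_scalars_iff] at hs
      obtain ⟨c, hc⟩ := hs
      rw [Subgroup.mem_center_iff]
      intro t
      apply Subtype.ext
      apply Subtype.ext
      apply Units.ext
      show mt Q t.1 * mt Q s.1 = mt Q s.1 * mt Q t.1
      have : mt Q s.1 = (c : F₀) • (1 : Matrix ι' ι' F₀) := hc
      rw [this, Matrix.mul_smul, Matrix.smul_mul, Matrix.mul_one, Matrix.one_mul]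
    · intro hs
      rw [Subgroup.mem_center_iff] at hs
      have h3 : ∃ α : F₀, mt Q s.1 = α • (1 : Matrix ι' ι' F₀) := by
        apply scalar_of_proj_commute (r := r) hF2 hQ D (mt Q s.1) (mt Q s.1⁻¹)
          (by rw [← mt_mul, mul_inv_cancel, mt_one]) (by rw [← mt_mul, inv_mul_cancel, mt_one])
        intro t ht
        refine ⟨1, ?_⟩
        have h3 := hs ⟨t, ht⟩
        have h4 : t * s.1 = s.1 * t :=
          congrArg (fun z : ↥(Cfsg.Omega F₀ ⇑Q) => (z : ↥(Cfsg.isometryGroup F₀ ⇑Q))) h3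
        rw [one_smul, ← mt_mul, ← mt_mul, ← h4, mul_inv_cancel_right]
      obtain ⟨α, hα⟩ := h3
      have hα0 : α ≠ 0 := by
        rintro rfl
        rw [zero_smul] at hα
        have hu : IsUnit (mt Q s.1) := ⟨(s.1 : GL ι' F₀), rfl⟩
        rw [hα] at hu
        exact not_isUnit_zero hu
      rw [Cfsg.Geo.mem_scalars_iff]
      exact ⟨Units.mk0 α hα0, hα⟩
  case hcent =>
    intro k hk hc
    have h3 : ∃ α : F₀, (k : Matrix ι' ι' F₀) = α • (1 : Matrix ι' ι' F₀) := by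
      apply scalar_of_proj_commute (r := r) hF2 hQ D (k : Matrix ι' ι' F₀)
        ((k⁻¹ : GL ι' F₀) : Matrix ι' ι' F₀)
        (by rw [← Units.val_mul, mul_inv_cancel, Units.val_one])
        (by rw [← Units.val_mul, inv_mul_cancel, Units.val_one])
      intro t ht
      exact hc ⟨t, ht⟩
    obtain ⟨α, hα⟩ := h3
    have hα0 : α ≠ 0 := by
      rintro rfl
      rw [zero_smul] at hα
      have hu : IsUnit (k : Matrix ι' ι' F₀) := ⟨k, rfl⟩
      rw [hα] at hu
      exact not_isUnit_zero hu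
    rw [Cfsg.Geo.mem_scalars_iff]
    exact ⟨Units.mk0 α hα0, hα⟩
  case hu =>
    intro b
    exact siegM_smul_eq D.e D.v b
  case hpow =>
    intro b
    exact siegOm_pow hF2 D b r

end Cfsg.Agent.Helper7.LBalU
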