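import Mathlib
import Cfsg.Agent.Helper7.LBalU13

set_option autoImplicit false
set_option linter.unusedSectionVars false
set_option linter.unusedSimpArgs false

/-! Symmetric graph involutions of `PSU_n(q)`: the conclusion. -/

namespace Cfsg.Agent.Helper7.LBalU

open Matrix Cfsg.Agent.Helper28.IsoTransport Cfsg.Agent.Helper28.Spin Cfsg.Agent.Helper28.Sg
  Cfsg.Agent.Helper28.QPlus Cfsg.Agent.Helper7.OrthUni
open Cfsg.Agent.Helper7.GraphPSL (gT gT_coe gT_mul gT_inv gT_gT polar_of_isometry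
  exists_anisotropic gram_Qp_det_isSquare_iff gram_Qm_det_isSquare_iff)
open Cfsg.Agent.Helper7.GraphPSU
open Cfsg.Agent.Helper7.LBal (NNP HPair hsq_of_iff Qp_eq_QfPlus Qm_eq_QfMinus
  odd_card_of_two_ne_zero hpairPlus hpairMinus hpairOdd NNP_two_odd NNP_two_plus NNP_two_minus
  two_dvd_card_POmega)

variable {F : Type*} [Field F] {n q : ℕ} {F₀ : Type*} [Field F₀] (E : UDesc F q F₀)
variable {ι' : Type} [Fintype ι'] [DecidableEq ι']

/-- coordinates adapted to a quadratic form of the right discriminant, polar form -/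
theorem exists_PolHyp [Fintype F₀] (h2 : (2 : F₀) ≠ 0) (g₀ : GL (Fin n) F₀)
    (hsym : (g₀ : Matrix (Fin n) (Fin n) F₀)ᵀ = (g₀ : Matrix (Fin n) (Fin n) F₀))
    (Q' : QuadraticForm F₀ (ι' → F₀)) (hQ' : (QuadraticMap.polarBilin Q').Nondegenerate)
    (hcard : Fintype.card ι' = n)
    (hsq : IsSquare (((2 : F₀) • (g₀ : Matrix (Fin n) (Fin n) F₀)).det * (gram Q').det)) :
    ∃ (P : Matrix (Fin n) ι' F₀) (P' : Matrix ι' (Fin n) F₀), P * P' = 1 ∧ P' * P = 1 ∧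
      ∀ u v : ι' → F₀, QuadraticMap.polar ⇑Q' u v = 2 * (u ⬝ᵥ Mform P g₀ *ᵥ v) := by
  set G : Matrix (Fin n) (Fin n) F₀ := (g₀ : Matrix (Fin n) (Fin n) F₀) with hG
  have hsym2 : ((2 : F₀) • G)ᵀ = (2 : F₀) • G := by rw [Matrix.transpose_smul, hsym]
  have hu : IsUnit ((2 : F₀) • G) := by
    rw [Matrix.isUnit_iff_isUnit_det, Matrix.det_smul]
    exact (IsUnit.pow _ (isUnit_iff_ne_zero.2 h2)).mul
      ((Matrix.isUnit_iff_isUnit_det _).1 g₀.isUnit)
  obtain ⟨g, hg⟩ := exists_isometry_of_disc h2 (qf ((2 : F₀) • G)) Q'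
    (qf_nondeg h2 hsym2 hu) hQ' (by rw [Fintype.card_fin, hcard])
    (by rw [gram_qf h2 hsym2]; exact hsq)
  have hg' : ∀ v, Q' (g v) = v ⬝ᵥ G *ᵥ v := by
    intro v
    rw [hg, qf_apply, Matrix.smul_mulVec, dotProduct_smul, smul_eq_mul, ← mul_assoc,
      inv_mul_cancel₀ h2, one_mul]
  set P := LinearMap.toMatrix' g.symm.toLinearMap with hP
  set P' := LinearMap.toMatrix' g.toLinearMap with hP'
  have h1 : P * P' = 1 := by
    rw [hP, hP', ← LinearMap.toMatrix'_comp]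
    have : g.symm.toLinearMap ∘ₗ g.toLinearMap = LinearMap.id := by
      ext v
      simp
    rw [this, LinearMap.toMatrix'_id]
  have h1' : P' * P = 1 := by
    rw [hP, hP', ← LinearMap.toMatrix'_comp]
    have : g.toLinearMap ∘ₗ g.symm.toLinearMap = LinearMap.id := by
      ext v
      simp
    rw [this, LinearMap.toMatrix'_id]
  exact ⟨P, P', h1, h1', polar_of_isometry hsym Q' g hg'⟩

/-- **symmetric graph involutions of `PSU_n(q)`**, with a given quadratic form -/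
theorem graph_sym_U_aux [Fintype F] [Fintype F₀] [Nonempty ι'] {r : ℕ} [Fact r.Prime] [CharP F r]
    (hF : Fintype.card F = q ^ 2) (hn : 3 ≤ n) (h32 : ¬ (n = 3 ∧ q = 2)) (hF2 : (2 : F) ≠ 0)
    (a : GL (Fin n) F) (ε : Fˣ) (A₀ : GL (Fin n) F₀)
    (hA : gT a * barGL E.toUData a = scalarGL ε * jGL E A₀)
    (hg : a * (barGL E.toUData a)⁻¹ ∈ HS E.toUData n)
    (hsym : (A₀ : Matrix (Fin n) (Fin n) F₀)ᵀ = (A₀ : Matrix (Fin n) (Fin n) F₀))
    (Q' : QuadraticForm F₀ (ι' → F₀)) (hQ' : (QuadraticMap.polarBilin Q').Nondegenerate)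
    (hcard : Fintype.card ι' = n)
    (hsq : IsSquare (((2 : F₀) • (A₀ : Matrix (Fin n) (Fin n) F₀)).det * (gram Q').det))
    (D : HPair Q') (hNNP : NNP 2 (Cfsg.POmega F₀ ⇑Q'))
    (𝒢 : Subgroup (MulAut (Cfsg.PSU n F q))) (hinn : ∀ k : Cfsg.PSU n F q, MulAut.conj k ∈ 𝒢) :
    Cfsg.pPrimeCore 2 ↥(𝒢 ⊓ Subgroup.centralizer
      {gammaU E.toUData ⟨a * (barGL E.toUData a)⁻¹, hg⟩}) = ⊥ ∧
    2 ∣ Nat.card ↥(MonoidHom.eqLocus
      (gammaU E.toUData ⟨a * (barGL E.toUData a)⁻¹, hg⟩ :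
        MulAut (Cfsg.PSU n F q)).toMonoidHom (MonoidHom.id (Cfsg.PSU n F q))) := by
  classical
  haveI : CharP F₀ r := (RingHom.charP_iff E.j E.j.injective r).2 inferInstance
  have hF₀2 : (2 : F₀) ≠ 0 := two_ne_zero_desc E hF2
  obtain ⟨P, P', h1, h2, hpol⟩ := exists_PolHyp hF₀2 A₀ hsym Q' hQ' hcard hsq
  have H := coordHyp_sym (n := n) r hF₀2 hQ' D P A₀ hpol
  have heven := two_dvd_card_POmega r hF₀2 hQ' D
  constructor
  · exact graph_coord_core_bot E P P' h1 h2 A₀ H a ε hA hF hn h32 hF2 hg hNNP 𝒢 hinn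
  · exact graph_coord_even E P P' h1 h2 A₀ H a ε hA hF hn hg heven

end Cfsg.Agent.Helper7.LBalU
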