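import Mathlib
import Cfsg.Agent.Helper7.LBalU14

set_option autoImplicit false
set_option linter.unusedSectionVars false
set_option linter.unusedSimpArgs false

/-! Symmetric graph involutions of `PSU_n(q)`: all dimensions. -/

namespace Cfsg.Agent.Helper7.LBalU

open Matrix Cfsg.Agent.Helper28.IsoTransport Cfsg.Agent.Helper28.Spin Cfsg.Agent.Helper28.Sg
  Cfsg.Agent.Helper28.QPlus Cfsg.Agent.Helper7.OrthUni
open Cfsg.Agent.Helper7.GraphPSL (gT gT_coe gT_mul gT_inv gT_gT polar_of_isometry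
  exists_anisotropic gram_Qp_det_isSquare_iff gram_Qm_det_isSquare_iff)
open Cfsg.Agent.Helper7.GraphPSU
open Cfsg.Agent.Helper7.LBal (NNP HPair hsq_of_iff Qp_eq_QfPlus Qm_eq_QfMinus
  odd_card_of_two_ne_zero hpairPlus hpairMinus hpairOdd NNP_two_odd NNP_two_plus NNP_two_minus
  two_dvd_card_POmega)

variable {F : Type*} [Field F] {n q : ℕ} {F₀ : Type*} [Field F₀] (E : UDesc F q F₀)

/-- **symmetric graph involutions of `PSU_n(q)`, all dimensions** -/
theorem graph_sym_U [Fintype F] [Fintype F₀] {r : ℕ} [Fact r.Prime] [CharP F r]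
    (hF : Fintype.card F = q ^ 2) (hn : 3 ≤ n) (h32 : ¬ (n = 3 ∧ q = 2)) (hF2 : (2 : F) ≠ 0)
    (a : GL (Fin n) F) (ε : Fˣ) (A₀ : GL (Fin n) F₀)
    (hA : gT a * barGL E.toUData a = scalarGL ε * jGL E A₀)
    (hg : a * (barGL E.toUData a)⁻¹ ∈ HS E.toUData n)
    (hsym : (A₀ : Matrix (Fin n) (Fin n) F₀)ᵀ = (A₀ : Matrix (Fin n) (Fin n) F₀))
    (𝒢 : Subgroup (MulAut (Cfsg.PSU n F q))) (hinn : ∀ k : Cfsg.PSU n F q, MulAut.conj k ∈ 𝒢) :
    Cfsg.pPrimeCore 2 ↥(𝒢 ⊓ Subgroup.centralizer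
      {gammaU E.toUData ⟨a * (barGL E.toUData a)⁻¹, hg⟩}) = ⊥ ∧
    2 ∣ Nat.card ↥(MonoidHom.eqLocus
      (gammaU E.toUData ⟨a * (barGL E.toUData a)⁻¹, hg⟩ :
        MulAut (Cfsg.PSU n F q)).toMonoidHom (MonoidHom.id (Cfsg.PSU n F q))) := by
  classical
  have hF₀2 : (2 : F₀) ≠ 0 := two_ne_zero_desc E hF2
  have hodd := odd_card_of_two_ne_zero hF₀2
  rcases Nat.even_or_odd' n with ⟨m, hm | hm⟩
  · -- even dimension
    subst hm
    have hm2 : 2 ≤ m := by omega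
    by_cases hiff : IsSquare (A₀ : Matrix (Fin (2 * m)) (Fin (2 * m)) F₀).det
        ↔ Even (m * (Fintype.card F₀ - 1) / 2)
    · haveI : Nonempty (Fin m ⊕ Fin m) := ⟨Sum.inl ⟨0, by omega⟩⟩
      apply graph_sym_U_aux E hF hn h32 hF2 a ε A₀ hA hg hsym (QfPlus m F₀) (QfPlus_nondeg m)
        (by simp; ring) _ (hpairPlus m hm2) (NNP_two_plus hodd m hm2) 𝒢 hinn
      apply hsq_of_iff hF₀2 A₀ _ (QfPlus_nondeg m)
      rw [hiff, ← Qp_eq_QfPlus, gram_Qp_det_isSquare_iff hodd (by omega)]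
    · obtain ⟨a', c, hac, hac'⟩ := exists_anisotropic (F := F₀) hF₀2
      apply graph_sym_U_aux E hF hn h32 hF2 a ε A₀ hA hg hsym (QfMinus (m - 1) F₀ a' c)
        (Cfsg.Agent.S2171.QfMinus_nondeg_of (m - 1) a' c hac')
        (by simp only [Fintype.card_sum, Fintype.card_fin]; omega) _
        (hpairMinus (m - 1) (by omega) a' c)
        (NNP_two_minus hodd (m - 1) (by omega) a' c hac hac') 𝒢 hinn
      apply hsq_of_iff hF₀2 A₀ _ (Cfsg.Agent.S2171.QfMinus_nondeg_of (m - 1) a' c hac')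
      rw [← Qm_eq_QfMinus, gram_Qm_det_isSquare_iff hodd (by omega) a' c hac]
      tauto
  · -- odd dimension
    subst hm
    have hm1 : 1 ≤ m := by omega
    set Q' := Cfsg.Agent.S2614.QfOdd m F₀ with hQ'
    have hQnd : (QuadraticMap.polarBilin Q').Nondegenerate :=
      Cfsg.Agent.Helper21.OC.QfOdd_nondeg_of hF₀2 m
    have hd : (gram Q').det ≠ 0 := (nondeg_iff_det Q').1 hQnd
    have hd0 : ((2 : F₀) • (A₀ : Matrix (Fin (2 * m + 1)) (Fin (2 * m + 1)) F₀)).det ≠ 0 := by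
      rw [Matrix.det_smul]
      exact mul_ne_zero (pow_ne_zero _ hF₀2) ((Matrix.isUnit_iff_isUnit_det _).1 A₀.isUnit).ne_zero
    set c : F₀ := ((2 : F₀) • (A₀ : Matrix (Fin (2 * m + 1)) (Fin (2 * m + 1)) F₀)).det
      * (gram Q').det with hc
    have hc0 : c ≠ 0 := mul_ne_zero hd0 hd
    set c' : F₀ˣ := Units.mk0 c hc0 with hc'
    have hcoe : ((scalarGL c' * A₀ : GL (Fin (2 * m + 1)) F₀) :
        Matrix (Fin (2 * m + 1)) (Fin (2 * m + 1)) F₀)
        = c • (A₀ : Matrix (Fin (2 * m + 1)) (Fin (2 * m + 1)) F₀) := by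
      rw [Units.val_mul, scalarGL_coe, Matrix.smul_mul, Matrix.one_mul, hc', Units.val_mk0]
    have hA' : gT a * barGL E.toUData a
        = scalarGL (ε * (Units.map (E.j : F₀ →* F) c')⁻¹) * jGL E (scalarGL c' * A₀) := by
      rw [hA, map_mul, jGL_scalarGL, scalarGL_mul, scalarGL_inv]
      group
    apply graph_sym_U_aux E hF hn h32 hF2 a _ (scalarGL c' * A₀) hA' hg
      (by rw [hcoe, Matrix.transpose_smul, hsym]) Q' hQnd
      (by simp only [Fintype.card_sum, Fintype.card_fin, Fintype.card_unit]; omega) _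
      (hpairOdd m hm1) (NNP_two_odd hodd m hm1) 𝒢 hinn
    rw [hcoe, smul_comm, Matrix.det_smul, Fintype.card_fin, mul_assoc, ← hc]
    exact ⟨c ^ (m + 1), by ring⟩

end Cfsg.Agent.Helper7.LBalU
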