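import Mathlib
import Cfsg.Agent.Helper7.LBalU15

set_option autoImplicit false
set_option linter.unusedSectionVars false
set_option linter.unusedSimpArgs false

/-! Graph involutions of `PSU_n(q)`: the `2'`-core of the centralizer is trivial and the
centralizer in `PSU_n(q)` has even order. -/

namespace Cfsg.Agent.Helper7.LBalU

open Matrix
open Cfsg.Agent.Helper7.GraphPSL (gT gT_coe gT_mul gT_inv gT_gT skewRep isConjUnder_of_skew
  isConjUnder_graphAut_iff not_skew_of_odd)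
open Cfsg.Agent.Helper7.GraphPSU

variable {F : Type*} [Field F] {n q : ℕ} {F₀ : Type*} [Field F₀] (E : UDesc F q F₀)

theorem hA_congr (a : GL (Fin n) F) (ε : Fˣ) (A₀ : GL (Fin n) F₀)
    (hA : gT a * barGL E.toUData a = scalarGL ε * jGL E A₀) (m : GL (Fin n) F₀) :
    gT (a * jGL E m) * barGL E.toUData (a * jGL E m)
      = scalarGL ε * jGL E (gT m * A₀ * m) := by
  rw [gT_mul, map_mul, barGL_jGL, map_mul, map_mul, jGL_gT]
  calc gT (jGL E m) * gT a * (barGL E.toUData a * jGL E m)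
      = gT (jGL E m) * (gT a * barGL E.toUData a) * jGL E m := by group
    _ = gT (jGL E m) * (scalarGL ε * jGL E A₀) * jGL E m := by rw [hA]
    _ = (gT (jGL E m) * scalarGL ε) * jGL E A₀ * jGL E m := by group
    _ = (scalarGL ε * gT (jGL E m)) * jGL E A₀ * jGL E m := by rw [scalarGL_comm]
    _ = _ := by group

theorem elt_congr (a : GL (Fin n) F) (m : GL (Fin n) F₀) :
    (a * jGL E m) * (barGL E.toUData (a * jGL E m))⁻¹ = a * (barGL E.toUData a)⁻¹ := by
  rw [map_mul, barGL_jGL]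
  group

theorem two_ne_zero_of_char {r : ℕ} [Fact r.Prime] [CharP F r] (hr2 : r ≠ 2) : (2 : F) ≠ 0 := by
  intro h
  have h1 : ((2 : ℕ) : F) = 0 := by exact_mod_cast h
  rw [CharP.cast_eq_zero_iff F r] at h1
  exact hr2 ((Nat.prime_dvd_prime_iff_eq (Fact.out) Nat.prime_two).1 h1)

/-- **related graph involutions** -/
theorem graph_rel_U [Fintype F] [Fintype F₀] {r : ℕ} [Fact r.Prime] [CharP F r]
    (hF : Fintype.card F = q ^ 2) (hn : 3 ≤ n) (h32 : ¬ (n = 3 ∧ q = 2)) (hF2 : (2 : F) ≠ 0)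
    (γ : MulAut (Cfsg.PSU n F q)) (A₀ : GL (Fin n) F₀) (hr : Rel E γ A₀)
    (𝒢 : Subgroup (MulAut (Cfsg.PSU n F q))) (hinn : ∀ k : Cfsg.PSU n F q, MulAut.conj k ∈ 𝒢) :
    Cfsg.pPrimeCore 2 ↥(𝒢 ⊓ Subgroup.centralizer {γ}) = ⊥ ∧
    2 ∣ Nat.card ↥(MonoidHom.eqLocus γ.toMonoidHom (MonoidHom.id (Cfsg.PSU n F q))) := by
  classical
  haveI : NeZero n := ⟨by omega⟩
  have hF₀2 : (2 : F₀) ≠ 0 := two_ne_zero_desc E hF2
  rcases rel_symm_or_skew E hr with hsym | hskew
  · obtain ⟨a, ε, hg, rfl, hA⟩ := hr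
    exact graph_sym_U E hF hn h32 hF2 a ε A₀ hA hg hsym 𝒢 hinn
  · rcases Nat.even_or_odd' n with ⟨m, hm | hm⟩
    · subst hm
      have hm2 : 2 ≤ m := by omega
      obtain ⟨a, ε, hg, rfl, hA⟩ := hr
      have h1 := isConjUnder_of_skew m hF₀2 A₀ hskew
      rw [isConjUnder_graphAut_iff] at h1
      obtain ⟨k, c, hkc⟩ := h1
      -- `m₀ = (kᵀ)⁻¹`
      set m₀ : GL (Fin (2 * m)) F₀ := (gT k)⁻¹ with hm₀
      have hAk : gT m₀ * A₀ * m₀ = scalarGL c * skewRep m F₀ := by
        have hA₀ : A₀ = scalarGL c * (k * skewRep m F₀ * gT k) := by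
          apply Units.ext
          rw [hkc, Units.val_mul, scalarGL_coe, Matrix.smul_mul, Matrix.one_mul, Units.val_mul,
            Units.val_mul, gT_coe]
        rw [hm₀, gT_inv, gT_gT, hA₀]
        calc k⁻¹ * (scalarGL c * (k * skewRep m F₀ * gT k)) * (gT k)⁻¹
            = k⁻¹ * (scalarGL c * k) * skewRep m F₀ := by group
          _ = k⁻¹ * (k * scalarGL c) * skewRep m F₀ := by rw [scalarGL_comm]
          _ = _ := by group
      have hA' : gT (a * jGL E m₀) * barGL E.toUData (a * jGL E m₀)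
          = scalarGL (ε * Units.map (E.j : F₀ →* F) c) * jGL E (skewRep m F₀) := by
        rw [hA_congr E a ε A₀ hA m₀, hAk, map_mul, jGL_scalarGL, scalarGL_mul, mul_assoc]
      have hel := elt_congr E a m₀
      have hg' : (a * jGL E m₀) * (barGL E.toUData (a * jGL E m₀))⁻¹ ∈ HS E.toUData (2 * m) := by
        rw [hel]; exact hg
      have hγ : gammaU E.toUData ⟨a * (barGL E.toUData a)⁻¹, hg⟩
          = gammaU E.toUData ⟨(a * jGL E m₀) * (barGL E.toUData (a * jGL E m₀))⁻¹, hg'⟩ := by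
        congr 1
        apply Subtype.ext
        exact hel.symm
      rw [hγ]
      exact graph_skew_U E hm2 hF (by omega) hF2 (a * jGL E m₀) _ hA' hg' 𝒢 hinn
    · exfalso
      exact not_skew_of_odd hF₀2 ⟨m, hm⟩ A₀ hskew

end Cfsg.Agent.Helper7.LBalU
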