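import Mathlib
import Cfsg.Agent.Helper7.LBalU16
import Cfsg.Agent.S0282

set_option autoImplicit false
set_option linter.unusedSectionVars false
set_option linter.unusedSimpArgs false

/-! The failure of local balance in `Aut(PSU_n(q))`: assembly. -/

namespace Cfsg.Agent.Helper7.LBalU

open Matrix
open Cfsg.Agent.Helper7.GraphPSU

variable {F : Type*} [Field F] {n q : ℕ}

/-- a simple `PSU_n(q)` is not `PSU_3(2)` -/
theorem not_three_two_of_simple [Fintype F] (hF : Fintype.card F = q ^ 2) (hn : 3 ≤ n)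
    [hK : IsSimpleGroup (Cfsg.PSU n F q)] : ¬ (n = 3 ∧ q = 2) := by
  rintro ⟨rfl, rfl⟩
  have hZ := center_PSU_bot hF hn
  have hsolv : Group.IsSolvable (Cfsg.PSU 3 F 2) := (Cfsg.Agent.S0282.result (by rw [hF]; norm_num)).2
  have hcomm := IsSimpleGroup.comm_iff_isSolvable.2 hsolv
  have htop : Subgroup.center (Cfsg.PSU 3 F 2) = ⊤ := by
    rw [eq_top_iff]
    intro z _
    rw [Subgroup.mem_center_iff]
    intro y
    exact hcomm y z
  rw [hZ] at htop
  haveI := hK.toNontrivial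
  exact bot_ne_top htop

/-- **failure of local balance for `PSU_n(q)`** -/
theorem main_PSU [Fintype F] (r : ℕ) [Fact r.Prime] [CharP F r] (hF : Fintype.card F = q ^ 2)
    (hn : 3 ≤ n) (hK : IsSimpleGroup (Cfsg.PSU n F q))
    (𝒢 : Subgroup (MulAut (Cfsg.PSU n F q))) (hinn : ∀ k : Cfsg.PSU n F q, MulAut.conj k ∈ 𝒢)
    (p : ℕ) [hp : Fact p.Prime] (hpr : p ≠ r) (β : MulAut (Cfsg.PSU n F q))
    (hord : orderOf β = p) (hnot : ¬ Cfsg.IsInnerDiagonalAutPSU β) :
    Cfsg.pPrimeCore p ↥(𝒢 ⊓ Subgroup.centralizer {β}) ≠ ⊥ ↔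
      ((∃ γ φ : MulAut (Cfsg.PSU n F q), Cfsg.IsInnerDiagonalAutPSU γ ∧
        (∃ σ : F ≃+* F, Cfsg.IsFieldAutPSUOf σ φ) ∧ β = φ.trans γ) ∧
        Nat.Coprime p (Nat.card ↥(MonoidHom.eqLocus β.toMonoidHom
          (MonoidHom.id (Cfsg.PSU n F q))))) := by
  classical
  haveI : NeZero n := ⟨by omega⟩
  have h32 : ¬ (n = 3 ∧ q = 2) := not_three_two_of_simple hF hn
  obtain ⟨f, hf, hq⟩ := exists_q_pow (r := r) hF
  -- the fixed field of the involution
  have hf0 : f ≠ 0 := by omega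
  let F₀ := GaloisField r f
  haveI : Fintype F₀ := Fintype.ofFinite _
  have hF₀ : Fintype.card F₀ = q := by
    rw [← Nat.card_eq_fintype_card, hq]
    exact GaloisField.card r f hf0
  obtain ⟨E⟩ := exists_UDesc (F₀ := F₀) hF hF₀
  set U : UData F q := E.toUData with hU
  obtain ⟨x, τ, hβ⟩ := Cfsg.Agent.Helper7.AutPSU.aut_PSU U hF hn h32 β
  have hτ1 : τ ≠ 1 := by
    intro h1
    apply hnot
    rw [hβ, h1, map_one, mul_one]
    exact isInnerDiagonalAutPSU_cU U x
  have hfirst : ∃ γ φ : MulAut (Cfsg.PSU n F q), Cfsg.IsInnerDiagonalAutPSU γ ∧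
      (∃ σ : F ≃+* F, Cfsg.IsFieldAutPSUOf σ φ) ∧ β = φ.trans γ :=
    ⟨cU U x, phiU U τ, isInnerDiagonalAutPSU_cU U x, ⟨τ, (isFieldAutPSUOf_iff U τ _).2 rfl⟩, hβ⟩
  rw [and_iff_right hfirst]
  by_cases hp2 : p = 2
  · subst hp2
    have hr2 : r ≠ 2 := fun h => hpr h.symm
    have hF2 : (2 : F) ≠ 0 := two_ne_zero_of_char hr2
    have hτ2 : τ ^ 2 = 1 := by
      have h1 := Cfsg.Agent.Helper7.AutPSU.psiHom_apply U hF hn h32 hβ
      rw [← h1, ← map_pow, ← hord, pow_orderOf_eq_one, map_one]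
    have hτbar : τ = U.bar := by
      apply invol_unique
      · intro y
        have := DFunLike.congr_fun hτ2 y
        rw [pow_two] at this
        exact this
      · exact U.bar_bar
      · exact hτ1
      · exact bar_ne_refl U
    have hβγ : β = gammaU U x := by rw [hβ, hτbar]; rfl
    have hgr : Cfsg.IsGraphAutClassPSU β := by
      rw [hβγ]
      exact isGraphAutClassPSU_gammaU U hn x
    obtain ⟨A₀, hr⟩ := exists_rel E hn β hgr hord
    obtain ⟨hcore, heven⟩ := graph_rel_U E hF hn h32 hF2 β A₀ hr 𝒢 hinn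
    constructor
    · intro hne
      exact absurd hcore hne
    · intro hcop
      exfalso
      have := Nat.Coprime.eq_one_of_dvd hcop heven
      omega
  · have hpodd : Odd p := hp.out.odd_of_ne_two hp2
    subst hβ
    exact field_core_iff_U U hF hn h32 𝒢 hinn x τ hτ1 p hpr hpodd hord

end Cfsg.Agent.Helper7.LBalU
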