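import Mathlib
import Cfsg.Prelude.Def_Balance
import Cfsg.Agent.Helper7.Automizer

set_option autoImplicit false
set_option linter.style.haveILetI false
set_option linter.unusedSectionVars false

/-! # Local balance of the components of `C_G(x)/O(C_G(x))` gives balance (S1297) -/

namespace Cfsg.Agent.Helper7

open Subgroup Cfsg
open scoped Pointwise commutatorElement
open Cfsg.Agent.Helper19 (pPrimeCore_coprime)

universe u

variable {G : Type u} [Group G] [Finite G]

theorem core_inf_centralizer_le_of_locallyBalanced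
    (h : ∀ x : G, orderOf x = 2 → ∀ K : Subgroup (↥(centralizer ({x} : Set G)) ⧸
      oddCore ↥(centralizer ({x} : Set G))), IsComponent K →
      IsLocallyBalanced (↥K ⧸ center ↥K))
    {x y : G} (hx : orderOf x = 2) (hy : orderOf y = 2) (hxy : x * y = y * x) :
    centralizerPPrimeCore 2 x ⊓ centralizer {y} ≤ centralizerPPrimeCore 2 y := by
  haveI : Fact (Nat.Prime 2) := ⟨Nat.prime_two⟩
  set C := centralizer ({y} : Set G) with hC
  have hxC : x ∈ C := mem_centralizer_singleton_iff.2 hxy
  set W := pPrimeCore 2 ↥C with hW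
  set π := QuotientGroup.mk' W with hπ
  set xC : C := ⟨x, hxC⟩ with hxCdef
  have hR := map_mk_core_inf_le (p := 2) C hxC hx
  have hbal : IsBalancedFor 2 (↥C ⧸ W) := by
    apply isBalancedFor_of_component_automizers_balanced (pPrimeCore_quotient_eq_bot 2)
    intro L hL H hLH hLn hKn
    exact isBalancedFor_two_automizer hL.2 hLH (h y hy L hL)
  have hxbar : orderOf (π xC) = 2 := by
    apply orderOf_eq_prime
    · rw [← map_pow]
      have : xC ^ 2 = 1 := by
        apply Subtype.ext
        have := pow_orderOf_eq_one x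
        rw [hx] at this
        simpa using this
      rw [this, map_one]
    · intro h1
      rw [hπ, QuotientGroup.mk'_apply, QuotientGroup.eq_one_iff] at h1
      have hdvd : 2 ∣ Nat.card W := by
        have := orderOf_dvd_natCard (⟨xC, h1⟩ : W)
        rwa [Subgroup.orderOf_mk, hxCdef, Subgroup.orderOf_mk, hx] at this
      have hcop : (Nat.card W).Coprime 2 := pPrimeCore_coprime 2
      exact (Nat.Prime.coprime_iff_not_dvd Nat.prime_two).1 hcop.symm hdvd
  have hle := hR.trans (hbal (π xC) hxbar)
  rw [pPrimeCore_quotient_eq_bot 2] at hle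
  intro d hd
  have hdC : d ∈ C := hd.2
  have h1 : π ⟨d, hdC⟩ ∈ ((centralizerPPrimeCore 2 x ⊓ C).subgroupOf C).map π :=
    mem_map_of_mem _ (mem_subgroupOf.2 hd)
  have h2 := hle h1
  rw [mem_bot, hπ, QuotientGroup.mk'_apply, QuotientGroup.eq_one_iff] at h2
  exact ⟨⟨d, hdC⟩, h2, rfl⟩

/-- S1297. -/
theorem isBalanced_of_locallyBalanced
    (h : ∀ x : G, orderOf x = 2 → ∀ K : Subgroup (↥(centralizer ({x} : Set G)) ⧸
      oddCore ↥(centralizer ({x} : Set G))), IsComponent K →
      IsLocallyBalanced (↥K ⧸ center ↥K)) : IsBalanced G := by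
  intro x y hx hy hxy
  apply le_antisymm
  · exact le_inf (core_inf_centralizer_le_of_locallyBalanced h hx hy hxy)
      (inf_le_left.trans (centralizerPPrimeCore_le 2 x))
  · exact le_inf (core_inf_centralizer_le_of_locallyBalanced h hy hx hxy.symm)
      (inf_le_left.trans (centralizerPPrimeCore_le 2 y))

end Cfsg.Agent.Helper7
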