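import Mathlib
import Cfsg.Agent.S0261
import Cfsg.Agent.Helper2.SL2Sylow

set_option autoImplicit false

namespace Cfsg.Agent.Helper7.MSup

/-- 2-adic valuation of `2^m * o` for odd `o`. -/
theorem factorization_two_pow_mul_odd (m o : ℕ) (ho : o % 2 = 1) :
    (2 ^ m * o).factorization 2 = m := by
  have ho0 : o ≠ 0 := by omega
  rw [Nat.factorization_mul (pow_ne_zero _ (by norm_num)) ho0, Finsupp.add_apply,
    Nat.Prime.factorization_pow Nat.prime_two, Finsupp.single_eq_same,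
    Nat.factorization_eq_zero_of_not_dvd (by omega), add_zero]

theorem NT1 (k : ℕ) (hk : 1 ≤ k) : ∃ q : ℕ, ∃ _ : Fact q.Prime, q % 2 = 1 ∧
    (2 ≤ k → 16 ∣ q ^ 2 - 1) ∧
    ∀ P : Sylow 2 (Matrix.SpecialLinearGroup (Fin 2) (ZMod q)),
      Nonempty ((P : Subgroup (Matrix.SpecialLinearGroup (Fin 2) (ZMod q))) ≃*
        QuaternionGroup (2 ^ k)) := by
  have hcop : (1 + 2 ^ (k + 1)).Coprime (2 ^ (k + 2)) := by
    apply Nat.Coprime.pow_right
    apply Nat.Coprime.symm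
    rw [Nat.Prime.coprime_iff_not_dvd Nat.prime_two]
    have e2 : 2 ^ (k + 1) = 2 * 2 ^ k := by ring
    omega
  obtain ⟨q, -, hq, hmod⟩ := Nat.forall_exists_prime_gt_and_modEq 0
    (q := 2 ^ (k + 2)) (a := 1 + 2 ^ (k + 1)) (by positivity) hcop
  have hlt : 1 + 2 ^ (k + 1) < 2 ^ (k + 2) := by
    have : 2 ^ (k + 2) = 2 * 2 ^ (k + 1) := by ring
    have h2 : 2 ≤ 2 ^ (k + 1) := by
      calc 2 = 2 ^ 1 := by norm_num
        _ ≤ 2 ^ (k + 1) := Nat.pow_le_pow_right (by norm_num) (by omega)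
    omega
  have hq1 : q % 2 ^ (k + 2) = 1 + 2 ^ (k + 1) := by
    have := hmod
    unfold Nat.ModEq at this
    rw [this, Nat.mod_eq_of_lt hlt]
  -- write q = M t + a
  obtain ⟨t, ht⟩ : ∃ t, q = 2 ^ (k + 2) * t + (1 + 2 ^ (k + 1)) := by
    refine ⟨q / 2 ^ (k + 2), ?_⟩
    have := Nat.div_add_mod q (2 ^ (k + 2))
    rw [hq1] at this
    exact this.symm
  have hqodd : q % 2 = 1 := by
    rw [ht]
    have e1 : 2 ^ (k + 2) * t = 2 * (2 ^ (k + 1) * t) := by ring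
    have e2 : 2 ^ (k + 1) = 2 * 2 ^ k := by ring
    omega
  -- q^2 - 1 = 2^(k+2) * o with o odd
  obtain ⟨k', rfl⟩ : ∃ k', k = k' + 1 := ⟨k - 1, by omega⟩
  have hsq : q ^ 2 - 1 = 2 ^ (k' + 1 + 2) * ((2 * t + 1) * (2 * (2 ^ (k' + 1) * t + 2 ^ k') + 1)) := by
    have : q ^ 2 = 2 ^ (k' + 1 + 2) * ((2 * t + 1) * (2 * (2 ^ (k' + 1) * t + 2 ^ k') + 1)) + 1 := by
      rw [ht]; ring
    omega
  have : Fact q.Prime := ⟨hq⟩
  refine ⟨q, ⟨hq⟩, hqodd, ?_, ?_⟩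
  · intro h2
    rw [hsq]
    obtain ⟨j, rfl⟩ : ∃ j, k' = j + 1 := ⟨k' - 1, by omega⟩
    refine Dvd.dvd.mul_right ?_ _
    exact ⟨2 ^ j, by ring⟩
  · intro P
    have hodd : Odd (Fintype.card (ZMod q)) := by
      rw [ZMod.card, Nat.odd_iff]; exact hqodd
    obtain ⟨m, hm1, ⟨e⟩⟩ := Cfsg.Agent.S0261.result hodd P
    have hcardP : Nat.card (P : Subgroup (Matrix.SpecialLinearGroup (Fin 2) (ZMod q))) = 4 * 2 ^ m := by
      have : NeZero (2 ^ m) := ⟨pow_ne_zero _ (by norm_num)⟩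
      rw [Nat.card_congr e.toEquiv, Nat.card_eq_fintype_card, QuaternionGroup.card]
    have hcardP' : Nat.card (P : Subgroup (Matrix.SpecialLinearGroup (Fin 2) (ZMod q)))
        = 2 ^ (k' + 1 + 2) := by
      rw [Sylow.card_eq_multiplicity, Cfsg.Agent.Helper2.SL2.card_SL2, ZMod.card, hsq]
      congr 1
      rw [show q * (2 ^ (k' + 1 + 2) * ((2 * t + 1) * (2 * (2 ^ (k' + 1) * t + 2 ^ k') + 1)))
        = 2 ^ (k' + 1 + 2) * (q * ((2 * t + 1) * (2 * (2 ^ (k' + 1) * t + 2 ^ k') + 1))) by ring]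
      apply factorization_two_pow_mul_odd
      rw [Nat.mul_mod, hqodd, Nat.mul_mod (2 * t + 1)]
      have a1 : (2 * t + 1) % 2 = 1 := by omega
      have a2 : (2 * (2 ^ (k' + 1) * t + 2 ^ k') + 1) % 2 = 1 := by omega
      rw [a1, a2]
    have hm : m = k' + 1 := by
      have h := hcardP.symm.trans hcardP'
      have h4 : (4 : ℕ) * 2 ^ m = 2 ^ (m + 2) := by ring
      rw [h4] at h
      have := Nat.pow_right_injective (le_refl 2) h
      omega
    subst hm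
    exact ⟨e⟩

end Cfsg.Agent.Helper7.MSup
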