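import Mathlib
import Cfsg.Agent.Helper18.GL2Sylow2

set_option autoImplicit false

namespace Cfsg.Agent.Helper7.MSup

/-- 2-adic valuation of `2^m * o` for odd `o`. -/
theorem factorization_two_pow_mul_odd' (m o : ℕ) (ho : o % 2 = 1) :
    (2 ^ m * o).factorization 2 = m := by
  have ho0 : o ≠ 0 := by omega
  rw [Nat.factorization_mul (pow_ne_zero _ (by norm_num)) ho0, Finsupp.add_apply,
    Nat.Prime.factorization_pow Nat.prime_two, Finsupp.single_eq_same,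
    Nat.factorization_eq_zero_of_not_dvd (by omega), add_zero]

theorem NT2 (n : ℕ) (hn : 3 ≤ n) : ∃ q : ℕ, ∃ _ : Fact q.Prime, q % 4 = 3 ∧
    ∀ P : Sylow 2 (GL (Fin 2) (ZMod q)),
      Nat.card (P : Subgroup (GL (Fin 2) (ZMod q))) = 2 ^ (n + 1) := by
  obtain ⟨j, rfl⟩ : ∃ j, n = j + 3 := ⟨n - 3, by omega⟩
  have hpos : 1 ≤ 2 ^ j := Nat.one_le_two_pow
  have hcop : (4 * 2 ^ j - 1).Coprime (2 ^ (j + 3)) := by
    apply Nat.Coprime.pow_right
    apply Nat.Coprime.symm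
    rw [Nat.Prime.coprime_iff_not_dvd Nat.prime_two]
    omega
  obtain ⟨q, -, hq, hmod⟩ := Nat.forall_exists_prime_gt_and_modEq 0
    (q := 2 ^ (j + 3)) (a := 4 * 2 ^ j - 1) (by positivity) hcop
  have e8 : 2 ^ (j + 3) = 8 * 2 ^ j := by ring
  have hlt : 4 * 2 ^ j - 1 < 2 ^ (j + 3) := by omega
  have hq1 : q % 2 ^ (j + 3) = 4 * 2 ^ j - 1 := by
    have := hmod
    unfold Nat.ModEq at this
    rw [this, Nat.mod_eq_of_lt hlt]
  obtain ⟨t, ht⟩ : ∃ t, q = 2 ^ (j + 3) * t + (4 * 2 ^ j - 1) := by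
    refine ⟨q / 2 ^ (j + 3), ?_⟩
    have := Nat.div_add_mod q (2 ^ (j + 3))
    rw [hq1] at this
    exact this.symm
  have e1 : 2 ^ (j + 3) * t = 8 * (2 ^ j * t) := by ring
  have hq4 : q % 4 = 3 := by
    rw [ht]
    omega
  have hplus : q + 1 = 2 ^ (j + 2) * (2 * t + 1) := by
    have : 2 ^ (j + 2) * (2 * t + 1) = 8 * (2 ^ j * t) + 4 * 2 ^ j := by ring
    rw [this, ht]
    omega
  have hminus : q - 1 = 2 ^ 1 * (4 * (2 ^ j * t) + 2 * 2 ^ j - 1) := by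
    rw [ht]
    omega
  have : Fact q.Prime := ⟨hq⟩
  refine ⟨q, ⟨hq⟩, hq4, ?_⟩
  intro P
  have hodd : Fintype.card (ZMod q) % 2 = 1 := by
    rw [ZMod.card]; omega
  have h3 : 3 ≤ Fintype.card (ZMod q) := by
    rw [ZMod.card]; omega
  rw [Cfsg.Agent.Helper18.GL2Sylow.card_sylow_gl2 P hodd h3, ZMod.card, hplus, hminus,
    factorization_two_pow_mul_odd' _ _ (by omega), factorization_two_pow_mul_odd' _ _ (by omega)]
  congr 1
  omega

end Cfsg.Agent.Helper7.MSup
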