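import Mathlib
import Cfsg.Prelude.Def_OddOrderLocal
import Cfsg.Agent.S1447

set_option autoImplicit false

namespace Cfsg.Agent.Helper7.MSup

theorem isMetacyclic_of_mulEquiv {X Y : Type*} [Group X] [Group Y] (e : X ≃* Y)
    (h : Cfsg.IsMetacyclic X) : Cfsg.IsMetacyclic Y := by
  obtain ⟨N, hN, hc, hq⟩ := h
  have hN' : (N.map e.toMonoidHom).Normal := Subgroup.Normal.map hN _ e.surjective
  refine ⟨N.map e.toMonoidHom, hN', ?_, ?_⟩
  · exact isCyclic_of_surjective (e.toMonoidHom.subgroupMap N)
      (e.toMonoidHom.subgroupMap_surjective N)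
  · let f : X ⧸ N ≃* Y ⧸ N.map e.toMonoidHom :=
      QuotientGroup.congr N (N.map e.toMonoidHom) e rfl
    exact isCyclic_of_surjective f f.surjective


/-- conjugation action of a subgroup `A` on an `A`-invariant subgroup `C`, as a hom into
`MulAut C`. -/
noncomputable def conjOn {G : Type*} [Group G] (A C : Subgroup G)
    (hAC : A ≤ Subgroup.normalizer (C : Set G)) : A →* MulAut C where
  toFun a :=
    { toFun := fun c => ⟨(a : G) * c * (a : G)⁻¹, ((Subgroup.mem_normalizer_iff.mp (hAC a.2)) c).mp c.2⟩
      invFun := fun c => ⟨(a : G)⁻¹ * c * (a : G), by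
        have := ((Subgroup.mem_normalizer_iff.mp (hAC (A.inv_mem a.2))) c).mp c.2
        simpa using this⟩
      left_inv := fun c => by
        apply Subtype.ext
        simp only
        group
      right_inv := fun c => by
        apply Subtype.ext
        simp only
        group
      map_mul' := fun c d => by
        apply Subtype.ext
        simp only [Subgroup.coe_mul]
        group }
  map_one' := by
    ext c
    simp
  map_mul' a b := by
    ext c
    simp only [Subgroup.coe_mul, MulAut.mul_apply, MulEquiv.coe_mk, Equiv.coe_fn_mk, mul_inv_rev]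
    group

theorem conjOn_apply {G : Type*} [Group G] (A C : Subgroup G)
    (hAC : A ≤ Subgroup.normalizer (C : Set G)) (a : A) (c : C) :
    ((conjOn A C hAC a) c : G) = (a : G) * c * (a : G)⁻¹ := rfl


theorem mulAut_comm_of_isCyclic {C : Type*} [Group C] [IsCyclic C] (x y : MulAut C) :
    x * y = y * x := by
  apply (IsCyclic.mulAutMulEquiv C).injective
  rw [map_mul, map_mul, mul_comm]

/-- abstract form: a `p'`-group `A` acting faithfully on a nonabelian metacyclic `p`-subgroup `R`
(`p` odd) is abelian of exponent dividing `p - 1`. -/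
theorem OA_core {G : Type*} [Group G] [Finite G] (p : ℕ) [Fact p.Prime] (hp : p ≠ 2)
    (R A : Subgroup G) (hR : IsPGroup p R) (hRm : Cfsg.IsMetacyclic R)
    (hna : ¬ IsMulCommutative R) (hA : A ≤ Subgroup.normalizer (R : Set G))
    (hcop : (Nat.card A).Coprime p)
    (hfaith : ∀ a ∈ A, (∀ r ∈ R, a * r * a⁻¹ = r) → a = 1) :
    (∀ a ∈ A, ∀ b ∈ A, a * b = b * a) ∧ ∀ a ∈ A, a ^ (p - 1) = 1 := by
  by_cases hcen : A ≤ Subgroup.centralizer (R : Set G)
  · have h1 : ∀ a ∈ A, a = 1 := by
      intro a ha
      apply hfaith a ha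
      intro r hr
      have := (Subgroup.mem_centralizer_iff.mp (hcen ha)) r hr
      rw [← this]; group
    constructor
    · intro a ha b hb
      rw [h1 a ha, h1 b hb]
    · intro a ha
      rw [h1 a ha, one_pow]
  obtain ⟨-, hgen, -, h4⟩ := Cfsg.Agent.S1447.result p hp R A hR hRm hA hcop
  obtain ⟨-, hcyc, -, -, -⟩ := h4 hna hcen
  -- `A` normalizes `C = ⁅R, A⁆`
  have hAC : A ≤ Subgroup.normalizer ((⁅R, A⁆ : Subgroup G) : Set G) := by
    intro a ha
    have hmap : (⁅R, A⁆ : Subgroup G).map (MulAut.conj a).toMonoidHom = ⁅R, A⁆ := by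
      rw [Subgroup.map_commutator]
      congr 1
      · -- R.map conj a = R
        ext x
        constructor
        · rintro ⟨r, hr, rfl⟩
          exact ((Subgroup.mem_normalizer_iff.mp (hA ha)) r).mp hr
        · intro hx
          refine ⟨a⁻¹ * x * a, ?_, ?_⟩
          · have := ((Subgroup.mem_normalizer_iff.mp (hA (A.inv_mem ha))) x).mp hx
            simpa using this
          · simp [MulAut.conj_apply]; group
      · ext x
        constructor
        · rintro ⟨r, hr, rfl⟩
          exact A.mul_mem (A.mul_mem ha hr) (A.inv_mem ha)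
        · intro hx
          refine ⟨a⁻¹ * x * a, A.mul_mem (A.mul_mem (A.inv_mem ha) hx) ha, ?_⟩
          simp [MulAut.conj_apply]; group
    rw [Subgroup.mem_normalizer_iff]
    intro c
    constructor
    · intro hc
      rw [← hmap]
      exact ⟨c, hc, rfl⟩
    · intro hc
      rw [← hmap] at hc
      obtain ⟨c', hc', he⟩ := hc
      have : c' = c := by
        have he' : a * c' * a⁻¹ = a * c * a⁻¹ := he
        have := congrArg (fun y => a⁻¹ * y * a) he'
        simpa [mul_assoc] using this
      rwa [← this]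
  have : IsCyclic ↥(⁅R, A⁆ : Subgroup G) := hcyc
  set ψ := conjOn A ⁅R, A⁆ hAC with hψ
  have hinj : Function.Injective ψ := by
    rw [injective_iff_map_eq_one]
    intro a ha
    have hC : (⁅R, A⁆ : Subgroup G) ≤ Subgroup.centralizer ({(a : G)} : Set G) := by
      intro c hc
      rw [Subgroup.mem_centralizer_singleton_iff]
      have h1 := congrArg (fun f : MulAut ↥(⁅R, A⁆ : Subgroup G) => ((f ⟨c, hc⟩ : ↥(⁅R, A⁆ : Subgroup G)) : G)) ha
      simp only [MulAut.one_apply] at h1
      rw [hψ, conjOn_apply] at h1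
      have : (a : G) * c = c * (a : G) := by
        calc (a : G) * c = ((a : G) * c * (a : G)⁻¹) * (a : G) := by group
          _ = c * (a : G) := by rw [h1]
      exact this.symm
    have hD : R ⊓ Subgroup.centralizer (A : Set G) ≤ Subgroup.centralizer ({(a : G)} : Set G) := by
      intro d hd
      rw [Subgroup.mem_centralizer_singleton_iff]
      have := (Subgroup.mem_centralizer_iff.mp hd.2) (a : G) a.2
      exact this.symm
    have hRle : R ≤ Subgroup.centralizer ({(a : G)} : Set G) :=
      hgen.ge.trans (sup_le hC hD)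
    have : (a : G) = 1 := by
      apply hfaith _ a.2
      intro r hr
      have := Subgroup.mem_centralizer_singleton_iff.mp (hRle hr)
      calc (a : G) * r * (a : G)⁻¹ = (r * (a : G)) * (a : G)⁻¹ := by rw [this]
        _ = r := by group
    exact Subtype.ext this
  constructor
  · intro a ha b hb
    have h1 : ψ (⟨a, ha⟩ * ⟨b, hb⟩) = ψ (⟨b, hb⟩ * ⟨a, ha⟩) := by
      rw [map_mul, map_mul, mulAut_comm_of_isCyclic]
    have := congrArg Subtype.val (hinj h1)
    simpa using this
  · intro a ha
    have hord : orderOf (⟨a, ha⟩ : A) = orderOf (ψ ⟨a, ha⟩) := (orderOf_injective ψ hinj _).symm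
    have hd1 : orderOf (⟨a, ha⟩ : A) ∣ Nat.totient (Nat.card ↥(⁅R, A⁆ : Subgroup G)) := by
      rw [hord, ← IsCyclic.card_mulAut]
      exact orderOf_dvd_natCard _
    have hd2 : orderOf (⟨a, ha⟩ : A) ∣ Nat.card A := orderOf_dvd_natCard _
    have hCle : (⁅R, A⁆ : Subgroup G) ≤ R := le_sup_left.trans hgen.le
    have hCp : IsPGroup p ↥(⁅R, A⁆ : Subgroup G) := hR.to_le hCle
    obtain ⟨k, hk⟩ := hCp.exists_card_eq
    have hcopa : (orderOf (⟨a, ha⟩ : A)).Coprime p := Nat.Coprime.coprime_dvd_left hd2 hcop
    have hd3 : orderOf (⟨a, ha⟩ : A) ∣ p - 1 := by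
      rw [hk] at hd1
      rcases Nat.eq_zero_or_pos k with rfl | hkpos
      · rw [pow_zero, Nat.totient_one] at hd1
        exact dvd_trans hd1 (one_dvd _)
      · rw [Nat.totient_prime_pow Fact.out hkpos] at hd1
        exact (Nat.Coprime.pow_right (k - 1) hcopa).dvd_of_dvd_mul_left hd1
    have := orderOf_dvd_iff_pow_eq_one.mp hd3
    have h2 := congrArg Subtype.val this
    simpa using h2


theorem OA {X : Type*} [Group X] [Finite X] (p : ℕ) [Fact p.Prime] (hp : p ≠ 2)
    (hX : IsPGroup p X) (hm : Cfsg.IsMetacyclic X) (hna : ¬ IsMulCommutative X)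
    (H : Subgroup (MulAut X)) (hH : (Nat.card H).Coprime p) :
    IsMulCommutative H ∧ ∀ h ∈ H, h ^ (p - 1) = 1 := by
  have hfin : Finite (X ⋊[H.subtype] H) := Finite.of_equiv _ SemidirectProduct.equivProd.symm
  -- the copy of `X`
  let eR : X ≃* (SemidirectProduct.inl : X →* X ⋊[H.subtype] H).range :=
    MonoidHom.ofInjective SemidirectProduct.inl_injective
  let eA : H ≃* (SemidirectProduct.inr : H →* X ⋊[H.subtype] H).range :=
    MonoidHom.ofInjective SemidirectProduct.inr_injective
  have hR : IsPGroup p (SemidirectProduct.inl : X →* X ⋊[H.subtype] H).range :=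
    hX.of_equiv eR
  have hRm : Cfsg.IsMetacyclic (SemidirectProduct.inl : X →* X ⋊[H.subtype] H).range :=
    isMetacyclic_of_mulEquiv eR hm
  have hRna : ¬ IsMulCommutative (SemidirectProduct.inl : X →* X ⋊[H.subtype] H).range := by
    intro hc
    apply hna
    refine ⟨⟨fun a b => ?_⟩⟩
    have := hc.is_comm.comm (eR a) (eR b)
    rw [← map_mul, ← map_mul] at this
    exact eR.injective this
  have hnorm : (SemidirectProduct.inl : X →* X ⋊[H.subtype] H).range.Normal := by
    rw [SemidirectProduct.range_inl_eq_ker_rightHom]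
    infer_instance
  have hA : (SemidirectProduct.inr : H →* X ⋊[H.subtype] H).range ≤
      Subgroup.normalizer
        (((SemidirectProduct.inl : X →* X ⋊[H.subtype] H).range : Subgroup _) : Set _) := by
    rw [Subgroup.normalizer_eq_top]
    exact le_top
  have hcop : (Nat.card (SemidirectProduct.inr : H →* X ⋊[H.subtype] H).range).Coprime p := by
    rw [← Nat.card_congr eA.toEquiv]
    exact hH
  have hfaith : ∀ a ∈ (SemidirectProduct.inr : H →* X ⋊[H.subtype] H).range,
      (∀ r ∈ (SemidirectProduct.inl : X →* X ⋊[H.subtype] H).range, a * r * a⁻¹ = r) → a = 1 := by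
    rintro _ ⟨h, rfl⟩ hc
    have h1 : (h : MulAut X) = 1 := by
      ext x
      have := hc (SemidirectProduct.inl x) ⟨x, rfl⟩
      rw [← map_inv, ← SemidirectProduct.inl_aut] at this
      exact SemidirectProduct.inl_injective this
    have h2 : h = 1 := Subtype.ext h1
    rw [h2, map_one]
  obtain ⟨hcomm, hexp⟩ := OA_core p hp _ _ hR hRm hRna hA hcop hfaith
  constructor
  · refine ⟨⟨fun a b => ?_⟩⟩
    have := hcomm (SemidirectProduct.inr a) ⟨a, rfl⟩ (SemidirectProduct.inr b) ⟨b, rfl⟩
    rw [← map_mul, ← map_mul] at this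
    exact SemidirectProduct.inr_injective this
  · intro h hh
    have := hexp (SemidirectProduct.inr (⟨h, hh⟩ : H)) ⟨_, rfl⟩
    rw [← map_pow, ← map_one (SemidirectProduct.inr : H →* X ⋊[H.subtype] H)] at this
    have h2 := SemidirectProduct.inr_injective this
    exact congrArg Subtype.val h2

end Cfsg.Agent.Helper7.MSup
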