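import Mathlib
import Cfsg.Agent.Helper21.Jordan9
import Cfsg.Agent.Helper21.JC1
import Cfsg.Agent.Helper21.UJ2
import Cfsg.Agent.Helper21.JO6

/-!
# Unipotent isometries of prescribed Jordan type, part 1 (helper7)

The nilpotent part of `Cfsg.jordanTypeMatrix d F` has Jordan type `d` in the sense of
`Cfsg.Agent.Helper21.Jordan.IsJordan`.
-/

set_option autoImplicit false

namespace Cfsg.Agent.Helper7.OrthUni

open Matrix Cfsg.Agent.Helper21.Jordan Cfsg.Agent.Helper21.JC

variable {F : Type*} [Field F] {t : ℕ} (d : Fin t → ℕ)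

theorem Nm_mulVec_single (k : Fin t) (i : Fin (d k)) :
    Nm (F := F) d *ᵥ (Pi.single (⟨k, i⟩ : Idx d) (1 : F))
      = if h : (i : ℕ) + 1 < d k then Pi.single (⟨k, ⟨(i : ℕ) + 1, h⟩⟩ : Idx d) (1 : F) else 0 := by
  classical
  funext x
  rw [Matrix.mulVec_single_one]
  show Nm (F := F) d x ⟨k, i⟩ = _
  rw [Nm_apply]
  by_cases h : (i : ℕ) + 1 < d k
  · rw [dif_pos h]
    by_cases hx : x = ⟨k, ⟨(i : ℕ) + 1, h⟩⟩
    · subst hx
      simp
    · rw [Pi.single_apply, if_neg hx, if_neg]
      rintro ⟨h1, h2⟩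
      apply hx
      obtain ⟨l, j⟩ := x
      simp only at h1 h2
      subst h1
      congr 1
      exact Fin.ext h2
  · rw [dif_neg h, Pi.zero_apply, if_neg]
    rintro ⟨h1, h2⟩
    obtain ⟨l, j⟩ := x
    simp only at h1 h2
    subst h1
    exact h (by rw [← h2]; exact j.2)

theorem Nm_pow_mulVec_single (hd : ∀ k, 1 ≤ d k) (k : Fin t) (i : ℕ) (hi : i < d k) :
    (toLin' (Nm (F := F) d) ^ i) (Pi.single (⟨k, ⟨0, hd k⟩⟩ : Idx d) (1 : F))
      = Pi.single (⟨k, ⟨i, hi⟩⟩ : Idx d) (1 : F) := by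
  induction i with
  | zero => simp
  | succ i ih =>
    rw [pow_succ', Module.End.mul_apply, ih (by omega), Matrix.toLin'_apply, Nm_mulVec_single,
      dif_pos (by simpa using hi)]

theorem Nm_pow_kill (hd : ∀ k, 1 ≤ d k) (k : Fin t) :
    (toLin' (Nm (F := F) d) ^ d k) (Pi.single (⟨k, ⟨0, hd k⟩⟩ : Idx d) (1 : F)) = 0 := by
  obtain ⟨j, hj⟩ : ∃ j, d k = j + 1 := ⟨d k - 1, by have := hd k; omega⟩
  have h1 : toLin' (Nm (F := F) d) ^ d k = toLin' (Nm (F := F) d) * toLin' (Nm (F := F) d) ^ j := by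
    rw [hj, pow_succ']
  rw [h1, Module.End.mul_apply, Nm_pow_mulVec_single d hd k j (by omega),
    Matrix.toLin'_apply, Nm_mulVec_single, dif_neg (by simp only; omega)]

/-- the nilpotent part of the Jordan matrix of type `d` has Jordan type `d` -/
theorem isJordan_Nm (hd : ∀ k, 1 ≤ d k) :
    IsJordan (toLin' (Nm (F := F) d)) ⊤ (Multiset.map d Finset.univ.val) := by
  classical
  refine ⟨Fin t, inferInstance, d, fun k => Pi.single (⟨k, ⟨0, hd k⟩⟩ : Idx d) (1 : F), rfl,
    fun k => hd k, ?_, ?_, fun k => Nm_pow_kill d hd k⟩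
  · have hfam : fam (toLin' (Nm (F := F) d)) d
        (fun k => Pi.single (⟨k, ⟨0, hd k⟩⟩ : Idx d) (1 : F))
        = fun x : Idx d => Pi.single x (1 : F) := by
      funext ⟨k, i⟩
      rw [fam_apply]
      exact Nm_pow_mulVec_single d hd k i i.2
    rw [hfam]
    exact Pi.linearIndependent_single_one (Idx d) F
  · have hfam : fam (toLin' (Nm (F := F) d)) d
        (fun k => Pi.single (⟨k, ⟨0, hd k⟩⟩ : Idx d) (1 : F))
        = fun x : Idx d => Pi.single x (1 : F) := by
      funext ⟨k, i⟩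
      rw [fam_apply]
      exact Nm_pow_mulVec_single d hd k i i.2
    rw [hfam]
    have := (Pi.basisFun F (Idx d)).span_eq
    have h2 : (⇑(Pi.basisFun F (Idx d)) : Idx d → Idx d → F) = fun x => Pi.single x (1 : F) := by
      funext x
      rw [Pi.basisFun_apply]
    rw [h2] at this
    exact this

/-- every multiset of naturals is the multiset of values of a function on some `Fin t` -/
theorem exists_fin_of_multiset (μ : Multiset ℕ) :
    ∃ (t : ℕ) (d : Fin t → ℕ), Multiset.map d Finset.univ.val = μ := by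
  refine ⟨μ.toList.length, fun k => μ.toList.get k, ?_⟩
  rw [Fin.univ_val_map, List.ofFn_get, Multiset.coe_toList]

theorem count_eq_card_filter (e : ℕ) :
    (Finset.univ.filter (fun k : Fin t => d k = e)).card
      = Multiset.count e (Multiset.map d Finset.univ.val) := by
  classical
  rw [Multiset.count_map, Finset.card_def, Finset.filter_val]
  congr 1
  apply Multiset.filter_congr
  intro x _
  exact eq_comm

end Cfsg.Agent.Helper7.OrthUni
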