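import Cfsg.Agent.Helper7.OrthUni7

/-!
# Unipotent isometries of prescribed Jordan type, part 8 (helper7)

Special partitions `2^k + τ` with `τ` among `{3,1}`, `{1,1}`, `{1}`, `{3}`.
-/

set_option autoImplicit false

namespace Cfsg.Agent.Helper7.OrthUni

theorem mem_two_add {k : ℕ} {τ : Multiset ℕ} {b : ℕ} (hb : b ∈ Multiset.replicate k 2 + τ) :
    b = 2 ∨ b ∈ τ := by
  rcases Multiset.mem_add.1 hb with h | h
  · exact Or.inl (Multiset.eq_of_mem_replicate h)
  · exact Or.inr h

/-- the basic properties of the partition `2^k + τ` -/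
theorem special_props (p k : ℕ) (hp3 : 3 ≤ p) (hk : Even k) (τ : Multiset ℕ)
    (hτ : ∀ b ∈ τ, b = 1 ∨ b = 3) :
    (∀ b ∈ Multiset.replicate k 2 + τ, 0 < b ∧ b ≤ p) ∧
    (∀ e : ℕ, Even e → Even ((Multiset.replicate k 2 + τ).count e)) ∧
    (Multiset.replicate k 2 + τ).sum = 2 * k + τ.sum := by
  refine ⟨?_, ?_, ?_⟩
  · intro b hb
    rcases mem_two_add hb with rfl | h
    · omega
    · rcases hτ b h with rfl | rfl <;> omega
  · intro e he
    rw [Multiset.count_add, Multiset.count_replicate]
    have h0 : τ.count e = 0 := by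
      apply Multiset.count_eq_zero_of_notMem
      intro h
      rcases hτ e h with rfl | rfl
      · exact absurd he (by decide)
      · exact absurd he (by decide)
    rw [h0, add_zero]
    split_ifs
    · exact hk
    · exact Even.zero
  · rw [Multiset.sum_add, Multiset.sum_replicate, smul_eq_mul, mul_comm]

theorem not_good_231 (k m : ℕ) (hm : m % 4 = 2) :
    ¬ Good m (Multiset.replicate k 2 + {3, 1}) := by
  rintro ⟨ν, hle, hsum, hpar⟩
  have h123 : ∀ b ∈ ν, b = 1 ∨ b = 2 ∨ b = 3 := by
    intro b hb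
    rcases mem_two_add (Multiset.mem_of_le hle hb) with h | h
    · exact Or.inr (Or.inl h)
    · simp only [Multiset.insert_eq_cons, Multiset.mem_cons, Multiset.mem_singleton] at h
      rcases h with rfl | rfl
      · exact Or.inr (Or.inr rfl)
      · exact Or.inl rfl
  have hs := sum_eq_counts3 ν h123
  have h1 : ν.count 1 ≤ 1 := by
    have := Multiset.count_le_of_le 1 hle
    simpa [Multiset.count_replicate] using this
  have h3 : ν.count 3 ≤ 1 := by
    have := Multiset.count_le_of_le 3 hle
    simpa [Multiset.count_replicate] using this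
  obtain ⟨c, hc⟩ := hpar 2 (by decide)
  have h1' : ν.count 1 = 0 ∨ ν.count 1 = 1 := by omega
  have h3' : ν.count 3 = 0 ∨ ν.count 3 = 1 := by omega
  rcases h1' with h1' | h1' <;> rcases h3' with h3' | h3' <;> omega

theorem all_two_of_good (k m : ℕ) (hm : m % 4 = 0) (ν : Multiset ℕ)
    (hle : ν ≤ Multiset.replicate k 2 + {1, 1}) (hsum : ν.sum = m)
    (hpar : ∀ e : ℕ, Even e → Even (ν.count e)) : ∀ b ∈ ν, b = 2 := by
  have h12 : ∀ b ∈ ν, b = 2 ∨ b = 1 := by
    intro b hb
    rcases mem_two_add (Multiset.mem_of_le hle hb) with h | h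
    · exact Or.inl h
    · simp only [Multiset.insert_eq_cons, Multiset.mem_cons, Multiset.mem_singleton] at h
      rcases h with rfl | rfl <;> exact Or.inr rfl
  have h123 : ∀ b ∈ ν, b = 1 ∨ b = 2 ∨ b = 3 := by
    intro b hb
    rcases h12 b hb with h | h
    · exact Or.inr (Or.inl h)
    · exact Or.inl h
  have hs := sum_eq_counts3 ν h123
  have h1 : ν.count 1 ≤ 2 := by
    have := Multiset.count_le_of_le 1 hle
    simpa [Multiset.count_replicate] using this
  have h3 : ν.count 3 = 0 := by
    apply Multiset.count_eq_zero_of_notMem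
    intro h
    rcases h12 3 h with h | h <;> omega
  obtain ⟨c, hc⟩ := hpar 2 (by decide)
  have h10 : ν.count 1 = 0 := by omega
  intro b hb
  rcases h12 b hb with h | h
  · exact h
  · exfalso
    rw [h] at hb
    have := Multiset.count_pos.2 hb
    omega

theorem mod_four_of_good_21 (k m : ℕ) (hm : Even m)
    (h : Good m (Multiset.replicate k 2 + {1})) : m % 4 = 0 := by
  obtain ⟨ν, hle, hsum, hpar⟩ := h
  have h123 : ∀ b ∈ ν, b = 1 ∨ b = 2 ∨ b = 3 := by
    intro b hb
    rcases mem_two_add (Multiset.mem_of_le hle hb) with h | h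
    · exact Or.inr (Or.inl h)
    · rw [Multiset.mem_singleton] at h
      exact Or.inl h
  have hs := sum_eq_counts3 ν h123
  have h1 : ν.count 1 ≤ 1 := by
    have := Multiset.count_le_of_le 1 hle
    simpa [Multiset.count_replicate] using this
  have h3 : ν.count 3 = 0 := by
    apply Multiset.count_eq_zero_of_notMem
    intro h
    rcases mem_two_add (Multiset.mem_of_le hle h) with h' | h'
    · omega
    · rw [Multiset.mem_singleton] at h'
      omega
  obtain ⟨c, hc⟩ := hpar 2 (by decide)
  obtain ⟨c', hc'⟩ := hm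
  omega

theorem mod_four_of_good_23 (k m : ℕ) (hm : Even m)
    (h : Good m (Multiset.replicate k 2 + {3})) : m % 4 = 0 := by
  obtain ⟨ν, hle, hsum, hpar⟩ := h
  have h123 : ∀ b ∈ ν, b = 1 ∨ b = 2 ∨ b = 3 := by
    intro b hb
    rcases mem_two_add (Multiset.mem_of_le hle hb) with h | h
    · exact Or.inr (Or.inl h)
    · rw [Multiset.mem_singleton] at h
      exact Or.inr (Or.inr h)
  have hs := sum_eq_counts3 ν h123
  have h3 : ν.count 3 ≤ 1 := by
    have := Multiset.count_le_of_le 3 hle
    simpa [Multiset.count_replicate] using this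
  have h1 : ν.count 1 = 0 := by
    apply Multiset.count_eq_zero_of_notMem
    intro h
    rcases mem_two_add (Multiset.mem_of_le hle h) with h' | h'
    · omega
    · rw [Multiset.mem_singleton] at h'
      omega
  obtain ⟨c, hc⟩ := hpar 2 (by decide)
  obtain ⟨c', hc'⟩ := hm
  omega

end Cfsg.Agent.Helper7.OrthUni
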