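import Cfsg.Agent.Helper7.OrthUni6

/-!
# Unipotent isometries of prescribed Jordan type, part 9 (helper7)

A nondegenerate subspace on which a unipotent isometry has all Jordan blocks of size two is of
plus type: the image of `x - 1` is totally singular of half the dimension.
-/

set_option autoImplicit false
set_option linter.unusedSectionVars false

namespace Cfsg.Agent.Helper7.OrthUni

open Matrix Module Cfsg.Agent.Helper21.Jordan

variable {F : Type*} [Field F] {ι : Type} [Fintype ι] [DecidableEq ι]

theorem isPlusTypeOn_of_all_two (h2 : (2 : F) ≠ 0) (Q : QuadraticForm F (ι → F))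
    (x : GL ι F) (hx : ∀ v, Q ((x : Matrix ι ι F) *ᵥ v) = Q v)
    (W : Submodule F (ι → F)) (ν : Multiset ℕ)
    (hJ : IsJordan (toLin' (x : Matrix ι ι F) - 1) W ν) (hall : ∀ b ∈ ν, b = 2) :
    Cfsg.Geo.IsPlusTypeOn (⇑Q) W := by
  classical
  have hfin := hJ.sum_eq_finrank
  obtain ⟨ι', _, d, v, hν, hpos, hli, hspan, hkill⟩ := hJ
  set X : Matrix ι ι F := (x : Matrix ι ι F) with hXdef
  set T : Module.End F (ι → F) := toLin' X - 1 with hT
  have hd : ∀ i, d i = 2 := by
    intro i
    apply hall
    rw [← hν]
    exact Multiset.mem_map_of_mem _ (Finset.mem_univ_val i)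
  have hkill2 : ∀ i, T (T (v i)) = 0 := by
    intro i
    have := hkill i
    rw [hd i, pow_two, Module.End.mul_apply] at this
    exact this
  -- the polar identity
  have hpol : ∀ a b, QuadraticMap.polar ⇑Q a (T b) + QuadraticMap.polar ⇑Q (T a) b
      + QuadraticMap.polar ⇑Q (T a) (T b) = 0 := by
    intro a b
    have h1 := polar_mulVec Q X hx a b
    have hXa : ∀ c, X *ᵥ c = c + T c := by
      intro c
      rw [hT, LinearMap.sub_apply, Module.End.one_apply, Matrix.toLin'_apply]
      abel
    rw [hXa, hXa, QuadraticMap.polar_add_left, QuadraticMap.polar_add_right,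
      QuadraticMap.polar_add_right] at h1
    linear_combination h1
  have hsing : ∀ w, T (T w) = 0 → Q (T w) = 0 := by
    intro w hw
    have h1 := hpol w (T w)
    rw [hw, QuadraticMap.polar_zero_right, QuadraticMap.polar_zero_right,
      QuadraticMap.polar_self] at h1
    have h3 : (2 : F) * Q (T w) = 0 := by
      simpa using h1
    rcases mul_eq_zero.1 h3 with h | h
    · exact absurd h h2
    · exact h
  set S : Submodule F (ι → F) := Submodule.span F (Set.range v) with hS
  have hTT : ∀ w ∈ S, T (T w) = 0 := by
    intro w hw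
    induction hw using Submodule.span_induction with
    | mem y hy =>
      obtain ⟨i, rfl⟩ := hy
      exact hkill2 i
    | zero => simp
    | add a b _ _ ha hb => rw [map_add, map_add, ha, hb, add_zero]
    | smul c a _ ha => rw [map_smul, map_smul, ha, smul_zero]
  refine ⟨S.map T, ?_, ?_, ?_⟩
  · rw [hS, Submodule.map_span, Submodule.span_le]
    rintro _ ⟨_, ⟨i, rfl⟩, rfl⟩
    rw [← hspan]
    apply Submodule.subset_span
    refine ⟨⟨i, ⟨1, by rw [hd i]; norm_num⟩⟩, ?_⟩
    rw [fam_apply]
    simp
  · rintro _ ⟨w, hw, rfl⟩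
    exact hsing w (hTT w hw)
  · have hli' : LinearIndependent F (fun i : ι' => T (v i)) := by
      have hinj : Function.Injective
          (fun i : ι' => (⟨i, ⟨1, by rw [hd i]; norm_num⟩⟩ : Σ i : ι', Fin (d i))) := by
        intro a b hab
        exact congrArg Sigma.fst hab
      have := hli.comp _ hinj
      have heq : (fam T d v ∘ fun i : ι' => (⟨i, ⟨1, by rw [hd i]; norm_num⟩⟩ : Σ i : ι', Fin (d i)))
          = fun i : ι' => T (v i) := by
        funext i
        rw [Function.comp_apply, fam_apply]
        simp
      rwa [heq] at this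
    have h1 : S.map T = Submodule.span F (Set.range (fun i : ι' => T (v i))) := by
      rw [hS, Submodule.map_span, ← Set.range_comp]
      rfl
    rw [h1, finrank_span_eq_card hli', ← hfin, ← hν]
    have h3 : (Multiset.map d Finset.univ.val).sum = ∑ i : ι', d i := rfl
    rw [h3, Finset.sum_congr rfl (fun i _ => hd i), Finset.sum_const, Finset.card_univ,
      smul_eq_mul, mul_comm]

end Cfsg.Agent.Helper7.OrthUni
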