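import Cfsg.Agent.Helper7.OrthUni4
import Cfsg.Agent.Helper7.OrthUni8
import Cfsg.Agent.Helper7.OrthUni9

/-!
# Unipotent isometries of prescribed Jordan type, part 10 (helper7)

The generic "only if" step for `p`-elements of `Ω(Q)` acting on nondegenerate `m`-spaces:
if every element of order `p` of `Ω(Q)` stabilises a nondegenerate `m`-space (with some extra
property `P`), then every admissible partition of the dimension contains an admissible partition
of `m`.
-/

set_option autoImplicit false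
set_option linter.unusedSectionVars false

namespace Cfsg.Agent.Helper7.OrthUni

open Matrix Module Cfsg.Agent.Helper21.Jordan

variable {F : Type*} [Field F] {ι : Type} [Fintype ι] [DecidableEq ι]

theorem not_scalar_of_isJordan {X : Matrix ι ι F} {μ : Multiset ℕ}
    (hJ : IsJordan (toLin' X - 1) ⊤ μ) (hbig : ∃ b ∈ μ, 2 ≤ b) :
    ∀ z : F, X ≠ z • (1 : Matrix ι ι F) := by
  intro z hz
  obtain ⟨b, hb, hb2⟩ := hbig
  have hnil : IsNilpotent (toLin' X - 1) := hJ.isNilpotent
  have h2 : toLin' X - 1 = (z - 1) • (1 : Module.End F (ι → F)) := by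
    rw [hz, map_smul, Matrix.toLin'_one]
    have e1 : (LinearMap.id : Module.End F (ι → F)) = 1 := rfl
    rw [e1]
    apply LinearMap.ext
    intro w
    simp only [LinearMap.sub_apply, LinearMap.smul_apply, Module.End.one_apply, sub_smul,
      one_smul]
  have hT0 : toLin' X - 1 = 0 := by
    by_cases hz1 : z - 1 = 0
    · rw [h2, hz1, zero_smul]
    · exfalso
      obtain ⟨N, hN⟩ := hnil
      rw [h2, smul_pow, one_pow] at hN
      have hne : (1 : Module.End F (ι → F)) ≠ 0 := by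
        intro h1
        have h3 : (toLin' X - 1) ^ 0 = 0 := by
          rw [pow_zero]
          exact h1
        have := (hJ.pow_eq_zero_iff 0).1 h3 b hb
        omega
      rcases smul_eq_zero.1 hN with h | h
      · exact hz1 (pow_eq_zero_iff (fun h0 => by subst h0; simp at h) |>.1 h)
      · exact hne h
  have h3 : (toLin' X - 1) ^ 1 = 0 := by rw [pow_one, hT0]
  have := (hJ.pow_eq_zero_iff 1).1 h3 b hb
  omega

variable [Fintype F] {p : ℕ} [Fact p.Prime] [CharP F p]

/-- the hypothesis of the generic step -/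
def Hyp (p : ℕ) (Q₀ : QuadraticForm F (ι → F)) (m : ℕ) (P : Submodule F (ι → F) → Prop) : Prop :=
  ∀ x : GL ι F, x ∈ Cfsg.Geo.omegaGL (⇑Q₀) → x ^ p = 1 →
    (∀ z : F, (x : Matrix ι ι F) ≠ z • (1 : Matrix ι ι F)) →
    ∃ W : Submodule F (ι → F), (finrank F W = m ∧
      Cfsg.Geo.IsNondegenerateOn (QuadraticMap.polar ⇑Q₀) W ∧ P W) ∧
      W.map (toLin' (x : Matrix ι ι F)) ≤ W

/-- the data extracted from the hypothesis for a partition with an odd part -/
theorem exists_invariant_data (hp2 : p ≠ 2) (Q₀ : QuadraticForm F (ι → F))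
    (hQ₀ : (QuadraticMap.polarBilin Q₀).Nondegenerate) (hn : 2 ≤ Fintype.card ι)
    (m : ℕ) (P : Submodule F (ι → F) → Prop) (H : Hyp p Q₀ m P)
    (μ : Multiset ℕ) (hμ : ∀ b ∈ μ, 0 < b ∧ b ≤ p)
    (hpar : ∀ e : ℕ, Even e → Even (μ.count e))
    (hsum : μ.sum = Fintype.card ι) (hodd : ∃ j ∈ μ, Odd j) (hbig : ∃ b ∈ μ, 2 ≤ b) :
    ∃ (x : GL ι F) (W : Submodule F (ι → F)) (ν : Multiset ℕ),
      (∀ v, Q₀ ((x : Matrix ι ι F) *ᵥ v) = Q₀ v) ∧ finrank F W = m ∧ P W ∧
      ν ≤ μ ∧ ν.sum = m ∧ (∀ e : ℕ, Even e → Even (ν.count e)) ∧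
      IsJordan (toLin' (x : Matrix ι ι F) - 1) W ν := by
  obtain ⟨j, hj, hjodd⟩ := hodd
  have h2 : (2 : F) ≠ 0 := two_ne_zero_of_char hp2
  obtain ⟨x, hxΩ, hxp, hJ⟩ := exists_omega_of_type hp2 Q₀ hQ₀ hn μ hμ hpar hsum j hj hjodd
  obtain ⟨W, ⟨hWm, hWnd, hWP⟩, hWx⟩ := H x hxΩ hxp (not_scalar_of_isJordan hJ hbig)
  have hiso : ∀ v, Q₀ ((x : Matrix ι ι F) *ᵥ v) = Q₀ v := by
    unfold Cfsg.Geo.omegaGL at hxΩ
    rw [Subgroup.mem_map] at hxΩ
    obtain ⟨y, -, rfl⟩ := hxΩ
    exact (Cfsg.Agent.Helper28.IsoTransport.mem_isometryGroup_iff _ _).1 y.2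
  obtain ⟨ν, hνle, hνsum, hνpar, hνJ⟩ := exists_sub_type h2 Q₀ x hiso W hWx hWnd μ hJ
  exact ⟨x, W, ν, hiso, hWm, hWP, hνle, by rw [hνsum, hWm], hνpar, hνJ⟩

/-- **Generic partition condition.** -/
theorem partition_condition (hp2 : p ≠ 2) (Q₀ : QuadraticForm F (ι → F))
    (hQ₀ : (QuadraticMap.polarBilin Q₀).Nondegenerate) (hn : 2 ≤ Fintype.card ι)
    (m : ℕ) (hm : Even m) (hmn : m ≤ Fintype.card ι)
    (P : Submodule F (ι → F) → Prop) (H : Hyp p Q₀ m P)
    (μ : Multiset ℕ) (hμ : ∀ b ∈ μ, 0 < b ∧ b ≤ p)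
    (hpar : ∀ e : ℕ, Even e → Even (μ.count e))
    (hsum : μ.sum = Fintype.card ι) : Good m μ := by
  have hp : p.Prime := Fact.out
  -- the case with an odd part
  have hoddcase : ∀ μ' : Multiset ℕ, (∀ b ∈ μ', 0 < b ∧ b ≤ p) →
      (∀ e : ℕ, Even e → Even (μ'.count e)) → μ'.sum = Fintype.card ι →
      (∃ j ∈ μ', Odd j) → Good m μ' := by
    intro μ' hμ' hpar' hsum' hodd'
    by_cases hbig : ∃ b ∈ μ', 2 ≤ b
    · obtain ⟨x, W, ν, -, -, -, hle, hs, hp', -⟩ :=
        exists_invariant_data hp2 Q₀ hQ₀ hn m P H μ' hμ' hpar' hsum' hodd' hbig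
      exact ⟨ν, hle, hs, hp'⟩
    · -- all parts are one
      have hall : ∀ b ∈ μ', b = 1 := by
        intro b hb
        have h1 := (hμ' b hb).1
        by_contra hne
        exact hbig ⟨b, hb, by omega⟩
      have hrep : μ' = Multiset.replicate (Multiset.card μ') 1 :=
        Multiset.eq_replicate.2 ⟨rfl, hall⟩
      have hcard : Multiset.card μ' = Fintype.card ι := by
        rw [← hsum']
        conv_rhs => rw [hrep]
        rw [Multiset.sum_replicate, smul_eq_mul, mul_one]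
      refine ⟨Multiset.replicate m 1, ?_, ?_, ?_⟩
      · rw [hrep, hcard]
        exact Multiset.replicate_le_replicate 1 |>.2 hmn
      · rw [Multiset.sum_replicate, smul_eq_mul, mul_one]
      · intro e he
        rw [Multiset.count_replicate]
        have : ¬ (1 = e) := by
          rintro rfl
          exact absurd he (by decide)
        rw [if_neg this]
        exact Even.zero
  by_cases hodd : ∃ j ∈ μ, Odd j
  · exact hoddcase μ hμ hpar hsum hodd
  · have hall : ∀ b ∈ μ, Even b := by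
      intro b hb
      by_contra h
      exact hodd ⟨b, hb, Nat.not_even_iff_odd.1 h⟩
    have hne : μ ≠ 0 := by
      rintro rfl
      rw [Multiset.sum_zero] at hsum
      omega
    apply good_of_all_even p (hp.odd_of_ne_two hp2) m hm μ hμ hpar hall hne
    intro μ' hμ' hpar' hsum' hodd'
    exact hoddcase μ' hμ' hpar' (hsum'.trans hsum) hodd'

end Cfsg.Agent.Helper7.OrthUni
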