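import Cfsg.Agent.Helper7.OrthUni1

/-!
# Unipotent isometries of prescribed Jordan type, part 2 (helper7)

Matrix level: for a multiset `μ` (even parts of even multiplicity) containing an odd part, a
unipotent matrix of Jordan type `μ` preserving two nondegenerate symmetric forms whose
discriminants lie in different square classes.
-/

set_option autoImplicit false
set_option linter.unusedSectionVars false

namespace Cfsg.Agent.Helper7.OrthUni

open Matrix Cfsg.Agent.Helper21.Jordan Cfsg.Agent.Helper21.JC Cfsg.Agent.Helper21.JO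

variable {F : Type*} [Field F]

section blocks

variable {I₁ I₂ : Type*} [Fintype I₁] [DecidableEq I₁] [Fintype I₂] [DecidableEq I₂]

theorem blockForm_transpose (c : F) {B₁ : Matrix I₁ I₁ F} {B₂ : Matrix I₂ I₂ F}
    (h₁ : B₁ᵀ = B₁) (h₂ : B₂ᵀ = B₂) :
    (fromBlocks (c • B₁) 0 0 B₂)ᵀ = fromBlocks (c • B₁) 0 0 B₂ := by
  rw [fromBlocks_transpose, transpose_smul, h₁, h₂, transpose_zero, transpose_zero]

theorem blockForm_det (c : F) (B₁ : Matrix I₁ I₁ F) (B₂ : Matrix I₂ I₂ F) :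
    (fromBlocks (c • B₁) 0 0 B₂).det = c ^ Fintype.card I₁ * B₁.det * B₂.det := by
  rw [det_fromBlocks_zero₁₂, det_smul]

theorem blockForm_inv (c : F) {J₁ B₁ : Matrix I₁ I₁ F} {J₂ B₂ : Matrix I₂ I₂ F}
    (h₁ : J₁ᵀ * B₁ * J₁ = B₁) (h₂ : J₂ᵀ * B₂ * J₂ = B₂) :
    (fromBlocks J₁ 0 0 J₂)ᵀ * fromBlocks (c • B₁) 0 0 B₂ * fromBlocks J₁ 0 0 J₂
      = fromBlocks (c • B₁) 0 0 B₂ := by
  rw [fromBlocks_transpose, fromBlocks_multiply, fromBlocks_multiply]
  simp only [transpose_zero, Matrix.mul_zero, Matrix.zero_mul, add_zero, zero_add,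
    Matrix.mul_smul, Matrix.smul_mul, h₁, h₂, smul_zero]

end blocks

theorem not_isSquare_of_odd_pow {α δ : F} (hα : ¬ IsSquare α) (hδ : δ ≠ 0) {j : ℕ} (hj : Odd j) :
    ¬ IsSquare (α ^ j * δ * δ) := by
  obtain ⟨i, rfl⟩ := hj
  rintro ⟨r, hr⟩
  have hα0 : α ≠ 0 := by
    rintro rfl
    exact hα ⟨0, by simp⟩
  apply hα
  refine ⟨r / (α ^ i * δ), ?_⟩
  have h1 : α ^ i * δ ≠ 0 := mul_ne_zero (pow_ne_zero _ hα0) hδ
  field_simp
  have e : r ^ 2 = r * r := sq r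
  rw [e, ← hr]
  ring

/-- matrix-level existence: `μ` has even parts of even multiplicity and an odd part `j` -/
theorem exists_matrix_of_type [Finite F] (h2 : (2 : F) ≠ 0) (μ : Multiset ℕ)
    (hpos : ∀ b ∈ μ, 0 < b) (hpar : ∀ e : ℕ, Even e → Even (μ.count e))
    (j : ℕ) (hj : j ∈ μ) (hjodd : Odd j) :
    ∃ (I : Type) (_ : Fintype I) (_ : DecidableEq I) (U B B' : Matrix I I F),
      Fintype.card I = μ.sum ∧ IsUnit B ∧ Bᵀ = B ∧ Uᵀ * B * U = B ∧
      IsUnit B' ∧ B'ᵀ = B' ∧ Uᵀ * B' * U = B' ∧ ¬ IsSquare (B.det * B'.det) ∧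
      IsJordan (toLin' (U - 1)) ⊤ μ := by
  classical
  obtain ⟨t₂, d₂, hd₂μ⟩ := exists_fin_of_multiset (μ.erase j)
  set d₁ : Fin 1 → ℕ := fun _ => j with hd₁def
  have hd₁ : ∀ k, 1 ≤ d₁ k := fun _ => hjodd.pos
  have hd₂ : ∀ k, 1 ≤ d₂ k := by
    intro k
    have h1 : d₂ k ∈ Multiset.map d₂ Finset.univ.val :=
      Multiset.mem_map_of_mem _ (Finset.mem_univ_val k)
    rw [hd₂μ] at h1
    exact hpos _ (Multiset.mem_of_mem_erase h1)
  have hmap₁ : Multiset.map d₁ Finset.univ.val = {j} := by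
    rw [Fin.univ_val_map]
    simp [hd₁def]
  have hG₁ : GoodS (Cfsg.jordanTypeMatrix d₁ F) := by
    apply goodS_of_parity h2 hd₁
    intro e he he0
    rw [count_eq_card_filter, hmap₁, Multiset.count_singleton]
    have hne : e ≠ j := by
      rintro rfl
      exact (Nat.not_even_iff_odd.2 hjodd) he
    rw [if_neg hne]
    exact Even.zero
  have hG₂ : GoodS (Cfsg.jordanTypeMatrix d₂ F) := by
    apply goodS_of_parity h2 hd₂
    intro e he he0
    rw [count_eq_card_filter, hd₂μ]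
    have hne : e ≠ j := by
      rintro rfl
      exact (Nat.not_even_iff_odd.2 hjodd) he
    rw [Multiset.count_erase_of_ne hne]
    exact hpar e he
  obtain ⟨B₁, hB₁u, hB₁s, hB₁i⟩ := hG₁
  obtain ⟨B₂, hB₂u, hB₂s, hB₂i⟩ := hG₂
  have hchar : ringChar F ≠ 2 := by
    intro h
    apply h2
    have : ((2 : ℕ) : F) = 0 := by
      rw [← h]
      exact ringChar.Nat.cast_ringChar
    simpa using this
  obtain ⟨α, hα⟩ := FiniteField.exists_nonsquare hchar
  have hα0 : α ≠ 0 := by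
    rintro rfl
    exact hα ⟨0, by simp⟩
  have hdet₁ : B₁.det ≠ 0 := ((Matrix.isUnit_iff_isUnit_det _).1 hB₁u).ne_zero
  have hdet₂ : B₂.det ≠ 0 := ((Matrix.isUnit_iff_isUnit_det _).1 hB₂u).ne_zero
  have hcard₁ : Fintype.card (Idx d₁) = j := by
    rw [Fintype.card_sigma]
    simp [hd₁def]
  have hcard₂ : Fintype.card (Idx d₂) = (μ.erase j).sum := by
    rw [Fintype.card_sigma, ← hd₂μ]
    simp only [Fintype.card_fin]
    rfl
  have hunit : ∀ c : F, c ≠ 0 → IsUnit (fromBlocks (c • B₁) 0 0 B₂) := by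
    intro c hc
    rw [Matrix.isUnit_iff_isUnit_det, blockForm_det]
    exact IsUnit.mk0 _ (mul_ne_zero (mul_ne_zero (pow_ne_zero _ hc) hdet₁) hdet₂)
  refine ⟨Idx d₁ ⊕ Idx d₂, inferInstance, inferInstance,
    fromBlocks (Cfsg.jordanTypeMatrix d₁ F) 0 0 (Cfsg.jordanTypeMatrix d₂ F),
    fromBlocks ((1 : F) • B₁) 0 0 B₂, fromBlocks (α • B₁) 0 0 B₂, ?_, hunit 1 one_ne_zero,
    blockForm_transpose 1 hB₁s hB₂s, blockForm_inv 1 hB₁i hB₂i, hunit α hα0,
    blockForm_transpose α hB₁s hB₂s, blockForm_inv α hB₁i hB₂i, ?_, ?_⟩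
  · rw [Fintype.card_sum, hcard₁, hcard₂]
    have := Multiset.sum_erase hj
    omega
  · rw [blockForm_det, blockForm_det, hcard₁, one_pow, one_mul]
    have := not_isSquare_of_odd_pow hα (mul_ne_zero hdet₁ hdet₂) hjodd
    intro hsq
    apply this
    have e : α ^ j * (B₁.det * B₂.det) * (B₁.det * B₂.det)
        = B₁.det * B₂.det * (α ^ j * B₁.det * B₂.det) := by ring
    rw [e]
    exact hsq
  · have hU : fromBlocks (Cfsg.jordanTypeMatrix d₁ F) 0 0 (Cfsg.jordanTypeMatrix d₂ F) - 1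
        = fromBlocks (Nm (F := F) d₁) 0 0 (Nm (F := F) d₂) := by
      rw [Nm, Nm]
      have h1 : (1 : Matrix (Idx d₁ ⊕ Idx d₂) (Idx d₁ ⊕ Idx d₂) F) = fromBlocks 1 0 0 1 :=
        fromBlocks_one.symm
      rw [h1, sub_eq_add_neg, fromBlocks_neg, fromBlocks_add]
      simp [sub_eq_add_neg]
    rw [hU]
    have := Cfsg.Agent.Helper21.UJ.isJordan_fromBlocks _ _ (isJordan_Nm (F := F) d₁ hd₁) (isJordan_Nm (F := F) d₂ hd₂)
    rw [hmap₁, hd₂μ, Multiset.singleton_add, Multiset.cons_erase hj] at this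
    exact this

end Cfsg.Agent.Helper7.OrthUni
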