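import Cfsg.Agent.Helper7.OrthUni1

/-!
# Unipotent isometries of prescribed Jordan type, part 5 (helper7)

Parity of the Jordan type of a unipotent isometry on an invariant nondegenerate subspace
(bridge from `IsJordan` data to `Cfsg.Agent.Helper21.JO.even_of_form_s`).
-/

set_option autoImplicit false
set_option linter.unusedSectionVars false

namespace Cfsg.Agent.Helper7.OrthUni

open Matrix Cfsg.Agent.Helper21.Jordan Cfsg.Agent.Helper21.JC Cfsg.Agent.Helper21.JO

variable {F : Type*} [Field F]
variable {V : Type*} [AddCommGroup V] [Module F V]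

/-- Jordan data can be indexed by some `Fin t` -/
theorem IsJordan_fin {T : Module.End F V} {W : Submodule F V} {μ : Multiset ℕ}
    (h : IsJordan T W μ) :
    ∃ (t : ℕ) (d : Fin t → ℕ) (v : Fin t → V),
      Multiset.map d Finset.univ.val = μ ∧ (∀ i, 0 < d i) ∧
      LinearIndependent F (fam T d v) ∧ Submodule.span F (Set.range (fam T d v)) = W ∧
      ∀ i, (T ^ d i) (v i) = 0 := by
  classical
  obtain ⟨ι', _, d', v', hμ, hpos, hli, hspan, hkill⟩ := h
  let e : ι' ≃ Fin (Fintype.card ι') := Fintype.equivFin ι'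
  let s : (Σ k : Fin (Fintype.card ι'), Fin (d' (e.symm k))) → (Σ i : ι', Fin (d' i)) :=
    Sigma.map e.symm (fun _ => id)
  have hs_inj : Function.Injective s :=
    Function.Injective.sigma_map e.symm.injective (fun _ => Function.injective_id)
  have hs_surj : Function.Surjective s :=
    Function.Surjective.sigma_map e.symm.surjective (fun _ => Function.surjective_id)
  have hfam : fam T (fun k => d' (e.symm k)) (fun k => v' (e.symm k)) = fam T d' v' ∘ s := by
    funext ⟨k, i⟩
    rfl
  refine ⟨Fintype.card ι', fun k => d' (e.symm k), fun k => v' (e.symm k), ?_,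
    fun k => hpos _, ?_, ?_, fun k => hkill _⟩
  · rw [← hμ]
    have h1 : Multiset.map (fun k => d' (e.symm k)) Finset.univ.val
        = Multiset.map d' (Multiset.map (⇑e.symm) Finset.univ.val) := by
      rw [Multiset.map_map]
      rfl
    rw [h1, Multiset.map_univ_val_equiv]
  · rw [hfam]
    exact hli.comp s hs_inj
  · rw [hfam, hs_surj.range_comp, hspan]

/-- **Parity** of the Jordan type of a unipotent isometry on a nondegenerate invariant
subspace: even sizes have even multiplicity (odd characteristic). -/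
theorem parity_of_isJordan (h2 : (2 : F) ≠ 0) (B : LinearMap.BilinForm F V)
    (hsymm : ∀ a b, B a b = B b a) (u : Module.End F V) (hu : ∀ a b, B (u a) (u b) = B a b)
    (W : Submodule F V) (hnd : ∀ w ∈ W, (∀ w' ∈ W, B w w' = 0) → w = 0)
    (ν : Multiset ℕ) (hJ : IsJordan (u - 1) W ν) :
    ∀ e : ℕ, Even e → Even (ν.count e) := by
  classical
  intro e he
  rcases Nat.eq_zero_or_pos e with rfl | he0
  · rw [Multiset.count_eq_zero_of_notMem hJ.zero_notMem]
    exact Even.zero
  obtain ⟨t, d, v, hν, hpos, hli, hspan, hkill⟩ := IsJordan_fin hJ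
  set T : Module.End F V := u - 1 with hT
  have hd : ∀ k, 1 ≤ d k := hpos
  set Φ : (Idx d → F) →ₗ[F] V := Fintype.linearCombination F (fam T d v) with hΦ
  have hΦinj : Function.Injective Φ := hli.fintypeLinearCombination_injective
  have hΦrange : LinearMap.range Φ = W := by
    rw [hΦ, Fintype.range_linearCombination, hspan]
  have hΦsingle : ∀ x : Idx d, Φ (Pi.single x 1) = fam T d v x := by
    intro x
    rw [hΦ, Fintype.linearCombination_apply_single, one_smul]
  have hΦmem : ∀ c, Φ c ∈ W := by
    intro c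
    rw [← hΦrange]
    exact LinearMap.mem_range_self _ _
  -- intertwining
  have hTfam : ∀ (k : Fin t) (i : Fin (d k)),
      Φ (Nm (F := F) d *ᵥ Pi.single (⟨k, i⟩ : Idx d) 1) = T (fam T d v ⟨k, i⟩) := by
    intro k i
    rw [Nm_mulVec_single, fam_apply]
    by_cases h : (i : ℕ) + 1 < d k
    · rw [dif_pos h, hΦsingle, fam_apply]
      show (T ^ ((i : ℕ) + 1)) (v k) = T ((T ^ (i : ℕ)) (v k))
      rw [pow_succ', Module.End.mul_apply]
    · rw [dif_neg h, map_zero]
      have h1 : (i : ℕ) + 1 = d k := by have := i.2; omega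
      have h3 : T ((T ^ (i : ℕ)) (v k)) = (T ^ ((i : ℕ) + 1)) (v k) := by
        rw [pow_succ', Module.End.mul_apply]
      rw [h3, h1, hkill]
  have hint : Φ ∘ₗ toLin' (Cfsg.jordanTypeMatrix d F) = u ∘ₗ Φ := by
    apply LinearMap.pi_ext
    rintro ⟨k, i⟩ c
    have hc : (Pi.single (⟨k, i⟩ : Idx d) c : Idx d → F)
        = c • Pi.single (⟨k, i⟩ : Idx d) (1 : F) := by
      rw [← Pi.single_smul, smul_eq_mul, mul_one]
    rw [hc, map_smul, map_smul]
    congr 1
    rw [LinearMap.comp_apply, LinearMap.comp_apply, Matrix.toLin'_apply]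
    have hJN : Cfsg.jordanTypeMatrix d F = Nm (F := F) d + 1 := by
      rw [Nm, sub_add_cancel]
    rw [hJN, Matrix.add_mulVec, Matrix.one_mulVec, map_add, hTfam, hΦsingle]
    have : u = T + 1 := by rw [hT, sub_add_cancel]
    rw [this, LinearMap.add_apply, Module.End.one_apply]
  have hint' : ∀ c, Φ (Cfsg.jordanTypeMatrix d F *ᵥ c) = u (Φ c) := by
    intro c
    have := LinearMap.congr_fun hint c
    rwa [LinearMap.comp_apply, LinearMap.comp_apply, Matrix.toLin'_apply] at this
  -- the Gram matrix
  set BΦ : LinearMap.BilinForm F (Idx d → F) := B.comp Φ Φ with hBΦ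
  set Ω : Matrix (Idx d) (Idx d) F := LinearMap.BilinForm.toMatrix' BΦ with hΩ
  have hΩs : Ωᵀ = Ω := by
    ext x y
    rw [Matrix.transpose_apply, hΩ, LinearMap.BilinForm.toMatrix'_apply,
      LinearMap.BilinForm.toMatrix'_apply, hBΦ, LinearMap.BilinForm.comp_apply,
      LinearMap.BilinForm.comp_apply, hsymm]
  have hsepL : ∀ c, (∀ c', BΦ c c' = 0) → c = 0 := by
    intro c hc
    apply hΦinj
    rw [map_zero]
    apply hnd _ (hΦmem c)
    intro w' hw'
    rw [← hΦrange] at hw'
    obtain ⟨c', rfl⟩ := hw'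
    have := hc c'
    rwa [hBΦ, LinearMap.BilinForm.comp_apply] at this
  have hBΦnd : BΦ.Nondegenerate := by
    constructor
    · intro c hc
      exact hsepL c hc
    · intro c hc
      apply hsepL c
      intro c'
      have := hc c'
      rw [hBΦ, LinearMap.BilinForm.comp_apply] at this ⊢
      rw [hsymm]
      exact this
  have hΩu : IsUnit Ω := by
    have h1 := (LinearMap.BilinForm.nondegenerate_toMatrix'_iff (B := BΦ)).2 hBΦnd
    rw [Matrix.nondegenerate_iff_det_ne_zero] at h1
    exact (Matrix.isUnit_iff_isUnit_det _).2 (IsUnit.mk0 _ h1)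
  have hinv : (Cfsg.jordanTypeMatrix d F)ᵀ * Ω * Cfsg.jordanTypeMatrix d F = Ω := by
    have h1 : BΦ.comp (toLin' (Cfsg.jordanTypeMatrix d F)) (toLin' (Cfsg.jordanTypeMatrix d F))
        = BΦ := by
      apply LinearMap.ext
      intro c
      apply LinearMap.ext
      intro c'
      rw [LinearMap.BilinForm.comp_apply, hBΦ, LinearMap.BilinForm.comp_apply,
        LinearMap.BilinForm.comp_apply, Matrix.toLin'_apply, Matrix.toLin'_apply, hint', hint', hu]
    have h3 := LinearMap.BilinForm.toMatrix'_comp BΦ (toLin' (Cfsg.jordanTypeMatrix d F))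
      (toLin' (Cfsg.jordanTypeMatrix d F))
    rw [h1, LinearMap.toMatrix'_toLin'] at h3
    exact h3.symm
  have key := even_of_form_s h2 hd hΩu hΩs hinv e he he0
  rw [count_eq_card_filter, hν] at key
  exact key

end Cfsg.Agent.Helper7.OrthUni
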