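import Cfsg.Agent.Helper7.OrthUni5
import Cfsg.Prelude.Def_GeometricClasses

/-!
# Unipotent isometries of prescribed Jordan type, part 6 (helper7)

A unipotent isometry `x` of Jordan type `μ` stabilising a nondegenerate subspace `W`: the Jordan
type `ν` of `x` on `W` is a sub-multiset of `μ` of sum `dim W` whose even parts have even
multiplicity.
-/

set_option autoImplicit false
set_option linter.unusedSectionVars false

namespace Cfsg.Agent.Helper7.OrthUni

open Matrix Module Cfsg.Agent.Helper21.Jordan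

variable {F : Type*} [Field F] {ι : Type} [Fintype ι] [DecidableEq ι]

theorem polar_mulVec (Q : QuadraticForm F (ι → F)) (X : Matrix ι ι F)
    (hX : ∀ v, Q (X *ᵥ v) = Q v) (a b : ι → F) :
    QuadraticMap.polar ⇑Q (X *ᵥ a) (X *ᵥ b) = QuadraticMap.polar ⇑Q a b := by
  rw [QuadraticMap.polar, QuadraticMap.polar, ← Matrix.mulVec_add, hX, hX, hX]

theorem map_eq_of_le (x : GL ι F) (W : Submodule F (ι → F))
    (hW : W.map (toLin' (x : Matrix ι ι F)) ≤ W) :
    W.map (toLin' (x : Matrix ι ι F)) = W := by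
  have hinj : Function.Injective (toLin' (x : Matrix ι ι F)) := by
    intro a b hab
    have h1 := congrArg (fun w => ((x⁻¹ : GL ι F) : Matrix ι ι F) *ᵥ w) hab
    simp only [Matrix.toLin'_apply, Matrix.mulVec_mulVec] at h1
    rw [← Units.val_mul, inv_mul_cancel, Units.val_one, Matrix.one_mulVec, Matrix.one_mulVec] at h1
    exact h1
  apply Submodule.eq_of_le_of_finrank_eq hW
  exact (LinearEquiv.finrank_eq (Submodule.equivMapOfInjective _ hinj W)).symm

theorem exists_sub_type (h2 : (2 : F) ≠ 0) (Q : QuadraticForm F (ι → F))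
    (x : GL ι F) (hx : ∀ v, Q ((x : Matrix ι ι F) *ᵥ v) = Q v)
    (W : Submodule F (ι → F)) (hW : W.map (toLin' (x : Matrix ι ι F)) ≤ W)
    (hnd : Cfsg.Geo.IsNondegenerateOn (QuadraticMap.polar ⇑Q) W)
    (μ : Multiset ℕ) (hJ : IsJordan (toLin' (x : Matrix ι ι F) - 1) ⊤ μ) :
    ∃ ν : Multiset ℕ, ν ≤ μ ∧ ν.sum = finrank F W ∧ (∀ e : ℕ, Even e → Even (ν.count e)) ∧
      IsJordan (toLin' (x : Matrix ι ι F) - 1) W ν := by
  classical
  set X : Matrix ι ι F := (x : Matrix ι ι F) with hXdef
  set T : Module.End F (ι → F) := toLin' X - 1 with hT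
  set B : LinearMap.BilinForm F (ι → F) := QuadraticMap.polarBilin Q with hB
  have hBapp : ∀ a b, B a b = QuadraticMap.polar ⇑Q a b := fun a b =>
    QuadraticMap.polarBilin_apply_apply Q a b
  have hsymm : ∀ a b, B a b = B b a := fun a b => by
    rw [hBapp, hBapp, QuadraticMap.polar_comm]
  have hBX : ∀ a b, B (toLin' X a) (toLin' X b) = B a b := fun a b => by
    rw [hBapp, hBapp, Matrix.toLin'_apply, Matrix.toLin'_apply, polar_mulVec Q X hx]
  have hnil : IsNilpotent T := hJ.isNilpotent
  -- nondegeneracy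
  have hnd' : ∀ w ∈ W, (∀ w' ∈ W, B w w' = 0) → w = 0 := by
    intro w hw h
    by_contra hne
    obtain ⟨-, ⟨y, hy, hy'⟩⟩ := hnd w hw hne
    apply hy'
    rw [← hBapp]
    exact h y hy
  have hrefl : B.IsRefl := by
    intro a b hab
    rw [hsymm]
    exact hab
  have hres : (B.restrict W).Nondegenerate := by
    have hL : ∀ w : W, (∀ w' : W, (B.restrict W) w w' = 0) → w = 0 := by
      intro w h
      apply Subtype.ext
      apply hnd' w.1 w.2
      intro w' hw'
      exact h ⟨w', hw'⟩
    constructor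
    · exact hL
    · intro w h
      apply hL
      intro w'
      have := h w'
      change B w'.1 w.1 = 0 at this
      change B w.1 w'.1 = 0
      rw [hsymm]
      exact this
  have hc : IsCompl W (B.orthogonal W) :=
    LinearMap.BilinForm.isCompl_orthogonal_of_restrict_nondegenerate hrefl hres
  -- invariance
  have hWmap : W.map (toLin' X) = W := map_eq_of_le x W hW
  have hXW : ∀ w ∈ W, toLin' X w ∈ W := fun w hw => hW (Submodule.mem_map_of_mem hw)
  have hTW : ∀ w ∈ W, T w ∈ W := by
    intro w hw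
    rw [hT, LinearMap.sub_apply, Module.End.one_apply]
    exact W.sub_mem (hXW w hw) hw
  have hXW' : ∀ v ∈ B.orthogonal W, toLin' X v ∈ B.orthogonal W := by
    intro v hv
    rw [LinearMap.BilinForm.mem_orthogonal_iff] at hv ⊢
    intro w hw
    rw [← hWmap] at hw
    obtain ⟨w', hw', rfl⟩ := hw
    rw [hBX]
    exact hv w' hw'
  have hTW' : ∀ v ∈ B.orthogonal W, T v ∈ B.orthogonal W := by
    intro v hv
    rw [hT, LinearMap.sub_apply, Module.End.one_apply]
    exact (B.orthogonal W).sub_mem (hXW' v hv) hv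
  obtain ⟨ν, hν⟩ := exists_isJordan_aux T hnil _ W hTW rfl
  obtain ⟨ν', hν'⟩ := exists_isJordan_aux T hnil _ (B.orthogonal W) hTW' rfl
  have hsup := hν.sup hν' hc.disjoint
  rw [hc.sup_eq_top] at hsup
  have hμ : μ = ν + ν' := hJ.unique hsup
  refine ⟨ν, ?_, hν.sum_eq_finrank, ?_, hν⟩
  · rw [hμ]
    exact Multiset.le_add_right ν ν'
  · have hu : toLin' X - 1 = T := rfl
    exact parity_of_isJordan h2 B hsymm (toLin' X) hBX W hnd' ν hν

end Cfsg.Agent.Helper7.OrthUni
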