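import Mathlib

/-!
# Unipotent isometries of prescribed Jordan type, part 7 (helper7)

Combinatorics of partitions whose even parts have even multiplicity.
-/

set_option autoImplicit false

namespace Cfsg.Agent.Helper7.OrthUni

/-- `μ` contains a sub-multiset of sum `m` whose even parts have even multiplicity -/
def Good (m : ℕ) (μ : Multiset ℕ) : Prop :=
  ∃ ν : Multiset ℕ, ν ≤ μ ∧ ν.sum = m ∧ ∀ e : ℕ, Even e → Even (ν.count e)

theorem even_sum_of_all_even (s : Multiset ℕ) (h : ∀ b ∈ s, Even b) : Even s.sum := by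
  rw [even_iff_two_dvd]
  exact Multiset.dvd_sum (fun b hb => even_iff_two_dvd.1 (h b hb))

/-- reduction of the all-even case to partitions containing an odd part -/
theorem good_of_all_even (p : ℕ) (hpodd : Odd p) (m : ℕ) (hm : Even m) (μ : Multiset ℕ)
    (hμ : ∀ b ∈ μ, 0 < b ∧ b ≤ p) (hpar : ∀ e : ℕ, Even e → Even (μ.count e))
    (hall : ∀ b ∈ μ, Even b) (hne : μ ≠ 0)
    (H : ∀ μ' : Multiset ℕ, (∀ b ∈ μ', 0 < b ∧ b ≤ p) →
      (∀ e : ℕ, Even e → Even (μ'.count e)) → μ'.sum = μ.sum → (∃ j ∈ μ', Odd j) → Good m μ') :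
    Good m μ := by
  obtain ⟨a, ha⟩ := Multiset.exists_mem_of_ne_zero hne
  have haeven : Even a := hall a ha
  have ha0 : 0 < a := (hμ a ha).1
  have hap : a ≤ p := (hμ a ha).2
  have ha2 : 2 ≤ a := by
    obtain ⟨c, hc⟩ := haeven
    omega
  have hap' : a + 1 ≤ p := by
    obtain ⟨c, hc⟩ := haeven
    obtain ⟨k, hk⟩ := hpodd
    omega
  have hcnt : 2 ≤ μ.count a := by
    have h1 : Even (μ.count a) := hpar a haeven
    have h2 : 0 < μ.count a := Multiset.count_pos.2 ha
    obtain ⟨c, hc⟩ := h1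
    omega
  have ha' : a ∈ μ.erase a := by
    rw [← Multiset.count_pos, Multiset.count_erase_self]
    omega
  set μ₀ := (μ.erase a).erase a with hμ₀
  have hμeq : μ = a ::ₘ a ::ₘ μ₀ := by
    rw [hμ₀, Multiset.cons_erase ha', Multiset.cons_erase ha]
  have hμ₀le : μ₀ ≤ μ := by
    rw [hμeq]
    exact (Multiset.le_cons_self _ _).trans (Multiset.le_cons_self _ _)
  have hodd1 : Odd (a + 1) := haeven.add_one
  have hodd2 : Odd (a - 1) := by
    obtain ⟨c, hc⟩ := haeven
    exact ⟨c - 1, by omega⟩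
  have hall₀ : ∀ b ∈ μ₀, Even b := fun b hb => hall b (Multiset.mem_of_le hμ₀le hb)
  set μ' := (a + 1) ::ₘ (a - 1) ::ₘ μ₀ with hμ'
  have hgood : Good m μ' := by
    apply H μ'
    · intro b hb
      rw [hμ', Multiset.mem_cons, Multiset.mem_cons] at hb
      rcases hb with rfl | rfl | hb
      · exact ⟨by omega, hap'⟩
      · exact ⟨by omega, by omega⟩
      · exact hμ b (Multiset.mem_of_le hμ₀le hb)
    · intro e he
      have h1 : e ≠ a + 1 := by
        rintro rfl
        exact (Nat.not_even_iff_odd.2 hodd1) he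
      have h2 : e ≠ a - 1 := by
        rintro rfl
        exact (Nat.not_even_iff_odd.2 hodd2) he
      rw [hμ', Multiset.count_cons_of_ne h1, Multiset.count_cons_of_ne h2]
      have h3 := hpar e he
      rw [hμeq, Multiset.count_cons, Multiset.count_cons] at h3
      by_cases hea : e = a
      · rw [if_pos hea] at h3
        obtain ⟨c, hc⟩ := h3
        exact ⟨c - 1, by omega⟩
      · rw [if_neg hea] at h3
        simpa using h3
    · rw [hμ', hμeq]
      simp only [Multiset.sum_cons]
      omega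
    · exact ⟨a + 1, by rw [hμ']; exact Multiset.mem_cons_self _ _, hodd1⟩
  obtain ⟨ν', hν'le, hν'sum, hν'par⟩ := hgood
  have hnot1 : a + 1 ∉ μ₀ := fun h => (Nat.not_even_iff_odd.2 hodd1) (hall₀ _ h)
  have hnot2 : a - 1 ∉ μ₀ := fun h => (Nat.not_even_iff_odd.2 hodd2) (hall₀ _ h)
  have hne12 : a + 1 ≠ a - 1 := by omega
  -- remove the two odd parts from ν'
  set ν₁ := ν'.erase (a + 1) with hν₁
  set ν₀ := ν₁.erase (a - 1) with hν₀
  have hν₁le : ν₁ ≤ (a - 1) ::ₘ μ₀ := by
    have := Multiset.erase_le_erase (a + 1) hν'le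
    rwa [hμ', Multiset.erase_cons_head] at this
  have hν₀le : ν₀ ≤ μ₀ := by
    have := Multiset.erase_le_erase (a - 1) hν₁le
    rwa [Multiset.erase_cons_head] at this
  have hν₀even : Even ν₀.sum :=
    even_sum_of_all_even ν₀ (fun b hb => hall₀ b (Multiset.mem_of_le hν₀le hb))
  have hparν₀ : ∀ e : ℕ, Even e → Even (ν₀.count e) := by
    intro e he
    have h1 : e ≠ a + 1 := by
      rintro rfl
      exact (Nat.not_even_iff_odd.2 hodd1) he
    have h2 : e ≠ a - 1 := by
      rintro rfl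
      exact (Nat.not_even_iff_odd.2 hodd2) he
    rw [hν₀, Multiset.count_erase_of_ne h2, hν₁, Multiset.count_erase_of_ne h1]
    exact hν'par e he
  by_cases h1 : a + 1 ∈ ν'
  · have hs1 : ν'.sum = (a + 1) + ν₁.sum := by
      rw [hν₁, Multiset.sum_erase h1]
    by_cases h2 : a - 1 ∈ ν₁
    · have hs2 : ν₁.sum = (a - 1) + ν₀.sum := by
        rw [hν₀, Multiset.sum_erase h2]
      refine ⟨a ::ₘ a ::ₘ ν₀, ?_, ?_, ?_⟩
      · rw [hμeq]
        exact Multiset.cons_le_cons _ (Multiset.cons_le_cons _ hν₀le)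
      · simp only [Multiset.sum_cons]
        omega
      · intro e he
        rw [Multiset.count_cons, Multiset.count_cons]
        have := hparν₀ e he
        by_cases hea : e = a
        · rw [if_pos hea]
          obtain ⟨c, hc⟩ := this
          exact ⟨c + 1, by omega⟩
        · rw [if_neg hea]
          simpa using this
    · exfalso
      have hs2 : ν₁.sum = ν₀.sum := by
        rw [hν₀, Multiset.erase_of_notMem h2]
      obtain ⟨c, hc⟩ := hν₀even
      obtain ⟨c', hc'⟩ := hm
      obtain ⟨c'', hc''⟩ := haeven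
      omega
  · have hν₁eq : ν₁ = ν' := by rw [hν₁, Multiset.erase_of_notMem h1]
    by_cases h2 : a - 1 ∈ ν₁
    · exfalso
      have hs2 : ν₁.sum = (a - 1) + ν₀.sum := by
        rw [hν₀, Multiset.sum_erase h2]
      rw [hν₁eq] at hs2
      obtain ⟨c, hc⟩ := hν₀even
      obtain ⟨c', hc'⟩ := hm
      obtain ⟨c'', hc''⟩ := haeven
      omega
    · have hν₀eq : ν₀ = ν' := by rw [hν₀, Multiset.erase_of_notMem h2, hν₁eq]
      refine ⟨ν', ?_, hν'sum, hν'par⟩
      rw [← hν₀eq]
      exact hν₀le.trans hμ₀le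

/-- sum of a multiset with all parts in `{1,2,3}` -/
theorem sum_eq_counts3 (ν : Multiset ℕ) (h : ∀ b ∈ ν, b = 1 ∨ b = 2 ∨ b = 3) :
    ν.sum = ν.count 1 + 2 * ν.count 2 + 3 * ν.count 3 := by
  induction ν using Multiset.induction_on with
  | empty => simp
  | cons a ν ih =>
    have ih' := ih (fun b hb => h b (Multiset.mem_cons_of_mem hb))
    rw [Multiset.sum_cons, ih', Multiset.count_cons, Multiset.count_cons, Multiset.count_cons]
    rcases h a (Multiset.mem_cons_self a ν) with rfl | rfl | rfl <;> simp <;> omega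

end Cfsg.Agent.Helper7.OrthUni
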