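import Mathlib
import Cfsg.Agent.Helper7.OutO10
import Cfsg.Agent.Helper7.AutPSL16
import Cfsg.Agent.Helper28.GraphInvMinus
import Cfsg.Agent.S0297
import Cfsg.Agent.S2615
import Cfsg.Agent.S2171
import Cfsg.Agent.S2727
import Cfsg.Agent.S2728

/-!
# Outer automorphism groups of orthogonal groups, part 11 (helper7)

`Out(PΩ⁻_{2m}(q))` for odd `q = p^f`: `D₈ × C_f` when `q ≡ 3 (mod 4)` and `m` is odd, and
`C₂ × C_{2f}` otherwise.
-/

set_option autoImplicit false
set_option linter.unusedSectionVars false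
set_option linter.unusedVariables false

namespace Cfsg.Agent.Helper7.OutO

open Matrix Module Cfsg.Agent.Helper28.Sg Cfsg.Agent.Helper28.Spin Cfsg.Agent.Helper28.PG
  Cfsg.Agent.Helper28.SSim Cfsg.Agent.Helper28.GC Cfsg.Agent.Helper7.AutO
  Cfsg.Agent.Helper28.IsoTransport Cfsg.Agent.Helper28.GInv Cfsg.Agent.Helper28.IDM

/-- the discriminant of the minus-type form is not a square unless `q ≡ 3 (mod 4)` and the Witt
index is even -/
theorem disc_minus_nonsquare {F : Type*} [Field F] [Fintype F] [DecidableEq F] {n : ℕ}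
    (h2 : (2 : F) ≠ 0) (a b : F)
    (hab : ∀ z₁ z₂ : F, z₁ ^ 2 + a * z₁ * z₂ + b * z₂ ^ 2 = 0 → z₁ = 0 ∧ z₂ = 0)
    (hc : ¬ (Even n ∧ Fintype.card F % 4 = 3)) :
    ¬ IsSquare (LinearMap.BilinForm.toMatrix'
      (QuadraticMap.polarBilin (QfMinus n F a b))).det := by
  have hδ := Cfsg.Agent.S2621.not_isSquare_disc h2 a b hab
  rw [gram_minus_det]
  obtain ⟨r, hr⟩ : IsSquare ((-1 : F) ^ (n + 1)) := by
    by_cases hn : Even n
    · have h4 : Fintype.card F % 4 ≠ 3 := fun h => hc ⟨hn, h⟩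
      exact (FiniteField.isSquare_neg_one_iff.2 h4).pow _
    · have hn' : Even (n + 1) := by
        rw [Nat.not_even_iff_odd] at hn
        exact hn.add_one
      rw [hn'.neg_one_pow]
      exact ⟨1, by ring⟩
  have hr0 : r ≠ 0 := by
    rintro rfl
    rw [mul_zero] at hr
    exact pow_ne_zero _ (neg_ne_zero.2 one_ne_zero) hr
  rintro ⟨s, hs⟩
  apply hδ
  refine ⟨s * r⁻¹, ?_⟩
  have e : (-1 : F) ^ n * (4 * b - a ^ 2) = (-1) ^ (n + 1) * (a ^ 2 - 4 * b) := by
    rw [pow_succ]; ring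
  rw [e, hr] at hs
  field_simp
  linear_combination hs

theorem sq_mod_four (x : ℕ) : x * x % 4 ≠ 3 := by
  have h1 : x * x % 4 = (x % 4) * (x % 4) % 4 := Nat.mul_mod x x 4
  have h2 : x % 4 < 4 := Nat.mod_lt _ (by norm_num)
  rw [h1]
  interval_cases (x % 4) <;> decide

set_option maxHeartbeats 1600000 in
/-- **`Out(PΩ⁻_{2m}(q))`, `q` odd** -/
theorem out_minus_odd {F : Type*} [Field F] [Fintype F] {p f m : ℕ} [Fact p.Prime] (hf : 1 ≤ f)
    (hF : Fintype.card F = p ^ f) (hp : p ≠ 2) (hm : 4 ≤ m) (a b : F)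
    (hab : ∀ z₁ z₂ : F, z₁ ^ 2 + a * z₁ * z₂ + b * z₂ ^ 2 = 0 → z₁ = 0 ∧ z₂ = 0) :
    if p ^ f % 4 = 3 ∧ Odd m then
      Nonempty (Cfsg.Out (Cfsg.POmega F (Cfsg.quadFormMinus (m - 1) F a b)) ≃*
        DihedralGroup 4 × Multiplicative (ZMod f))
    else
      Nonempty (Cfsg.Out (Cfsg.POmega F (Cfsg.quadFormMinus (m - 1) F a b)) ≃*
        Multiplicative (ZMod 2 × ZMod (2 * f))) := by
  classical
  obtain ⟨n, rfl⟩ : ∃ n, m = n + 1 := ⟨m - 1, by omega⟩
  have hn : 3 ≤ n := by omega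
  rw [Nat.add_sub_cancel, ← QfMinus_coe]
  have hpodd : Odd p := (Fact.out : p.Prime).odd_of_ne_two hp
  have hodd : Odd (Fintype.card F) := by rw [hF]; exact hpodd.pow
  have h2 : (2 : F) ≠ 0 := by
    apply Ring.two_ne_zero
    intro h
    rw [FiniteField.even_card_iff_char_two] at h
    rcases hodd with ⟨k, hk⟩
    omega
  have hδ := Cfsg.Agent.S2621.not_isSquare_disc h2 a b hab
  have hdisc : 4 * b - a ^ 2 ≠ 0 := by
    intro h
    apply hδ
    have : a ^ 2 - 4 * b = 0 := by linear_combination -h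
    rw [this]
    exact ⟨0, by simp⟩
  have hQ : (QuadraticMap.polarBilin (QfMinus n F a b)).Nondegenerate :=
    Cfsg.Agent.S2171.QfMinus_nondeg_of n a b hdisc
  have hcardι : Fintype.card ((Fin n ⊕ Fin n) ⊕ Fin 2) = 2 * (n + 1) := by
    rw [Fintype.card_sum, Fintype.card_sum, Fintype.card_fin, Fintype.card_fin]; omega
  let a' : Fin 3 → (Fin n ⊕ Fin n) ⊕ Fin 2 :=
    fun j => Sum.inl (Sum.inl (Fin.castLE (by omega) j))
  let b' : Fin 3 → (Fin n ⊕ Fin n) ⊕ Fin 2 :=
    fun j => Sum.inl (Sum.inr (Fin.castLE (by omega) j))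
  have hinj : Function.Injective (Sum.elim a' b') := by
    intro x y h
    rcases x with x | x <;> rcases y with y | y <;>
      simp only [Sum.elim_inl, Sum.elim_inr, a', b', Sum.inl.injEq, Sum.inr.injEq, reduceCtorEq,
        Fin.castLE_inj] at h
    · rw [h]
    · rw [h]
  let fr : Frame3 (QfMinus n F a b) := frameOf a' b' hinj
    (fun j => Cfsg.Agent.S2615.hypPair_minus n a b _)
  have hgen := hgen_odd h2 hQ
  have hperf := Omega_perfect' hQ fr hgen
  have htop : Cfsg.gammaPOmega F ⇑(QfMinus n F a b) = ⊤ := gamma_minus hn a b hab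
  have hex := hex_minus (m := n) a b
  have hsurj : ∀ σ : F ≃+* F, ∃ g : GL ((Fin n ⊕ Fin n) ⊕ Fin 2) F,
      Cfsg.IsSemisimilarityPair (⇑(QfMinus n F a b)) g σ := by
    intro σ
    rw [QfMinus_coe]
    exact exists_semisim_minus n a b hab σ
  obtain ⟨e₂⟩ := Cfsg.Agent.Helper7.AutPSL.exists_ringAut_equiv (F := F) hF
  have hcyc : IsCyclic (RingAut F) := isCyclic_of_surjective e₂.symm e₂.symm.surjective
  have hcF : Nat.card (RingAut F) = f := card_ringAut_eq hF
  have hθs := thetaOut_surjective' hQ fr hperf htop hsurj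
  have hfin : Finite (Cfsg.Out (Cfsg.POmega F ⇑(QfMinus n F a b))) := by
    unfold Cfsg.Out
    infer_instance
  have hres := Cfsg.Agent.S2728.result hodd hn a b hab
  have hres2 := Cfsg.Agent.S2727.result hodd hn a b hab
  rw [← QfMinus_coe] at hres hres2
  obtain ⟨hD8, hV4⟩ := hres
  obtain ⟨hI2, hI1⟩ := hres2
  by_cases hcase : Even n ∧ Fintype.card F % 4 = 3
  · have hc' : p ^ f % 4 = 3 ∧ Odd (n + 1) := ⟨by rw [← hF]; exact hcase.2, hcase.1.add_one⟩
    rw [if_pos hc']
    obtain ⟨ψ, hψs, hψk⟩ := hD8 hcase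
    obtain ⟨e⟩ := ker_equiv_of_hom hQ fr hperf htop ψ hψs hψk
    have hZn : (Zbar (QfMinus n F a b)).Normal := Zbar_normal hQ fr hperf htop hex h2 hcardι
    have hZ2 : Nat.card (Zbar (QfMinus n F a b)) = 2 := by
      rw [card_Zbar]; exact hI2 hcase
    have hfodd : Odd f := by
      by_contra hev
      rw [Nat.not_odd_iff_even] at hev
      obtain ⟨e', he'⟩ := hev
      have h3 := hc'.1
      rw [he', pow_add] at h3
      exact sq_mod_four _ h3
    exact out_struct_D8 (thetaOut hQ fr hperf htop) hθs hfodd hcF e (Zbar (QfMinus n F a b)) hZ2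
      (fun x k hk => comm_mem_Zbar hQ fr hperf htop hex h2 hcardι x k hk)
  · have hc' : ¬ (p ^ f % 4 = 3 ∧ Odd (n + 1)) := by
      rintro ⟨h3, h4⟩
      apply hcase
      refine ⟨?_, by rw [hF]; exact h3⟩
      by_contra hne
      rw [Nat.not_even_iff_odd] at hne
      have := hne.add_one
      rw [← Nat.not_odd_iff_even] at this
      exact this h4
    rw [if_neg hc']
    obtain ⟨ψ, hψs, hψk⟩ := hV4 hcase
    obtain ⟨e⟩ := ker_equiv_of_hom hQ fr hperf htop ψ hψs hψk
    have hK4 : Nat.card (thetaOut hQ fr hperf htop).ker = 4 := by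
      rw [Nat.card_congr e.toEquiv, Nat.card_eq_fintype_card, Fintype.card_multiplicative,
        Fintype.card_prod, ZMod.card]
    have hsq : ∀ t : Multiplicative (ZMod 2 × ZMod 2), t * t = 1 := by decide
    have hK2 : ∀ k ∈ (thetaOut hQ fr hperf htop).ker, k * k = 1 := by
      intro k hk
      have h3 : e (⟨k, hk⟩ * ⟨k, hk⟩) = e 1 := by
        rw [map_mul, map_one]; exact hsq _
      have h4 := congrArg Subtype.val (e.injective h3)
      exact h4
    have hZ1 : Nat.card (Zbar (QfMinus n F a b)) = 1 := by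
      rw [card_Zbar]; exact hI1 hcase
    have hZbot : Zbar (QfMinus n F a b) = ⊥ := Subgroup.card_eq_one.1 hZ1
    have hKc : ∀ k ∈ (thetaOut hQ fr hperf htop).ker, ∀ x, x * k = k * x := by
      intro k hk x
      have h1 := comm_mem_Zbar hQ fr hperf htop hex h2 hcardι x k hk
      rw [hZbot, Subgroup.mem_bot] at h1
      have h3 : x * k = (x * k * x⁻¹ * k⁻¹) * (k * x) := by group
      rw [h3, h1, one_mul]
    have hD := disc_minus_nonsquare h2 a b hab hcase
    exact out_struct_V4 (thetaOut hQ fr hperf htop) hθs hf hcF hK4 hK2 hKc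
      (fun hev => exists_outer_pow hQ fr hperf htop hex h2 hcardι hD hsurj hf hcF hev)

end Cfsg.Agent.Helper7.OutO
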