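import Mathlib
import Cfsg.Agent.Helper28.GammaCount5

/-!
# Outer automorphism groups of orthogonal groups, part 5 (helper7)

Artin–Schreier in characteristic two: if `t² + t = c` has no solution in the finite field `F` of
order `2 ^ f`, then the absolute trace `∑_{k<f} c^(2^k)` is nonzero.
-/

set_option autoImplicit false
set_option linter.unusedSectionVars false
set_option linter.unusedVariables false

namespace Cfsg.Agent.Helper7.OutO

open Cfsg.Agent.Helper28.GC

variable {F : Type*} [Field F] [Fintype F]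

/-- the absolute trace as a sum of Frobenius powers -/
def trSum (f : ℕ) (c : F) : F := ∑ k ∈ Finset.range f, c ^ (2 ^ k)

theorem trSum_add (h2 : (2 : F) = 0) (f : ℕ) (x y : F) :
    trSum f (x + y) = trSum f x + trSum f y := by
  have : CharP F 2 := CharTwo.of_one_ne_zero_of_two_eq_zero one_ne_zero h2
  have : Fact (Nat.Prime 2) := ⟨Nat.prime_two⟩
  unfold trSum
  rw [← Finset.sum_add_distrib]
  apply Finset.sum_congr rfl
  intro k _
  exact add_pow_char_pow x y 2 k

theorem trSum_as (h2 : (2 : F) = 0) {f : ℕ} (hF : Fintype.card F = 2 ^ f) (t : F) :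
    trSum f (t * t + t) = 0 := by
  have : CharP F 2 := CharTwo.of_one_ne_zero_of_two_eq_zero one_ne_zero h2
  rw [trSum_add h2]
  have h1 : trSum f (t * t) = ∑ k ∈ Finset.range f, t ^ (2 ^ (k + 1)) := by
    unfold trSum
    apply Finset.sum_congr rfl
    intro k _
    rw [← pow_two, ← pow_mul, pow_succ, mul_comm]
  have h2' : ∑ k ∈ Finset.range f, t ^ (2 ^ (k + 1)) + t = trSum f t + t ^ (2 ^ f) := by
    unfold trSum
    have e1 := Finset.sum_range_succ (fun k => t ^ (2 ^ k)) f
    have e2 := Finset.sum_range_succ' (fun k => t ^ (2 ^ k)) f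
    rw [e1] at e2
    simp only [pow_zero, pow_one] at e2
    exact e2.symm
  have h3 : t ^ (2 ^ f) = t := by rw [← hF]; exact FiniteField.pow_card t
  rw [h3] at h2'
  rw [h1]
  have h4 : ∑ k ∈ Finset.range f, t ^ (2 ^ (k + 1)) = trSum f t := by
    have := congrArg (fun z => z + t) h2'
    simp only [add_assoc, CharTwo.add_self_eq_zero, add_zero] at this
    exact this
  rw [h4, CharTwo.add_self_eq_zero]

theorem exists_trSum_ne_zero (h2 : (2 : F) = 0) {f : ℕ} (hF : Fintype.card F = 2 ^ f) :
    ∃ x : F, trSum f x ≠ 0 := by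
  have hchar : CharP F 2 := CharTwo.of_one_ne_zero_of_two_eq_zero one_ne_zero h2
  have : Fact (Nat.Prime 2) := ⟨Nat.prime_two⟩
  let _ : Algebra (ZMod 2) F := ZMod.algebra F 2
  have hrank : Module.finrank (ZMod 2) F = f := by
    have := Module.card_eq_pow_finrank (K := ZMod 2) (V := F)
    rw [hF, ZMod.card] at this
    exact (Nat.pow_right_injective (le_refl 2) this).symm
  obtain ⟨x, hx⟩ := Algebra.trace_surjective (ZMod 2) F 1
  refine ⟨x, ?_⟩
  have h1 := FiniteField.algebraMap_trace_eq_sum_pow (ZMod 2) F x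
  rw [hx, hrank, Nat.card_zmod, map_one] at h1
  unfold trSum
  rw [← h1]
  exact one_ne_zero

/-- **Artin–Schreier**: if `t² + t = c` has no solution, the trace of `c` is nonzero -/
theorem trSum_ne_zero (h2 : (2 : F) = 0) {f : ℕ} (hF : Fintype.card F = 2 ^ f) {c : F}
    (hc : ¬ ∃ t : F, t * t + t = c) : trSum f c ≠ 0 := by
  intro h0
  obtain ⟨x, hx⟩ := exists_trSum_ne_zero h2 hF
  by_cases hx' : ∃ t : F, t * t + t = x
  · obtain ⟨t, rfl⟩ := hx'
    exact hx (trSum_as h2 hF t)
  · obtain ⟨t, ht⟩ := exists_as_of_not h2 hx' hc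
    have := trSum_as h2 hF t
    rw [ht, trSum_add h2, h0, add_zero] at this
    exact hx this

theorem trSum_mul_self (h2 : (2 : F) = 0) {f : ℕ} (hF : Fintype.card F = 2 ^ f) (c : F) :
    trSum f c * trSum f c = trSum f c := by
  have : CharP F 2 := CharTwo.of_one_ne_zero_of_two_eq_zero one_ne_zero h2
  have : Fact (Nat.Prime 2) := ⟨Nat.prime_two⟩
  have h1 : trSum f c * trSum f c = trSum f (c * c) := by
    unfold trSum
    rw [← pow_two, sum_pow_char 2]
    apply Finset.sum_congr rfl
    intro k _
    rw [← pow_mul, mul_comm, pow_mul, pow_two]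
  have h3 := trSum_as h2 hF c
  rw [trSum_add h2] at h3
  rw [h1]
  calc trSum f (c * c) = trSum f (c * c) + trSum f c + trSum f c := by
        rw [add_assoc, CharTwo.add_self_eq_zero, add_zero]
    _ = trSum f c := by rw [h3, zero_add]

/-- the trace of `c` is one when `t² + t = c` has no solution -/
theorem trSum_eq_one (h2 : (2 : F) = 0) {f : ℕ} (hF : Fintype.card F = 2 ^ f) {c : F}
    (hc : ¬ ∃ t : F, t * t + t = c) : trSum f c = 1 := by
  have h1 := trSum_ne_zero h2 hF hc
  have h3 := trSum_mul_self h2 hF c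
  have h4 : trSum f c * (trSum f c - 1) = 0 := by linear_combination h3
  rcases mul_eq_zero.1 h4 with h | h
  · exact absurd h h1
  · exact sub_eq_zero.1 h

end Cfsg.Agent.Helper7.OutO
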