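import Mathlib
import Cfsg.Agent.Helper7.OutO4
import Cfsg.Agent.Helper7.OutO5
import Cfsg.Agent.Helper28.GammaCount7
import Cfsg.Agent.Helper28.CD2b

/-!
# Outer automorphism groups of orthogonal groups, part 6 (helper7)

The Frobenius semisimilarity of the minus-type form in characteristic two, and its powers.
-/

set_option autoImplicit false
set_option linter.unusedSectionVars false
set_option linter.unusedVariables false

namespace Cfsg.Agent.Helper7.OutO

open Matrix Module Cfsg.Agent.Helper28.Sg Cfsg.Agent.Helper28.Spin Cfsg.Agent.Helper28.PG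
  Cfsg.Agent.Helper28.SSim Cfsg.Agent.Helper28.GC Cfsg.Agent.Helper7.AutO

variable {F : Type*} [Field F] {n : ℕ}

theorem twGL_congr {w₁ w₂ w₁' w₂' : F} (hw : w₂ ≠ 0) (hw' : w₂' ≠ 0) (h1 : w₁ = w₁')
    (h2 : w₂ = w₂') : twGL n w₁ w₂ hw = twGL n w₁' w₂' hw' := by
  subst h1; subst h2; rfl

theorem twGL_mul (w₁ w₂ w₁' w₂' : F) (hw : w₂ ≠ 0) (hw' : w₂' ≠ 0) :
    twGL n w₁ w₂ hw * twGL n w₁' w₂' hw' =
      twGL n (w₁' + w₁ * w₂') (w₂ * w₂') (mul_ne_zero hw hw') := by
  apply Units.ext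
  show LinearMap.toMatrix' (twL n w₁ w₂) * LinearMap.toMatrix' (twL n w₁' w₂') =
    LinearMap.toMatrix' (twL n (w₁' + w₁ * w₂') (w₂ * w₂'))
  rw [← LinearMap.toMatrix'_comp]
  congr 1
  apply LinearMap.ext
  intro x
  rw [LinearMap.comp_apply, twL_comp]

theorem mapGL_twGL (σ : F ≃+* F) (w₁ w₂ : F) (hw : w₂ ≠ 0) :
    mapGL σ (twGL n w₁ w₂ hw) =
      twGL n (σ w₁) (σ w₂) (by rw [Ne, map_eq_zero]; exact hw) := by
  apply Units.ext
  apply Cfsg.Agent.Helper28.Spin.matrix_ext_mulVec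
  intro x
  have hx : x = fun i => σ (σ.symm (x i)) := by funext i; simp
  rw [twGL_mulVec, mapGL_val]
  conv_lhs => rw [hx]
  rw [map_mulVec'', twGL_mulVec]
  funext i
  rcases i with i | i
  · simp [twL_inl]
  · fin_cases i
    · show σ (twL n w₁ w₂ (fun i => σ.symm (x i)) (Sum.inr 0)) = twL n (σ w₁) (σ w₂) x (Sum.inr 0)
      rw [twL_zero, twL_zero]; simp
    · show σ (twL n w₁ w₂ (fun i => σ.symm (x i)) (Sum.inr 1)) = twL n (σ w₁) (σ w₂) x (Sum.inr 1)
      rw [twL_one, twL_one]; simp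

/-- the Frobenius semisimilarity of the minus-type form in characteristic two -/
theorem frob_pair (h2 : (2 : F) = 0) (a b : F) (ha : a ≠ 0) (φ : RingAut F)
    (hφ : ∀ t, φ t = t * t) :
    Cfsg.IsSemisimilarityPair (Cfsg.quadFormMinus n F a b) (twGL n b a ha) φ := by
  refine ⟨1, fun v => ?_⟩
  have e1 : 2 * b + a * a = φ a := by rw [hφ, h2, zero_mul, zero_add]
  have e2 : b ^ 2 + a * b * a + b * a ^ 2 = φ b := by
    rw [hφ]; linear_combination (a * a * b) * h2
  rw [twGL_mulVec, quadFormMinus_twL, e1, e2]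
  exact (quadFormMinus_sigma n a b φ v).trans (by rw [Units.val_one, one_mul])

theorem ringAut_pow_apply (φ : RingAut F) (hφ : ∀ t, φ t = t * t) (k : ℕ) (t : F) :
    (φ ^ k) t = t ^ (2 ^ k) := by
  induction k generalizing t with
  | zero => simp
  | succ k ih =>
    rw [pow_succ, RingAut.mul_apply, hφ, ih, ← pow_two, ← pow_mul, pow_succ, mul_comm]

theorem twGL_one : twGL n (0 : F) 1 one_ne_zero = 1 := by
  apply Units.ext
  show LinearMap.toMatrix' (twL n (0 : F) 1) = 1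
  rw [← LinearMap.toMatrix'_id]
  congr 1
  apply LinearMap.ext
  intro x
  rw [twL_id, LinearMap.id_apply]

/-- closed form of the second parameter of the `k`-th power -/
noncomputable def seqA (a : F) (k : ℕ) : F := a ^ (2 ^ k) / a

/-- closed form of the first parameter of the `k`-th power -/
noncomputable def seqB (a b : F) (k : ℕ) : F := a ^ (2 ^ k) * trSum k (b / a ^ 2)

theorem seqA_ne {a : F} (ha : a ≠ 0) (k : ℕ) : seqA a k ≠ 0 :=
  div_ne_zero (pow_ne_zero _ ha) ha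

theorem seqA_zero {a : F} (ha : a ≠ 0) : seqA a 0 = 1 := by
  unfold seqA; rw [pow_zero, pow_one, div_self ha]

theorem seqB_zero (a b : F) : seqB a b 0 = 0 := by
  unfold seqB trSum; simp

theorem seqA_succ {a : F} (ha : a ≠ 0) (k : ℕ) : seqA a (k + 1) = seqA a k * a ^ (2 ^ k) := by
  unfold seqA
  rw [pow_succ, pow_mul, pow_two]
  field_simp

theorem seqB_succ {a : F} (ha : a ≠ 0) (b : F) (k : ℕ) :
    seqB a b (k + 1) = b ^ (2 ^ k) + seqB a b k * a ^ (2 ^ k) := by
  unfold seqB trSum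
  have e1 : a ^ (2 ^ (k + 1)) = (a ^ (2 ^ k)) ^ 2 := by rw [pow_succ, pow_mul]
  have e2 : (b / a ^ 2) ^ (2 ^ k) = b ^ (2 ^ k) / (a ^ (2 ^ k)) ^ 2 := by
    rw [div_pow, ← pow_mul, mul_comm, pow_mul]
  rw [Finset.sum_range_succ, e1, e2]
  have h0 : a ^ 2 ^ k ≠ 0 := pow_ne_zero _ ha
  generalize a ^ 2 ^ k = A at h0 ⊢
  generalize ∑ x ∈ Finset.range k, (b / a ^ 2) ^ 2 ^ x = S
  field_simp
  ring

section pw

variable (Q : (((Fin n ⊕ Fin n) ⊕ Fin 2) → F) → F)

theorem induced_congr {g g' : GL ((Fin n ⊕ Fin n) ⊕ Fin 2) F} {σ σ' : F ≃+* F}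
    {β : Cfsg.POmega F Q ≃* Cfsg.POmega F Q}
    (h : Cfsg.IsInducedBySemilinearPOmega Q g σ β) (hg : g = g') (hσ : σ = σ') :
    Cfsg.IsInducedBySemilinearPOmega Q g' σ' β := by
  subst hg; subst hσ; exact h

theorem semisim_congr {g g' : GL ((Fin n ⊕ Fin n) ⊕ Fin 2) F} {σ σ' : F ≃+* F}
    (h : Cfsg.IsSemisimilarityPair Q g σ) (hg : g = g') (hσ : σ = σ') :
    Cfsg.IsSemisimilarityPair Q g' σ' := by
  subst hg; subst hσ; exact h

end pw

/-- the powers of the Frobenius automorphism of `PΩ⁻` -/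
theorem frob_pow (h2 : (2 : F) = 0) (a b : F) (ha : a ≠ 0) (φ : RingAut F)
    (hφ : ∀ t, φ t = t * t) (k : ℕ) :
    Cfsg.IsSemisimilarityPair (Cfsg.quadFormMinus n F a b)
        (twGL n (seqB a b k) (seqA a k) (seqA_ne ha k)) (φ ^ k) ∧
      Cfsg.IsInducedBySemilinearPOmega (Cfsg.quadFormMinus n F a b)
        (twGL n (seqB a b k) (seqA a k) (seqA_ne ha k)) (φ ^ k)
        ((autOf _ (frob_pair h2 a b ha φ hφ)) ^ k) := by
  induction k with
  | zero =>
    have hg : (1 : GL ((Fin n ⊕ Fin n) ⊕ Fin 2) F) =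
        twGL n (seqB a b 0) (seqA a 0) (seqA_ne ha 0) := by
      rw [← twGL_one]
      exact twGL_congr _ _ (seqB_zero a b).symm (seqA_zero ha).symm
    constructor
    · exact semisim_congr _ (semisim_one _) hg rfl
    · rw [pow_zero]
      exact induced_congr _ (induced_one _) hg rfl
  | succ k ih =>
    obtain ⟨ih1, ih2⟩ := ih
    have hp := frob_pair (n := n) h2 a b ha φ hφ
    have hg : twGL n (seqB a b k) (seqA a k) (seqA_ne ha k) * mapGL (φ ^ k) (twGL n b a ha) =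
        twGL n (seqB a b (k + 1)) (seqA a (k + 1)) (seqA_ne ha (k + 1)) := by
      rw [mapGL_twGL, twGL_mul]
      apply twGL_congr
      · rw [ringAut_pow_apply φ hφ, ringAut_pow_apply φ hφ, seqB_succ ha]
      · rw [ringAut_pow_apply φ hφ, seqA_succ ha]
    have hσ : (φ : F ≃+* F).trans (φ ^ k) = φ ^ (k + 1) := by
      rw [pow_succ]; rfl
    constructor
    · exact semisim_congr _ (semisim_mul _ ih1 hp) hg hσ
    · rw [pow_succ]
      exact induced_congr _ (induced_mul _ ih1 hp ih2 (induced_autOf _ hp)) hg hσ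

end Cfsg.Agent.Helper7.OutO
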