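import Mathlib
import Cfsg.Agent.Helper7.OutO6
import Cfsg.Agent.S0297
import Cfsg.Agent.S2615
import Cfsg.Agent.S2171

/-!
# Outer automorphism groups of orthogonal groups, part 7 (helper7)

The `f`-th power of the Frobenius automorphism of `PΩ⁻_{2m}(2^f)` is conjugation by a reflection,
which is not inner; hence `Out(PΩ⁻_{2m}(2^f))` is cyclic of order `2f`.
-/

set_option autoImplicit false
set_option linter.unusedSectionVars false
set_option linter.unusedVariables false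

namespace Cfsg.Agent.Helper7.OutO

open Matrix Module Cfsg.Agent.Helper28.Sg Cfsg.Agent.Helper28.Spin Cfsg.Agent.Helper28.PG
  Cfsg.Agent.Helper28.SSim Cfsg.Agent.Helper28.GC Cfsg.Agent.Helper7.AutO
  Cfsg.Agent.Helper28.IsoTransport

variable {F : Type*} [Field F] {n : ℕ}

/-- the transvection-like isometry `z₁ ↦ z₁ + a z₂` of the anisotropic plane -/
theorem twGL_mem_O (h2 : (2 : F) = 0) (a b : F) :
    twGL n a (1 : F) one_ne_zero ∈ Cfsg.isometryGroup F (Cfsg.quadFormMinus n F a b) := by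
  rw [mem_isometryGroup_iff]
  intro u
  rw [twGL_mulVec, quadFormMinus_twL]
  have e1 : 2 * a + a * 1 = a := by rw [h2]; ring
  have e2 : a ^ 2 + a * a * 1 + b * 1 ^ 2 = b := by linear_combination (a * a) * h2
  rw [e1, e2]

theorem rank_twGL_sub_one {a : F} (ha : a ≠ 0) :
    (((twGL n a (1 : F) one_ne_zero : GL ((Fin n ⊕ Fin n) ⊕ Fin 2) F) :
      Matrix ((Fin n ⊕ Fin n) ⊕ Fin 2) ((Fin n ⊕ Fin n) ⊕ Fin 2) F) - 1).rank = 1 := by
  set M : Matrix ((Fin n ⊕ Fin n) ⊕ Fin 2) ((Fin n ⊕ Fin n) ⊕ Fin 2) F :=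
    ((twGL n a (1 : F) one_ne_zero : GL ((Fin n ⊕ Fin n) ⊕ Fin 2) F) :
      Matrix ((Fin n ⊕ Fin n) ⊕ Fin 2) ((Fin n ⊕ Fin n) ⊕ Fin 2) F) - 1 with hM
  have hMx : ∀ x, M *ᵥ x = Pi.single (Sum.inr 0) (a * x (Sum.inr 1)) := by
    intro x
    rw [hM, Matrix.sub_mulVec, Matrix.one_mulVec, twGL_mulVec]
    funext i
    rcases i with i | i
    · simp [twL_inl]
    · fin_cases i
      · show twL n a 1 x (Sum.inr 0) - x (Sum.inr 0) = _
        rw [twL_zero]; simp
      · show twL n a 1 x (Sum.inr 1) - x (Sum.inr 1) = _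
        rw [twL_one]; simp
  apply le_antisymm
  · have : M = Matrix.vecMulVec (Pi.single (Sum.inr 0) a) (Pi.single (Sum.inr 1) (1 : F)) := by
      apply matrix_ext_mulVec
      intro x
      rw [hMx]
      funext i
      simp only [Matrix.mulVec, Matrix.vecMulVec_apply, dotProduct, Pi.single_apply]
      by_cases hi : i = Sum.inr 0
      · subst hi; simp
      · simp [hi]
    rw [this]
    exact Matrix.rank_vecMulVec_le _ _
  · have hne : M *ᵥ (Pi.single (Sum.inr 1) 1) ≠ 0 := by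
      rw [hMx]
      intro h0
      have := congrFun h0 (Sum.inr 0)
      simp at this
      exact ha this
    unfold Matrix.rank
    rw [Nat.succ_le_iff, Module.finrank_pos_iff_exists_ne_zero]
    refine ⟨⟨M *ᵥ (Pi.single (Sum.inr 1) 1), ⟨_, rfl⟩⟩, ?_⟩
    intro h0
    exact hne (congrArg Subtype.val h0)

/-- **`Out(PΩ⁻_{2m}(2^f))` is cyclic of order `2f`** -/
theorem out_minus_two {F : Type*} [Field F] [Fintype F] {f m : ℕ} (hf : 1 ≤ f)
    (hF : Fintype.card F = 2 ^ f) (hm : 4 ≤ m) (a b : F)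
    (hab : ∀ z₁ z₂ : F, z₁ ^ 2 + a * z₁ * z₂ + b * z₂ ^ 2 = 0 → z₁ = 0 ∧ z₂ = 0) :
    IsCyclic (Cfsg.Out (Cfsg.POmega F (Cfsg.quadFormMinus (m - 1) F a b))) ∧
      Nat.card (Cfsg.Out (Cfsg.POmega F (Cfsg.quadFormMinus (m - 1) F a b))) = 2 * f := by
  classical
  obtain ⟨n, rfl⟩ : ∃ n, m = n + 1 := ⟨m - 1, by omega⟩
  have hn : 3 ≤ n := by omega
  rw [Nat.add_sub_cancel, ← QfMinus_coe]
  have hp2 : Fact (Nat.Prime 2) := ⟨Nat.prime_two⟩
  have hchar : CharP F 2 := charP_of_card_eq_prime_pow hF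
  have h2 : (2 : F) = 0 := by
    have := CharP.cast_eq_zero F 2
    exact_mod_cast this
  have ha := ne_zero_of_aniso_char_two h2 a b hab
  have hdisc : 4 * b - a ^ 2 ≠ 0 := by
    have h4 : (4 : F) = 0 := by linear_combination (2 : F) * h2
    rw [h4, zero_mul, zero_sub]
    exact neg_ne_zero.2 (pow_ne_zero 2 ha)
  have hQ : (QuadraticMap.polarBilin (QfMinus n F a b)).Nondegenerate :=
    Cfsg.Agent.S2171.QfMinus_nondeg_of n a b hdisc
  have hcardι : Fintype.card ((Fin n ⊕ Fin n) ⊕ Fin 2) = 2 * n + 2 := by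
    rw [Fintype.card_sum, Fintype.card_sum, Fintype.card_fin, Fintype.card_fin]; omega
  let a' : Fin 3 → (Fin n ⊕ Fin n) ⊕ Fin 2 :=
    fun j => Sum.inl (Sum.inl (Fin.castLE (by omega) j))
  let b' : Fin 3 → (Fin n ⊕ Fin n) ⊕ Fin 2 :=
    fun j => Sum.inl (Sum.inr (Fin.castLE (by omega) j))
  have hinj : Function.Injective (Sum.elim a' b') := by
    intro x y h
    rcases x with x | x <;> rcases y with y | y <;>
      simp only [Sum.elim_inl, Sum.elim_inr, a', b', Sum.inl.injEq, Sum.inr.injEq, reduceCtorEq,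
        Fin.castLE_inj] at h
    · rw [h]
    · rw [h]
  let fr : Frame3 (QfMinus n F a b) := frameOf a' b' hinj
    (fun j => Cfsg.Agent.S2615.hypPair_minus n a b _)
  have hgen := hgen_even h2 hQ (Or.inr (by rw [hcardι]; omega))
  have hperf := Omega_perfect' hQ fr hgen
  have hsimple : IsSimpleGroup (Cfsg.POmega F ⇑(QfMinus n F a b)) := POmega_simple hQ fr hgen
  have htop : Cfsg.gammaPOmega F ⇑(QfMinus n F a b) = ⊤ := gamma_minus hn a b hab
  have hcard := card_mulAut_minus_of_gamma_top 2 f hF (n + 1) (by omega) a b hab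
    (by rw [Nat.add_sub_cancel]; exact htop)
  rw [Nat.add_sub_cancel, if_pos rfl] at hcard
  have hout : Nat.card (Cfsg.Out (Cfsg.POmega F ⇑(QfMinus n F a b))) = 2 * f :=
    card_out_of hperf hcard
  obtain ⟨φ, hφ, hordφ⟩ := exists_frob h2 hF
  have hp : Cfsg.IsSemisimilarityPair (⇑(QfMinus n F a b)) (twGL n b a ha) φ :=
    frob_pair h2 a b ha φ hφ
  have hθx : thetaOut hQ fr hperf htop (QuotientGroup.mk (autOf _ hp)) = φ :=
    thetaAut_eq hQ fr hperf htop hp (induced_autOf _ hp)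
  refine ⟨?_, hout⟩
  have hord : orderOf (thetaOut hQ fr hperf htop (QuotientGroup.mk (autOf _ hp))) = f := by
    rw [hθx]; exact hordφ
  apply isCyclic_of_order (thetaOut hQ fr hperf htop) hf hout _ hord
  intro hx1
  have hβf : (autOf _ hp) ^ f ∈ Cfsg.Inn (Cfsg.POmega F ⇑(QfMinus n F a b)) := by
    rw [← QuotientGroup.mk_pow] at hx1
    exact (QuotientGroup.eq_one_iff _).1 hx1
  obtain ⟨y, hy⟩ := hβf
  obtain ⟨s, rfl⟩ := pr_surjective (QfMinus n F a b) y
  obtain ⟨-, hind⟩ := frob_pow (n := n) h2 a b ha φ hφ f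
  have hc : ¬ ∃ t : F, t * t + t = b / a ^ 2 := by
    rintro ⟨t, ht⟩
    have h1 := (hab (a * t) 1 (by
      have e : b = (t * t + t) * a ^ 2 := by rw [ht]; field_simp
      rw [e]
      linear_combination (a ^ 2 * t ^ 2 + a ^ 2 * t) * h2)).2
    exact one_ne_zero h1
  have hT := trSum_eq_one h2 hF hc
  have hA : seqA a f = 1 := by
    unfold seqA; rw [← hF, FiniteField.pow_card, div_self ha]
  have hB : seqB a b f = a := by
    unfold seqB; rw [hT, mul_one, ← hF, FiniteField.pow_card]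
  have hφf : φ ^ f = RingEquiv.refl F := by
    rw [← hordφ]; exact pow_orderOf_eq_one φ
  have hind' : Cfsg.IsInducedBySemilinearPOmega (⇑(QfMinus n F a b))
      (twGL n a 1 one_ne_zero) (RingEquiv.refl F) ((autOf _ hp) ^ f) :=
    induced_congr _ hind (twGL_congr _ _ hB hA) hφf
  have hmemO : twGL n a (1 : F) one_ne_zero ∈ Cfsg.isometryGroup F ⇑(QfMinus n F a b) :=
    twGL_mem_O h2 a b
  have hβf' := (Cfsg.Agent.Helper28.PA.induced_iff (QfMinus n F a b) _ hmemO _).1 hind'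
  have hconj : MulAut.conj (pr (QfMinus n F a b) s) =
      Cfsg.Agent.Helper28.PA.cAut (QfMinus n F a b) (s : ↥(Cfsg.isometryGroup F ⇑(QfMinus n F a b))) := by
    rw [conj_eq_cO hQ fr]
    exact cG_oGO (QfMinus n F a b) _
  have heq : Cfsg.Agent.Helper28.PA.cAut (QfMinus n F a b) ⟨twGL n a (1 : F) one_ne_zero, hmemO⟩ =
      Cfsg.Agent.Helper28.PA.cAut (QfMinus n F a b)
        (s : ↥(Cfsg.isometryGroup F ⇑(QfMinus n F a b))) := by
    rw [← hβf', ← hconj]
    exact hy.symm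
  have h3 := cAut_injective_char_two (QfMinus n F a b) h2 hQ fr hperf heq
  have hmem : (⟨twGL n a (1 : F) one_ne_zero, hmemO⟩ : ↥(Cfsg.isometryGroup F ⇑(QfMinus n F a b)))
      ∈ Cfsg.Omega F ⇑(QfMinus n F a b) := by
    rw [h3]; exact s.2
  rw [Cfsg.Agent.Helper28.CD2.mem_Omega_iff_even_rank (QfMinus n F a b) h2 hQ
    (Or.inr (by rw [hcardι]; omega))] at hmem
  have hr := rank_twGL_sub_one (n := n) ha
  simp only [] at hmem
  rw [hr] at hmem
  exact absurd hmem (by decide)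

end Cfsg.Agent.Helper7.OutO
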