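import Mathlib
import Cfsg.Prelude.Def_LieTypeDatum
import Cfsg.Agent.Helper28.FieldO1
import Cfsg.Agent.Helper28.GammaCount6

set_option autoImplicit false
set_option linter.unusedSectionVars false
set_option linter.unusedVariables false

/-! `Out(PΩ(Q))` for a form with coefficients in the prime field, part 1 (helper7): the standard
field automorphisms form a complement to `pgoAut` in `gammaPOmega`; passage to `Out`. -/

namespace Cfsg.Agent.S2607P

open Matrix Cfsg.Agent.Helper28.SSim Cfsg.Agent.Helper28.Sg Cfsg.Agent.Helper28.PG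
  Cfsg.Agent.Helper28.GC Cfsg.Agent.Helper28.FO

section general

variable {F : Type*} [Field F] {ι : Type} [Fintype ι] [DecidableEq ι]
  (Q : QuadraticForm F (ι → F))

theorem phiO_mem_gamma (hstd : IsStd Q) (σ : F ≃+* F) :
    phiO hstd σ ∈ Cfsg.gammaPOmega F ⇑Q :=
  autOf_mem_gamma (⇑Q) (semisim_std hstd σ)

theorem sigmaHom_phiO (hQ : (QuadraticMap.polarBilin Q).Nondegenerate) (fr : Frame3 Q)
    (hperf : commutator ↥(Cfsg.Omega F ⇑Q) = ⊤) (hstd : IsStd Q) (σ : F ≃+* F) :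
    sigmaHom Q hQ fr hperf ⟨phiO hstd σ, phiO_mem_gamma Q hstd σ⟩ = σ := by
  rw [sigmaHom_apply]
  exact sigmaOf_eq Q hQ fr hperf _ (semisim_std hstd σ) (induced_phiO hstd σ)

/-- a standard field automorphism lying in `pgoAut` is trivial -/
theorem eq_one_of_phiO_mem_pgoAut (hQ : (QuadraticMap.polarBilin Q).Nondegenerate) (fr : Frame3 Q)
    (hperf : commutator ↥(Cfsg.Omega F ⇑Q) = ⊤) (hstd : IsStd Q) (σ : F ≃+* F)
    (h : phiO hstd σ ∈ Cfsg.pgoAut F ⇑Q) : σ = 1 := by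
  have hk : (⟨phiO hstd σ, phiO_mem_gamma Q hstd σ⟩ : ↥(Cfsg.gammaPOmega F ⇑Q)) ∈
      (sigmaHom Q hQ fr hperf).ker := by
    rw [ker_sigmaHom, Subgroup.mem_subgroupOf]
    exact h
  rw [MonoidHom.mem_ker, sigmaHom_phiO] at hk
  exact hk

/-- every element of `gammaPOmega` is an element of `pgoAut` times a standard field
automorphism -/
theorem mul_phiO_mem_pgoAut (hQ : (QuadraticMap.polarBilin Q).Nondegenerate) (fr : Frame3 Q)
    (hperf : commutator ↥(Cfsg.Omega F ⇑Q) = ⊤) (hstd : IsStd Q)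
    (θ : MulAut (Cfsg.POmega F ⇑Q)) (hθ : θ ∈ Cfsg.gammaPOmega F ⇑Q) :
    θ * phiO hstd (sigmaHom Q hQ fr hperf ⟨θ, hθ⟩)⁻¹ ∈ Cfsg.pgoAut F ⇑Q := by
  set σ := sigmaHom Q hQ fr hperf ⟨θ, hθ⟩ with hσ
  have hk : (⟨θ, hθ⟩ * ⟨phiO hstd σ⁻¹, phiO_mem_gamma Q hstd σ⁻¹⟩ :
      ↥(Cfsg.gammaPOmega F ⇑Q)) ∈ (sigmaHom Q hQ fr hperf).ker := by
    rw [MonoidHom.mem_ker, map_mul, sigmaHom_phiO, ← hσ, mul_inv_cancel]
  rw [ker_sigmaHom, Subgroup.mem_subgroupOf] at hk
  exact hk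

end general

section finite

variable {F : Type*} [Field F] [Fintype F] {ι : Type} [Fintype ι] [DecidableEq ι]
  (Q : QuadraticForm F (ι → F))

theorem isCyclic_ringAut7 : IsCyclic (F ≃+* F) := by
  have hp : (ringChar F).Prime := CharP.char_is_prime F (ringChar F)
  have : Fact (ringChar F).Prime := ⟨hp⟩
  let _ : Algebra (ZMod (ringChar F)) F := ZMod.algebra F (ringChar F)
  let f : (F ≃ₐ[ZMod (ringChar F)] F) →* (F ≃+* F) :=
    { toFun := fun g => g.toRingEquiv, map_one' := rfl, map_mul' := fun _ _ => rfl }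
  have hf : Function.Surjective f := fun σ =>
    ⟨AlgEquiv.ofRingEquiv (f := σ) (fun x => by
      have : (σ : F →+* F).comp (algebraMap (ZMod (ringChar F)) F) =
          algebraMap (ZMod (ringChar F)) F := Subsingleton.elim _ _
      exact RingHom.congr_fun this x), by ext x; rfl⟩
  exact isCyclic_of_surjective f hf

/-- the data in `Aut(PΩ(Q))`: a standard field automorphism generating a complement of
`pgoAut` -/
theorem exists_field_generator (hQ : (QuadraticMap.polarBilin Q).Nondegenerate) (fr : Frame3 Q)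
    (hperf : commutator ↥(Cfsg.Omega F ⇑Q) = ⊤) (hstd : IsStd Q)
    (htop : Cfsg.gammaPOmega F ⇑Q = ⊤) (f : ℕ) (hcard : Nat.card (F ≃+* F) = f) :
    ∃ σ₀ : F ≃+* F, phiO hstd σ₀ ^ f = 1 ∧
      (∀ k : ℕ, phiO hstd σ₀ ^ k ∈ Cfsg.pgoAut F ⇑Q → f ∣ k) ∧
      (∀ θ : MulAut (Cfsg.POmega F ⇑Q), ∃ k : ℕ, θ * phiO hstd σ₀ ^ k ∈ Cfsg.pgoAut F ⇑Q) := by
  have := isCyclic_ringAut7 (F := F)
  obtain ⟨σ₀, hσ₀⟩ := IsCyclic.exists_generator (α := F ≃+* F)
  have hord : orderOf σ₀ = f := by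
    rw [orderOf_eq_card_of_forall_mem_zpowers hσ₀, hcard]
  refine ⟨σ₀, ?_, ?_, ?_⟩
  · rw [phiO_pow, ← hord, pow_orderOf_eq_one, phiO_one]
  · intro k hk
    rw [phiO_pow] at hk
    have := eq_one_of_phiO_mem_pgoAut Q hQ fr hperf hstd _ hk
    rw [← hord]
    exact orderOf_dvd_of_pow_eq_one this
  · intro θ
    have hθ : θ ∈ Cfsg.gammaPOmega F ⇑Q := by rw [htop]; exact Subgroup.mem_top θ
    have h := mul_phiO_mem_pgoAut Q hQ fr hperf hstd θ hθ
    have hFin : Finite (F ≃+* F) :=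
      Finite.of_injective (fun σ : F ≃+* F => (σ : F → F)) DFunLike.coe_injective
    have hfin : IsOfFinOrder σ₀ := isOfFinOrder_of_finite σ₀
    have hmem : (sigmaHom Q hQ fr hperf ⟨θ, hθ⟩)⁻¹ ∈ Submonoid.powers σ₀ := by
      rw [hfin.mem_powers_iff_mem_zpowers]
      exact hσ₀ _
    obtain ⟨k, hk⟩ := hmem
    change σ₀ ^ k = _ at hk
    refine ⟨k, ?_⟩
    rw [phiO_pow, hk]
    exact h

end finite

section quotient

variable {A : Type*} [Group A] (I : Subgroup A) [I.Normal] (P : Subgroup A)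

/-- the data in a quotient `A ⧸ I`, for `I ≤ P` -/
theorem quot_data (hIP : I ≤ P) [P.Normal] (φ : A) (f : ℕ) (hord : φ ^ f = 1)
    (hint : ∀ k : ℕ, φ ^ k ∈ P → f ∣ k) (hgen : ∀ θ : A, ∃ k : ℕ, θ * φ ^ k ∈ P) :
    (P.map (QuotientGroup.mk' I)).Normal ∧
      (QuotientGroup.mk' I φ) ^ f = 1 ∧
      (∀ k : ℕ, (QuotientGroup.mk' I φ) ^ k ∈ P.map (QuotientGroup.mk' I) → f ∣ k) ∧
      (∀ x : A ⧸ I, ∃ k : ℕ, x * (QuotientGroup.mk' I φ) ^ k ∈ P.map (QuotientGroup.mk' I)) := by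
  refine ⟨Subgroup.Normal.map inferInstance _ (QuotientGroup.mk'_surjective I), ?_, ?_, ?_⟩
  · rw [← map_pow, hord, map_one]
  · intro k hk
    rw [← map_pow] at hk
    obtain ⟨n, hn, hnk⟩ := hk
    apply hint
    have h1 : n⁻¹ * φ ^ k ∈ I := by
      rw [← QuotientGroup.eq]
      exact hnk
    have h2 : φ ^ k = n * (n⁻¹ * φ ^ k) := by group
    rw [h2]
    exact P.mul_mem hn (hIP h1)
  · intro x
    obtain ⟨θ, rfl⟩ := QuotientGroup.mk'_surjective I x
    obtain ⟨k, hk⟩ := hgen θ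
    refine ⟨k, ?_⟩
    rw [← map_pow, ← map_mul]
    exact Subgroup.mem_map_of_mem _ hk

theorem mk_mem_map_iff (hIP : I ≤ P) (a : A) :
    QuotientGroup.mk' I a ∈ P.map (QuotientGroup.mk' I) ↔ a ∈ P := by
  constructor
  · rintro ⟨n, hn, hna⟩
    have h1 : n⁻¹ * a ∈ I := by
      rw [← QuotientGroup.eq]
      exact hna
    have h2 : a = n * (n⁻¹ * a) := by group
    rw [h2]
    exact P.mul_mem hn (hIP h1)
  · intro h
    exact Subgroup.mem_map_of_mem _ h

end quotient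

end Cfsg.Agent.S2607P
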