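import Mathlib
import Cfsg.Prelude.Def_LieTypeDatum
import Cfsg.Agent.Helper7.OutPlusGeo1
import Cfsg.Agent.Helper28.PgoAut5

set_option autoImplicit false
set_option linter.unusedSectionVars false
set_option linter.unusedVariables false

/-! `Out(PΩ(Q))` for a form with coefficients in the prime field, part 2 (helper7): the class of
a reflection defined over the prime field commutes with the standard field automorphisms, is
not inner, and (when `-1 ∈ Ω`) is not central modulo inner automorphisms. -/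

namespace Cfsg.Agent.S2607P

open Matrix Cfsg.Agent.Helper28.SSim Cfsg.Agent.Helper28.Sg Cfsg.Agent.Helper28.PG
  Cfsg.Agent.Helper28.GC Cfsg.Agent.Helper28.FO Cfsg.Agent.Helper28.Spin
  Cfsg.Agent.Helper28.PA

section general

variable {F : Type*} [Field F] {ι : Type} [Fintype ι] [DecidableEq ι]
  (Q : QuadraticForm F (ι → F))

theorem polar_std (hstd : IsStd Q) (σ : F ≃+* F) (x y : ι → F) :
    QuadraticMap.polar ⇑Q (fun i => σ (x i)) (fun i => σ (y i)) =
      σ (QuadraticMap.polar ⇑Q x y) := by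
  unfold QuadraticMap.polar
  have e : (fun i => σ (x i)) + (fun i => σ (y i)) = fun i => σ ((x + y) i) := by
    funext i
    simp
  rw [e, hstd, hstd, hstd, map_sub, map_sub]

/-- the entrywise image of a reflection matrix -/
theorem refl_map_std (hstd : IsStd Q) (σ : F ≃+* F) (v : ι → F) :
    (Cfsg.reflectionMatrix ⇑Q v).map σ = Cfsg.reflectionMatrix ⇑Q (fun i => σ (v i)) := by
  ext i l
  unfold Cfsg.reflectionMatrix Cfsg.polarVec
  simp only [Matrix.map_apply, Matrix.sub_apply, Matrix.smul_apply, Matrix.vecMulVec_apply,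
    smul_eq_mul]
  have e1 : (Pi.single l (1 : F) : ι → F) = fun i => σ ((Pi.single l (1 : F) : ι → F) i) := by
    funext i
    by_cases h : i = l
    · subst h; simp
    · simp [h]
  rw [map_sub, map_mul, map_mul, map_inv₀, ← hstd, ← polar_std Q hstd, ← e1]
  congr 1
  by_cases h : i = l
  · subst h
    simp
  · simp [h]

/-- a reflection in a vector with coordinates in the fixed field is fixed by `tauGO` -/
theorem tauGO_reflGO (hstd : IsStd Q) (σ : F ≃+* F) (v : ι → F) (hv : Q v ≠ 0)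
    (hfix : ∀ i, σ (v i) = v i) : tauGO hstd σ (reflGO Q v hv) = reflGO Q v hv := by
  apply Subtype.ext
  rw [tauGO_coe]
  apply Units.ext
  rw [mapGL_val]
  show (Cfsg.reflectionMatrix ⇑Q v).map σ = Cfsg.reflectionMatrix ⇑Q v
  rw [refl_map_std Q hstd]
  congr 1
  funext i
  exact hfix i

/-- the standard field automorphisms commute with such a reflection -/
theorem phiO_comm_reflGO (hstd : IsStd Q) (σ : F ≃+* F) (v : ι → F) (hv : Q v ≠ 0)
    (hfix : ∀ i, σ (v i) = v i) :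
    phiO hstd σ * cG Q (reflGO Q v hv) = cG Q (reflGO Q v hv) * phiO hstd σ := by
  rw [phiO_cG, tauGO_reflGO Q hstd σ v hv hfix]

theorem reflGO_mul_self (v : ι → F) (hv : Q v ≠ 0) : reflGO Q v hv * reflGO Q v hv = 1 := by
  apply Subtype.ext
  show (reflO Q v hv : GL ι F) * (reflO Q v hv : GL ι F) = 1
  have := congrArg (fun s : ↥(Cfsg.isometryGroup F ⇑Q) => (s : GL ι F)) (reflO_mul_self Q v hv)
  exact this

end general

section finite

variable {F : Type*} [Field F] [Fintype F] [DecidableEq F] {ι : Type} [Fintype ι] [DecidableEq ι]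
  (Q : QuadraticForm F (ι → F))

/-- a reflection does not induce an inner automorphism (even dimension, odd characteristic) -/
theorem cG_reflGO_not_mem_Inn (hQ : (QuadraticMap.polarBilin Q).Nondegenerate) (fr : Frame3 Q)
    (h2 : (2 : F) ≠ 0) (hperf : commutator ↥(Cfsg.Omega F ⇑Q) = ⊤) {k : ℕ}
    (hk : Fintype.card ι = 2 * k) (v : ι → F) (hv : Q v ≠ 0) :
    cG Q (reflGO Q v hv) ∉ Cfsg.Inn (Cfsg.POmega F ⇑Q) := by
  intro hmem
  have hex : ∃ v : ι → F, Q v ≠ 0 := ⟨v, hv⟩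
  have h1 := Inn_le_psoAut Q hmem
  rw [Cfsg.Agent.Helper28.PG.psoAut_eq] at h1
  obtain ⟨s, hs, hsr⟩ := h1
  have h3 : cG Q (s⁻¹ * reflGO Q v hv) = 1 := by
    rw [map_mul, map_inv, hsr, inv_mul_cancel]
  have h4 := (ker_of_cG Q hQ fr hex hperf hk _ h3).2
  rw [sgn_mul Q hex, sgn_reflGO Q hex] at h4
  have h5 := (ker_of_SOg Q hex k s⁻¹ (Subgroup.inv_mem _ hs)).2
  rw [h5, one_mul] at h4
  apply h2
  linear_combination -h4

/-- when `-1 ∈ Ω`, the class of a reflection is not central in `pgoAut / Inn` -/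
theorem comm_reflGO_not_mem_Inn (hQ : (QuadraticMap.polarBilin Q).Nondegenerate)
    (h2 : (2 : F) ≠ 0) (h6 : 6 ≤ Fintype.card ι)
    (hneg : ∃ g : ↥(Cfsg.isometryGroup F ⇑Q), g ∈ Cfsg.Omega F ⇑Q ∧
        ((g : GL ι F) : Matrix ι ι F) = -1)
    (v : ι → F) (hv : Q v ≠ 0) (h : ↥(GO Q)) (hh : chi Q h = -1) :
    cG Q (reflGO Q v hv) * cG Q h * (cG Q (reflGO Q v hv))⁻¹ * (cG Q h)⁻¹ ∉
      Cfsg.Inn (Cfsg.POmega F ⇑Q) := by
  have hμ0 : (mu Q h : F) ≠ 0 := Units.ne_zero _
  have hQw : Q (((h : GL ι F) : Matrix ι ι F) *ᵥ v) = (mu Q h : F) * Q v := mu_spec Q h v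
  have hw : Q (((h : GL ι F) : Matrix ι ι F) *ᵥ v) ≠ 0 := by rw [hQw]; exact mul_ne_zero hμ0 hv
  have hμns : ¬ IsSquare (mu Q h : F) := by
    intro hsq
    have : chi Q h = 1 := by
      unfold chi
      rw [quadraticChar_one_iff_isSquare hμ0]
      exact hsq
    rw [this] at hh
    norm_num at hh
  have hns1 : ¬ IsSquare (Q v * Q (((h : GL ι F) : Matrix ι ι F) *ᵥ v)) := by
    rintro ⟨r, hr⟩
    apply hμns
    refine ⟨r * (Q v)⁻¹, ?_⟩
    rw [hQw] at hr
    field_simp
    linear_combination hr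
  have hrG : reflGO Q v hv = oGO Q (reflO Q v hv) := Subtype.ext rfl
  have e : reflGO Q v hv * h * (reflGO Q v hv)⁻¹ * h⁻¹ =
      oGO Q (reflO Q v hv * reflO Q (((h : GL ι F) : Matrix ι ι F) *ᵥ v) hw) := by
    have e1 : h * (reflGO Q v hv)⁻¹ * h⁻¹ =
        oGO Q (reflO Q (((h : GL ι F) : Matrix ι ι F) *ᵥ v) hw) := by
      rw [hrG, ← map_inv, reflO_inv, conj_oGO, conjO_reflO Q h v hv hw]
    rw [map_mul, ← e1, hrG]
    group
  have e' : cG Q (reflGO Q v hv) * cG Q h * (cG Q (reflGO Q v hv))⁻¹ * (cG Q h)⁻¹ =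
      cAut Q (reflO Q v hv * reflO Q (((h : GL ι F) : Matrix ι ι F) *ᵥ v) hw) := by
    rw [← cG_oGO, ← e, map_mul, map_mul, map_mul, map_inv, map_inv]
  rw [e']
  exact cAut_not_mem_Inn Q hQ h2 h6 hneg _ (refl_mul_not_mem Q h2 _ _ hv hw hns1)

end finite

end Cfsg.Agent.S2607P
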