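import Mathlib
import Cfsg.Prelude.Def_LieTypeDatum
import Cfsg.Agent.Helper7.OutPlusGeo2
import Cfsg.Agent.Helper7.GammaCountPlus
import Cfsg.Agent.S0790
import Cfsg.Agent.S2723

set_option autoImplicit false
set_option linter.unusedSectionVars false
set_option linter.unusedVariables false

/-! `Out(PΩ⁺_{2m}(q))`, `m ≥ 5`, part 3 (helper7): the data in `Out` for the plus-type form. -/

namespace Cfsg.Agent.S2607P

open Matrix Cfsg.Agent.Helper28.SSim Cfsg.Agent.Helper28.Sg Cfsg.Agent.Helper28.PG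
  Cfsg.Agent.Helper28.GC Cfsg.Agent.Helper28.FO Cfsg.Agent.Helper28.Spin
  Cfsg.Agent.Helper28.PA Cfsg.Agent.Helper28.IsoTransport Cfsg.Agent.Helper28.OC

theorem isStd_plus {F : Type*} [Field F] (m : ℕ) : IsStd (QfPlus m F) := by
  intro σ v
  rw [QfPlus_coe]
  unfold Cfsg.quadFormPlus
  rw [map_sum]
  simp only [map_mul]

/-- the image of `pgoAut` in `Out(PΩ(Q))` -/
abbrev NQ {F : Type*} [Field F] {ι : Type} [Fintype ι] [DecidableEq ι]
    (Q : QuadraticForm F (ι → F)) : Subgroup (Cfsg.Out (Cfsg.POmega F ⇑Q)) :=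
  (Cfsg.pgoAut F ⇑Q).map (QuotientGroup.mk' (Cfsg.Inn (Cfsg.POmega F ⇑Q)))

/-- the image of `pgoAut` in `Out(PΩ⁺_{2m}(q))` -/
abbrev NP (m : ℕ) (F : Type*) [Field F] :
    Subgroup (Cfsg.Out (Cfsg.POmega F (Cfsg.quadFormPlus m F))) :=
  (Cfsg.pgoAut F (Cfsg.quadFormPlus m F)).map
    (QuotientGroup.mk' (Cfsg.Inn (Cfsg.POmega F (Cfsg.quadFormPlus m F))))

set_option maxHeartbeats 1600000 in
/-- the data in `Out(PΩ⁺_{2m}(q))`, `m ≥ 5` -/
theorem out_plus_data_aux {F : Type*} [Field F] [Fintype F] {m : ℕ} (hm : 5 ≤ m) (f : ℕ)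
    (hcard : Nat.card (F ≃+* F) = f) :
    ∃ (φ s : Cfsg.Out (Cfsg.POmega F ⇑(QfPlus m F))),
      (NQ (QfPlus m F)).Normal ∧ φ ^ f = 1 ∧ (∀ k : ℕ, φ ^ k ∈ NQ (QfPlus m F) → f ∣ k) ∧
      (∀ x, ∃ k : ℕ, x * φ ^ k ∈ NQ (QfPlus m F)) ∧
      s ∈ NQ (QfPlus m F) ∧ s * s = 1 ∧ φ * s = s * φ ∧
      (Odd (Fintype.card F) → s ≠ 1) ∧
      (Odd (Fintype.card F) → ¬ (Odd m ∧ Fintype.card F % 4 = 3) →
        ∃ g ∈ NQ (QfPlus m F), s * g ≠ g * s) := by
  classical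
  have hcardι : Fintype.card (Fin m ⊕ Fin m) = 2 * m := by
    rw [Fintype.card_sum, Fintype.card_fin]; omega
  let a' : Fin 3 → Fin m ⊕ Fin m := fun j => Sum.inl (Fin.castLE (by omega) j)
  let b' : Fin 3 → Fin m ⊕ Fin m := fun j => Sum.inr (Fin.castLE (by omega) j)
  have hinj : Function.Injective (Sum.elim a' b') := by
    intro x y h
    rcases x with x | x <;> rcases y with y | y <;>
      simp only [Sum.elim_inl, Sum.elim_inr, a', b', Sum.inl.injEq, Sum.inr.injEq, reduceCtorEq,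
        Fin.castLE_inj] at h
    · rw [h]
    · rw [h]
  let fr : Frame3 (QfPlus m F) := frameOf a' b' hinj
    (fun j => Cfsg.Agent.S2613.hypPair_plus m _)
  have hQ : (QuadraticMap.polarBilin (QfPlus m F)).Nondegenerate := QfPlus_nondeg (F := F) m
  have hgen : ∀ (H : Subgroup ↥(Cfsg.isometryGroup F ⇑(QfPlus m F))),
      (∀ (v : Fin m ⊕ Fin m → F) (hv : QfPlus m F v ≠ 0), reflO (QfPlus m F) v hv ∈ H) →
        ∀ g, g ∈ H := by
    by_cases h2 : (2 : F) = 0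
    · exact hgen_even h2 hQ (Or.inr (by rw [hcardι]; omega))
    · exact hgen_odd h2 hQ
  have hperf := Omega_perfect' hQ fr hgen
  have hstd := isStd_plus (F := F) m
  have htop : Cfsg.gammaPOmega F ⇑(QfPlus m F) = ⊤ := Cfsg.Agent.S2695.result hm
  obtain ⟨σ₀, h1, h2', h3⟩ := exists_field_generator (QfPlus m F) hQ fr hperf hstd htop f hcard
  have hnorm : (Cfsg.pgoAut F ⇑(QfPlus m F)).Normal := pgoAut_normal hQ fr hperf htop
  have hIP : Cfsg.Inn (Cfsg.POmega F ⇑(QfPlus m F)) ≤ Cfsg.pgoAut F ⇑(QfPlus m F) :=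
    Inn_le_pgoAut (QfPlus m F)
  obtain ⟨q1, q2, q3, q4⟩ := quot_data (Cfsg.Inn (Cfsg.POmega F ⇑(QfPlus m F)))
    (Cfsg.pgoAut F ⇑(QfPlus m F)) hIP (phiO hstd σ₀) f h1 h2' h3
  -- the reflection
  have hm0 : 0 < m := by omega
  obtain ⟨v, hvdef⟩ : ∃ v : Fin m ⊕ Fin m → F,
      v = (Pi.single (Sum.inl (⟨0, hm0⟩ : Fin m)) (1 : F) +
        Pi.single (Sum.inr (⟨0, hm0⟩ : Fin m)) (1 : F) : Fin m ⊕ Fin m → F) := ⟨_, rfl⟩
  have hQv : QfPlus m F v = 1 := by
    rw [QfPlus_coe, hvdef]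
    unfold Cfsg.quadFormPlus
    rw [Finset.sum_eq_single ⟨0, hm0⟩]
    · simp
    · intro i _ hi
      simp [hi]
    · intro h
      exact absurd (Finset.mem_univ _) h
  have hv : QfPlus m F v ≠ 0 := by rw [hQv]; exact one_ne_zero
  have hfix : ∀ i, σ₀ (v i) = v i := by
    intro i
    rw [hvdef]
    rcases i with i | i
    · by_cases h : i = ⟨0, hm0⟩
      · subst h; simp
      · simp [h]
    · by_cases h : i = ⟨0, hm0⟩
      · subst h; simp
      · simp [h]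
  have hcomm := phiO_comm_reflGO (QfPlus m F) hstd σ₀ v hv hfix
  have hpgo : ∀ g : ↥(GO (QfPlus m F)), cG (QfPlus m F) g ∈ Cfsg.pgoAut F ⇑(QfPlus m F) := by
    intro g
    rw [pgoAut_eq]
    exact ⟨g, rfl⟩
  refine ⟨QuotientGroup.mk' _ (phiO hstd σ₀),
    QuotientGroup.mk' _ (cG (QfPlus m F) (reflGO (QfPlus m F) v hv)), q1, q2, q3, q4,
    Subgroup.mem_map_of_mem _ (hpgo _), ?_, ?_, ?_, ?_⟩
  · rw [← map_mul, ← map_mul, reflGO_mul_self, map_one, map_one]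
  · rw [← map_mul, ← map_mul, hcomm]
  · intro hodd hs1
    have h2 : (2 : F) ≠ 0 := by
      apply Ring.two_ne_zero
      intro h
      rw [FiniteField.even_card_iff_char_two] at h
      rcases hodd with ⟨k, hk⟩
      omega
    have hmem : cG (QfPlus m F) (reflGO (QfPlus m F) v hv) ∈
        Cfsg.Inn (Cfsg.POmega F ⇑(QfPlus m F)) := by
      rw [← QuotientGroup.eq_one_iff]
      exact hs1
    exact cG_reflGO_not_mem_Inn (QfPlus m F) hQ fr h2 hperf hcardι v hv hmem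
  · intro hodd hcase
    have h2 : (2 : F) ≠ 0 := by
      apply Ring.two_ne_zero
      intro h
      rw [FiniteField.even_card_iff_char_two] at h
      rcases hodd with ⟨k, hk⟩
      omega
    obtain ⟨ν, hν⟩ := FiniteField.exists_nonsquare (F := F) (by
      intro h
      apply h2
      have := ringChar.Nat.cast_ringChar (R := F)
      rw [h] at this
      exact_mod_cast this)
    have hν0 : ν ≠ 0 := by
      rintro rfl
      exact hν ⟨0, by simp⟩
    set c : Fˣ := Units.mk0 ν hν0 with hc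
    set A : Matrix (Fin m ⊕ Fin m) (Fin m ⊕ Fin m) F :=
      Matrix.diagonal (Sum.elim (fun _ => ν) (fun _ => 1)) with hA
    have hAsim : ∀ w, QfPlus m F (A *ᵥ w) = (c : F) * QfPlus m F w := by
      intro w
      rw [QfPlus_coe]
      unfold Cfsg.quadFormPlus
      rw [Finset.mul_sum]
      apply Finset.sum_congr rfl
      intro i _
      rw [hA, Matrix.mulVec_diagonal, Matrix.mulVec_diagonal]
      simp only [Sum.elim_inl, Sum.elim_inr, one_mul]
      show ν * w (Sum.inl i) * w (Sum.inr i) = ν * (w (Sum.inl i) * w (Sum.inr i))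
      ring
    obtain ⟨h, hh⟩ := exists_GO_of_sim (QfPlus m F) hQ A c hAsim
    have hchi : chi (QfPlus m F) h = -1 := by
      apply chi_of_nonsquare (QfPlus m F) ⟨v, hv⟩ h c _ hν
      intro w
      rw [hh]
      exact hAsim w
    have hcrit := Cfsg.Agent.S0790.result (F := F) rfl hodd m (by omega)
    rw [← QfPlus_coe] at hcrit
    have hpow := Cfsg.Agent.S2723.pow_mod_four hodd m
    have hneg := hcrit.2 (by rw [hpow, if_neg (fun hh => hcase ⟨hh.2, hh.1⟩)])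
    have hnc := comm_reflGO_not_mem_Inn (QfPlus m F) hQ h2 (by rw [hcardι]; omega) hneg v hv h hchi
    refine ⟨QuotientGroup.mk' _ (cG (QfPlus m F) h), Subgroup.mem_map_of_mem _ (hpgo _), ?_⟩
    intro heq
    apply hnc
    rw [← QuotientGroup.eq_one_iff]
    have e : ∀ x y : MulAut (Cfsg.POmega F ⇑(QfPlus m F)),
        ((x * y * x⁻¹ * y⁻¹ : MulAut (Cfsg.POmega F ⇑(QfPlus m F))) :
          MulAut (Cfsg.POmega F ⇑(QfPlus m F)) ⧸ Cfsg.Inn (Cfsg.POmega F ⇑(QfPlus m F))) =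
        QuotientGroup.mk' _ x * QuotientGroup.mk' _ y * (QuotientGroup.mk' _ x)⁻¹ *
          (QuotientGroup.mk' _ y)⁻¹ := by
      intro x y
      rfl
    rw [e, heq]
    group

/-- the data in `Out(PΩ⁺_{2m}(q))`, `m ≥ 5` -/
theorem out_plus_data {F : Type*} [Field F] [Fintype F] {m : ℕ} (hm : 5 ≤ m) (f : ℕ)
    (hcard : Nat.card (F ≃+* F) = f) :
    ∃ (φ s : Cfsg.Out (Cfsg.POmega F (Cfsg.quadFormPlus m F))),
      (NP m F).Normal ∧ φ ^ f = 1 ∧ (∀ k : ℕ, φ ^ k ∈ NP m F → f ∣ k) ∧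
      (∀ x, ∃ k : ℕ, x * φ ^ k ∈ NP m F) ∧
      s ∈ NP m F ∧ s * s = 1 ∧ φ * s = s * φ ∧
      (Odd (Fintype.card F) → s ≠ 1) ∧
      (Odd (Fintype.card F) → ¬ (Odd m ∧ Fintype.card F % 4 = 3) →
        ∃ g ∈ NP m F, s * g ≠ g * s) :=
  out_plus_data_aux hm f hcard

end Cfsg.Agent.S2607P
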