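import Mathlib
import Cfsg.Prelude.Def_LieTypeDatum
import Cfsg.Agent.Helper7.OutPlusGeo3
import Cfsg.Agent.Helper5.S2607AG2
import Cfsg.Agent.Helper5.S2607AG5
import Cfsg.Agent.Helper26.S2607AG3
import Cfsg.Agent.Helper26.S2607AG4

set_option autoImplicit false
set_option linter.unusedSectionVars false
set_option linter.unusedVariables false

/-! `Out(PΩ⁺_{2m}(q))`, `m ≥ 5` (helper7): the three cases. -/

namespace Cfsg.Agent.S2607P

open Matrix Cfsg.Agent.Helper28.SSim Cfsg.Agent.Helper28.Sg Cfsg.Agent.Helper28.PG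
  Cfsg.Agent.Helper28.GC Cfsg.Agent.Helper28.FO Cfsg.Agent.Helper28.Spin
  Cfsg.Agent.Helper28.PA Cfsg.Agent.Helper28.IsoTransport Cfsg.Agent.Helper28.OC

/-- the order of the image in `A ⧸ I` of a subgroup `P ≥ I` -/
theorem card_map_mk {A : Type*} [Group A] (I : Subgroup A) [I.Normal] (P : Subgroup A)
    (hIP : I ≤ P) :
    Nat.card ↥(P.map (QuotientGroup.mk' I)) * Nat.card ↥I = Nat.card ↥P := by
  obtain ⟨e⟩ := map_mk_equiv I P hIP (QuotientGroup.mk' (I.subgroupOf P))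
    (QuotientGroup.mk'_surjective _) (QuotientGroup.ker_mk' _)
  rw [Nat.card_congr e.toEquiv, Subgroup.card_eq_card_quotient_mul_card_subgroup (I.subgroupOf P),
    Nat.card_congr (Subgroup.subgroupOfEquivOfLe hIP).toEquiv]

set_option maxHeartbeats 1600000 in
/-- `Out(PΩ⁺_{2m}(q)) ≅ C₂ × C_f` for `q` even, `m ≥ 5` -/
theorem out_plus_even {F : Type*} [Field F] [Fintype F] {f m : ℕ} (hf : 1 ≤ f)
    (hF : Fintype.card F = 2 ^ f) (hm : 5 ≤ m) :
    Nonempty (Cfsg.Out (Cfsg.POmega F (Cfsg.quadFormPlus m F)) ≃*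
      Multiplicative (ZMod 2 × ZMod f)) := by
  classical
  haveI : Fact (Nat.Prime 2) := ⟨Nat.prime_two⟩
  have hcard : Nat.card (F ≃+* F) = f := card_ringAut_eq hF
  obtain ⟨φ, s, hN, h1, h2', h3, -⟩ := out_plus_data (F := F) hm f hcard
  have hc2 : Nat.card ↥(NP m F) = 2 := by
    have hchar : CharP F 2 := charP_of_card_eq_prime_pow hF
    have h2 : (2 : F) = 0 := by
      have := CharP.cast_eq_zero F 2
      exact_mod_cast this
    have hcardι : Fintype.card (Fin m ⊕ Fin m) = 2 * m := by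
      rw [Fintype.card_sum, Fintype.card_fin]; omega
    let a' : Fin 3 → Fin m ⊕ Fin m := fun j => Sum.inl (Fin.castLE (by omega) j)
    let b' : Fin 3 → Fin m ⊕ Fin m := fun j => Sum.inr (Fin.castLE (by omega) j)
    have hinj : Function.Injective (Sum.elim a' b') := by
      intro x y h
      rcases x with x | x <;> rcases y with y | y <;>
        simp only [Sum.elim_inl, Sum.elim_inr, a', b', Sum.inl.injEq, Sum.inr.injEq, reduceCtorEq,
          Fin.castLE_inj] at h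
      · rw [h]
      · rw [h]
    let fr : Frame3 (QfPlus m F) := frameOf a' b' hinj
      (fun j => Cfsg.Agent.S2613.hypPair_plus m _)
    have hQ : (QuadraticMap.polarBilin (QfPlus m F)).Nondegenerate := QfPlus_nondeg (F := F) m
    have hgen := hgen_even h2 hQ (Or.inr (by rw [hcardι]; omega))
    have hperf := Omega_perfect' hQ fr hgen
    have hpgo := card_pgoAut_char_two (QfPlus m F) h2 hQ fr hperf (by rw [hcardι]; omega)
    have hIP : Cfsg.Inn (Cfsg.POmega F ⇑(QfPlus m F)) ≤ Cfsg.pgoAut F ⇑(QfPlus m F) :=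
      Inn_le_pgoAut (QfPlus m F)
    have hmul := card_map_mk (Cfsg.Inn (Cfsg.POmega F ⇑(QfPlus m F)))
      (Cfsg.pgoAut F ⇑(QfPlus m F)) hIP
    rw [hpgo, card_Inn_of_center_eq_bot (center_POmega_eq_bot (QfPlus m F) hQ fr hgen)] at hmul
    have hpos : 0 < Nat.card (Cfsg.POmega F ⇑(QfPlus m F)) := Nat.card_pos
    exact Nat.eq_of_mul_eq_mul_right hpos hmul
  exact prod_of_card_two (NP m F) hc2 φ f hf h1 h2' h3

/-- `Out(PΩ⁺_{2m}(q)) ≅ C₂ × C₂ × C_f` for `q ≡ 3 mod 4`, `m ≥ 5` odd -/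
theorem out_plus_klein {F : Type*} [Field F] [Fintype F] {p f m : ℕ} [Fact p.Prime] (hf : 1 ≤ f)
    (hF : Fintype.card F = p ^ f) (hp : p ≠ 2) (hm : 5 ≤ m) (hcase : p ^ f % 4 = 3 ∧ Odd m) :
    Nonempty (Cfsg.Out (Cfsg.POmega F (Cfsg.quadFormPlus m F)) ≃*
      Multiplicative (ZMod 2 × ZMod 2 × ZMod f)) := by
  classical
  have hcard : Nat.card (F ≃+* F) = f := card_ringAut_eq hF
  have hpodd : Odd p := (Fact.out : p.Prime).odd_of_ne_two hp
  have hodd : Odd (Fintype.card F) := by rw [hF]; exact hpodd.pow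
  obtain ⟨φ, s, hN, h1, h2', h3, hs, hs2, hsφ, hs1, -⟩ := out_plus_data (F := F) hm f hcard
  obtain ⟨ψ, hψs, hψk⟩ := (Cfsg.Agent.S2724.result hodd (by omega : 4 ≤ m)).1
    ⟨hcase.2, by rw [hF]; exact hcase.1⟩
  obtain ⟨e⟩ := map_mk_equiv (Cfsg.Inn (Cfsg.POmega F (Cfsg.quadFormPlus m F)))
    (Cfsg.pgoAut F (Cfsg.quadFormPlus m F)) (Inn_le_pgoAut (QfPlus m F)) ψ hψs hψk
  have hfo : Odd f := by
    rcases Nat.even_or_odd f with hfe | hfo
    · exfalso
      obtain ⟨t, rfl⟩ := hfe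
      have h4 : p ^ (t + t) = (p ^ t) * (p ^ t) := by rw [pow_add]
      have := hcase.1
      rw [h4, Nat.mul_mod] at this
      have h5 : p ^ t % 4 < 4 := Nat.mod_lt _ (by norm_num)
      interval_cases (p ^ t % 4) <;> omega
    · exact hfo
  exact prod_of_klein (NP m F) e φ f hfo h1 h2' h3 s hs (hs1 hodd) hsφ

/-- `Out(PΩ⁺_{2m}(q)) ≅ D₈ × C_f` for `q` odd, `m ≥ 5`, unless `q ≡ 3 mod 4` and `m` odd -/
theorem out_plus_dihedral {F : Type*} [Field F] [Fintype F] {p f m : ℕ} [Fact p.Prime]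
    (hf : 1 ≤ f) (hF : Fintype.card F = p ^ f) (hp : p ≠ 2) (hm : 5 ≤ m)
    (hcase : ¬ (p ^ f % 4 = 3 ∧ Odd m)) :
    Nonempty (Cfsg.Out (Cfsg.POmega F (Cfsg.quadFormPlus m F)) ≃*
      DihedralGroup 4 × Multiplicative (ZMod f)) := by
  classical
  have hcard : Nat.card (F ≃+* F) = f := card_ringAut_eq hF
  have hpodd : Odd p := (Fact.out : p.Prime).odd_of_ne_two hp
  have hodd : Odd (Fintype.card F) := by rw [hF]; exact hpodd.pow
  have hcase' : ¬ (Odd m ∧ Fintype.card F % 4 = 3) := by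
    rw [hF]
    exact fun h => hcase ⟨h.2, h.1⟩
  obtain ⟨φ, s, hN, h1, h2', h3, hs, hs2, hsφ, hs1, hnc⟩ := out_plus_data (F := F) hm f hcard
  obtain ⟨ψ, hψs, hψk⟩ := (Cfsg.Agent.S2724.result hodd (by omega : 4 ≤ m)).2 hcase'
  obtain ⟨e⟩ := map_mk_equiv (Cfsg.Inn (Cfsg.POmega F (Cfsg.quadFormPlus m F)))
    (Cfsg.pgoAut F (Cfsg.quadFormPlus m F)) (Inn_le_pgoAut (QfPlus m F)) ψ hψs hψk
  obtain ⟨g, hg, hsg⟩ := hnc hodd hcase'
  exact prod_of_dihedral (NP m F) e φ f hf h1 h2' h3 s hs hs2 hsφ g hg hsg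

end Cfsg.Agent.S2607P
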