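import Mathlib
import Cfsg.Agent.Helper7.PGU1

set_option autoImplicit false
set_option linter.unusedSectionVars false
set_option linter.style.haveILetI false

/-! First-kind data (elements with a lift of order `r`) for `GU_n(q)`, `r ∣ q + 1`. -/

namespace Cfsg.Agent.Helper7.PGU

open Matrix Subgroup Cfsg.Agent.Helper28 Cfsg.Agent.Helper7.PCls

variable {K : Type*} [Field K] [Fintype K] {n q r : ℕ} [hr : Fact r.Prime]
  (hK : Fintype.card K = q ^ 2) (σ : K →+* K) (hσ : ∀ x, σ x = x ^ q)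
  {ω : K} (hω : IsPrimitiveRoot ω r) (hωq : ω ^ (q + 1) = 1)

include σ hσ hωq in
theorem pow_pow_eq_one (m : ℕ) : (ω ^ m) ^ (q + 1) = 1 := by
  rw [← pow_mul, mul_comm, pow_mul, hωq, one_pow]

/-- the central element `ω · 1` of `GU`. -/
noncomputable def zetaGU (n : ℕ) (hωq : ω ^ (q + 1) = 1) : ↥(Cfsg.GU n K q) :=
  scalGU σ hσ ω hωq

theorem valM_zetaGU_pow (m : ℕ) :
    valM (zetaGU σ hσ n hωq ^ m) = Matrix.scalar (Fin n) (ω ^ m) := by
  rw [valM_pow, zetaGU, valM_scalGU, ← map_pow]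

theorem zetaGU_mem_center : zetaGU σ hσ n hωq ∈ center ↥(Cfsg.GU n K q) :=
  mem_center_of_scalar _ ω rfl

theorem valM_zetaGU_pow_mul (m : ℕ) (g : ↥(Cfsg.GU n K q)) :
    valM (zetaGU σ hσ n hωq ^ m * g) = (ω ^ m) • valM g := by
  rw [valM_mul, valM_zetaGU_pow, Matrix.scalar_apply, ← Matrix.smul_eq_diagonal_mul]

theorem valM_pow_eq_one {g : ↥(Cfsg.GU n K q)} (hg : g ^ r = 1) : valM g ^ r = 1 := by
  rw [← valM_pow, hg, valM_one]

include hω in
theorem mult_lt_GU (g : S1 ↥(Cfsg.GU n K q) r) (j : ZMod r) :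
    mult ω (valM g.1) j < n := by
  have hM := valM_pow_eq_one g.2.1
  have hsum := sum_mult hω _ hM
  have hle : mult ω (valM g.1) j ≤ n :=
    le_trans (Finset.single_le_sum (f := fun j => mult ω (valM g.1) j)
      (fun _ _ => Nat.zero_le _) (Finset.mem_univ j)) (le_of_eq hsum)
  refine lt_of_le_of_ne hle (fun h => ?_)
  exact g.2.2 (mem_center_of_scalar _ _ (eq_scalar_of_mult_eq hω _ hM j h))

/-- the multiplicity tuple of a noncentral element of order `r` of `GU`. -/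
noncomputable def tauGU (g : S1 ↥(Cfsg.GU n K q) r) : Tup r n :=
  ⟨mult ω (valM g.1), sum_mult hω _ (valM_pow_eq_one g.2.1), mult_lt_GU hω g⟩

include hK in
theorem tauGU_conj (g h : S1 ↥(Cfsg.GU n K q) r) :
    tauGU hω g = tauGU hω h ↔ IsConj (g : ↥(Cfsg.GU n K q)) (h : ↥(Cfsg.GU n K q)) := by
  rw [Cfsg.Agent.S2587.result hK]
  constructor
  · intro e
    have e1 : mult (r := r) ω (valM g.1) = mult ω (valM h.1) := congrArg Subtype.val e
    obtain ⟨P, hP⟩ := exists_conj_of_mult_eq hω _ _ (valM_pow_eq_one g.2.1)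
      (valM_pow_eq_one h.2.1) e1
    refine isConj_iff.2 ⟨P, ?_⟩
    rw [mul_inv_eq_iff_eq_mul]
    apply Units.ext
    rw [Units.val_mul, Units.val_mul]
    exact hP
  · intro hc
    obtain ⟨P, hP⟩ := isConj_iff.1 hc
    rw [mul_inv_eq_iff_eq_mul] at hP
    have hP' := congrArg (fun x : GL (Fin n) K => (x : Matrix (Fin n) (Fin n) K)) hP
    simp only [Units.val_mul] at hP'
    apply Subtype.ext
    exact mult_eq_of_conj P _ _ hP'

theorem tauGU_rot (m : ℕ) (g h : S1 ↥(Cfsg.GU n K q) r)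
    (e : (h : ↥(Cfsg.GU n K q)) = zetaGU σ hσ n hωq ^ m * g) :
    tauGU hω h = Multiplicative.ofAdd (m : ZMod r) • tauGU hω g := by
  apply Subtype.ext
  funext j
  rw [Tup.smul_apply]
  show mult ω (valM h.1) j = mult ω (valM g.1) (j - (m : ZMod r))
  rw [e, valM_zetaGU_pow_mul, mult_smul hω _ (valM_pow_eq_one g.2.1)]

include σ hσ hωq in
theorem tauGU_surj (hn : 1 ≤ n) : Function.Surjective (tauGU (n := n) (q := q) hω) := by
  intro a
  obtain ⟨d, hd⟩ := exists_d_of_tuple a.1 a.2.1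
  have hu : (Dm ω d)ᵀ * (Dm ω d).map σ = 1 :=
    GUlib.diagonal_unitary σ hσ _ (fun i => pow_pow_eq_one σ hσ hωq _)
  let g : ↥(Cfsg.GU n K q) := GUlib.mkGU σ hσ (Dm ω d) hu
  have hgval : valM g = Dm ω d := rfl
  have hgr : g ^ r = 1 := by
    apply valM_injective
    rw [valM_pow, hgval, Dm_pow hω.pow_eq_one, valM_one]
  have hgc : g ∉ center ↥(Cfsg.GU n K q) := by
    intro hmem
    obtain ⟨c, hc⟩ := exists_scalar_of_mem_center σ hσ hn ω (hω.ne_one hr.out.one_lt) hωq g hmem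
    have h1 : ∀ i, ω ^ (d i).val = c := fun i =>
      Dm_eq_scalar_apply d c (hgval ▸ hc) i
    let i0 : Fin n := ⟨0, hn⟩
    have h2 : ∀ i, d i = d i0 := fun i => pow_val_injective hω ((h1 i).trans (h1 i0).symm)
    have h3 := hd (d i0)
    rw [Finset.filter_true_of_mem (fun i _ => h2 i), Finset.card_univ, Fintype.card_fin] at h3
    have := a.2.2 (d i0)
    omega
  refine ⟨⟨g, hgr, hgc⟩, ?_⟩
  apply Subtype.ext
  funext j
  show mult ω (valM g) j = a.1 j
  rw [hgval, mult_Dm hω, hd]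

include hω in
theorem root_GU (hn : 1 ≤ n) (z : ↥(Cfsg.GU n K q))
    (hz : z ∈ center ↥(Cfsg.GU n K q)) (hzr : z ^ r = 1) :
    ∃ m : ℕ, z = zetaGU σ hσ n hωq ^ m := by
  obtain ⟨c, hc⟩ := exists_scalar_of_mem_center σ hσ hn ω (hω.ne_one hr.out.one_lt) hωq z hz
  have h1 : valM z ^ r = 1 := valM_pow_eq_one hzr
  rw [hc, ← map_pow] at h1
  have hc' : c ^ r = 1 := by
    have := congrFun (congrFun h1 ⟨0, hn⟩) ⟨0, hn⟩
    simp only [Matrix.scalar_apply, Matrix.diagonal_apply_eq, Matrix.one_apply_eq] at this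
    exact this
  haveI : NeZero r := ⟨hr.out.ne_zero⟩
  obtain ⟨i, hi, hic⟩ := hω.eq_pow_of_pow_eq_one hc'
  refine ⟨i, ?_⟩
  apply valM_injective
  rw [valM_zetaGU_pow, hc, hic]

end Cfsg.Agent.Helper7.PGU
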