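import Mathlib

set_option autoImplicit false
set_option linter.unusedSectionVars false
set_option linter.style.haveILetI false

/-! Monomial matrices of a cyclic shift: powers, unitarity; block diagonal / reindexed unitary
matrices. -/

namespace Cfsg.Agent.Helper7.PGU

open Matrix

variable {R : Type*} [CommRing R] {r : ℕ} [hr : Fact r.Prime]

/-- the monomial matrix `e_j ↦ c_j e_{j+1}`. -/
def mono (c : ZMod r → R) : Matrix (ZMod r) (ZMod r) R :=
  fun i j => if i = j + 1 then c j else 0

theorem mono_pow (c : ZMod r → R) (k : ℕ) :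
    (mono c) ^ k = Matrix.of (fun i j => if i = j + (k : ZMod r) then
      ∏ t ∈ Finset.range k, c (j + (t : ZMod r)) else 0) := by
  induction k with
  | zero =>
    ext i j
    simp [Matrix.one_apply]
  | succ k ih =>
    rw [pow_succ', ih]
    ext i j
    rw [Matrix.mul_apply]
    rw [Finset.sum_eq_single (j + (k : ZMod r))]
    · simp only [mono, Matrix.of_apply, if_true]
      by_cases h : i = j + (k : ZMod r) + 1
      · rw [if_pos h, if_pos (by rw [h]; push_cast; ring), Finset.prod_range_succ, mul_comm]
      · rw [if_neg h, if_neg (by intro h'; apply h; rw [h']; push_cast; ring), zero_mul]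
    · intro l _ hl
      rw [Matrix.of_apply, if_neg hl, mul_zero]
    · intro h
      exact absurd (Finset.mem_univ _) h

theorem prod_range_eq (g : ZMod r → R) :
    ∏ t ∈ Finset.range r, g (t : ZMod r) = ∏ x : ZMod r, g x := by
  haveI : NeZero r := ⟨hr.out.ne_zero⟩
  symm
  apply Finset.prod_bij' (fun (x : ZMod r) _ => x.val) (fun (t : ℕ) _ => (t : ZMod r))
  · intro x _
    exact Finset.mem_range.2 (ZMod.val_lt x)
  · intro t _
    exact Finset.mem_univ _
  · intro x _
    exact ZMod.natCast_zmod_val x
  · intro t ht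
    exact ZMod.val_natCast_of_lt (Finset.mem_range.1 ht)
  · intro x _
    rw [ZMod.natCast_zmod_val]

theorem mono_pow_r (c : ZMod r → R) :
    (mono c) ^ r = Matrix.scalar (ZMod r) (∏ x, c x) := by
  rw [mono_pow]
  ext i j
  rw [Matrix.of_apply, Matrix.scalar_apply, Matrix.diagonal_apply, ZMod.natCast_self, add_zero]
  by_cases h : i = j
  · rw [if_pos h, if_pos h, prod_range_eq (fun x => c (j + x))]
    exact Fintype.prod_equiv (Equiv.addLeft j) _ _ (fun x => rfl)
  · rw [if_neg h, if_neg h]

theorem mono_unitary (σ : R →+* R) (c : ZMod r → R) (hc : ∀ j, c j * σ (c j) = 1) :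
    (mono c)ᵀ * (mono c).map σ = 1 := by
  ext i j
  rw [Matrix.mul_apply, Finset.sum_eq_single (i + 1)]
  · simp only [Matrix.transpose_apply, Matrix.map_apply, mono, if_true]
    by_cases h : i = j
    · subst h
      rw [if_pos rfl, hc, Matrix.one_apply_eq]
    · rw [if_neg (fun h' => h (add_right_cancel h')), map_zero, mul_zero,
        Matrix.one_apply_ne h]
  · intro l _ hl
    simp only [Matrix.transpose_apply, mono]
    rw [if_neg hl, zero_mul]
  · intro h
    exact absurd (Finset.mem_univ _) h

theorem blockDiagonal_unitary {m o : Type*} [Fintype m] [DecidableEq m] [Fintype o] [DecidableEq o]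
    (σ : R →+* R) (M : o → Matrix m m R) (hM : ∀ k, (M k)ᵀ * (M k).map σ = 1) :
    (Matrix.blockDiagonal M)ᵀ * (Matrix.blockDiagonal M).map σ = 1 := by
  rw [Matrix.blockDiagonal_transpose, Matrix.blockDiagonal_map _ _ (map_zero σ),
    ← Matrix.blockDiagonal_mul, ← Matrix.blockDiagonal_one]
  congr 1
  funext k
  exact hM k

theorem reindex_unitary {m m' : Type*} [Fintype m] [DecidableEq m] [Fintype m'] [DecidableEq m']
    (σ : R →+* R) (e : m ≃ m') (B : Matrix m m R) (hB : Bᵀ * B.map σ = 1) :
    (Matrix.reindex e e B)ᵀ * (Matrix.reindex e e B).map σ = 1 := by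
  rw [Matrix.reindex_apply, Matrix.transpose_submatrix, ← Matrix.submatrix_map,
    Matrix.submatrix_mul_equiv, hB, Matrix.submatrix_one_equiv]

end Cfsg.Agent.Helper7.PGU
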