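import Mathlib
import Cfsg.Agent.Helper7.PGU2
import Cfsg.Agent.Helper7.PGU3

set_option autoImplicit false
set_option linter.unusedSectionVars false
set_option linter.style.haveILetI false

/-! Second-kind classes for `GU_n(q)`, `r ∣ q + 1`. -/

namespace Cfsg.Agent.Helper7.PGU

open Matrix Subgroup Cfsg.Agent.Helper28 Cfsg.Agent.Helper7.PCls

theorem exists_zpow_root {A : Type*} [CommGroup A] (x y : A) (r n : ℕ) (hcop : Nat.Coprime r n)
    (h : y ^ r = x ^ n) : ∃ a b : ℤ, (x ^ a * y ^ b) ^ r = x := by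
  have hb : (r : ℤ) * Nat.gcdA r n + n * Nat.gcdB r n = 1 := by
    have := Nat.gcd_eq_gcd_ab r n
    rw [← this, hcop.gcd_eq_one]
    rfl
  refine ⟨Nat.gcdA r n, Nat.gcdB r n, ?_⟩
  set a := Nat.gcdA r n
  set b := Nat.gcdB r n
  have h' : y ^ (r : ℤ) = x ^ (n : ℤ) := by
    rw [zpow_natCast, zpow_natCast, h]
  have hexp : a * (r : ℤ) + (n : ℤ) * b = 1 := by linarith [hb]
  rw [← zpow_natCast, mul_zpow, ← _root_.zpow_mul, ← _root_.zpow_mul, mul_comm b,
    _root_.zpow_mul y, h', ← _root_.zpow_mul, ← _root_.zpow_add, hexp, zpow_one]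

variable {K : Type*} [Field K] [Fintype K] {n q r : ℕ} [hr : Fact r.Prime]
  (hK : Fintype.card K = q ^ 2) (σ : K →+* K) (hσ : ∀ x, σ x = x ^ q)
  {ω : K} (hω : IsPrimitiveRoot ω r) (hωq : ω ^ (q + 1) = 1)

include hK in
theorem pow_succ_eq_one_of_pow (hr2 : r ≠ 2) (hrq : r ∣ q + 1) (b lam : K) (hb : b ^ r = lam)
    (hlam : lam ^ (q + 1) = 1) : b ^ (q + 1) = 1 := by
  have hr3 : 3 ≤ r := by
    have := hr.out.two_le
    omega
  have hq2 : 2 ≤ q := by
    have := Nat.le_of_dvd (Nat.succ_pos q) hrq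
    omega
  have hb0 : b ≠ 0 := by
    rintro rfl
    rw [zero_pow hr.out.ne_zero] at hb
    rw [← hb, zero_pow (Nat.succ_ne_zero q)] at hlam
    exact zero_ne_one hlam
  have h1 : b ^ ((q + 1) * r) = 1 := by
    rw [mul_comm, pow_mul, hb, hlam]
  have h2 : b ^ ((q + 1) * (q - 1)) = 1 := by
    have := FiniteField.pow_card_sub_one_eq_one b hb0
    rw [hK] at this
    have e : q ^ 2 - 1 = (q + 1) * (q - 1) := by
      have := Nat.sq_sub_sq q 1
      simpa using this
    rw [← e]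
    exact this
  have h3 : orderOf b ∣ Nat.gcd ((q + 1) * r) ((q + 1) * (q - 1)) :=
    Nat.dvd_gcd (orderOf_dvd_of_pow_eq_one h1) (orderOf_dvd_of_pow_eq_one h2)
  rw [Nat.gcd_mul_left] at h3
  have hcop : Nat.gcd r (q - 1) = 1 := by
    rw [← Nat.coprime_iff_gcd_eq_one, Nat.Prime.coprime_iff_not_dvd hr.out]
    intro hd
    have h4 : r ∣ (q + 1) - (q - 1) := Nat.dvd_sub hrq hd
    have h5 : (q + 1) - (q - 1) = 2 := by omega
    rw [h5] at h4
    have := Nat.le_of_dvd (by norm_num) h4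
    omega
  rw [hcop, mul_one] at h3
  exact orderOf_dvd_iff_pow_eq_one.1 h3

include hK σ hσ hω hωq in
theorem hB1_GU (hn : 1 ≤ n) (hr2 : r ≠ 2) (hrq : r ∣ q + 1) (g h : ↥(Cfsg.GU n K q))
    (e : g ^ r = h ^ r) (hgr : g ^ r ∈ center ↥(Cfsg.GU n K q))
    (hnA : ¬ ∃ c ∈ center ↥(Cfsg.GU n K q), g ^ r = c ^ r) : IsConj g h := by
  obtain ⟨lam, hlam⟩ := exists_scalar_of_mem_center σ hσ hn ω (hω.ne_one hr.out.one_lt) hωq
    (g ^ r) hgr
  have hlamq : lam ^ (q + 1) = 1 := scalar_pow_of_mem σ hσ (g ^ r) lam hn hlam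
  have hlam0 : lam ≠ 0 := by
    rintro rfl
    rw [zero_pow (Nat.succ_ne_zero q)] at hlamq
    exact zero_ne_one hlamq
  have hM : valM g ^ r = Matrix.scalar (Fin n) lam := by rw [← valM_pow]; exact hlam
  have hN : valM h ^ r = Matrix.scalar (Fin n) lam := by rw [← valM_pow, ← e]; exact hlam
  have hirr : ∀ b : K, b ^ r ≠ lam := by
    intro b hb
    have hbq := pow_succ_eq_one_of_pow hK hr2 hrq b lam hb hlamq
    apply hnA
    refine ⟨scalGU σ hσ b hbq, mem_center_of_scalar _ b rfl, valM_injective ?_⟩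
    rw [valM_pow (scalGU σ hσ b hbq), valM_scalGU, ← map_pow, hb]
    exact hlam
  obtain ⟨P, hP⟩ := exists_conj_of_pow_eq_scalar (neZero_of_primitive hω) _ _ lam hlam0 hirr hM hN
  rw [Cfsg.Agent.S2587.result hK]
  refine isConj_iff.2 ⟨P, ?_⟩
  rw [mul_inv_eq_iff_eq_mul]
  apply Units.ext
  rw [Units.val_mul, Units.val_mul]
  exact hP

include σ hσ hω hωq in
theorem hB3_GU (hn : 1 ≤ n) (hrn : ¬ r ∣ n) (g : ↥(Cfsg.GU n K q))
    (hgr : g ^ r ∈ center ↥(Cfsg.GU n K q)) :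
    ∃ c ∈ center ↥(Cfsg.GU n K q), g ^ r = c ^ r := by
  obtain ⟨lam, hlam⟩ := exists_scalar_of_mem_center σ hσ hn ω (hω.ne_one hr.out.one_lt) hωq
    (g ^ r) hgr
  have hlamq : lam ^ (q + 1) = 1 := scalar_pow_of_mem σ hσ (g ^ r) lam hn hlam
  have hlam0 : lam ≠ 0 := by
    rintro rfl
    rw [zero_pow (Nat.succ_ne_zero q)] at hlamq
    exact zero_ne_one hlamq
  have hdq : (valM g).det ^ (q + 1) = 1 :=
    GUlib.det_pow_of_unitary σ hσ (valM g) ((GUlib.mem_GU_iff σ hσ _).1 g.2)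
  have hd0 : (valM g).det ≠ 0 := by
    intro h0
    rw [h0, zero_pow (Nat.succ_ne_zero q)] at hdq
    exact zero_ne_one hdq
  have hdr : (valM g).det ^ r = lam ^ n := by
    have h1 := congrArg Matrix.det hlam
    rw [valM_pow, Matrix.det_pow, Matrix.scalar_apply, Matrix.det_diagonal, Finset.prod_const,
      Finset.card_univ, Fintype.card_fin] at h1
    exact h1
  have hcop : Nat.Coprime r n := (Nat.Prime.coprime_iff_not_dvd hr.out).2 hrn
  obtain ⟨a, b, hab⟩ := exists_zpow_root (Units.mk0 lam hlam0) (Units.mk0 _ hd0) r n hcop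
    (by apply Units.ext; simpa using hdr)
  set c0 : Kˣ := (Units.mk0 lam hlam0) ^ a * (Units.mk0 _ hd0) ^ b with hc0
  have hc0q : (c0 : K) ^ (q + 1) = 1 := by
    have h1 : c0 ^ (q + 1) = 1 := by
      have e1 : (Units.mk0 lam hlam0) ^ (q + 1) = 1 := by apply Units.ext; simpa using hlamq
      have e2 : (Units.mk0 (valM g).det hd0) ^ (q + 1) = 1 := by apply Units.ext; simpa using hdq
      rw [hc0, mul_pow, ← zpow_natCast, ← _root_.zpow_mul, mul_comm a, _root_.zpow_mul,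
        zpow_natCast, e1, _root_.one_zpow, one_mul, ← zpow_natCast, ← _root_.zpow_mul, mul_comm b,
        _root_.zpow_mul, zpow_natCast, e2, _root_.one_zpow]
    have := congrArg Units.val h1
    simpa using this
  have hc0r : (c0 : K) ^ r = lam := by
    have := congrArg Units.val hab
    simpa using this
  refine ⟨scalGU σ hσ (c0 : K) hc0q, mem_center_of_scalar _ _ rfl, valM_injective ?_⟩
  rw [valM_pow (scalGU σ hσ (c0 : K) hc0q), valM_scalGU, ← map_pow, hc0r]
  exact hlam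

end Cfsg.Agent.Helper7.PGU
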