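import Mathlib
import Cfsg.Agent.Helper7.PGU4

set_option autoImplicit false
set_option linter.unusedSectionVars false
set_option linter.style.haveILetI false
set_option linter.deprecated false

/-! Number of classes of elements of odd prime order `r ∣ q + 1` in `PGU_n(q)`. -/

namespace Cfsg.Agent.Helper7.PGU

open Matrix Subgroup Cfsg.Agent.Helper28 Cfsg.Agent.Helper7.PCls
open scoped IsMulCommutative

variable {K : Type*} [Field K] [Fintype K] {n q r : ℕ} [hr : Fact r.Prime]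
  (hK : Fintype.card K = q ^ 2) (σ : K →+* K) (hσ : ∀ x, σ x = x ^ q)
  {ω : K} (hω : IsPrimitiveRoot ω r) (hωq : ω ^ (q + 1) = 1)

include σ hσ in
theorem exists_unitary_pow_eq_scalar (hrn : r ∣ n) (lam : K) (hlam : lam ^ (q + 1) = 1) :
    ∃ M : Matrix (Fin n) (Fin n) K, Mᵀ * M.map σ = 1 ∧ M ^ r = Matrix.scalar (Fin n) lam := by
  classical
  obtain ⟨k, rfl⟩ := hrn
  haveI : NeZero r := ⟨hr.out.ne_zero⟩
  let c : ZMod r → K := fun j => if j = 0 then lam else 1
  have hc : ∀ j, c j * σ (c j) = 1 := by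
    intro j
    by_cases hj : j = 0
    · simp only [c, if_pos hj, hσ]
      rw [← pow_succ']
      exact hlam
    · simp only [c, if_neg hj, map_one, mul_one]
  have hprod : ∏ x, c x = lam := by
    simp only [c]
    rw [Finset.prod_ite_eq' Finset.univ (0 : ZMod r) (fun _ => lam)]
    simp
  have hM0r : (mono c) ^ r = Matrix.scalar (ZMod r) lam := by rw [mono_pow_r, hprod]
  have hB : (Matrix.blockDiagonal (fun _ : Fin k => mono c)) ^ r =
      algebraMap K (Matrix (ZMod r × Fin k) (ZMod r × Fin k) K) lam := by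
    rw [← Matrix.blockDiagonal_pow, algebraMap_eq_scalar]
    have : (fun _ : Fin k => mono c) ^ r =
        fun _ : Fin k => Matrix.diagonal (fun _ : ZMod r => lam) := by
      funext i
      rw [Pi.pow_apply, hM0r]
      rfl
    rw [this, Matrix.blockDiagonal_diagonal]
    rfl
  have hcard : Fintype.card (ZMod r × Fin k) = r * k := by
    rw [Fintype.card_prod, ZMod.card, Fintype.card_fin]
  let e : ZMod r × Fin k ≃ Fin (r * k) := Fintype.equivFinOfCardEq hcard
  refine ⟨Matrix.reindex e e (Matrix.blockDiagonal (fun _ : Fin k => mono c)), ?_, ?_⟩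
  · exact reindex_unitary σ e _ (blockDiagonal_unitary σ _ (fun _ => mono_unitary σ c hc))
  · have h1 : (Matrix.reindexAlgEquiv K K e (Matrix.blockDiagonal (fun _ : Fin k => mono c))) ^ r =
        Matrix.scalar (Fin (r * k)) lam := by
      rw [← map_pow, hB, AlgEquiv.commutes, algebraMap_eq_scalar]
    exact h1

include σ hσ hω hωq in
theorem hB2_GU (hn : 1 ≤ n) (hrn : r ∣ n) (z : ↥(Cfsg.GU n K q))
    (hz : z ∈ center ↥(Cfsg.GU n K q)) : ∃ g : ↥(Cfsg.GU n K q), g ^ r = z := by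
  obtain ⟨lam, hlam⟩ := exists_scalar_of_mem_center σ hσ hn ω (hω.ne_one hr.out.one_lt) hωq z hz
  have hlamq : lam ^ (q + 1) = 1 := scalar_pow_of_mem σ hσ z lam hn hlam
  obtain ⟨M, hMu, hMr⟩ := exists_unitary_pow_eq_scalar (r := r) σ hσ hrn lam hlamq (n := n)
  refine ⟨GUlib.mkGU σ hσ M hMu, valM_injective ?_⟩
  rw [valM_pow, hlam]
  exact hMr

include σ hσ hω hωq in
theorem hidx_GU (hn : 1 ≤ n) :
    Nat.card (center ↥(Cfsg.GU n K q) ⧸ RZ ↥(Cfsg.GU n K q) r) = r := by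
  have hdiag : ∀ z : center ↥(Cfsg.GU n K q), ∃ c : K, valM z.1 = Matrix.scalar (Fin n) c :=
    fun z => exists_scalar_of_mem_center σ hσ hn ω (hω.ne_one hr.out.one_lt) hωq z.1 z.2
  let f : center ↥(Cfsg.GU n K q) →* K :=
    { toFun := fun z => valM z.1 ⟨0, hn⟩ ⟨0, hn⟩
      map_one' := by
        show valM (1 : ↥(Cfsg.GU n K q)) ⟨0, hn⟩ ⟨0, hn⟩ = 1
        rw [valM_one, Matrix.one_apply_eq]
      map_mul' := by
        intro z w
        obtain ⟨c, hc⟩ := hdiag z
        obtain ⟨d, hd⟩ := hdiag w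
        show valM (z.1 * w.1) ⟨0, hn⟩ ⟨0, hn⟩ = valM z.1 ⟨0, hn⟩ ⟨0, hn⟩ * valM w.1 ⟨0, hn⟩ ⟨0, hn⟩
        rw [valM_mul, hc, hd, ← map_mul]
        simp }
  have hf : Function.Injective f := by
    intro z w hzw
    obtain ⟨c, hc⟩ := hdiag z
    obtain ⟨d, hd⟩ := hdiag w
    have h1 : valM z.1 ⟨0, hn⟩ ⟨0, hn⟩ = valM w.1 ⟨0, hn⟩ ⟨0, hn⟩ := hzw
    rw [hc, hd] at h1
    simp only [Matrix.scalar_apply, Matrix.diagonal_apply_eq] at h1
    apply Subtype.ext
    apply valM_injective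
    rw [hc, hd, h1]
  haveI : IsCyclic (center ↥(Cfsg.GU n K q)) := isCyclic_of_subgroup_isDomain f hf
  have h1 := IsCyclic.index_powMonoidHom_range (center ↥(Cfsg.GU n K q)) r
  rw [Subgroup.index_eq_card] at h1
  rw [RZ, h1]
  apply Nat.gcd_eq_right
  let z0 : center ↥(Cfsg.GU n K q) := ⟨zetaGU σ hσ n hωq, zetaGU_mem_center σ hσ hωq⟩
  have hz0 : orderOf z0 = r := by
    apply orderOf_eq_prime
    · apply Subtype.ext
      rw [Subgroup.coe_pow]
      apply valM_injective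
      rw [valM_zetaGU_pow, hω.pow_eq_one, map_one, Subgroup.coe_one, valM_one]
    · intro h
      have h2 := congrArg (fun z : center ↥(Cfsg.GU n K q) => valM z.1 ⟨0, hn⟩ ⟨0, hn⟩) h
      simp only [z0, zetaGU, valM_scalGU, Matrix.scalar_apply, Matrix.diagonal_apply_eq,
        Subgroup.coe_one, valM_one, Matrix.one_apply_eq] at h2
      exact hω.ne_one hr.out.one_lt h2
  rw [← hz0]
  exact orderOf_dvd_natCard z0


/-- the data for `GU_n(q)`. -/
noncomputable def dataGU (hn : 1 ≤ n) (hr2 : r ≠ 2) (hrq : r ∣ q + 1) :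
    Data ↥(Cfsg.GU n K q) r (Tup r n) (r ∣ n) where
  ζ := zetaGU σ hσ n hωq
  hζ := zetaGU_mem_center σ hσ hωq
  hζr := by
    apply valM_injective
    rw [valM_zetaGU_pow, hω.pow_eq_one, map_one, valM_one]
  hroot := root_GU σ hσ hω hωq hn
  τ := tauGU hω
  τ_surj := tauGU_surj σ hσ hω hωq hn
  τ_conj := tauGU_conj hK hω
  τ_rot := tauGU_rot σ hσ hω hωq
  hB1 := hB1_GU hK σ hσ hω hωq hn hr2 hrq
  hB2 := hB2_GU σ hσ hω hωq hn
  hB3 := hB3_GU σ hσ hω hωq hn

include hK in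
theorem card_pgu_classes (hn : 3 ≤ n) (hr2 : r ≠ 2) (hrq : r ∣ q + 1) :
    Nat.card {C : ConjClasses (↥(Cfsg.GU n K q) ⧸ center ↥(Cfsg.GU n K q)) //
        ∃ g : ↥(Cfsg.GU n K q) ⧸ center ↥(Cfsg.GU n K q), ConjClasses.mk g = C ∧ orderOf g = r} =
      (Nat.choose (n + r - 1) (r - 1) - r - (if r ∣ n then 1 else 0)) / r +
        r * (if r ∣ n then 1 else 0) := by
  classical
  obtain ⟨σ, hσ, -⟩ := Cfsg.Agent.Helper28.exists_frob hK
  have hq1 : 1 ≤ q := by
    rcases Nat.eq_zero_or_pos q with h | h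
    · subst h
      have := Nat.le_of_dvd (by norm_num) hrq
      have := hr.out.two_le
      omega
    · exact h
  have hcard : r ∣ Fintype.card Kˣ := by
    rw [Fintype.card_units, hK]
    have e : q ^ 2 - 1 = (q + 1) * (q - 1) := by
      have := Nat.sq_sub_sq q 1
      simpa using this
    rw [e]
    exact Dvd.dvd.mul_right hrq _
  obtain ⟨ωu, hωu⟩ := exists_prime_orderOf_dvd_card r hcard
  have hω : IsPrimitiveRoot (ωu : K) r := by
    rw [IsPrimitiveRoot.coe_units_iff, ← hωu]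
    exact IsPrimitiveRoot.orderOf ωu
  have hωq : (ωu : K) ^ (q + 1) = 1 := by
    obtain ⟨k, hk⟩ := hrq
    rw [hk, pow_mul, hω.pow_eq_one, one_pow]
  have hn1 : 1 ≤ n := by omega
  have hfin : Finite ↥(Cfsg.GU n K q) := inferInstance
  rw [card_classes_main (dataGU hK σ hσ hω hωq hn1 hr2 hrq) (hidx_GU σ hσ hω hωq hn1),
    card_orbits_tup hn1]
  have hr1 : 1 ≤ r := hr.out.pos
  split_ifs
  · omega
  · omega

end Cfsg.Agent.Helper7.PGU
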