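import Mathlib
import Cfsg.Prelude.Def_Local
import Cfsg.Agent.Helper7.QConstrained

set_option autoImplicit false
set_option linter.style.haveILetI false
set_option linter.unusedSectionVars false

/-! # S1288 -/

namespace Cfsg.Agent.Helper7

open Subgroup Cfsg
open scoped commutatorElement

/-- S1288 -/
theorem le_map_pPrimeCore_of_commutator_hyperplanes {H : Type*} [Group H] [Finite H] (p : ℕ)
    [hp : Fact p.Prime] (A K : Subgroup H) (hA : IsElementaryAbelian p A)
    (hA2 : p ^ 2 ≤ Nat.card A) (hK : ¬ p ∣ Nat.card K) (hKs : Group.IsSolvable K)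
    (hAK : A ≤ normalizer (K : Set H)) (q : ℕ) [hq : Fact q.Prime] (U : Subgroup H)
    (hU : U ≤ K) (hUq : ¬ q ∣ Nat.card U)
    (hcomm : ∀ B : Subgroup H, B ≤ A → B.relIndex A = p →
      ¬ q ∣ Nat.card ↥⁅U, K ⊓ centralizer (B : Set H)⁆) :
    U ≤ (pPrimeCore q K).map K.subtype := by
  set M' := pPrimeCore q K with hM'
  set Q' := pPrimePCore q K with hQ'
  set M := M'.map K.subtype with hM
  set Q := Q'.map K.subtype with hQ
  have hMK : M ≤ K := map_subtype_le _
  have hQK : Q ≤ K := map_subtype_le _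
  have hKM : K ≤ normalizer (M : Set H) :=
    le_normalizer.trans (Cfsg.Agent.Lead.normalizer_le_normalizer_map_of_characteristic K M')
  have hKQ : K ≤ normalizer (Q : Set H) :=
    le_normalizer.trans (Cfsg.Agent.Lead.normalizer_le_normalizer_map_of_characteristic K Q')
  have hAQ : A ≤ normalizer (Q : Set H) :=
    hAK.trans (Cfsg.Agent.Lead.normalizer_le_normalizer_map_of_characteristic K Q')
  have hpQ : ¬ p ∣ Nat.card Q := fun h => hK (h.trans (card_dvd_of_le hQK))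
  have hgen := le_iSup_inf_centralizer_hyperplane p _ A Q rfl hA hpQ hAQ
  have memM : ∀ (x : H) (hx : x ∈ K), x ∈ M ↔ (⟨x, hx⟩ : K) ∈ M' := by
    intro x hx
    constructor
    · rintro ⟨y, hy, hyx⟩
      have : y = ⟨x, hx⟩ := Subtype.ext hyx
      rwa [← this]
    · intro h
      exact ⟨⟨x, hx⟩, h, rfl⟩
  have memQ : ∀ (x : H) (hx : x ∈ K), x ∈ Q ↔ (⟨x, hx⟩ : K) ∈ Q' := by
    intro x hx
    constructor
    · rintro ⟨y, hy, hyx⟩
      have : y = ⟨x, hx⟩ := Subtype.ext hyx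
      rwa [← this]
    · intro h
      exact ⟨⟨x, hx⟩, h, rfl⟩
  have F3 : ∀ R : Subgroup H, R ≤ Q → ¬ q ∣ Nat.card R → R ≤ M := by
    intro R hRQ hRq
    have h1 : R.subgroupOf K ≤ Q' := by
      intro x hx
      rw [mem_subgroupOf] at hx
      exact (memQ x.1 x.2).1 (hRQ hx)
    have h2 : ¬ q ∣ Nat.card (R.subgroupOf K) := by
      rw [Cfsg.Agent.Helper17.card_subgroupOf_of_le (hRQ.trans hQK)]
      exact hRq
    have h3 := le_pPrimeCore_of_le_pPrimePCore h1 h2
    intro r hr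
    exact (memM r (hQK (hRQ hr))).2 (h3 (mem_subgroupOf.2 hr))
  have h1A : 1 < Nat.card A := by
    have := hp.out.one_lt
    nlinarith
  obtain ⟨B₀, hB₀A, hB₀idx⟩ := exists_relIndex_eq_prime hA h1A
  have conjM : ∀ k ∈ K, ∀ m ∈ M, k * m * k⁻¹ ∈ M := fun k hk m hm =>
    forall_conj_mem_of_le_normalizer hKM k hk m hm
  have conjQ : ∀ k ∈ K, ∀ m ∈ Q, k * m * k⁻¹ ∈ Q := fun k hk m hm =>
    forall_conj_mem_of_le_normalizer hKQ k hk m hm
  have key : ∀ u ∈ U, ∀ x ∈ Q, ⁅u, x⁆ ∈ M := by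
    intro u hu
    let T : Subgroup H :=
      { carrier := {x | x ∈ K ∧ ⁅u, x⁆ ∈ M}
        one_mem' := ⟨K.one_mem, by simp [commutatorElement_def, M.one_mem]⟩
        mul_mem' := by
          rintro x y ⟨hxK, hx⟩ ⟨hyK, hy⟩
          refine ⟨K.mul_mem hxK hyK, ?_⟩
          have : ⁅u, x * y⁆ = ⁅u, x⁆ * (x * ⁅u, y⁆ * x⁻¹) := by
            simp only [commutatorElement_def]; group
          rw [this]
          exact M.mul_mem hx (conjM x hxK _ hy)
        inv_mem' := by
          rintro x ⟨hxK, hx⟩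
          refine ⟨K.inv_mem hxK, ?_⟩
          have : ⁅u, x⁻¹⁆ = x⁻¹ * (⁅u, x⁆)⁻¹ * (x⁻¹)⁻¹ := by
            simp only [commutatorElement_def]; group
          rw [this]
          exact conjM x⁻¹ (K.inv_mem hxK) _ (M.inv_mem hx) }
    have hQT : Q ≤ T := by
      refine hgen.trans (iSup_le ?_)
      rintro ⟨B, hBA, hBidx⟩
      -- a hyperplane `B' ≤ B`
      obtain ⟨B', hB'A, hB'B, hB'idx⟩ : ∃ B' : Subgroup H, B' ≤ A ∧ B' ≤ B ∧
          B'.relIndex A = p := by
        rcases relIndex_eq_one_or_prime_of_le (IsElementaryAbelian.isPGroup hA) hBidx with h | h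
        · exact ⟨B₀, hB₀A, hB₀A.trans (relIndex_eq_one.1 h), hB₀idx⟩
        · exact ⟨B, hBA, le_rfl, h⟩
      intro x hx
      have hxQ : x ∈ Q := hx.1
      have hxK : x ∈ K := hQK hxQ
      have hxB' : x ∈ centralizer (B' : Set H) := centralizer_le hB'B hx.2
      refine ⟨hxK, ?_⟩
      set R := ⁅U, K ⊓ centralizer (B' : Set H)⁆ with hR
      have hRq : ¬ q ∣ Nat.card R := hcomm B' hB'A hB'idx
      have h1 : ⁅u, x⁆ ∈ R := commutator_mem_commutator hu ⟨hxK, hxB'⟩
      have h2 : ⁅u, x⁆ ∈ Q := by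
        rw [commutatorElement_def]
        exact Q.mul_mem (conjQ u (hU hu) x hxQ) (Q.inv_mem hxQ)
      have h3 : R ⊓ Q ≤ M := by
        apply F3 _ inf_le_right
        intro hdvd
        exact hRq (hdvd.trans (card_dvd_of_le inf_le_left))
      exact h3 ⟨h1, h2⟩
    intro x hx
    exact (hQT hx).2
  have hUQ : U ≤ Q := by
    intro u hu
    rw [memQ u (hU hu)]
    haveI := hKs
    apply mem_pPrimePCore_of_forall_commutator_mem
    intro x hx
    have h1 := key u hu x.1 ((memQ x.1 x.2).2 hx)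
    exact (memM _ (K.mul_mem (K.mul_mem (K.mul_mem (hU hu) x.2) (K.inv_mem (hU hu)))
      (K.inv_mem x.2))).1 h1
  exact F3 U hUQ hUq

end Cfsg.Agent.Helper7
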