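import Mathlib
import Cfsg.Agent.S0743
import Cfsg.Agent.S4219

/-! # S0747: reduction to the semiregular case

`G ≤ Sym(α)` is `k`-transitive, `4 ≤ k < n`.  If some `(k+1)`-point stabiliser is nontrivial we choose a prime `p`
dividing its order and a `p`-subgroup `W ≤ G` of maximal order among those fixing at least `k+1` points.  Then
`N_G(W)` is `k`-transitive on `Fix(W)`: by Witt's lemma (`S4219`) if `W` is a Sylow subgroup of a `k`-point
stabiliser, and by Gleason's lemma (`S0743`) otherwise (every `k`-subset `Γ₁` of `Fix(W)` is the exact fixed point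
set of a `p`-subgroup `W₁` of `N_G(W)` with `W < W₁ ≤ G_(Γ₁)`).  Induction on the degree. -/

set_option autoImplicit false

namespace Cfsg.Agent.Helper7

open Equiv MulAction

universe u

/-- The conclusion of S0747. -/
def S0747_Concl (α : Type u) [Fintype α] [DecidableEq α] (G : Subgroup (Perm α)) (k : ℕ) : Prop :=
  ∃ Δ : Finset α, Δ.card = k + 1 ∧ ∀ σ : Perm ↥Δ, σ ∈ alternatingGroup ↥Δ →
    ∃ g ∈ G, ∀ x : ↥Δ, g (x : α) = σ x

/-- The semiregular case of S0747 (all `(k+1)`-point stabilisers trivial), as a hypothesis. -/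
def S0747_SemiHyp : Prop :=
  ∀ (β : Type u) [Fintype β] [DecidableEq β] (H : Subgroup (Perm β)) (k : ℕ), 4 ≤ k → k < Fintype.card β →
    IsMultiplyPretransitive ↥H β k →
    (∀ s : Finset β, s.card = k + 1 → ∀ g ∈ H, (∀ x ∈ s, g x = x) → g = 1) → S0747_Concl β H k

/-- fixed points of a subgroup of `Perm α`, as a finset -/
noncomputable def S0747_fixF {α : Type u} [Fintype α] (W : Subgroup (Perm α)) : Finset α := by
  classical exact Finset.univ.filter (fun a => ∀ w ∈ W, w a = a)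

theorem S0747_mem_fixF {α : Type u} [Fintype α] (W : Subgroup (Perm α)) (a : α) :
    a ∈ S0747_fixF W ↔ ∀ w ∈ W, w a = a := by
  classical
  unfold S0747_fixF
  simp only [Finset.mem_filter, Finset.mem_univ, true_and]

theorem S0747_fixF_iff {α : Type u} [Fintype α] (W : Subgroup (Perm α)) {m : Perm α}
    (hm : m ∈ Subgroup.normalizer (W : Set (Perm α))) (a : α) :
    m a ∈ S0747_fixF W ↔ a ∈ S0747_fixF W := by
  rw [S0747_mem_fixF, S0747_mem_fixF]
  rw [Subgroup.mem_normalizer_iff] at hm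
  constructor
  · intro h w hw
    have h1 := h (m * w * m⁻¹) ((hm w).mp hw)
    simp only [Perm.mul_apply] at h1
    rw [show m⁻¹ (m a) = a from m.symm_apply_apply a] at h1
    exact m.injective h1
  · intro h w hw
    have h2 : m⁻¹ * w * m ∈ W := by
      rw [hm]
      have : m * (m⁻¹ * w * m) * m⁻¹ = w := by group
      rw [this]; exact hw
    have h1 := h _ h2
    simp only [Perm.mul_apply] at h1
    have := congrArg m h1
    simpa using this

/-- restriction of the normaliser of `W` to the fixed points of `W` -/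
noncomputable def S0747_res {α : Type u} [Fintype α] (W : Subgroup (Perm α)) :
    ↥(Subgroup.normalizer (W : Set (Perm α))) →* Perm ↥(S0747_fixF W) where
  toFun m := Perm.subtypePerm (m : Perm α) (fun a => S0747_fixF_iff W m.2 a)
  map_one' := by
    ext y
    simp
  map_mul' m₁ m₂ := by
    ext y
    rfl

theorem S0747_res_apply {α : Type u} [Fintype α] (W : Subgroup (Perm α))
    (m : ↥(Subgroup.normalizer (W : Set (Perm α)))) (y : ↥(S0747_fixF W)) :
    ((S0747_res W m y : ↥(S0747_fixF W)) : α) = (m : Perm α) (y : α) := rfl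

/-- the group induced by `N_G(W)` on the fixed points of `W` -/
noncomputable def S0747_Nbar {α : Type u} [Fintype α] (G W : Subgroup (Perm α)) :
    Subgroup (Perm ↥(S0747_fixF W)) :=
  (G.subgroupOf (Subgroup.normalizer (W : Set (Perm α)))).map (S0747_res W)

theorem S0747_mem_Nbar {α : Type u} [Fintype α] (G W : Subgroup (Perm α)) (τ : Perm ↥(S0747_fixF W)) :
    τ ∈ S0747_Nbar G W ↔ ∃ g ∈ G, g ∈ Subgroup.normalizer (W : Set (Perm α)) ∧
      ∀ y : ↥(S0747_fixF W), g (y : α) = ((τ y : ↥(S0747_fixF W)) : α) := by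
  unfold S0747_Nbar
  constructor
  · rintro ⟨m, hm, rfl⟩
    exact ⟨m, Subgroup.mem_subgroupOf.mp hm, m.2, fun y => rfl⟩
  · rintro ⟨g, hgG, hgN, hg⟩
    refine ⟨⟨g, hgN⟩, ?_, ?_⟩
    · exact Subgroup.mem_subgroupOf.mpr hgG
    · ext y
      rw [S0747_res_apply]
      exact hg y

/-- lifting the conclusion from a group induced on a subset -/
theorem S0747_lift {α : Type u} [Fintype α] [DecidableEq α] (G : Subgroup (Perm α)) (k : ℕ)
    (Φ : Finset α) (N : Subgroup (Perm ↥Φ))
    (hN : ∀ τ ∈ N, ∃ g ∈ G, ∀ y : ↥Φ, g (y : α) = ((τ y : ↥Φ) : α))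
    (h : S0747_Concl ↥Φ N k) : S0747_Concl α G k := by
  classical
  obtain ⟨Δ', hcard, hΔ'⟩ := h
  refine ⟨Δ'.map (Function.Embedding.subtype _), by rw [Finset.card_map, hcard], ?_⟩
  intro σ hσ
  -- the equivalence `Δ' ≃ Δ`
  let f : ↥Δ' → ↥(Δ'.map (Function.Embedding.subtype (fun a => a ∈ Φ))) :=
    fun y => ⟨((y : ↥Φ) : α), Finset.mem_map_of_mem _ y.2⟩
  have hf : Function.Bijective f := by
    constructor
    · intro y₁ y₂ h12
      have : ((y₁ : ↥Φ) : α) = ((y₂ : ↥Φ) : α) :=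
        congrArg (fun z : ↥(Δ'.map (Function.Embedding.subtype (fun a => a ∈ Φ))) => (z : α)) h12
      exact Subtype.ext (Subtype.ext this)
    · rintro ⟨x, hx⟩
      obtain ⟨y, hy, rfl⟩ := Finset.mem_map.mp hx
      exact ⟨⟨y, hy⟩, rfl⟩
  let e : ↥Δ' ≃ ↥(Δ'.map (Function.Embedding.subtype (fun a => a ∈ Φ))) := Equiv.ofBijective f hf
  have he : ∀ y : ↥Δ', ((e y : ↥(Δ'.map (Function.Embedding.subtype (fun a => a ∈ Φ)))) : α) = ((y : ↥Φ) : α) :=
    fun y => rfl
  have hσ' : e.symm.permCongr σ ∈ alternatingGroup ↥Δ' := by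
    rw [Perm.mem_alternatingGroup, Perm.sign_permCongr]
    exact Perm.mem_alternatingGroup.mp hσ
  obtain ⟨τ, hτN, hτ⟩ := hΔ' _ hσ'
  obtain ⟨g, hgG, hg⟩ := hN τ hτN
  refine ⟨g, hgG, ?_⟩
  intro x
  obtain ⟨y, rfl⟩ := e.surjective x
  rw [he y, hg (y : ↥Φ), hτ y, permCongr_apply, Equiv.symm_symm, ← he]
  rw [Equiv.apply_symm_apply]

/-- the stabiliser of a `k`-tuple, with the instance path used by `S4219` -/
abbrev S0747_stab {α : Type u} (G : Subgroup (Perm α)) {k : ℕ} (x : Fin k ↪ α) : Subgroup ↥G :=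
  @MulAction.stabilizer ↥G (Fin k ↪ α) _ (@Function.Embedding.instMulAction ↥G (Fin k) α _ _) x

theorem S0747_mem_stab {α : Type u} (G : Subgroup (Perm α)) {k : ℕ} (x : Fin k ↪ α) (g : ↥G) :
    g ∈ S0747_stab G x ↔ ∀ i, (g : Perm α) (x i) = x i := by
  unfold S0747_stab
  rw [mem_stabilizer_iff]
  constructor
  · intro h i
    have := DFunLike.congr_fun h i
    rw [Function.Embedding.smul_apply] at this
    exact this
  · intro h
    ext i
    rw [Function.Embedding.smul_apply]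
    exact h i

/-- Witt's lemma (`S4219`) in the form we need: `W` is a maximal `p`-subgroup of the stabiliser of `x`. -/
theorem S0747_witt {α : Type u} [Fintype α] [DecidableEq α] (G : Subgroup (Perm α)) {k : ℕ}
    (hG : IsMultiplyPretransitive ↥G α k) {p : ℕ} [Fact p.Prime] (W : Subgroup (Perm α)) (hWG : W ≤ G)
    (hWp : IsPGroup p W) (x : Fin k ↪ α) (hx : ∀ i, x i ∈ S0747_fixF W)
    (hmax : ∀ Q : Subgroup (Perm α), IsPGroup p Q → Q ≤ G → (∀ q ∈ Q, ∀ i, q (x i) = x i) → W ≤ Q → Q = W)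
    (a b : Fin k ↪ α) (ha : ∀ i, a i ∈ S0747_fixF W) (hb : ∀ i, b i ∈ S0747_fixF W) :
    ∃ g ∈ G, g ∈ Subgroup.normalizer (W : Set (Perm α)) ∧ ∀ i, g (a i) = b i := by
  have hWstab : W.subgroupOf G ≤ S0747_stab G x := by
    intro g hg
    rw [S0747_mem_stab]
    intro i
    exact (S0747_mem_fixF W (x i)).mp (hx i) _ (Subgroup.mem_subgroupOf.mp hg)
  -- the Sylow subgroup
  let P : Sylow p (S0747_stab G x) :=
    { toSubgroup := (W.subgroupOf G).subgroupOf (S0747_stab G x)
      isPGroup' := (hWp.comap_subtype).comap_subtype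
      is_maximal' := by
        intro Q' hQ'p hle
        set Q : Subgroup (Perm α) := (Q'.map (S0747_stab G x).subtype).map G.subtype with hQ
        have hQW : Q = W := by
          apply hmax Q ((hQ'p.map _).map _) (Subgroup.map_subtype_le _)
          · rintro _ ⟨_, ⟨q, -, rfl⟩, rfl⟩ i
            exact (S0747_mem_stab G x q.1).mp q.2 i
          · intro w hw
            have hwG : w ∈ G := hWG hw
            have h1 : (⟨w, hwG⟩ : ↥G) ∈ W.subgroupOf G := Subgroup.mem_subgroupOf.mpr hw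
            have h2 : (⟨⟨w, hwG⟩, hWstab h1⟩ : ↥(S0747_stab G x)) ∈
                (W.subgroupOf G).subgroupOf (S0747_stab G x) := Subgroup.mem_subgroupOf.mpr h1
            exact ⟨⟨w, hwG⟩, ⟨⟨⟨w, hwG⟩, hWstab h1⟩, hle h2, rfl⟩, rfl⟩
        apply le_antisymm _ hle
        intro q hq
        rw [Subgroup.mem_subgroupOf, Subgroup.mem_subgroupOf, ← hQW]
        exact ⟨_, ⟨q, hq, rfl⟩, rfl⟩ }
  have hP : (P : Subgroup (S0747_stab G x)).map (S0747_stab G x).subtype = W.subgroupOf G := by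
    show ((W.subgroupOf G).subgroupOf (S0747_stab G x)).map (S0747_stab G x).subtype = W.subgroupOf G
    rw [Subgroup.map_subgroupOf_eq_of_le hWstab]
  have hfix : ∀ c : Fin k ↪ α, (∀ i, c i ∈ S0747_fixF W) → ∀ i,
      c i ∈ fixedPoints ((P : Subgroup (S0747_stab G x)).map (S0747_stab G x).subtype) α := by
    intro c hc i q
    obtain ⟨q, hq⟩ := q
    rw [hP] at hq
    exact (S0747_mem_fixF W (c i)).mp (hc i) _ (Subgroup.mem_subgroupOf.mp hq)
  obtain ⟨g, hgN, hgab⟩ := Cfsg.Agent.S4219.result hG x P a b (hfix a ha) (hfix b hb)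
  have hgN' : g ∈ Subgroup.normalizer ((W.subgroupOf G : Subgroup ↥G) : Set ↥G) := by
    rw [← hP]; exact hgN
  refine ⟨(g : Perm α), g.2, ?_, ?_⟩
  · rw [Subgroup.mem_normalizer_iff] at hgN' ⊢
    intro w
    constructor
    · intro hw
      have h1 := (hgN' ⟨w, hWG hw⟩).mp (Subgroup.mem_subgroupOf.mpr hw)
      exact Subgroup.mem_subgroupOf.mp h1
    · intro hw
      have hwG : w ∈ G := by
        have h2 : (g : Perm α)⁻¹ * ((g : Perm α) * w * (g : Perm α)⁻¹) * (g : Perm α) ∈ G :=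
          G.mul_mem (G.mul_mem (G.inv_mem g.2) (hWG hw)) g.2
        have h3 : (g : Perm α)⁻¹ * ((g : Perm α) * w * (g : Perm α)⁻¹) * (g : Perm α) = w := by group
        rwa [h3] at h2
      have h1 := (hgN' ⟨w, hwG⟩).mpr (Subgroup.mem_subgroupOf.mpr hw)
      exact Subgroup.mem_subgroupOf.mp h1
  · intro i
    have := DFunLike.congr_fun hgab i
    rw [Function.Embedding.smul_apply] at this
    exact this

/-- If `W` is properly contained in a `p`-subgroup `Q`, it is properly contained in a subgroup of `Q`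
normalising `W`. -/
theorem S0747_grow {α : Type u} [Fintype α] [DecidableEq α]
    {p : ℕ} [Fact p.Prime] (W Q : Subgroup (Perm α)) (hWQ : W ≤ Q) (hne : Q ≠ W) (hQp : IsPGroup p Q) :
    ∃ W₁ : Subgroup (Perm α), W ≤ W₁ ∧ W₁ ≠ W ∧ W₁ ≤ Q ∧ W₁ ≤ Subgroup.normalizer (W : Set (Perm α)) := by
  classical
  have : Group.IsNilpotent ↥Q := hQp.isNilpotent
  have hlt : W.subgroupOf Q < ⊤ := by
    rw [lt_top_iff_ne_top, Ne, Subgroup.subgroupOf_eq_top]
    intro h
    exact hne (le_antisymm h hWQ)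
  have hnc := Group.normalizerCondition_of_isNilpotent (G := ↥Q) _ hlt
  obtain ⟨n, hnN, hnW⟩ := SetLike.exists_of_lt hnc
  have hnW' : (n : Perm α) ∉ W := fun h => hnW (Subgroup.mem_subgroupOf.mpr h)
  have hnNW : (n : Perm α) ∈ Subgroup.normalizer (W : Set (Perm α)) := by
    rw [Subgroup.mem_normalizer_iff] at hnN ⊢
    intro w
    constructor
    · intro hw
      have h1 := (hnN ⟨w, hWQ hw⟩).mp (Subgroup.mem_subgroupOf.mpr hw)
      exact Subgroup.mem_subgroupOf.mp h1
    · intro hw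
      have hwP : w ∈ Q := by
        have h2 : (n : Perm α)⁻¹ * ((n : Perm α) * w * (n : Perm α)⁻¹) * (n : Perm α) ∈ Q :=
          Q.mul_mem (Q.mul_mem (Q.inv_mem n.2) (hWQ hw)) n.2
        have h3 : (n : Perm α)⁻¹ * ((n : Perm α) * w * (n : Perm α)⁻¹) * (n : Perm α) = w := by group
        rwa [h3] at h2
      have h1 := (hnN ⟨w, hwP⟩).mpr (Subgroup.mem_subgroupOf.mpr hw)
      exact Subgroup.mem_subgroupOf.mp h1
  refine ⟨Subgroup.normalizer (W : Set (Perm α)) ⊓ Q, le_inf Subgroup.le_normalizer hWQ, ?_,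
    inf_le_right, inf_le_left⟩
  intro h
  apply hnW'
  rw [← h]
  exact ⟨hnNW, n.2⟩

theorem S0747_red_aux (hS : S0747_SemiHyp.{u}) : ∀ n : ℕ, ∀ (α : Type u) [Fintype α] [DecidableEq α]
    (G : Subgroup (Perm α)) (k : ℕ), Fintype.card α = n → 4 ≤ k → k < n →
    IsMultiplyPretransitive ↥G α k → S0747_Concl α G k := by
  intro n
  induction n using Nat.strong_induction_on with
  | _ n ih =>
  intro α _ _ G k hn hk hkn hG
  classical
  by_cases htriv : ∀ s : Finset α, s.card = k + 1 → ∀ g ∈ G, (∀ x ∈ s, g x = x) → g = 1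
  · exact hS α G k hk (hn ▸ hkn) hG htriv
  -- a nontrivial `(k+1)`-point stabiliser
  have hex : ∃ s : Finset α, s.card = k + 1 ∧ ∃ g ∈ G, (∀ x ∈ s, g x = x) ∧ g ≠ 1 := by
    by_contra hcon
    apply htriv
    intro s hs g hg hfix
    by_contra hne
    exact hcon ⟨s, hs, g, hg, hfix, hne⟩
  obtain ⟨s, hs, g0, hg0G, hg0fix, hg0ne⟩ := hex
  -- a prime `p` and an element of order `p`
  have hord : orderOf g0 ≠ 1 := by rwa [Ne, orderOf_eq_one_iff]
  obtain ⟨p, hp, hpd⟩ := Nat.exists_prime_and_dvd hord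
  have : Fact p.Prime := ⟨hp⟩
  have hx0ord : orderOf (g0 ^ (orderOf g0 / p)) = p :=
    orderOf_pow_orderOf_div (orderOf_pos g0).ne' hpd
  have hW0card : Nat.card (Subgroup.zpowers (g0 ^ (orderOf g0 / p))) = p := by
    rw [Nat.card_zpowers, hx0ord]
  have hW0p : IsPGroup p (Subgroup.zpowers (g0 ^ (orderOf g0 / p))) :=
    IsPGroup.of_card (n := 1) (by rw [hW0card, pow_one])
  have hW0G : Subgroup.zpowers (g0 ^ (orderOf g0 / p)) ≤ G :=
    Subgroup.zpowers_le.mpr (G.pow_mem hg0G _)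
  have hW0fix : s ⊆ S0747_fixF (Subgroup.zpowers (g0 ^ (orderOf g0 / p))) := by
    intro a ha
    rw [S0747_mem_fixF]
    intro w hw
    have hle : Subgroup.zpowers (g0 ^ (orderOf g0 / p)) ≤ stabilizer (Perm α) a := by
      rw [Subgroup.zpowers_le]
      exact (stabilizer (Perm α) a).pow_mem (mem_stabilizer_iff.mpr (hg0fix a ha)) _
    exact mem_stabilizer_iff.mp (hle hw)
  -- a `p`-subgroup of maximal order fixing at least `k+1` points
  have h𝒮fin : ({W | W ≤ G ∧ IsPGroup p W ∧ k + 1 ≤ (S0747_fixF W).card} :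
      Set (Subgroup (Perm α))).Finite := Set.toFinite _
  have h𝒮ne : ({W | W ≤ G ∧ IsPGroup p W ∧ k + 1 ≤ (S0747_fixF W).card} :
      Set (Subgroup (Perm α))).Nonempty :=
    ⟨_, hW0G, hW0p, by rw [← hs]; exact Finset.card_le_card hW0fix⟩
  obtain ⟨W, ⟨hWG, hWp, hWfix⟩, hWmax⟩ :=
    Set.exists_max_image _ (fun W : Subgroup (Perm α) => Nat.card W) h𝒮fin h𝒮ne
  have hWmax' : ∀ W' : Subgroup (Perm α), W' ≤ G → IsPGroup p W' → k + 1 ≤ (S0747_fixF W').card →
      Nat.card W' ≤ Nat.card W := fun W' h1 h2 h3 => hWmax W' ⟨h1, h2, h3⟩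
  have hWcard : p ≤ Nat.card W := by
    have := hWmax' _ hW0G hW0p (by rw [← hs]; exact Finset.card_le_card hW0fix)
    rwa [hW0card] at this
  have hWbot : W ≠ ⊥ := by
    intro h
    rw [h, Subgroup.card_bot] at hWcard
    exact absurd hWcard (by have := hp.two_le; omega)
  have hΦlt : (S0747_fixF W).card < n := by
    obtain ⟨w, hw1⟩ := (Subgroup.ne_bot_iff_exists_ne_one).mp hWbot
    have hw1' : (w : Perm α) ≠ 1 := fun h => hw1 (Subtype.ext h)
    have : ∃ a, (w : Perm α) a ≠ a := by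
      by_contra hcon
      apply hw1'
      ext a
      by_contra h
      exact hcon ⟨a, h⟩
    obtain ⟨a, ha⟩ := this
    have : a ∉ S0747_fixF W := by
      rw [S0747_mem_fixF]
      intro h
      exact ha (h _ w.2)
    rw [← hn]
    exact Finset.card_lt_univ_of_notMem this
  -- `N_G(W)` is `k`-transitive on the fixed points of `W`
  have hNtrans : IsMultiplyPretransitive ↥(S0747_Nbar G W) ↥(S0747_fixF W) k := by
    by_cases hB1 : ∃ x : Fin k ↪ α, (∀ i, x i ∈ S0747_fixF W) ∧ ∀ Q : Subgroup (Perm α), IsPGroup p Q →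
        Q ≤ G → (∀ q ∈ Q, ∀ i, q (x i) = x i) → W ≤ Q → Q = W
    · obtain ⟨x, hx, hmax⟩ := hB1
      rw [isMultiplyPretransitive_iff]
      intro a b
      obtain ⟨g, hgG, hgN, hgab⟩ := S0747_witt G hG W hWG hWp x hx hmax
        (a.trans (Function.Embedding.subtype _)) (b.trans (Function.Embedding.subtype _))
        (fun i => (a i).2) (fun i => (b i).2)
      refine ⟨⟨S0747_res W ⟨g, hgN⟩, (S0747_mem_Nbar G W _).mpr ⟨g, hgG, hgN, fun y => rfl⟩⟩, ?_⟩
      apply Function.Embedding.ext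
      intro i
      apply Subtype.ext
      exact hgab i
    · -- Gleason's lemma
      apply Cfsg.Agent.S0743.result (S0747_Nbar G W) hp (by omega) (by rw [Fintype.card_coe]; omega)
      intro t ht
      let e := t.equivFinOfCardEq ht
      let x : Fin k ↪ α := ⟨fun i => (((e.symm i : ↥t) : ↥(S0747_fixF W)) : α), by
        intro i j hij
        have : (e.symm i : ↥t) = e.symm j := Subtype.ext (Subtype.ext hij)
        exact e.symm.injective this⟩
      have hxΦ : ∀ i, x i ∈ S0747_fixF W := fun i => ((e.symm i : ↥t) : ↥(S0747_fixF W)).2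
      have hxt : ∀ y : ↥(S0747_fixF W), y ∈ t ↔ ∃ i, x i = (y : α) := by
        intro y
        constructor
        · intro hy
          refine ⟨e ⟨y, hy⟩, ?_⟩
          show (((e.symm (e ⟨y, hy⟩) : ↥t) : ↥(S0747_fixF W)) : α) = (y : α)
          rw [Equiv.symm_apply_apply]
        · rintro ⟨i, hi⟩
          have : ((e.symm i : ↥t) : ↥(S0747_fixF W)) = y := Subtype.ext hi
          rw [← this]
          exact (e.symm i).2
      have hQ : ∃ Q : Subgroup (Perm α), IsPGroup p Q ∧ Q ≤ G ∧ (∀ q ∈ Q, ∀ i, q (x i) = x i) ∧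
          W ≤ Q ∧ Q ≠ W := by
        by_contra hcon
        apply hB1
        refine ⟨x, hxΦ, ?_⟩
        intro Q h1 h2 h3 h4
        by_contra h5
        exact hcon ⟨Q, h1, h2, h3, h4, h5⟩
      obtain ⟨Q, hQp, hQG, hQfix, hWQ, hQne⟩ := hQ
      obtain ⟨W₁, hWW₁, hW₁ne, hW₁Q, hW₁N⟩ := S0747_grow W Q hWQ hQne hQp
      have hW₁p : IsPGroup p W₁ := hQp.to_le hW₁Q
      have hW₁G : W₁ ≤ G := hW₁Q.trans hQG
      have hW₁fix : ∀ w ∈ W₁, ∀ i, w (x i) = x i := fun w hw i => hQfix w (hW₁Q hw) i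
      have hcardlt : Nat.card W < Nat.card W₁ := by
        by_contra hcon
        exact hW₁ne (Subgroup.eq_of_le_of_card_ge hWW₁ (not_lt.mp hcon)).symm
      have hfixcard : (S0747_fixF W₁).card ≤ k := by
        by_contra hcon
        have := hWmax' W₁ hW₁G hW₁p (by omega)
        omega
      have himg : Finset.univ.image x = S0747_fixF W₁ := by
        apply Finset.eq_of_subset_of_card_le
        · intro a ha
          obtain ⟨i, -, rfl⟩ := Finset.mem_image.mp ha
          rw [S0747_mem_fixF]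
          exact fun w hw => hW₁fix w hw i
        · rw [Finset.card_image_of_injective _ x.injective, Finset.card_univ, Fintype.card_fin]
          exact hfixcard
      refine ⟨(((W₁.subgroupOf (Subgroup.normalizer (W : Set (Perm α)))).map (S0747_res W)).subgroupOf
        (S0747_Nbar G W)), ((hW₁p.comap_subtype).map _).comap_subtype, ?_⟩
      ext y
      rw [mem_fixedPoints, Finset.mem_coe, hxt y]
      constructor
      · intro h
        have hy : (y : α) ∈ S0747_fixF W₁ := by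
          rw [S0747_mem_fixF]
          intro w hw
          have hτN : S0747_res W ⟨w, hW₁N hw⟩ ∈ S0747_Nbar G W :=
            (S0747_mem_Nbar G W _).mpr ⟨w, hW₁G hw, hW₁N hw, fun _ => rfl⟩
          have hτR : (⟨_, hτN⟩ : ↥(S0747_Nbar G W)) ∈
              ((W₁.subgroupOf (Subgroup.normalizer (W : Set (Perm α)))).map (S0747_res W)).subgroupOf
                (S0747_Nbar G W) :=
            Subgroup.mem_subgroupOf.mpr ⟨⟨w, hW₁N hw⟩, Subgroup.mem_subgroupOf.mpr hw, rfl⟩
          have h1 := h ⟨_, hτR⟩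
          exact congrArg Subtype.val h1
        rw [← himg] at hy
        obtain ⟨i, -, hi⟩ := Finset.mem_image.mp hy
        exact ⟨i, hi⟩
      · rintro ⟨i, hi⟩ ⟨⟨τ, hτN⟩, hτR⟩
        obtain ⟨m, hm, hmτ⟩ := Subgroup.mem_subgroupOf.mp hτR
        apply Subtype.ext
        show ((τ y : ↥(S0747_fixF W)) : α) = (y : α)
        have hmτ' : S0747_res W m = τ := hmτ
        rw [← hmτ', S0747_res_apply, ← hi]
        exact hW₁fix _ (Subgroup.mem_subgroupOf.mp hm) i
  have hcon := ih (S0747_fixF W).card hΦlt ↥(S0747_fixF W) (S0747_Nbar G W) k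
    (Fintype.card_coe _) hk (by omega) hNtrans
  exact S0747_lift G k (S0747_fixF W) _
    (fun τ hτ => by
      obtain ⟨g, hgG, -, hg⟩ := (S0747_mem_Nbar G W τ).mp hτ
      exact ⟨g, hgG, hg⟩) hcon

/-- **S0747 reduced to its semiregular case.** -/
theorem S0747_red (hS : S0747_SemiHyp.{u}) {α : Type u} [Fintype α] [DecidableEq α]
    (G : Subgroup (Perm α)) {k : ℕ} (hk : 4 ≤ k) (hkn : k < Fintype.card α)
    (hG : IsMultiplyPretransitive ↥G α k) :
    ∃ Δ : Finset α, Δ.card = k + 1 ∧ ∀ σ : Perm ↥Δ, σ ∈ alternatingGroup ↥Δ →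
      ∃ g ∈ G, ∀ x : ↥Δ, g (x : α) = σ x :=
  S0747_red_aux hS _ α G k rfl hk hkn hG

end Cfsg.Agent.Helper7
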