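import Mathlib

/-!
# S1957, part A: an odd-order group stabilising the chain `Q > ⟨ū⟩ > 1` centralises `Q`

Abstract lemma: `Q ⊴ H` a 2-group with `C_H(Q) ≤ Q`, `ū` a central element with `ū² = 1`, `w ∈ H` acting on
`Q` trivially modulo `⟨ū⟩`, `D` an odd-order subgroup normalised by `w`.  Then `w` centralises `D`.
-/

set_option autoImplicit false

namespace Cfsg.Agent.Helper7.S1957

/-- The elements acting on `Q` trivially modulo the central involution `ū` form a normal subgroup. -/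
def stab {H : Type*} [Group H] (Q : Subgroup H) [Q.Normal] (ū : H) (hūc : ∀ h : H, h * ū = ū * h)
    (hū2 : ū * ū = 1) : Subgroup H where
  carrier := {g | ∀ q ∈ Q, g * q * g⁻¹ = q ∨ g * q * g⁻¹ = q * ū}
  one_mem' := by
    intro q _
    left
    simp
  mul_mem' := by
    intro a b ha hb q hq
    have e : a * b * q * (a * b)⁻¹ = a * (b * q * b⁻¹) * a⁻¹ := by group
    rw [e]
    rcases hb q hq with h | h
    · rw [h]
      exact ha q hq
    · rw [h]
      have e2 : a * (q * ū) * a⁻¹ = a * q * a⁻¹ * ū := by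
        calc a * (q * ū) * a⁻¹ = a * q * (ū * a⁻¹) := by group
          _ = a * q * (a⁻¹ * ū) := by rw [hūc a⁻¹]
          _ = a * q * a⁻¹ * ū := by group
      rw [e2]
      rcases ha q hq with h' | h'
      · right
        rw [h']
      · left
        rw [h', mul_assoc, hū2, mul_one]
  inv_mem' := by
    intro a ha q hq
    have hq' : a⁻¹ * q * a⁻¹⁻¹ ∈ Q := ‹Q.Normal›.conj_mem q hq a⁻¹
    have e : a * (a⁻¹ * q * a⁻¹⁻¹) * a⁻¹ = q := by group
    rcases ha _ hq' with h | h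
    · left
      rw [e] at h
      exact h.symm
    · right
      rw [e] at h
      -- q = (a⁻¹ q a) ū
      calc a⁻¹ * q * a⁻¹⁻¹ = a⁻¹ * q * a⁻¹⁻¹ * (ū * ū) := by rw [hū2, mul_one]
        _ = (a⁻¹ * q * a⁻¹⁻¹ * ū) * ū := by group
        _ = q * ū := by rw [← h]

theorem mem_stab {H : Type*} [Group H] (Q : Subgroup H) [Q.Normal] (ū : H)
    (hūc : ∀ h : H, h * ū = ū * h) (hū2 : ū * ū = 1) (g : H) :
    g ∈ stab Q ū hūc hū2 ↔ ∀ q ∈ Q, g * q * g⁻¹ = q ∨ g * q * g⁻¹ = q * ū := Iff.rfl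

theorem conj_mem_stab {H : Type*} [Group H] (Q : Subgroup H) [Q.Normal] (ū : H)
    (hūc : ∀ h : H, h * ū = ū * h) (hū2 : ū * ū = 1) {g : H} (hg : g ∈ stab Q ū hūc hū2) (h : H) :
    h * g * h⁻¹ ∈ stab Q ū hūc hū2 := by
  intro q hq
  have hq' : h⁻¹ * q * h⁻¹⁻¹ ∈ Q := ‹Q.Normal›.conj_mem q hq h⁻¹
  have e : h * g * h⁻¹ * q * (h * g * h⁻¹)⁻¹ = h * (g * (h⁻¹ * q * h⁻¹⁻¹) * g⁻¹) * h⁻¹ := by group
  rw [e]
  rcases hg _ hq' with h1 | h1
  · left
    rw [h1]
    group
  · right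
    rw [h1]
    calc h * (h⁻¹ * q * h⁻¹⁻¹ * ū) * h⁻¹ = q * (h * ū) * h⁻¹ := by group
      _ = q * (ū * h) * h⁻¹ := by rw [hūc h]
      _ = q * ū := by group

/-- Part A of S1957. -/
theorem odd_centralizes {H : Type*} [Group H] [Finite H] (Q : Subgroup H) [Q.Normal]
    (hQ2 : IsPGroup 2 Q) (hC : Subgroup.centralizer (Q : Set H) ≤ Q) (ū : H)
    (hūc : ∀ h : H, h * ū = ū * h) (hū2 : ū * ū = 1)
    (w : H) (hw : ∀ q ∈ Q, w * q * w⁻¹ = q ∨ w * q * w⁻¹ = q * ū)
    (D : Subgroup H) (hD : Odd (Nat.card D)) (hwD : ∀ d ∈ D, w * d * w⁻¹ ∈ D) (d : H) (hd : d ∈ D) :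
    w * d = d * w := by
  classical
  set S := stab Q ū hūc hū2 with hS
  have hwS : w ∈ S := hw
  set c : H := w * d * w⁻¹ * d⁻¹ with hc
  have hcD : c ∈ D := D.mul_mem (hwD d hd) (D.inv_mem hd)
  have hcS : c ∈ S := by
    have h1 : d * w⁻¹ * d⁻¹ ∈ S := conj_mem_stab Q ū hūc hū2 (S.inv_mem hwS) d
    have e : c = w * (d * w⁻¹ * d⁻¹) := by rw [hc]; group
    rw [e]
    exact S.mul_mem hwS h1
  -- `c` has odd order
  have hodd : Odd (orderOf c) := by
    have hdvd : orderOf c ∣ Nat.card D := by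
      have := orderOf_dvd_natCard (⟨c, hcD⟩ : D)
      rwa [Subgroup.orderOf_mk] at this
    exact hD.of_dvd_nat hdvd
  -- `c ^ 2` centralises `Q`
  have hc2 : ∀ q ∈ Q, Commute (c ^ 2) q := by
    intro q hq
    have e : c ^ 2 * q * (c ^ 2)⁻¹ = c * (c * q * c⁻¹) * c⁻¹ := by
      rw [pow_two, mul_inv_rev]
      simp only [mul_assoc]
    have hconj : c ^ 2 * q * (c ^ 2)⁻¹ = q := by
      rw [e]
      rcases hcS q hq with h | h
      · rw [h]
        rcases hcS q hq with h' | h'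
        · exact h'
        · rw [h] at h'
          exact h
      · rw [h]
        have e2 : c * (q * ū) * c⁻¹ = c * q * c⁻¹ * ū := by
          calc c * (q * ū) * c⁻¹ = c * q * (ū * c⁻¹) := by group
            _ = c * q * (c⁻¹ * ū) := by rw [hūc c⁻¹]
            _ = c * q * c⁻¹ * ū := by group
        rw [e2, h, mul_assoc, hū2, mul_one]
    show c ^ 2 * q = q * c ^ 2
    calc c ^ 2 * q = (c ^ 2 * q * (c ^ 2)⁻¹) * c ^ 2 := by group
      _ = q * c ^ 2 := by rw [hconj]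
  -- `c` is a power of `c ^ 2`
  obtain ⟨m, hm⟩ := hodd
  have hcpow : c = (c ^ 2) ^ (m + 1) := by
    rw [← pow_mul]
    have : 2 * (m + 1) = orderOf c + 1 := by omega
    rw [this, pow_succ, pow_orderOf_eq_one, one_mul]
  have hccent : c ∈ Subgroup.centralizer (Q : Set H) := by
    rw [Subgroup.mem_centralizer_iff]
    intro q hq
    have := ((hc2 q hq).pow_left (m + 1))
    rw [← hcpow] at this
    exact this.eq.symm
  have hcQ : c ∈ Q := hC hccent
  -- `c` is a 2-element of odd order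
  obtain ⟨k, hk⟩ := hQ2 ⟨c, hcQ⟩
  have hk' : c ^ 2 ^ k = 1 := by
    have := congrArg Subtype.val hk
    simpa using this
  have hdvd2 : orderOf c ∣ 2 ^ k := orderOf_dvd_of_pow_eq_one hk'
  have hone : orderOf c = 1 := by
    have hcop : Nat.Coprime (orderOf c) (2 ^ k) := by
      apply Nat.Coprime.pow_right
      rw [Nat.coprime_two_right]
      exact ⟨m, hm⟩
    exact Nat.Coprime.eq_one_of_dvd hcop hdvd2
  have hc1 : c = 1 := orderOf_eq_one_iff.mp hone
  calc w * d = (w * d * w⁻¹ * d⁻¹) * (d * w) := by group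
    _ = d * w := by rw [← hc, hc1, one_mul]

end Cfsg.Agent.Helper7.S1957
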