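import Mathlib

/-!
# S1957, part B: elementary lemmas on Klein four-subgroups, cyclic centres, and `Ω₁(Z(P₀)) = U`
-/

set_option autoImplicit false

namespace Cfsg.Agent.Helper7.S1957

open Subgroup

section Klein

variable {G : Type*} [Group G] {U : Subgroup G}

theorem klein_sq (hU4 : IsKleinFour ↥U) {a : G} (ha : a ∈ U) : a * a = 1 := by
  have := @IsKleinFour.mul_self ↥U _ hU4 ⟨a, ha⟩
  exact congrArg Subtype.val this

theorem klein_inv (hU4 : IsKleinFour ↥U) {a : G} (ha : a ∈ U) : a⁻¹ = a :=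
  inv_eq_of_mul_eq_one_left (klein_sq hU4 ha)

theorem klein_comm (hU4 : IsKleinFour ↥U) {a b : G} (ha : a ∈ U) (hb : b ∈ U) : a * b = b * a := by
  have h := @IsKleinFour.isMulCommutative ↥U _ hU4
  have := h.is_comm.comm ⟨a, ha⟩ ⟨b, hb⟩
  exact congrArg Subtype.val this

theorem klein_cases (hU4 : IsKleinFour ↥U) {a b c : G} (ha : a ∈ U) (hb : b ∈ U) (hc : c ∈ U)
    (ha1 : a ≠ 1) (hb1 : b ≠ 1) (hab : a ≠ b) : c = 1 ∨ c = a ∨ c = b ∨ c = a * b := by
  by_contra hcon
  push Not at hcon
  obtain ⟨h1, h2, h3, h4⟩ := hcon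
  have key := @IsKleinFour.eq_mul_of_ne_all ↥U _ hU4 ⟨a, ha⟩ ⟨b, hb⟩ ⟨c, hc⟩
    (fun h => ha1 (congrArg Subtype.val h)) (fun h => hb1 (congrArg Subtype.val h))
    (fun h => hab (congrArg Subtype.val h)) (fun h => h1 (congrArg Subtype.val h))
    (fun h => h2 (congrArg Subtype.val h)) (fun h => h3 (congrArg Subtype.val h))
  exact h4 (congrArg Subtype.val key)

/-- An element `r` centralising `u ∈ U`, `u ≠ 1`, and normalising the four-group `U`, has all its commutators
with `U` in `{1, u}`. -/
theorem comm_of_normalizes (hU4 : IsKleinFour ↥U) {u r : G} (huU : u ∈ U) (hu1 : u ≠ 1)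
    (hru : r * u = u * r) (hrU : ∀ w ∈ U, r * w * r⁻¹ ∈ U) {w : G} (hw : w ∈ U) :
    w * r * w⁻¹ = r ∨ w * r * w⁻¹ = r * u := by
  by_cases hw1 : w = 1
  · left
    rw [hw1]
    group
  by_cases hwu : w = u
  · left
    rw [hwu]
    calc u * r * u⁻¹ = (r * u) * u⁻¹ := by rw [hru]
      _ = r := by group
  have hw'U : r * w * r⁻¹ ∈ U := hrU w hw
  have hw'1 : r * w * r⁻¹ ≠ 1 := by
    intro h
    apply hw1
    calc w = r⁻¹ * (r * w * r⁻¹) * r := by group
      _ = 1 := by rw [h]; group
  have hw'u : r * w * r⁻¹ ≠ u := by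
    intro h
    apply hwu
    calc w = r⁻¹ * (r * w * r⁻¹) * r := by group
      _ = r⁻¹ * (u * r) := by rw [h]; group
      _ = r⁻¹ * (r * u) := by rw [hru]
      _ = u := by group
  have hwinv : w⁻¹ = w := klein_inv hU4 hw
  have huinv : u⁻¹ = u := klein_inv hU4 huU
  rcases klein_cases hU4 huU hw hw'U hu1 hw1 (Ne.symm hwu) with h | h | h | h
  · exact absurd h hw'1
  · exact absurd h hw'u
  · left
    -- r w r⁻¹ = w
    have h2 : r * w = w * r := by
      calc r * w = (r * w * r⁻¹) * r := by group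
        _ = w * r := by rw [h]
    calc w * r * w⁻¹ = (r * w) * w⁻¹ := by rw [h2]
      _ = r := by group
  · right
    -- r w r⁻¹ = u w
    have h2 : r * w = u * w * r := by
      calc r * w = (r * w * r⁻¹) * r := by group
        _ = u * w * r := by rw [h]
    have h3 : w * r = u * (r * w) := by
      calc w * r = u⁻¹ * (u * w * r) := by group
        _ = u⁻¹ * (r * w) := by rw [h2]
        _ = u * (r * w) := by rw [huinv]
    calc w * r * w⁻¹ = u * (r * w) * w⁻¹ := by rw [h3]
      _ = u * r := by group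
      _ = r * u := hru.symm

end Klein

/-- In a finite cyclic group there is at most one involution. -/
theorem cyclic_invol {C : Type*} [Group C] [Finite C] [IsCyclic C] {a b : C} (ha : a ^ 2 = 1)
    (hb : b ^ 2 = 1) (hb1 : b ≠ 1) : a = 1 ∨ a = b := by
  classical
  haveI := Fintype.ofFinite C
  by_contra hcon
  push Not at hcon
  obtain ⟨ha1, hab⟩ := hcon
  have hle := IsCyclic.card_pow_eq_one_le (α := C) (n := 2) (by norm_num)
  have hsub : ({1, b, a} : Finset C) ⊆ Finset.univ.filter (fun x : C => x ^ 2 = 1) := by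
    intro x hx
    simp only [Finset.mem_insert, Finset.mem_singleton] at hx
    simp only [Finset.mem_filter, Finset.mem_univ, true_and]
    rcases hx with rfl | rfl | rfl
    · simp
    · exact hb
    · exact ha
  have hcard : ({1, b, a} : Finset C).card = 3 := by
    rw [Finset.card_insert_of_notMem, Finset.card_insert_of_notMem, Finset.card_singleton]
    · simpa using Ne.symm hab
    · simp only [Finset.mem_insert, Finset.mem_singleton, not_or]
      exact ⟨Ne.symm hb1, Ne.symm ha1⟩
  have := Finset.card_le_card hsub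
  omega

end Cfsg.Agent.Helper7.S1957
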