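import Mathlib
import Cfsg.Agent.Helper7.S1957B
import Cfsg.Agent.Helper10.PGroupBasic

/-!
# S1957, part C: `Ω₁(Z(C_P(u))) = U` when `u ∈ U` is not central in `P`

Setting: `P` a finite 2-subgroup, `U ≤ P` a four-group normalised by `P`, `Z(P)` cyclic, `u ∈ U` and
`x ∈ P` with `x u ≠ u x`.  Then every involution of `P` that centralises `C_P(u)` lies in `U`.
-/

set_option autoImplicit false

namespace Cfsg.Agent.Helper7.S1957

open Subgroup

variable {G : Type*} [Group G]

/-- A four-group normalised by the finite 2-group `P ≥ U` contains a non-trivial element central in `P`. -/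
theorem exists_central_invol [Finite G] {P U : Subgroup G} (hP2 : IsPGroup 2 ↥P) (hUP : U ≤ P)
    (hUn : P ≤ normalizer (U : Set G)) (hU4 : IsKleinFour ↥U) :
    ∃ z ∈ U, z ≠ 1 ∧ ∀ p ∈ P, Commute p z := by
  have : (U.subgroupOf P).Normal := (normal_subgroupOf_iff_le_normalizer hUP).2 hUn
  have hne : U.subgroupOf P ≠ ⊥ := by
    intro h
    have h1 : Nat.card ↥(U.subgroupOf P) = 1 := by rw [h]; exact Subgroup.card_bot
    have h2 : Nat.card ↥(U.subgroupOf P) = Nat.card ↥U :=
      Nat.card_congr (subgroupOfEquivOfLe hUP).toEquiv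
    have h4 : Nat.card ↥U = 4 := hU4.card_four
    omega
  obtain ⟨z, hzU, hz1, hzc⟩ := Cfsg.Agent.Helper10.exists_ne_one_mem_inf_center hP2 (U.subgroupOf P) hne
  refine ⟨(z : G), mem_subgroupOf.1 hzU, fun h => hz1 (Subtype.ext h), ?_⟩
  intro p hp
  have := (mem_center_iff.1 hzc) ⟨p, hp⟩
  have h2 : p * (z : G) = (z : G) * p := congrArg Subtype.val this
  exact h2

/-- `P` permutes `{u, z₀ u}`. -/
theorem conj_u_cases {P U : Subgroup G} (hUn : P ≤ normalizer (U : Set G)) (hU4 : IsKleinFour ↥U)
    {z u : G} (hzU : z ∈ U) (hz1 : z ≠ 1) (hzc : ∀ p ∈ P, Commute p z) (huU : u ∈ U) (hu1 : u ≠ 1)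
    (huz : u ≠ z) {p : G} (hp : p ∈ P) : SemiconjBy p u u ∨ SemiconjBy p u (z * u) := by
  have hmem : p * u * p⁻¹ ∈ U := (mem_normalizer_iff.1 (hUn hp) u).1 huU
  have hsc : SemiconjBy p u (p * u * p⁻¹) := SemiconjBy.conj_mk p u
  rcases klein_cases hU4 hzU huU hmem hz1 hu1 (Ne.symm huz) with h | h | h | h
  · exfalso
    apply hu1
    calc u = p⁻¹ * (p * u * p⁻¹) * p := by group
      _ = 1 := by rw [h]; group
  · exfalso
    apply huz
    rw [h] at hsc
    -- p u = z p = p z
    have h1 : p * u = z * p := hsc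
    have h2 : p * z = z * p := hzc p hp
    exact mul_left_cancel (h1.trans h2.symm)
  · left
    rw [h] at hsc
    exact hsc
  · right
    rw [h] at hsc
    exact hsc


/-- An element commuting with `x` and with `C_P(u)` is central in `P` (where `x ∈ P` moves `u`). -/
theorem central_of {P U : Subgroup G} (hUn : P ≤ normalizer (U : Set G)) (hU4 : IsKleinFour ↥U)
    {z u x : G} (hzU : z ∈ U) (hz1 : z ≠ 1) (hzc : ∀ p ∈ P, Commute p z) (huU : u ∈ U) (hu1 : u ≠ 1)
    (huz : u ≠ z) (hxP : x ∈ P) (hxu : SemiconjBy x u (z * u)) {y : G} (hxy : Commute x y)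
    (hy : ∀ p ∈ P, Commute p u → Commute p y) : ∀ p ∈ P, Commute p y := by
  intro p hp
  rcases conj_u_cases hUn hU4 hzU hz1 hzc huU hu1 huz hp with h | h
  · exact hy p hp h
  · have hzz : z * z = 1 := klein_sq hU4 hzU
    have h1 : SemiconjBy p (z * u) (z * (z * u)) := SemiconjBy.mul_right (hzc p hp) h
    have h2 : z * (z * u) = u := by rw [← mul_assoc, hzz, one_mul]
    rw [h2] at h1
    have h3 : Commute (p * x) u := h1.mul_left hxu
    have h4 : Commute (p * x) y := hy (p * x) (P.mul_mem hp hxP) h3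
    have h5 : Commute (p * x * x⁻¹) y := h4.mul_left hxy.inv_left
    rwa [mul_inv_cancel_right] at h5

/-- A central involution of `P` is `1` or `z₀` when `Z(P)` is cyclic. -/
theorem central_invol_cases [Finite G] {P : Subgroup G}
    (hcyc : IsCyclic ↥(P ⊓ centralizer (P : Set G))) {z : G} (hzP : z ∈ P) (hz1 : z ≠ 1) (hzz : z * z = 1)
    (hzc : ∀ p ∈ P, Commute p z) {y : G} (hyP : y ∈ P) (hyy : y * y = 1) (hyc : ∀ p ∈ P, Commute p y) :
    y = 1 ∨ y = z := by
  have hzm : z ∈ P ⊓ centralizer (P : Set G) :=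
    ⟨hzP, mem_centralizer_iff.2 fun p hp => (hzc p hp).eq⟩
  have hym : y ∈ P ⊓ centralizer (P : Set G) :=
    ⟨hyP, mem_centralizer_iff.2 fun p hp => (hyc p hp).eq⟩
  have key := @cyclic_invol ↥(P ⊓ centralizer (P : Set G)) _ _ hcyc ⟨y, hym⟩ ⟨z, hzm⟩
    (by rw [pow_two]; exact Subtype.ext hyy) (by rw [pow_two]; exact Subtype.ext hzz)
    (fun h => hz1 (congrArg Subtype.val h))
  rcases key with h | h
  · left
    exact congrArg Subtype.val h
  · right
    exact congrArg Subtype.val h

/-- `Ω₁(Z(C_P(u))) ≤ U`. -/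
theorem omega_sub [Finite G] {P U : Subgroup G} (hUP : U ≤ P) (hUn : P ≤ normalizer (U : Set G))
    (hU4 : IsKleinFour ↥U) (hcyc : IsCyclic ↥(P ⊓ centralizer (P : Set G)))
    {z u x : G} (hzU : z ∈ U) (hz1 : z ≠ 1) (hzc : ∀ p ∈ P, Commute p z) (huU : u ∈ U) (hu1 : u ≠ 1)
    (huz : u ≠ z) (hxP : x ∈ P) (hxu : SemiconjBy x u (z * u)) {v : G} (hvP : v ∈ P) (hvv : v * v = 1)
    (hv : ∀ p ∈ P, Commute p u → Commute p v) : v ∈ U := by
  have hzz : z * z = 1 := klein_sq hU4 hzU
  have huu : u * u = 1 := klein_sq hU4 huU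
  have huP : u ∈ P := hUP huU
  have hzP : z ∈ P := hUP hzU
  have hvu : Commute v u := (hv u huP (Commute.refl u)).symm
  -- `x²` centralises `u`
  have hx2 : Commute (x * x) u := by
    have h1 : SemiconjBy x (z * u) (z * (z * u)) := SemiconjBy.mul_right (hzc x hxP) hxu
    have h2 : z * (z * u) = u := by rw [← mul_assoc, hzz, one_mul]
    rw [h2] at h1
    exact h1.mul_left hxu
  have hx2v : Commute (x * x) v := hv _ (P.mul_mem hxP hxP) hx2
  set v' : G := x * v * x⁻¹ with hv'def
  have hv'P : v' ∈ P := P.mul_mem (P.mul_mem hxP hvP) (P.inv_mem hxP)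
  have hxv : SemiconjBy x v v' := SemiconjBy.conj_mk x v
  have hxv' : SemiconjBy x v' v := by
    show x * v' = v * x
    have e : x * v' = (x * x) * v * x⁻¹ := by rw [hv'def]; group
    rw [e, hx2v.eq]
    group
  have hv' : ∀ p ∈ P, Commute p u → Commute p v' := by
    intro p hp hpu
    have hpzu : SemiconjBy p (z * u) (z * u) := (hzc p hp).mul_right hpu
    have hinv : SemiconjBy x⁻¹ (z * u) u := hxu.inv_symm_left
    have h1 : Commute (x⁻¹ * p * x) u := (hinv.mul_left hpzu).mul_left hxu
    have h2 : Commute (x⁻¹ * p * x) v :=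
      hv _ (P.mul_mem (P.mul_mem (P.inv_mem hxP) hp) hxP) h1
    have h3 : Commute (x * (x⁻¹ * p * x) * x⁻¹) (x * v * x⁻¹) := (Commute.conj_iff x).2 h2
    have e : x * (x⁻¹ * p * x) * x⁻¹ = p := by group
    rwa [e] at h3
  have hvv' : Commute v v' := hv' v hvP hvu
  have hv'v' : v' * v' = 1 := by
    have e : v' * v' = x * (v * v) * x⁻¹ := by rw [hv'def]; group
    rw [e, hvv]
    group
  -- `t = v v'` is a central involution of `P`
  have htP : v * v' ∈ P := P.mul_mem hvP hv'P
  have htt : (v * v') * (v * v') = 1 := by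
    calc (v * v') * (v * v') = v * (v' * v) * v' := by group
      _ = v * (v * v') * v' := by rw [hvv'.eq]
      _ = (v * v) * (v' * v') := by group
      _ = 1 := by rw [hvv, hv'v', one_mul]
  have hxt : Commute x (v * v') := by
    have h1 : SemiconjBy x (v * v') (v' * v) := hxv.mul_right hxv'
    rw [← hvv'.eq] at h1
    exact h1
  have htc : ∀ p ∈ P, Commute p (v * v') :=
    central_of hUn hU4 hzU hz1 hzc huU hu1 huz hxP hxu hxt
      (fun p hp hpu => (hv p hp hpu).mul_right (hv' p hp hpu))
  rcases central_invol_cases hcyc hzP hz1 hzz hzc htP htt htc with ht | ht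
  · -- `v' = v`, so `v` is central
    have hv'v : v' = v := by
      calc v' = (v * v) * v' := by rw [hvv, one_mul]
        _ = v * (v * v') := by group
        _ = v := by rw [ht, mul_one]
    have hxvc : Commute x v := by
      rw [hv'v] at hxv
      exact hxv
    have hvc : ∀ p ∈ P, Commute p v :=
      central_of hUn hU4 hzU hz1 hzc huU hu1 huz hxP hxu hxvc hv
    rcases central_invol_cases hcyc hzP hz1 hzz hzc hvP hvv hvc with h | h
    · rw [h]; exact U.one_mem
    · rw [h]; exact hzU
  · -- `v' = v z`, so `v u` is central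
    have hv'v : v' = v * z := by
      calc v' = (v * v) * v' := by rw [hvv, one_mul]
        _ = v * (v * v') := by group
        _ = v * z := by rw [ht]
    have hxvu : Commute x (v * u) := by
      have h1 : SemiconjBy x (v * u) (v' * (z * u)) := hxv.mul_right hxu
      have e : v' * (z * u) = v * u := by
        rw [hv'v]
        calc v * z * (z * u) = v * (z * z) * u := by group
          _ = v * u := by rw [hzz, mul_one]
      rw [e] at h1
      exact h1
    have hvuc : ∀ p ∈ P, Commute p (v * u) :=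
      central_of hUn hU4 hzU hz1 hzc huU hu1 huz hxP hxu hxvu
        (fun p hp hpu => (hv p hp hpu).mul_right hpu)
    have hvuvu : (v * u) * (v * u) = 1 := by
      calc (v * u) * (v * u) = v * (u * v) * u := by group
        _ = v * (v * u) * u := by rw [hvu.eq]
        _ = (v * v) * (u * u) := by group
        _ = 1 := by rw [hvv, huu, one_mul]
    rcases central_invol_cases hcyc hzP hz1 hzz hzc (P.mul_mem hvP huP) hvuvu hvuc with h | h
    · -- v = u⁻¹ = u
      have : v = u := by
        calc v = (v * u) * u := by rw [mul_assoc, huu, mul_one]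
          _ = u := by rw [h, one_mul]
      rw [this]; exact huU
    · have : v = z * u := by
        calc v = (v * u) * u := by rw [mul_assoc, huu, mul_one]
          _ = z * u := by rw [h]
      rw [this]; exact U.mul_mem hzU huU

end Cfsg.Agent.Helper7.S1957
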