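import Mathlib
import Cfsg.Agent.Helper7.S1957C

/-!
# S1957, part D: every 2-subgroup `T ≥ C_P(u)` normalises the four-group `U`
-/

set_option autoImplicit false

namespace Cfsg.Agent.Helper7.S1957

open Subgroup

variable {G : Type*} [Group G]

/-- `C_P(u)` centralises `U`. -/
theorem comm_all_of_comm_u {P U : Subgroup G} (hU4 : IsKleinFour ↥U)
    {z u : G} (hzU : z ∈ U) (hz1 : z ≠ 1) (hzc : ∀ p ∈ P, Commute p z) (huU : u ∈ U) (hu1 : u ≠ 1)
    (huz : u ≠ z) {p : G} (hp : p ∈ P) (hpu : Commute p u) {w : G} (hw : w ∈ U) : Commute p w := by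
  rcases klein_cases hU4 hzU huU hw hz1 hu1 (Ne.symm huz) with h | h | h | h
  · rw [h]; exact Commute.one_right p
  · rw [h]; exact hzc p hp
  · rw [h]; exact hpu
  · rw [h]; exact (hzc p hp).mul_right hpu

/-- A subgroup `A ≤ T` with `|T|` dividing `2 |A|` is normalised by `T`. -/
theorem conj_mem_of_card_dvd [Finite G] {A T : Subgroup G} (hAT : A ≤ T)
    (hdvd : Nat.card ↥T ∣ 2 * Nat.card ↥A) {r : G} (hr : r ∈ T) {a : G} (ha : a ∈ A) :
    r * a * r⁻¹ ∈ A := by
  have h1 : Nat.card ↥A * A.relIndex T = Nat.card ↥T := by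
    have := relIndex_mul_relIndex (⊥ : Subgroup G) A T bot_le hAT
    rwa [relIndex_bot_left, relIndex_bot_left] at this
  have hpos : 0 < Nat.card ↥A := Nat.card_pos
  have h2 : A.relIndex T ∣ 2 := by
    rw [← h1, mul_comm 2] at hdvd
    exact Nat.dvd_of_mul_dvd_mul_left hpos hdvd
  have hnorm : (A.subgroupOf T).Normal := by
    rcases (Nat.dvd_prime Nat.prime_two).1 h2 with h | h
    · have : A.subgroupOf T = ⊤ := index_eq_one.1 h
      rw [this]
      infer_instance
    · exact normal_of_index_eq_two h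
  have := hnorm.conj_mem ⟨a, hAT ha⟩ (mem_subgroupOf.2 ha) ⟨r, hr⟩
  exact mem_subgroupOf.1 this

/-- If `x ∈ P` moves `u`, then `C_P(u)` has index `2` in `P`. -/
theorem card_eq_two_mul [Finite G] {P U : Subgroup G} (hUn : P ≤ normalizer (U : Set G))
    (hU4 : IsKleinFour ↥U) {z u x : G} (hzU : z ∈ U) (hz1 : z ≠ 1) (hzc : ∀ p ∈ P, Commute p z)
    (huU : u ∈ U) (hu1 : u ≠ 1) (huz : u ≠ z) (hxP : x ∈ P) (hxu : SemiconjBy x u (z * u)) :
    Nat.card ↥P = 2 * Nat.card ↥(P ⊓ centralizer {u}) := by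
  have hzz : z * z = 1 := klein_sq hU4 hzU
  have hzu_ne : z * u ≠ u := by
    intro h
    apply hz1
    calc z = (z * u) * u⁻¹ := by group
      _ = 1 := by rw [h]; group
  have hidx : ((centralizer {u}).subgroupOf P).index = 2 := by
    rw [index_eq_two_iff]
    refine ⟨⟨x, hxP⟩, ?_⟩
    intro b
    have hb : (b : G) ∈ P := b.2
    have hmem1 : b * ⟨x, hxP⟩ ∈ (centralizer {u}).subgroupOf P ↔ Commute ((b : G) * x) u := by
      rw [mem_subgroupOf, mem_centralizer_singleton_iff]
      rfl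
    have hmem2 : b ∈ (centralizer {u}).subgroupOf P ↔ Commute (b : G) u := by
      rw [mem_subgroupOf, mem_centralizer_singleton_iff]
      rfl
    rw [hmem1, hmem2]
    rcases conj_u_cases hUn hU4 hzU hz1 hzc huU hu1 huz hb with h | h
    · -- `b` centralises `u`, `b x` does not
      right
      refine ⟨h, ?_⟩
      intro hbx
      have h1 : SemiconjBy ((b : G) * x) u (z * u) :=
        (SemiconjBy.mul_right (hzc _ hb) h).mul_left hxu
      have h2 : (b : G) * x * u = u * ((b : G) * x) := hbx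
      have h3 : (b : G) * x * u = z * u * ((b : G) * x) := h1
      exact hzu_ne (mul_right_cancel (h3.symm.trans h2))
    · -- `b` moves `u`, `b x` centralises it
      left
      refine ⟨?_, ?_⟩
      · have h1 : SemiconjBy (b : G) (z * u) (z * (z * u)) := SemiconjBy.mul_right (hzc _ hb) h
        have h2 : z * (z * u) = u := by rw [← mul_assoc, hzz, one_mul]
        rw [h2] at h1
        exact h1.mul_left hxu
      · intro hbu
        have h2 : (b : G) * u = u * (b : G) := hbu
        have h3 : (b : G) * u = z * u * (b : G) := h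
        exact hzu_ne (mul_right_cancel (h3.symm.trans h2))
  have h1 := card_mul_index ((centralizer {u}).subgroupOf P)
  rw [hidx] at h1
  have h2 : Nat.card ↥((centralizer {u}).subgroupOf P) = Nat.card ↥(P ⊓ centralizer {u}) := by
    rw [← inf_subgroupOf_left]
    exact Nat.card_congr (subgroupOfEquivOfLe inf_le_left).toEquiv
  rw [← h1, h2, mul_comm]


/-- Part D of S1957: a 2-subgroup `T ≥ C_P(u)` normalises `U`. -/
theorem normalizes_U [Finite G] (P : Sylow 2 G) {U : Subgroup G} (hUP : U ≤ (P : Subgroup G))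
    (hUn : (P : Subgroup G) ≤ normalizer (U : Set G)) (hU4 : IsKleinFour ↥U)
    (hUZ : ¬ IsCyclic ↥((P : Subgroup G) ⊓ centralizer ((P : Subgroup G) : Set G)) →
      U ≤ centralizer ((P : Subgroup G) : Set G))
    {u : G} (huU : u ∈ U) (hu1 : u ≠ 1) (T : Subgroup G) (hT2 : IsPGroup 2 ↥T)
    (hPT : (P : Subgroup G) ⊓ centralizer {u} ≤ T)
    {r : G} (hr : r ∈ T) {w : G} (hw : w ∈ U) : r * w * r⁻¹ ∈ U := by
  by_cases hall : ∀ p ∈ (P : Subgroup G), Commute p u
  · -- `P ≤ T`, hence `T = P`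
    have hPleT : (P : Subgroup G) ≤ T := fun p hp =>
      hPT ⟨hp, mem_centralizer_singleton_iff.2 (hall p hp)⟩
    have hTP : T = (P : Subgroup G) := P.is_maximal' hT2 hPleT
    have hrP : r ∈ (P : Subgroup G) := hTP ▸ hr
    exact (mem_normalizer_iff.1 (hUn hrP) w).1 hw
  · push Not at hall
    obtain ⟨x, hxP, hxu0⟩ := hall
    have hcyc : IsCyclic ↥((P : Subgroup G) ⊓ centralizer ((P : Subgroup G) : Set G)) := by
      by_contra hnc
      apply hxu0
      have := hUZ hnc huU
      exact mem_centralizer_iff.1 this x hxP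
    obtain ⟨z, hzU, hz1, hzc⟩ := exists_central_invol P.isPGroup' hUP hUn hU4
    have huz : u ≠ z := by
      intro h
      apply hxu0
      rw [h]
      exact hzc x hxP
    have hxu : SemiconjBy x u (z * u) := by
      rcases conj_u_cases hUn hU4 hzU hz1 hzc huU hu1 huz hxP with h | h
      · exact absurd h hxu0
      · exact h
    have hcardP := card_eq_two_mul hUn hU4 hzU hz1 hzc huU hu1 huz hxP hxu
    have hcardT : Nat.card ↥T ∣ Nat.card ↥(P : Subgroup G) := by
      obtain ⟨S, hS⟩ := IsPGroup.exists_le_sylow hT2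
      have h1 : Nat.card ↥(S : Subgroup G) = Nat.card ↥(P : Subgroup G) :=
        (S.card_eq_multiplicity).trans (P.card_eq_multiplicity).symm
      rw [← h1]
      exact card_dvd_of_le hS
    rw [hcardP] at hcardT
    -- `T` normalises `P₀ = C_P(u)`
    have hnorm : ∀ a ∈ (P : Subgroup G) ⊓ centralizer {u},
        r * a * r⁻¹ ∈ (P : Subgroup G) ⊓ centralizer {u} := fun a ha =>
      conj_mem_of_card_dvd hPT hcardT hr ha
    have hnorm' : ∀ a ∈ (P : Subgroup G) ⊓ centralizer {u},
        r⁻¹ * a * r⁻¹⁻¹ ∈ (P : Subgroup G) ⊓ centralizer {u} := fun a ha =>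
      conj_mem_of_card_dvd hPT hcardT (T.inv_mem hr) ha
    have hwP0 : w ∈ (P : Subgroup G) ⊓ centralizer {u} :=
      ⟨hUP hw, mem_centralizer_singleton_iff.2 (klein_comm hU4 hw huU)⟩
    have hv := hnorm w hwP0
    refine omega_sub hUP hUn hU4 hcyc hzU hz1 hzc huU hu1 huz hxP hxu hv.1 ?_ ?_
    · calc r * w * r⁻¹ * (r * w * r⁻¹) = r * (w * w) * r⁻¹ := by group
        _ = 1 := by rw [klein_sq hU4 hw]; group
    · intro p hp hpu
      have hpP0 : p ∈ (P : Subgroup G) ⊓ centralizer {u} :=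
        ⟨hp, mem_centralizer_singleton_iff.2 hpu⟩
      have hp' := hnorm' p hpP0
      have h1 : Commute (r⁻¹ * p * r⁻¹⁻¹) w :=
        comm_all_of_comm_u hU4 hzU hz1 hzc huU hu1 huz hp'.1
          (mem_centralizer_singleton_iff.1 hp'.2) hw
      have h2 : Commute (r * (r⁻¹ * p * r⁻¹⁻¹) * r⁻¹) (r * w * r⁻¹) := (Commute.conj_iff r).2 h1
      have e : r * (r⁻¹ * p * r⁻¹⁻¹) * r⁻¹ = p := by group
      rwa [e] at h2

end Cfsg.Agent.Helper7.S1957
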