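import Mathlib
import Cfsg.Prelude.Def_Solvable
import Cfsg.Agent.Helper14.PCore
import Cfsg.Agent.Helper7.S1957D

/-!
# S1957, part E: `U` acts on `O₂(C_G(u))` trivially modulo `⟨u⟩`
-/

set_option autoImplicit false

namespace Cfsg.Agent.Helper7.S1957

open Subgroup

variable {G : Type*} [Group G]

/-- The normaliser of `⟨u⟩` centralises the involution `u`. -/
theorem comm_of_mem_normalizer_zpowers {u : G} (hu2 : u * u = 1) (hu1 : u ≠ 1) {n : G}
    (hn : n ∈ normalizer ((zpowers u : Subgroup G) : Set G)) : Commute n u := by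
  have h1 : n * u * n⁻¹ ∈ zpowers u := (mem_normalizer_iff.1 hn u).1 (mem_zpowers u)
  obtain ⟨k, hk⟩ := mem_zpowers_iff.1 h1
  have hu2' : u ^ (2 : ℤ) = 1 := by rw [zpow_two]; exact hu2
  rcases Int.even_or_odd k with ⟨m, rfl⟩ | ⟨m, rfl⟩
  · exfalso
    apply hu1
    have h2 : u ^ (m + m) = 1 := by
      rw [← two_mul, zpow_mul, hu2', one_zpow]
    rw [h2] at hk
    calc u = n⁻¹ * (n * u * n⁻¹) * n := by group
      _ = 1 := by rw [← hk]; group
  · have h2 : u ^ (2 * m + 1) = u := by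
      rw [zpow_add_one, zpow_mul, hu2', one_zpow, one_mul]
    rw [h2] at hk
    show n * u = u * n
    calc n * u = (n * u * n⁻¹) * n := by group
      _ = u * n := by rw [← hk]

/-- The centraliser of `u` normalises `⟨u⟩`. -/
theorem mem_normalizer_zpowers_of_comm {u n : G} (h : Commute n u) :
    n ∈ normalizer ((zpowers u : Subgroup G) : Set G) := by
  apply centralizer_le_normalizer
  rw [mem_centralizer_iff]
  intro g hg
  obtain ⟨k, rfl⟩ := mem_zpowers_iff.1 hg
  exact ((h.zpow_right k).eq).symm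

/-- Part E of S1957. -/
theorem comm_pCore [Finite G] (P : Sylow 2 G) {U : Subgroup G} (hUP : U ≤ (P : Subgroup G))
    (hUn : (P : Subgroup G) ≤ normalizer (U : Set G)) (hU4 : IsKleinFour ↥U)
    (hUZ : ¬ IsCyclic ↥((P : Subgroup G) ⊓ centralizer ((P : Subgroup G) : Set G)) →
      U ≤ centralizer ((P : Subgroup G) : Set G))
    {u : G} (huU : u ∈ U) (hu1 : u ≠ 1) {N : Subgroup G}
    (hN : N = normalizer ((zpowers u : Subgroup G) : Set G)) (q : ↥N)
    (hq : q ∈ Cfsg.pCore 2 ↥N) {w : G} (hw : w ∈ U) :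
    w * (q : G) * w⁻¹ = (q : G) ∨ w * (q : G) * w⁻¹ = (q : G) * u := by
  set Q : Subgroup G := (Cfsg.pCore 2 ↥N).map N.subtype with hQ
  have hQ2 : IsPGroup 2 ↥Q := (Cfsg.Agent.Helper14.pCore_isPGroup 2).map N.subtype
  have hNQ : N ≤ normalizer (Q : Set G) := by
    have h1 := le_normalizer_map (H := Cfsg.pCore 2 ↥N) N.subtype
    rw [normalizer_eq_top, ← MonoidHom.range_eq_map, range_subtype] at h1
    exact h1
  have hP0N : (P : Subgroup G) ⊓ centralizer {u} ≤ N := fun p hp =>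
    hN ▸ mem_normalizer_zpowers_of_comm (mem_centralizer_singleton_iff.1 hp.2)
  have hP02 : IsPGroup 2 ↥((P : Subgroup G) ⊓ centralizer {u}) := P.isPGroup'.to_le inf_le_left
  have hT2 : IsPGroup 2 ↥((P : Subgroup G) ⊓ centralizer {u} ⊔ Q) :=
    IsPGroup.to_sup_of_normal_right' hP02 hQ2 (hP0N.trans hNQ)
  have hqT : (q : G) ∈ (P : Subgroup G) ⊓ centralizer {u} ⊔ Q :=
    (le_sup_right : Q ≤ _) (mem_map_of_mem N.subtype hq)
  have hqu : (q : G) * u = u * (q : G) :=
    comm_of_mem_normalizer_zpowers (klein_sq hU4 huU) hu1 (hN ▸ q.2)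
  exact comm_of_normalizes hU4 huU hu1 hqu
    (fun w' hw' => normalizes_U P hUP hUn hU4 hUZ huU hu1 _ hT2 le_sup_left hqT hw') hw

end Cfsg.Agent.Helper7.S1957
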