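import Mathlib
import Cfsg.Prelude.Def_CaseTheorems
import Cfsg.Agent.Lead.GenCent
import Cfsg.Agent.Helper14.PCore
import Cfsg.Agent.Helper7.S1957A
import Cfsg.Agent.Helper7.S1957E

/-!
# S1957, part F: assembly

Generation by centralisers of the four-group `U` acting coprimely on `K` (`Lead.GenCent`), then for `a ∈ U#`
the stability-group argument in `C_G(a)` (`S1957A`), fed by `[O₂(C_G(a)), U] ≤ ⟨a⟩` (`S1957B`–`S1957E`).
-/

set_option autoImplicit false

namespace Cfsg.Agent.Helper7.S1957

open Subgroup

/-- S1957 with only the hypotheses that are used. -/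
theorem main {G : Type*} [Group G] [Finite G] (h2 : Cfsg.IsCharacteristicTwoType G)
    (P : Sylow 2 G) (U : Subgroup G) (hUP : U ≤ (P : Subgroup G))
    (hUn : (P : Subgroup G) ≤ Subgroup.normalizer (U : Set G)) (hU4 : IsKleinFour ↥U)
    (hUZ : ¬ IsCyclic ↥((P : Subgroup G) ⊓ Subgroup.centralizer ((P : Subgroup G) : Set G)) →
      U ≤ Subgroup.centralizer ((P : Subgroup G) : Set G))
    (K : Subgroup G) (hK : Odd (Nat.card K)) (hUK : U ≤ Subgroup.normalizer (K : Set G)) :
    U ≤ Subgroup.centralizer (K : Set G) := by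
  classical
  have hUcomm : IsMulCommutative ↥U := hU4.isMulCommutative
  have hnc : ¬ IsCyclic ↥U := IsKleinFour.not_isCyclic
  have hcop : (Nat.card ↥U).Coprime (Nat.card ↥K) := by
    rw [hU4.card_four]
    have : (4 : ℕ) = 2 ^ 2 := by norm_num
    rw [this]
    apply Nat.Coprime.pow_left
    rw [Nat.coprime_two_left]
    exact hK
  have hgen := Cfsg.Agent.Lead.generated_by_centralizers U K hnc hUK hcop
  intro w hw
  have hKw : K ≤ centralizer {w} := by
    rw [← hgen]
    apply iSup₂_le
    intro a ha d hd
    obtain ⟨haU, ha1⟩ := ha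
    rw [mem_centralizer_singleton_iff]
    -- work in `N = N_G(⟨a⟩) = C_G(a)`
    have h2grp : IsPGroup 2 ↥(zpowers a) :=
      P.isPGroup'.to_le ((zpowers_le.2 haU).trans hUP)
    have hne : zpowers a ≠ ⊥ := zpowers_ne_bot.2 ha1
    have hchar : Subgroup.centralizer
        ((Cfsg.pCore 2 ↥(normalizer ((zpowers a : Subgroup G) : Set G)) :
          Subgroup ↥(normalizer ((zpowers a : Subgroup G) : Set G))) :
          Set ↥(normalizer ((zpowers a : Subgroup G) : Set G))) ≤
        Cfsg.pCore 2 ↥(normalizer ((zpowers a : Subgroup G) : Set G)) :=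
      h2.2 (zpowers a) h2grp hne
    have haN : a ∈ normalizer ((zpowers a : Subgroup G) : Set G) :=
      mem_normalizer_zpowers_of_comm (Commute.refl a)
    have hwa : Commute w a := klein_comm hU4 hw haU
    have hda : Commute d a := mem_centralizer_singleton_iff.1 hd.2
    have hwN : w ∈ normalizer ((zpowers a : Subgroup G) : Set G) :=
      mem_normalizer_zpowers_of_comm hwa
    have hCN : K ⊓ centralizer {a} ≤ normalizer ((zpowers a : Subgroup G) : Set G) := fun e he =>
      mem_normalizer_zpowers_of_comm (mem_centralizer_singleton_iff.1 he.2)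
    have hdN : d ∈ normalizer ((zpowers a : Subgroup G) : Set G) := hCN hd
    have haa : a * a = 1 := klein_sq hU4 haU
    have hDodd : Odd (Nat.card ↥((K ⊓ centralizer {a}).subgroupOf
        (normalizer ((zpowers a : Subgroup G) : Set G)))) := by
      have e1 : Nat.card ↥((K ⊓ centralizer {a}).subgroupOf
          (normalizer ((zpowers a : Subgroup G) : Set G))) = Nat.card ↥(K ⊓ centralizer {a}) :=
        Nat.card_congr (subgroupOfEquivOfLe hCN).toEquiv
      rw [e1]
      exact hK.of_dvd_nat (card_dvd_of_le inf_le_left)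
    have key := odd_centralizes (H := ↥(normalizer ((zpowers a : Subgroup G) : Set G)))
      (Cfsg.pCore 2 ↥(normalizer ((zpowers a : Subgroup G) : Set G)))
      (Cfsg.Agent.Helper14.pCore_isPGroup 2) hchar ⟨a, haN⟩
      (fun h => Subtype.ext (comm_of_mem_normalizer_zpowers haa ha1 h.2).eq)
      (Subtype.ext haa) ⟨w, hwN⟩
      (fun q hq => by
        rcases comm_pCore P hUP hUn hU4 hUZ haU ha1 rfl q hq hw with h | h
        · left
          exact Subtype.ext h
        · right
          exact Subtype.ext h)
      ((K ⊓ centralizer {a}).subgroupOf (normalizer ((zpowers a : Subgroup G) : Set G))) hDodd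
      (fun e he => by
        rw [mem_subgroupOf] at he ⊢
        have hea : Commute (e : G) a := mem_centralizer_singleton_iff.1 he.2
        have h1 : w * (e : G) * w⁻¹ ∈ K := (mem_normalizer_iff.1 (hUK hw) _).1 he.1
        have h2 : w * (e : G) * w⁻¹ ∈ centralizer {a} :=
          mem_centralizer_singleton_iff.2 ((hwa.mul_left hea).mul_left hwa.inv_left)
        exact ⟨h1, h2⟩)
      ⟨d, hdN⟩ (mem_subgroupOf.2 hd)
    have := congrArg Subtype.val key
    exact this.symm
  rw [mem_centralizer_iff]
  intro k hk
  exact mem_centralizer_singleton_iff.1 (hKw hk)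

end Cfsg.Agent.Helper7.S1957
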