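import Mathlib
import Cfsg.Agent.Helper2.S2099.DefsR
import Cfsg.Agent.Helper2.S2099.DefsN
import Cfsg.Agent.Helper2.S2099.DefsZ
import Cfsg.Agent.Helper2.S2099.DefsM
import Cfsg.Agent.Helper2.S2096.Defs
import Cfsg.Agent.Helper20.S2096HALFSL
import Cfsg.Agent.Helper23.S2099PIHALFQ
import Cfsg.Agent.Helper23.S2099PITQ
import Cfsg.Agent.Helper15.S2099KREFL
import Cfsg.Agent.Helper8.S2099TKMUL
import Cfsg.Agent.Helper7.S2099HGENQ

set_option autoImplicit false
set_option linter.unusedSectionVars false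
set_option linter.unusedVariables false

/-! S2099 chapter Z, piece HKERQ1 (driver helper2; helper7): an element of the torus `HhQ` with trivial matrix
is `1` or `tK (e_o) (-1)`. -/

namespace Cfsg.Agent.S2099P

open Matrix Cfsg.Agent.S3352P Cfsg.Agent.S3351P Cfsg.Agent.S2096P Cfsg.Agent.S2086P Cfsg.Agent.RGD
  Cfsg.Agent.Helper2
open Cfsg.Agent.S2094P (RB RootB sc NgEquivariant mapB reflB MD XD XD_coe isRoot_ng_right'
  isRoot_ng_left' sw_ngEquivariant sc_ngEquivariant)

section field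

variable {n : ℕ} {F : Type*} [Field F] {a b : F} [Aniso a b] {M : Type*} [Group M]
  {X : J n → J n → F → M} {Ys : J n → (Fin 2 → F) → M}

namespace HKERQ1

/-- the homomorphism from `SL_n` of the indices `e_i` -/
theorem exists_Theta [Fintype F] (hn : 3 ≤ n) (hX : DRel X) :
    ∃ Θ : Matrix.SpecialLinearGroup (Fin n) F →* M, ∀ (i j : Fin n) (hij : i ≠ j) (t : F),
      Θ (Matrix.SpecialLinearGroup.transvection hij t) = X (Sum.inl i) (Sum.inl j) t := by
  obtain ⟨Θ, hΘ⟩ := exists_half_sl (G := M) hn hX (∅ : Finset (Fin n))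
  refine ⟨Θ, fun i j hij t => ?_⟩
  rw [hΘ i j hij t]
  simp [half]

/-- the matrix of a normal form: the diagonal entries at `e_i` and the block of the plane -/
theorem pi_nf [Fintype F] (π : M →* Matrix (IQ n (Fin 2)) (IQ n (Fin 2)) F)
    (hπX : ∀ a b, IsRoot a b → ∀ t : F, π (X a b t) = xmQ a b t)
    (hπY : ∀ c, ∀ w : Fin 2 → F, π (Ys c w) = ymQ (qf2 a b) c w)
    (Θ : Matrix.SpecialLinearGroup (Fin n) F →* M)
    (hΘ : ∀ (i j : Fin n) (hij : i ≠ j) (t : F),
      Θ (Matrix.SpecialLinearGroup.transvection hij t) = X (Sum.inl i) (Sum.inl j) t)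
    (o : Fin n) (d : Tor n F) {l : QK a b} (hl : l ≠ 0) :
    (∀ i : Fin n, π (Θ (dgS n F d) * tK Ys (Sum.inl o) l) (Sum.inl (Sum.inl i)) (Sum.inl (Sum.inl i)) =
      ((d.1 i : Fˣ) : F) * (if i = o then qf2 a b (QK.toP l) else 1)) ∧
    (π (Θ (dgS n F d) * tK Ys (Sum.inl o) l)).toBlocks₂₂ = rotM (qf2 a b) e1 (QK.toP l) := by
  have hw : qf2 a b (QK.toP l) ≠ 0 := HGENQ.qf2_toP_ne_zero hl
  have e1' : π (tK Ys (Sum.inl o) l) = _ := pi_tY π hπY (qf2_e1 a b) (Sum.inl o) hw
  rw [map_mul, pi_Theta_Q π hπX Θ hΘ, e1']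
  unfold blkQ
  rw [Matrix.fromBlocks_multiply]
  simp only [Matrix.mul_zero, Matrix.zero_mul, add_zero, zero_add, Matrix.one_mul]
  constructor
  · intro i
    rw [Matrix.fromBlocks_apply₁₁, Matrix.mul_diagonal, Matrix.fromBlocks_apply₁₁]
    show (Matrix.diagonal fun i => ((d.1 i : Fˣ) : F)) i i * _ = _
    rw [Matrix.diagonal_apply_eq]
    congr 1
    by_cases hio : i = o
    · subst hio
      rw [if_pos rfl, if_pos rfl]
    · rw [if_neg hio, if_neg (fun h => hio (Sum.inl_injective h)), if_neg]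
      rw [ng_inl]
      exact Sum.inl_ne_inr
  · rw [Matrix.toBlocks_fromBlocks₂₂]

end HKERQ1

open HKERQ1

/-- HKERQ1 -/
theorem eq_one_or_eq_tK [Fintype F] (π : M →* Matrix (IQ n (Fin 2)) (IQ n (Fin 2)) F)
    (hπX : ∀ a b, IsRoot a b → ∀ t : F, π (X a b t) = xmQ a b t)
    (hπY : ∀ c, ∀ w : Fin 2 → F, π (Ys c w) = ymQ (qf2 a b) c w) (hn : 3 ≤ n)
    (hB : QRel (qf2 a b) X Ys) (o : Fin n) {h : M} (hh : h ∈ HhQ (qf2 a b) X Ys)
    (hπh : π h = 1) : h = 1 ∨ h = tK Ys (Sum.inl o) (-1 : QK a b) := by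
  obtain ⟨Θ, hΘ⟩ := exists_Theta (M := M) hn hB.dX
  obtain ⟨d, l, hl, rfl⟩ := exists_of_mem_HhQ π hπX Θ hΘ hn hB o hh
  obtain ⟨hdiag, hrot⟩ := pi_nf π hπX hπY Θ hΘ o d hl
  rw [hπh] at hdiag hrot
  -- the entries of `d`
  have hd1 : ∀ i : Fin n, i ≠ o → d.1 i = 1 := by
    intro i hio
    have := hdiag i
    rw [Matrix.one_apply_eq, if_neg hio, mul_one] at this
    exact Units.ext this.symm
  have hdo : d.1 o = 1 := by
    have h1 : ∏ i, d.1 i = 1 := d.2
    rw [Finset.prod_eq_single o (fun i _ hio => hd1 i hio)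
      (fun h => absurd (Finset.mem_univ o) h)] at h1
    exact h1
  have hd : d = 1 := by
    apply Subtype.ext
    funext i
    by_cases hio : i = o
    · rw [hio, hdo]; rfl
    · rw [hd1 i hio]; rfl
  -- the norm of `l`
  have hnrm : QK.nrm l = 1 := by
    have := hdiag o
    rw [Matrix.one_apply_eq, if_pos rfl, hdo, Units.val_one, one_mul, QK.qf2_toP] at this
    exact this.symm
  -- the rotation is trivial
  have hrot' : l * (QK.conj l)⁻¹ = 1 := by
    have h1 := rotM_mulVec (qf2 a b) e1 (QK.toP l) (QK.toP (1 : QK a b))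
    rw [← hrot, rot_toP hl, mul_one] at h1
    have h2 : (1 : Matrix (IQ n (Fin 2)) (IQ n (Fin 2)) F).toBlocks₂₂ = 1 := by
      rw [← Matrix.fromBlocks_one, Matrix.toBlocks_fromBlocks₂₂]
    rw [h2, Matrix.one_mulVec] at h1
    exact (QK.toP_injective h1).symm
  have hconj : QK.conj l = l := by
    have hc : QK.conj l ≠ 0 := HGENQ.conj_ne_zero hl
    field_simp at hrot'
    exact hrot'.symm
  have hll : l * l = 1 := by
    have := QK.mul_conj l
    rw [hconj, hnrm, map_one] at this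
    exact this
  have hl1 : l = 1 ∨ l = -1 := by
    have : (l - 1) * (l + 1) = 0 := by ring_nf; rw [pow_two, hll]; ring
    rcases mul_eq_zero.1 this with h | h
    · left; exact sub_eq_zero.1 h
    · right; exact eq_neg_of_add_eq_zero_left h
  rw [hd, map_one, map_one, one_mul]
  rcases hl1 with rfl | rfl
  · left; exact tK_one _
  · right; rfl

end field

end Cfsg.Agent.S2099P
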