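import Mathlib
import Cfsg.Prelude.Def_Characters
import Cfsg.Agent.Helper7.S2333Defs
import Cfsg.Agent.Helper7.S2333Basic

/-!
# S2333 piece EQUIVb: the quadratic form of `symz M` is the quadratic form of `M`
-/

set_option autoImplicit false

namespace Cfsg.Agent.S2333P

open Matrix Cfsg Cfsg.Agent.Helper25

variable {F : Type*} [Field F] {n : ℕ}

/-- folding a double sum onto the upper triangle -/
theorem equivb_fold (g : Fin n → Fin n → F) :
    ∑ i, ∑ j, g i j =
      ∑ i, ∑ j, (if i < j then g i j + g j i else if i = j then g i j else 0) := by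
  have h1 : ∀ i j, g i j = (if i < j then g i j else 0) + (if i = j then g i j else 0) +
      (if j < i then g i j else 0) := by
    intro i j
    rcases lt_trichotomy i j with h | h | h
    · rw [if_pos h, if_neg (ne_of_lt h), if_neg (not_lt_of_gt h), add_zero, add_zero]
    · rw [if_neg (by rw [h]; exact lt_irrefl j), if_pos h, if_neg (by rw [h]; exact lt_irrefl j),
        zero_add, add_zero]
    · rw [if_neg (not_lt_of_gt h), if_neg (ne_of_gt h), if_pos h, zero_add, zero_add]
  have h2 : ∑ i, ∑ j, (if j < i then g i j else 0) = ∑ i, ∑ j, (if i < j then g j i else 0) :=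
    Finset.sum_comm
  calc ∑ i, ∑ j, g i j
      = ∑ i, ∑ j, ((if i < j then g i j else 0) + (if i = j then g i j else 0) +
          (if j < i then g i j else 0)) := by
        refine Finset.sum_congr rfl fun i _ => Finset.sum_congr rfl fun j _ => h1 i j
    _ = ∑ i, ∑ j, (if i < j then g i j else 0) + ∑ i, ∑ j, (if i = j then g i j else 0) +
          ∑ i, ∑ j, (if j < i then g i j else 0) := by
        simp only [Finset.sum_add_distrib]
    _ = ∑ i, ∑ j, (if i < j then g i j else 0) + ∑ i, ∑ j, (if i = j then g i j else 0) +
          ∑ i, ∑ j, (if i < j then g j i else 0) := by rw [h2]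
    _ = ∑ i, ∑ j, ((if i < j then g i j else 0) + (if i = j then g i j else 0) +
          (if i < j then g j i else 0)) := by
        simp only [Finset.sum_add_distrib]
    _ = _ := by
        refine Finset.sum_congr rfl fun i _ => Finset.sum_congr rfl fun j _ => ?_
        rcases lt_trichotomy i j with h | h | h
        · simp only [if_pos h, if_neg (ne_of_lt h), add_zero]
        · have hlt : ¬ i < j := by rw [h]; exact lt_irrefl j
          simp only [if_neg hlt, if_pos h, zero_add, add_zero]
        · simp only [if_neg (not_lt_of_gt h), if_neg (ne_of_gt h), add_zero]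

theorem QH_symz (M : Matrix (Fin n) (Fin n) F) : QH (symz M) = qf M := by
  funext x
  unfold QH qf
  simp only [dotProduct, mulVec, Finset.mul_sum]
  rw [equivb_fold (fun i j => x i * (M i j * x j))]
  refine Finset.sum_congr rfl fun i _ => Finset.sum_congr rfl fun j _ => ?_
  rw [upp_apply, symz_apply]
  rcases lt_trichotomy i j with h | h | h
  · rw [if_pos (le_of_lt h), if_neg (ne_of_lt h), if_pos h]
    ring
  · subst h
    rw [if_pos (le_refl i), if_pos rfl, if_neg (lt_irrefl i), if_pos rfl]
  · rw [if_neg (not_le_of_gt h), if_neg (not_lt_of_gt h), if_neg (ne_of_gt h)]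
    ring

end Cfsg.Agent.S2333P
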