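import Mathlib
import Cfsg.Prelude.Def_Characters
import Cfsg.Agent.Helper7.S2333Defs
import Cfsg.Agent.Helper7.S2333Basic

/-!
# S2333 piece NC: the nontrivial elements of the Siegel radical are not central
-/

set_option autoImplicit false

namespace Cfsg.Agent.S2333P

open Matrix Cfsg Cfsg.Agent.Helper25

variable {F : Type*} [Field F] {n : ℕ}

theorem US_noncentral (Y : ↥(SymM n F)) (hY : Y ≠ 0) :
    US n F (Multiplicative.ofAdd Y) ∉ Subgroup.center (symplecticGroup (Fin n) F) := by
  intro hc
  -- a nonzero entry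
  have hY1 : Y.1 ≠ 0 := fun h => hY (Subtype.ext h)
  obtain ⟨i, j, hij⟩ : ∃ i j, Y.1 i j ≠ 0 := by
    by_contra hcon
    push Not at hcon
    apply hY1
    ext i j
    exact hcon i j
  have hZ : (Matrix.single j j (1 : F))ᵀ = Matrix.single j j 1 := Matrix.transpose_single _ _ _
  have hcomm := Subgroup.mem_center_iff.mp hc (SpU.lSg (Matrix.single j j (1 : F)))
  have hval := congrArg (fun g : symplecticGroup (Fin n) F =>
    (g : Matrix (Fin n ⊕ Fin n) (Fin n ⊕ Fin n) F)) hcomm
  have e1 : ((SpU.lSg (Matrix.single j j (1 : F)) * US n F (Multiplicative.ofAdd Y) :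
      symplecticGroup (Fin n) F) : Matrix (Fin n ⊕ Fin n) (Fin n ⊕ Fin n) F) =
      SpU.lS (Matrix.single j j (1 : F)) * SpU.uS Y.1 := by
    show (SpU.lSg (Matrix.single j j (1 : F))).1 * (US n F (Multiplicative.ofAdd Y)).1 = _
    rw [SpU.lSg_val hZ, US_val]
  have e2 : ((US n F (Multiplicative.ofAdd Y) * SpU.lSg (Matrix.single j j (1 : F)) :
      symplecticGroup (Fin n) F) : Matrix (Fin n ⊕ Fin n) (Fin n ⊕ Fin n) F) =
      SpU.uS Y.1 * SpU.lS (Matrix.single j j (1 : F)) := by
    show (US n F (Multiplicative.ofAdd Y)).1 * (SpU.lSg (Matrix.single j j (1 : F))).1 = _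
    rw [SpU.lSg_val hZ, US_val]
  rw [e1, e2] at hval
  unfold SpU.lS SpU.uS at hval
  rw [fromBlocks_multiply, fromBlocks_multiply] at hval
  have h11 := (Matrix.fromBlocks_inj.mp hval).1
  simp only [Matrix.mul_one, Matrix.mul_zero, add_zero] at h11
  have h3 : Y.1 * Matrix.single j j (1 : F) = 0 := by
    have := h11
    rw [left_eq_add] at this
    exact this
  have h4 := congrFun (congrFun h3 i) j
  rw [Matrix.mul_apply, Matrix.zero_apply] at h4
  rw [Finset.sum_eq_single j] at h4
  · rw [Matrix.single_apply_same, mul_one] at h4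
    exact hij h4
  · intro k _ hk
    rw [Matrix.single_apply_of_ne, mul_zero]
    intro h
    exact hk h.1.symm
  · intro h
    exact absurd (Finset.mem_univ j) h

end Cfsg.Agent.S2333P
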