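import Mathlib
import Cfsg.Agent.Helper5.CharKer
import Cfsg.Agent.Helper24.Rep
import Cfsg.Agent.Helper12.LSUREPa
import Cfsg.Agent.Helper12.LSUREPb
import Cfsg.Agent.Helper7.S2333Defs
import Cfsg.Agent.Helper7.S2333Basic
import Cfsg.Agent.Helper7.S2333SIEGEL
import Cfsg.Agent.Helper7.S2333NC
import Cfsg.Agent.Helper7.S2333NORMAL
import Cfsg.Agent.Helper7.S2333EQUIVb
import Cfsg.Agent.Helper4.S2333EXPAND
import Cfsg.Agent.Helper4.S2333DUAL
import Cfsg.Agent.Helper13.S2333EQUIVa
import Cfsg.Agent.Helper13.S2333POLAR0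
import Cfsg.Agent.Helper7.S2333Orb

/-!
# S2333: the smallest degree of `Sp_{2n}(q)`, `q` even (assembly)
-/

set_option autoImplicit false

namespace Cfsg.Agent.S2333P

open Matrix Cfsg Cfsg.Agent.Helper24 Cfsg.Agent.Helper12.LSU

variable {F : Type*} [Field F]

/-- a nonzero symmetric matrix with zero diagonal -/
def altM (m : ℕ) (F : Type*) [Field F] : Matrix (Fin (m + 2)) (Fin (m + 2)) F :=
  Matrix.of fun i j => if i.val + j.val = 1 then 1 else 0

theorem altM_apply (m : ℕ) (i j : Fin (m + 2)) :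
    altM m F i j = if i.val + j.val = 1 then 1 else 0 := rfl

theorem altM_mem (m : ℕ) : altM m F ∈ SymM (m + 2) F := by
  rw [mem_SymM]
  ext i j
  rw [transpose_apply, altM_apply, altM_apply, add_comm]

theorem altM_diag (m : ℕ) (i : Fin (m + 2)) : altM m F i i = 0 := by
  rw [altM_apply, if_neg (by omega)]

theorem altM_ne_zero (m : ℕ) : altM m F ≠ 0 := by
  intro h
  have := congrFun (congrFun h ⟨0, by omega⟩) ⟨1, by omega⟩
  rw [altM_apply, if_pos (by simp), Matrix.zero_apply] at this
  exact one_ne_zero this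

/-- even order forces characteristic `2` -/
theorem two_eq_zero_of_even [Fintype F] (heven : Even (Fintype.card F)) : (2 : F) = 0 := by
  have h := (FiniteField.even_card_iff_char_two (F := F)).mpr (Nat.even_iff.mp heven)
  have := (ringChar.spec F 2).mpr (by rw [h])
  exact_mod_cast this

theorem main [Fintype F] (m : ℕ) (heven : Even (Fintype.card F))
    (h3 : m + 2 = 2 → 3 ≤ Fintype.card F) (k : ℕ)
    (ρ : Representation ℂ ↥(symplecticGroup (Fin (m + 2)) F) (Fin k → ℂ))
    (hρ : ρ.IsIrreducible) (hk : 2 ≤ k) :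
    (Fintype.card F ^ (m + 2) - 1) * (Fintype.card F ^ (m + 2) - Fintype.card F) ≤
      2 * (Fintype.card F + 1) * k := by
  classical
  have h2 : (2 : F) = 0 := two_eq_zero_of_even heven
  letI : Fintype ↥(symplecticGroup (Fin (m + 2)) F) := Fintype.ofFinite _
  letI : Fintype ↥(SymM (m + 2) F) := Fintype.ofFinite _
  set G := ↥(symplecticGroup (Fin (m + 2)) F)
  set χ : G → ℂ := ρ.character with hχdef
  have hχirr : IsIrrCharacter G χ := ⟨k, ρ, hρ, rfl⟩
  have hχ : IsCharacter G χ := ⟨k, ρ, rfl⟩
  have hχ1 : χ 1 = k := by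
    rw [hχdef, Representation.char_one, Module.finrank_fin_fun]
  obtain ⟨ψ, hψ⟩ : ∃ ψ : AddChar F ℂ, ψ 1 ≠ 1 := AddChar.exists_apply_ne_zero.mpr one_ne_zero
  have horth : ∀ a : Multiplicative ↥(SymM (m + 2) F), a ≠ 1 →
      ∑ H : ↥(SymM (m + 2) F), lamS ψ H a = 0 := by
    intro a ha
    have ha' : (Multiplicative.toAdd a : ↥(SymM (m + 2) F)) ≠ 0 := by
      intro h
      exact ha (Multiplicative.toAdd.injective h)
    exact sum_lamS_eq_zero ψ hψ (Multiplicative.toAdd a) ha'
  have hcard : Fintype.card ↥(SymM (m + 2) F) =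
      Fintype.card (Multiplicative ↥(SymM (m + 2) F)) := (Fintype.card_multiplicative _).symm
  obtain ⟨nm, hnm, hsum⟩ := rep_count (US (m + 2) F) χ hχ k hχ1 (lamS ψ) horth hcard
  -- the support and its set of quadratic forms
  set S : Finset ↥(SymM (m + 2) F) := Finset.univ.filter (fun H => nm H ≠ 0) with hS
  set Φ : Finset ((Fin (m + 2) → F) → F) := S.image (fun H => QH H.1) with hΦ
  have hkS : S.card ≤ k := by
    rw [← hsum]
    calc S.card = ∑ _H ∈ S, 1 := by rw [Finset.sum_const, smul_eq_mul, mul_one]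
      _ ≤ ∑ H ∈ S, nm H := by
          apply Finset.sum_le_sum
          intro H hH
          rw [hS, Finset.mem_filter] at hH
          exact Nat.one_le_iff_ne_zero.mpr hH.2
      _ ≤ ∑ H, nm H := Finset.sum_le_sum_of_subset (Finset.subset_univ _)
  have hΦk : Φ.card ≤ k := le_trans Finset.card_image_le hkS
  have hbound : (Fintype.card F ^ (m + 2) - 1) * (Fintype.card F ^ (m + 2) - Fintype.card F) ≤
      2 * (Fintype.card F + 1) * Φ.card := by
    apply orbit_bound h2 m Φ
    · -- all elements are quadratic forms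
      intro Q hQ
      rw [hΦ, Finset.mem_image] at hQ
      obtain ⟨H, -, rfl⟩ := hQ
      exact ⟨upp H.1, rfl⟩
    · -- stability
      intro Q hQ A hA
      rw [hΦ, Finset.mem_image] at hQ
      obtain ⟨H, hH, rfl⟩ := hQ
      rw [hS, Finset.mem_filter] at hH
      set H' : ↥(SymM (m + 2) F) := ⟨symz (Aᵀ * upp H.1 * A), symz_mem _⟩ with hH'
      have hQeq : (fun x => QH H.1 (A *ᵥ x)) = QH H'.1 := by
        funext x
        show qf (upp H.1) (A *ᵥ x) = QH (symz (Aᵀ * upp H.1 * A)) x
        rw [QH_symz, qf_comp]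
      rw [hQeq, hΦ, Finset.mem_image]
      refine ⟨H', ?_, rfl⟩
      rw [hS, Finset.mem_filter]
      refine ⟨Finset.mem_univ _, ?_⟩
      obtain ⟨g, hg⟩ := US_levi A hA
      have hinv := rep_invariant (US (m + 2) F) (US_injective (m + 2)) χ
        (IsCharacter.isClassFunction hχ) g
        (fun Y => Multiplicative.ofAdd (congS A (Multiplicative.toAdd Y)))
        (fun Y => (hg (Multiplicative.toAdd Y)).symm)
        (fun a => lamS ψ H a) (fun a => lamS ψ H' a)
        (fun Y => by
          show ψ (pairM (upp H.1) (A * (Multiplicative.toAdd Y).1 * Aᵀ)) =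
            ψ (pairM (upp (symz (Aᵀ * upp H.1 * A))) (Multiplicative.toAdd Y).1)
          rw [pairM_cong])
      rw [hnm, hnm] at hinv
      have : nm H = nm H' := by exact_mod_cast hinv
      rw [← this]
      exact hH.2
    · -- a form with nonzero polar form
      by_contra hcon
      have hpol : ∀ H ∈ S, ∀ x y, polar (QH H.1) x y = 0 := by
        intro H hH x y
        by_contra hne
        exact hcon ⟨QH H.1, Finset.mem_image_of_mem _ hH, x, y, hne⟩
      set Y₀ : ↥(SymM (m + 2) F) := ⟨altM m F, altM_mem m⟩ with hY₀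
      have hY₀ne : Y₀ ≠ 0 := by
        intro h
        exact altM_ne_zero m (congrArg Subtype.val h)
      have hval : χ (US (m + 2) F (Multiplicative.ofAdd Y₀)) = χ 1 := by
        rw [rep_expand (US (m + 2) F) χ (lamS ψ) horth hcard, hχ1, ← hsum]
        push_cast
        refine Finset.sum_congr rfl fun H _ => ?_
        rw [hnm]
        by_cases hH : H ∈ S
        · rw [lamS_apply, pairM_eq_zero_of_polar H Y₀ (hpol H hH) (altM_diag m),
            AddChar.map_zero_eq_one, mul_one]
        · have : nm H = 0 := by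
            by_contra h
            exact hH (Finset.mem_filter.mpr ⟨Finset.mem_univ _, h⟩)
          rw [this, Nat.cast_zero, zero_mul]
      have hmem : US (m + 2) F (Multiplicative.ofAdd Y₀) ∈
          Cfsg.Agent.Helper5.charKer ⟨χ, hχirr⟩ :=
        (Cfsg.Agent.Helper5.mem_charKer _ _).mpr hval
      have htop := sp_normal_eq_top2 (m + 2) (by omega) h3
        (Cfsg.Agent.Helper5.charKer ⟨χ, hχirr⟩) inferInstance _ hmem (US_noncentral Y₀ hY₀ne)
      have hconst : ∀ g : G, χ g = k := by
        intro g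
        have : g ∈ Cfsg.Agent.Helper5.charKer ⟨χ, hχirr⟩ := by rw [htop]; exact Subgroup.mem_top g
        rw [Cfsg.Agent.Helper5.mem_charKer] at this
        rw [← hχ1]
        exact this
      have h1 : classInner χ χ = 1 := classInner_irr_self ⟨χ, hχirr⟩
      unfold classInner at h1
      have h2' : ∑ g : G, χ g * (starRingEnd ℂ) (χ g) = (Nat.card G : ℂ) * ((k : ℂ) * k) := by
        rw [Finset.sum_congr rfl (fun g _ => by rw [hconst g, Complex.conj_natCast])]
        rw [Finset.sum_const, Finset.card_univ, nsmul_eq_mul, Nat.card_eq_fintype_card]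
      rw [h2', ← mul_assoc, inv_mul_cancel₀ card_ne_zero_complex, one_mul] at h1
      have h3' : k * k = 1 := by exact_mod_cast h1
      have : k = 1 := Nat.eq_one_of_mul_eq_one_right h3'
      omega
  calc (Fintype.card F ^ (m + 2) - 1) * (Fintype.card F ^ (m + 2) - Fintype.card F)
      ≤ 2 * (Fintype.card F + 1) * Φ.card := hbound
    _ ≤ 2 * (Fintype.card F + 1) * k := Nat.mul_le_mul_left _ hΦk

end Cfsg.Agent.S2333P
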