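import Mathlib
import Cfsg.Agent.Helper29.S2558DDefs
import Cfsg.Agent.Helper18.S5961ISOM
import Cfsg.Agent.Helper18.S5961NDSUB

/-! # S2558 chapter (D), pieces ALTSQ and UNITDISC (helper7)

* `DISC.isSquare_det_of_alt` : the Gram determinant of a nondegenerate alternating form is a square.
* `DISC.sameDisc_of_linIso` : for isometries `g`, `g'` with `g ± 1` invertible which are linearly conjugate, the
  discriminants agree modulo squares.
-/

set_option autoImplicit false

namespace Cfsg.Agent.S2558P

open Cfsg.Agent.Helper2.SympInvol Cfsg.Agent.S2482P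

universe u

namespace DISC

namespace ALTSQ

theorem det_J_eq_one (d : ℕ) (F : Type*) [Field F] : (Matrix.J (Fin d) F).det = 1 := by
  have h : Matrix.fromBlocks (1 : Matrix (Fin d) (Fin d) F) 1 0 1 * Matrix.J (Fin d) F =
      Matrix.fromBlocks 1 (-1) 1 0 := by
    rw [Matrix.J, Matrix.fromBlocks_multiply]
    simp
  have h1 := congrArg Matrix.det h
  rw [Matrix.det_mul, Matrix.det_fromBlocks_zero₂₁, Matrix.det_one, Matrix.det_fromBlocks_one₁₁] at h1
  simpa using h1

/-- basis change for Gram determinants, bases over arbitrary (equinumerous) index types -/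
theorem det_change {F V : Type*} [Field F] [AddCommGroup V] [Module F V] {ι κ : Type*}
    [Fintype ι] [DecidableEq ι] [Fintype κ] [DecidableEq κ]
    (B : LinearMap.BilinForm F V) (b : Module.Basis ι F V) (b' : Module.Basis κ F V) :
    ∃ p : F, p ≠ 0 ∧
      (LinearMap.BilinForm.toMatrix b' B).det = p ^ 2 * (LinearMap.BilinForm.toMatrix b B).det := by
  have hcard : Fintype.card ι = Fintype.card κ := by
    rw [← Module.finrank_eq_card_basis b, ← Module.finrank_eq_card_basis b']
  let e : ι ≃ κ := Fintype.equivOfCardEq hcard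
  let b1 : Module.Basis κ F V := b.reindex e
  have hb1 : LinearMap.BilinForm.toMatrix b1 B =
      (LinearMap.BilinForm.toMatrix b B).submatrix e.symm e.symm := by
    ext x y
    rw [LinearMap.BilinForm.toMatrix_apply, Matrix.submatrix_apply,
      LinearMap.BilinForm.toMatrix_apply, Module.Basis.reindex_apply, Module.Basis.reindex_apply]
  have hchg := LinearMap.BilinForm.toMatrix_mul_basis_toMatrix (b := b1) b' B
  have hP : (b1.toMatrix b').det ≠ 0 := by
    have h1 := Module.Basis.toMatrix_mul_toMatrix_flip b1 b'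
    have h2 := congrArg Matrix.det h1
    rw [Matrix.det_mul, Matrix.det_one] at h2
    exact left_ne_zero_of_mul_eq_one h2
  refine ⟨(b1.toMatrix b').det, hP, ?_⟩
  rw [← hchg, Matrix.det_mul, Matrix.det_mul, Matrix.det_transpose, hb1,
    Matrix.det_submatrix_equiv_self]
  ring

end ALTSQ

/-- ALTSQ: the Gram determinant of a nondegenerate alternating form is a square -/
theorem isSquare_det_of_alt {F V : Type*} [Field F] [AddCommGroup V] [Module F V]
    [FiniteDimensional F V] (A : LinearMap.BilinForm F V) (halt : ∀ v, A v v = 0)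
    (hnd : Nondeg A ⊤) {k : ℕ} (b : Module.Basis (Fin k) F V) :
    IsSquare (LinearMap.BilinForm.toMatrix b A).det := by
  classical
  obtain ⟨⟨d, hd⟩, -⟩ := Cfsg.Agent.S5961P.exists_nondeg_sub A halt ⊤ hnd
  rw [finrank_top] at hd
  have hfr : Module.finrank F V = Module.finrank F (Fin d ⊕ Fin d → F) := by
    rw [hd, Module.finrank_fintype_fun_eq_card, Fintype.card_sum, Fintype.card_fin]
  obtain ⟨e, he⟩ := Cfsg.Agent.S5961P.exists_isometry A (Cfsg.Agent.S5961P.sB d F) halt
    (Cfsg.Agent.S5961P.sB_alt d F) hnd (Cfsg.Agent.S5961P.sB_nondeg d F) hfr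
  let b0 : Module.Basis (Fin d ⊕ Fin d) F V := (Pi.basisFun F (Fin d ⊕ Fin d)).map e.symm
  have hG : LinearMap.BilinForm.toMatrix b0 A = Matrix.J (Fin d) F := by
    ext i j
    rw [LinearMap.BilinForm.toMatrix_apply, Module.Basis.map_apply, Module.Basis.map_apply, ← he,
      LinearEquiv.apply_symm_apply, LinearEquiv.apply_symm_apply, Cfsg.Agent.S5961P.sB_apply]
    unfold Cfsg.sympForm
    simp [Pi.basisFun_apply]
  obtain ⟨p, -, hp⟩ := ALTSQ.det_change A b0 b
  rw [hp, hG, ALTSQ.det_J_eq_one, mul_one]
  exact ⟨p, pow_two p⟩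

namespace UNITDISC

/-- for an isometry `g` with `g ^ 2 - 1` invertible, `disc B * det g * det (g ^ 2 - 1)` is a square -/
theorem isSquare_det_mul {F V : Type*} [Field F] [AddCommGroup V] [Module F V]
    [FiniteDimensional F V] (B : LinearMap.BilinForm F V) (g : Module.End F V)
    (hsymm : ∀ u v, B u v = B v u) (hnd : Nondeg B ⊤) (hisom : ∀ u v, B (g u) (g v) = B u v)
    (hu : IsUnit (g * g - 1)) {k : ℕ} (b : Module.Basis (Fin k) F V) :
    IsSquare ((LinearMap.BilinForm.toMatrix b B).det *
      (LinearMap.det g * LinearMap.det (g * g - 1))) := by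
  classical
  have hinj : ∀ m, g m = 0 → m = 0 := by
    intro m hm
    by_contra hm0
    obtain ⟨v, -, hv⟩ := hnd m trivial hm0
    apply hv
    rw [← hisom, hm]
    simp
  have halt : ∀ v, (B.comp g (g * g - 1)) v v = 0 := by
    intro v
    rw [LinearMap.BilinForm.comp_apply, LinearMap.sub_apply, Module.End.mul_apply,
      Module.End.one_apply, map_sub, hisom, hsymm v (g v), sub_self]
  have hndA : Nondeg (B.comp g (g * g - 1)) ⊤ := by
    intro m _ hm0
    have hgm : g m ≠ 0 := fun h0 => hm0 (hinj m h0)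
    obtain ⟨w, -, hw⟩ := hnd (g m) trivial hgm
    obtain ⟨v, rfl⟩ := ((Module.End.isUnit_iff _).mp hu).2 w
    exact ⟨v, trivial, by rw [LinearMap.BilinForm.comp_apply]; exact hw⟩
  have hsq := isSquare_det_of_alt (B.comp g (g * g - 1)) halt hndA b
  rw [LinearMap.BilinForm.toMatrix_comp b b, Matrix.det_mul, Matrix.det_mul, Matrix.det_transpose,
    LinearMap.det_toMatrix, LinearMap.det_toMatrix] at hsq
  have : (LinearMap.BilinForm.toMatrix b B).det * (LinearMap.det g * LinearMap.det (g * g - 1)) =
      LinearMap.det g * (LinearMap.BilinForm.toMatrix b B).det * LinearMap.det (g * g - 1) := by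
    ring
  rw [this]
  exact hsq

end UNITDISC

/-- UNITDISC -/
theorem sameDisc_of_linIso {F : Type u} [Field F] {S S' : SpSpace F} (h : S.IsOrth)
    (h' : S'.IsOrth) (hu : IsUnit (S.g - 1)) (hu1 : IsUnit (S.g + 1)) (hl : S.LinIso S') :
    S.SameDisc S' := by
  classical
  obtain ⟨x, hx⟩ := hl
  have hg' : S'.g = x.conjRingEquiv S.g := by
    apply LinearMap.ext
    intro v
    show S'.g v = x (S.g (x.symm v))
    rw [hx, LinearEquiv.apply_symm_apply]
  have hu2 : IsUnit (S.g * S.g - 1) := by
    have : S.g * S.g - 1 = (S.g - 1) * (S.g + 1) := by noncomm_ring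
    rw [this]
    exact hu.mul hu1
  have hgg' : S'.g * S'.g - 1 = x.conjRingEquiv (S.g * S.g - 1) := by
    rw [map_sub, map_mul, map_one, hg']
  have hu2' : IsUnit (S'.g * S'.g - 1) := by
    rw [hgg']
    exact hu2.map x.conjRingEquiv
  have hdet : ∀ f : Module.End F S.V, LinearMap.det (x.conjRingEquiv f) = LinearMap.det f := by
    intro f
    exact LinearMap.det_conj f x
  have hd : Module.finrank F S'.V = Module.finrank F S.V := x.finrank_eq.symm
  refine ⟨Module.finrank F S.V, Module.finBasis F S.V, Module.finBasisOfFinrankEq F S'.V hd, ?_⟩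
  have h1 := UNITDISC.isSquare_det_mul S.B S.g h.symm h.nondeg h.isom hu2 (Module.finBasis F S.V)
  have h2 := UNITDISC.isSquare_det_mul S'.B S'.g h'.symm h'.nondeg h'.isom hu2'
    (Module.finBasisOfFinrankEq F S'.V hd)
  rw [hgg', hg', hdet, hdet] at h2
  have hD : LinearMap.det S.g * LinearMap.det (S.g * S.g - 1) ≠ 0 := by
    have hgu : IsUnit S.g := by
      rw [Module.End.isUnit_iff]
      have hinj : Function.Injective S.g := by
        rw [← LinearMap.ker_eq_bot, LinearMap.ker_eq_bot']
        intro m hm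
        by_contra hm0
        obtain ⟨v, -, hv⟩ := h.nondeg m trivial hm0
        apply hv
        rw [← h.isom, hm]
        simp
      exact ⟨hinj, LinearMap.surjective_of_injective hinj⟩
    exact mul_ne_zero (hgu.map LinearMap.det).ne_zero (hu2.map LinearMap.det).ne_zero
  obtain ⟨a, ha⟩ := h1
  obtain ⟨a', ha'⟩ := h2
  refine ⟨a * a' / (LinearMap.det S.g * LinearMap.det (S.g * S.g - 1)), ?_⟩
  rw [div_mul_div_comm, eq_div_iff (mul_ne_zero hD hD)]
  have : ∀ p q D : F, p * D = a * a → q * D = a' * a' →
      p * q * (D * D) = a * a' * (a * a') := by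
    intro p q D hp hq
    have : p * q * (D * D) = (p * D) * (q * D) := by ring
    rw [this, hp, hq]
    ring
  exact this _ _ _ ha ha'

end DISC

end Cfsg.Agent.S2558P
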