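import Mathlib
import Cfsg.Agent.Helper28.Spin5

/-! S2560 chapter (S), algebra half of piece THNEGCORE (helper7): for an orthogonal basis `bu` of a subspace `A`, the
product of the norms `Q (bu i)` is the Gram determinant of `bu`, hence equal to the Gram determinant of any other basis
of `A` up to a square. -/

set_option autoImplicit false
set_option linter.unusedSectionVars false

namespace Cfsg.Agent.S2560P

open Cfsg.Agent.Helper28.Spin

namespace THNEGALG

variable {F : Type*} [Field F] [Fintype F] {ι : Type} [Fintype ι] [DecidableEq ι]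

/-- the list of the vectors of a family of nonsingular vectors -/
noncomputable def nsList (Q : QuadraticForm F (ι → F)) {m : ℕ} (u : Fin m → ι → F)
    (hne : ∀ i, Q (u i) ≠ 0) : List (NS Q) :=
  (List.finRange m).map (fun i => (⟨u i, hne i⟩ : NS Q))

theorem nsList_length (Q : QuadraticForm F (ι → F)) {m : ℕ} (u : Fin m → ι → F)
    (hne : ∀ i, Q (u i) ≠ 0) : (nsList Q u hne).length = m := by
  unfold nsList
  rw [List.length_map, List.length_finRange]

theorem normProd_nsList (Q : QuadraticForm F (ι → F)) {m : ℕ} (u : Fin m → ι → F)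
    (hne : ∀ i, Q (u i) ≠ 0) : normProd Q (nsList Q u hne) = ∏ i, Q (u i) := by
  unfold normProd nsList
  rw [List.map_map, ← List.ofFn_eq_map, List.prod_ofFn]
  rfl

/-- change of basis for the Gram determinant -/
theorem det_gram_change {V : Type*} [AddCommGroup V] [Module F V] {κ : Type*} [Fintype κ]
    [DecidableEq κ] (B : LinearMap.BilinForm F V) (b c : Module.Basis κ F V) :
    (LinearMap.BilinForm.toMatrix c B).det =
      (b.toMatrix c).det ^ 2 * (LinearMap.BilinForm.toMatrix b B).det := by
  rw [← LinearMap.BilinForm.toMatrix_mul_basis_toMatrix (b := b) c B, Matrix.det_mul, Matrix.det_mul,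
    Matrix.det_transpose]
  ring

/-- the Gram determinant of an orthogonal basis is the product of the norms -/
theorem det_gram_orth {V : Type*} [AddCommGroup V] [Module F V] {m : ℕ}
    (B : LinearMap.BilinForm F V) (bu : Module.Basis (Fin m) F V)
    (horth : ∀ i j, i ≠ j → B (bu i) (bu j) = 0) :
    (LinearMap.BilinForm.toMatrix bu B).det = ∏ i, B (bu i) (bu i) := by
  have h : LinearMap.BilinForm.toMatrix bu B = Matrix.diagonal (fun i => B (bu i) (bu i)) := by
    ext i j
    rw [LinearMap.BilinForm.toMatrix_apply]
    by_cases hij : i = j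
    · subst hij; rw [Matrix.diagonal_apply_eq]
    · rw [Matrix.diagonal_apply_ne _ hij, horth i j hij]
  rw [h, Matrix.det_diagonal]

/-- **THNEGALG** -/
theorem isSquare_normProd_mul (Q : QuadraticForm F (ι → F)) (B : LinearMap.BilinForm F (ι → F))
    (hQ : ∀ v, Q v = B v v) (A : Submodule F (ι → F)) {m : ℕ} (bv bu : Module.Basis (Fin m) F A)
    (horth : ∀ i j, i ≠ j → B (bu i : ι → F) (bu j : ι → F) = 0)
    (hne : ∀ i, Q (bu i : ι → F) ≠ 0) :
    IsSquare (normProd Q (nsList Q (fun i => (bu i : ι → F)) hne) *
      (LinearMap.BilinForm.toMatrix bv (B.restrict A)).det) := by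
  rw [normProd_nsList]
  have h1 : ∏ i, Q (bu i : ι → F) = (LinearMap.BilinForm.toMatrix bu (B.restrict A)).det := by
    rw [det_gram_orth (B.restrict A) bu (fun i j hij => horth i j hij)]
    apply Finset.prod_congr rfl
    intro i _
    rw [hQ]
    rfl
  rw [h1, det_gram_change (B.restrict A) bv bu]
  refine ⟨(bv.toMatrix bu).det * (LinearMap.BilinForm.toMatrix bv (B.restrict A)).det, ?_⟩
  ring

end THNEGALG

end Cfsg.Agent.S2560P
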