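import Mathlib
import Cfsg.Agent.Helper17.S2558GDefs
import Cfsg.Agent.Helper28.Spin5
import Cfsg.Agent.Helper7.S2560THNEGALG

/-! S2560 chapter (S), piece THNEGCORE (hedge by helper7): an isometry which is `-1` on a nondegenerate subspace and `1` on
its orthogonal complement is the product of the reflections in an orthogonal basis of the subspace. -/

set_option autoImplicit false
set_option linter.unusedSectionVars false

namespace Cfsg.Agent.S2560P

open Matrix Polynomial Cfsg.Agent.Helper2.SympInvol Cfsg.Agent.S2676P Cfsg.Agent.S2478P Cfsg.Agent.S2481P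
  Cfsg.Agent.S2482P Cfsg.Agent.S2558P Cfsg.Agent.Helper28.Spin

universe u

variable {F : Type u} [Field F] [Fintype F] {ι : Type} [Fintype ι] [DecidableEq ι]

namespace THNEGCOREH7

/-- the polar form of `Q` is `2 B` -/
theorem polar_eq (Q : QuadraticForm F (ι → F)) (B : LinearMap.BilinForm F (ι → F))
    (hQB : IsPolar ⇑Q B) (a b : ι → F) : QuadraticMap.polar ⇑Q a b = 2 * B a b := by
  unfold QuadraticMap.polar
  rw [hQB.eq, hQB.eq, hQB.eq]
  simp only [map_add, LinearMap.add_apply]
  rw [hQB.symm b a]
  ring

/-- a product of reflections fixes a vector orthogonal to all their centres -/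
theorem prod_refl_fix (Q : QuadraticForm F (ι → F)) {k : ℕ} (u : Fin k → ι → F) (c : ι → F)
    (hc : ∀ i, QuadraticMap.polar ⇑Q (u i) c = 0) (l : List (Fin k)) :
    (l.map (fun i => Cfsg.reflectionMatrix ⇑Q (u i))).prod *ᵥ c = c := by
  induction l with
  | nil => simp
  | cons i l ih =>
    rw [List.map_cons, List.prod_cons, ← Matrix.mulVec_mulVec, ih, refl_fix Q (hc i)]

/-- linear independence from an invertible Gram matrix -/
theorem linearIndependent_of_gram (B : LinearMap.BilinForm F (ι → F)) {m : ℕ} (v : Fin m → ι → F)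
    (hd : (Matrix.of fun i j => B (v i) (v j)).det ≠ 0) : LinearIndependent F v := by
  rw [Fintype.linearIndependent_iff]
  intro c hc
  have h : Matrix.vecMul c (Matrix.of fun i j => B (v i) (v j)) = 0 := by
    funext j
    simp only [Matrix.vecMul, dotProduct, Matrix.of_apply, Pi.zero_apply]
    have := congrArg (fun w => B w (v j)) hc
    simp only [map_sum, map_smul, LinearMap.sum_apply, LinearMap.smul_apply, smul_eq_mul,
      map_zero, LinearMap.zero_apply] at this
    exact this
  have := Matrix.eq_zero_of_vecMul_eq_zero hd h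
  intro i
  exact congrFun this i

end THNEGCOREH7

open THNEGCOREH7

theorem THNEGCOREH7.exists_prodO (h2 : (2 : F) ≠ 0) (Q : QuadraticForm F (ι → F))
    (B : LinearMap.BilinForm F (ι → F)) (hQB : IsPolar ⇑Q B) (m : ℕ) (v : Fin m → ι → F)
    (hd : (Matrix.of fun i j => B (v i) (v j)).det ≠ 0) (x : Cfsg.isometryGroup F ⇑Q)
    (hx : ∀ i, Matrix.toLin' ((x : Matrix.GeneralLinearGroup ι F) : Matrix ι ι F) (v i) = - v i)
    (hxo : ∀ u, (∀ i, B u (v i) = 0) →
      Matrix.toLin' ((x : Matrix.GeneralLinearGroup ι F) : Matrix ι ι F) u = u) :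
    ∃ L : List (NS Q), x = prodO Q L ∧ L.length = m ∧
      IsSquare (normProd Q L * (Matrix.of fun i j => B (v i) (v j)).det) := by
  classical
  have : Invertible (2 : F) := invertibleOfNonzero h2
  have hli := linearIndependent_of_gram B v hd
  set A : Submodule F (ι → F) := Submodule.span F (Set.range v) with hA
  let bv : Module.Basis (Fin m) F A := Module.Basis.span hli
  have hbv : ∀ i, (bv i : ι → F) = v i := fun i => congrArg Subtype.val (Module.Basis.span_apply hli i)
  have hgram : LinearMap.BilinForm.toMatrix bv (B.restrict A) =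
      Matrix.of fun i j => B (v i) (v j) := by
    ext i j
    rw [LinearMap.BilinForm.toMatrix_apply, Matrix.of_apply]
    show B (bv i : ι → F) (bv j : ι → F) = _
    rw [hbv, hbv]
  have hnd : (B.restrict A).Nondegenerate :=
    LinearMap.BilinForm.nondegenerate_of_det_ne_zero (B.restrict A) bv (by rw [hgram]; exact hd)
  have hS : LinearMap.IsSymm (B.restrict A) :=
    ⟨fun a b => by rw [RingHom.id_apply]; exact hQB.symm _ _⟩
  obtain ⟨bu0, hbu0⟩ := LinearMap.BilinForm.exists_orthogonal_basis hS
  have hfin : Module.finrank F A = m := by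
    rw [finrank_span_eq_card hli, Fintype.card_fin]
  let bu : Module.Basis (Fin m) F A := bu0.reindex (finCongr hfin)
  have hbu : ∀ i, bu i = bu0 ((finCongr hfin).symm i) := fun i => Module.Basis.reindex_apply _ _ i
  have horth : ∀ i j, i ≠ j → B (bu i : ι → F) (bu j : ι → F) = 0 := by
    intro i j hij
    rw [hbu, hbu]
    exact hbu0 (fun h => hij ((finCongr hfin).symm.injective h))
  have hne : ∀ i, Q (bu i : ι → F) ≠ 0 := by
    intro i
    rw [hQB.eq, hbu]
    exact LinearMap.BilinForm.iIsOrtho.not_isOrtho_basis_self_of_nondegenerate (B := B.restrict A)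
      hbu0 hnd _
  refine ⟨THNEGALG.nsList Q (fun i => (bu i : ι → F)) hne, ?_, THNEGALG.nsList_length Q _ hne, ?_⟩
  · -- the two isometries agree
    apply Subtype.ext
    apply Units.ext
    rw [prodO_val]
    have hmap : (THNEGALG.nsList Q (fun i => (bu i : ι → F)) hne).map
        (fun w => Cfsg.reflectionMatrix ⇑Q w.1) =
        (List.finRange m).map (fun i => Cfsg.reflectionMatrix ⇑Q (bu i : ι → F)) := by
      unfold THNEGALG.nsList
      rw [List.map_map]
      rfl
    rw [hmap]
    set P := ((List.finRange m).map (fun i => Cfsg.reflectionMatrix ⇑Q (bu i : ι → F))).prod with hP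
    apply Matrix.toLin'.injective
    apply LinearMap.ext
    intro w
    -- decompose `w`
    have hcompl : IsCompl A (B.orthogonal A) :=
      LinearMap.BilinForm.isCompl_orthogonal_of_restrict_nondegenerate
        (LinearMap.IsSymm.isRefl ⟨fun a b => by rw [RingHom.id_apply]; exact hQB.symm _ _⟩) hnd
    have hw : w ∈ A ⊔ B.orthogonal A := by rw [hcompl.sup_eq_top]; trivial
    obtain ⟨a, ha, c, hc, rfl⟩ := Submodule.mem_sup.1 hw
    rw [map_add, map_add]
    -- on `A`
    have hxA : ∀ a ∈ A, Matrix.toLin' ((x : Matrix.GeneralLinearGroup ι F) : Matrix ι ι F) a = -a := by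
      intro a ha
      induction ha using Submodule.span_induction with
      | mem y hy =>
        obtain ⟨i, rfl⟩ := hy
        exact hx i
      | zero => simp
      | add y z _ _ hy hz => rw [map_add, hy, hz, neg_add]
      | smul r y _ hy => rw [map_smul, hy, smul_neg]
    have hPu : ∀ j, Matrix.toLin' P (bu j : ι → F) = -(bu j : ι → F) := by
      intro j
      rw [Matrix.toLin'_apply, hP, prod_refl_apply Q (fun i => (bu i : ι → F)) hne
        (fun i j hij => by rw [polar_eq Q B hQB, horth i j hij, mul_zero]) _
        (List.nodup_finRange m) j, if_pos (List.mem_finRange j)]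
    have hPA : ∀ a : A, Matrix.toLin' P (a : ι → F) = -(a : ι → F) := by
      intro a
      have h := bu.sum_repr a
      have h' : (a : ι → F) = ∑ i, bu.repr a i • (bu i : ι → F) := by
        have h1 := congrArg (A.subtype) h
        rw [map_sum] at h1
        simp only [map_smul, Submodule.subtype_apply] at h1
        exact h1.symm
      rw [h']
      simp only [map_sum, map_smul, hPu, smul_neg, Finset.sum_neg_distrib]
    have hPA' := hPA ⟨a, ha⟩
    rw [hxA a ha, hPA']
    -- on the orthogonal complement
    have hcv : ∀ i, B c (v i) = 0 := by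
      intro i
      rw [hQB.symm]
      exact hc (v i) (Submodule.subset_span ⟨i, rfl⟩)
    have hcu : ∀ i, QuadraticMap.polar ⇑Q (bu i : ι → F) c = 0 := by
      intro i
      rw [polar_eq Q B hQB]
      have : B (bu i : ι → F) c = 0 := hc _ (bu i).2
      rw [this, mul_zero]
    rw [hxo c hcv, Matrix.toLin'_apply, hP, prod_refl_fix Q _ c hcu]
  · have := THNEGALG.isSquare_normProd_mul Q B hQB.eq A bv bu horth hne
    rwa [hgram] at this

end Cfsg.Agent.S2560P
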