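import Mathlib
import Cfsg.Agent.Helper7.S2647.Defs
import Cfsg.Agent.Helper24.S2647NF

set_option autoImplicit false
set_option linter.unusedSectionVars false
set_option linter.unusedVariables false

/-! # S2647 piece CONJ: the calculus of `dg ε * pm π` (from helper24's `NF` copies) -/

namespace Cfsg.Agent.S2647P

variable {F : Type*} [Field F]

theorem pm_dg_conj (π : Equiv.Perm J) (ε : J → ℤˣ) :
    pm F π * dg F ε * (pm F π)⁻¹ = dg F (fun j => ε (π⁻¹ j)) := NF.pm_dg_conj' π ε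

theorem dg_pm_mul (ε ε' : J → ℤˣ) (π π' : Equiv.Perm J) :
    (dg F ε * pm F π) * (dg F ε' * pm F π') = dg F (fun j => ε j * ε' (π⁻¹ j)) * pm F (π * π') :=
  NF.dg_pm_mul' ε ε' π π'

theorem dg_pm_inv (ε : J → ℤˣ) (π : Equiv.Perm J) :
    (dg F ε * pm F π)⁻¹ = dg F (fun j => ε (π j)) * pm F π⁻¹ := NF.dg_pm_inv' ε π

end Cfsg.Agent.S2647P
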