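import Mathlib
import Cfsg.Agent.Helper7.S2647.Defs

set_option autoImplicit false
set_option linter.unusedSectionVars false
set_option linter.unusedVariables false

/-! # S2647 piece DINV: the involutions of `D8` -/

namespace Cfsg.Agent.S2647P

namespace DINV

theorem e2 : rD ^ 2 = Equiv.swap p0 p2 * Equiv.swap p1 p3 := by decide
theorem e4 : sD = Equiv.swap p0 p2 * Equiv.swap p4 p5 := rfl
theorem e5 : rD * sD = Equiv.swap p0 p3 * Equiv.swap p1 p2 := by decide
theorem e6 : rD ^ 2 * sD = Equiv.swap p1 p3 * Equiv.swap p4 p5 := by decide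
theorem e7 : rD ^ 3 * sD = Equiv.swap p0 p1 * Equiv.swap p2 p3 := by decide
theorem n1 : ¬ (rD * rD = 1) := by decide
theorem n3 : ¬ (rD ^ 3 * rD ^ 3 = 1) := by decide

theorem sign_rD : Equiv.Perm.sign rD = 1 := by
  simp [rD, Equiv.Perm.sign_mul, Equiv.Perm.sign_swap']

theorem sign_sD : Equiv.Perm.sign sD = 1 := by
  simp [sD, Equiv.Perm.sign_mul, Equiv.Perm.sign_swap']

theorem inv_mem : ∀ σ ∈ Dl, σ * σ = 1 → σ ∈ Subgroup.closure {σ : Equiv.Perm J | σ ∈ Dp ∧ σ * σ = 1} := by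
  intro σ hσ h
  exact Subgroup.subset_closure ⟨hσ, h⟩

end DINV

open DINV in
theorem Dp_le_alternating : Dp ≤ alternatingGroup J := by
  intro σ hσ
  rw [mem_Dp] at hσ
  rw [Equiv.Perm.mem_alternatingGroup]
  simp only [Dl, List.mem_cons, List.mem_nil_iff, or_false] at hσ
  rcases hσ with rfl | rfl | rfl | rfl | rfl | rfl | rfl | rfl <;>
    simp [map_mul, map_pow, sign_rD, sign_sD]

open DINV in
theorem Dp_involution_form (σ : Equiv.Perm J) (hσ : σ ∈ Dp) (h1 : σ ≠ 1) (h2 : σ * σ = 1) :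
    ∃ i j k l : J, i ≠ j ∧ i ≠ k ∧ i ≠ l ∧ j ≠ k ∧ j ≠ l ∧ k ≠ l ∧
      σ = Equiv.swap i j * Equiv.swap k l := by
  rw [mem_Dp] at hσ
  simp only [Dl, List.mem_cons, List.mem_nil_iff, or_false] at hσ
  rcases hσ with rfl | rfl | rfl | rfl | rfl | rfl | rfl | rfl
  · exact absurd rfl h1
  · exact absurd h2 n1
  · exact ⟨p0, p2, p1, p3, by decide, by decide, by decide, by decide, by decide, by decide, e2⟩
  · exact absurd h2 n3
  · exact ⟨p0, p2, p4, p5, by decide, by decide, by decide, by decide, by decide, by decide, e4⟩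
  · exact ⟨p0, p3, p1, p2, by decide, by decide, by decide, by decide, by decide, by decide, e5⟩
  · exact ⟨p1, p3, p4, p5, by decide, by decide, by decide, by decide, by decide, by decide, e6⟩
  · exact ⟨p0, p1, p2, p3, by decide, by decide, by decide, by decide, by decide, by decide, e7⟩

open DINV in
theorem Dp_le_closure_involutions :
    Dp ≤ Subgroup.closure {σ : Equiv.Perm J | σ ∈ Dp ∧ σ * σ = 1} := by
  have hs : sD ∈ Subgroup.closure {σ : Equiv.Perm J | σ ∈ Dp ∧ σ * σ = 1} :=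
    inv_mem sD (by decide) (by decide)
  have h5 : rD * sD ∈ Subgroup.closure {σ : Equiv.Perm J | σ ∈ Dp ∧ σ * σ = 1} :=
    inv_mem _ (by decide) (by decide)
  have hr : rD ∈ Subgroup.closure {σ : Equiv.Perm J | σ ∈ Dp ∧ σ * σ = 1} := by
    have : rD = (rD * sD) * sD := by decide
    rw [this]
    exact Subgroup.mul_mem _ h5 hs
  intro σ hσ
  rw [mem_Dp] at hσ
  simp only [Dl, List.mem_cons, List.mem_nil_iff, or_false] at hσ
  rcases hσ with rfl | rfl | rfl | rfl | rfl | rfl | rfl | rfl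
  · exact Subgroup.one_mem _
  · exact hr
  · exact Subgroup.pow_mem _ hr 2
  · exact Subgroup.pow_mem _ hr 3
  · exact hs
  · exact h5
  · exact Subgroup.mul_mem _ (Subgroup.pow_mem _ hr 2) hs
  · exact Subgroup.mul_mem _ (Subgroup.pow_mem _ hr 3) hs

end Cfsg.Agent.S2647P
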