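import Mathlib
import Cfsg.Agent.Helper7.S2647.Defs
import Cfsg.Agent.Helper22.S2647REFL

set_option autoImplicit false
set_option linter.unusedSectionVars false
set_option linter.unusedVariables false

/-! # S2647 piece HAD: a double transposition is `Ω`-conjugate to a diagonal element -/

namespace Cfsg.Agent.S2647P

open Matrix Cfsg.Agent.Helper28.IsoTransport Cfsg.Agent.Helper28.Spin

variable {F : Type*} [Field F]

namespace HAD

theorem exists_fifth (i j k l : J) : ∃ m : J, m ≠ i ∧ m ≠ j ∧ m ≠ k ∧ m ≠ l := by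
  classical
  by_contra h
  push Not at h
  have h1 : (Finset.univ : Finset J) ⊆ {i, j, k, l} := by
    intro m _
    simp only [Finset.mem_insert, Finset.mem_singleton]
    by_cases hi : m = i
    · exact Or.inl hi
    by_cases hj : m = j
    · exact Or.inr (Or.inl hj)
    by_cases hk : m = k
    · exact Or.inr (Or.inr (Or.inl hk))
    exact Or.inr (Or.inr (Or.inr (h m hi hj hk)))
  have h2 := Finset.card_le_card h1
  have h3 : (Finset.univ : Finset J).card = 7 := by decide
  have h4 : ({i, j, k, l} : Finset J).card ≤ 4 := Finset.card_le_four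
  omega

/-- the standard basis vectors -/
abbrev e (a : J) : J → F := Pi.single a 1

theorem reflO_congr' {a b : J → F} (ha : Qd F a ≠ 0) (hb : Qd F b ≠ 0) (h : a = b) :
    reflO (Qd F) a ha = reflO (Qd F) b hb := by
  subst h; rfl

/-- the dot product against a combination of basis vectors -/
theorem sum4 (i j k l : J) (x : J → F) :
    ∑ a, (e i - e j - e k - e l : J → F) a * x a = x i - x j - x k - x l := by
  have : ∀ a, (e i - e j - e k - e l : J → F) a * x a =
      (e i : J → F) a * x a - (e j : J → F) a * x a - (e k : J → F) a * x a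
        - (e l : J → F) a * x a := by
    intro a
    simp only [Pi.sub_apply]
    ring
  simp only [this, Finset.sum_sub_distrib, REFL.sum_single_mul]

theorem sum2p (k l : J) (x : J → F) :
    ∑ a, (e k + e l : J → F) a * x a = x k + x l := by
  have : ∀ a, (e k + e l : J → F) a * x a = (e k : J → F) a * x a + (e l : J → F) a * x a := by
    intro a
    simp only [Pi.add_apply]
    ring
  simp only [this, Finset.sum_add_distrib, REFL.sum_single_mul]

theorem two_mem' : ∀ k l : J, k ≠ l →
    ∏ j, Function.update (Function.update (1 : J → ℤˣ) k (-1)) l (-1) j = 1 := by decide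

theorem four_ne_zero' (h2 : (2 : F) ≠ 0) : (4 : F) ≠ 0 := by
  have : (4 : F) = 2 * 2 := by norm_num
  rw [this]
  exact mul_ne_zero h2 h2

end HAD

open HAD in
theorem exists_conj_swap_swap [Fintype F] (h2 : (2 : F) ≠ 0) (i j k l : J) (hij : i ≠ j)
    (hik : i ≠ k) (hil : i ≠ l) (hjk : j ≠ k) (hjl : j ≠ l) (hkl : k ≠ l) :
    ∃ g ∈ Omd F, ∃ ε ∈ Ev, g * pm F (Equiv.swap i j * Equiv.swap k l) * g⁻¹ = dg F ε := by
  classical
  obtain ⟨m, hmi, hmj, hmk, hml⟩ := exists_fifth i j k l
  have h4 := four_ne_zero' h2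
  set w : J → F := e i - e j - e k - e l with hw
  -- values of `Qd`
  have hQw : Qd F w = -4 := by
    rw [Qd_apply, hw, sum4]
    simp only [Pi.sub_apply, Pi.single_eq_same, Pi.single_eq_of_ne hij, Pi.single_eq_of_ne hik,
      Pi.single_eq_of_ne hil, Pi.single_eq_of_ne hij.symm, Pi.single_eq_of_ne hjk,
      Pi.single_eq_of_ne hjl, Pi.single_eq_of_ne hik.symm, Pi.single_eq_of_ne hjk.symm,
      Pi.single_eq_of_ne hkl, Pi.single_eq_of_ne hil.symm, Pi.single_eq_of_ne hjl.symm,
      Pi.single_eq_of_ne hkl.symm]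
    ring
  have hQw' : Qd F w ≠ 0 := by rw [hQw]; exact neg_ne_zero.mpr h4
  have hQm : Qd F (e m) = -1 := Qd_single m
  have hQm' : Qd F (e m) ≠ 0 := by rw [hQm]; exact neg_ne_zero.mpr one_ne_zero
  have hQp : Qd F (e k + e l) = -2 := by
    rw [Qd_apply, sum2p]
    simp only [Pi.add_apply, Pi.single_eq_same, Pi.single_eq_of_ne hkl,
      Pi.single_eq_of_ne hkl.symm]
    ring
  have hQp' : Qd F (e k + e l) ≠ 0 := by rw [hQp]; exact neg_ne_zero.mpr h2
  have hQij : Qd F (e i - e j) ≠ 0 := by
    rw [Qd_single_sub i j hij]; exact neg_ne_zero.mpr h2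
  have hQkl : Qd F (e k - e l) ≠ 0 := by
    rw [Qd_single_sub k l hkl]; exact neg_ne_zero.mpr h2
  set g : Od F := reflO (Qd F) w hQw' * reflO (Qd F) (e m) hQm' with hg
  -- `g ∈ Ω`
  have hgO : g ∈ Omd F := by
    rw [spinor_criterion (Qd F) h2 g [w, e m] (by
      intro v hv
      simp only [List.mem_cons, List.mem_nil_iff, or_false] at hv
      rcases hv with rfl | rfl
      · exact hQw'
      · exact hQm') (by
      simp only [List.map_cons, List.map_nil, List.prod_cons, List.prod_nil, mul_one]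
      rfl)]
    refine ⟨⟨1, rfl⟩, ?_⟩
    simp only [List.map_cons, List.map_nil, List.prod_cons, List.prod_nil, mul_one]
    rw [hQw, hQm]
    exact ⟨2, by ring⟩
  -- the action of `g` on the two roots
  have hgv : ∀ v : J → F, (((g : Od F) : GL J F) : Matrix J J F) *ᵥ v
      = Cfsg.reflectionMatrix ⇑(Qd F) w *ᵥ (Cfsg.reflectionMatrix ⇑(Qd F) (e m) *ᵥ v) := by
    intro v
    rw [Matrix.mulVec_mulVec]
    rfl
  have hg1 : (((g : Od F) : GL J F) : Matrix J J F) *ᵥ (e i - e j) = e k + e l := by
    have hin : Cfsg.reflectionMatrix ⇑(Qd F) (e m) *ᵥ (e i - e j : J → F) = e i - e j := by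
      rw [refl_mulVec, REFL.polar_Qd, REFL.sum_single_mul]
      simp only [Pi.sub_apply, Pi.single_eq_of_ne hmi, Pi.single_eq_of_ne hmj, sub_zero, mul_zero,
        neg_zero, zero_smul]
    rw [hgv, hin, refl_mulVec, REFL.polar_Qd, hQw, hw, sum4]
    simp only [Pi.sub_apply, Pi.single_eq_same, Pi.single_eq_of_ne hij,
      Pi.single_eq_of_ne hij.symm, Pi.single_eq_of_ne hik.symm, Pi.single_eq_of_ne hjk.symm,
      Pi.single_eq_of_ne hil.symm, Pi.single_eq_of_ne hjl.symm]
    have : ((-4 : F))⁻¹ * -(2 * (1 - 0 - (0 - 1) - (0 - 0) - (0 - 0))) = 1 := by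
      field_simp
      ring
    rw [this, one_smul]
    abel
  have hg2 : (((g : Od F) : GL J F) : Matrix J J F) *ᵥ (e k - e l) = e k - e l := by
    have hin : Cfsg.reflectionMatrix ⇑(Qd F) (e m) *ᵥ (e k - e l : J → F) = e k - e l := by
      rw [refl_mulVec, REFL.polar_Qd, REFL.sum_single_mul]
      simp only [Pi.sub_apply, Pi.single_eq_of_ne hmk, Pi.single_eq_of_ne hml, sub_zero, mul_zero,
        neg_zero, zero_smul]
    rw [hgv, hin, refl_mulVec, REFL.polar_Qd, hQw, hw, sum4]
    simp only [Pi.sub_apply, Pi.single_eq_same, Pi.single_eq_of_ne hik, Pi.single_eq_of_ne hil,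
      Pi.single_eq_of_ne hjk, Pi.single_eq_of_ne hjl, Pi.single_eq_of_ne hkl,
      Pi.single_eq_of_ne hkl.symm]
    have : ((-4 : F))⁻¹ * -(2 * (0 - 0 - (0 - 0) - (1 - 0) - (0 - 1))) = 0 := by
      ring
    rw [this, zero_smul, sub_zero]
  -- conjugating the two reflections
  have hc1 : g * reflO (Qd F) (e i - e j) hQij * g⁻¹ = reflO (Qd F) (e k + e l) hQp' := by
    have hv' : Qd F ((((g : Od F) : GL J F) : Matrix J J F) *ᵥ (e i - e j)) ≠ 0 := by
      rw [hg1]; exact hQp'
    rw [← reflO_conj (Qd F) g (e i - e j) hQij hv']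
    exact reflO_congr' _ _ hg1
  have hc2 : g * reflO (Qd F) (e k - e l) hQkl * g⁻¹ = reflO (Qd F) (e k - e l) hQkl := by
    have hv' : Qd F ((((g : Od F) : GL J F) : Matrix J J F) *ᵥ (e k - e l)) ≠ 0 := by
      rw [hg2]; exact hQkl
    rw [← reflO_conj (Qd F) g (e k - e l) hQkl hv']
    exact reflO_congr' _ _ hg2
  refine ⟨g, hgO, Function.update (Function.update (1 : J → ℤˣ) k (-1)) l (-1), ?_, ?_⟩
  · rw [mem_Ev]
    exact two_mem' k l hkl
  · rw [map_mul, pm_swap_eq_reflO h2 i j hij hQij, pm_swap_eq_reflO h2 k l hkl hQkl]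
    have h5 : g * (reflO (Qd F) (e i - e j) hQij * reflO (Qd F) (e k - e l) hQkl) * g⁻¹
        = (g * reflO (Qd F) (e i - e j) hQij * g⁻¹) * (g * reflO (Qd F) (e k - e l) hQkl * g⁻¹) := by
      group
    rw [h5, hc1, hc2]
    -- the product of the two reflections is diagonal
    apply Subtype.ext
    apply Units.ext
    apply matrix_ext_mulVec
    intro x
    show (Cfsg.reflectionMatrix ⇑(Qd F) (e k + e l) * Cfsg.reflectionMatrix ⇑(Qd F) (e k - e l)) *ᵥ x
      = dgM F _ *ᵥ x
    rw [← Matrix.mulVec_mulVec, dgM_mulVec]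
    have h6 : Cfsg.reflectionMatrix ⇑(Qd F) (e k - e l) *ᵥ x = fun a => x ((Equiv.swap k l)⁻¹ a) := by
      have h7 := pm_mulVec F (Equiv.swap k l) x
      rw [← h7, pm_swap_eq_reflO h2 k l hkl hQkl]
      rfl
    rw [h6, refl_mulVec, REFL.polar_Qd, hQp, sum2p, Equiv.swap_inv, Equiv.swap_apply_left,
      Equiv.swap_apply_right]
    funext a
    simp only [Pi.sub_apply, Pi.smul_apply, Pi.add_apply, smul_eq_mul]
    unfold e
    by_cases hak : a = k
    · subst hak
      rw [Equiv.swap_apply_left, Pi.single_eq_same, Pi.single_eq_of_ne hkl,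
        Function.update_of_ne hkl, Function.update_self, sg_neg_one]
      field_simp
      ring
    · by_cases hal : a = l
      · subst hal
        rw [Equiv.swap_apply_right, Pi.single_eq_same, Pi.single_eq_of_ne hkl.symm,
          Function.update_self, sg_neg_one]
        field_simp
        ring
      · rw [Equiv.swap_apply_of_ne_of_ne hak hal, Pi.single_eq_of_ne hak, Pi.single_eq_of_ne hal,
          Function.update_of_ne hal, Function.update_of_ne hak, Pi.one_apply, sg_one]
        ring

end Cfsg.Agent.S2647P
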