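import Mathlib
import Cfsg.Agent.Helper7.S2647.Defs

set_option autoImplicit false
set_option linter.unusedSectionVars false
set_option linter.unusedVariables false

/-! # S2647 piece INJ: uniqueness of the normal form `dg ε * pm π` -/

namespace Cfsg.Agent.S2647P

open Matrix Cfsg.Agent.Helper28.IsoTransport Cfsg.Agent.Helper28.Spin

variable {F : Type*} [Field F]

namespace INJ

theorem sg_ne_zero (u : ℤˣ) : sg F u ≠ 0 := by
  intro h
  have := sg_mul_self F u
  rw [h, mul_zero] at this
  exact zero_ne_one this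

theorem sg_inj (h2 : (2 : F) ≠ 0) (u v : ℤˣ) (h : sg F u = sg F v) : u = v := by
  rcases Int.units_eq_one_or u with hu | hu <;> rcases Int.units_eq_one_or v with hv | hv
  · rw [hu, hv]
  · exfalso
    rw [hu, hv, sg_one, sg_neg_one] at h
    apply h2
    have : (2 : F) = 1 + 1 := by norm_num
    rw [this]
    nth_rewrite 1 [h]
    ring
  · exfalso
    rw [hu, hv, sg_one, sg_neg_one] at h
    apply h2
    have : (2 : F) = 1 + 1 := by norm_num
    rw [this]
    nth_rewrite 1 [← h]
    ring
  · rw [hu, hv]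

theorem mulVec_dg_pm (ε : J → ℤˣ) (π : Equiv.Perm J) (x : J → F) :
    (((dg F ε * pm F π : Od F) : GL J F) : Matrix J J F) *ᵥ x
      = fun i => sg F (ε i) * x (π⁻¹ i) := by
  have h1 : (((dg F ε * pm F π : Od F) : GL J F) : Matrix J J F)
      = (((dg F ε : Od F) : GL J F) : Matrix J J F) * (((pm F π : Od F) : GL J F) : Matrix J J F) :=
    rfl
  rw [h1, ← Matrix.mulVec_mulVec, pm_mulVec, dg_mulVec]

end INJ

open INJ in
theorem dg_pm_inj (h2 : (2 : F) ≠ 0) (ε ε' : J → ℤˣ) (π π' : Equiv.Perm J)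
    (h : dg F ε * pm F π = dg F ε' * pm F π') : ε = ε' ∧ π = π' := by
  classical
  have key : ∀ (x : J → F) (i : J), sg F (ε i) * x (π⁻¹ i) = sg F (ε' i) * x (π'⁻¹ i) := by
    intro x i
    have h3 := congrArg (fun u : Od F => (((u : Od F) : GL J F) : Matrix J J F) *ᵥ x) h
    simp only [mulVec_dg_pm] at h3
    exact congrFun h3 i
  have hπ : π = π' := by
    ext j
    by_contra hne
    have h3 := key (Pi.single j 1) (π j)
    have h4 : π⁻¹ (π j) = j := by simp
    rw [h4, Pi.single_eq_same, mul_one] at h3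
    have h5 : π'⁻¹ (π j) ≠ j := by
      intro h6
      apply hne
      have : π' (π'⁻¹ (π j)) = π' j := by rw [h6]
      simpa using this
    rw [Pi.single_eq_of_ne h5, mul_zero] at h3
    exact sg_ne_zero _ h3
  refine ⟨?_, hπ⟩
  funext i
  have h3 := key (fun _ => 1) i
  simp only [mul_one] at h3
  exact sg_inj h2 _ _ h3

end Cfsg.Agent.S2647P
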