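import Mathlib
import Cfsg.Agent.Helper7.S2647.Defs

set_option autoImplicit false
set_option linter.unusedSectionVars false
set_option linter.unusedVariables false

/-! # S2647 piece MONO: an isometry of `Qd` normalising `E0` is monomial -/

namespace Cfsg.Agent.S2647P

open Matrix Cfsg.Agent.Helper28.IsoTransport Cfsg.Agent.Helper28.Spin

variable {F : Type*} [Field F]

namespace MONO

theorem exists_third : ∀ a b : J, ∃ c : J, c ≠ a ∧ c ≠ b := by decide

/-- the sign vector with `-1` at `a` and `c` -/
def two (a c : J) : J → ℤˣ := Function.update (Function.update 1 a (-1)) c (-1)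

theorem two_mem : ∀ a c : J, a ≠ c → two a c ∈ Ev := by
  intro a c hac
  rw [mem_Ev]
  revert a c
  decide

theorem two_left (a c : J) (hac : a ≠ c) : two a c a = -1 := by
  simp [two, Function.update_of_ne hac]

theorem two_other (a c b : J) (hba : b ≠ a) (hbc : b ≠ c) : two a c b = 1 := by
  simp [two, Function.update_of_ne hbc, Function.update_of_ne hba]

theorem sg_cases (u : ℤˣ) : sg F u = 1 ∨ sg F u = -1 := by
  rcases Int.units_eq_one_or u with h | h
  · left; rw [h, sg_one]
  · right; rw [h, sg_neg_one]

theorem one_ne_neg_one (h2 : (2 : F) ≠ 0) : (1 : F) ≠ -1 := by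
  intro h
  apply h2
  have : (2 : F) = 1 + 1 := by norm_num
  rw [this]
  nth_rewrite 1 [h]
  ring

end MONO

open MONO in
theorem monomial_of_normalizes (h2 : (2 : F) ≠ 0) (g : Od F)
    (h : ∀ ε ∈ Ev, g * dg F ε * g⁻¹ ∈ E0 F) (h' : ∀ ε ∈ Ev, g⁻¹ * dg F ε * g ∈ E0 F) :
    ∃ (ε : J → ℤˣ) (π : Equiv.Perm J), g = dg F ε * pm F π := by
  classical
  set A : Matrix J J F := ((g : GL J F) : Matrix J J F) with hA
  set B : Matrix J J F := (((g⁻¹ : Od F) : GL J F) : Matrix J J F) with hB
  have hBA : B * A = 1 := by
    have h1 : ((g⁻¹ : Od F) : GL J F) * (g : GL J F) = 1 := by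
      rw [← Subgroup.coe_mul, inv_mul_cancel]; rfl
    have h3 := congrArg (fun u : GL J F => (u : Matrix J J F)) h1
    rw [hA, hB]
    simpa only [Units.val_mul, Units.val_one] using h3
  -- the commutation relations
  have hcomm : ∀ ε' ∈ Ev, ∃ ε'' : J → ℤˣ, ∀ i j, sg F (ε' i) * A i j = A i j * sg F (ε'' j) := by
    intro ε' hε'
    obtain ⟨ε'', -, h3⟩ := h' ε' hε'
    refine ⟨ε'', ?_⟩
    have h4 : dg F ε' * g = g * dg F ε'' := by
      rw [h3]; group
    have h5 : dgM F ε' * A = A * dgM F ε'' := by
      have := congrArg (fun u : Od F => ((u : GL J F) : Matrix J J F)) h4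
      simpa [dg_val] using this
    intro i j
    have h6 := congrFun (congrFun h5 i) j
    rw [dgM_apply, dgM_apply, Matrix.diagonal_mul, Matrix.mul_diagonal] at h6
    exact h6
  -- each column has at most one non-zero entry
  have hcol : ∀ j a b, A a j ≠ 0 → A b j ≠ 0 → a = b := by
    intro j a b ha hb
    by_contra hab
    obtain ⟨c, hca, hcb⟩ := exists_third a b
    obtain ⟨ε'', h3⟩ := hcomm (two a c) (two_mem a c (Ne.symm hca))
    have h4 := h3 a j
    have h5 := h3 b j
    rw [two_left a c (Ne.symm hca), sg_neg_one] at h4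
    rw [two_other a c b (Ne.symm hab) (Ne.symm hcb), sg_one] at h5
    have h6 : sg F (ε'' j) = -1 := by
      have : A a j * sg F (ε'' j) = A a j * (-1) := by rw [← h4]; ring
      exact mul_left_cancel₀ ha this
    have h7 : sg F (ε'' j) = 1 := by
      have : A b j * sg F (ε'' j) = A b j * 1 := by rw [← h5]; ring
      exact mul_left_cancel₀ hb this
    exact one_ne_neg_one h2 (h7.symm.trans h6)
  -- each column has a non-zero entry
  have hex : ∀ j, ∃ i, A i j ≠ 0 := by
    intro j
    by_contra hno
    push Not at hno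
    have h3 := congrFun (congrFun hBA j) j
    rw [Matrix.mul_apply, Matrix.one_apply_eq] at h3
    have h4 : ∑ i, B j i * A i j = 0 := Finset.sum_eq_zero (fun i _ => by rw [hno i, mul_zero])
    rw [h4] at h3
    exact zero_ne_one h3
  choose p hp using hex
  have hzero : ∀ i j, i ≠ p j → A i j = 0 := by
    intro i j hij
    by_contra hne
    exact hij (hcol j i (p j) hne (hp j))
  -- `p` is injective
  have hpinj : Function.Injective p := by
    intro j k hjk
    by_contra hne
    have h3 := congrFun (congrFun hBA j) j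
    have h4 := congrFun (congrFun hBA j) k
    rw [Matrix.mul_apply, Matrix.one_apply_eq] at h3
    rw [Matrix.mul_apply, Matrix.one_apply_ne hne] at h4
    rw [Finset.sum_eq_single (p j) (fun i _ hi => by rw [hzero i j hi, mul_zero])
      (fun hi => absurd (Finset.mem_univ _) hi)] at h3
    rw [Finset.sum_eq_single (p k) (fun i _ hi => by rw [hzero i k hi, mul_zero])
      (fun hi => absurd (Finset.mem_univ _) hi)] at h4
    rw [← hjk] at h4
    have h5 : B j (p j) = 0 := by
      rcases mul_eq_zero.mp h4 with h5 | h5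
      · exact h5
      · rw [hjk] at h5; exact absurd h5 (hp k)
    rw [h5, zero_mul] at h3
    exact zero_ne_one h3
  have hpbij : Function.Bijective p := Finite.injective_iff_bijective.mp hpinj
  set π : Equiv.Perm J := Equiv.ofBijective p hpbij with hπ
  -- the non-zero entries are signs
  have hsq : ∀ j, A (p j) j * A (p j) j = 1 := by
    intro j
    have hg := (mem_isometryGroup_iff (⇑(Qd F)) (g : GL J F)).mp g.2 (Pi.single j 1)
    rw [Qd_apply, Qd_apply] at hg
    have h3 : (A *ᵥ (Pi.single j 1 : J → F)) = fun i => A i j := by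
      funext i
      rw [Matrix.mulVec_single_one]
      rfl
    rw [← hA, h3] at hg
    simp only at hg
    rw [Finset.sum_eq_single (p j) (fun i _ hi => by rw [hzero i j hi, mul_zero])
      (fun hi => absurd (Finset.mem_univ _) hi)] at hg
    rw [Finset.sum_eq_single j (fun i _ hi => by
        rw [Pi.single_apply, if_neg hi, mul_zero])
      (fun hi => absurd (Finset.mem_univ _) hi)] at hg
    rw [Pi.single_eq_same, mul_one] at hg
    exact neg_injective hg
  have hsign : ∀ j, ∃ u : ℤˣ, sg F u = A (p j) j := by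
    intro j
    have h3 : (A (p j) j - 1) * (A (p j) j + 1) = 0 := by
      have := hsq j
      ring_nf
      ring_nf at this
      rw [this]; ring
    rcases mul_eq_zero.mp h3 with h4 | h4
    · exact ⟨1, by rw [sg_one]; exact (sub_eq_zero.mp h4).symm⟩
    · exact ⟨-1, by rw [sg_neg_one]; exact (eq_neg_of_add_eq_zero_left h4).symm⟩
  choose u hu using hsign
  refine ⟨fun i => u (π⁻¹ i), π, ?_⟩
  apply Subtype.ext
  apply Units.ext
  show A = (((dg F (fun i => u (π⁻¹ i)) * pm F π : Od F) : GL J F) : Matrix J J F)
  have h3 : (((dg F (fun i => u (π⁻¹ i)) * pm F π : Od F) : GL J F) : Matrix J J F)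
      = dgM F (fun i => u (π⁻¹ i)) * (π⁻¹).permMatrix F := rfl
  rw [h3]
  ext i j
  rw [dgM_apply, Matrix.diagonal_mul, Equiv.Perm.permMatrix, PEquiv.toMatrix_toPEquiv_apply,
    Pi.single_apply]
  by_cases hij : j = π⁻¹ i
  · rw [if_pos hij, mul_one, hu]
    have h4 : p (π⁻¹ i) = i := by
      have : π (π⁻¹ i) = i := by simp
      exact this
    rw [h4, hij]
  · rw [if_neg hij, mul_zero]
    apply hzero
    intro hi
    apply hij
    have : π j = i := hi.symm
    rw [← this]
    simp

end Cfsg.Agent.S2647P
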