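import Mathlib
import Cfsg.Prelude.Def_LieTypeDatum
import Cfsg.Agent.Helper7.FieldPlus0

/-!
# S2715, piece C (helper7): odd-order field automorphisms, odd characteristic

Every class-preserving similarity of the plus form over `F` is, modulo scalars, an element of
`Ω(F)` times a class-preserving similarity defined over the fixed field of an automorphism of odd
order.
-/

set_option autoImplicit false
set_option linter.unusedSectionVars false
set_option linter.unusedVariables false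

namespace Cfsg.Agent.S2715P

open Module Submodule Matrix Cfsg.Agent.Helper28.QPlus Cfsg.Agent.Helper28.IDP
  Cfsg.Agent.Helper28.Spin Cfsg.Agent.Helper28.PG Cfsg.Agent.Helper28.FO
  Cfsg.Agent.Helper28.SSim Cfsg.Agent.Helper28.GC Cfsg.Agent.Helper28.Sg
  Cfsg.Agent.Helper28.PA Cfsg.Agent.Helper7.PlusF Cfsg.Agent.Helper7.PlusG
  Cfsg.Agent.Helper28.IsoTransport Cfsg.Agent.Helper7.FieldPlus
open Cfsg.Agent.Helper7.FieldPSL (FDesc)

variable {F : Type*} [Field F] {F₀ : Type*} [Field F₀] {m : ℕ}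

namespace ODD

/-- the class character of a diagonal similarity vanishes -/
theorem cls_of_diagM {K : Type*} [Field K] (d : ↥(GO (QfPlus m K))) (μ : K) (hμ : μ ≠ 0)
    (hd : gm d = diagM m μ) : cls d = 0 := by
  unfold cls
  rw [hd, diagM_E _ hμ]
  exact par_self isMax_E

/-- the case of a square multiplier -/
theorem cover_sq [Fintype F] [Fintype F₀] (E : FDesc F F₀) (h2F : (2 : F) ≠ 0) (hm : 3 ≤ m)
    (ν₀ : F₀) (hν0 : ν₀ ≠ 0) (hνF : ¬ IsSquare (E.j ν₀))
    (g : ↥(GO (QfPlus m F))) (hg : cls g = 0) (hsq : IsSquare (mu (QfPlus m F) g : F)) :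
    ∃ (t : ↥(Cfsg.isometryGroup F ⇑(QfPlus m F))) (k : ↥(GO (QfPlus m F₀))),
      t ∈ Cfsg.Omega F ⇑(QfPlus m F) ∧ cls k = 0 ∧
      cG (QfPlus m F) g =
        cAut (QfPlus m F) t * cG (QfPlus m F) (jGO E (compat_plus E m) k) := by
  classical
  have hQ := QfPlus_nondeg (F := F) m
  have hex := hex_plus (F := F) (m := m) (by omega)
  have hc := compat_plus E m
  obtain ⟨l, s, hgs⟩ := exists_scal_mul_of_isSquare (QfPlus m F) hex g hsq
  obtain ⟨L, rfl⟩ := Cfsg.Agent.Helper28.CDG.cd_list (QfPlus m F) h2F hQ s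
  have hlen : Even L.length := by
    rw [hgs, cls_mul, cls_scal, zero_add, cls_oGO_prodO] at hg
    exact ZMod.natCast_eq_zero_iff_even.1 hg
  have hcg : cG (QfPlus m F) g = cAut (QfPlus m F) (prodO (QfPlus m F) L) := by
    rw [hgs, map_mul, cG_scal, one_mul, cG_oGO]
  by_cases hN : IsSquare (normProd (QfPlus m F) L)
  · refine ⟨prodO (QfPlus m F) L, 1, ?_, cls_one, ?_⟩
    · rw [prodO_mem_Omega_iff (QfPlus m F) h2F]
      exact ⟨hlen, hN⟩
    · rw [hcg, map_one, map_one, mul_one]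
  · -- the rational rotation with non-square spinor norm
    let i0 : Fin m := ⟨0, by omega⟩
    have hd1 : ∀ i : Fin m, (fun _ : Fin m => (1 : F₀)) i ≠ 0 := fun _ => one_ne_zero
    have hd2 : ∀ i : Fin m, (fun _ : Fin m => ν₀) i ≠ 0 := fun _ => hν0
    have hQu : QfPlus m F₀ (uv (fun _ : Fin m => (1 : F₀)) i0) = 1 := by rw [QfPlus_coe, Q_uv]
    have hQv : QfPlus m F₀ (uv (fun _ : Fin m => ν₀) i0) = ν₀ := by rw [QfPlus_coe, Q_uv]
    obtain ⟨nu, hnu⟩ : ∃ nu : NS (QfPlus m F₀), QfPlus m F₀ nu.1 = 1 :=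
      ⟨⟨uv (fun _ : Fin m => (1 : F₀)) i0, by rw [hQu]; exact one_ne_zero⟩, hQu⟩
    obtain ⟨nv, hnv⟩ : ∃ nv : NS (QfPlus m F₀), QfPlus m F₀ nv.1 = ν₀ :=
      ⟨⟨uv (fun _ : Fin m => ν₀) i0, by rw [hQv]; exact hν0⟩, hQv⟩
    have hQju : QfPlus m F (jNS E hc nu).1 = 1 := by
      show QfPlus m F (jv E nu.1) = 1
      rw [hc, hnu, map_one]
    have hQjv : QfPlus m F (jNS E hc nv).1 = E.j ν₀ := by
      show QfPlus m F (jv E nv.1) = E.j ν₀
      rw [hc, hnv]
    obtain ⟨t, ht⟩ : ∃ t : ↥(Cfsg.isometryGroup F ⇑(QfPlus m F)),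
        t = prodO (QfPlus m F) (L ++ [jNS E hc nv, jNS E hc nu]) := ⟨_, rfl⟩
    obtain ⟨ρ, hρ⟩ : ∃ ρ : ↥(Cfsg.isometryGroup F₀ ⇑(QfPlus m F₀)),
        ρ = prodO (QfPlus m F₀) [nu, nv] := ⟨_, rfl⟩
    have hjρ : jGO E hc (oGO (QfPlus m F₀) ρ) =
        oGO (QfPlus m F) (prodO (QfPlus m F) [jNS E hc nu, jNS E hc nv]) := by
      apply Subtype.ext
      rw [jGO_coe, oGO_coe, hρ]
      exact jGLg_prodO E hc [nu, nv]
    have htρ : t * prodO (QfPlus m F) [jNS E hc nu, jNS E hc nv] = prodO (QfPlus m F) L := by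
      rw [ht, Cfsg.Agent.Helper28.TR.prodO_append', prodO_cons, prodO_cons, prodO_nil, prodO_cons,
        prodO_cons, prodO_nil, mul_one, mul_one]
      have e1 := reflO_mul_self (QfPlus m F) (jNS E hc nu).1 (jNS E hc nu).2
      have e2 := reflO_mul_self (QfPlus m F) (jNS E hc nv).1 (jNS E hc nv).2
      calc prodO (QfPlus m F) L *
            (reflO (QfPlus m F) (jNS E hc nv).1 (jNS E hc nv).2 *
              reflO (QfPlus m F) (jNS E hc nu).1 (jNS E hc nu).2) *
            (reflO (QfPlus m F) (jNS E hc nu).1 (jNS E hc nu).2 *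
              reflO (QfPlus m F) (jNS E hc nv).1 (jNS E hc nv).2)
          = prodO (QfPlus m F) L *
            (reflO (QfPlus m F) (jNS E hc nv).1 (jNS E hc nv).2 *
              (reflO (QfPlus m F) (jNS E hc nu).1 (jNS E hc nu).2 *
                reflO (QfPlus m F) (jNS E hc nu).1 (jNS E hc nu).2) *
              reflO (QfPlus m F) (jNS E hc nv).1 (jNS E hc nv).2) := by group
        _ = prodO (QfPlus m F) L := by rw [e1, mul_one, e2, mul_one]
    refine ⟨t, oGO (QfPlus m F₀) ρ, ?_, ?_, ?_⟩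
    · rw [ht, prodO_mem_Omega_iff (QfPlus m F) h2F]
      constructor
      · rw [List.length_append]
        exact hlen.add ⟨1, rfl⟩
      · rw [Cfsg.Agent.Helper28.TR.normProd_append']
        have hn2 : normProd (QfPlus m F) [jNS E hc nv, jNS E hc nu] = E.j ν₀ := by
          simp only [normProd, List.map_cons, List.map_nil, List.prod_cons, List.prod_nil]
          rw [hQju, hQjv, mul_one, mul_one]
        rw [hn2, isSquare_mul_iff h2F (normProd_ne_zero _ _)
          (fun h => hν0 (E.j.injective (by rw [h, map_zero])))]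
        exact iff_of_false hN hνF
    · rw [hρ, cls_oGO_prodO]
      show ((2 : ℕ) : ZMod 2) = 0
      decide
    · rw [hcg, hjρ, cG_oGO, ← map_mul, htρ]

end ODD

/-- PIECE C (ODD) -/
theorem cover_phi_odd [Fintype F] [Fintype F₀] (E : FDesc F F₀) (h2F : (2 : F) ≠ 0) (hm : 3 ≤ m)
    (hσodd : Odd (orderOf E.σ)) (g : ↥(GO (QfPlus m F))) (hg : cls g = 0) :
    ∃ (t : ↥(Cfsg.isometryGroup F ⇑(QfPlus m F))) (k : ↥(GO (QfPlus m F₀))),
      t ∈ Cfsg.Omega F ⇑(QfPlus m F) ∧ cls k = 0 ∧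
      cG (QfPlus m F) g =
        cAut (QfPlus m F) t * cG (QfPlus m F) (jGO E (compat_plus E m) k) := by
  classical
  have hQ₀ := QfPlus_nondeg (F := F₀) m
  have hex := hex_plus (F := F) (m := m) (by omega)
  have hex₀ := hex_plus (F := F₀) (m := m) (by omega)
  have h20 := two_ne_zero_sub' E h2F
  have hc := compat_plus E m
  obtain ⟨ν₀, hν₀⟩ := FiniteField.exists_nonsquare (F := F₀) (by
    intro h
    apply h20
    have := ringChar.Nat.cast_ringChar (R := F₀)
    rw [h] at this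
    exact_mod_cast this)
  have hν0 : ν₀ ≠ 0 := by
    rintro rfl
    exact hν₀ ⟨0, by simp⟩
  have hνF : ¬ IsSquare (E.j ν₀) := not_isSquare_j E hσodd h2F ν₀ hν₀
  have hjν0 : E.j ν₀ ≠ 0 := fun h => hν0 (E.j.injective (by rw [h, map_zero]))
  by_cases hsq : IsSquare (mu (QfPlus m F) g : F)
  · exact ODD.cover_sq E h2F hm ν₀ hν0 hνF g hg hsq
  · obtain ⟨d₀, hd₀⟩ := exists_GO_of_sim (QfPlus m F₀) hQ₀ (diagM m ν₀) (Units.mk0 ν₀ hν0)
      (fun w => by rw [QfPlus_coe]; exact diagM_sim _ w)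
    have hclsd : cls d₀ = 0 := ODD.cls_of_diagM d₀ ν₀ hν0 hd₀
    have hgmj : gm (jGO E hc d₀) = diagM m (E.j ν₀) := by
      show ((jGLg E d₀.1 : GL (Fin m ⊕ Fin m) F) : Matrix (Fin m ⊕ Fin m) (Fin m ⊕ Fin m) F) = _
      have hd' : ((d₀ : GL (Fin m ⊕ Fin m) F₀) : Matrix (Fin m ⊕ Fin m) (Fin m ⊕ Fin m) F₀) =
          diagM m ν₀ := hd₀
      rw [jGLg_coe, hd']
      unfold diagM
      rw [Matrix.diagonal_map (map_zero _)]
      congr 1
      funext s
      rcases s with i | i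
      · rfl
      · exact map_one _
    have hclsj : cls (jGO E hc d₀) = 0 := ODD.cls_of_diagM _ (E.j ν₀) hjν0 hgmj
    have hmuj : mu (QfPlus m F) (jGO E hc d₀) = Units.mk0 (E.j ν₀) hjν0 := by
      apply mu_of_sim (QfPlus m F) hex
      intro w
      have : ((jGO E hc d₀ : ↥(GO (QfPlus m F))) : GL (Fin m ⊕ Fin m) F) =
        (jGO E hc d₀ : ↥(GO (QfPlus m F))).1 := rfl
      show QfPlus m F (gm (jGO E hc d₀) *ᵥ w) = _
      rw [hgmj, QfPlus_coe]
      exact diagM_sim _ w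
    obtain ⟨g', hg'⟩ : ∃ g' : ↥(GO (QfPlus m F)), g' = g * (jGO E hc d₀)⁻¹ := ⟨_, rfl⟩
    have hclsg' : cls g' = 0 := by
      rw [hg', cls_mul, cls_inv, hg, hclsj, add_zero]
    have hmug' : IsSquare (mu (QfPlus m F) g' : F) := by
      have h5 : mu (QfPlus m F) g' = mu (QfPlus m F) g * (mu (QfPlus m F) (jGO E hc d₀))⁻¹ := by
        rw [hg']
        have := (muHom (QfPlus m F) hex).map_mul g (jGO E hc d₀)⁻¹
        rw [map_inv] at this
        exact this
      rw [h5, hmuj, Units.val_mul, Units.val_inv_eq_inv_val, Units.val_mk0,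
        isSquare_mul_iff h2F (Units.ne_zero _) (inv_ne_zero hjν0), isSquare_inv]
      exact iff_of_false hsq hνF
    obtain ⟨t, k, ht, hk, hgk⟩ := ODD.cover_sq E h2F hm ν₀ hν0 hνF g' hclsg' hmug'
    refine ⟨t, k * d₀, ht, by rw [cls_mul, hk, hclsd, add_zero], ?_⟩
    have hgg : g = g' * jGO E hc d₀ := by rw [hg']; group
    rw [hgg, map_mul, hgk, map_mul, map_mul, mul_assoc]

end Cfsg.Agent.S2715P
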