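import Mathlib
import Cfsg.Prelude.Def_LieTypeDatum
import Cfsg.Agent.Helper7.FieldPlus0

/-!
# S2715, piece E (helper7): the rational diagonal similarity with non-square multiplier

`|F| = |F₀|²`, odd characteristic, `ν₀` a non-square of `F₀`: the rational similarity
`diag(ν₀ I, I)` induces an inner automorphism of `PΩ⁺_{2m}(F)` iff not (`m` odd and
`|F₀| ≡ 1 mod 4`).
-/

set_option autoImplicit false
set_option linter.unusedSectionVars false
set_option linter.unusedVariables false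

namespace Cfsg.Agent.S2715P

open Module Submodule Matrix Cfsg.Agent.Helper28.QPlus Cfsg.Agent.Helper28.IDP
  Cfsg.Agent.Helper28.Spin Cfsg.Agent.Helper28.PG Cfsg.Agent.Helper28.FO
  Cfsg.Agent.Helper28.SSim Cfsg.Agent.Helper28.GC Cfsg.Agent.Helper28.Sg
  Cfsg.Agent.Helper28.PA Cfsg.Agent.Helper7.PlusF Cfsg.Agent.Helper7.PlusG
  Cfsg.Agent.Helper28.IsoTransport Cfsg.Agent.Helper7.FieldPlus
open Cfsg.Agent.Helper7.FieldPSL (FDesc)

variable {F : Type*} [Field F] {F₀ : Type*} [Field F₀] {m : ℕ}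

namespace Y0

/-- a power is a square iff the exponent is even or the base is a square -/
theorem isSquare_pow_iff {K : Type*} [Field K] (l : K) (hl : l ≠ 0) (n : ℕ) :
    IsSquare (l ^ n) ↔ Even n ∨ IsSquare l := by
  constructor
  · intro h
    by_cases hn : Even n
    · exact Or.inl hn
    · right
      rw [Nat.not_even_iff_odd] at hn
      obtain ⟨j, rfl⟩ := hn
      obtain ⟨t, ht⟩ := h
      refine ⟨t * (l ^ j)⁻¹, ?_⟩
      have hlj : l ^ j ≠ 0 := pow_ne_zero _ hl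
      field_simp
      have e : l * (l ^ j) ^ 2 = l ^ (2 * j + 1) := by ring
      rw [e, ht]
      ring
  · rintro (hn | hs)
    · exact hn.isSquare_pow l
    · exact hs.pow n

/-- the square of an odd number is `1` modulo `4` -/
theorem sq_mod_four {n : ℕ} (hn : Odd n) : n ^ 2 % 4 = 1 := by
  obtain ⟨k, rfl⟩ := hn
  have : (2 * k + 1) ^ 2 = 4 * (k * k + k) + 1 := by ring
  rw [this]
  omega

/-- the number theory: with `l² = j ν₀`, `ν₀` a non-square of `F₀` and `|F| = |F₀|²`, `l` is a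
square in `F` iff `|F₀| ≡ 3 mod 4` -/
theorem isSquare_sqrt_iff [Fintype F] [Fintype F₀] (E : FDesc F F₀) (h2F : (2 : F) ≠ 0)
    (hcard : Fintype.card F = Fintype.card F₀ ^ 2) (ν₀ : F₀) (hν₀ : ¬ IsSquare ν₀) (l : F)
    (hl : E.j ν₀ = l * l) : IsSquare l ↔ ¬ Fintype.card F₀ % 4 = 1 := by
  have h20 := two_ne_zero_sub' E h2F
  have hch : ringChar F ≠ 2 := by
    intro h
    apply h2F
    have := ringChar.Nat.cast_ringChar (R := F)
    rw [h] at this
    exact_mod_cast this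
  have hch₀ : ringChar F₀ ≠ 2 := by
    intro h
    apply h20
    have := ringChar.Nat.cast_ringChar (R := F₀)
    rw [h] at this
    exact_mod_cast this
  have hν0 : ν₀ ≠ 0 := by
    rintro rfl
    exact hν₀ ⟨0, by simp⟩
  have hl0 : l ≠ 0 := by
    rintro rfl
    rw [mul_zero] at hl
    exact hν0 (E.j.injective (by rw [hl, map_zero]))
  have hνpow : ν₀ ^ (Fintype.card F₀ / 2) = -1 := by
    rcases FiniteField.pow_dichotomy hch₀ hν0 with h | h
    · exact absurd ((FiniteField.isSquare_iff hch₀ hν0).2 h) hν₀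
    · exact h
  obtain ⟨a, ha⟩ := Cfsg.Agent.Helper28.Spin.card_odd h20
  have hq2 : Fintype.card F / 2 = 2 * (a * (a + 1)) := by
    rw [hcard, ha]
    have : (2 * a + 1) ^ 2 = 2 * (2 * (a * (a + 1))) + 1 := by ring
    rw [this]
    omega
  have hq02 : Fintype.card F₀ / 2 = a := by
    rw [ha]; omega
  rw [hq02] at hνpow
  have hpow : l ^ (Fintype.card F / 2) = (-1) ^ (a + 1) := by
    rw [hq2, pow_mul, pow_two, ← hl, pow_mul, ← map_pow, hνpow, map_neg, map_one]
  rw [FiniteField.isSquare_iff hch hl0, hpow, ha]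
  have hne : (-1 : F) ≠ 1 := by
    intro h
    apply h2F
    linear_combination -h
  constructor
  · intro h h4
    have hodd : Odd (a + 1) := by
      rw [Nat.odd_iff]; omega
    rw [hodd.neg_one_pow] at h
    exact hne h
  · intro h4
    have heven : Even (a + 1) := by
      rw [Nat.even_iff]; omega
    exact heven.neg_one_pow

end Y0

/-- PIECE E (Y0) -/
theorem diag_mem_Inn_iff [Fintype F] [Fintype F₀] (E : FDesc F F₀) (h2F : (2 : F) ≠ 0)
    (hm : 3 ≤ m) (hcard : Fintype.card F = Fintype.card F₀ ^ 2) (ν₀ : F₀) (hν₀ : ¬ IsSquare ν₀)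
    (d : ↥(GO (QfPlus m F₀))) (hd : gm d = diagM m ν₀) :
    cG (QfPlus m F) (jGO E (compat_plus E m) d) ∈ Cfsg.Inn (Cfsg.POmega F ⇑(QfPlus m F)) ↔
      ¬ (Odd m ∧ Fintype.card F₀ % 4 = 1) := by
  classical
  have hQ := QfPlus_nondeg (F := F) m
  have h20 := two_ne_zero_sub' E h2F
  obtain ⟨l, hl⟩ := isSquare_j E h2F hcard ν₀
  have hν0 : ν₀ ≠ 0 := by
    rintro rfl
    exact hν₀ ⟨0, by simp⟩
  have hl0 : l ≠ 0 := by
    rintro rfl
    rw [mul_zero] at hl
    exact hν0 (E.j.injective (by rw [hl, map_zero]))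
  have hd1 : ∀ i : Fin m, (fun _ : Fin m => l⁻¹) i ≠ 0 := fun _ => inv_ne_zero hl0
  have hd2 : ∀ i : Fin m, (fun _ : Fin m => (1 : F)) i ≠ 0 := fun _ => one_ne_zero
  obtain ⟨L1, hL1⟩ : ∃ L1, L1 = LP (fun _ : Fin m => l⁻¹) hd1 := ⟨_, rfl⟩
  obtain ⟨L2, hL2⟩ : ∃ L2, L2 = LP (fun _ : Fin m => (1 : F)) hd2 := ⟨_, rfl⟩
  obtain ⟨h, hh⟩ : ∃ h : ↥(Cfsg.isometryGroup F ⇑(QfPlus m F)),
    h = prodO (QfPlus m F) (L1 ++ L2) := ⟨_, rfl⟩
  -- the matrix of `h`
  have hmul : ∀ x : Vm m F, ((h : GL (Fin m ⊕ Fin m) F) :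
      Matrix (Fin m ⊕ Fin m) (Fin m ⊕ Fin m) F) *ᵥ x =
      Sum.elim (fun i => l * x (Sum.inl i)) (fun i => l⁻¹ * x (Sum.inr i)) := by
    intro x
    rw [hh, Cfsg.Agent.Helper28.TR.prodO_append', Subgroup.coe_mul, Units.val_mul,
      ← Matrix.mulVec_mulVec, hL1, hL2, prodO_LP_mulVec, prodO_LP_mulVec]
    funext s
    rcases s with i | i
    · rw [MdV_inl, MdV_inr, Sum.elim_inl]
      field_simp
    · rw [MdV_inr, MdV_inl, Sum.elim_inr]
      field_simp
  -- `jGO d` is a scalar times `h`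
  have hjd : jGO E (compat_plus E m) d = scal (QfPlus m F) (Units.mk0 l hl0) * oGO (QfPlus m F) h := by
    apply Subtype.ext
    apply Units.ext
    show ((jGLg E d.1 : GL (Fin m ⊕ Fin m) F) : Matrix (Fin m ⊕ Fin m) (Fin m ⊕ Fin m) F) =
      ((scal (QfPlus m F) (Units.mk0 l hl0) : GL (Fin m ⊕ Fin m) F) :
        Matrix (Fin m ⊕ Fin m) (Fin m ⊕ Fin m) F) *
      ((h : GL (Fin m ⊕ Fin m) F) : Matrix (Fin m ⊕ Fin m) (Fin m ⊕ Fin m) F)
    rw [jGLg_coe, scal_val, Units.val_mk0]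
    have hd' : ((d : GL (Fin m ⊕ Fin m) F₀) : Matrix (Fin m ⊕ Fin m) (Fin m ⊕ Fin m) F₀) =
        diagM m ν₀ := hd
    rw [hd']
    apply matrix_ext_mulVec
    intro x
    rw [Matrix.smul_mul, Matrix.one_mul, Matrix.smul_mulVec, hmul]
    unfold diagM
    rw [Matrix.diagonal_map (map_zero _)]
    funext s
    rw [Matrix.mulVec_diagonal]
    rcases s with i | i
    · simp only [Sum.elim_inl, Pi.smul_apply, smul_eq_mul]
      rw [hl]
      ring
    · simp only [Sum.elim_inr, Pi.smul_apply, smul_eq_mul, map_one]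
      field_simp
  rw [hjd, map_mul, cG_scal, one_mul, cG_oGO]
  -- `-1 ∈ Ω(F)`
  have hq : Fintype.card F % 4 = 1 := by
    rw [hcard]
    exact Y0.sq_mod_four (Cfsg.Agent.Helper28.Spin.card_odd h20)
  have hneg := neg_one_mem_Omega_plus (F := F) (m := m) (by omega) hq
  have hInn : cAut (QfPlus m F) h ∈ Cfsg.Inn (Cfsg.POmega F ⇑(QfPlus m F)) ↔
      h ∈ Cfsg.Omega F ⇑(QfPlus m F) := by
    constructor
    · intro hc
      by_contra hΩ
      exact cAut_not_mem_Inn _ hQ h2F (by rw [card_index_plus]; omega) hneg h hΩ hc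
    · exact cAut_mem_Inn _ h
  rw [hInn, hh, prodO_mem_Omega_iff (QfPlus m F) h2F, Cfsg.Agent.Helper28.TR.normProd_append',
    hL1, hL2, normProd_LP, normProd_LP, List.length_append, length_LP, length_LP]
  simp only [Finset.prod_const, Finset.card_univ, Fintype.card_fin, one_pow, mul_one]
  rw [Y0.isSquare_pow_iff _ (inv_ne_zero hl0), isSquare_inv,
    Y0.isSquare_sqrt_iff E h2F hcard ν₀ hν₀ l hl]
  have hmm : Even (m + m) := ⟨m, rfl⟩
  constructor
  · rintro ⟨-, h1 | h1⟩ ⟨hodd, h4⟩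
    · exact (Nat.not_even_iff_odd.2 hodd) h1
    · exact h1 h4
  · intro hcond
    refine ⟨hmm, ?_⟩
    by_cases hev : Even m
    · exact Or.inl hev
    · right
      intro h4
      exact hcond ⟨Nat.not_even_iff_odd.1 hev, h4⟩

end Cfsg.Agent.S2715P
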