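import Mathlib
import Cfsg.Agent.Helper15.S2858B1card

/-!
# S2772 (Sims, local form): the abstract `q ≤ 3` argument

`A_aux_offender`: an abelian subgroup `A` of maximal order of `T` acts on an abelian normal subgroup
`V ≤ Z(Q)` (`|T : Q| = 2`) with `|V : C_V(a)| ≤ 2` for `a ∈ A`.
`A_aux_pigeon`: if `C_V(a)`, `C_V(a')` have index at most two in `V` then for `d = a a'` and every
`v ∈ V` some `d ^ (2k)`, `1 ≤ k ≤ 4`, centralises `v`.
`A_main`: for a prime `q ≥ 5` with `d ^ q ∈ Q` the element `d` centralises `V`.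
-/

namespace Cfsg.Agent.S2772P

open Subgroup

variable {H : Type*} [Group H]

/-- Lagrange, `relIndex` form -/
theorem A_aux_card_relIndex {X Y : Subgroup H} (h : X ≤ Y) :
    Nat.card X * X.relIndex Y = Nat.card Y := by
  have := relIndex_mul_relIndex ⊥ X Y bot_le h
  rwa [relIndex_bot_left, relIndex_bot_left] at this

/-- product inequality: `|X| |Y| ≤ |X ∩ Y| |B|` for `X, Y ≤ B` -/
theorem A_aux_prod_le {X Y B : Subgroup H} [Finite B] (hXB : X ≤ B) (hYB : Y ≤ B) :
    Nat.card Y * Nat.card X ≤ Nat.card (X ⊓ Y : Subgroup H) * Nat.card B := by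
  have h1 := A_aux_card_relIndex (inf_le_right : X ⊓ Y ≤ Y)
  rw [inf_relIndex_right] at h1
  have h3 := A_aux_card_relIndex hXB
  have hB0 : 0 < Nat.card B := Nat.card_pos
  have hne : X.relIndex B ≠ 0 := by
    intro h0
    rw [h0, mul_zero] at h3
    omega
  have h4 := relIndex_le_of_le_right hYB hne
  calc Nat.card Y * Nat.card X
      = Nat.card (X ⊓ Y : Subgroup H) * X.relIndex Y * Nat.card X := by rw [h1]
    _ ≤ Nat.card (X ⊓ Y : Subgroup H) * X.relIndex B * Nat.card X := by gcongr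
    _ = Nat.card (X ⊓ Y : Subgroup H) * (Nat.card X * X.relIndex B) := by ring
    _ = Nat.card (X ⊓ Y : Subgroup H) * Nat.card B := by rw [h3]

/-- a subgroup of index two meets every subgroup in a subgroup of index at most two -/
theorem A_aux_idx_le {T Q X : Subgroup H} [Finite T] (hQT : Q ≤ T)
    (hcard : Nat.card T = 2 * Nat.card Q) (hXT : X ≤ T) :
    Nat.card X ≤ 2 * Nat.card (Q ⊓ X : Subgroup H) := by
  have hfQ : Finite Q := Finite.of_injective _ (Subgroup.inclusion_injective hQT)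
  have hQ0 : 0 < Nat.card Q := Nat.card_pos
  have h1 := A_aux_card_relIndex (inf_le_right : Q ⊓ X ≤ X)
  rw [inf_relIndex_right] at h1
  have h2 := A_aux_card_relIndex hQT
  have h3 : Q.relIndex T = 2 := by
    rw [hcard] at h2
    have : Nat.card Q * Q.relIndex T = Nat.card Q * 2 := by rw [h2]; ring
    exact Nat.eq_of_mul_eq_mul_left hQ0 this
  have h4 := relIndex_le_of_le_right (H := Q) hXT (by rw [h3]; norm_num)
  rw [h3] at h4
  calc Nat.card X = Nat.card (Q ⊓ X : Subgroup H) * Q.relIndex X := h1.symm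
    _ ≤ Nat.card (Q ⊓ X : Subgroup H) * 2 := by gcongr
    _ = 2 * Nat.card (Q ⊓ X : Subgroup H) := by ring

/-- the sup of two commuting abelian subgroups is abelian -/
theorem A_aux_sup_abelian {X Y : Subgroup H} (hX : X ≤ centralizer (X : Set H))
    (hY : Y ≤ centralizer (Y : Set H)) (hXY : Y ≤ centralizer (X : Set H)) :
    X ⊔ Y ≤ centralizer ((X ⊔ Y : Subgroup H) : Set H) := by
  have hYX : X ≤ centralizer (Y : Set H) := le_centralizer_iff.1 hXY
  have h1 : X ≤ centralizer ((X ⊔ Y : Subgroup H) : Set H) :=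
    le_centralizer_iff.1 (sup_le hX hXY)
  have h2 : Y ≤ centralizer ((X ⊔ Y : Subgroup H) : Set H) :=
    le_centralizer_iff.1 (sup_le hYX hY)
  exact sup_le h1 h2

/-- **the offender**: `|V : C_V(a)| ≤ 2` for `a` in an abelian subgroup of maximal order of `T` -/
theorem A_aux_offender {T Q V A : Subgroup H} [Finite T] (hQT : Q ≤ T)
    (hcard : Nat.card T = 2 * Nat.card Q) (hVT : V ≤ T)
    (hVab : V ≤ centralizer (V : Set H)) (hQV : Q ≤ centralizer (V : Set H))
    (hAT : A ≤ T) (hAab : A ≤ centralizer (A : Set H))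
    (hmax : ∀ B : Subgroup H, B ≤ T → B ≤ centralizer (B : Set H) → Nat.card B ≤ Nat.card A)
    {a : H} (ha : a ∈ A) :
    Nat.card V ≤ 2 * Nat.card (V ⊓ centralizer {a} : Subgroup H) := by
  have hfV : Finite V := Finite.of_injective _ (Subgroup.inclusion_injective hVT)
  have hA0T : Q ⊓ A ≤ T := inf_le_left.trans hQT
  have hfA0 : Finite (Q ⊓ A : Subgroup H) :=
    Finite.of_injective _ (Subgroup.inclusion_injective hA0T)
  have hA00 : 0 < Nat.card (Q ⊓ A : Subgroup H) := Nat.card_pos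
  have hBT : V ⊔ (Q ⊓ A) ≤ T := sup_le hVT hA0T
  have hfB : Finite (V ⊔ (Q ⊓ A) : Subgroup H) :=
    Finite.of_injective _ (Subgroup.inclusion_injective hBT)
  have hBab : V ⊔ (Q ⊓ A) ≤ centralizer ((V ⊔ (Q ⊓ A) : Subgroup H) : Set H) :=
    A_aux_sup_abelian hVab (inf_le_right.trans (hAab.trans (centralizer_le inf_le_right)))
      (inf_le_left.trans hQV)
  have h1 := hmax _ hBT hBab
  have h2 := A_aux_idx_le hQT hcard hAT
  have h3 := A_aux_prod_le (le_sup_left : V ≤ V ⊔ (Q ⊓ A)) (le_sup_right : Q ⊓ A ≤ V ⊔ (Q ⊓ A))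
  have h4 : Nat.card (Q ⊓ A : Subgroup H) * Nat.card V ≤
      Nat.card (Q ⊓ A : Subgroup H) * (2 * Nat.card (V ⊓ (Q ⊓ A) : Subgroup H)) := by
    calc Nat.card (Q ⊓ A : Subgroup H) * Nat.card V
        ≤ Nat.card (V ⊓ (Q ⊓ A) : Subgroup H) * Nat.card (V ⊔ (Q ⊓ A) : Subgroup H) := h3
      _ ≤ Nat.card (V ⊓ (Q ⊓ A) : Subgroup H) * (2 * Nat.card (Q ⊓ A : Subgroup H)) := by
          gcongr
          exact h1.trans h2
      _ = Nat.card (Q ⊓ A : Subgroup H) * (2 * Nat.card (V ⊓ (Q ⊓ A) : Subgroup H)) := by ring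
  have h5 : Nat.card V ≤ 2 * Nat.card (V ⊓ (Q ⊓ A) : Subgroup H) :=
    Nat.le_of_mul_le_mul_left h4 hA00
  have hle : V ⊓ (Q ⊓ A) ≤ V ⊓ centralizer {a} := by
    refine inf_le_inf le_rfl ?_
    intro x hx
    rw [mem_centralizer_singleton_iff]
    exact ((mem_centralizer_iff.1 (hAab hx.2)) a ha).symm
  have hf : Finite (V ⊓ centralizer {a} : Subgroup H) :=
    Finite.of_injective _ (Subgroup.inclusion_injective (inf_le_left : V ⊓ centralizer {a} ≤ V))
  have h6 := card_le_of_le hle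
  omega

/-- products of elements on the same side of a subgroup of index at most two -/
theorem A_aux_mul_mem {V D : Subgroup H} [Finite V] (hDV : D ≤ V)
    (hc : Nat.card V ≤ 2 * Nat.card D) {w w' : H} (hw : w ∈ V) (hw' : w' ∈ V)
    (h : w ∈ D ↔ w' ∈ D) : w * w' ∈ D := by
  have hfD : Finite D := Finite.of_injective _ (Subgroup.inclusion_injective hDV)
  obtain ⟨k, hk⟩ := card_dvd_of_le hDV
  have hD0 : 0 < Nat.card D := Nat.card_pos
  have hV0 : 0 < Nat.card V := Nat.card_pos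
  have hk2 : k = 1 ∨ k = 2 := by
    have : k ≤ 2 := by
      by_contra hcon
      have : 3 ≤ k := by omega
      have : Nat.card D * 3 ≤ Nat.card D * k := Nat.mul_le_mul_left _ this
      omega
    have : k ≠ 0 := by
      rintro rfl
      omega
    omega
  rcases hk2 with rfl | rfl
  · have : D = V := Subgroup.eq_of_le_of_card_ge hDV (by omega)
    rw [this]
    exact mul_mem hw hw'
  · exact (Cfsg.Agent.S2858P.B1_aux15_idx2 hDV (by omega) hw hw').2 h

/-- coprime powers -/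
theorem A_aux_coprime_pow {K : Subgroup H} {g : H} {m n : ℕ} (hm : g ^ m ∈ K) (hn : g ^ n ∈ K)
    (hco : Nat.Coprime m n) : g ∈ K := by
  have h1 := Int.gcd_eq_gcd_ab (m : ℤ) (n : ℤ)
  rw [Int.gcd_natCast_natCast, hco] at h1
  have h2 : g = (g ^ m) ^ (Int.gcdA m n) * (g ^ n) ^ (Int.gcdB m n) := by
    rw [← zpow_natCast, ← zpow_natCast, ← zpow_mul, ← zpow_mul, ← zpow_add, ← h1]
    simp
  rw [h2]
  exact mul_mem (zpow_mem hm _) (zpow_mem hn _)

/-- **pigeonhole**: some `d ^ (2k)`, `1 ≤ k ≤ 4`, centralises `v` -/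
theorem A_aux_pigeon {V D₁ D₂ : Subgroup H} [Finite V] (hVab : V ≤ centralizer (V : Set H))
    (h1V : D₁ ≤ V) (h2V : D₂ ≤ V)
    (hc1 : Nat.card V ≤ 2 * Nat.card D₁) (hc2 : Nat.card V ≤ 2 * Nat.card D₂)
    {d : H} (hd : d ∈ normalizer (V : Set H)) (hD : D₁ ⊓ D₂ ≤ centralizer {d})
    {v : H} (hv : v ∈ V) : ∃ k, 1 ≤ k ∧ k ≤ 4 ∧ d ^ (2 * k) ∈ centralizer {v} := by
  classical
  have hconj : ∀ (i : ℕ) (w : H), w ∈ V → d ^ i * w * (d ^ i)⁻¹ ∈ V := by
    intro i w hw
    exact (mem_normalizer_iff.1 (pow_mem hd i) w).1 hw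
  -- the colouring
  let f : Fin 5 → Bool × Bool := fun i =>
    (decide (d ^ (i : ℕ) * v * (d ^ (i : ℕ))⁻¹ ∈ D₁), decide (d ^ (i : ℕ) * v * (d ^ (i : ℕ))⁻¹ ∈ D₂))
  obtain ⟨i, j, hij, hf⟩ := Fintype.exists_ne_map_eq_of_card_lt f (by simp)
  -- the key step for `i < j`
  have key : ∀ i j : ℕ, i < j → j ≤ 4 →
      ((d ^ i * v * (d ^ i)⁻¹ ∈ D₁) ↔ (d ^ j * v * (d ^ j)⁻¹ ∈ D₁)) →
      ((d ^ i * v * (d ^ i)⁻¹ ∈ D₂) ↔ (d ^ j * v * (d ^ j)⁻¹ ∈ D₂)) →
      d ^ (2 * (j - i)) ∈ centralizer {v} := by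
    intro i j hlt hj4 e1 e2
    obtain ⟨k, rfl⟩ : ∃ k, j = i + k := ⟨j - i, by omega⟩
    have hk : i + k - i = k := by omega
    rw [hk]
    set u := d ^ k * v * (d ^ k)⁻¹ with hu
    have huV : u ∈ V := hconj k v hv
    have hwi : d ^ i * v * (d ^ i)⁻¹ ∈ V := hconj i v hv
    have hwj : d ^ (i + k) * v * (d ^ (i + k))⁻¹ ∈ V := hconj (i + k) v hv
    have hm1 := A_aux_mul_mem h1V hc1 hwi hwj e1
    have hm2 := A_aux_mul_mem h2V hc2 hwi hwj e2
    have hcd : d ^ i * v * (d ^ i)⁻¹ * (d ^ (i + k) * v * (d ^ (i + k))⁻¹) ∈ centralizer {d} :=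
      hD ⟨hm1, hm2⟩
    have hdc : d ∈ centralizer ({d} : Set H) := by
      rw [mem_centralizer_singleton_iff]
    have hvu : v * u ∈ centralizer ({d} : Set H) := by
      have e : v * u = (d ^ i)⁻¹ *
          (d ^ i * v * (d ^ i)⁻¹ * (d ^ (i + k) * v * (d ^ (i + k))⁻¹)) * d ^ i := by
        rw [hu, pow_add]; group
      rw [e]
      exact mul_mem (mul_mem (inv_mem (pow_mem hdc i)) hcd) (pow_mem hdc i)
    rw [mem_centralizer_singleton_iff] at hvu
    have hcomm : d ^ k * (v * u) = (v * u) * d ^ k := by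
      have : Commute d (v * u) := hvu.symm
      exact (this.pow_left k).eq
    -- `u * (d^k u d^-k) = v * u`
    have h3 : u * (d ^ k * u * (d ^ k)⁻¹) = v * u := by
      calc u * (d ^ k * u * (d ^ k)⁻¹) = d ^ k * (v * u) * (d ^ k)⁻¹ := by rw [hu]; group
        _ = (v * u) * d ^ k * (d ^ k)⁻¹ := by rw [hcomm]
        _ = v * u := by group
    have h4 : v * u = u * v := (mem_centralizer_iff.1 (hVab huV)) v hv |>.symm ▸ rfl
    have h5 : d ^ k * u * (d ^ k)⁻¹ = v := by
      rw [h4] at h3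
      exact mul_left_cancel h3
    rw [mem_centralizer_singleton_iff]
    have h6 : d ^ (2 * k) = d ^ k * d ^ k := by rw [two_mul, pow_add]
    rw [h6]
    symm
    calc v * (d ^ k * d ^ k) = (d ^ k * u * (d ^ k)⁻¹) * (d ^ k * d ^ k) := by rw [h5]
      _ = d ^ k * (d ^ k * v * (d ^ k)⁻¹) * d ^ k := by rw [hu]; group
      _ = d ^ k * d ^ k * v := by group
  have hf1 := congrArg Prod.fst hf
  have hf2 := congrArg Prod.snd hf
  simp only [f, decide_eq_decide] at hf1 hf2
  have hi4 : (i : ℕ) ≤ 4 := by omega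
  have hj4 : (j : ℕ) ≤ 4 := by omega
  have hne : (i : ℕ) ≠ (j : ℕ) := fun h => hij (Fin.ext h)
  rcases Nat.lt_or_gt_of_ne hne with hlt | hlt
  · exact ⟨(j : ℕ) - (i : ℕ), by omega, by omega, key i j hlt hj4 hf1 hf2⟩
  · exact ⟨(i : ℕ) - (j : ℕ), by omega, by omega, key j i hlt hi4 hf1.symm hf2.symm⟩

/-- conjugating the centraliser of `a` in `V` -/
theorem A_aux_card_conj {V : Subgroup H} {a g : H} (hg : g ∈ normalizer (V : Set H)) :
    Nat.card (V ⊓ centralizer {g * a * g⁻¹} : Subgroup H) =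
      Nat.card (V ⊓ centralizer {a} : Subgroup H) := by
  have himg : (V ⊓ centralizer {a}).map (MulAut.conj g).toMonoidHom =
      V ⊓ centralizer {g * a * g⁻¹} := by
    ext x
    constructor
    · rintro ⟨y, hy, rfl⟩
      simp only [MulEquiv.coe_toMonoidHom, MulAut.conj_apply]
      have hy' := mem_inf.1 hy
      refine mem_inf.2 ⟨(mem_normalizer_iff.1 hg y).1 hy'.1, ?_⟩
      have := mem_centralizer_singleton_iff.1 hy'.2
      rw [mem_centralizer_singleton_iff]
      calc g * y * g⁻¹ * (g * a * g⁻¹) = g * (y * a) * g⁻¹ := by group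
        _ = g * (a * y) * g⁻¹ := by rw [this]
        _ = g * a * g⁻¹ * (g * y * g⁻¹) := by group
    · intro hx
      have hx' := mem_inf.1 hx
      refine ⟨g⁻¹ * x * g, mem_inf.2 ⟨?_, ?_⟩, ?_⟩
      · have := (mem_normalizer_iff.1 (inv_mem hg) x).1 hx'.1
        simpa using this
      · have := mem_centralizer_singleton_iff.1 hx'.2
        rw [mem_centralizer_singleton_iff]
        calc g⁻¹ * x * g * a = g⁻¹ * (x * (g * a * g⁻¹)) * g := by group
          _ = g⁻¹ * (g * a * g⁻¹ * x) * g := by rw [this]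
          _ = a * (g⁻¹ * x * g) := by group
      · simp only [MulEquiv.coe_toMonoidHom, MulAut.conj_apply]
        group
  rw [← himg]
  exact (Nat.card_congr
    ((V ⊓ centralizer {a}).equivMapOfInjective _ (MulAut.conj g).injective).toEquiv).symm

/-- **main**: for a prime `q ≥ 5`, `d = a · a^g` centralises `V` -/
theorem A_main {T Q V A : Subgroup H} [Finite T] {q : ℕ} (hq : q.Prime) (hq5 : 5 ≤ q)
    (hQT : Q ≤ T) (hcard : Nat.card T = 2 * Nat.card Q) (hVT : V ≤ T)
    (hVab : V ≤ centralizer (V : Set H)) (hQV : Q ≤ centralizer (V : Set H))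
    (hAT : A ≤ T) (hAab : A ≤ centralizer (A : Set H))
    (hmax : ∀ B : Subgroup H, B ≤ T → B ≤ centralizer (B : Set H) → Nat.card B ≤ Nat.card A)
    {a g : H} (ha : a ∈ A) (haV : a ∈ normalizer (V : Set H)) (hg : g ∈ normalizer (V : Set H))
    (hdq : (a * (g * a * g⁻¹)) ^ q ∈ Q) :
    a * (g * a * g⁻¹) ∈ centralizer (V : Set H) := by
  have hfV : Finite V := Finite.of_injective _ (Subgroup.inclusion_injective hVT)
  have hc1 := A_aux_offender hQT hcard hVT hVab hQV hAT hAab hmax ha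
  have hc2 : Nat.card V ≤ 2 * Nat.card (V ⊓ centralizer {g * a * g⁻¹} : Subgroup H) := by
    rw [A_aux_card_conj hg]; exact hc1
  have hdn : a * (g * a * g⁻¹) ∈ normalizer (V : Set H) :=
    mul_mem haV (mul_mem (mul_mem hg haV) (inv_mem hg))
  have hD : (V ⊓ centralizer {a}) ⊓ (V ⊓ centralizer {g * a * g⁻¹}) ≤
      centralizer {a * (g * a * g⁻¹)} := by
    intro x hx
    have hx1 := mem_inf.1 (mem_inf.1 hx).1
    have hx2 := mem_inf.1 (mem_inf.1 hx).2
    have h1 := mem_centralizer_singleton_iff.1 hx1.2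
    have h2 := mem_centralizer_singleton_iff.1 hx2.2
    rw [mem_centralizer_singleton_iff]
    symm
    calc a * (g * a * g⁻¹) * x = a * ((g * a * g⁻¹) * x) := by group
      _ = a * (x * (g * a * g⁻¹)) := by rw [h2]
      _ = (a * x) * (g * a * g⁻¹) := by group
      _ = (x * a) * (g * a * g⁻¹) := by rw [h1]
      _ = x * (a * (g * a * g⁻¹)) := by group
  rw [mem_centralizer_iff]
  intro v hv
  obtain ⟨k, hk1, hk4, hk⟩ := A_aux_pigeon hVab inf_le_left inf_le_left hc1 hc2 hdn hD hv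
  have hqv : (a * (g * a * g⁻¹)) ^ q ∈ centralizer ({v} : Set H) := by
    rw [mem_centralizer_singleton_iff]
    exact ((mem_centralizer_iff.1 (hQV hdq)) v hv).symm
  have hco : Nat.Coprime (2 * k) q := by
    apply Nat.Coprime.symm
    rw [Nat.Prime.coprime_iff_not_dvd hq]
    intro hdvd
    rcases (Nat.Prime.dvd_mul hq).1 hdvd with h2 | h2
    · have := Nat.le_of_dvd (by norm_num) h2
      omega
    · have := Nat.le_of_dvd (by omega) h2
      omega
  have := A_aux_coprime_pow hk hqv hco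
  exact (mem_centralizer_singleton_iff.1 this).symm

end Cfsg.Agent.S2772P
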