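import Mathlib

/-!
# S2772 (Sims, local form): dihedral quotients

`D_main`: if `X / N ≅ D_{2q}`, `q` odd, and `a ∉ N`, `a² ∈ N`, then `(a · a^g)^q ∈ N`.
-/

namespace Cfsg.Agent.S2772P

open DihedralGroup

/-- in `ZMod q`, `q` odd, `i + i = 0` forces `i = 0` -/
theorem D_aux_two_torsion {q : ℕ} (hodd : Odd q) {i : ZMod q} (h : i + i = 0) : i = 0 := by
  obtain ⟨m, rfl⟩ := hodd
  have h1 : ((2 * m + 1 : ℕ) : ZMod (2 * m + 1)) * i = 0 := by
    rw [ZMod.natCast_self, zero_mul]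
  have h2 : ((2 * m + 1 : ℕ) : ZMod (2 * m + 1)) * i = (m : ZMod (2 * m + 1)) * (i + i) + i := by
    push_cast; ring
  rw [h2, h, mul_zero, zero_add] at h1
  exact h1

/-- the involutions of `D_{2q}`, `q` odd, are the reflections -/
theorem D_aux_invol {q : ℕ} (hodd : Odd q) {u : DihedralGroup q} (h1 : u ≠ 1) (h2 : u * u = 1) :
    ∃ i, u = sr i := by
  cases u with
  | r i =>
    exfalso
    apply h1
    rw [r_mul_r, one_def] at h2
    have : i + i = 0 := by
      injection h2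
    rw [D_aux_two_torsion hodd this, one_def]
  | sr i => exact ⟨i, rfl⟩

theorem D_aux_pow {q : ℕ} (i j : ZMod q) : (sr i * sr j) ^ q = 1 := by
  rw [sr_mul_sr, r_pow, ZMod.natCast_self, mul_zero, one_def]

/-- `(a · a^g)^q ∈ N` -/
theorem D_main {X : Type*} [Group X] (N : Subgroup X) [N.Normal] {q : ℕ} (hodd : Odd q)
    (φ : X ⧸ N ≃* DihedralGroup q) {a g : X} (ha : a ∉ N) (ha2 : a * a ∈ N) :
    (a * (g * a * g⁻¹)) ^ q ∈ N := by
  have hu1 : φ (QuotientGroup.mk a) ≠ 1 := by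
    intro h
    apply ha
    have : (QuotientGroup.mk a : X ⧸ N) = 1 := by
      apply φ.injective
      rw [h, map_one]
    exact (QuotientGroup.eq_one_iff a).1 this
  have hu2 : φ (QuotientGroup.mk a) * φ (QuotientGroup.mk a) = 1 := by
    rw [← map_mul, ← QuotientGroup.mk_mul, (QuotientGroup.eq_one_iff (a * a)).2 ha2, map_one]
  obtain ⟨i, hi⟩ := D_aux_invol hodd hu1 hu2
  have hconj : φ (QuotientGroup.mk (g * a * g⁻¹)) =
      φ (QuotientGroup.mk g) * φ (QuotientGroup.mk a) * (φ (QuotientGroup.mk g))⁻¹ := by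
    rw [QuotientGroup.mk_mul, QuotientGroup.mk_mul, QuotientGroup.mk_inv, map_mul, map_mul, map_inv]
  have hv1 : φ (QuotientGroup.mk (g * a * g⁻¹)) ≠ 1 := by
    intro h
    apply hu1
    rw [hconj] at h
    have : φ (QuotientGroup.mk a) =
        (φ (QuotientGroup.mk g))⁻¹ * (φ (QuotientGroup.mk g) * φ (QuotientGroup.mk a) *
          (φ (QuotientGroup.mk g))⁻¹) * φ (QuotientGroup.mk g) := by group
    rw [this, h]; group
  have hv2 : φ (QuotientGroup.mk (g * a * g⁻¹)) * φ (QuotientGroup.mk (g * a * g⁻¹)) = 1 := by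
    rw [hconj]
    calc φ (QuotientGroup.mk g) * φ (QuotientGroup.mk a) * (φ (QuotientGroup.mk g))⁻¹ *
          (φ (QuotientGroup.mk g) * φ (QuotientGroup.mk a) * (φ (QuotientGroup.mk g))⁻¹)
        = φ (QuotientGroup.mk g) * (φ (QuotientGroup.mk a) * φ (QuotientGroup.mk a)) *
          (φ (QuotientGroup.mk g))⁻¹ := by group
      _ = 1 := by rw [hu2]; group
  obtain ⟨j, hj⟩ := D_aux_invol hodd hv1 hv2
  have hfin : φ (QuotientGroup.mk ((a * (g * a * g⁻¹)) ^ q)) = 1 := by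
    rw [QuotientGroup.mk_pow, map_pow, QuotientGroup.mk_mul, map_mul, hi, hj]
    exact D_aux_pow i j
  have : (QuotientGroup.mk ((a * (g * a * g⁻¹)) ^ q) : X ⧸ N) = 1 := by
    apply φ.injective
    rw [hfin, map_one]
  exact (QuotientGroup.eq_one_iff _).1 this

end Cfsg.Agent.S2772P
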