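import Mathlib
import Cfsg.Agent.Helper14.Conj

/-!
# S2772 (Sims, local form): abelian subgroups of maximal order

`J_aux_exists`: a finite subgroup `T` has an abelian subgroup of maximal order.
`J_main`: if all abelian subgroups of maximal order of `T ≠ 1` lie in `Q ≤ T`, then a nontrivial
subgroup `J ≤ Q` is normalised by `N(T)` and by `N(Q)`.
-/

namespace Cfsg.Agent.S2772P

open Subgroup Cfsg.Agent.Helper14

variable {H : Type*} [Group H]

/-- `A` is an abelian subgroup of maximal order of `T` -/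
def J_aux_IsMaxAb (T A : Subgroup H) : Prop :=
  A ≤ T ∧ A ≤ centralizer (A : Set H) ∧
    ∀ B : Subgroup H, B ≤ T → B ≤ centralizer (B : Set H) → Nat.card B ≤ Nat.card A

theorem J_aux_exists (T : Subgroup H) [Finite T] : ∃ A, J_aux_IsMaxAb T A := by
  classical
  let S : Set ℕ := {n | ∃ A : Subgroup H, A ≤ T ∧ A ≤ centralizer (A : Set H) ∧ Nat.card A = n}
  have hne : S.Nonempty := ⟨Nat.card (⊥ : Subgroup H), ⊥, bot_le, bot_le, rfl⟩
  have hbdd : BddAbove S := by
    refine ⟨Nat.card T, ?_⟩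
    rintro n ⟨A, hAT, -, rfl⟩
    exact card_le_of_le hAT
  obtain ⟨A, hAT, hAab, hA⟩ := Nat.sSup_mem hne hbdd
  refine ⟨A, hAT, hAab, ?_⟩
  intro B hBT hBab
  rw [hA]
  exact le_csSup hbdd ⟨B, hBT, hBab, rfl⟩

theorem J_aux_map_abelian {A : Subgroup H} (hA : A ≤ centralizer (A : Set H)) (g : H) :
    A.map (cj g) ≤ centralizer ((A.map (cj g) : Subgroup H) : Set H) := by
  rintro _ ⟨x, hx, rfl⟩
  rw [mem_centralizer_iff]
  rintro _ ⟨y, hy, rfl⟩
  have := (mem_centralizer_iff.1 (hA hx)) y hy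
  simp only [cj_apply]
  calc g * y * g⁻¹ * (g * x * g⁻¹) = g * (y * x) * g⁻¹ := by group
    _ = g * (x * y) * g⁻¹ := by rw [this]
    _ = g * x * g⁻¹ * (g * y * g⁻¹) := by group

theorem J_aux_card_map (A : Subgroup H) (g : H) : Nat.card (A.map (cj g)) = Nat.card A :=
  (Nat.card_congr (A.equivMapOfInjective _ (cj_injective g)).toEquiv).symm

/-- conjugation by an element of `N(T)` or of `N(Q)` permutes the abelian subgroups of maximal order,
if they all lie in `Q` -/
theorem J_aux_map_mem {T Q : Subgroup H} (hQT : Q ≤ T)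
    (hall : ∀ A, J_aux_IsMaxAb T A → A ≤ Q) {g : H}
    (hg : g ∈ normalizer (T : Set H) ∨ g ∈ normalizer (Q : Set H))
    {A : Subgroup H} (hA : J_aux_IsMaxAb T A) : J_aux_IsMaxAb T (A.map (cj g)) := by
  refine ⟨?_, J_aux_map_abelian hA.2.1 g, ?_⟩
  · rcases hg with hg | hg
    · have := Subgroup.map_mono (f := cj g) hA.1
      rwa [mem_normalizer_iff_map_cj.1 hg] at this
    · have := Subgroup.map_mono (f := cj g) (hall A hA)
      rw [mem_normalizer_iff_map_cj.1 hg] at this
      exact this.trans hQT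
  · intro B hBT hBab
    rw [J_aux_card_map]
    exact hA.2.2 B hBT hBab

/-- the subgroup generated by the abelian subgroups of maximal order -/
def J_aux_J (T : Subgroup H) : Subgroup H := sSup {A | J_aux_IsMaxAb T A}

theorem J_aux_normalizer {T Q : Subgroup H} (hQT : Q ≤ T)
    (hall : ∀ A, J_aux_IsMaxAb T A → A ≤ Q) :
    normalizer (T : Set H) ⊔ normalizer (Q : Set H) ≤ normalizer (J_aux_J T : Set H) := by
  have key : ∀ g : H, (g ∈ normalizer (T : Set H) ∨ g ∈ normalizer (Q : Set H)) →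
      (J_aux_J T).map (cj g) ≤ J_aux_J T := by
    intro g hg
    rw [Subgroup.map_le_iff_le_comap]
    apply sSup_le
    intro A hA
    rw [← Subgroup.map_le_iff_le_comap]
    exact le_sSup (J_aux_map_mem hQT hall hg hA)
  have key2 : ∀ g : H, (g ∈ normalizer (T : Set H) ∨ g ∈ normalizer (Q : Set H)) →
      g ∈ normalizer (J_aux_J T : Set H) := by
    intro g hg
    rw [mem_normalizer_iff_map_cj]
    apply le_antisymm (key g hg)
    have hg' : g⁻¹ ∈ normalizer (T : Set H) ∨ g⁻¹ ∈ normalizer (Q : Set H) := by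
      rcases hg with hg | hg
      · exact Or.inl (inv_mem hg)
      · exact Or.inr (inv_mem hg)
    have := key g⁻¹ hg'
    rw [map_cj_le_iff, inv_inv] at this
    exact this
  exact sup_le (fun g hg => key2 g (Or.inl hg)) (fun g hg => key2 g (Or.inr hg))

theorem J_aux_le {T Q : Subgroup H} (hall : ∀ A, J_aux_IsMaxAb T A → A ≤ Q) : J_aux_J T ≤ Q :=
  sSup_le fun A hA => hall A hA

theorem J_aux_ne_bot {T : Subgroup H} [Finite T] (hT : T ≠ ⊥) : J_aux_J T ≠ ⊥ := by
  obtain ⟨A, hA⟩ := J_aux_exists T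
  obtain ⟨t, htT, ht1⟩ : ∃ t ∈ T, t ≠ 1 := by
    rcases T.bot_or_exists_ne_one with h | h
    · exact absurd h hT
    · exact h
  intro hbot
  have hAbot : A = ⊥ := by
    rw [eq_bot_iff, ← hbot]
    exact le_sSup hA
  have hzT : zpowers t ≤ T := by
    rw [zpowers_le]; exact htT
  have h1 := hA.2.2 (zpowers t) hzT (by
    rw [zpowers_le]
    rw [mem_centralizer_iff]
    intro y hy
    obtain ⟨k, rfl⟩ := mem_zpowers_iff.1 hy
    exact (Commute.zpow_left (Commute.refl t) k).eq)
  rw [hAbot, card_bot] at h1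
  have hf : Finite (zpowers t) := Finite.of_injective _ (Subgroup.inclusion_injective hzT)
  have h2 : zpowers t = ⊥ := by
    rw [← Subgroup.card_eq_one (H := zpowers t)]
    have : 0 < Nat.card (zpowers t) := Nat.card_pos
    omega
  apply ht1
  have : t ∈ (⊥ : Subgroup H) := by
    rw [← h2]; exact mem_zpowers _
  exact mem_bot.1 this

end Cfsg.Agent.S2772P
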