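import Cfsg.Agent.Helper7.S2772A
import Cfsg.Agent.Helper7.S2772J
import Cfsg.Agent.Helper7.S2772D
import Cfsg.Agent.Helper14.PReduced4
import Cfsg.Agent.Helper14.Kieler
import Cfsg.Agent.Helper14.Amalgam5
import Cfsg.Agent.Helper14.PCore

/-!
# S2772 (Sims, local form): the ambient configuration

`Setup G T Q x q`: `G` a coatom of the simple group `H`, `T` a Sylow 2-subgroup of `G`, `Q = O₂(G)`,
`|T : Q| = 2`, `|G : T| = q` an odd prime, `x ∈ N(T) ∖ G`, and `(a a^g)^q ∈ Q` for `a ∈ G ∖ Q`,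
`a² ∈ Q`, `g ∈ G`.  Consequences: `⟨G, G^x⟩ = H`, `G ∩ G^x = T`, `Ω₁Z(T)` not central in `G`, `q = 3`.
-/

set_option autoImplicit false
set_option linter.style.haveILetI false
set_option linter.unusedVariables false

namespace Cfsg.Agent.S2772P

open Subgroup Cfsg Cfsg.Agent.Helper14

variable {H : Type*} [Group H]

/-- a subgroup of prime index is maximal -/
theorem H_aux_max {P T K : Subgroup H} [Finite P] {q : ℕ} (hq : q.Prime) (hTK : T ≤ K)
    (hKP : K ≤ P) (hPT : Nat.card P = q * Nat.card T) : K = T ∨ K = P := by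
  have hfK : Finite K := Finite.of_injective _ (Subgroup.inclusion_injective hKP)
  have hfT : Finite T := Finite.of_injective _ (Subgroup.inclusion_injective (hTK.trans hKP))
  have hT0 : 0 < Nat.card T := Nat.card_pos
  obtain ⟨j, hj⟩ := card_dvd_of_le hTK
  obtain ⟨i, hi⟩ := card_dvd_of_le hKP
  have hji : q = j * i := by
    have : Nat.card T * q = Nat.card T * (j * i) := by
      rw [mul_comm _ q, ← hPT, hi, hj]; ring
    exact Nat.eq_of_mul_eq_mul_left hT0 this
  rcases (Nat.Prime.eq_one_or_self_of_dvd hq j ⟨i, hji⟩) with h1 | h1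
  · left
    exact (Subgroup.eq_of_le_of_card_ge hTK (by rw [hj, h1]; omega)).symm
  · right
    apply Subgroup.eq_of_le_of_card_ge hKP
    rw [hPT, hj, h1]
    exact le_of_eq (mul_comm _ _)

/-- the centre of a nontrivial `p`-subgroup is nontrivial -/
theorem H_aux_center_ne_bot {r : ℕ} [Fact r.Prime] {S : Subgroup H} [Finite S]
    (hS : IsPGroup r S) (hS1 : S ≠ ⊥) : S ⊓ centralizer (S : Set H) ≠ ⊥ := by
  haveI : Nontrivial S := (Subgroup.nontrivial_iff_ne_bot S).mpr hS1
  haveI := IsPGroup.center_nontrivial hS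
  obtain ⟨z, hz⟩ := exists_ne (1 : center ↥S)
  intro h0
  have hmem : ((z : S) : H) ∈ S ⊓ centralizer (S : Set H) := by
    refine Subgroup.mem_inf.mpr ⟨(z : S).2, ?_⟩
    rw [mem_centralizer_iff]
    intro s hs
    have := Subgroup.mem_center_iff.mp z.2 ⟨s, hs⟩
    exact congrArg Subtype.val this
  rw [h0, mem_bot] at hmem
  apply hz
  apply Subtype.ext
  apply Subtype.ext
  simpa using hmem

theorem H_aux_ozc_ne_bot {r : ℕ} [Fact r.Prime] {S : Subgroup H} [Finite S]
    (hS : IsPGroup r S) (hS1 : S ≠ ⊥) : ozc r S ≠ ⊥ := by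
  intro h0
  exact H_aux_center_ne_bot hS hS1 (eq_bot_of_omegaOne_eq_bot (hS.to_le inf_le_left) h0)

/-- the configuration -/
structure Setup (G T Q : Subgroup H) (x : H) (q : ℕ) : Prop where
  fin : Finite H
  hq : q.Prime
  hodd : Odd q
  hG : IsCoatom G
  hnormal : ∀ N : Subgroup H, N.Normal → N = ⊥ ∨ N = ⊤
  hcenter : ∀ Z : Subgroup H, (⊤ : Subgroup H) ≤ centralizer (Z : Set H) → Z = ⊥
  hT : IsSylowIn 2 T G
  hQ : Q = pCoreOf 2 G
  hchar : G ⊓ centralizer (Q : Set H) ≤ Q
  hcardT : Nat.card T = 2 * Nat.card Q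
  hcardG : Nat.card G = q * Nat.card T
  hxT : x ∈ normalizer (T : Set H)
  hxG : x ∉ G
  hdih : ∀ a ∈ G, ∀ g ∈ G, a ∉ Q → a * a ∈ Q → (a * (g * a * g⁻¹)) ^ q ∈ Q

namespace Setup

variable {G T Q : Subgroup H} {x : H} {q : ℕ}

theorem TG (s : Setup G T Q x q) : T ≤ G := s.hT.1

theorem QT (s : Setup G T Q x q) : Q ≤ T := by
  rw [s.hQ]; exact pCoreOf_le_of_isSylowIn s.hT

theorem GQ (s : Setup G T Q x q) : G ≤ normalizer (Q : Set H) := by
  rw [s.hQ]; exact le_normalizer_pCoreOf 2 G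

theorem finT (s : Setup G T Q x q) : Finite T := by
  haveI := s.fin
  infer_instance

theorem T_ne_bot (s : Setup G T Q x q) : T ≠ ⊥ := by
  haveI := s.fin
  intro h
  have h1 := s.hcardT
  rw [h, card_bot] at h1
  have : 0 < Nat.card Q := Nat.card_pos
  omega

theorem G_ne_bot (s : Setup G T Q x q) : G ≠ ⊥ := by
  intro h
  apply s.T_ne_bot
  rw [eq_bot_iff, ← h]
  exact s.TG

/-- `N_H(G) = G` -/
theorem normalizer_G (s : Setup G T Q x q) : normalizer (G : Set H) = G := by
  rcases s.hG.le_iff.1 (le_normalizer : G ≤ normalizer (G : Set H)) with h | h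
  · exfalso
    have hn : G.Normal := normalizer_eq_top_iff.1 h
    rcases s.hnormal G hn with h0 | h0
    · exact s.G_ne_bot h0
    · exact s.hG.1 h0
  · exact h

theorem map_ne (s : Setup G T Q x q) : G.map (cj x) ≠ G := by
  intro h
  apply s.hxG
  have : x ∈ normalizer (G : Set H) := mem_normalizer_iff_map_cj.2 h
  rwa [s.normalizer_G] at this

theorem card_map (s : Setup G T Q x q) : Nat.card (G.map (cj x)) = Nat.card G :=
  (Nat.card_congr (G.equivMapOfInjective _ (cj_injective x)).toEquiv).symm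

/-- `⟨G, G^x⟩ = H` -/
theorem gen (s : Setup G T Q x q) : G ⊔ G.map (cj x) = ⊤ := by
  haveI := s.fin
  have hlt : G < G ⊔ G.map (cj x) := by
    refine lt_of_le_of_ne le_sup_left ?_
    intro h
    have hle : G.map (cj x) ≤ G :=
      le_of_le_of_eq (le_sup_right : G.map (cj x) ≤ G ⊔ G.map (cj x)) h.symm
    exact s.map_ne (Subgroup.eq_of_le_of_card_ge hle (le_of_eq s.card_map.symm))
  exact s.hG.2 _ hlt

theorem T_map (s : Setup G T Q x q) : T.map (cj x) = T := mem_normalizer_iff_map_cj.1 s.hxT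

/-- `G ∩ G^x = T` -/
theorem inf_eq (s : Setup G T Q x q) : T = G ⊓ G.map (cj x) := by
  haveI := s.fin
  have h0 : T ≤ G.map (cj x) := by
    have := Subgroup.map_mono (f := cj x) s.TG
    rwa [s.T_map] at this
  have h1 : T ≤ G ⊓ G.map (cj x) := le_inf_iff.2 ⟨s.TG, h0⟩
  rcases H_aux_max s.hq h1 inf_le_left s.hcardG with h | h
  · exact h.symm
  · exfalso
    have hle : G ≤ G.map (cj x) :=
      le_of_eq_of_le h.symm (inf_le_right : G ⊓ G.map (cj x) ≤ G.map (cj x))
    exact s.map_ne (Subgroup.eq_of_le_of_card_ge hle (le_of_eq s.card_map)).symm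

/-- `Ω₁Z(T)` is not central in `G` -/
theorem ncent (s : Setup G T Q x q) : ¬ G ≤ centralizer (ozc 2 T : Set H) := by
  haveI : Fact (Nat.Prime 2) := ⟨Nat.prime_two⟩
  intro hle
  have h2 : G.map (cj x) ≤ centralizer (ozc 2 T : Set H) := by
    have := Subgroup.map_mono (f := cj x) hle
    rwa [map_cj_centralizer, map_cj_ozc, s.T_map] at this
  have h3 : (⊤ : Subgroup H) ≤ centralizer (ozc 2 T : Set H) := by
    rw [← s.gen]; exact sup_le hle h2
  haveI := s.finT
  exact H_aux_ozc_ne_bot s.hT.2.1 s.T_ne_bot (s.hcenter _ h3)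

theorem ncent' (s : Setup G T Q x q) : ¬ G.map (cj x) ≤ centralizer (ozc 2 T : Set H) := by
  intro hle
  apply s.ncent
  have := Subgroup.map_mono (f := cj x⁻¹) hle
  rw [map_cj_map_cj_inv, map_cj_centralizer, map_cj_ozc] at this
  have hT' : T.map (cj x⁻¹) = T := mem_normalizer_iff_map_cj.1 (inv_mem s.hxT)
  rwa [hT'] at this

/-- no nontrivial normal subgroup of `H` lies in `T` -/
theorem core (s : Setup G T Q x q) (N : Subgroup H) (hN : N.Normal) (hNT : N ≤ T) : N = ⊥ := by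
  rcases s.hnormal N hN with h | h
  · exact h
  · exfalso
    apply s.hG.1
    rw [eq_top_iff, ← h]
    exact hNT.trans s.TG

/-- `T` is not normal in `G` -/
theorem T_not_normal (s : Setup G T Q x q) : ¬ G ≤ normalizer (T : Set H) := by
  haveI := s.fin
  intro hle
  have h1 : T ≤ Q := by
    rw [s.hQ]
    exact le_pCoreOf 2 s.TG hle s.hT.2.1
  have h2 := card_le_of_le h1
  have h3 := s.hcardT
  have : 0 < Nat.card Q := Nat.card_pos
  omega

/-- `q = 3` -/
theorem q_eq_three (s : Setup G T Q x q) : q = 3 := by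
  haveI := s.fin
  haveI : Fact (Nat.Prime 2) := ⟨Nat.prime_two⟩
  by_contra hq3
  have hq5 : 5 ≤ q := by
    have h2 := s.hq.two_le
    obtain ⟨m, hm⟩ := s.hodd
    have : q ≠ 4 := by omega
    have : q ≠ 2 := by omega
    omega
  -- an abelian subgroup of maximal order outside `Q`
  obtain ⟨A, hA, hAQ⟩ : ∃ A, J_aux_IsMaxAb T A ∧ ¬ A ≤ Q := by
    by_contra hcon
    have hall : ∀ A, J_aux_IsMaxAb T A → A ≤ Q := by
      intro A hA
      by_contra hAQ
      exact hcon ⟨A, hA, hAQ⟩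
    have hJn := J_aux_normalizer s.QT hall
    have hJle := J_aux_le hall
    have hGJ : G ≤ normalizer (J_aux_J T : Set H) := s.GQ.trans (le_sup_right.trans hJn)
    have hxJ : x ∈ normalizer (J_aux_J T : Set H) := hJn (mem_sup_left s.hxT)
    have htop : normalizer (J_aux_J T : Set H) = ⊤ := by
      apply s.hG.2
      refine lt_of_le_of_ne hGJ ?_
      intro h
      apply s.hxG
      rw [h]; exact hxJ
    have hn : (J_aux_J T).Normal := normalizer_eq_top_iff.1 htop
    exact J_aux_ne_bot s.T_ne_bot (s.core _ hn (hJle.trans s.QT))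
  obtain ⟨a, haA, haQ⟩ := SetLike.not_le_iff_exists.1 hAQ
  obtain ⟨g, hgG, hgT⟩ := SetLike.not_le_iff_exists.1 s.T_not_normal
  have haT : a ∈ T := hA.1 haA
  have haG : a ∈ G := s.TG haT
  -- `V = Ω₁Z(Q)`
  have hVQ : ozc 2 Q ≤ Q := ozc_le 2 Q
  have hVab : ozc 2 Q ≤ centralizer (ozc 2 Q : Set H) := by
    intro v hv
    rw [mem_centralizer_iff]
    intro w hw
    have := (le_centralizer_ozc (p := 2) Q) (hVQ hv)
    exact ((mem_centralizer_iff.1 this) w hw).symm ▸ rfl
  have hGV : G ≤ normalizer (ozc 2 Q : Set H) := s.GQ.trans (le_normalizer_ozc Q)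
  have haa : a * a ∈ Q := by
    have hfT := s.finT
    exact (Cfsg.Agent.S2858P.B1_aux15_idx2 s.QT s.hcardT haT haT).2 Iff.rfl
  have hdq := s.hdih a haG g hgG haQ haa
  have hd := A_main s.hq hq5 s.QT s.hcardT (hVQ.trans s.QT) hVab (le_centralizer_ozc Q)
    hA.1 hA.2.1 hA.2.2 haA (hGV haG) (hGV hgG) hdq
  -- `d` centralises `Ω₁Z(T) ≤ V`
  have hZV : ozc 2 T ≤ ozc 2 Q := by
    have := ozc_le_ozc_pCoreOf (p := 2) s.hT (by rw [← s.hQ]; exact s.hchar)
    rwa [← s.hQ] at this
  have hdZ : a * (g * a * g⁻¹) ∈ centralizer (ozc 2 T : Set H) := centralizer_le hZV hd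
  -- `d ∉ T`
  have hdT : a * (g * a * g⁻¹) ∉ T := by
    intro hdT
    have ha'T : g * a * g⁻¹ ∈ T := by
      have := mul_mem (inv_mem haT) hdT
      simpa using this
    apply hgT
    -- `g T g⁻¹ ≤ T`
    have hle : T.map (cj g) ≤ T := by
      rintro _ ⟨t, ht, rfl⟩
      simp only [cj_apply]
      by_cases htQ : t ∈ Q
      · exact s.QT ((mem_normalizer_iff.1 (s.GQ hgG) t).1 htQ)
      · have hfT := s.finT
        have hta : t * a ∈ Q :=
          (Cfsg.Agent.S2858P.B1_aux15_idx2 s.QT s.hcardT ht haT).2 (iff_of_false htQ haQ)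
        have h1 : g * (t * a) * g⁻¹ ∈ T := s.QT ((mem_normalizer_iff.1 (s.GQ hgG) _).1 hta)
        have e : g * t * g⁻¹ = g * (t * a) * g⁻¹ * (g * a * g⁻¹)⁻¹ := by group
        rw [e]
        exact mul_mem h1 (inv_mem ha'T)
    have hcard : Nat.card (T.map (cj g)) = Nat.card T :=
      (Nat.card_congr (T.equivMapOfInjective _ (cj_injective g)).toEquiv).symm
    have hfT := s.finT
    exact mem_normalizer_iff_map_cj.2 (Subgroup.eq_of_le_of_card_ge hle (le_of_eq hcard.symm))
  -- `⟨T, d⟩ = G` centralises `Ω₁Z(T)`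
  have hdG : a * (g * a * g⁻¹) ∈ G := mul_mem haG (mul_mem (mul_mem hgG haG) (inv_mem hgG))
  have hTc : T ≤ G ⊓ centralizer (ozc 2 T : Set H) := le_inf s.TG (le_centralizer_ozc T)
  rcases H_aux_max s.hq hTc inf_le_left s.hcardG with h | h
  · apply hdT
    rw [← h]
    exact ⟨hdG, hdZ⟩
  · apply s.ncent
    rw [← h]
    exact inf_le_right

end Setup

end Cfsg.Agent.S2772P
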