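import Cfsg.Agent.Helper7.S2772H
import Cfsg.Agent.Helper6.S2858Hyp
import Cfsg.Agent.Helper14.Amalgam4
import Cfsg.Agent.Helper3.S3Lift

/-!
# S2772 (Sims, local form): reduction to S2858

`S2772_main`: the statement of S2772 from the statement of S2858 for the group `H`
(`hA : ∀ P₁ P₂ T, Hyp P₁ P₂ T → Concl P₁ P₂`).
-/

set_option autoImplicit false
set_option linter.style.haveILetI false
set_option linter.unusedVariables false

namespace Cfsg.Agent.S2772P

open Subgroup Cfsg Cfsg.Agent.Helper14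

variable {H : Type*} [Group H]

theorem M_aux_mem_pCoreOf {G : Subgroup H} {a : H} (ha : a ∈ G) :
    a ∈ pCoreOf 2 G ↔ (⟨a, ha⟩ : ↥G) ∈ pCore 2 ↥G := by
  constructor
  · rintro ⟨y, hy, hya⟩
    have : y = ⟨a, ha⟩ := Subtype.ext hya
    rwa [← this]
  · intro h
    exact ⟨⟨a, ha⟩, h, rfl⟩

theorem M_aux_card_map {G : Subgroup H} (K : Subgroup ↥G) :
    Nat.card (K.map G.subtype) = Nat.card K :=
  (Nat.card_congr (K.equivMapOfInjective G.subtype G.subtype_injective).toEquiv).symm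

/-- the arithmetic: `|T| = 2|Q|`, `|G| = q|T|`, `q` odd -/
theorem M_aux_card [Finite H] (G : Subgroup H) (S : Sylow 2 ↥G) (q : ℕ) (hq : q.Prime)
    (hD : Nonempty (↥G ⧸ Cfsg.pCore 2 ↥G ≃* DihedralGroup q)) :
    Odd q ∧ Nat.card S = 2 * Nat.card (pCore 2 ↥G) ∧ Nat.card G = q * Nat.card S := by
  haveI : Fact (Nat.Prime 2) := ⟨Nat.prime_two⟩
  obtain ⟨φ⟩ := hD
  have hG : Nat.card G = 2 * q * Nat.card (pCore 2 ↥G) := by
    rw [Subgroup.card_eq_card_quotient_mul_card_subgroup (pCore 2 ↥G), Nat.card_congr φ.toEquiv,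
      DihedralGroup.nat_card]
  obtain ⟨k, hk⟩ := (pCore_isPGroup (G := ↥G) 2).exists_card_eq
  obtain ⟨n, hn⟩ := S.isPGroup'.exists_card_eq
  have hG0 : 0 < Nat.card G := Nat.card_pos
  have hodd : Odd q := by
    rcases hq.eq_two_or_odd' with h2 | h2
    · exfalso
      subst h2
      have hp : IsPGroup 2 ↥G := by
        apply IsPGroup.of_card (n := k + 2)
        rw [hG, hk]; ring
      have htop : (⊤ : Subgroup ↥G) ≤ pCore 2 ↥G :=
        le_pCore 2 inferInstance (hp.to_subgroup ⊤)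
      have : pCore 2 ↥G = ⊤ := top_le_iff.1 htop
      rw [this, Subgroup.card_top] at hG
      omega
    · exact h2
  have hq2 : q ≠ 2 := by
    rintro rfl
    obtain ⟨m, hm⟩ := hodd
    omega
  have hidx := (S : Subgroup ↥G).index_mul_card
  have hnd : ¬ 2 ∣ (S : Subgroup ↥G).index := S.not_dvd_index
  rw [hn] at hidx
  rw [hk] at hG
  have hco1 : Nat.Coprime (2 ^ n) q :=
    Nat.Coprime.pow_left n ((Nat.coprime_primes Nat.prime_two hq).2 (Ne.symm hq2))
  have hco2 : Nat.Coprime (2 ^ (k + 1)) (S : Subgroup ↥G).index :=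
    Nat.Coprime.pow_left (k + 1) ((Nat.Prime.coprime_iff_not_dvd Nat.prime_two).2 hnd)
  have h1 : 2 ^ n ∣ 2 ^ (k + 1) * q := by
    refine ⟨(S : Subgroup ↥G).index, ?_⟩
    rw [mul_comm (2 ^ n), hidx, hG]; ring
  have h2 : 2 ^ (k + 1) ∣ (S : Subgroup ↥G).index * 2 ^ n := by
    refine ⟨q, ?_⟩
    rw [hidx, hG]; ring
  have h3 : n ≤ k + 1 :=
    (Nat.pow_dvd_pow_iff_le_right (by norm_num)).1 (hco1.dvd_of_dvd_mul_right h1)
  have h4 : k + 1 ≤ n :=
    (Nat.pow_dvd_pow_iff_le_right (by norm_num)).1 (hco2.dvd_of_dvd_mul_left h2)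
  have hnk : n = k + 1 := le_antisymm h3 h4
  refine ⟨hodd, ?_, ?_⟩
  · rw [hn, hk, hnk, pow_succ]; ring
  · rw [hG, hn, hnk, pow_succ]; ring

/-- a nonabelian simple group has trivial centre -/
theorem M_aux_center [IsSimpleGroup H] (hna : ¬ IsMulCommutative H) (Z : Subgroup H)
    (hZ : (⊤ : Subgroup H) ≤ centralizer (Z : Set H)) : Z = ⊥ := by
  have hZc : Z ≤ center H := by
    intro z hz
    rw [mem_center_iff]
    intro g
    exact ((mem_centralizer_iff.1 (hZ (mem_top g))) z hz).symm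
  rcases (inferInstance : (center H).Normal).eq_bot_or_eq_top with h | h
  · rw [eq_bot_iff, ← h]; exact hZc
  · exfalso
    apply hna
    refine ⟨⟨fun a b => ?_⟩⟩
    have : b ∈ center H := by rw [h]; exact mem_top b
    exact (mem_center_iff.1 this a)

/-- the configuration from the hypotheses of S2772 -/
theorem M_aux_setup [Finite H] [IsSimpleGroup H] (hna : ¬ IsMulCommutative H) (G : Subgroup H)
    (hG : IsCoatom G)
    (hchar : Subgroup.centralizer (Cfsg.pCore 2 ↥G : Set ↥G) ≤ Cfsg.pCore 2 ↥G) (S : Sylow 2 ↥G)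
    (hN : ¬ Subgroup.normalizer (((S : Subgroup ↥G).map G.subtype : Subgroup H) : Set H) ≤ G)
    (q : ℕ) (hq : q.Prime) (hD : Nonempty (↥G ⧸ Cfsg.pCore 2 ↥G ≃* DihedralGroup q)) :
    ∃ x : H, Setup G ((S : Subgroup ↥G).map G.subtype) (pCoreOf 2 G) x q := by
  obtain ⟨x, hxT, hxG⟩ := SetLike.not_le_iff_exists.1 hN
  obtain ⟨hodd, hc1, hc2⟩ := M_aux_card G S q hq hD
  obtain ⟨φ⟩ := hD
  refine ⟨x, ?_⟩
  refine
    { fin := inferInstance
      hq := hq
      hodd := hodd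
      hG := hG
      hnormal := fun N hN => hN.eq_bot_or_eq_top
      hcenter := M_aux_center hna
      hT := isSylowIn_of_sylow S
      hQ := rfl
      hchar := charP_ambient 2 hchar
      hcardT := ?_
      hcardG := ?_
      hxT := hxT
      hxG := hxG
      hdih := ?_ }
  · have e1 : Nat.card ((S : Subgroup ↥G).map G.subtype) = Nat.card S := M_aux_card_map _
    have e2 : Nat.card (pCoreOf 2 G) = Nat.card (pCore 2 ↥G) := M_aux_card_map _
    rw [e1, e2]; exact hc1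
  · have e1 : Nat.card ((S : Subgroup ↥G).map G.subtype) = Nat.card S := M_aux_card_map _
    rw [e1]; exact hc2
  · intro a ha g hg haQ haa
    have h1 : (⟨a, ha⟩ : ↥G) ∉ pCore 2 ↥G := fun h => haQ ((M_aux_mem_pCoreOf ha).2 h)
    have h2 : (⟨a, ha⟩ : ↥G) * ⟨a, ha⟩ ∈ pCore 2 ↥G := (M_aux_mem_pCoreOf (mul_mem ha ha)).1 haa
    have h3 := D_main (pCore 2 ↥G) hodd φ (g := ⟨g, hg⟩) h1 h2
    exact ⟨_, h3, rfl⟩

/-- **S2772 from S2858** -/
theorem S2772_main [Finite H] [IsSimpleGroup H] (hna : ¬ IsMulCommutative H) (G : Subgroup H)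
    (hG : IsCoatom G)
    (hchar : Subgroup.centralizer (Cfsg.pCore 2 ↥G : Set ↥G) ≤ Cfsg.pCore 2 ↥G) (S : Sylow 2 ↥G)
    (hN : ¬ Subgroup.normalizer (((S : Subgroup ↥G).map G.subtype : Subgroup H) : Set H) ≤ G)
    (q : ℕ) (hq : q.Prime) (hD : Nonempty (↥G ⧸ Cfsg.pCore 2 ↥G ≃* DihedralGroup q))
    (hA : ∀ P₁ P₂ T : Subgroup H, Cfsg.Agent.S2858P.Hyp P₁ P₂ T → Cfsg.Agent.S2858P.Concl P₁ P₂) :
    Nonempty (↥G ≃* Equiv.Perm (Fin 4)) ∨
      Nonempty (↥G ≃* Equiv.Perm (Fin 4) × Multiplicative (ZMod 2)) := by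
  obtain ⟨x, s⟩ := M_aux_setup hna G hG hchar S hN q hq hD
  have hq3 := s.q_eq_three
  subst hq3
  obtain ⟨φ⟩ := hD
  obtain ⟨ψ⟩ := Cfsg.Agent.Helper3.dihedral3_equiv_perm
  have m1 : G ∈ ({G, G.map (cj x)} : Set (Subgroup H)) := Set.mem_insert _ _
  have hch1 := charP_ambient 2 hchar
  have hyp : Cfsg.Agent.S2858P.Hyp G (G.map (cj x)) ((S : Subgroup ↥G).map G.subtype) :=
    { fin₁ := inferInstance
      fin₂ := inferInstance
      hgen := s.gen
      hT := s.inf_eq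
      h₁ := by
        rintro P (rfl | rfl)
        · exact hch1
        · exact charP_ambient_map_cj 2 x hch1
      h₂ := by
        rintro P (rfl | rfl)
        · exact ⟨S, (subgroupOf_map_subtype' (S : Subgroup ↥P)).symm⟩
        · have h1 := s.hT.map_cj x
          rw [s.T_map] at h1
          exact ⟨h1.toSylow, rfl⟩
      h₃ := s.core
      h₄ := by
        rintro P (rfl | rfl)
        · exact ⟨φ.trans ψ⟩
        · let e : ↥G ≃* ↥(G.map (cj x)) := G.equivMapOfInjective (cj x) (cj_injective x)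
          have he : (pCore 2 ↥G).map e.toMonoidHom = pCore 2 ↥(G.map (cj x)) := pCore_map_equiv 2 e
          exact ⟨((QuotientGroup.congr (pCore 2 ↥G) (pCore 2 ↥(G.map (cj x))) e he).symm.trans
            φ).trans ψ⟩
      h₅ := by
        rintro P (rfl | rfl)
        · exact s.ncent
        · exact s.ncent' }
  rcases hA _ _ _ hyp with ⟨⟨e₁⟩, -⟩ | ⟨⟨e₁⟩, -⟩
  · exact Or.inl ⟨e₁⟩
  · exact Or.inr ⟨e₁.trans MulEquiv.prodComm⟩

end Cfsg.Agent.S2772P
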