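import Mathlib

/-!
# S2788, piece ELT8

`SL₂(F)`, `|F| = 8`, has an element of order `9`; and `9 ∣ 2 ^ j - 1` forces `6 ≤ j`.
-/

set_option autoImplicit false

namespace Cfsg.Agent.S2788P

open Matrix

namespace ELT8

/-- in characteristic two a `2 × 2` matrix of trace `1` and determinant `1` has cube `1` -/
theorem cube_eq_one {R : Type*} [CommRing R] (h2 : (2 : R) = 0) (a b c d : R)
    (htr : a + d = 1) (hdet : a * d - b * c = 1) :
    (!![a, b; c, d] : Matrix (Fin 2) (Fin 2) R) ^ 3 = 1 := by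
  have hM2 : (!![a, b; c, d] : Matrix (Fin 2) (Fin 2) R) * !![a, b; c, d] = !![a, b; c, d] - 1 := by
    ext i j
    fin_cases i <;> fin_cases j <;> simp [Matrix.mul_apply, Fin.sum_univ_two]
    · linear_combination a * htr - hdet
    · linear_combination b * htr
    · linear_combination c * htr
    · linear_combination d * htr - hdet
  have hneg : (-1 : Matrix (Fin 2) (Fin 2) R) = 1 := by
    ext i j
    fin_cases i <;> fin_cases j <;> simp
    · linear_combination (-1 : R) * h2
    · linear_combination (-1 : R) * h2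
  rw [pow_succ, pow_two, hM2, sub_mul, hM2, one_mul, sub_sub_cancel_left, hneg]

theorem exists_root {F : Type*} [Field F] [Fintype F] (hF : Fintype.card F = 8) :
    ∃ t : F, t ^ 3 + t + 1 = 0 := by
  have hchar : CharP F 2 := by
    have : Fact (Nat.Prime 2) := ⟨Nat.prime_two⟩
    exact charP_of_card_eq_prime_pow (p := 2) (f := 3) (by rw [hF]; norm_num)
  have h2 : (2 : F) = 0 := by
    have := CharP.cast_eq_zero F 2
    exact_mod_cast this
  obtain ⟨t, ht0, ht1⟩ : ∃ t : F, t ≠ 0 ∧ t ≠ 1 := by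
    by_contra hcon
    have hall : ∀ t : F, t = 0 ∨ t = 1 := by
      intro t
      by_contra h
      exact hcon ⟨t, fun h0 => h (Or.inl h0), fun h1 => h (Or.inr h1)⟩
    have hle : Fintype.card F ≤ 2 := by
      classical
      calc Fintype.card F = (Finset.univ : Finset F).card := rfl
        _ ≤ ({0, 1} : Finset F).card := by
          apply Finset.card_le_card
          intro t _
          rcases hall t with h | h <;> simp [h]
        _ ≤ 2 := Finset.card_le_two
    omega
  have h7 : t ^ 7 = 1 := by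
    have := FiniteField.pow_card_sub_one_eq_one t ht0
    rwa [hF] at this
  have hprod : (t - 1) * ((t ^ 3 + t + 1) * (t ^ 3 + t ^ 2 + 1)) = 0 := by
    linear_combination h7 + (t ^ 3 * (t - 1)) * h2
  rcases mul_eq_zero.1 hprod with h | h
  · exact absurd (sub_eq_zero.1 h) ht1
  rcases mul_eq_zero.1 h with h | h
  · exact ⟨t, h⟩
  · refine ⟨t⁻¹, ?_⟩
    have : t⁻¹ ^ 3 + t⁻¹ + 1 = t⁻¹ ^ 3 * (t ^ 3 + t ^ 2 + 1) := by
      field_simp
      ring
    rw [this, h, mul_zero]

theorem exists_elt_eight {F : Type*} [Field F] [Fintype F] (hF : Fintype.card F = 8) :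
    ∃ x : SpecialLinearGroup (Fin 2) F, orderOf x = 9 := by
  have hchar : CharP F 2 := by
    have : Fact (Nat.Prime 2) := ⟨Nat.prime_two⟩
    exact charP_of_card_eq_prime_pow (p := 2) (f := 3) (by rw [hF]; norm_num)
  have h2 : (2 : F) = 0 := by
    have := CharP.cast_eq_zero F 2
    exact_mod_cast this
  obtain ⟨t, ht⟩ := exists_root hF
  have hdet : (!![0, 1; 1, t] : Matrix (Fin 2) (Fin 2) F).det = 1 := by
    rw [Matrix.det_fin_two_of]
    linear_combination -h2
  obtain ⟨x, hxdef⟩ : ∃ x : SpecialLinearGroup (Fin 2) F,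
      (x : Matrix (Fin 2) (Fin 2) F) = !![0, 1; 1, t] := ⟨⟨_, hdet⟩, rfl⟩
  have hx3 : ((x ^ 3 : SpecialLinearGroup (Fin 2) F) : Matrix (Fin 2) (Fin 2) F) =
      !![t, t ^ 2 + 1; t ^ 2 + 1, t ^ 3 + 2 * t] := by
    rw [Matrix.SpecialLinearGroup.coe_pow, hxdef]
    ext i j
    fin_cases i <;> fin_cases j <;>
      simp [pow_succ, Matrix.mul_apply, Fin.sum_univ_two] <;> ring
  refine ⟨x, ?_⟩
  have h9 : x ^ 3 ^ (1 + 1) = 1 := by
    have : x ^ 3 ^ (1 + 1) = (x ^ 3) ^ 3 := by rw [← pow_mul]; norm_num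
    rw [this]
    apply Subtype.ext
    rw [Matrix.SpecialLinearGroup.coe_pow, hx3, Matrix.SpecialLinearGroup.coe_one]
    apply cube_eq_one h2
    · linear_combination ht + (t - 1) * h2
    · have hd : (!![t, t ^ 2 + 1; t ^ 2 + 1, t ^ 3 + 2 * t] : Matrix (Fin 2) (Fin 2) F).det = 1 := by
        rw [← hx3]
        exact (x ^ 3).2
      rw [Matrix.det_fin_two_of] at hd
      exact hd
  have hne : ¬ x ^ 3 ^ 1 = 1 := by
    rw [pow_one]
    intro h
    have h00 := congrArg (fun M : SpecialLinearGroup (Fin 2) F => (M : Matrix (Fin 2) (Fin 2) F) 0 0) h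
    simp only [hx3, Matrix.SpecialLinearGroup.coe_one] at h00
    have ht1 : t = 1 := by simpa using h00
    rw [ht1] at ht
    have h10 : (1 : F) = 0 := by linear_combination ht - h2
    exact one_ne_zero h10
  have := orderOf_eq_prime_pow (p := 3) (n := 1) hne h9
  simpa using this

theorem six_le_of_nine_dvd (j : ℕ) (hj : 0 < j) (h : 9 ∣ 2 ^ j - 1) : 6 ≤ j := by
  by_contra hlt
  have hj5 : j ≤ 5 := by omega
  interval_cases j <;> omega

end ELT8

end Cfsg.Agent.S2788P
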