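import Mathlib
import Cfsg.Agent.Helper17.Zsigmondy
import Cfsg.Agent.Helper12.SLCardDvd

/-!
# S2788, piece ZSIGELT

For `|F| = p ^ n`, `n ≥ 2`, `(p, n) ≠ (2, 3)`: `SL₂(F)` has an element of prime order `r`,
`r` a primitive prime divisor of `p ^ (2n) - 1`.
-/

set_option autoImplicit false

namespace Cfsg.Agent.S2788P

open Matrix

namespace ZSIGELT

theorem exists_elt_generic {F : Type*} [Field F] [Fintype F] (p n : ℕ) [Fact p.Prime]
    (hF : Fintype.card F = p ^ n) (hn : 2 ≤ n) (h8 : ¬ (p = 2 ∧ n = 3)) :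
    ∃ (r e : ℕ) (x : SpecialLinearGroup (Fin 2) F), r.Prime ∧ r ≠ p ∧ r ≠ 2 ∧
      orderOf x = r ^ (e + 1) ∧ ∀ j, 0 < j → r ^ (e + 1) ∣ p ^ j - 1 → 2 * n ≤ j := by
  have hp : p.Prime := Fact.out
  obtain ⟨r, hr, hrdvd, hprim⟩ := Cfsg.Agent.Helper17.Zsig.zsigmondy (a := p) (n := 2 * n)
    hp.one_lt (by omega) (by rintro ⟨h1, h2⟩; exact h8 ⟨h1, by omega⟩)
    (by rintro ⟨h1, -⟩; omega)
  have hp1 : 1 ≤ p ^ (2 * n) := Nat.one_le_pow _ _ hp.pos
  have hrp : r ≠ p := by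
    rintro rfl
    have h1 : r ∣ r ^ (2 * n) := dvd_pow_self r (by omega)
    have h2 : r ∣ r ^ (2 * n) - (r ^ (2 * n) - 1) := Nat.dvd_sub h1 hrdvd
    have h3 : r ^ (2 * n) - (r ^ (2 * n) - 1) = 1 := by omega
    rw [h3] at h2
    exact hr.one_lt.ne' (Nat.dvd_one.1 h2)
  have hr2 : r ≠ 2 := by
    rintro rfl
    -- then `p` is odd and `2 ∣ p - 1`
    have hpodd : p ≠ 2 := fun h => hrp h.symm
    have hodd : Odd p := hp.odd_of_ne_two hpodd
    apply hprim 1 (by omega) (by omega)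
    rw [pow_one]
    obtain ⟨k, hk⟩ := hodd
    exact ⟨k, by omega⟩
  -- an element of order `r`
  have hcard : r ∣ Nat.card (SpecialLinearGroup (Fin 2) F) := by
    apply Cfsg.Agent.Helper12.SLCardDvd.prime_dvd_card_SL_of_dvd_pow_sub_one (F := F) 2 2 r
      le_rfl (by omega) le_rfl
    rw [hF, ← pow_mul, mul_comm]
    exact hrdvd
  have : Fact r.Prime := ⟨hr⟩
  obtain ⟨x, hx⟩ := exists_prime_orderOf_dvd_card' (G := SpecialLinearGroup (Fin 2) F) r hcard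
  refine ⟨r, 0, x, hr, hrp, hr2, by simpa using hx, ?_⟩
  intro j hj hdvd
  by_contra hlt
  exact hprim j hj (by omega) (by simpa using hdvd)

end ZSIGELT

end Cfsg.Agent.S2788P
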