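import Mathlib
import Cfsg.Prelude
import Cfsg.Agent.Helper7.S2788Defs
import Cfsg.Agent.Helper7.S2788IDX1
import Cfsg.Agent.Helper7.S2788ZSIGELT
import Cfsg.Agent.Helper7.S2788ELT8
import Cfsg.Agent.Helper18.S2788UNIP
import Cfsg.Agent.Helper18.S2788PRODODD
import Cfsg.Agent.Helper19.S2788PRODEVEN
import Cfsg.Agent.Helper26.S2788ORB1
import Cfsg.Agent.Helper26.S2788ORB2

/-!
# S2788 (and S2782, S2785): the core bound

`core_bound`: `H` faithful on the elementary abelian `p`-group `V`, `H` maps onto a central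
quotient `Q` of `SL₂(F)`, `|F| = p ^ n`; every `p`-element `s` of `H` with nontrivial image in `Q`
has `p ^ n ≤ |V : C_V(s)|`.
-/

set_option autoImplicit false
open Cfsg Matrix

namespace Cfsg.Agent.S2788P.FINAL

/-- a unipotent `u ≠ 1` and a conjugate of it have a product one of whose powers has the
order of a given element `x` of odd order. -/
theorem exists_conj_prod {F : Type*} [Field F] [Fintype F] (p : ℕ) [Fact p.Prime] [CharP F p]
    (u : SpecialLinearGroup (Fin 2) F) (hu1 : u ≠ 1) (k : ℕ) (hu : u ^ (p ^ k) = 1)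
    (x : SpecialLinearGroup (Fin 2) F) (m : ℕ) (hx : orderOf x = m) (hm : Odd m) (hm1 : 1 < m) :
    ∃ (σ : SpecialLinearGroup (Fin 2) F) (k : ℕ), orderOf ((u * (σ * u * σ⁻¹)) ^ k) = m := by
  obtain ⟨τ, l, hl, rfl⟩ := UNIP.unip_conj p u hu1 k hu
  have key : ∃ (σ : SpecialLinearGroup (Fin 2) F) (k : ℕ),
      orderOf ((upr l * (σ * upr l * σ⁻¹)) ^ k) = m := by
    by_cases h2 : (2 : F) = 0
    · exact PRODEVEN.prod_even h2 l hl x m hx hm hm1
    · exact PRODODD.prod_odd h2 l hl x m hx hm hm1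
  obtain ⟨σ, k', hk'⟩ := key
  refine ⟨τ * σ * τ⁻¹, k', ?_⟩
  have h1 : (τ * upr l * τ⁻¹ * (τ * σ * τ⁻¹ * (τ * upr l * τ⁻¹) * (τ * σ * τ⁻¹)⁻¹)) ^ k' =
      τ * (upr l * (σ * upr l * σ⁻¹)) ^ k' * τ⁻¹ := by
    rw [← conj_pow]
    congr 1
    group
  rw [h1, ← hk']
  exact orderOf_injective (MulAut.conj τ).toMonoidHom (MulAut.conj τ).injective _

/-- the element of prime power order used for the counting -/
theorem exists_elt {F : Type*} [Field F] [Fintype F] (p n : ℕ) [Fact p.Prime]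
    (hF : Fintype.card F = p ^ n) (hn : 2 ≤ n) :
    ∃ (r e : ℕ) (x : SpecialLinearGroup (Fin 2) F), r.Prime ∧ r ≠ p ∧ r ≠ 2 ∧
      orderOf x = r ^ (e + 1) ∧ ∀ j, 0 < j → r ^ (e + 1) ∣ p ^ j - 1 → 2 * n ≤ j := by
  by_cases h8 : p = 2 ∧ n = 3
  · obtain ⟨hp2, hn3⟩ := h8
    obtain ⟨x, hx⟩ := ELT8.exists_elt_eight (F := F) (by rw [hF, hp2, hn3]; norm_num)
    refine ⟨3, 1, x, Nat.prime_three, by omega, by omega, by rw [hx]; norm_num, ?_⟩
    intro j hj h
    rw [hp2] at h
    have := ELT8.six_le_of_nine_dvd j hj (by simpa using h)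
    omega
  · exact ZSIGELT.exists_elt_generic p n hF hn h8

/-- **Core bound.**  `H` acts faithfully on the elementary abelian `p`-group `V`, `H` maps onto
a quotient `Q` of `SL₂(F)` by a central subgroup, `|F| = p ^ n`.  Every `p`-element `s` of `H`
with nontrivial image in `Q` has `p ^ n ≤ |V : C_V(s)|`. -/
theorem core_bound {G : Type*} [Group G] [Finite G] {p : ℕ} [Fact p.Prime] (V H : Subgroup G)
    (hV : Cfsg.IsElementaryAbelian p V) (hHV : H ≤ Subgroup.normalizer (V : Set G))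
    (hf : H ⊓ Subgroup.centralizer (V : Set G) = ⊥) {F : Type*} [Field F] [Fintype F] (n : ℕ)
    (hF : Fintype.card F = p ^ n) {Q : Type*} [Group Q] (π : ↥H →* Q)
    (hπ : Function.Surjective π) (φ : SpecialLinearGroup (Fin 2) F →* Q)
    (hφ : Function.Surjective φ)
    (hker : ∀ g : SpecialLinearGroup (Fin 2) F, φ g = 1 → g = 1 ∨ g = -1)
    (s : ↥H) (hs : π s ≠ 1) (k : ℕ) (hsk : s ^ (p ^ k) = 1) :
    p ^ n ≤ ((V ⊓ Subgroup.centralizer ({(s : G)} : Set G))).relIndex V := by
  have hp : p.Prime := Fact.out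
  have hchar : CharP F p := charP_of_card_eq_prime_pow hF
  have hs1 : s ≠ 1 := fun h => hs (by rw [h, map_one])
  have hnotC : ∀ g : ↥H, g ≠ 1 → (g : G) ∉ Subgroup.centralizer (V : Set G) := by
    intro g hg hmem
    have h1 : (g : G) ∈ H ⊓ Subgroup.centralizer (V : Set G) := ⟨g.2, hmem⟩
    rw [hf, Subgroup.mem_bot] at h1
    exact hg (Subtype.ext h1)
  have hn0 : n ≠ 0 := by
    rintro rfl
    have := Fintype.one_lt_card (α := F)
    rw [hF] at this
    simp at this
  rcases Nat.lt_or_ge n 2 with hn | hn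
  · have hn1 : n = 1 := by omega
    subst hn1
    rw [pow_one]
    exact IDX1.le_relIndex V hV _ (hnotC s hs1)
  · -- a `p`-element `u` of `SL₂(F)` over `π s`
    obtain ⟨u, hu, hupk⟩ : ∃ u : SpecialLinearGroup (Fin 2) F, φ u = π s ∧ u ^ (p ^ k) = 1 := by
      obtain ⟨u', hu'⟩ := hφ (π s)
      have hz : φ (u' ^ (p ^ k)) = 1 := by rw [map_pow, hu', ← map_pow, hsk, map_one]
      rcases hker _ hz with h1 | h1
      · exact ⟨u', hu', h1⟩
      · rcases hp.eq_two_or_odd' with h2 | hodd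
        · -- characteristic two: `-1 = 1`
          refine ⟨u', hu', ?_⟩
          rw [h1]
          apply Subtype.ext
          rw [Matrix.SpecialLinearGroup.coe_neg, Matrix.SpecialLinearGroup.coe_one]
          have h20 : (2 : F) = 0 := by
            have := CharP.cast_eq_zero F p
            rw [h2] at this
            exact_mod_cast this
          ext i j
          rw [Matrix.neg_apply]
          have : (1 : Matrix (Fin 2) (Fin 2) F) i j + (1 : Matrix (Fin 2) (Fin 2) F) i j = 0 := by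
            rw [← two_mul, h20, zero_mul]
          exact neg_eq_of_add_eq_zero_left this
        · refine ⟨-u', ?_, ?_⟩
          · have hm1 : φ (-1) = 1 := by rw [← h1]; exact hz
            have : -u' = (-1) * u' := by rw [neg_mul, one_mul]
            rw [this, map_mul, hm1, one_mul, hu']
          · rw [Odd.neg_pow (hodd.pow), h1, neg_neg]
    have hu1 : u ≠ 1 := fun h => hs (by rw [← hu, h, map_one])
    obtain ⟨r, e, x, hr, hrp, hr2, hx, hprim⟩ := exists_elt (F := F) p n hF hn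
    have hodd : Odd (r ^ (e + 1)) := (hr.odd_of_ne_two hr2).pow
    have h1lt : 1 < r ^ (e + 1) := Nat.one_lt_pow (by omega) hr.one_lt
    obtain ⟨σ, k', hk'⟩ := exists_conj_prod p u hu1 k hupk x _ hx hodd h1lt
    obtain ⟨h, hh⟩ := hπ (φ σ)
    -- the image in `Q` has order `N`
    have hΦ : π ((s * (h * s * h⁻¹)) ^ k') = φ ((u * (σ * u * σ⁻¹)) ^ k') := by
      simp only [map_pow, map_mul, map_inv, hh, hu]
    have hordQ : orderOf (φ ((u * (σ * u * σ⁻¹)) ^ k')) = r ^ (e + 1) := by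
      set w := (u * (σ * u * σ⁻¹)) ^ k' with hw
      apply Nat.dvd_antisymm
      · rw [← hk']
        exact orderOf_map_dvd φ w
      · have h1 : φ (w ^ orderOf (φ w)) = 1 := by rw [map_pow, pow_orderOf_eq_one]
        have h2 : w ^ (2 * orderOf (φ w)) = 1 := by
          rw [mul_comm, pow_mul]
          rcases hker _ h1 with h3 | h3
          · rw [h3, one_pow]
          · rw [h3, neg_one_sq]
        have h3 := orderOf_dvd_of_pow_eq_one h2
        rw [hk'] at h3
        exact (Nat.Coprime.dvd_of_dvd_mul_left (Nat.coprime_two_right.2 hodd) h3)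
    have hdvd : r ^ (e + 1) ∣ orderOf ((s * (h * s * h⁻¹)) ^ k') := by
      rw [← hordQ, ← hΦ]
      exact orderOf_map_dvd π _
    obtain ⟨M, hM⟩ := hdvd
    have hpos : 0 < orderOf ((s * (h * s * h⁻¹)) ^ k') := orderOf_pos _
    have hM0 : M ≠ 0 := by
      rintro rfl
      rw [mul_zero] at hM
      omega
    have hord : orderOf ((s * (h * s * h⁻¹)) ^ (k' * M)) = r ^ (e + 1) := by
      rw [pow_mul, orderOf_pow_of_dvd hM0 ⟨r ^ (e + 1), by rw [hM, mul_comm]⟩, hM]
      exact Nat.mul_div_cancel _ (Nat.pos_of_ne_zero hM0)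
    have hcoe : ((((s * (h * s * h⁻¹)) ^ (k' * M) : ↥H)) : G) =
        ((s : G) * ((h : G) * (s : G) * (h : G)⁻¹)) ^ (k' * M) := by
      simp
    have hordG : orderOf (((s : G) * ((h : G) * (s : G) * (h : G)⁻¹)) ^ (k' * M)) =
        r ^ (e + 1) := by
      rw [← hord, ← hcoe]
      exact Subgroup.orderOf_coe _
    refine ORB2.index_bound V hV (s : G) (h : G) (hHV s.2) (hHV h.2) (k' * M) n r e hr hrp hordG
      ?_ hprim
    have hy1 : ((s * (h * s * h⁻¹)) ^ (k' * M)) ^ (r ^ e) ≠ 1 := by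
      intro h1
      have h2 := orderOf_dvd_of_pow_eq_one h1
      rw [hord] at h2
      have h3 := Nat.le_of_dvd (pow_pos hr.pos _) h2
      have h4 : r ^ e < r ^ (e + 1) := Nat.pow_lt_pow_right hr.one_lt (by omega)
      omega
    have := hnotC _ hy1
    rwa [Subgroup.coe_pow, hcoe] at this

end Cfsg.Agent.S2788P.FINAL
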