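import Mathlib
import Cfsg.Prelude
import Cfsg.Agent.Helper7.PLocal
import Cfsg.Agent.Helper7.S2788CORE
import Cfsg.Agent.Helper18.S2788FIXP
import Cfsg.Agent.Helper18.S2788PSLKER

/-!
# S2782, S2785: the three bounds for `H / O_{p'}(H) ≅ PSL₂(F)`
-/

set_option autoImplicit false
open Cfsg Matrix

namespace Cfsg.Agent.S2788P.FINAL

/-- `p ^ (2n) ≤ |V|` -/
theorem card_bound {G : Type*} [Group G] [Finite G] {p : ℕ} [Fact p.Prime] (V H : Subgroup G)
    (hV : Cfsg.IsElementaryAbelian p V) (hHV : H ≤ Subgroup.normalizer (V : Set G))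
    (hf : H ⊓ Subgroup.centralizer (V : Set G) = ⊥) {F : Type*} [Field F] [Fintype F] (n : ℕ)
    (hF : Fintype.card F = p ^ n) {Q : Type*} [Group Q] (π : ↥H →* Q)
    (hπ : Function.Surjective π) (φ : SpecialLinearGroup (Fin 2) F →* Q)
    (hker : ∀ g : SpecialLinearGroup (Fin 2) F, φ g = 1 → g = 1 ∨ g = -1)
    (s : ↥H) (hs1 : s ≠ 1) (k : ℕ) (hsk : s ^ (p ^ k) = 1) :
    p ^ (2 * n) ≤ Nat.card V := by
  have hp : p.Prime := Fact.out
  have hnotC : ∀ g : ↥H, g ≠ 1 → (g : G) ∉ Subgroup.centralizer (V : Set G) := by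
    intro g hg hmem
    have h1 : (g : G) ∈ H ⊓ Subgroup.centralizer (V : Set G) := ⟨g.2, hmem⟩
    rw [hf, Subgroup.mem_bot] at h1
    exact hg (Subtype.ext h1)
  have hn0 : n ≠ 0 := by
    rintro rfl
    have := Fintype.one_lt_card (α := F)
    rw [hF] at this
    simp at this
  rcases Nat.lt_or_ge n 2 with hn | hn
  · have hn1 : n = 1 := by omega
    subst hn1
    rw [mul_one]
    exact FIXP.sq_le_card V hV (s : G) (hHV s.2) k
      (by rw [← Subgroup.coe_pow, hsk, Subgroup.coe_one]) (hnotC s hs1)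
  · obtain ⟨r, e, x, hr, hrp, hr2, hx, hprim⟩ := exists_elt (F := F) p n hF hn
    have hodd : Odd (r ^ (e + 1)) := (hr.odd_of_ne_two hr2).pow
    obtain ⟨y', hy'⟩ := hπ (φ x)
    have hordQ : orderOf (φ x) = r ^ (e + 1) := by
      apply Nat.dvd_antisymm
      · rw [← hx]
        exact orderOf_map_dvd φ x
      · have h1 : φ (x ^ orderOf (φ x)) = 1 := by rw [map_pow, pow_orderOf_eq_one]
        have h2 : x ^ (2 * orderOf (φ x)) = 1 := by
          rw [mul_comm, pow_mul]
          rcases hker _ h1 with h3 | h3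
          · rw [h3, one_pow]
          · rw [h3, neg_one_sq]
        have h3 := orderOf_dvd_of_pow_eq_one h2
        rw [hx] at h3
        exact (Nat.Coprime.dvd_of_dvd_mul_left (Nat.coprime_two_right.2 hodd) h3)
    have hdvd : r ^ (e + 1) ∣ orderOf y' := by
      rw [← hordQ, ← hy']
      exact orderOf_map_dvd π _
    obtain ⟨M, hM⟩ := hdvd
    have hpos : 0 < orderOf y' := orderOf_pos _
    have hM0 : M ≠ 0 := by
      rintro rfl
      rw [mul_zero] at hM
      omega
    have hord : orderOf (y' ^ M) = r ^ (e + 1) := by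
      rw [orderOf_pow_of_dvd hM0 ⟨r ^ (e + 1), by rw [hM, mul_comm]⟩, hM]
      exact Nat.mul_div_cancel _ (Nat.pos_of_ne_zero hM0)
    have hordG : orderOf (((y' ^ M : ↥H)) : G) = r ^ (e + 1) := by
      rw [← hord]
      exact Subgroup.orderOf_coe _
    have hy1 : (y' ^ M) ^ (r ^ e) ≠ 1 := by
      intro h1
      have h2 := orderOf_dvd_of_pow_eq_one h1
      rw [hord] at h2
      have h3 := Nat.le_of_dvd (pow_pos hr.pos _) h2
      have h4 : r ^ e < r ^ (e + 1) := Nat.pow_lt_pow_right hr.one_lt (by omega)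
      omega
    obtain ⟨j, hj, hidx, hjdvd⟩ := ORB1.orbit_count V hV ((y' ^ M : ↥H) : G) (hHV (y' ^ M).2) r e hr
      hrp hordG (by
        have := hnotC _ hy1
        rwa [Subgroup.coe_pow] at this)
    have h2n : 2 * n ≤ j := hprim j hj hjdvd
    have hle : p ^ j ≤ Nat.card V := by
      rw [← hidx]
      apply Nat.le_of_dvd Nat.card_pos
      rw [Subgroup.relIndex]
      exact Subgroup.index_dvd_card _
    exact (Nat.pow_le_pow_right hp.pos h2n).trans hle

/-- the three bounds for `H / O_{p'}(H) ≅ PSL₂(F)` -/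
theorem three_bounds {G : Type*} [Group G] [Finite G] {p : ℕ} [Fact p.Prime] (V H : Subgroup G)
    (hV : Cfsg.IsElementaryAbelian p V) (hHV : H ≤ Subgroup.normalizer (V : Set G))
    (hf : H ⊓ Subgroup.centralizer (V : Set G) = ⊥) {F : Type*} [Field F] [Fintype F] (n : ℕ)
    (hF : Fintype.card F = p ^ n)
    (hiso : Nonempty (↥H ⧸ Cfsg.pPrimeCore p ↥H ≃* Matrix.ProjectiveSpecialLinearGroup (Fin 2) F))
    (S : Sylow p ↥H) (A : Subgroup G) (hA : A ≤ (S : Subgroup ↥H).map H.subtype)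
    (hA1 : 1 < Nat.card A) :
    (p ^ n) ^ 2 ≤ Nat.card V ∧
      p ^ n ≤ ((V ⊓ Subgroup.centralizer ((A : Subgroup G) : Set G))).relIndex V ∧
      ∀ s ∈ (S : Subgroup ↥H).map H.subtype, s ≠ 1 →
        (p ^ n) ^ 2 ≤ (((V ⊓ Subgroup.centralizer ({s} : Set G))).relIndex V) ^ 3 := by
  have hp : p.Prime := Fact.out
  obtain ⟨Φ⟩ := hiso
  let π : ↥H →* Matrix.ProjectiveSpecialLinearGroup (Fin 2) F :=
    Φ.toMonoidHom.comp (QuotientGroup.mk' (Cfsg.pPrimeCore p ↥H))
  have hπ : Function.Surjective π :=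
    Φ.surjective.comp (QuotientGroup.mk'_surjective _)
  let φ : SpecialLinearGroup (Fin 2) F →* Matrix.ProjectiveSpecialLinearGroup (Fin 2) F :=
    QuotientGroup.mk' (Subgroup.center (SpecialLinearGroup (Fin 2) F))
  have hφ : Function.Surjective φ := PSLKER.mk_surjective
  have hker : ∀ g : SpecialLinearGroup (Fin 2) F, φ g = 1 → g = 1 ∨ g = -1 :=
    fun g hg => PSLKER.ker_mk g hg
  -- nonidentity elements of `S` survive in the quotient
  have hsurv : ∀ s : ↥H, s ∈ S → s ≠ 1 → π s ≠ 1 ∧ ∃ k, s ^ (p ^ k) = 1 := by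
    intro s hsS hs1
    obtain ⟨k, hk⟩ := S.isPGroup' ⟨s, hsS⟩
    have hsk : s ^ (p ^ k) = 1 := by simpa using congrArg Subtype.val hk
    refine ⟨?_, k, hsk⟩
    intro hπs
    have hmem : s ∈ Cfsg.pPrimeCore p ↥H := by
      have h1 : (QuotientGroup.mk' (Cfsg.pPrimeCore p ↥H)) s = 1 := by
        apply Φ.injective
        rw [map_one]
        exact hπs
      exact (QuotientGroup.eq_one_iff s).1 h1
    have hcop := Cfsg.Agent.Helper7.orderOf_coprime_of_mem_pPrimeCore p hmem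
    have hdvd : orderOf s ∣ p ^ k := orderOf_dvd_of_pow_eq_one hsk
    have h1 : orderOf s = 1 := by
      have h2 : (orderOf s).Coprime (p ^ k) := Nat.Coprime.pow_right k hcop
      exact Nat.Coprime.eq_one_of_dvd h2 hdvd
    exact hs1 (orderOf_eq_one_iff.1 h1)
  have hidx : ∀ s ∈ (S : Subgroup ↥H).map H.subtype, s ≠ 1 →
      p ^ n ≤ ((V ⊓ Subgroup.centralizer ({s} : Set G))).relIndex V := by
    intro s hs hs1
    obtain ⟨t, htS, rfl⟩ := Subgroup.mem_map.1 hs
    have ht1 : t ≠ 1 := fun h => hs1 (by rw [h]; simp)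
    obtain ⟨h1, k, hk⟩ := hsurv t htS ht1
    exact core_bound V H hV hHV hf n hF π hπ φ hφ hker t h1 k hk
  -- a nonidentity element of `A`
  obtain ⟨a, ha1⟩ : ∃ a : A, a ≠ 1 := by
    have : Nontrivial A := (Finite.one_lt_card_iff_nontrivial).1 hA1
    exact exists_ne 1
  have haT := hA a.2
  have ha1' : (a : G) ≠ 1 := fun h => ha1 (Subtype.ext h)
  refine ⟨?_, ?_, ?_⟩
  · obtain ⟨t, htS, hta⟩ := Subgroup.mem_map.1 haT
    have ht1 : t ≠ 1 := fun h => ha1' (by rw [← hta, h]; simp)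
    obtain ⟨h1, k, hk⟩ := hsurv t htS ht1
    rw [← pow_mul, mul_comm]
    exact card_bound V H hV hHV hf n hF π hπ φ hker t ht1 k hk
  · refine (hidx a haT ha1').trans ?_
    apply Nat.le_of_dvd
    · rw [Subgroup.relIndex]
      exact Nat.pos_of_ne_zero Subgroup.index_ne_zero_of_finite
    · apply Subgroup.relIndex_dvd_of_le_left
      apply inf_le_inf_left
      apply Subgroup.centralizer_le
      simp
  · intro s hs hs1
    have h1 := hidx s hs hs1
    have hq1 : 1 ≤ p ^ n := Nat.one_le_pow _ _ hp.pos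
    calc (p ^ n) ^ 2 ≤ (p ^ n) ^ 3 := Nat.pow_le_pow_right hq1 (by omega)
      _ ≤ _ := Nat.pow_le_pow_left h1 3

end Cfsg.Agent.S2788P.FINAL
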