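import Cfsg.Agent.Helper14.Kieler

/-!
# S2806 (point stabilizer of a join of subnormal subgroups): definitions for the piece board

`RelSubn N X`: `X` is reached from `N` by a finite chain `X = X_k ⊴ X_{k-1} ⊴ … ⊴ X_0 = N`
(all inside one ambient group, no subtypes).
-/

set_option autoImplicit false

namespace Cfsg.Agent.S2806P

variable {G : Type*} [Group G]

/-- relative subnormality chain below `N` -/
inductive RelSubn (N : Subgroup G) : Subgroup G → Prop
  | top : RelSubn N N
  | step (B K : Subgroup G) : B ≤ K → RelSubn N K → K ≤ Subgroup.normalizer (B : Set G) →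
      RelSubn N B

theorem RelSubn.le {N X : Subgroup G} (h : RelSubn N X) : X ≤ N := by
  induction h with
  | top => exact le_rfl
  | step B K hBK _ _ ih => exact hBK.trans ih

end Cfsg.Agent.S2806P
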