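import Cfsg.Agent.Helper7.S2806Defs
import Cfsg.Agent.Helper19.S2806SYLSUB

set_option autoImplicit false
set_option linter.unusedSectionVars false

namespace Cfsg.Agent.S2806P

open Cfsg Cfsg.Agent.Helper14

variable {G : Type*} [Group G] [Finite G] {p : ℕ} [Fact p.Prime]

theorem pelt_eq_one_h7 (T : Sylow p G) {E : Subgroup G} (hE : E.IsSubnormal)
    (h0 : (T : Subgroup G) ⊓ E = ⊥) {x : G} (hx : x ∈ E) (hk : ∃ k : ℕ, orderOf x = p ^ k) :
    x = 1 := by
  have hS : IsSylowIn p (⊥ : Subgroup G) E := by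
    have := isSylowIn_inf_of_isSubnormal T hE
    rwa [h0] at this
  have hxp : IsPGroup p ↥(Subgroup.zpowers x) := by
    obtain ⟨k, hk⟩ := hk
    apply IsPGroup.of_card (n := k)
    rw [Nat.card_zpowers, hk]
  have hle : Subgroup.zpowers x ≤ E := by
    rw [Subgroup.zpowers_le]; exact hx
  obtain ⟨U, hU, hxU⟩ := exists_isSylowIn_ge (p := p) hle hxp
  obtain ⟨g, _, hg⟩ := hS.exists_conj hU
  have hUbot : U = ⊥ := by rw [hg, Subgroup.map_bot]
  have : x ∈ (⊥ : Subgroup G) := by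
    rw [← hUbot]; exact hxU (Subgroup.mem_zpowers x)
  exact Subgroup.mem_bot.1 this

end Cfsg.Agent.S2806P
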