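import Cfsg.Agent.Helper7.S2806RNS
import Cfsg.Agent.Helper7.S2806PELTh
import Cfsg.Agent.Helper20.S2806SUBSYL
import Cfsg.Agent.S3028
import Cfsg.Agent.S0538

/-!
# S2806: final assembly (the two inclusions)
-/

set_option autoImplicit false
set_option linter.unusedSectionVars false
set_option linter.unusedVariables false

namespace Cfsg.Agent.S2806P

open Cfsg Cfsg.Agent.Helper14

variable {G : Type*} [Group G] [Finite G] {p : ℕ} [Fact p.Prime]

/-- K'' : for `p`-elements of a subnormal `Lᵢ ≤ L` the two centralizer conditions agree -/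
theorem kpp (hH : Cfsg.IsOfLocalCharacteristic p G) (T : Sylow p G) {L E : Subgroup G}
    (hL : L.IsSubnormal) (hE : E.IsSubnormal) (hEL : E ≤ L) {x : G} (hx : x ∈ E)
    (hk : ∃ k : ℕ, orderOf x = p ^ k) :
    x ∈ Subgroup.centralizer ((ozc p ((T : Subgroup G) ⊓ L) : Subgroup G) : Set G) ↔
      x ∈ Subgroup.centralizer ((ozc p ((T : Subgroup G) ⊓ E) : Subgroup G) : Set G) := by
  by_cases h0 : (T : Subgroup G) ⊓ E = ⊥
  · rw [pelt_eq_one_h7 T hE h0 hx hk]
    exact ⟨fun _ => Subgroup.one_mem _, fun _ => Subgroup.one_mem _⟩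
  · have hL0 : (T : Subgroup G) ⊓ L ≠ ⊥ := by
      intro h
      apply h0
      rw [eq_bot_iff, ← h]
      exact inf_le_inf_left _ hEL
    have h1 := kl hH T hL hL0
    have h2 := kl hH T hE h0
    have h3 : E ⊓ Subgroup.centralizer ((ozc p ((T : Subgroup G) ⊓ L) : Subgroup G) : Set G) =
        E ⊓ Subgroup.centralizer ((ozc p ((T : Subgroup G) ⊓ E) : Subgroup G) : Set G) := by
      rw [← h2]
      have : E ⊓ Subgroup.centralizer ((ozc p ((T : Subgroup G) ⊓ L) : Subgroup G) : Set G) =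
          E ⊓ (L ⊓ Subgroup.centralizer ((ozc p ((T : Subgroup G) ⊓ L) : Subgroup G) : Set G)) := by
        rw [← inf_assoc, inf_eq_left.2 hEL]
      rw [this, ← h1, ← inf_assoc, inf_eq_left.2 hEL]
    constructor
    · intro hc
      have : x ∈ E ⊓ Subgroup.centralizer ((ozc p ((T : Subgroup G) ⊓ L) : Subgroup G) : Set G) :=
        ⟨hx, hc⟩
      rw [h3] at this
      exact this.2
    · intro hc
      have : x ∈ E ⊓ Subgroup.centralizer ((ozc p ((T : Subgroup G) ⊓ E) : Subgroup G) : Set G) :=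
        ⟨hx, hc⟩
      rw [← h3] at this
      exact this.2

theorem pointStabilizer_eq (X R : Subgroup G) :
    pointStabilizer p X R =
      pElementClosure p (X ⊓ Subgroup.centralizer ((ozc p R : Subgroup G) : Set G)) := rfl

/-- `≥` -/
theorem ps_le (hH : Cfsg.IsOfLocalCharacteristic p G) (T : Sylow p G) {L E : Subgroup G}
    (hL : L.IsSubnormal) (hE : E.IsSubnormal) (hEL : E ≤ L) :
    pointStabilizer p E ((T : Subgroup G) ⊓ E) ≤ pointStabilizer p L ((T : Subgroup G) ⊓ L) := by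
  unfold pointStabilizer
  apply Subgroup.closure_mono
  rintro x ⟨⟨hxE, hxc⟩, hk⟩
  exact ⟨⟨hEL hxE, (kpp hH T hL hE hEL hxE hk).2 hxc⟩, hk⟩

/-- `≤` -/
theorem le_ps (hH : Cfsg.IsOfLocalCharacteristic p G) (T : Sylow p G) {L₁ L₂ : Subgroup G}
    (h₁ : L₁.IsSubnormal) (h₂ : L₂.IsSubnormal) :
    pointStabilizer p (L₁ ⊔ L₂) ((T : Subgroup G) ⊓ (L₁ ⊔ L₂)) ≤
      pointStabilizer p L₁ ((T : Subgroup G) ⊓ L₁) ⊔ pointStabilizer p L₂ ((T : Subgroup G) ⊓ L₂) := by
  have hL : (L₁ ⊔ L₂).IsSubnormal := Cfsg.Agent.S0538.result L₁ L₂ h₁ h₂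
  set L := L₁ ⊔ L₂ with hLdef
  set R := (T : Subgroup G) ⊓ L with hR
  set C := L ⊓ Subgroup.centralizer ((ozc p R : Subgroup G) : Set G) with hC
  -- `R ≤ C`
  have hRC : R ≤ C := by
    refine le_inf inf_le_right ?_
    intro r hr
    rw [Subgroup.mem_centralizer_iff]
    intro z hz
    have hz' : z ∈ R ⊓ Subgroup.centralizer (R : Set G) := omegaOne_le p _ hz
    exact (Subgroup.mem_centralizer_iff.1 hz'.2 r hr).symm
  have hRL : IsSylowIn p R L := isSylowIn_inf_of_isSubnormal T hL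
  have hRCs : IsSylowIn p R C := isSylowIn_of_le_of_isSylowIn hRC inf_le_left hRL
  -- subnormal subgroups of `↥C`
  have hA : ∀ E : Subgroup G, E.IsSubnormal → (E.subgroupOf C).IsSubnormal :=
    fun E hE => hE.subgroupOf
  have hD₁ := pElementClosure_isSubnormal (p := p) (hA L₁ h₁)
  have hD₂ := pElementClosure_isSubnormal (p := p) (hA L₂ h₂)
  have hD := Cfsg.Agent.S0538.result _ _ hD₁ hD₂
  -- the Sylow subgroup lies in `D'`
  have hsyl : ∀ E : Subgroup G, (((T : Subgroup G) ⊓ E).subgroupOf C) ≤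
      pElementClosure p (E.subgroupOf C) := by
    intro E y hy
    apply Subgroup.subset_closure
    rw [Subgroup.mem_subgroupOf] at hy
    refine ⟨Subgroup.mem_subgroupOf.2 hy.2, ?_⟩
    obtain ⟨k, hk⟩ := T.isPGroup' ⟨(y : G), hy.1⟩
    have : (y : G) ^ p ^ k = 1 := by
      have := congrArg Subtype.val hk
      simpa using this
    have hy1 : y ^ p ^ k = 1 := Subtype.ext (by simpa using this)
    obtain ⟨j, _, hj⟩ := (Nat.dvd_prime_pow (Fact.out : p.Prime)).1 (orderOf_dvd_of_pow_eq_one hy1)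
    exact ⟨j, hj⟩
  have hRsup : R = ((T : Subgroup G) ⊓ L₁) ⊔ ((T : Subgroup G) ⊓ L₂) := by
    have := Cfsg.Agent.S3028.result T L₁ L₂ h₁ h₂
    rw [hR, inf_comm, this, inf_comm L₁, inf_comm L₂]
  have hPle : (hRCs.toSylow : Subgroup ↥C) ≤
      pElementClosure p (L₁.subgroupOf C) ⊔ pElementClosure p (L₂.subgroupOf C) := by
    show R.subgroupOf C ≤ _
    have e1 : (T : Subgroup G) ⊓ L₁ ≤ C := by
      rw [hRsup] at hRC
      exact le_sup_left.trans hRC
    have e2 : (T : Subgroup G) ⊓ L₂ ≤ C := by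
      rw [hRsup] at hRC
      exact le_sup_right.trans hRC
    rw [hRsup, Subgroup.subgroupOf_sup e1 e2]
    exact sup_le_sup (hsyl L₁) (hsyl L₂)
  -- all `p`-elements of `C` are in `D'`
  unfold pointStabilizer
  rw [Subgroup.closure_le]
  rintro x ⟨hxC, k, hk⟩
  have hxC' : x ∈ C := hxC
  have hmem := mem_of_subnormal_of_sylow_le hD hRCs.toSylow hPle ⟨x, hxC'⟩
    ⟨k, by rw [← hk]; exact Subgroup.orderOf_mk x hxC'⟩
  -- map back
  have hback : ∀ E : Subgroup G, E.IsSubnormal → E ≤ L →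
      (pElementClosure p (E.subgroupOf C)).map C.subtype ≤
        Subgroup.closure {x : G | x ∈ E ⊓ Subgroup.centralizer
          ((omegaOne p (((T : Subgroup G) ⊓ E) ⊓ Subgroup.centralizer
            ((((T : Subgroup G) ⊓ E) : Subgroup G) : Set G)) : Subgroup G) : Set G) ∧
          ∃ k : ℕ, orderOf x = p ^ k} := by
    intro E hE hEL
    unfold pElementClosure
    rw [MonoidHom.map_closure, Subgroup.closure_le]
    rintro _ ⟨y, ⟨hyE, j, hj⟩, rfl⟩
    apply Subgroup.subset_closure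
    have hyE' : (y : G) ∈ E := Subgroup.mem_subgroupOf.1 hyE
    have hyk : ∃ k : ℕ, orderOf (y : G) = p ^ k := ⟨j, by rw [← hj]; exact (Subgroup.orderOf_coe y)⟩
    refine ⟨⟨hyE', ?_⟩, hyk⟩
    have hyc : (y : G) ∈ Subgroup.centralizer ((ozc p R : Subgroup G) : Set G) := y.2.2
    exact (kpp hH T hL hE hEL hyE' hyk).1 hyc
  have hx' : x ∈ (pElementClosure p (L₁.subgroupOf C) ⊔
      pElementClosure p (L₂.subgroupOf C)).map C.subtype := ⟨⟨x, hxC'⟩, hmem, rfl⟩
  rw [Subgroup.map_sup] at hx'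
  exact (sup_le_sup (hback L₁ h₁ le_sup_left) (hback L₂ h₂ le_sup_right)) hx'

end Cfsg.Agent.S2806P
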