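import Cfsg.Agent.Helper7.S2806Defs
import Cfsg.Agent.Helper7.S2772H
import Cfsg.Agent.Helper6.S2806RELINF
import Cfsg.Agent.Helper10.S2806KREL
import Cfsg.Agent.Helper21.S2806CHARPN
import Cfsg.Agent.Helper19.S2806SYLSUB

/-!
# S2806: Kieler's lemma for groups of LOCAL characteristic `p` (rows RNSCORE, RNS, KL)
-/

set_option autoImplicit false
set_option linter.unusedSectionVars false
set_option linter.unusedVariables false

namespace Cfsg.Agent.S2806P

open Cfsg Cfsg.Agent.Helper14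

variable {G : Type*} [Group G] [Finite G] {p : ℕ} [Fact p.Prime]

theorem RNSCORE_aux_step {B K : Subgroup G} (hK : K.IsSubnormal) (hBK : B ≤ K)
    (hKB : K ≤ Subgroup.normalizer (B : Set G)) : B.IsSubnormal :=
  Subgroup.IsSubnormal.step B K hBK hK ((Subgroup.normal_subgroupOf_iff_le_normalizer hBK).2 hKB)

/-- RNSCORE -/
theorem rns_core (hH : Cfsg.IsOfLocalCharacteristic p G) (T : Sylow p G) {B K : Subgroup G}
    (hK : K.IsSubnormal) (hBK : B ≤ K) (hKB : K ≤ Subgroup.normalizer (B : Set G))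
    {Z : Subgroup G} (hZp : IsPGroup p Z) (hZne : Z ≠ ⊥)
    (hS1 : (T : Subgroup G) ⊓ K ≤ Subgroup.normalizer (Z : Set G)) :
    (B ⊓ Subgroup.normalizer (Z : Set G)) ⊓
        Subgroup.centralizer ((ozc p ((T : Subgroup G) ⊓ K) : Subgroup G) : Set G) =
      (B ⊓ Subgroup.normalizer (Z : Set G)) ⊓
        Subgroup.centralizer ((ozc p ((T : Subgroup G) ⊓ B) : Subgroup G) : Set G) := by
  set N := Subgroup.normalizer (Z : Set G) with hNdef
  have hN := charP_normalizer hH hZp hZne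
  have hB : B.IsSubnormal := RNSCORE_aux_step hK hBK hKB
  have hS1p : IsPGroup p ↥((T : Subgroup G) ⊓ K : Subgroup G) := T.isPGroup'.to_le inf_le_left
  obtain ⟨T', hT', hST'⟩ := exists_isSylowIn_ge (p := p) hS1 hS1p
  have hKN : RelSubn N (K ⊓ N) := relSubn_inf hK N
  have hBN : RelSubn N (B ⊓ N) := relSubn_inf hB N
  obtain ⟨-, -, e1⟩ := kieler_rel hN hT' hKN
  obtain ⟨-, -, e2⟩ := kieler_rel hN hT' hBN
  -- `T' ⊓ (K ⊓ N) = T ⊓ K`
  have hSK : IsSylowIn p ((T : Subgroup G) ⊓ K) K := isSylowIn_inf_of_isSubnormal T hK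
  have hTK : T' ⊓ (K ⊓ N) = (T : Subgroup G) ⊓ K := by
    apply hSK.2.2
    · exact inf_le_right.trans inf_le_left
    · exact hT'.2.1.to_le inf_le_left
    · exact le_inf hST' (le_inf inf_le_right hS1)
  have hTB : T' ⊓ (B ⊓ N) = (T : Subgroup G) ⊓ B := by
    have : T' ⊓ (B ⊓ N) = (T' ⊓ (K ⊓ N)) ⊓ B := by
      apply le_antisymm
      · refine le_inf (le_inf inf_le_left (le_inf ((inf_le_right.trans inf_le_left).trans hBK)
          (inf_le_right.trans inf_le_right))) (inf_le_right.trans inf_le_left)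
      · refine le_inf (inf_le_left.trans inf_le_left) (le_inf inf_le_right
          (inf_le_left.trans (inf_le_right.trans inf_le_right)))
    rw [this, hTK, inf_assoc, inf_eq_right.2 hBK]
  rw [hTK] at e1
  rw [hTB] at e2
  -- combine
  have hle : B ⊓ N ≤ K ⊓ N := inf_le_inf_right N hBK
  calc (B ⊓ N) ⊓ Subgroup.centralizer ((ozc p ((T : Subgroup G) ⊓ K) : Subgroup G) : Set G)
      = (B ⊓ N) ⊓ ((K ⊓ N) ⊓
          Subgroup.centralizer ((ozc p ((T : Subgroup G) ⊓ K) : Subgroup G) : Set G)) := by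
        rw [← inf_assoc, inf_eq_left.2 hle]
    _ = (B ⊓ N) ⊓ ((K ⊓ N) ⊓ Subgroup.centralizer ((ozc p T' : Subgroup G) : Set G)) := by
        rw [e1]
    _ = (B ⊓ N) ⊓ Subgroup.centralizer ((ozc p T' : Subgroup G) : Set G) := by
        rw [← inf_assoc, inf_eq_left.2 hle]
    _ = (B ⊓ N) ⊓ Subgroup.centralizer ((ozc p ((T : Subgroup G) ⊓ B) : Subgroup G) : Set G) := e2

theorem RNS_aux_cent_le_norm (Z : Subgroup G) :
    Subgroup.centralizer (Z : Set G) ≤ Subgroup.normalizer (Z : Set G) :=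
  Subgroup.centralizer_le_normalizer _

/-- RNS -/
theorem rns (hH : Cfsg.IsOfLocalCharacteristic p G) (T : Sylow p G) {B K : Subgroup G}
    (hK : K.IsSubnormal) (hBK : B ≤ K) (hKB : K ≤ Subgroup.normalizer (B : Set G))
    (hne : (T : Subgroup G) ⊓ B ≠ ⊥) :
    B ⊓ Subgroup.centralizer ((ozc p ((T : Subgroup G) ⊓ K) : Subgroup G) : Set G) =
      B ⊓ Subgroup.centralizer ((ozc p ((T : Subgroup G) ⊓ B) : Subgroup G) : Set G) := by
  have hKne : (T : Subgroup G) ⊓ K ≠ ⊥ := by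
    intro h
    apply hne
    rw [eq_bot_iff, ← h]
    exact inf_le_inf_left _ hBK
  have hpK : IsPGroup p ↥((T : Subgroup G) ⊓ K : Subgroup G) := T.isPGroup'.to_le inf_le_left
  have hpB : IsPGroup p ↥((T : Subgroup G) ⊓ B : Subgroup G) := T.isPGroup'.to_le inf_le_left
  have hZK : ozc p ((T : Subgroup G) ⊓ K) ≠ ⊥ := Cfsg.Agent.S2772P.H_aux_ozc_ne_bot hpK hKne
  have hZB : ozc p ((T : Subgroup G) ⊓ B) ≠ ⊥ := Cfsg.Agent.S2772P.H_aux_ozc_ne_bot hpB hne
  have hZKp : IsPGroup p ↥(ozc p ((T : Subgroup G) ⊓ K)) := hpK.to_le (ozc_le p _)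
  have hZBp : IsPGroup p ↥(ozc p ((T : Subgroup G) ⊓ B)) := hpB.to_le (ozc_le p _)
  -- `T ⊓ K` normalizes both
  have hn1 : (T : Subgroup G) ⊓ K ≤
      Subgroup.normalizer ((ozc p ((T : Subgroup G) ⊓ K) : Subgroup G) : Set G) :=
    Subgroup.le_normalizer.trans (le_normalizer_ozc _)
  have hn2 : (T : Subgroup G) ⊓ K ≤
      Subgroup.normalizer ((ozc p ((T : Subgroup G) ⊓ B) : Subgroup G) : Set G) := by
    refine le_trans ?_ (le_normalizer_ozc (p := p) ((T : Subgroup G) ⊓ B))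
    have hTB : (T : Subgroup G) ⊓ B = ((T : Subgroup G) ⊓ K) ⊓ B := by
      rw [inf_assoc, inf_eq_right.2 hBK]
    rw [hTB]
    intro g hg
    have hgB : g ∈ Subgroup.normalizer (B : Set G) := hKB hg.2
    have hgS : g ∈ Subgroup.normalizer ((((T : Subgroup G) ⊓ K : Subgroup G)) : Set G) :=
      Subgroup.le_normalizer hg
    rw [mem_normalizer_iff_map_cj] at hgB hgS ⊢
    rw [map_cj_inf, hgB, hgS]
  have c1 := rns_core hH T hK hBK hKB hZKp hZK hn1
  have c2 := rns_core hH T hK hBK hKB hZBp hZB hn2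
  apply le_antisymm
  · intro x hx
    have hxN : x ∈ Subgroup.normalizer ((ozc p ((T : Subgroup G) ⊓ K) : Subgroup G) : Set G) :=
      RNS_aux_cent_le_norm _ hx.2
    have : x ∈ (B ⊓ Subgroup.normalizer ((ozc p ((T : Subgroup G) ⊓ K) : Subgroup G) : Set G)) ⊓
        Subgroup.centralizer ((ozc p ((T : Subgroup G) ⊓ K) : Subgroup G) : Set G) :=
      ⟨⟨hx.1, hxN⟩, hx.2⟩
    rw [c1] at this
    exact ⟨hx.1, this.2⟩
  · intro x hx
    have hxN : x ∈ Subgroup.normalizer ((ozc p ((T : Subgroup G) ⊓ B) : Subgroup G) : Set G) :=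
      RNS_aux_cent_le_norm _ hx.2
    have : x ∈ (B ⊓ Subgroup.normalizer ((ozc p ((T : Subgroup G) ⊓ B) : Subgroup G) : Set G)) ⊓
        Subgroup.centralizer ((ozc p ((T : Subgroup G) ⊓ B) : Subgroup G) : Set G) :=
      ⟨⟨hx.1, hxN⟩, hx.2⟩
    rw [← c2] at this
    exact ⟨hx.1, this.2⟩

/-- KL -/
theorem kl (hH : Cfsg.IsOfLocalCharacteristic p G) (T : Sylow p G) {E : Subgroup G}
    (hE : E.IsSubnormal) (hne : (T : Subgroup G) ⊓ E ≠ ⊥) :
    E ⊓ Subgroup.centralizer ((ozc p (T : Subgroup G) : Subgroup G) : Set G) =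
      E ⊓ Subgroup.centralizer ((ozc p ((T : Subgroup G) ⊓ E) : Subgroup G) : Set G) := by
  induction hE with
  | top => rw [inf_top_eq]
  | step B K hBK hK hN ih =>
    have hKB : K ≤ Subgroup.normalizer (B : Set G) :=
      (Subgroup.normal_subgroupOf_iff_le_normalizer hBK).1 hN
    have hKne : (T : Subgroup G) ⊓ K ≠ ⊥ := by
      intro h
      apply hne
      rw [eq_bot_iff, ← h]
      exact inf_le_inf_left _ hBK
    have h1 := ih hKne
    have h2 := rns hH T hK hBK hKB hne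
    rw [← h2]
    have h3 : B ⊓ Subgroup.centralizer ((ozc p (T : Subgroup G) : Subgroup G) : Set G) =
        B ⊓ (K ⊓ Subgroup.centralizer ((ozc p (T : Subgroup G) : Subgroup G) : Set G)) := by
      rw [← inf_assoc, inf_eq_left.2 hBK]
    rw [h3, h1, ← inf_assoc, inf_eq_left.2 hBK]

end Cfsg.Agent.S2806P
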