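import Mathlib
import Cfsg.Agent.Helper7.S2862Defs
import Cfsg.Agent.Helper19.S2862CP3
import Cfsg.Agent.Helper22.S2862CP4
import Cfsg.Agent.Helper22.S2862CP7

/-! Board `s2862pieces`, row S2b (core): `L0 ⊔ D ≠ H` (blueprint section 2), with S2a, B5, B6 as hypotheses. -/

set_option autoImplicit false
set_option linter.unusedVariables false
set_option linter.unusedSectionVars false

namespace Cfsg.Agent.S2862P

open Cfsg
open Cfsg.Agent.Helper14 (cj)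
open Subgroup
open scoped commutatorElement

variable {G : Type*} [Group G] [Finite G] {p : ℕ} [Fact p.Prime]
variable {H Y D L L0 Vt Vb : Subgroup G}

theorem S2b_aux_cjs_le {A : Subgroup G} (hA : A ≤ H) {g : G} (hg : g ∈ H) : cjs g A ≤ H := by
  rintro _ ⟨a, ha, rfl⟩
  rw [Cfsg.Agent.Helper14.cj_apply]
  exact H.mul_mem (H.mul_mem hg (hA ha)) (H.inv_mem hg)

/-- the intersection of the `F_n`, `n ∈ L0`. -/
def S2b_aux_I (Vt Vb Y L0 : Subgroup G) : Subgroup G := ⨅ n : ↥L0, commP Vt Vb (cjs (n : G) Y)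

theorem S2b_aux_I_le (Vt Vb Y L0 : Subgroup G) {n : G} (hn : n ∈ L0) :
    S2b_aux_I Vt Vb Y L0 ≤ commP Vt Vb (cjs n Y) :=
  iInf_le (fun n : ↥L0 => commP Vt Vb (cjs (n : G) Y)) ⟨n, hn⟩

theorem S2b_aux_I_le_one (Vt Vb Y L0 : Subgroup G) : S2b_aux_I Vt Vb Y L0 ≤ commP Vt Vb Y := by
  have h := S2b_aux_I_le Vt Vb Y L0 (L0.one_mem)
  have h1 : cjs (1 : G) Y = Y := Cfsg.Agent.Helper14.map_cj_one Y
  rw [h1] at h
  exact h

theorem S2b_aux_le_I (Vt Vb Y L0 : Subgroup G) : Vb ≤ S2b_aux_I Vt Vb Y L0 :=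
  le_iInf (fun n => le_commP _)

/-- `L0` normalises `I`. -/
theorem S2b_aux_L0 (K : KHyp p H Y D L L0) (C : ChiefPair p H Vt Vb) :
    L0 ≤ normalizer ((S2b_aux_I Vt Vb Y L0 : Subgroup G) : Set G) := by
  have hYH : Y ≤ H := K.hYD.trans K.hDH
  have hL0H : L0 ≤ H := K.hL0L.trans K.hLH
  apply Cfsg.Agent.Helper14.le_normalizer_of_map_cj_le
  intro m hm
  apply le_iInf
  rintro ⟨n, hn⟩
  have hmn : m⁻¹ * n ∈ L0 := L0.mul_mem (L0.inv_mem hm) hn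
  have h1 : S2b_aux_I Vt Vb Y L0 ≤ commP Vt Vb (cjs (m⁻¹ * n) Y) := S2b_aux_I_le Vt Vb Y L0 hmn
  have h2 : cjs m (commP Vt Vb (cjs (m⁻¹ * n) Y)) = commP Vt Vb (cjs n Y) := by
    rw [← commP_cjs C (S2b_aux_cjs_le hYH (hL0H hmn)) (hL0H hm)]
    congr 1
    unfold cjs
    rw [Cfsg.Agent.Helper14.map_cj_mul]
    congr 2
    group
  calc (S2b_aux_I Vt Vb Y L0).map (cj m) ≤ cjs m (commP Vt Vb (cjs (m⁻¹ * n) Y)) := Subgroup.map_mono h1
    _ = commP Vt Vb (cjs n Y) := h2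

/-- `D` normalises every subgroup between `Vb` and `fixP D`. -/
theorem S2b_aux_D (C : ChiefPair p H Vt Vb) {A I : Subgroup G} (hA : A ≤ H) (hb : Vb ≤ I)
    (hI : I ≤ fixP Vt Vb A) : A ≤ normalizer (I : Set G) := by
  apply Cfsg.Agent.Helper14.le_normalizer_of_map_cj_le
  rintro d hd _ ⟨x, hx, rfl⟩
  rw [Cfsg.Agent.Helper14.cj_apply]
  have hx' : x⁻¹ ∈ I := I.inv_mem hx
  have h1 : ⁅x⁻¹, d⁆ ∈ Vb := ((mem_fixP C hA).mp (hI hx')).2 d hd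
  have e : d * x * d⁻¹ = x * ⁅x⁻¹, d⁆ := by
    rw [commutatorElement_def]; group
  rw [e]
  exact I.mul_mem hx (hb h1)

/-- S2b on a given chief pair, with S2a, B5, B6 (second part) as hypotheses. -/
theorem S2b_aux_core (K : KHyp p H Y D L L0) (C : ChiefPair p H Vt Vb)
    (hS2a : ∃ v ∈ Vt, v ∉ Vb ∧ ∀ n ∈ L0, v ∈ commP Vt Vb (cjs n Y))
    (hB5 : fixP Vt Vb D = commP Vt Vb Y) (hB6 : commP Vt Vb Y ≠ Vt) : L0 ⊔ D ≠ H := by
  intro hgen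
  have hYH : Y ≤ H := K.hYD.trans K.hDH
  obtain ⟨v, hvt, hvb, hv⟩ := hS2a
  have hvI : v ∈ S2b_aux_I Vt Vb Y L0 := by
    unfold S2b_aux_I
    rw [Subgroup.mem_iInf]
    rintro ⟨n, hn⟩
    exact hv n hn
  have hIF : S2b_aux_I Vt Vb Y L0 ≤ commP Vt Vb Y := S2b_aux_I_le_one Vt Vb Y L0
  have hbI : Vb ≤ S2b_aux_I Vt Vb Y L0 := S2b_aux_le_I Vt Vb Y L0
  have hIt : S2b_aux_I Vt Vb Y L0 ≤ Vt := hIF.trans (commP_le C hYH)
  have hDn : D ≤ normalizer ((S2b_aux_I Vt Vb Y L0 : Subgroup G) : Set G) :=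
    S2b_aux_D C K.hDH hbI (hIF.trans hB5.ge)
  have hHn : H ≤ normalizer ((S2b_aux_I Vt Vb Y L0 : Subgroup G) : Set G) := by
    rw [← hgen]
    exact sup_le (S2b_aux_L0 K C) hDn
  rcases C.chief _ hHn hbI hIt with h1 | h1
  · rw [h1] at hvI
    exact hvb hvI
  · apply hB6
    apply le_antisymm (commP_le C hYH)
    exact h1.symm.le.trans hIF

end Cfsg.Agent.S2862P
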