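import Mathlib
import Cfsg.Agent.Helper7.S2862Defs

/-! Board `s2862pieces`, row S4b (core): a `p'`-element of `⟨D, D^n⟩` is trivial on `C/F`. -/

set_option autoImplicit false
set_option linter.unusedVariables false

namespace Cfsg.Agent.S2862P

open Cfsg
open Cfsg.Agent.Helper14 (cj)
open Subgroup
open scoped commutatorElement Pointwise

variable {G : Type*} [Group G] [Finite G] {p : ℕ} [Fact p.Prime]
variable {H Y D L L0 Vt Vb : Subgroup G}

/-- the elements normalising `Zt`, `Zb` and acting trivially on `Zt/Zb`. -/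
def S4b_aux_stab (Zt Zb : Subgroup G) : Subgroup G where
  carrier := {x | x ∈ normalizer (Zt : Set G) ∧ x ∈ normalizer (Zb : Set G) ∧ TrivOn x Zt Zb}
  one_mem' := by
    refine ⟨Subgroup.one_mem _, Subgroup.one_mem _, ?_⟩
    intro v hv
    rw [commutatorElement_def]
    simp
  mul_mem' := by
    rintro x y ⟨hx1, hx2, hx3⟩ ⟨hy1, hy2, hy3⟩
    refine ⟨Subgroup.mul_mem _ hx1 hy1, Subgroup.mul_mem _ hx2 hy2, ?_⟩
    intro v hv
    have e : ⁅v, x * y⁆ = ⁅v, x⁆ * (x * ⁅v, y⁆ * x⁻¹) := by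
      simp only [commutatorElement_def]; group
    rw [e]
    exact Zb.mul_mem (hx3 v hv) ((Subgroup.mem_normalizer_iff.1 hx2 _).1 (hy3 v hv))
  inv_mem' := by
    rintro x ⟨hx1, hx2, hx3⟩
    refine ⟨Subgroup.inv_mem _ hx1, Subgroup.inv_mem _ hx2, ?_⟩
    intro v hv
    have e : ⁅v, x⁻¹⁆ = x⁻¹ * (⁅v, x⁆)⁻¹ * (x⁻¹)⁻¹ := by
      simp only [commutatorElement_def]; group
    rw [e]
    exact (Subgroup.mem_normalizer_iff.1 (Subgroup.inv_mem _ hx2) _).1 (Zb.inv_mem (hx3 v hv))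

theorem S4b_aux_mem_stab {Zt Zb : Subgroup G} {x : G} :
    x ∈ S4b_aux_stab Zt Zb ↔
      x ∈ normalizer (Zt : Set G) ∧ x ∈ normalizer (Zb : Set G) ∧ TrivOn x Zt Zb := Iff.rfl

/-- conjugation by an element normalising `Zt` and `Zb` preserves the stability group. -/
theorem S4b_aux_stab_conj {Zt Zb : Subgroup G} {x z : G} (hx : x ∈ S4b_aux_stab Zt Zb)
    (hz1 : z ∈ normalizer (Zt : Set G)) (hz2 : z ∈ normalizer (Zb : Set G)) :
    z * x * z⁻¹ ∈ S4b_aux_stab Zt Zb := by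
  obtain ⟨hx1, hx2, hx3⟩ := hx
  refine ⟨?_, ?_, ?_⟩
  · exact Subgroup.mul_mem _ (Subgroup.mul_mem _ hz1 hx1) (Subgroup.inv_mem _ hz1)
  · exact Subgroup.mul_mem _ (Subgroup.mul_mem _ hz2 hx2) (Subgroup.inv_mem _ hz2)
  · intro v hv
    have hv' : z⁻¹ * v * z ∈ Zt := by
      have := (Subgroup.mem_normalizer_iff.1 (Subgroup.inv_mem _ hz1) v).1 hv
      simpa using this
    have e : ⁅v, z * x * z⁻¹⁆ = z * ⁅z⁻¹ * v * z, x⁆ * z⁻¹ := by
      simp only [commutatorElement_def]; group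
    rw [e]
    exact (Subgroup.mem_normalizer_iff.1 hz2 _).1 (hx3 _ hv')

/-- powers of `d * x` with `x` in a subgroup `N` normalised by `d`. -/
theorem S4b_aux_pow {N : Subgroup G} {d x : G} (hd : d ∈ normalizer (N : Set G)) (hx : x ∈ N) (k : ℕ) :
    ∃ y ∈ N, (d * x) ^ k = d ^ k * y := by
  induction k with
  | zero => exact ⟨1, N.one_mem, by simp⟩
  | succ k ih =>
    obtain ⟨y, hy, he⟩ := ih
    refine ⟨d⁻¹ * y * d * x, ?_, ?_⟩
    · refine N.mul_mem ?_ hx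
      have := (Subgroup.mem_normalizer_iff.1 (Subgroup.inv_mem _ hd) y).1 hy
      simpa using this
    · rw [pow_succ, he, pow_succ]; group

/-- an element of `D ⊔ N` (`D` a `p`-group normalising `N`) of order prime to `p` lies in `N`. -/
theorem S4b_aux_coprime {N D : Subgroup G} (hDp : IsPGroup p ↥D) (hDN : D ≤ normalizer (N : Set G))
    {g : G} (hg : g ∈ D ⊔ N) (hgp : (orderOf g).Coprime p) : g ∈ N := by
  -- g = d * x
  have hdx : ∃ d ∈ D, ∃ x ∈ N, g = d * x := by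
    have hsup : ((D ⊔ N : Subgroup G) : Set G) = (D : Set G) * (N : Set G) :=
      Subgroup.coe_mul_of_left_le_normalizer_right D N hDN
    have : g ∈ ((D ⊔ N : Subgroup G) : Set G) := hg
    rw [hsup, Set.mem_mul] at this
    obtain ⟨d, hd, x, hx, rfl⟩ := this
    exact ⟨d, hd, x, hx, rfl⟩
  obtain ⟨d, hd, x, hx, rfl⟩ := hdx
  obtain ⟨e, he⟩ := (IsPGroup.iff_orderOf.1 hDp) ⟨d, hd⟩
  have hde : d ^ (p ^ e) = 1 := by
    have h1 : orderOf d = p ^ e := by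
      rw [← Subgroup.orderOf_coe] at he
      exact he
    rw [← h1]; exact pow_orderOf_eq_one d
  obtain ⟨y, hy, hpow⟩ := S4b_aux_pow (hDN hd) hx (p ^ e)
  rw [hde, one_mul] at hpow
  -- (d*x)^(p^e) ∈ N, and d*x is a power of it
  have hcop : (orderOf (d * x)).Coprime (p ^ e) := Nat.Coprime.pow_right e hgp
  have hmem : (d * x) ^ (p ^ e) ∈ N := hpow ▸ hy
  obtain ⟨m, hm⟩ := exists_pow_eq_self_of_coprime (x := d * x) (n := p ^ e) hcop.symm
  have := N.pow_mem hmem m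
  rwa [hm] at this

/-- S4b with S3c, S3d, S4a (normaliser part, for `d ∈ D`) as hypotheses. -/
theorem S4b_aux_core (K : KHyp p H Y D L L0) (C : ChiefPair p H Vt Vb) {n : G} (hn : n ∈ L0)
    (hS3c : cjs n (commP Vt Vb Y) = commP Vt Vb Y ∧ cjs n (fixP Vt Vb Y) = fixP Vt Vb Y)
    (hS3d : TrivOn n (fixP Vt Vb Y) (commP Vt Vb Y))
    (hS4a : ∀ d ∈ D, d ∈ normalizer ((commP Vt Vb Y : Subgroup G) : Set G) ∧
      d ∈ normalizer ((fixP Vt Vb Y : Subgroup G) : Set G))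
    {g : G} (hg : g ∈ D ⊔ cjs n D) (hgp : (orderOf g).Coprime p) :
    TrivOn g (fixP Vt Vb Y) (commP Vt Vb Y) := by
  set Cc := fixP Vt Vb Y with hCc
  set F := commP Vt Vb Y with hF
  set N := S4b_aux_stab Cc F with hN
  obtain ⟨hnF, hnC⟩ := hS3c
  have hnT := hS3d
  have hn1 : n ∈ normalizer (Cc : Set G) := Cfsg.Agent.Helper14.mem_normalizer_iff_map_cj.2 hnC
  have hn2 : n ∈ normalizer (F : Set G) := Cfsg.Agent.Helper14.mem_normalizer_iff_map_cj.2 hnF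
  have hnN : n ∈ N := ⟨hn1, hn2, hnT⟩
  -- `D` normalises `Cc`, `F`, hence `N`
  have hD12 : ∀ d ∈ D, d ∈ normalizer (Cc : Set G) ∧ d ∈ normalizer (F : Set G) := by
    intro d hd
    have := hS4a d hd
    exact ⟨this.2, this.1⟩
  have hDN : D ≤ normalizer (N : Set G) := by
    intro d hd
    rw [Subgroup.mem_normalizer_iff]
    intro x
    obtain ⟨h1, h2⟩ := hD12 d hd
    constructor
    · intro hx
      exact S4b_aux_stab_conj hx h1 h2
    · intro hx
      have := S4b_aux_stab_conj hx (Subgroup.inv_mem _ h1) (Subgroup.inv_mem _ h2)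
      have e : d⁻¹ * (d * x * d⁻¹) * d⁻¹⁻¹ = x := by group
      rwa [e] at this
  -- `D ⊔ cjs n D ≤ D ⊔ N`
  have hle : D ⊔ cjs n D ≤ D ⊔ N := by
    refine sup_le le_sup_left ?_
    rintro _ ⟨d, hd, rfl⟩
    rw [Cfsg.Agent.Helper14.cj_apply]
    obtain ⟨h1, h2⟩ := hD12 d hd
    have h3 : d * n⁻¹ * d⁻¹ ∈ N := S4b_aux_stab_conj (N.inv_mem hnN) h1 h2
    have h4 : n * (d * n⁻¹ * d⁻¹) ∈ N := N.mul_mem hnN h3
    have e : n * d * n⁻¹ = (n * (d * n⁻¹ * d⁻¹)) * d := by group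
    rw [e]
    -- N * D ⊆ D ⊔ N
    exact Subgroup.mul_mem _ (Subgroup.mem_sup_right h4) (Subgroup.mem_sup_left hd)
  have hgN : g ∈ N := S4b_aux_coprime K.hDp hDN (hle hg) hgp
  exact hgN.2.2

end Cfsg.Agent.S2862P
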