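import Mathlib
import Cfsg.Agent.Helper7.S2862Defs
import Cfsg.Agent.Helper7.S2862B1
import Cfsg.Agent.Helper22.S2862CP4
import Cfsg.Agent.Helper17.S2862CP2core
import Cfsg.Agent.Helper3.S2862COP
import Cfsg.Agent.Helper3.S2862LS

/-! Board `s2862pieces`, rows S4c, S4d, S4e (cores: the statements of the rows they use are hypotheses). -/

set_option autoImplicit false
set_option linter.unusedVariables false
set_option linter.unusedSectionVars false

namespace Cfsg.Agent.S2862P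

open Cfsg
open Cfsg.Agent.Helper14 (cj)
open Subgroup
open scoped commutatorElement

variable {G : Type*} [Group G] [Finite G] {p : ℕ} [Fact p.Prime]
variable {H Y D L L0 Vt Vb : Subgroup G}

theorem S4c_aux_cjs_le {A : Subgroup G} (hA : A ≤ H) {g : G} (hg : g ∈ H) : cjs g A ≤ H := by
  rintro _ ⟨a, ha, rfl⟩
  rw [Cfsg.Agent.Helper14.cj_apply]
  exact H.mul_mem (H.mul_mem hg (hA ha)) (H.inv_mem hg)

theorem S4c_aux_P_le (K : KHyp p H Y D L L0) {n : G} (hn : n ∈ L0) : D ⊔ cjs n D ≤ H :=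
  sup_le K.hDH (S4c_aux_cjs_le K.hDH (K.hLH (K.hL0L hn)))

theorem S4c_aux_core_le (H : Subgroup G) : pCoreOf p H ≤ H := by
  unfold pCoreOf
  exact Subgroup.map_subtype_le _

/-- S4c with CP_normal (two instances), S4a, S4b as hypotheses. -/
theorem S4c_aux_core (K : KHyp p H Y D L L0) (C : ChiefPair p H Vt Vb) {n : G} (hn : n ∈ L0)
    {g : G} (hg : g ∈ D ⊔ cjs n D) (hgp : (orderOf g).Coprime p)
    (hVtNF : Vt ≤ normalizer ((commP Vt Vb Y : Subgroup G) : Set G))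
    (hVtNC : Vt ≤ normalizer ((fixP Vt Vb Y : Subgroup G) : Set G))
    (hS4a : TrivOn g (commP Vt Vb Y) Vb ∧ TrivOn g Vt (fixP Vt Vb Y) ∧
      g ∈ normalizer ((commP Vt Vb Y : Subgroup G) : Set G) ∧ g ∈ normalizer ((fixP Vt Vb Y : Subgroup G) : Set G))
    (hS4b : TrivOn g (fixP Vt Vb Y) (commP Vt Vb Y)) : TrivOn g Vt Vb := by
  have hYH : Y ≤ H := K.hYD.trans K.hDH
  have hgH : g ∈ H := S4c_aux_P_le K hn hg
  obtain ⟨t1, t2, n1, n2⟩ := hS4a
  have t3 := hS4b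
  have hVtH : Vt ≤ H := C.le.trans (S4c_aux_core_le H)
  have hpVt : IsPGroup p ↥Vt := CP_pgroup C
  have hCle : fixP Vt Vb Y ≤ Vt := fixP_le C hYH
  have hbC : Vb ≤ fixP Vt Vb Y := le_fixP C hYH
  have hbF : Vb ≤ commP Vt Vb Y := le_commP Y
  have hFC : commP Vt Vb Y ≤ fixP Vt Vb Y := B1q K C
  have hpC : IsPGroup p ↥(fixP Vt Vb Y) := hpVt.to_le hCle
  have hVtNb : Vt ≤ normalizer (Vb : Set G) := hVtH.trans C.nb
  have s1 : TrivOn g (fixP Vt Vb Y) Vb :=
    triv_of_coprime hgp hpC hbF hFC (hCle.trans hVtNb) (hCle.trans hVtNF) n2 n1 (C.nb hgH) t3 t1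
  exact triv_of_coprime hgp hpVt hbC hCle hVtNb hVtNC (C.nt hgH) n2 (C.nb hgH) t2 s1

/-- S4d with S4c as a hypothesis. -/
theorem S4d_aux_core (K : KHyp p H Y D L L0) {n : G} (hn : n ∈ L0)
    (hS4c : ∀ Vt Vb : Subgroup G, ChiefPair p H Vt Vb → Noncentral H Vt Vb → ∀ g ∈ D ⊔ cjs n D,
      (orderOf g).Coprime p → TrivOn g Vt Vb) : IsPGroup p ↥(D ⊔ cjs n D) := by
  have hp : p.Prime := Fact.out
  have hPH : D ⊔ cjs n D ≤ H := S4c_aux_P_le K hn
  have hcard : Nat.card ↥(D ⊔ cjs n D) ≠ 0 := Nat.card_pos.ne'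
  have key : ∀ {q : ℕ}, q.Prime → q ∣ Nat.card ↥(D ⊔ cjs n D) → q = p := by
    intro q hq hqd
    by_contra hne
    have : Fact q.Prime := ⟨hq⟩
    obtain ⟨x, hx⟩ := exists_prime_orderOf_dvd_card' q hqd
    have hx' : orderOf (x : G) = q := by rw [Subgroup.orderOf_coe]; exact hx
    have hcop : (orderOf (x : G)).Coprime p := by
      rw [hx']
      exact (Nat.coprime_primes hq hp).mpr hne
    have hx1 : (x : G) ≠ 1 := by
      intro h1
      rw [h1, orderOf_one] at hx'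
      exact hq.ne_one hx'.symm
    obtain ⟨Vt, Vb, C, hnt⟩ := lemmaS K.hchar (hPH x.2) hcop hx1
    have hnc := noncentral_of_not_triv C (hPH x.2) hnt
    exact hnt (hS4c Vt Vb C hnc x x.2 hcop)
  have h := Nat.eq_prime_pow_of_unique_prime_dvd hcard key
  exact IsPGroup.of_card h

/-- S4e with S4d as a hypothesis. -/
theorem S4e_aux_core (K : KHyp p H Y D L L0) (hS4d : ∀ n ∈ L0, IsPGroup p ↥(D ⊔ cjs n D)) :
    L0 ≤ normalizer (Y : Set G) := by
  intro n hn
  have hP := hS4d n hn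
  have h1 : cjs n D = D := K.hwc n (D ⊔ cjs n D) hP le_sup_left le_sup_right
  have h2 : n ∈ normalizer (D : Set G) := Cfsg.Agent.Helper14.mem_normalizer_iff_map_cj.mpr h1
  exact K.hND h2

end Cfsg.Agent.S2862P
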