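import Mathlib
import Cfsg.Agent.Helper7.S2862Defs
import Cfsg.Agent.Helper7.S2862B1
import Cfsg.Agent.Helper7.S2862B2
import Cfsg.Agent.Helper7.S2862FAR
import Cfsg.Agent.Helper7.S2862S2bcore
import Cfsg.Agent.Helper7.S2862S4bcore
import Cfsg.Agent.Helper7.S2862S4ccore
import Cfsg.Agent.Helper3.S2862COP
import Cfsg.Agent.Helper3.S2862LS
import Cfsg.Agent.Helper3.S2862NCE
import Cfsg.Agent.Helper6.S2862CP6
import Cfsg.Agent.Helper6.S2862B6core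
import Cfsg.Agent.Helper10.S2862B4core
import Cfsg.Agent.Helper10.S2862S3dcore
import Cfsg.Agent.Helper10.S2862S4acore
import Cfsg.Agent.Helper13.S2862S2acore
import Cfsg.Agent.Helper14.S2862S3bcore
import Cfsg.Agent.Helper17.S2862CP2core
import Cfsg.Agent.Helper17.S2862CP8
import Cfsg.Agent.Helper17.S2862CP9
import Cfsg.Agent.Helper19.S2862CP3
import Cfsg.Agent.Helper19.S2862B5core
import Cfsg.Agent.Helper19.S2862S3ccore
import Cfsg.Agent.Helper20.S2862CP1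
import Cfsg.Agent.Helper20.S2862CP10
import Cfsg.Agent.Helper20.S2862B7cCore
import Cfsg.Agent.Helper20.S2862B7dCore
import Cfsg.Agent.Helper21.S2862B8core
import Cfsg.Agent.Helper22.S2862CP4
import Cfsg.Agent.Helper22.S2862CP5
import Cfsg.Agent.Helper22.S2862CP7
import Cfsg.Agent.Helper22.S2862CP11
import Cfsg.Agent.Helper22.S2862B7A
import Cfsg.Agent.Helper22.S2862B7Bcore
import Cfsg.Agent.Helper22.S2862S3Acore

/-! Board `s2862pieces`: assembly of (b2) `L0 ≤ N(Y)` directly from the landed CORES (independent of the wrappers; all names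
live in the namespace `Cfsg.Agent.S2862P.Asm`, so nothing clashes with the official row names). -/

set_option autoImplicit false
set_option linter.unusedVariables false
set_option linter.unusedSectionVars false

namespace Cfsg.Agent.S2862P.Asm

open Cfsg
open Cfsg.Agent.Helper14 (cj)
open Subgroup
open scoped commutatorElement

variable {G : Type*} [Group G] [Finite G] {p : ℕ} [Fact p.Prime]
variable {H Y D L L0 Vt Vb : Subgroup G}

theorem cjs_le {A : Subgroup G} (hA : A ≤ H) {g : G} (hg : g ∈ H) : cjs g A ≤ H := by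
  rintro _ ⟨a, ha, rfl⟩
  rw [Cfsg.Agent.Helper14.cj_apply]
  exact H.mul_mem (H.mul_mem hg (hA ha)) (H.inv_mem hg)

theorem CP_normal (C : ChiefPair p H Vt Vb) {Z : Subgroup G} (hb : Vb ≤ Z) (ht : Z ≤ Vt) :
    Vt ≤ normalizer (Z : Set G) := CP2_aux_normal (CP_abel C) hb ht

theorem B4 (K : KHyp p H Y D L L0) (C : ChiefPair p H Vt Vb) (hnc : Noncentral H Vt Vb) {h : G} (hh : h ∈ L)
    (hh0 : h ∉ L0) :
    fixP Vt Vb Y ⊔ commP Vt Vb (cjs h Y) = Vt ∧ commP Vt Vb D = fixP Vt Vb Y := by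
  have hYH : Y ≤ H := K.hYD.trans K.hDH
  have hhH : h ∈ H := K.hLH hh
  exact B4_aux_core K C hhH (CP_normal C (le_commP _) (commP_le C (cjs_le hYH hhH)))
    (B2 K C hnc hh hh0).2 (B3 K C hnc hh hh0)

theorem B5 (K : KHyp p H Y D L L0) (C : ChiefPair p H Vt Vb) (hnc : Noncentral H Vt Vb) {h : G} (hh : h ∈ L)
    (hh0 : h ∉ L0) : fixP Vt Vb D = commP Vt Vb Y := by
  have hYH : Y ≤ H := K.hYD.trans K.hDH
  have hhH : h ∈ H := K.hLH hh
  have hcYH : cjs h Y ≤ H := cjs_le hYH hhH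
  exact B5_aux_core K C hh (card_between C (le_fixP C hYH) (fixP_le C hYH) (commP_le C hcYH))
    (card_between C (le_fixP C hcYH) (fixP_le C hcYH) (fixP_le C K.hDH))
    (B2 K C hnc hh hh0).1 (B3 K C hnc hh hh0) (B4 K C hnc hh hh0).1

theorem B6 (K : KHyp p H Y D L L0) (C : ChiefPair p H Vt Vb) (hnc : Noncentral H Vt Vb) {h : G} (hh : h ∈ L)
    (hh0 : h ∉ L0) : commP Vt Vb Y ≠ Vb ∧ commP Vt Vb Y ≠ Vt :=
  B6_aux_core K C (B4 K C hnc hh hh0).2 (B5 K C hnc hh hh0)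

theorem B7b (K : KHyp p H Y D L L0) (C : ChiefPair p H Vt Vb) (hnc : Noncentral H Vt Vb) {h : G} (hh : h ∈ L)
    (hh0 : h ∉ L0) : commP Vt Vb Y ⊓ commP Vt Vb (cjs h Y) = Vb :=
  B7b_core K C (B3 K C hnc hh hh0)

theorem B7c (K : KHyp p H Y D L L0) (C : ChiefPair p H Vt Vb) (hnc : Noncentral H Vt Vb) {h : G} (hh : h ∈ L)
    (hh0 : h ∉ L0) :
    commP Vt Vb Y ⊔ fixP Vt Vb L = fixP Vt Vb Y ∧ commP Vt Vb Y ⊓ fixP Vt Vb L = Vb :=
  B7c_core K C hh (fun h1 h2 h3 => card_between C h1 h2 h3) (B2 K C hnc hh hh0).1 (B3 K C hnc hh hh0)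
    (B4 K C hnc hh hh0).1 (B5 K C hnc hh hh0) (B7a K C hh hh0).1

theorem B7d (K : KHyp p H Y D L L0) (C : ChiefPair p H Vt Vb) (hnc : Noncentral H Vt Vb) {h : G} (hh : h ∈ L)
    (hh0 : h ∉ L0) :
    commP Vt Vb L ⊔ fixP Vt Vb L = Vt ∧ commP Vt Vb L ⊓ fixP Vt Vb L = Vb :=
  B7d_core K C hh (fun h1 h2 h3 => card_between C h1 h2 h3) (B3 K C hnc hh hh0) (B4 K C hnc hh hh0).1
    (B7a K C hh hh0).2 (B7b K C hnc hh hh0) (B7c K C hnc hh hh0)

theorem B8 (K : KHyp p H Y D L L0) (C : ChiefPair p H Vt Vb) (hnc : Noncentral H Vt Vb) {h : G} (hh : h ∈ L)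
    (hh0 : h ∉ L0) {l : G} (hl : l ∈ L) :
    fixP Vt Vb (cjs l Y) = commP Vt Vb (cjs l Y) ⊔ fixP Vt Vb L ∧
      commP Vt Vb L ⊓ fixP Vt Vb (cjs l Y) = commP Vt Vb (cjs l Y) := by
  have hYH : Y ≤ H := K.hYD.trans K.hDH
  exact B8_aux_core K C hl (B7c K C hnc hh hh0).1 (B7d K C hnc hh hh0).2
    (CP_normal C (le_commP _) (commP_le C (cjs_le hYH (K.hLH hl))))

theorem S2a (K : KHyp p H Y D L L0) (C : ChiefPair p H Vt Vb) (hnc : Noncentral H Vt Vb) {h : G} (hh : h ∈ L)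
    (hh0 : h ∉ L0) : ∃ v ∈ Vt, v ∉ Vb ∧ ∀ n ∈ L0, v ∈ commP Vt Vb (cjs n Y) :=
  S2a_aux_core K C (B6 K C hnc hh hh0).1 (fun n hn => (B8 K C hnc hh hh0 (K.hL0L hn)).2)

theorem S2b (K : KHyp p H Y D L L0) : L0 ⊔ D ≠ H := by
  obtain ⟨Vt, Vb, C, hnc⟩ := exists_noncentral K
  obtain ⟨h, hh, hh0⟩ := K.hfar
  exact S2b_aux_core K C (S2a K C hnc hh hh0) (B5 K C hnc hh hh0) (B6 K C hnc hh hh0).2

theorem S3a (K : KHyp p H Y D L L0) {n : G} (hn : n ∈ L0) :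
    cjs n Y ≤ centralizer (Y : Set G) ∧ cjs n Y ≤ D := S3a_core K (S2b K) hn

theorem cjs_one (A : Subgroup G) : cjs (1 : G) A = A := Cfsg.Agent.Helper14.map_cj_one A

theorem S3b (K : KHyp p H Y D L L0) (C : ChiefPair p H Vt Vb) (hnc : Noncentral H Vt Vb) {n : G} (hn : n ∈ L0) :
    commP Vt Vb (cjs n Y) = commP Vt Vb Y := by
  obtain ⟨h, hh, hh0⟩ := K.hfar
  have h8 := (B8 K C hnc hh hh0 (L.one_mem)).2
  rw [cjs_one] at h8
  exact S3b_aux_core K C hn (S3a K hn) (B5 K C hnc hh hh0) h8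

theorem S3c (K : KHyp p H Y D L L0) (C : ChiefPair p H Vt Vb) (hnc : Noncentral H Vt Vb) {n : G} (hn : n ∈ L0) :
    cjs n (commP Vt Vb Y) = commP Vt Vb Y ∧ cjs n (fixP Vt Vb Y) = fixP Vt Vb Y := by
  obtain ⟨h, hh, hh0⟩ := K.hfar
  exact S3c_aux_core K C hn (S3b K C hnc hn) (B7c K C hnc hh hh0).1 (B8 K C hnc hh hh0 (K.hL0L hn)).1

theorem S3d (K : KHyp p H Y D L L0) (C : ChiefPair p H Vt Vb) (hnc : Noncentral H Vt Vb) {n : G} (hn : n ∈ L0) :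
    TrivOn n (fixP Vt Vb Y) (commP Vt Vb Y) := by
  obtain ⟨h, hh, hh0⟩ := K.hfar
  have hYH : Y ≤ H := K.hYD.trans K.hDH
  exact S3d_aux_core K C hn (CP_normal C (le_commP _) (commP_le C hYH)) (B7c K C hnc hh hh0).1 (S3c K C hnc hn).1

theorem S4a (K : KHyp p H Y D L L0) (C : ChiefPair p H Vt Vb) (hnc : Noncentral H Vt Vb) {n : G} (hn : n ∈ L0)
    {g : G} (hg : g ∈ D ⊔ cjs n D) :
    TrivOn g (commP Vt Vb Y) Vb ∧ TrivOn g Vt (fixP Vt Vb Y) ∧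
      g ∈ normalizer ((commP Vt Vb Y : Subgroup G) : Set G) ∧ g ∈ normalizer ((fixP Vt Vb Y : Subgroup G) : Set G) := by
  obtain ⟨h, hh, hh0⟩ := K.hfar
  exact S4a_aux_core K C hn (B4 K C hnc hh hh0).2 (B5 K C hnc hh hh0) (S3c K C hnc hn) hg

theorem S4b (K : KHyp p H Y D L L0) (C : ChiefPair p H Vt Vb) (hnc : Noncentral H Vt Vb) {n : G} (hn : n ∈ L0)
    {g : G} (hg : g ∈ D ⊔ cjs n D) (hgp : (orderOf g).Coprime p) :
    TrivOn g (fixP Vt Vb Y) (commP Vt Vb Y) :=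
  S4b_aux_core K C hn (S3c K C hnc hn) (S3d K C hnc hn)
    (fun d hd => (S4a K C hnc hn (Subgroup.mem_sup_left hd : d ∈ D ⊔ cjs n D)).2.2) hg hgp

theorem S4c (K : KHyp p H Y D L L0) (C : ChiefPair p H Vt Vb) (hnc : Noncentral H Vt Vb) {n : G} (hn : n ∈ L0)
    {g : G} (hg : g ∈ D ⊔ cjs n D) (hgp : (orderOf g).Coprime p) : TrivOn g Vt Vb := by
  have hYH : Y ≤ H := K.hYD.trans K.hDH
  exact S4c_aux_core K C hn hg hgp
    (CP_normal C (le_commP Y) (commP_le C hYH)) (CP_normal C (le_fixP C hYH) (fixP_le C hYH))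
    (S4a K C hnc hn hg) (S4b K C hnc hn hg hgp)

theorem S4d (K : KHyp p H Y D L L0) {n : G} (hn : n ∈ L0) : IsPGroup p ↥(D ⊔ cjs n D) :=
  S4d_aux_core K hn (fun Vt Vb C hnc g hg hgp => S4c K C hnc hn hg hgp)

/-- (b2) -/
theorem S4e (K : KHyp p H Y D L L0) : L0 ≤ normalizer (Y : Set G) :=
  S4e_aux_core K (fun n hn => S4d K hn)

end Cfsg.Agent.S2862P.Asm
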