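import Mathlib
import Cfsg.Agent.Helper7.S2862ASM

/-! Board `s2862pieces`: assembly of (d) `Y ∩ O_p(L) ≤ O_p(H)` and of `KEY_abs` from the landed cores
(namespace `Cfsg.Agent.S2862P.Asm`; blueprint section 5). -/

set_option autoImplicit false
set_option linter.unusedVariables false
set_option linter.unusedSectionVars false

namespace Cfsg.Agent.S2862P.Asm

open Cfsg
open Cfsg.Agent.Helper14 (cj)
open Subgroup
open scoped commutatorElement

variable {G : Type*} [Group G] [Finite G] {p : ℕ} [Fact p.Prime]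
variable {H Y D L L0 Vt Vb : Subgroup G}

/-- `O_p(L)` is normalised by `L`. -/
theorem core_conj_mem {h a : G} (hh : h ∈ L) (ha : a ∈ pCoreOf p L) : h⁻¹ * a * h ∈ pCoreOf p L := by
  have hn : h⁻¹ ∈ normalizer ((pCoreOf p L : Subgroup G) : Set G) :=
    Cfsg.Agent.Helper14.le_normalizer_pCoreOf p L (L.inv_mem hh)
  have := (Subgroup.mem_normalizer_iff.mp hn a).mp ha
  simpa using this

/-- S5a -/
theorem S5a (K : KHyp p H Y D L L0) (C : ChiefPair p H Vt Vb) (hnc : Noncentral H Vt Vb) {a : G}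
    (ha : a ∈ Y ⊓ pCoreOf p L) : TrivOn a Vt Vb := by
  have hYH : Y ≤ H := K.hYD.trans K.hDH
  obtain ⟨h, hh, hh0⟩ := K.hfar
  have hhH : h ∈ H := K.hLH hh
  have hcYH : cjs h Y ≤ H := cjs_le hYH hhH
  have hAH : Y ⊓ pCoreOf p L ≤ H := inf_le_left.trans hYH
  -- `C ≤ fixP A`
  have h1 : fixP Vt Vb Y ≤ fixP Vt Vb (Y ⊓ pCoreOf p L) := fixP_anti C inf_le_left hYH
  -- `F' ≤ fixP A`
  have h2 : commP Vt Vb (cjs h Y) ≤ fixP Vt Vb (Y ⊓ pCoreOf p L) := by
    intro v hv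
    rw [mem_fixP C hAH]
    refine ⟨commP_le C hcYH hv, ?_⟩
    intro b hb
    obtain ⟨hbY, hbL⟩ := Subgroup.mem_inf.mp hb
    -- `b' = h⁻¹ b h ∈ L0` fixes `F`
    have hb' : h⁻¹ * b * h ∈ L0 := K.hOpL (core_conj_mem hh hbL)
    have hF := (S3c K C hnc hb').1
    -- `b` normalises `F' = cjs h F`
    have hF' : cjs b (commP Vt Vb (cjs h Y)) = commP Vt Vb (cjs h Y) := by
      rw [commP_cjs C hYH hhH]
      unfold cjs at hF ⊢
      rw [Cfsg.Agent.Helper14.map_cj_mul]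
      have e : b * h = h * (h⁻¹ * b * h) := by group
      rw [e, ← Cfsg.Agent.Helper14.map_cj_mul, hF]
    have hbn : b ∈ normalizer ((commP Vt Vb (cjs h Y) : Subgroup G) : Set G) :=
      Cfsg.Agent.Helper14.mem_normalizer_iff_map_cj.mpr hF'
    have m1 : ⁅v, b⁆ ∈ commP Vt Vb (cjs h Y) := B1_aux_comm_mem' hbn hv
    have m2 : ⁅v, b⁆ ∈ commP Vt Vb Y :=
      (le_sup_left : ⁅Vt, Y⁆ ≤ ⁅Vt, Y⁆ ⊔ Vb) (Subgroup.commutator_mem_commutator (commP_le C hcYH hv) hbY)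
    have m3 : ⁅v, b⁆ ∈ commP Vt Vb Y ⊓ commP Vt Vb (cjs h Y) := ⟨m2, m1⟩
    rw [B7b K C hnc hh hh0] at m3
    exact m3
  have h3 : Vt ≤ fixP Vt Vb (Y ⊓ pCoreOf p L) :=
    (B4 K C hnc hh hh0).1.symm.le.trans (sup_le h1 h2)
  intro v hv
  exact ((mem_fixP C hAH).mp (h3 hv)).2 a ha

/-- S5c = (d) -/
theorem S5c (K : KHyp p H Y D L L0) : Y ⊓ pCoreOf p L ≤ pCoreOf p H := by
  intro a ha
  have hYH : Y ≤ H := K.hYD.trans K.hDH
  have haH : a ∈ H := hYH ha.1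
  refine S5b K.hchar haH ?_
  intro Vt Vb C
  by_cases hnc : Noncentral H Vt Vb
  · exact S5a K C hnc ha
  · unfold Noncentral at hnc
    rw [not_not] at hnc
    intro v hv
    exact hnc (Subgroup.commutator_mem_commutator hv haH)

/-- the abstract KEY theorem, assembled from the cores. -/
theorem KEY_abs (K : KHyp p H Y D L L0) :
    L0 ≤ normalizer (Y : Set G) ∧ Y ⊓ pCoreOf p L ≤ pCoreOf p H := ⟨S4e K, S5c K⟩

end Cfsg.Agent.S2862P.Asm
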