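import Cfsg.Agent.Helper20.S2862CP1

/-! Board `s2862pieces`, row CP1: helper20 landed `CP_comm_core`, `CP_abel` first
(`Cfsg.Agent.Helper20.S2862CP1`); this module only re-imports it, so that both module names give the same theorems
and there is no duplicate declaration. -/
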