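import Cfsg.Agent.Helper20.S2862CP10

/-! Board `s2862pieces`, row CP10: helper20 landed `card_between` first (`Cfsg.Agent.Helper20.S2862CP10`);
this module only re-imports it, so that both module names give the same theorem and there is no duplicate
declaration. -/
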