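import Mathlib
import Cfsg.Agent.Helper7.S2862ASM2

/-! Board `s2862pieces`, row FINAL: the abstract KEY theorem `KEY_abs` ((b2) and (d) of the asymmetric L-Lemma S2862). -/

set_option autoImplicit false
set_option linter.unusedVariables false
set_option linter.unusedSectionVars false

namespace Cfsg.Agent.S2862P

open Cfsg
open Cfsg.Agent.Helper14 (cj)
open Subgroup
open scoped commutatorElement

variable {G : Type*} [Group G] [Finite G] {p : ℕ} [Fact p.Prime]
variable {H Y D L L0 Vt Vb : Subgroup G}

/-- FINAL -/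
theorem KEY_abs (K : KHyp p H Y D L L0) :
    L0 ≤ normalizer (Y : Set G) ∧ Y ⊓ pCoreOf p L ≤ pCoreOf p H := Asm.KEY_abs K

end Cfsg.Agent.S2862P
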