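import Mathlib
import Cfsg.Agent.Helper7.S2862Defs
import Cfsg.Agent.Helper7.S2862T4b
import Cfsg.Agent.Helper7.S2862B1
import Cfsg.Agent.Helper14.PCore
import Cfsg.Agent.Helper3.S2862COP

/-! S2862: `L` has characteristic `p` (`Lchar`), from `KHyp` only.  (Own chain `Lchar_aux_*`; the rows T4a-T4d of board
`s2862top` state the same steps under other names.) -/

set_option autoImplicit false
set_option linter.unusedVariables false
set_option linter.unusedSectionVars false

namespace Cfsg.Agent.S2862P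

open Cfsg
open Cfsg.Agent.Helper14 (cj)
open Subgroup
open scoped commutatorElement

variable {G : Type*} [Group G] [Finite G] {p : ℕ} [Fact p.Prime]
variable {H Y D L L0 Vt Vb : Subgroup G}

/-- `O_p(H)` normalises `L = ⟨Y, Y^h⟩`. -/
theorem Lchar_aux_a (K : KHyp p H Y D L L0) : pCoreOf p H ≤ normalizer (L : Set G) := by
  obtain ⟨h, hh, hh0⟩ := K.hfar
  have hgen := K.hgenL h hh hh0
  have hHV : H ≤ normalizer ((pCoreOf p H : Subgroup G) : Set G) := Cfsg.Agent.Helper14.le_normalizer_pCoreOf p H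
  intro v hv
  have h1 : Y.map (cj v) = Y := Cfsg.Agent.Helper14.mem_normalizer_iff_map_cj.mp (K.hVY hv)
  have h2 : (cjs h Y).map (cj v) = cjs h Y := by
    apply Cfsg.Agent.Helper14.mem_normalizer_iff_map_cj.mp
    rw [← Cfsg.Agent.Helper14.map_cj_normalizer, Cfsg.Agent.Helper14.mem_map_cj]
    apply K.hVY
    have hn : h⁻¹ ∈ normalizer ((pCoreOf p H : Subgroup G) : Set G) := hHV (H.inv_mem (K.hLH hh))
    have := (Subgroup.mem_normalizer_iff.mp hn v).mp hv
    simpa using this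
  rw [Cfsg.Agent.Helper14.mem_normalizer_iff_map_cj, ← hgen, Subgroup.map_sup, h1, h2]

/-- `O_p(H) ⊓ L ≤ O_p(L)`. -/
theorem Lchar_aux_inf (hLH : L ≤ H) : pCoreOf p H ⊓ L ≤ pCoreOf p L := by
  have hHV : H ≤ normalizer ((pCoreOf p H : Subgroup G) : Set G) := Cfsg.Agent.Helper14.le_normalizer_pCoreOf p H
  apply Cfsg.Agent.Helper14.le_pCoreOf p inf_le_right
  · intro l hl
    have hl1 := hHV (hLH hl)
    rw [Subgroup.mem_normalizer_iff] at hl1 ⊢
    intro x
    constructor
    · rintro ⟨hx1, hx2⟩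
      exact ⟨(hl1 x).mp hx1, L.mul_mem (L.mul_mem hl hx2) (L.inv_mem hl)⟩
    · rintro ⟨hx1, hx2⟩
      refine ⟨(hl1 x).mpr hx1, ?_⟩
      have := L.mul_mem (L.mul_mem (L.inv_mem hl) hx2) hl
      have e : l⁻¹ * (l * x * l⁻¹) * l = x := by group
      rwa [e] at this
  · exact (Cfsg.Agent.Helper14.pCoreOf_isPGroup p H).to_le inf_le_left

/-- membership in the normaliser of an intersection. -/
theorem Lchar_aux_norm_inf {A B : Subgroup G} {g : G} (hA : g ∈ normalizer (A : Set G))
    (hB : g ∈ normalizer (B : Set G)) : g ∈ normalizer ((A ⊓ B : Subgroup G) : Set G) := by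
  rw [Subgroup.mem_normalizer_iff] at hA hB ⊢
  intro x
  constructor
  · rintro ⟨h1, h2⟩
    exact ⟨(hA x).mp h1, (hB x).mp h2⟩
  · rintro ⟨h1, h2⟩
    exact ⟨(hA x).mpr h1, (hB x).mpr h2⟩

/-- a `p'`-element of `C_L(O_p(L))` is trivial. -/
theorem Lchar_aux_c (K : KHyp p H Y D L L0) {k : G} (hkL : k ∈ L)
    (hkc : k ∈ centralizer ((pCoreOf p L : Subgroup G) : Set G)) (hk : (orderOf k).Coprime p) : k = 1 := by
  have hp : p.Prime := Fact.out
  have hHV : H ≤ normalizer ((pCoreOf p H : Subgroup G) : Set G) := Cfsg.Agent.Helper14.le_normalizer_pCoreOf p H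
  have hVH : pCoreOf p H ≤ H := Cfsg.Agent.Helper14.pCoreOf_le p H
  have hVL := Lchar_aux_a K
  have hkH : k ∈ H := K.hLH hkL
  have hkV : k ∈ normalizer ((pCoreOf p H : Subgroup G) : Set G) := hHV hkH
  have hkLn : k ∈ normalizer (L : Set G) := Subgroup.le_normalizer hkL
  have hbot : ∀ g : G, g ∈ normalizer (((⊥ : Subgroup G) : Subgroup G) : Set G) := by
    intro g
    rw [Subgroup.mem_normalizer_iff]
    intro x
    simp [Subgroup.mem_bot]
  have t1 : TrivOn k (pCoreOf p H) (pCoreOf p H ⊓ L) := by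
    intro v hv
    exact ⟨B1_aux_comm_mem' hkV hv, B1_aux_comm_mem (hVL hv) hkL⟩
  have t2 : TrivOn k (pCoreOf p H ⊓ L) ⊥ := by
    intro v hv
    have hv' : v ∈ pCoreOf p L := Lchar_aux_inf K.hLH hv
    have := Subgroup.mem_centralizer_iff.mp hkc v hv'
    rw [Subgroup.mem_bot, commutatorElement_eq_one_iff_mul_comm]
    exact this
  have t3 : TrivOn k (pCoreOf p H) ⊥ :=
    triv_of_coprime hk (Cfsg.Agent.Helper14.pCoreOf_isPGroup p H) bot_le inf_le_left
      (fun v _ => hbot v) (fun v hv => Lchar_aux_norm_inf (hHV (hVH hv)) (hVL hv))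
      hkV (Lchar_aux_norm_inf hkV hkLn) (hbot k) t1 t2
  have hkC : k ∈ centralizer ((pCoreOf p H : Subgroup G) : Set G) := by
    rw [Subgroup.mem_centralizer_iff]
    intro v hv
    have := t3 v hv
    rw [Subgroup.mem_bot, commutatorElement_eq_one_iff_mul_comm] at this
    exact this
  have hkV' : k ∈ pCoreOf p H := K.hchar ⟨hkH, hkC⟩
  obtain ⟨e, he⟩ := (IsPGroup.iff_orderOf.mp (Cfsg.Agent.Helper14.pCoreOf_isPGroup p H)) ⟨k, hkV'⟩
  have he' : orderOf k = p ^ e := by
    rw [← Subgroup.orderOf_coe] at he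
    exact he
  rw [he'] at hk
  have h1 : p ^ e = 1 := by
    rcases Nat.eq_zero_or_pos e with h0 | h0
    · rw [h0, pow_zero]
    · exfalso
      have := (Nat.coprime_pow_left_iff h0 p p).mp hk
      exact hp.ne_one ((Nat.coprime_self p).mp this)
  rw [h1] at he'
  exact orderOf_eq_one_iff.mp he'

/-- `C_L(O_p(L)) ≤ O_p(L)` (ambient form). -/
theorem Lchar_aux_d (K : KHyp p H Y D L L0) :
    L ⊓ centralizer ((pCoreOf p L : Subgroup G) : Set G) ≤ pCoreOf p L := by
  have hp : p.Prime := Fact.out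
  set Kc := L ⊓ centralizer ((pCoreOf p L : Subgroup G) : Set G) with hKc
  have hLV : L ≤ normalizer ((pCoreOf p L : Subgroup G) : Set G) := Cfsg.Agent.Helper14.le_normalizer_pCoreOf p L
  -- `Kc` is a `p`-group
  have hcard : Nat.card ↥Kc ≠ 0 := Nat.card_pos.ne'
  have key : ∀ {q : ℕ}, q.Prime → q ∣ Nat.card ↥Kc → q = p := by
    intro q hq hqd
    by_contra hne
    have : Fact q.Prime := ⟨hq⟩
    obtain ⟨x, hx⟩ := exists_prime_orderOf_dvd_card' q hqd
    have hx' : orderOf (x : G) = q := by rw [Subgroup.orderOf_coe]; exact hx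
    have hcop : (orderOf (x : G)).Coprime p := by
      rw [hx']
      exact (Nat.coprime_primes hq hp).mpr hne
    have hx1 : (x : G) = 1 := Lchar_aux_c K x.2.1 x.2.2 hcop
    rw [hx1, orderOf_one] at hx'
    exact hq.ne_one hx'.symm
  have hKp : IsPGroup p ↥Kc := IsPGroup.of_card (Nat.eq_prime_pow_of_unique_prime_dvd hcard key)
  apply Cfsg.Agent.Helper14.le_pCoreOf p inf_le_left _ hKp
  -- `L` normalises `Kc`
  intro l hl
  refine Lchar_aux_norm_inf (Subgroup.le_normalizer hl) ?_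
  have h1 := hLV hl
  have h2 : (centralizer ((pCoreOf p L : Subgroup G) : Set G)).map (cj l) =
      centralizer ((pCoreOf p L : Subgroup G) : Set G) := by
    rw [Cfsg.Agent.Helper14.map_cj_centralizer, Cfsg.Agent.Helper14.mem_normalizer_iff_map_cj.mp h1]
  exact Cfsg.Agent.Helper14.mem_normalizer_iff_map_cj.mpr h2

/-- `L` has characteristic `p` (the form of the frozen statement S2862). -/
theorem Lchar (K : KHyp p H Y D L L0) :
    Subgroup.centralizer (Cfsg.pCore p ↥L : Set ↥L) ≤ Cfsg.pCore p ↥L := T4e (Lchar_aux_d K)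

end Cfsg.Agent.S2862P
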