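import Mathlib
import Cfsg.Agent.Helper7.S2862Defs
import Cfsg.Agent.Helper7.S2862ASM
import Cfsg.Agent.Helper14.S2862L

/-! Board `s2862top`, rows T5b, T5c and the core of T5 (part (c) of S2862; T5a is a hypothesis). -/

set_option autoImplicit false
set_option linter.unusedVariables false
set_option linter.unusedSectionVars false

namespace Cfsg.Agent.S2862P

open Cfsg
open Cfsg.Agent.Helper14 (cj)
open Cfsg.Agent.Helper14.Zip (LData)
open Subgroup
open scoped commutatorElement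

variable {G : Type*} [Group G] [Finite G] {p : ℕ} [Fact p.Prime]
variable {H Y D L L0 Vt Vb : Subgroup G}

/-- T5b : an element acting trivially on `Vt/Vb` fixes every subgroup between `Vb` and `Vt`. -/
theorem T5b (C : ChiefPair p H Vt Vb) {g : G} (hgH : g ∈ H) (hg : TrivOn g Vt Vb) {Z : Subgroup G} (hb : Vb ≤ Z)
    (ht : Z ≤ Vt) : cjs g Z = Z := by
  have hle : cjs g Z ≤ Z := by
    rintro _ ⟨z, hz, rfl⟩
    rw [Cfsg.Agent.Helper14.cj_apply]
    have h1 : ⁅z⁻¹, g⁆ ∈ Vb := hg z⁻¹ (ht (Z.inv_mem hz))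
    have e : g * z * g⁻¹ = z * ⁅z⁻¹, g⁆ := by rw [commutatorElement_def]; group
    rw [e]
    exact Z.mul_mem hz (hb h1)
  exact Subgroup.eq_of_le_of_card_ge hle (by rw [card_cjs])

/-- T5c : the elements fixing `Z` are closed under `⊔`. -/
theorem T5c {A B Z : Subgroup G} (hA : ∀ a ∈ A, cjs a Z = Z) (hB : ∀ b ∈ B, cjs b Z = Z) :
    ∀ g ∈ A ⊔ B, cjs g Z = Z := by
  have h1 : A ≤ normalizer (Z : Set G) := fun a ha => Cfsg.Agent.Helper14.mem_normalizer_iff_map_cj.mpr (hA a ha)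
  have h2 : B ≤ normalizer (Z : Set G) := fun b hb => Cfsg.Agent.Helper14.mem_normalizer_iff_map_cj.mpr (hB b hb)
  intro g hg
  exact Cfsg.Agent.Helper14.mem_normalizer_iff_map_cj.mp (sup_le h1 h2 hg)

/-- T5 with T5a as a hypothesis. -/
theorem T5_aux_core (K : KHyp p H Y D L L0) (hT5a : (Cfsg.pResidual p ↥L).map L.subtype ⊔ Y = L)
    (C : ChiefPair p H Vt Vb) (hnc : Noncentral H Vt Vb) :
    ¬ ⁅Vt, (Cfsg.pResidual p ↥L).map L.subtype⁆ ≤ Vb := by
  intro htriv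
  have hYH : Y ≤ H := K.hYD.trans K.hDH
  obtain ⟨h, hh, hh0⟩ := K.hfar
  have hRL : (Cfsg.pResidual p ↥L).map L.subtype ≤ L := Subgroup.map_subtype_le _
  have hbF : Vb ≤ commP Vt Vb Y := le_commP Y
  have hFt : commP Vt Vb Y ≤ Vt := commP_le C hYH
  have h1 : ∀ r ∈ (Cfsg.pResidual p ↥L).map L.subtype, cjs r (commP Vt Vb Y) = commP Vt Vb Y := by
    intro r hr
    refine T5b C (K.hLH (hRL hr)) ?_ hbF hFt
    intro v hv
    exact htriv (Subgroup.commutator_mem_commutator hv hr)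
  have h2 : ∀ y ∈ Y, cjs y (commP Vt Vb Y) = commP Vt Vb Y := by
    intro y hy
    exact Cfsg.Agent.Helper14.mem_normalizer_iff_map_cj.mp ((commP_inv C hYH).1 hy)
  have h3 := T5c h1 h2 h (by rw [hT5a]; exact hh)
  have h4 : commP Vt Vb (cjs h Y) = commP Vt Vb Y := by
    rw [commP_cjs C hYH (K.hLH hh)]
    exact h3
  have h5 := Asm.B7b K C hnc hh hh0
  rw [h4, inf_idem] at h5
  exact (Asm.B6 K C hnc hh hh0).1 h5

end Cfsg.Agent.S2862P
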