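import Mathlib
import Cfsg.Agent.Helper7.S2862T5core
import Cfsg.Agent.Helper14.S2862TopRows

/-! Board `s2862top`, row T5 (wrapper of `T5_aux_core`). -/

set_option autoImplicit false
set_option linter.unusedVariables false
set_option linter.unusedSectionVars false

namespace Cfsg.Agent.S2862P

open Cfsg
open Cfsg.Agent.Helper14 (cj)
open Cfsg.Agent.Helper14.Zip (LData)
open Subgroup
open scoped commutatorElement

variable {G : Type*} [Group G] [Finite G] {p : ℕ} [Fact p.Prime]
variable {H Y D L L0 Vt Vb : Subgroup G}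

/-- T5 = part (c): `O^p(L)` is nontrivial on every noncentral chief factor. -/
theorem T5 (K : KHyp p H Y D L L0) (LD : LData p L Y L0) (C : ChiefPair p H Vt Vb) (hnc : Noncentral H Vt Vb) :
    ¬ ⁅Vt, (Cfsg.pResidual p ↥L).map L.subtype⁆ ≤ Vb := T5_aux_core K (T5a LD) C hnc

end Cfsg.Agent.S2862P
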