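import Mathlib
import Cfsg.Agent.Helper5.S2951Defs
import Cfsg.Agent.Helper14.PCore

set_option autoImplicit false

/-! # S2951 board, piece FIN (part a): the abstract facts and their transport

`FIN_aux_CF X c g PU PO` collects first-order facts about a group `X`, an element `c` (whose centraliser will be a
Sylow 2-subgroup), an element `g` (of order 3), a predicate `PU` (cutting out `O₂(X)`) and a predicate `PO`
(cutting out the subgroup generated by the elements of odd order).  The facts are invariant under isomorphism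
(`FIN_aux_CF.transport`), and they imply `S4Facts X T` for the Sylow 2-subgroup `T = C_X(c)` (`FIN_aux_main`). -/

namespace Cfsg.Agent.S2951P

open Cfsg Subgroup

universe v w

/-- the first-order facts -/
structure FIN_aux_CF (X : Type v) [Group X] (c g : X) (PU PO : X → Prop) : Prop where
  card : Nat.card X = 24 ∨ Nat.card X = 48
  card_T : Nat.card {y : X // y * c = c * y} * 3 = Nat.card X
  card_U : Nat.card {y : X // PU y} * 6 = Nat.card X
  card_Z : Nat.card {y : X // y * c = c * y ∧ ∀ t : X, t * c = c * t → t * y = y * t} * 12 = Nat.card X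
  u_one : PU 1
  u_mul : ∀ y z : X, PU y → PU z → PU (y * z)
  u_conj : ∀ h y : X, PU y → PU (h * y * h⁻¹)
  u_sq : ∀ y : X, PU y → y * y = 1
  u_le : ∀ y : X, PU y → y * c = c * y
  u_ge : ∀ y : X, y * c = c * y → (g * y * g⁻¹) * c = c * (g * y * g⁻¹) →
    (g⁻¹ * y * g) * c = c * (g⁻¹ * y * g) → PU y
  cent_U : ∀ y : X, (∀ u : X, PU u → u * y = y * u) → PU y
  center_le : ∀ z : X, z * c = c * z → (∀ x : X, x * c = c * x → x * z = z * x) → PU z
  F2 : ∀ f : X, PU f → (∃ x : X, x * c = c * x ∧ x * f ≠ f * x) →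
    ∀ y : X, y * c = c * y → y * f = f * y → PU y
  F3 : ∀ x y : X, x * c = c * x → y * c = c * y → ¬ PU x → ¬ PU y → x * x = 1 → y * y = 1 →
    ∀ t : X, t * c = c * t → t * (x⁻¹ * y) = (x⁻¹ * y) * t
  center_X : Nat.card X = 48 → ∃ z : X, (∀ y : X, y * z = z * y) ∧ z ≠ 1 ∧ PU z
  o_mul : ∀ y z : X, PO y → PO z → PO (y * z)
  o_inv : ∀ y : X, PO y → PO y⁻¹
  o_of : ∀ y : X, y * y * y = 1 → PO y
  o_gen : ∀ y : X, PO y → ∃ a : X, a * a * a = 1 ∧ (a⁻¹ * y) * (a⁻¹ * y) * (a⁻¹ * y) = 1
  card_O : Nat.card {y : X // PO y} = 12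
  card_W : Nat.card {y : X // PO y ∧ PU y} = 4
  cent_W : ∀ y : X, (∀ w : X, PO w → PU w → w * y = y * w) ↔ PU y

section transport

variable {X : Type v} {Y : Type w} [Group X] [Group Y] (e : X ≃* Y)

theorem FIN_aux_eq (a b : X) : a = b ↔ e a = e b := e.injective.eq_iff.symm

theorem FIN_aux_comm (x : X) (c : Y) : x * e.symm c = e.symm c * x ↔ e x * c = c * e x := by
  rw [FIN_aux_eq e]; simp only [map_mul, MulEquiv.apply_symm_apply]

theorem FIN_aux_comm' (x z : X) : x * z = z * x ↔ e x * e z = e z * e x := by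
  rw [FIN_aux_eq e]; simp only [map_mul]

theorem FIN_aux_all (P : Y → Prop) : (∀ x : X, P (e x)) ↔ ∀ y : Y, P y :=
  e.surjective.forall.symm

theorem FIN_aux_CF.transport {c g : Y} {PU PO : Y → Prop} (h : FIN_aux_CF Y c g PU PO) :
    FIN_aux_CF X (e.symm c) (e.symm g) (fun x => PU (e x)) (fun x => PO (e x)) := by
  have hX : Nat.card X = Nat.card Y := Nat.card_congr e.toEquiv
  have hcentral : ∀ y : X, (∀ t : X, t * e.symm c = e.symm c * t → t * y = y * t) ↔
      ∀ t : Y, t * c = c * t → t * e y = e y * t := by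
    intro y
    rw [← FIN_aux_all e]
    refine forall_congr' (fun t => ?_)
    rw [FIN_aux_comm, FIN_aux_comm' e]
  refine
    { card := by rw [hX]; exact h.card
      card_T := by
        rw [hX, ← h.card_T]
        congr 1
        exact Nat.card_congr (e.toEquiv.subtypeEquiv (fun x => FIN_aux_comm e x c))
      card_U := by
        rw [hX, ← h.card_U]
        congr 1
        exact Nat.card_congr (e.toEquiv.subtypeEquiv (fun x => Iff.rfl))
      card_Z := by
        rw [hX, ← h.card_Z]
        congr 1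
        refine Nat.card_congr (e.toEquiv.subtypeEquiv (fun x => ?_))
        rw [FIN_aux_comm, hcentral]
        rfl
      u_one := by simpa using h.u_one
      u_mul := fun y z hy hz => by simpa using h.u_mul _ _ hy hz
      u_conj := fun k y hy => by simpa using h.u_conj (e k) _ hy
      u_sq := fun y hy => by rw [FIN_aux_eq e]; simpa using h.u_sq _ hy
      u_le := fun y hy => (FIN_aux_comm e y c).2 (h.u_le _ hy)
      u_ge := fun y h1 h2 h3 => by
        rw [FIN_aux_comm] at h1 h2 h3
        simp only [map_mul, map_inv, MulEquiv.apply_symm_apply] at h2 h3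
        exact h.u_ge _ h1 h2 h3
      cent_U := fun y hy => by
        refine h.cent_U _ ?_
        rw [← FIN_aux_all e]
        intro u hu
        exact (FIN_aux_comm' e u y).1 (hy u hu)
      center_le := fun z hz hz' => h.center_le _ ((FIN_aux_comm e z c).1 hz) ((hcentral z).1 hz')
      F2 := fun f hf hx y hy hyf => by
        obtain ⟨x, hx1, hx2⟩ := hx
        refine h.F2 _ hf ⟨e x, (FIN_aux_comm e x c).1 hx1, fun hh => hx2 ((FIN_aux_comm' e x f).2 hh)⟩ _
          ((FIN_aux_comm e y c).1 hy) ((FIN_aux_comm' e y f).1 hyf)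
      F3 := fun x y hx hy hux huy hxx hyy t ht => by
        rw [FIN_aux_eq e] at hxx hyy ⊢
        simp only [map_mul, map_inv, map_one] at hxx hyy ⊢
        exact h.F3 _ _ ((FIN_aux_comm e x c).1 hx) ((FIN_aux_comm e y c).1 hy) hux huy hxx hyy _
          ((FIN_aux_comm e t c).1 ht)
      center_X := fun h48 => by
        obtain ⟨z, hz1, hz2, hz3⟩ := h.center_X (hX ▸ h48)
        refine ⟨e.symm z, fun y => ?_, fun hh => hz2 ?_, by simpa using hz3⟩
        · rw [FIN_aux_comm]; exact hz1 _
        · simpa using congrArg e hh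
      o_mul := fun y z hy hz => by simpa using h.o_mul _ _ hy hz
      o_inv := fun y hy => by simpa using h.o_inv _ hy
      o_of := fun y hy => by
        refine h.o_of _ ?_
        rw [FIN_aux_eq e] at hy
        simpa using hy
      o_gen := fun y hy => by
        obtain ⟨a, ha1, ha2⟩ := h.o_gen _ hy
        refine ⟨e.symm a, ?_, ?_⟩
        · rw [FIN_aux_eq e]; simpa using ha1
        · rw [FIN_aux_eq e]; simpa using ha2
      card_O := by
        rw [← h.card_O]
        exact Nat.card_congr (e.toEquiv.subtypeEquiv (fun x => Iff.rfl))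
      card_W := by
        rw [← h.card_W]
        exact Nat.card_congr (e.toEquiv.subtypeEquiv (fun x => Iff.rfl))
      cent_W := fun y => by
        rw [← h.cent_W (e y), ← FIN_aux_all e]
        refine forall_congr' (fun w => ?_)
        rw [FIN_aux_comm' e] }

end transport

section main

variable {X : Type v} [Group X] {c g : X} {PU PO : X → Prop}

/-- the subgroup cut out by `PU` -/
def FIN_aux_U (h : FIN_aux_CF X c g PU PO) : Subgroup X where
  carrier := {y | PU y}
  mul_mem' := fun {a b} ha hb => h.u_mul a b ha hb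
  one_mem' := h.u_one
  inv_mem' := fun {a} ha => by
    have h1 : a⁻¹ = a := inv_eq_of_mul_eq_one_left (h.u_sq a ha)
    show PU a⁻¹
    rw [h1]; exact ha

/-- the subgroup cut out by `PO` -/
def FIN_aux_O (h : FIN_aux_CF X c g PU PO) : Subgroup X where
  carrier := {y | PO y}
  mul_mem' := fun {a b} ha hb => h.o_mul a b ha hb
  one_mem' := h.o_of 1 (by simp)
  inv_mem' := fun {a} ha => h.o_inv a ha

theorem FIN_aux_mem_U (h : FIN_aux_CF X c g PU PO) (x : X) : x ∈ FIN_aux_U h ↔ PU x := Iff.rfl

theorem FIN_aux_mem_O (h : FIN_aux_CF X c g PU PO) (x : X) : x ∈ FIN_aux_O h ↔ PO x := Iff.rfl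

theorem FIN_aux_U_normal (h : FIN_aux_CF X c g PU PO) : (FIN_aux_U h).Normal :=
  ⟨fun y hy k => h.u_conj k y hy⟩

theorem FIN_aux_U_pgroup (h : FIN_aux_CF X c g PU PO) : IsPGroup 2 ↥(FIN_aux_U h) := by
  intro y
  refine ⟨1, ?_⟩
  apply Subtype.ext
  have := h.u_sq y.1 y.2
  simp [pow_two, this]

theorem FIN_aux_pCore [Finite X] (h : FIN_aux_CF X c g PU PO) (T : Sylow 2 X)
    (hT : ∀ x, x ∈ T ↔ x * c = c * x) (x : X) : x ∈ pCore 2 X ↔ PU x := by
  constructor
  · intro hx
    have hle := Cfsg.Agent.Helper14.pCore_le_sylow 2 T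
    have hn : (pCore 2 X).Normal := Cfsg.Agent.Helper14.pCore_normal 2
    have h1 : x * c = c * x := (hT x).1 (hle hx)
    have h2 : (g * x * g⁻¹) * c = c * (g * x * g⁻¹) := (hT _).1 (hle (hn.conj_mem x hx g))
    have h3 : (g⁻¹ * x * g) * c = c * (g⁻¹ * x * g) := by
      have := (hT _).1 (hle (hn.conj_mem x hx g⁻¹))
      simpa using this
    exact h.u_ge x h1 h2 h3
  · intro hx
    exact Cfsg.Agent.Helper14.le_pCore 2 (FIN_aux_U_normal h) (FIN_aux_U_pgroup h) hx

theorem FIN_aux_odd [Finite X] (h : FIN_aux_CF X c g PU PO) (x : X) (hx : Odd (orderOf x)) :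
    x * x * x = 1 := by
  have hd : orderOf x ∣ Nat.card X := orderOf_dvd_natCard x
  have hc2 : Nat.Coprime (orderOf x) 2 := Nat.coprime_two_right.2 hx
  have h3 : orderOf x ∣ 3 := by
    rcases h.card with h24 | h48
    · rw [h24] at hd
      have hc : Nat.Coprime (orderOf x) (2 ^ 3) := hc2.pow_right 3
      exact hc.dvd_of_dvd_mul_left (by simpa using hd)
    · rw [h48] at hd
      have hc : Nat.Coprime (orderOf x) (2 ^ 4) := hc2.pow_right 4
      exact hc.dvd_of_dvd_mul_left (by simpa using hd)
  have := orderOf_dvd_iff_pow_eq_one.1 h3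
  rw [← this]
  simp [pow_succ]

theorem FIN_aux_odd_of (x : X) (hx : x * x * x = 1) : Odd (orderOf x) := by
  have h3 : orderOf x ∣ 3 := orderOf_dvd_of_pow_eq_one (by rw [← hx]; simp [pow_succ])
  rcases (Nat.dvd_prime Nat.prime_three).1 h3 with h1 | h1 <;> rw [h1] <;> decide

theorem FIN_aux_closure [Finite X] (h : FIN_aux_CF X c g PU PO) (x : X) :
    x ∈ closure {x : X | Odd (orderOf x)} ↔ PO x := by
  constructor
  · intro hx
    have hle : closure {x : X | Odd (orderOf x)} ≤ FIN_aux_O h := by
      rw [closure_le]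
      intro y hy
      exact h.o_of y (FIN_aux_odd h y hy)
    exact hle hx
  · intro hx
    obtain ⟨a, ha1, ha2⟩ := h.o_gen x hx
    have h1 : a ∈ closure {x : X | Odd (orderOf x)} := subset_closure (FIN_aux_odd_of a ha1)
    have h2 : a⁻¹ * x ∈ closure {x : X | Odd (orderOf x)} := subset_closure (FIN_aux_odd_of _ ha2)
    have := mul_mem h1 h2
    simpa using this

theorem FIN_aux_main [Finite X] (h : FIN_aux_CF X c g PU PO) (T : Sylow 2 X)
    (hT : ∀ x, x ∈ T ↔ x * c = c * x) : S4Facts X (T : Subgroup X) := by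
  have hU := FIN_aux_pCore h T hT
  have hO := FIN_aux_closure h
  have hT' : ∀ x, x ∈ (T : Subgroup X) ↔ x * c = c * x := hT
  refine
    { card := h.card
      card_T := by
        rw [← h.card_T]
        congr 1
        exact Nat.card_congr (Equiv.subtypeEquivRight hT')
      card_U := by
        rw [← h.card_U]
        congr 1
        exact Nat.card_congr (Equiv.subtypeEquivRight hU)
      card_center := by
        rw [← h.card_Z]
        congr 1
        refine Nat.card_congr (Equiv.subtypeEquivRight (fun x => ?_))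
        rw [mem_inf, mem_centralizer_iff, hT']
        refine and_congr Iff.rfl (forall_congr' (fun t => ?_))
        rw [SetLike.mem_coe, hT']
      U_le := fun x hx => (hT' x).2 (h.u_le x ((hU x).1 hx))
      U_comm := fun a ha b hb => by
        have ha' := (hU a).1 ha
        have hb' := (hU b).1 hb
        have h1 := h.u_sq a ha'
        have h2 := h.u_sq b hb'
        have h3 := h.u_sq (a * b) (h.u_mul a b ha' hb')
        have h4 : a * b = (a * b)⁻¹ := eq_inv_of_mul_eq_one_left h3
        rw [h4, mul_inv_rev, inv_eq_of_mul_eq_one_left h1, inv_eq_of_mul_eq_one_left h2]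
      U_sq := fun a ha => h.u_sq a ((hU a).1 ha)
      cent_U := fun y hy => by
        rw [mem_centralizer_iff] at hy
        exact (hU y).2 (h.cent_U y (fun u hu => hy u ((hU u).2 hu)))
      center_le := fun z hz hz' =>
        (hU z).2 (h.center_le z ((hT' z).1 hz) (fun x hx => hz' x ((hT' x).2 hx)))
      F2 := fun f hf hx y hy hyf => by
        obtain ⟨x, hx1, hx2⟩ := hx
        exact (hU y).2 (h.F2 f ((hU f).1 hf) ⟨x, (hT' x).1 hx1, hx2⟩ y ((hT' y).1 hy) hyf)
      F3 := fun x hx y hy hux huy hxx hyy t ht =>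
        h.F3 x y ((hT' x).1 hx) ((hT' y).1 hy) (fun hh => hux ((hU x).2 hh)) (fun hh => huy ((hU y).2 hh))
          hxx hyy t ((hT' t).1 ht)
      center_X := fun h48 => by
        obtain ⟨z, hz1, hz2, hz3⟩ := h.center_X h48
        exact ⟨z, mem_center_iff.2 hz1, hz2, (hU z).2 hz3⟩
      card_odd := by
        rw [← h.card_O]
        exact Nat.card_congr (Equiv.subtypeEquivRight hO)
      card_W := by
        rw [← h.card_W]
        refine Nat.card_congr (Equiv.subtypeEquivRight (fun x => ?_))
        rw [mem_inf, hO, hU]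
      cent_W := by
        ext y
        rw [mem_centralizer_iff, hU, ← h.cent_W y]
        constructor
        · intro hy w hw1 hw2
          exact hy w (mem_inf.2 ⟨(hO w).2 hw1, (hU w).2 hw2⟩)
        · intro hy w hw
          rw [SetLike.mem_coe, mem_inf, hO, hU] at hw
          exact hy w hw.1 hw.2 }

end main

section sylow

open scoped Pointwise

variable {X : Type v} [Group X] {c g : X} {PU PO : X → Prop}

/-- the centraliser of `c` -/
def FIN_aux_C (c : X) : Subgroup X where
  carrier := {y | y * c = c * y}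
  mul_mem' := fun {a b} ha hb => by
    show a * b * c = c * (a * b)
    have ha' : a * c = c * a := ha
    have hb' : b * c = c * b := hb
    rw [mul_assoc, hb', ← mul_assoc, ha', mul_assoc]
  one_mem' := by simp
  inv_mem' := fun {a} ha => by
    show a⁻¹ * c = c * a⁻¹
    have ha' : a * c = c * a := ha
    rw [eq_mul_inv_iff_mul_eq, mul_assoc, ← ha', ← mul_assoc, inv_mul_cancel, one_mul]

theorem FIN_aux_mem_C (c x : X) : x ∈ FIN_aux_C c ↔ x * c = c * x := Iff.rfl

theorem FIN_aux_sylow [Finite X] (h : FIN_aux_CF X c g PU PO) :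
    ∃ T₀ : Sylow 2 X, ∀ x, x ∈ T₀ ↔ x * c = c * x := by
  have : Fact (Nat.Prime 2) := ⟨Nat.prime_two⟩
  have hcard : Nat.card ↥(FIN_aux_C c) * 3 = Nat.card X := by
    rw [← h.card_T]
    congr 1
  have hp : IsPGroup 2 ↥(FIN_aux_C c) := by
    rcases h.card with h24 | h48
    · exact IsPGroup.of_card (n := 3) (by omega)
    · exact IsPGroup.of_card (n := 4) (by omega)
  have hidx : (FIN_aux_C c).index = 3 := by
    have h1 := (FIN_aux_C c).card_mul_index
    have h2 : 0 < Nat.card ↥(FIN_aux_C c) := Nat.card_pos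
    have h3 : Nat.card ↥(FIN_aux_C c) * (FIN_aux_C c).index = Nat.card ↥(FIN_aux_C c) * 3 := by
      rw [h1, hcard]
    exact Nat.eq_of_mul_eq_mul_left h2 h3
  exact ⟨hp.toSylow (by rw [hidx]; decide), fun x => Iff.rfl⟩

theorem FIN_aux_any [Finite X] (h : FIN_aux_CF X c g PU PO) (T : Sylow 2 X) :
    S4Facts X (T : Subgroup X) := by
  have : Fact (Nat.Prime 2) := ⟨Nat.prime_two⟩
  obtain ⟨T₀, hT₀⟩ := FIN_aux_sylow h
  obtain ⟨k, hk⟩ := MulAction.exists_smul_eq X T₀ T
  have h' := h.transport (MulAut.conj k⁻¹ : X ≃* X)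
  refine FIN_aux_main h' T (fun x => ?_)
  rw [FIN_aux_comm, ← hT₀, ← hk]
  show x ∈ MulAut.conj k • (T₀ : Subgroup X) ↔ _
  rw [Subgroup.mem_pointwise_smul_iff_inv_smul_mem, ← map_inv]
  rfl

end sylow

end Cfsg.Agent.S2951P
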