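import Cfsg.Agent.Helper7.S2951FINa

set_option autoImplicit false

/-! # S2951 board, piece FIN (part b): the decidable form of the facts

`FIN_aux_DF` restates `FIN_aux_CF` for a finite type with decidable equality, through auxiliary predicates whose
decidability instances are small, so that each field can be closed by `decide` in a concrete group. -/

namespace Cfsg.Agent.S2951P

section dec

variable {Y : Type} [Group Y] (c g : Y) (PU PO : Y → Prop)

/-- `y` commutes with `c` -/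
def FIN_aux_PT (y : Y) : Prop := y * c = c * y

instance FIN_aux_PT_dec [DecidableEq Y] : DecidablePred (FIN_aux_PT c) :=
  fun y => inferInstanceAs (Decidable (y * c = c * y))

/-- `z` commutes with the centraliser of `c` -/
def FIN_aux_PZ (z : Y) : Prop := ∀ t : Y, FIN_aux_PT c t → t * z = z * t

instance FIN_aux_PZ_dec [Fintype Y] [DecidableEq Y] : DecidablePred (FIN_aux_PZ c) :=
  fun z => inferInstanceAs (Decidable (∀ t : Y, FIN_aux_PT c t → t * z = z * t))

/-- `y` lies in the centraliser of `c` and in its two conjugates under `g` -/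
def FIN_aux_P3 (y : Y) : Prop :=
  FIN_aux_PT c y ∧ FIN_aux_PT c (g * y * g⁻¹) ∧ FIN_aux_PT c (g⁻¹ * y * g)

instance FIN_aux_P3_dec [DecidableEq Y] : DecidablePred (FIN_aux_P3 c g) :=
  fun y => inferInstanceAs
    (Decidable (FIN_aux_PT c y ∧ FIN_aux_PT c (g * y * g⁻¹) ∧ FIN_aux_PT c (g⁻¹ * y * g)))

/-- `y` centralises `PU` -/
def FIN_aux_PCU (y : Y) : Prop := ∀ u : Y, PU u → u * y = y * u

instance FIN_aux_PCU_dec [Fintype Y] [DecidableEq Y] [DecidablePred PU] : DecidablePred (FIN_aux_PCU PU) :=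
  fun y => inferInstanceAs (Decidable (∀ u : Y, PU u → u * y = y * u))

/-- `y` centralises `PO ∧ PU` -/
def FIN_aux_PCW (y : Y) : Prop := ∀ w : Y, PO w → PU w → w * y = y * w

instance FIN_aux_PCW_dec [Fintype Y] [DecidableEq Y] [DecidablePred PU] [DecidablePred PO] :
    DecidablePred (FIN_aux_PCW PU PO) :=
  fun y => inferInstanceAs (Decidable (∀ w : Y, PO w → PU w → w * y = y * w))

/-- `f` lies in `PU` and is not central in the centraliser of `c` -/
def FIN_aux_PF (f : Y) : Prop := PU f ∧ ∃ x : Y, FIN_aux_PT c x ∧ x * f ≠ f * x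

instance FIN_aux_PF_dec [Fintype Y] [DecidableEq Y] [DecidablePred PU] : DecidablePred (FIN_aux_PF c PU) :=
  fun f => inferInstanceAs (Decidable (PU f ∧ ∃ x : Y, FIN_aux_PT c x ∧ x * f ≠ f * x))

/-- `x` is an involution (or trivial) of the centraliser of `c` outside `PU` -/
def FIN_aux_PI (x : Y) : Prop := FIN_aux_PT c x ∧ ¬ PU x ∧ x * x = 1

instance FIN_aux_PI_dec [DecidableEq Y] [DecidablePred PU] : DecidablePred (FIN_aux_PI c PU) :=
  fun x => inferInstanceAs (Decidable (FIN_aux_PT c x ∧ ¬ PU x ∧ x * x = 1))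

/-- `y` has order dividing 3 -/
def FIN_aux_PC (y : Y) : Prop := y * y * y = 1

instance FIN_aux_PC_dec [DecidableEq Y] : DecidablePred (FIN_aux_PC (Y := Y)) :=
  fun y => inferInstanceAs (Decidable (y * y * y = 1))

/-- `y` is a product of two elements of order dividing 3 -/
def FIN_aux_PG (y : Y) : Prop := ∃ a : Y, FIN_aux_PC a ∧ FIN_aux_PC (a⁻¹ * y)

instance FIN_aux_PG_dec [Fintype Y] [DecidableEq Y] : DecidablePred (FIN_aux_PG (Y := Y)) :=
  fun y => inferInstanceAs (Decidable (∃ a : Y, FIN_aux_PC a ∧ FIN_aux_PC (a⁻¹ * y)))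

/-- `z` is central -/
def FIN_aux_PZX (z : Y) : Prop := ∀ y : Y, y * z = z * y

instance FIN_aux_PZX_dec [Fintype Y] [DecidableEq Y] : DecidablePred (FIN_aux_PZX (Y := Y)) :=
  fun z => inferInstanceAs (Decidable (∀ y : Y, y * z = z * y))

end dec

/-- the decidable form of the facts -/
structure FIN_aux_DF (Y : Type) [Group Y] [Fintype Y] [DecidableEq Y] (c g : Y) (PU PO : Y → Prop)
    [DecidablePred PU] [DecidablePred PO] : Prop where
  card : Fintype.card Y = 24 ∨ Fintype.card Y = 48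
  card_T : Fintype.card {y : Y // FIN_aux_PT c y} * 3 = Fintype.card Y
  card_U : Fintype.card {y : Y // PU y} * 6 = Fintype.card Y
  card_Z : Fintype.card {y : Y // FIN_aux_PT c y ∧ FIN_aux_PZ c y} * 12 = Fintype.card Y
  u_one : PU 1
  u_mul : ∀ y : Y, PU y → ∀ z : Y, PU z → PU (y * z)
  u_conj : ∀ y : Y, PU y → ∀ h : Y, PU (h * y * h⁻¹)
  u_sq : ∀ y : Y, PU y → y * y = 1
  u_le : ∀ y : Y, PU y → FIN_aux_PT c y
  u_ge : ∀ y : Y, FIN_aux_P3 c g y → PU y
  cent_U : ∀ y : Y, FIN_aux_PCU PU y → PU y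
  center_le : ∀ z : Y, FIN_aux_PT c z → FIN_aux_PZ c z → PU z
  F2 : ∀ f : Y, FIN_aux_PF c PU f → ∀ y : Y, FIN_aux_PT c y → y * f = f * y → PU y
  F3 : ∀ x : Y, FIN_aux_PI c PU x → ∀ y : Y, FIN_aux_PI c PU y → FIN_aux_PZ c (x⁻¹ * y)
  center_X : Fintype.card Y = 48 → ∃ z : Y, FIN_aux_PZX z ∧ z ≠ 1 ∧ PU z
  o_mul : ∀ y : Y, PO y → ∀ z : Y, PO z → PO (y * z)
  o_inv : ∀ y : Y, PO y → PO y⁻¹
  o_of : ∀ y : Y, FIN_aux_PC y → PO y
  o_gen : ∀ y : Y, PO y → FIN_aux_PG y
  card_O : Fintype.card {y : Y // PO y} = 12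
  card_W : Fintype.card {y : Y // PO y ∧ PU y} = 4
  cent_W : ∀ y : Y, FIN_aux_PCW PU PO y ↔ PU y

theorem FIN_aux_DF.toCF {Y : Type} [Group Y] [Fintype Y] [DecidableEq Y] {c g : Y} {PU PO : Y → Prop}
    [DecidablePred PU] [DecidablePred PO] (h : FIN_aux_DF Y c g PU PO) : FIN_aux_CF Y c g PU PO := by
  have hY : Nat.card Y = Fintype.card Y := Nat.card_eq_fintype_card
  have hT : Nat.card {y : Y // y * c = c * y} = Fintype.card {y : Y // FIN_aux_PT c y} :=
    Nat.card_eq_fintype_card (α := {y : Y // FIN_aux_PT c y})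
  have hU : Nat.card {y : Y // PU y} = Fintype.card {y : Y // PU y} := Nat.card_eq_fintype_card
  have hZ : Nat.card {y : Y // y * c = c * y ∧ ∀ t : Y, t * c = c * t → t * y = y * t} =
      Fintype.card {y : Y // FIN_aux_PT c y ∧ FIN_aux_PZ c y} :=
    Nat.card_eq_fintype_card (α := {y : Y // FIN_aux_PT c y ∧ FIN_aux_PZ c y})
  have hO : Nat.card {y : Y // PO y} = Fintype.card {y : Y // PO y} := Nat.card_eq_fintype_card
  have hW : Nat.card {y : Y // PO y ∧ PU y} = Fintype.card {y : Y // PO y ∧ PU y} :=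
    Nat.card_eq_fintype_card
  exact
    { card := by rw [hY]; exact h.card
      card_T := by rw [hY, hT]; exact h.card_T
      card_U := by rw [hY, hU]; exact h.card_U
      card_Z := by rw [hY, hZ]; exact h.card_Z
      u_one := h.u_one
      u_mul := fun y z hy hz => h.u_mul y hy z hz
      u_conj := fun k y hy => h.u_conj y hy k
      u_sq := h.u_sq
      u_le := h.u_le
      u_ge := fun y h1 h2 h3 => h.u_ge y ⟨h1, h2, h3⟩
      cent_U := h.cent_U
      center_le := h.center_le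
      F2 := fun f hf hx y hy hyf => h.F2 f ⟨hf, hx⟩ y hy hyf
      F3 := fun x y hx hy hux huy hxx hyy => h.F3 x ⟨hx, hux, hxx⟩ y ⟨hy, huy, hyy⟩
      center_X := fun h48 => h.center_X (hY ▸ h48)
      o_mul := fun y z hy hz => h.o_mul y hy z hz
      o_inv := h.o_inv
      o_of := h.o_of
      o_gen := h.o_gen
      card_O := by rw [hO]; exact h.card_O
      card_W := by rw [hW]; exact h.card_W
      cent_W := h.cent_W }

end Cfsg.Agent.S2951P
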