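import Cfsg.Agent.Helper7.S2951FINb

set_option autoImplicit false

/-! # S2951 board, piece FIN (part c): the facts in `Perm (Fin 4)` -/

namespace Cfsg.Agent.S2951P

/-- the double transposition `(0 2)(1 3)` -/
def FIN_aux_c1 : Equiv.Perm (Fin 4) := Equiv.swap 0 2 * Equiv.swap 1 3

/-- the 3-cycle `(0 1)(1 2)` -/
def FIN_aux_g1 : Equiv.Perm (Fin 4) := Equiv.swap 0 1 * Equiv.swap 1 2

/-- the four-group -/
def FIN_aux_PU1 (y : Equiv.Perm (Fin 4)) : Prop := y * y = 1 ∧ Equiv.Perm.sign y = 1

instance FIN_aux_PU1_dec : DecidablePred FIN_aux_PU1 :=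
  fun y => inferInstanceAs (Decidable (y * y = 1 ∧ Equiv.Perm.sign y = 1))

/-- the alternating group -/
def FIN_aux_PO1 (y : Equiv.Perm (Fin 4)) : Prop := Equiv.Perm.sign y = 1

instance FIN_aux_PO1_dec : DecidablePred FIN_aux_PO1 :=
  fun y => inferInstanceAs (Decidable (Equiv.Perm.sign y = 1))

set_option maxRecDepth 100000 in
theorem FIN_aux_DF1 : FIN_aux_DF (Equiv.Perm (Fin 4)) FIN_aux_c1 FIN_aux_g1 FIN_aux_PU1 FIN_aux_PO1 where
  card := by decide
  card_T := by decide
  card_U := by decide
  card_Z := by decide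
  u_one := by decide
  u_mul := by decide
  u_conj := by decide
  u_sq := by decide
  u_le := by decide
  u_ge := by decide
  cent_U := by decide
  center_le := by decide
  F2 := by decide
  F3 := by decide
  center_X := by decide
  o_mul := by decide
  o_inv := by decide
  o_of := by decide
  o_gen := by decide
  card_O := by decide
  card_W := by decide
  cent_W := by decide

end Cfsg.Agent.S2951P
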