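import Mathlib
import Cfsg.Agent.Helper12.S3222Defs
import Cfsg.Agent.Helper4.ZasPerfectAux
import Cfsg.Agent.Helper28.D4Equiv

set_option autoImplicit false

/-! # S3222, piece LOCA: the local data, by transport along `e : C_G(t) ≃* Z₂ × S₄` -/

namespace Cfsg.Agent.S3222P

open Subgroup

/-! ### computations in `Γ = Z₂ × S₄` -/

set_option maxRecDepth 100000 in
theorem LOCA_aux_card_gam : Fintype.card Gam = 48 := by decide

set_option maxRecDepth 100000 in
theorem LOCA_aux_card_sig :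
    Fintype.card {γ : Gam // γ * ((1, Equiv.swap 0 2 * Equiv.swap 1 3) : Gam) =
      ((1, Equiv.swap 0 2 * Equiv.swap 1 3) : Gam) * γ} = 16 := by decide

set_option maxRecDepth 100000 in
theorem LOCA_aux_exp : ∀ γ : Gam, γ ^ 12 = 1 := by decide

set_option maxRecDepth 100000 in
theorem LOCA_aux_three : ∀ γ : Gam, γ ≠ 1 → γ ^ 3 = 1 →
    ∃ h : Gam, (γ * (h * γ * h⁻¹)) * (γ * (h * γ * h⁻¹)) = 1 ∧ γ * (h * γ * h⁻¹) ≠ 1 := by
  decide

set_option maxRecDepth 100000 in
theorem LOCA_aux_cent8 : ∀ s : Gam,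
    s * ((1, Equiv.swap 0 2 * Equiv.swap 1 3) : Gam) =
      ((1, Equiv.swap 0 2 * Equiv.swap 1 3) : Gam) * s →
    8 ∣ Fintype.card {γ : Gam // γ * ((1, Equiv.swap 0 2 * Equiv.swap 1 3) : Gam) =
      ((1, Equiv.swap 0 2 * Equiv.swap 1 3) : Gam) * γ ∧ γ * s = s * γ} := by decide

set_option maxRecDepth 100000 in
theorem LOCA_aux_center : ∀ γ : Gam, (∀ δ : Gam, γ * δ = δ * γ) →
    γ = 1 ∨ γ = (Multiplicative.ofAdd (1 : ZMod 2), 1) := by decide

set_option maxRecDepth 100000 in
theorem LOCA_aux_z2 : ∀ ε : Multiplicative (ZMod 2), ε = 1 ∨ ε = Multiplicative.ofAdd (1 : ZMod 2) := by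
  decide

set_option maxRecDepth 100000 in
theorem LOCA_aux_card_d8 :
    Fintype.card {σ : Equiv.Perm (Fin 4) // σ * (Equiv.swap 0 2 * Equiv.swap 1 3) =
      (Equiv.swap 0 2 * Equiv.swap 1 3) * σ} = 8 := by decide

/-- The centraliser of `(02)(13)` in `S₄` is dihedral of order 8. -/
theorem LOCA_aux_d8 :
    Nonempty (DihedralGroup 4 ≃*
      ↥(centralizer ({Equiv.swap 0 2 * Equiv.swap 1 3} : Set (Equiv.Perm (Fin 4))))) := by
  have hcard : Nat.card ↥(centralizer ({Equiv.swap 0 2 * Equiv.swap 1 3} :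
      Set (Equiv.Perm (Fin 4)))) = 8 := by
    have e : ↥(centralizer ({Equiv.swap 0 2 * Equiv.swap 1 3} : Set (Equiv.Perm (Fin 4)))) ≃
        {σ : Equiv.Perm (Fin 4) // σ * (Equiv.swap 0 2 * Equiv.swap 1 3) =
          (Equiv.swap 0 2 * Equiv.swap 1 3) * σ} :=
      Equiv.subtypeEquivRight (fun σ => mem_centralizer_singleton_iff)
    rw [Nat.card_congr e, Nat.card_eq_fintype_card]
    exact LOCA_aux_card_d8
  have ha : (Equiv.swap (0 : Fin 4) 1 * Equiv.swap 1 2 * Equiv.swap 2 3 : Equiv.Perm (Fin 4)) ∈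
      centralizer ({Equiv.swap 0 2 * Equiv.swap 1 3} : Set (Equiv.Perm (Fin 4))) := by
    rw [mem_centralizer_singleton_iff]
    decide
  have hb : (Equiv.swap (1 : Fin 4) 3 : Equiv.Perm (Fin 4)) ∈
      centralizer ({Equiv.swap 0 2 * Equiv.swap 1 3} : Set (Equiv.Perm (Fin 4))) := by
    rw [mem_centralizer_singleton_iff]
    decide
  refine Cfsg.Agent.Helper28.D4.equiv_of_gens hcard ⟨_, ha⟩ ⟨_, hb⟩ ?_ ?_ ?_ ?_ ?_
  · apply Subtype.ext
    show (Equiv.swap (0 : Fin 4) 1 * Equiv.swap 1 2 * Equiv.swap 2 3 : Equiv.Perm (Fin 4)) ^ 4 = 1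
    decide
  · intro h
    have h' : (Equiv.swap (0 : Fin 4) 1 * Equiv.swap 1 2 * Equiv.swap 2 3 : Equiv.Perm (Fin 4)) ^ 2 = 1 :=
      congrArg Subtype.val h
    revert h'
    decide
  · apply Subtype.ext
    show (Equiv.swap (1 : Fin 4) 3 : Equiv.Perm (Fin 4)) * Equiv.swap 1 3 = 1
    decide
  · apply Subtype.ext
    show (Equiv.swap (1 : Fin 4) 3 : Equiv.Perm (Fin 4)) *
        (Equiv.swap (0 : Fin 4) 1 * Equiv.swap 1 2 * Equiv.swap 2 3) * (Equiv.swap (1 : Fin 4) 3)⁻¹ =
      (Equiv.swap (0 : Fin 4) 1 * Equiv.swap 1 2 * Equiv.swap 2 3)⁻¹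
    decide
  · intro k h
    have h' : (Equiv.swap (1 : Fin 4) 3 : Equiv.Perm (Fin 4)) =
        (Equiv.swap (0 : Fin 4) 1 * Equiv.swap 1 2 * Equiv.swap 2 3) ^ k := congrArg Subtype.val h
    have h4 : (Equiv.swap (0 : Fin 4) 1 * Equiv.swap 1 2 * Equiv.swap 2 3 : Equiv.Perm (Fin 4)) ^ 4 = 1 := by
      decide
    rw [← Nat.mod_add_div k 4, pow_add, pow_mul, h4, one_pow, mul_one] at h'
    have hk : k % 4 < 4 := Nat.mod_lt _ (by norm_num)
    revert h'
    generalize k % 4 = j at hk
    interval_cases j <;> decide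


/-- LOCA (L): the local data. -/
theorem LOCA {G : Type*} [Group G] [Finite G]
    (t : G) (ht : orderOf t = 2) (T : Sylow 2 G) (htT : t ∈ (T : Subgroup G))
    (htc : ∀ s ∈ (T : Subgroup G), s * t = t * s)
    (e : ↥(Subgroup.centralizer ({t} : Set G)) ≃* Gam)
    (hstd : ∀ x : ↥(Subgroup.centralizer ({t} : Set G)), (x : G) ∈ (T : Subgroup G) ↔
        e x * ((1, Equiv.swap 0 2 * Equiv.swap 1 3) : Gam) =
          ((1, Equiv.swap 0 2 * Equiv.swap 1 3) : Gam) * e x) :
    Local t T := by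
  classical
  have hTC : (T : Subgroup G) ≤ centralizer ({t} : Set G) := fun s hs =>
    mem_centralizer_singleton_iff.2 (htc s hs)
  have htC : t ∈ centralizer ({t} : Set G) := mem_centralizer_singleton_iff.2 rfl
  have ht1 : t ≠ 1 := by
    intro h
    rw [h, orderOf_one] at ht
    norm_num at ht
  -- `e t = τ`
  have het : e ⟨t, htC⟩ = (Multiplicative.ofAdd (1 : ZMod 2), 1) := by
    have hcen : ∀ δ : Gam, e ⟨t, htC⟩ * δ = δ * e ⟨t, htC⟩ := by
      intro δ
      obtain ⟨x, rfl⟩ := e.surjective δ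
      rw [← map_mul, ← map_mul]
      congr 1
      apply Subtype.ext
      exact (mem_centralizer_singleton_iff.1 x.2).symm
    rcases LOCA_aux_center _ hcen with h | h
    · exfalso
      apply ht1
      have := e.injective (h.trans (map_one e).symm)
      exact congrArg Subtype.val this
    · exact h
  -- `|T| = 16`
  have hcardT : Nat.card ↥(T : Subgroup G) = 16 := by
    have E1 : ↥(T : Subgroup G) ≃ {x : ↥(centralizer ({t} : Set G)) // (x : G) ∈ (T : Subgroup G)} :=
      { toFun := fun s => ⟨⟨s.1, hTC s.2⟩, s.2⟩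
        invFun := fun x => ⟨x.1.1, x.2⟩
        left_inv := fun s => rfl
        right_inv := fun x => rfl }
    have E2 : {x : ↥(centralizer ({t} : Set G)) // (x : G) ∈ (T : Subgroup G)} ≃
        {γ : Gam // γ * ((1, Equiv.swap 0 2 * Equiv.swap 1 3) : Gam) =
          ((1, Equiv.swap 0 2 * Equiv.swap 1 3) : Gam) * γ} :=
      Equiv.subtypeEquiv e.toEquiv (fun x => hstd x)
    rw [Nat.card_congr (E1.trans E2), Nat.card_eq_fintype_card]
    exact LOCA_aux_card_sig
  refine ⟨ht, htT, htc, ?_, hcardT, ?_, ?_, ?_, ?_⟩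
  · -- `|C| = 48`
    rw [Nat.card_congr e.toEquiv, Nat.card_eq_fintype_card]
    exact LOCA_aux_card_gam
  · -- solvable
    have h4 : Group.IsSolvable (Equiv.Perm (Fin 4)) := Cfsg.Agent.Helper5.Zas.Z10.solvable_perm_four
    have hG : Group.IsSolvable Gam := inferInstance
    exact Group.isSolvable_of_isSolvable_injective (f := e.toMonoidHom) e.injective
  · -- no odd normal subgroup
    intro N hNC hNn hodd
    by_contra hne
    obtain ⟨⟨x, hxN⟩, hx1⟩ := (ne_bot_iff_exists_ne_one).1 hne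
    have hx1' : x ≠ 1 := fun h => hx1 (Subtype.ext h)
    have hxC : x ∈ centralizer ({t} : Set G) := hNC hxN
    -- the order of `x` is odd and divides 12
    have hordN : orderOf x ∣ Nat.card ↥N := by
      have := orderOf_dvd_natCard (⟨x, hxN⟩ : ↥N)
      rwa [Subgroup.orderOf_mk] at this
    have h12 : x ^ 12 = 1 := by
      have h1 : (e ⟨x, hxC⟩) ^ 12 = 1 := LOCA_aux_exp _
      rw [← map_pow] at h1
      have := e.injective (h1.trans (map_one e).symm)
      exact congrArg Subtype.val this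
    have hx3 : x ^ 3 = 1 := by
      have hoddx : Odd (orderOf x) := hodd.of_dvd_nat hordN
      have hd12 : orderOf x ∣ 12 := orderOf_dvd_of_pow_eq_one h12
      have hd3 : orderOf x ∣ 3 := by
        have hcop : Nat.Coprime (orderOf x) 4 := by
          have : (4 : ℕ) = 2 ^ 2 := by norm_num
          rw [this]
          exact Nat.Coprime.pow_right 2 (Nat.coprime_two_right.2 hoddx)
        have h34 : (12 : ℕ) = 4 * 3 := by norm_num
        rw [h34] at hd12
        exact hcop.dvd_of_dvd_mul_left hd12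
      exact orderOf_dvd_iff_pow_eq_one.1 hd3
    have hγ1 : e ⟨x, hxC⟩ ≠ 1 := by
      intro h
      apply hx1'
      have := e.injective (h.trans (map_one e).symm)
      exact congrArg Subtype.val this
    have hγ3 : (e ⟨x, hxC⟩) ^ 3 = 1 := by
      rw [← map_pow]
      have : (⟨x, hxC⟩ : ↥(centralizer ({t} : Set G))) ^ 3 = 1 := Subtype.ext hx3
      rw [this, map_one]
    obtain ⟨h', hw2, hw1⟩ := LOCA_aux_three _ hγ1 hγ3
    obtain ⟨h, rfl⟩ := e.surjective h'
    -- the element `w = x (h x h⁻¹)` of `N`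
    have hwN : x * ((h : G) * x * (h : G)⁻¹) ∈ N := N.mul_mem hxN (hNn h h.2 x hxN)
    have hew : e (⟨x, hxC⟩ * (h * ⟨x, hxC⟩ * h⁻¹)) = e ⟨x, hxC⟩ * (e h * e ⟨x, hxC⟩ * (e h)⁻¹) := by
      rw [map_mul, map_mul, map_mul, map_inv]
    have hw2' : (x * ((h : G) * x * (h : G)⁻¹)) * (x * ((h : G) * x * (h : G)⁻¹)) = 1 := by
      rw [← hew, ← map_mul] at hw2
      have := e.injective (hw2.trans (map_one e).symm)
      exact congrArg Subtype.val this
    have hw1' : x * ((h : G) * x * (h : G)⁻¹) ≠ 1 := by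
      intro hw
      apply hw1
      rw [← hew]
      have : (⟨x, hxC⟩ * (h * ⟨x, hxC⟩ * h⁻¹) : ↥(centralizer ({t} : Set G))) = 1 :=
        Subtype.ext hw
      rw [this, map_one]
    have hord2 : orderOf (x * ((h : G) * x * (h : G)⁻¹)) = 2 :=
      orderOf_eq_prime (by rw [pow_two]; exact hw2') hw1'
    have h2N : 2 ∣ Nat.card ↥N := by
      have := orderOf_dvd_natCard (⟨_, hwN⟩ : ↥N)
      rwa [Subgroup.orderOf_mk, hord2] at this
    exact (Nat.not_even_iff_odd.2 hodd) (even_iff_two_dvd.2 h2N)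
  · -- centralisers of elements of `T`
    intro u huT
    have huC : u ∈ centralizer ({t} : Set G) := hTC huT
    have hs := (hstd ⟨u, huC⟩).1 huT
    have h8 := LOCA_aux_cent8 _ hs
    -- `C_T(u)` has the same cardinality
    have E1 : ↥((T : Subgroup G) ⊓ centralizer ({u} : Set G)) ≃
        {x : ↥(centralizer ({t} : Set G)) // (x : G) ∈ (T : Subgroup G) ∧
          x * ⟨u, huC⟩ = ⟨u, huC⟩ * x} :=
      { toFun := fun s => ⟨⟨s.1, hTC s.2.1⟩, s.2.1,
          Subtype.ext (mem_centralizer_singleton_iff.1 s.2.2)⟩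
        invFun := fun x => ⟨x.1.1, x.2.1,
          mem_centralizer_singleton_iff.2 (congrArg Subtype.val x.2.2)⟩
        left_inv := fun s => rfl
        right_inv := fun x => rfl }
    have E2 : {x : ↥(centralizer ({t} : Set G)) // (x : G) ∈ (T : Subgroup G) ∧
          x * ⟨u, huC⟩ = ⟨u, huC⟩ * x} ≃
        {γ : Gam // γ * ((1, Equiv.swap 0 2 * Equiv.swap 1 3) : Gam) =
          ((1, Equiv.swap 0 2 * Equiv.swap 1 3) : Gam) * γ ∧
            γ * e ⟨u, huC⟩ = e ⟨u, huC⟩ * γ} := by
      refine Equiv.subtypeEquiv e.toEquiv (fun x => and_congr (hstd x) ?_)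
      constructor
      · intro h
        show e x * e ⟨u, huC⟩ = e ⟨u, huC⟩ * e x
        rw [← map_mul, ← map_mul, h]
      · intro h
        have h' : e x * e ⟨u, huC⟩ = e ⟨u, huC⟩ * e x := h
        rw [← map_mul, ← map_mul] at h'
        exact e.injective h'
    have hcard : Nat.card ↥((T : Subgroup G) ⊓ centralizer ({u} : Set G)) =
        Fintype.card {γ : Gam // γ * ((1, Equiv.swap 0 2 * Equiv.swap 1 3) : Gam) =
          ((1, Equiv.swap 0 2 * Equiv.swap 1 3) : Gam) * γ ∧
            γ * e ⟨u, huC⟩ = e ⟨u, huC⟩ * γ} := by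
      rw [Nat.card_congr (E1.trans E2), Nat.card_eq_fintype_card]
    have hdvd : Nat.card ↥((T : Subgroup G) ⊓ centralizer ({u} : Set G)) ∣
        Nat.card ↥(centralizer ({u} : Set G)) := card_dvd_of_le inf_le_right
    rw [hcard] at hdvd
    exact h8.trans hdvd
  · -- subgroups of index 2 missing `t`
    intro Q hQT hidx htQ
    have hQC : Q ≤ centralizer ({t} : Set G) := hQT.trans hTC
    have hcardQ : Nat.card ↥Q = 8 := by
      have h1 := relIndex_mul_relIndex (⊥ : Subgroup G) Q (T : Subgroup G) bot_le hQT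
      rw [relIndex_bot_left, relIndex_bot_left, hidx, hcardT] at h1
      omega
    -- the projection to `S₄`
    let f : ↥Q →* Equiv.Perm (Fin 4) :=
      (MonoidHom.snd (Multiplicative (ZMod 2)) (Equiv.Perm (Fin 4))).comp
        (e.toMonoidHom.comp (Subgroup.inclusion hQC))
    have hf : ∀ x : ↥Q, f x = (e ⟨x.1, hQC x.2⟩).2 := fun x => rfl
    have hinj : Function.Injective f := by
      rw [injective_iff_map_eq_one]
      intro x hx
      rw [hf] at hx
      have hcases : e ⟨x.1, hQC x.2⟩ = 1 ∨ e ⟨x.1, hQC x.2⟩ = (Multiplicative.ofAdd (1 : ZMod 2), 1) := by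
        rcases LOCA_aux_z2 (e ⟨x.1, hQC x.2⟩).1 with h | h
        · left
          exact Prod.ext h hx
        · right
          exact Prod.ext h hx
      rcases hcases with h | h
      · have := e.injective (h.trans (map_one e).symm)
        have h1 : (x : G) = 1 := congrArg Subtype.val this
        exact Subtype.ext h1
      · exfalso
        apply htQ
        have := e.injective (h.trans het.symm)
        have hxt : (x : G) = t := congrArg Subtype.val this
        rw [← hxt]
        exact x.2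
    have hrange_le : f.range ≤
        centralizer ({Equiv.swap 0 2 * Equiv.swap 1 3} : Set (Equiv.Perm (Fin 4))) := by
      rintro _ ⟨x, rfl⟩
      rw [mem_centralizer_singleton_iff, hf]
      have h1 := (hstd ⟨x.1, hQC x.2⟩).1 (hQT x.2)
      exact congrArg Prod.snd h1
    have hcardD : Nat.card ↥(centralizer ({Equiv.swap 0 2 * Equiv.swap 1 3} :
        Set (Equiv.Perm (Fin 4)))) = 8 := by
      have e' : ↥(centralizer ({Equiv.swap 0 2 * Equiv.swap 1 3} : Set (Equiv.Perm (Fin 4)))) ≃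
          {σ : Equiv.Perm (Fin 4) // σ * (Equiv.swap 0 2 * Equiv.swap 1 3) =
            (Equiv.swap 0 2 * Equiv.swap 1 3) * σ} :=
        Equiv.subtypeEquivRight (fun σ => mem_centralizer_singleton_iff)
      rw [Nat.card_congr e', Nat.card_eq_fintype_card]
      exact LOCA_aux_card_d8
    have hcardR : Nat.card ↥f.range = 8 := by
      rw [← hcardQ]
      exact (Nat.card_congr (MonoidHom.ofInjective hinj).toEquiv).symm
    have hrange : f.range =
        centralizer ({Equiv.swap 0 2 * Equiv.swap 1 3} : Set (Equiv.Perm (Fin 4))) :=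
      eq_of_le_of_card_ge hrange_le (by rw [hcardD, hcardR])
    obtain ⟨eD⟩ := LOCA_aux_d8
    exact ⟨(MonoidHom.ofInjective hinj).trans ((MulEquiv.subgroupCongr hrange).trans eD.symm)⟩

end Cfsg.Agent.S3222P
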