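import Mathlib
import Cfsg.Agent.Helper10.S3805Defs
import Cfsg.Agent.Helper24.Linear
import Cfsg.Prelude.Def_Transfer

/-!
# S3805, piece NSUBQ: normal subgroups of `Q = D3 × D3` containing the first factor
-/

set_option autoImplicit false

namespace Cfsg.Agent.S3805P

open Cfsg Cfsg.Agent.Helper24

universe u

theorem NSUBQ_mem_iff (M : Subgroup Q) (h : F1 ≤ M) (q : Q) :
    q ∈ M ↔ ((1 : D3), q.2) ∈ M := by
  have h1 : (q.1, (1 : D3)) ∈ M := h (by simp [F1, Subgroup.mem_prod])
  constructor
  · intro hq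
    have e : ((1 : D3), q.2) = (q.1, (1 : D3))⁻¹ * q := by
      ext <;> simp
    rw [e]
    exact M.mul_mem (M.inv_mem h1) hq
  · intro hq
    have e : q = (q.1, (1 : D3)) * ((1 : D3), q.2) := by
      ext <;> simp
    rw [e]
    exact M.mul_mem h1 hq

theorem NSUBQ_conj : ∀ i k : ZMod 3, ∃ j : ZMod 3,
    (DihedralGroup.r j : D3) * DihedralGroup.sr i * (DihedralGroup.r j)⁻¹ = DihedralGroup.sr k := by
  decide

theorem NSUBQ_srsr : ∀ k : ZMod 3,
    (DihedralGroup.sr 0 : D3) * DihedralGroup.sr k = DihedralGroup.r k := by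
  decide

theorem NSUBQ_pow : ∀ i : ZMod 3, i ≠ 0 → ∀ k : ZMod 3, ∃ n : Fin 3,
    (DihedralGroup.r i : D3) ^ (n : ℕ) = DihedralGroup.r k := by
  decide

theorem NSUBQ_mem_zpowers (y : D3) :
    y ∈ Subgroup.zpowers (DihedralGroup.r 1 : D3) ↔ ∃ k : ZMod 3, y = DihedralGroup.r k := by
  constructor
  · rintro ⟨n, rfl⟩
    exact ⟨(n : ZMod 3), by simp⟩
  · rintro ⟨k, rfl⟩
    obtain ⟨n, hn⟩ := NSUBQ_pow 1 (by decide) k
    exact ⟨(n : ℕ), by simp only [zpow_natCast]; exact hn⟩

/-- **NSUBQ.** Normal subgroups of `Q` containing the first factor. -/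
theorem normal_ge_F1 (M : Subgroup Q) [M.Normal] (h : F1 ≤ M) : M = F1 ∨ M = F1T ∨ M = ⊤ := by
  have hM : M.Normal := inferInstance
  have hmul : ∀ y z : D3, ((1 : D3), y) ∈ M → ((1 : D3), z) ∈ M → ((1 : D3), y * z) ∈ M := by
    intro y z hy hz
    have := M.mul_mem hy hz
    simpa using this
  have hpow : ∀ (y : D3) (n : ℕ), ((1 : D3), y) ∈ M → ((1 : D3), y ^ n) ∈ M := by
    intro y n hy
    have := M.pow_mem hy n
    simpa using this
  by_cases hA : ∃ i : ZMod 3, ((1 : D3), (DihedralGroup.sr i : D3)) ∈ M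
  · right; right
    obtain ⟨i, hi⟩ := hA
    have hsr : ∀ k : ZMod 3, ((1 : D3), (DihedralGroup.sr k : D3)) ∈ M := by
      intro k
      obtain ⟨j, hj⟩ := NSUBQ_conj i k
      have := hM.conj_mem _ hi ((1 : D3), (DihedralGroup.r j : D3))
      rw [← hj]
      simpa using this
    have hr : ∀ k : ZMod 3, ((1 : D3), (DihedralGroup.r k : D3)) ∈ M := by
      intro k
      rw [← NSUBQ_srsr k]
      exact hmul _ _ (hsr 0) (hsr k)
    rw [Subgroup.eq_top_iff']
    intro q
    rw [NSUBQ_mem_iff M h]
    rcases q with ⟨x, y⟩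
    rcases y with k | k
    · exact hr k
    · exact hsr k
  · push Not at hA
    by_cases hB : ∃ i : ZMod 3, i ≠ 0 ∧ ((1 : D3), (DihedralGroup.r i : D3)) ∈ M
    · right; left
      obtain ⟨i, hi0, hi⟩ := hB
      have hr : ∀ k : ZMod 3, ((1 : D3), (DihedralGroup.r k : D3)) ∈ M := by
        intro k
        obtain ⟨n, hn⟩ := NSUBQ_pow i hi0 k
        rw [← hn]
        exact hpow _ _ hi
      ext q
      rw [NSUBQ_mem_iff M h, F1T, Subgroup.mem_prod, NSUBQ_mem_zpowers]
      rcases q with ⟨x, y⟩
      rcases y with k | k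
      · simp only [Subgroup.mem_top, true_and]
        exact ⟨fun _ => ⟨k, rfl⟩, fun _ => hr k⟩
      · simp only [Subgroup.mem_top, true_and]
        constructor
        · intro hk
          exact absurd hk (hA k)
        · rintro ⟨j, hj⟩
          exact absurd hj (by simp)
    · push Not at hB
      left
      ext q
      rw [NSUBQ_mem_iff M h, F1, Subgroup.mem_prod, Subgroup.mem_bot]
      rcases q with ⟨x, y⟩
      rcases y with k | k
      · simp only [Subgroup.mem_top, true_and]
        constructor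
        · intro hk
          by_cases hk0 : k = 0
          · rw [hk0]; rfl
          · exact absurd hk (hB k hk0)
        · intro hk
          rw [hk]
          exact M.one_mem
      · simp only [Subgroup.mem_top, true_and]
        constructor
        · intro hk
          exact absurd hk (hA k)
        · intro hk
          rw [DihedralGroup.one_def] at hk
          cases hk

end Cfsg.Agent.S3805P
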