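import Mathlib
import Cfsg.Agent.Helper10.S3805Defs
import Cfsg.Agent.Helper24.Linear
import Cfsg.Prelude.Def_Transfer
import Cfsg.Agent.S0058
import Cfsg.Agent.Helper7.S3805NSUBQ

/-!
# S3805, piece ENDGAME: two normal subgroups meeting `ι(Q)` in the two factors force `ι(Q) = G`
-/

set_option autoImplicit false

namespace Cfsg.Agent.S3805P

open Cfsg Cfsg.Agent.Helper24
open scoped Pointwise

universe u

theorem ENDGAME_mem_T0 (t : Q) :
    t ∈ T0 ↔ ∃ i j : ZMod 3, t = ((DihedralGroup.r i : D3), (DihedralGroup.r j : D3)) := by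
  rw [T0, Subgroup.mem_prod, NSUBQ_mem_zpowers, NSUBQ_mem_zpowers]
  constructor
  · rintro ⟨⟨i, hi⟩, ⟨j, hj⟩⟩
    exact ⟨i, j, Prod.ext hi hj⟩
  · rintro ⟨i, j, rfl⟩
    exact ⟨⟨i, rfl⟩, ⟨j, rfl⟩⟩

theorem ENDGAME_T0_comm : ∀ i j i' j' : ZMod 3,
    (((DihedralGroup.r i : D3), (DihedralGroup.r j : D3)) : Q) *
      ((DihedralGroup.r i' : D3), (DihedralGroup.r j' : D3)) =
    ((DihedralGroup.r i' : D3), (DihedralGroup.r j' : D3)) *
      ((DihedralGroup.r i : D3), (DihedralGroup.r j : D3)) := by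
  decide

theorem ENDGAME_T0_pow : ∀ i j : ZMod 3,
    (((DihedralGroup.r i : D3), (DihedralGroup.r j : D3)) : Q) ^ 3 = 1 := by
  decide

theorem ENDGAME_T0_sq : ∀ i j : ZMod 3,
    (((DihedralGroup.r i : D3), (DihedralGroup.r j : D3)) : Q) ≠ 1 →
    (((DihedralGroup.r i : D3), (DihedralGroup.r j : D3)) : Q) *
      ((DihedralGroup.r i : D3), (DihedralGroup.r j : D3)) ≠ 1 := by
  decide

theorem ENDGAME_card_T0 : Nat.card T0 = 9 := by
  rw [T0, Nat.card_congr (Subgroup.prodEquiv _ _).toEquiv, Nat.card_prod, Nat.card_zpowers,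
    DihedralGroup.orderOf_r_one]

variable {G : Type*} [Group G]

/-- a normal subgroup inside `ι(Q)` containing a `3`-singular element forces `ι(Q) = G` -/
theorem ENDGAME_top_of_normal (c : Cfg G) (N : Subgroup G) [hN : N.Normal]
    (hle : N ≤ c.ι.range) (q : Q) (hq : q * q ≠ 1) (hqN : c.ι q ∈ N) : c.ι.range = ⊤ := by
  rw [Subgroup.eq_top_iff']
  intro g
  have h1 : g * c.ι q * g⁻¹ ∈ N := hN.conj_mem _ hqN g
  obtain ⟨q', hq'⟩ := hle h1
  exact c.ti g q q' hq hq'.symm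

/-- the centralizer of a `3`-singular element of `ι(Q)` lies in `ι(Q)` -/
theorem ENDGAME_mem_of_commute (c : Cfg G) (q : Q) (hq : q * q ≠ 1) (x : G)
    (hx : x * c.ι q = c.ι q * x) : x ∈ c.ι.range := by
  apply c.ti x q q hq
  rw [hx, mul_assoc, mul_inv_cancel, mul_one]

theorem ENDGAME_card_P (c : Cfg G) : Nat.card ↥(c.P : Subgroup G) = 9 := by
  rw [c.hP, ← Nat.card_congr (T0.equivMapOfInjective c.ι c.inj).toEquiv, ENDGAME_card_T0]

theorem ENDGAME_P_le (c : Cfg G) : (c.P : Subgroup G) ≤ c.ι.range := by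
  rw [c.hP]
  rintro _ ⟨t, -, rfl⟩
  exact ⟨t, rfl⟩

/-- **ENDGAME.** -/
theorem range_eq_top_of_normal_pair {G : Type*} [Group G] [Finite G] (c : Cfg G)
    (K1 K2 : Subgroup G) [K1.Normal] [K2.Normal] (h1 : K1 ⊓ c.ι.range = F1.map c.ι)
    (h2 : K2 ⊓ c.ι.range = F2.map c.ι) : c.ι.range = ⊤ := by
  classical
  have hK1 : K1.Normal := inferInstance
  have hK2 : K2.Normal := inferInstance
  have hLn : (K1 ⊓ K2).Normal := inferInstance
  -- `L ⊓ ι(Q) = ⊥`
  have hLr : ∀ x : G, x ∈ K1 → x ∈ K2 → x ∈ c.ι.range → x = 1 := by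
    intro x hx1 hx2 hxr
    have hx1' : x ∈ F1.map c.ι := by rw [← h1]; exact ⟨hx1, hxr⟩
    have hx2' : x ∈ F2.map c.ι := by rw [← h2]; exact ⟨hx2, hxr⟩
    obtain ⟨q1, hq1, rfl⟩ := hx1'
    obtain ⟨q2, hq2, he⟩ := hx2'
    have hqq : q2 = q1 := c.inj he
    subst hqq
    have hq1' : q2 ∈ F1 := hq1
    have hq2' : q2 ∈ F2 := hq2
    rw [F1, Subgroup.mem_prod, Subgroup.mem_bot] at hq1'
    rw [F2, Subgroup.mem_prod, Subgroup.mem_bot] at hq2'
    have hone : q2 = 1 := Prod.ext hq2'.1 hq1'.2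
    rw [hone, map_one]
  -- `3 ∤ |L|`
  have h3 : ¬ 3 ∣ Nat.card ↥(K1 ⊓ K2) := by
    intro hdvd
    have : Fact (Nat.Prime 3) := ⟨Nat.prime_three⟩
    obtain ⟨x, hx⟩ := exists_prime_orderOf_dvd_card' 3 hdvd
    have hpg : IsPGroup 3 (Subgroup.zpowers (x : G)) := by
      rw [IsPGroup.iff_card, Nat.card_zpowers, Subgroup.orderOf_coe, hx]
      exact ⟨1, by norm_num⟩
    obtain ⟨S, hS⟩ := hpg.exists_le_sylow
    obtain ⟨g, hg⟩ := MulAction.exists_smul_eq G S c.P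
    have hmem : g * (x : G) * g⁻¹ ∈ (c.P : Subgroup G) := by
      rw [← hg, Sylow.smul_def, Sylow.pointwise_smul_def]
      have : MulAut.conj g • (x : G) ∈ MulAut.conj g • (S : Subgroup G) :=
        Subgroup.smul_mem_pointwise_smul _ _ _ (hS (Subgroup.mem_zpowers _))
      exact this
    have hxL : (x : G) ∈ K1 ⊓ K2 := x.2
    have hcL : g * (x : G) * g⁻¹ ∈ K1 ⊓ K2 := hLn.conj_mem _ hxL g
    have := hLr _ hcL.1 hcL.2 (ENDGAME_P_le c hmem)
    have hx1 : (x : G) = 1 := by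
      have h' : (x : G) = g⁻¹ * (g * (x : G) * g⁻¹) * g := by group
      rw [h', this]; group
    have : orderOf (x : G) = 3 := by rw [Subgroup.orderOf_coe, hx]
    rw [hx1, orderOf_one] at this
    omega
  -- `L = ⊥` by generation by centralizers
  have hL : K1 ⊓ K2 = ⊥ := by
    have : IsMulCommutative ↥(c.P : Subgroup G) := by
      refine ⟨⟨?_⟩⟩
      rintro ⟨x, hx⟩ ⟨y, hy⟩
      apply Subtype.ext
      rw [c.hP] at hx hy
      obtain ⟨t, ht, rfl⟩ := hx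
      obtain ⟨t', ht', rfl⟩ := hy
      obtain ⟨i, j, rfl⟩ := (ENDGAME_mem_T0 t).1 ht
      obtain ⟨i', j', rfl⟩ := (ENDGAME_mem_T0 t').1 ht'
      show c.ι _ * c.ι _ = c.ι _ * c.ι _
      rw [← map_mul, ← map_mul, ENDGAME_T0_comm]
    have hnc : ¬ IsCyclic ↥(c.P : Subgroup G) := by
      intro hcyc
      have hexp := IsCyclic.exponent_eq_card (α := ↥(c.P : Subgroup G))
      have hdvd : Monoid.exponent ↥(c.P : Subgroup G) ∣ 3 := by
        apply Monoid.exponent_dvd_of_forall_pow_eq_one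
        rintro ⟨x, hx⟩
        apply Subtype.ext
        rw [c.hP] at hx
        obtain ⟨t, ht, rfl⟩ := hx
        obtain ⟨i, j, rfl⟩ := (ENDGAME_mem_T0 t).1 ht
        show c.ι _ ^ 3 = 1
        rw [← map_pow, ENDGAME_T0_pow, map_one]
      rw [hexp, ENDGAME_card_P] at hdvd
      omega
    have hnorm : (c.P : Subgroup G) ≤ Subgroup.normalizer ((K1 ⊓ K2 : Subgroup G) : Set G) := by
      rw [Subgroup.normalizer_eq_top]
      exact le_top
    have hcop : (Nat.card ↥(c.P : Subgroup G)).Coprime (Nat.card ↥(K1 ⊓ K2)) := by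
      rw [ENDGAME_card_P]
      have : (3 : ℕ).Coprime (Nat.card ↥(K1 ⊓ K2)) :=
        (Nat.Prime.coprime_iff_not_dvd Nat.prime_three).2 h3
      have h9 : (9 : ℕ) = 3 ^ 2 := by norm_num
      rw [h9]
      exact Nat.Coprime.pow_left 2 this
    have hgen := Cfsg.Agent.S0058.result (c.P : Subgroup G) (K1 ⊓ K2) hnc hnorm hcop
    rw [← hgen, eq_bot_iff]
    apply iSup₂_le
    rintro a ⟨haP, ha1⟩
    intro x hx
    rw [Subgroup.mem_inf] at hx
    obtain ⟨hxL, hxC⟩ := hx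
    rw [Subgroup.mem_inf] at hxL
    rw [Subgroup.mem_bot]
    rw [c.hP] at haP
    obtain ⟨t, ht, rfl⟩ := haP
    obtain ⟨i, j, rfl⟩ := (ENDGAME_mem_T0 t).1 ht
    have ht1 : (((DihedralGroup.r i : D3), (DihedralGroup.r j : D3)) : Q) ≠ 1 := by
      intro h
      apply ha1
      rw [h, map_one]
    have hxc : x * c.ι ((DihedralGroup.r i : D3), (DihedralGroup.r j : D3)) =
        c.ι ((DihedralGroup.r i : D3), (DihedralGroup.r j : D3)) * x := by
      rw [Subgroup.mem_centralizer_iff] at hxC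
      exact (hxC _ rfl).symm
    exact hLr x hxL.1 hxL.2 (ENDGAME_mem_of_commute c _ (ENDGAME_T0_sq i j ht1) x hxc)
  -- `K1` and `K2` commute
  have hcomm : ∀ x ∈ K1, ∀ y ∈ K2, Commute x y :=
    fun x hx y hy => Subgroup.commute_of_normal_of_disjoint K1 K2 hK1 hK2 (disjoint_iff.2 hL) x y hx hy
  have haK1 : c.ι ((DihedralGroup.r 1 : D3), (1 : D3)) ∈ K1 := by
    have : c.ι ((DihedralGroup.r 1 : D3), (1 : D3)) ∈ K1 ⊓ c.ι.range := by
      rw [h1]
      refine ⟨_, ?_, rfl⟩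
      simp [F1, Subgroup.mem_prod]
    exact this.1
  have hK2le : K2 ≤ c.ι.range := by
    intro k hk
    apply ENDGAME_mem_of_commute c ((DihedralGroup.r 1 : D3), (1 : D3)) (by decide) k
    exact ((hcomm _ haK1 k hk).eq).symm
  have hbK2 : c.ι ((1 : D3), (DihedralGroup.r 1 : D3)) ∈ K2 := by
    have : c.ι ((1 : D3), (DihedralGroup.r 1 : D3)) ∈ K2 ⊓ c.ι.range := by
      rw [h2]
      refine ⟨_, ?_, rfl⟩
      simp [F2, Subgroup.mem_prod]
    exact this.1
  exact ENDGAME_top_of_normal c K2 hK2le ((1 : D3), (DihedralGroup.r 1 : D3)) (by decide) hbK2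

end Cfsg.Agent.S3805P
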