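import Mathlib
import Cfsg.Agent.Helper10.S3805Defs
import Cfsg.Agent.Helper24.Linear
import Cfsg.Prelude.Def_Transfer
import Cfsg.Agent.Helper7.S3805NSUBQ
import Cfsg.Agent.Helper7.S3805ENDGAME
import Cfsg.Agent.Helper14.S3805TRANSFER

/-!
# S3805, piece NORMALSUB: a proper normal subgroup containing `u`
-/

set_option autoImplicit false

namespace Cfsg.Agent.S3805P

open Cfsg Cfsg.Agent.Helper24

universe u

theorem NORMALSUB_gen : ∀ x : D3, ∃ g₁ g₂ : D3,
    x = (g₁ * DihedralGroup.sr 0 * g₁⁻¹) * (g₂ * DihedralGroup.sr 0 * g₂⁻¹) ∨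
      x = g₁ * DihedralGroup.sr 0 * g₁⁻¹ := by
  decide

/-- **NORMALSUB.** A proper normal subgroup containing `u` yields a normal subgroup meeting
`ι(Q)` in `ι(D3 × 1)` (or `ι(Q) = G`). -/
theorem exists_normal_meet_F1 {G : Type*} [Group G] [Finite G] (c : Cfg G)
    (hmax : ∀ H : Subgroup G, c.ι.range ≤ H → H = ⊤ ∨ H = c.ι.range)
    (K : Subgroup G) [K.Normal] (hK : K ≠ ⊤) (hu : c.u ∈ K) :
    c.ι.range = ⊤ ∨ ∃ K1 : Subgroup G, K1.Normal ∧ K1 ⊓ c.ι.range = F1.map c.ι := by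
  have hKn : K.Normal := inferInstance
  obtain ⟨M, hMdef⟩ : ∃ M : Subgroup Q, M = K.comap c.ι := ⟨_, rfl⟩
  have hMn : M.Normal := by rw [hMdef]; exact hKn.comap c.ι
  have hmeet : K ⊓ c.ι.range = M.map c.ι := by
    rw [hMdef, Subgroup.map_comap_eq, inf_comm]
  have hconj : ∀ g : D3, ((g * DihedralGroup.sr 0 * g⁻¹ : D3), (1 : D3)) ∈ M := by
    intro g
    have h0 : ((DihedralGroup.sr 0 : D3), (1 : D3)) ∈ M := by
      rw [hMdef]
      exact hu
    have := hMn.conj_mem _ h0 ((g, 1) : Q)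
    simpa using this
  have hF1 : F1 ≤ M := by
    intro q hq
    rw [F1, Subgroup.mem_prod, Subgroup.mem_bot] at hq
    have hq' : q = (q.1, (1 : D3)) := Prod.ext rfl hq.2
    rw [hq']
    obtain ⟨g₁, g₂, h | h⟩ := NORMALSUB_gen q.1
    · have := M.mul_mem (hconj g₁) (hconj g₂)
      rw [h]
      simpa using this
    · rw [h]
      exact hconj g₁
  rcases normal_ge_F1 M hF1 with h | h | h
  · right
    exact ⟨K, hKn, by rw [hmeet, h]⟩
  · right
    exact exists_normal_of_F1T c K (by rw [hmeet, h])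
  · left
    have hle : c.ι.range ≤ K := by
      rintro _ ⟨q, rfl⟩
      have : q ∈ M := by rw [h]; trivial
      rw [hMdef] at this
      exact this
    rcases hmax K hle with h' | h'
    · exact absurd h' hK
    · exact ENDGAME_top_of_normal c K h'.le ((DihedralGroup.r 1 : D3), (1 : D3)) (by decide)
        (hle ⟨_, rfl⟩)

end Cfsg.Agent.S3805P
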