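import Mathlib
import Cfsg.Statements.S4079
import Cfsg.Agent.Helper25.S4079TRV

/-! Hedge for row CEN of the board `s4079pieces` (S4079): with the data of P3, every fixed point of `a`
has `p`-th power `1`. -/

set_option autoImplicit false
open Cfsg

namespace Cfsg.Agent.S4079P

variable {L : Type*} [Group L] [Finite L] {p : ℕ} [Fact p.Prime]

/-- Core: the case `c ∈ M`. -/
theorem CEN_h7_core (E M : Subgroup L) (hE : ∀ x, x ∈ E ↔ x ^ p = 1) (hEc : Nat.card E = p ^ 2)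
    (hEcomm : ∀ x ∈ E, ∀ y ∈ E, x * y = y * x)
    (hM : ∀ g, g ∈ M ↔ g ^ (p ^ 2) = 1)
    (hpow : ∀ g ∈ M, ∀ h ∈ M, (g * h) ^ p = g ^ p * h ^ p) (hcen : ∀ g ∈ M, ∀ e ∈ E, g * e = e * g)
    (a : MulAut L) (ha : orderOf a = p) (u₁ u₂ : L) (hu₁ : u₁ ∈ M) (hu₁p : u₁ ^ p ≠ 1)
    (hau₁p : a (u₁ ^ p) = u₁ ^ p) (hu₂ : u₂ ∈ E) (h1 : a u₁ = u₁ * u₂) (h2 : a u₂ ≠ u₂)
    (c : L) (hcM : c ∈ M) (hac : a c = c) : c ^ p = 1 := by
  have hpp : p.Prime := Fact.out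
  by_contra hcp
  have hap : a ^ p = 1 := by rw [← ha]; exact pow_orderOf_eq_one a
  obtain ⟨htr1, htr2⟩ := TRV E hE hEc hEcomm a hap u₂ hu₂ h2
  have hdE : u₁ ^ p ∈ E := by
    rw [hE, ← pow_mul, ← pow_two]; exact (hM u₁).mp hu₁
  have hcE : c ^ p ∈ E := by
    rw [hE, ← pow_mul, ← pow_two]; exact (hM c).mp hcM
  have hacp : a (c ^ p) = c ^ p := by rw [map_pow, hac]
  obtain ⟨k, hk⟩ := Subgroup.mem_zpowers_iff.mp (htr2 (u₁ ^ p) hdE hu₁p hau₁p (c ^ p) hcE hacp)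
  -- p does not divide k
  have hdp : (u₁ ^ p) ^ p = 1 := (hE _).mp hdE
  have hpk : ¬ (p : ℤ) ∣ k := by
    rintro ⟨t, rfl⟩
    apply hcp
    rw [← hk, zpow_mul, zpow_natCast, hdp, one_zpow]
  -- w = u₁^k
  have hwM : u₁ ^ k ∈ M := M.zpow_mem hu₁ k
  have hwp : (u₁ ^ k) ^ p = c ^ p := by
    rw [← hk, ← zpow_natCast, ← zpow_natCast, ← zpow_mul, ← zpow_mul, mul_comm]
  have hfM : c * (u₁ ^ k)⁻¹ ∈ M := M.mul_mem hcM (M.inv_mem hwM)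
  have hfE : c * (u₁ ^ k)⁻¹ ∈ E := by
    rw [hE, hpow c hcM _ (M.inv_mem hwM), inv_pow, hwp, mul_inv_cancel]
  set f := c * (u₁ ^ k)⁻¹ with hf
  have hcf : c = f * u₁ ^ k := by rw [hf]; group
  have hcomm12 : Commute u₁ u₂ := hcen u₁ hu₁ u₂ hu₂
  have haw : a (u₁ ^ k) = u₁ ^ k * u₂ ^ k := by
    rw [map_zpow, h1, hcomm12.mul_zpow]
  have hu₂kE : u₂ ^ k ∈ E := E.zpow_mem hu₂ k
  have h3 : a f * u₂ ^ k = f := by
    have h4 : a f * (u₁ ^ k * u₂ ^ k) = f * u₁ ^ k := by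
      rw [← haw, ← map_mul, ← hcf, hac]
    have h5 : u₁ ^ k * u₂ ^ k = u₂ ^ k * u₁ ^ k := hcen _ hwM _ hu₂kE
    rw [h5, ← mul_assoc] at h4
    exact mul_right_cancel h4
  have h6 : u₂ ^ k = (f⁻¹ * a f)⁻¹ := by
    rw [mul_inv_rev, inv_inv]
    calc u₂ ^ k = (a f)⁻¹ * (a f * u₂ ^ k) := by group
      _ = (a f)⁻¹ * f := by rw [h3]
  have h7 : a (u₂ ^ k) = u₂ ^ k := by
    rw [h6, map_inv, htr1 f hfE]
  have h8 : (a u₂) ^ k = u₂ ^ k := by rw [← map_zpow]; exact h7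
  -- Bezout
  have hcop : IsCoprime k (p : ℤ) := by
    have hprime : Prime (p : ℤ) := Nat.prime_iff_prime_int.mp hpp
    exact (IsCoprime.symm ((Prime.coprime_iff_not_dvd hprime).mpr hpk))
  obtain ⟨s, t, hst⟩ := hcop
  have hu₂p : u₂ ^ p = 1 := (hE u₂).mp hu₂
  have hau₂p : (a u₂) ^ p = 1 := by rw [← map_pow, hu₂p, map_one]
  have hx : ∀ y : L, y ^ p = 1 → y = (y ^ k) ^ s := by
    intro y hy
    have e1 : y ^ (s * k) = (y ^ k) ^ s := by rw [mul_comm, zpow_mul]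
    have e2 : y ^ (t * (p : ℤ)) = 1 := by rw [mul_comm, zpow_mul, zpow_natCast, hy, one_zpow]
    calc y = y ^ (s * k + t * (p : ℤ)) := by rw [hst, zpow_one]
      _ = (y ^ k) ^ s := by rw [zpow_add, e1, e2, mul_one]
  apply h2
  rw [hx (a u₂) hau₂p, h8, ← hx u₂ hu₂p]

/-- Hedge of row CEN. -/
theorem CEN_h7 (hL : IsPGroup p L) (E M : Subgroup L) (hE : ∀ x, x ∈ E ↔ x ^ p = 1) (hEc : Nat.card E = p ^ 2)
    (hEcomm : ∀ x ∈ E, ∀ y ∈ E, x * y = y * x)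
    (hM : ∀ g, g ∈ M ↔ g ^ (p ^ 2) = 1)
    (hpow : ∀ g ∈ M, ∀ h ∈ M, (g * h) ^ p = g ^ p * h ^ p) (hcen : ∀ g ∈ M, ∀ e ∈ E, g * e = e * g)
    (a : MulAut L) (ha : orderOf a = p) (u₁ u₂ : L) (hu₁ : u₁ ∈ M) (hu₁p : u₁ ^ p ≠ 1)
    (hau₁p : a (u₁ ^ p) = u₁ ^ p) (hu₂ : u₂ ∈ E) (h1 : a u₁ = u₁ * u₂) (h2 : a u₂ ≠ u₂) :
    ∀ c : L, a c = c → c ^ p = 1 := by
  have hpp : p.Prime := Fact.out
  intro c hac
  by_contra hcp
  obtain ⟨j, hj⟩ := (IsPGroup.iff_orderOf.mp hL) c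
  have hj2 : 2 ≤ j := by
    by_contra hlt
    apply hcp
    have hjle : j ≤ 1 := by omega
    have : orderOf c ∣ p := by
      rw [hj]
      calc p ^ j ∣ p ^ 1 := pow_dvd_pow p hjle
        _ = p := pow_one p
    exact orderOf_dvd_iff_pow_eq_one.mp this
  set c' := c ^ (p ^ (j - 2)) with hc'
  have hc'M : c' ∈ M := by
    rw [hM, hc', ← pow_mul, ← pow_add, show j - 2 + 2 = j by omega, ← hj]
    exact pow_orderOf_eq_one c
  have hac' : a c' = c' := by rw [hc', map_pow, hac]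
  have hc'p : c' ^ p ≠ 1 := by
    rw [hc', ← pow_mul, ← pow_succ]
    intro h
    have hdvd : orderOf c ∣ p ^ (j - 2 + 1) := orderOf_dvd_of_pow_eq_one h
    rw [hj] at hdvd
    have := (Nat.pow_dvd_pow_iff_le_right hpp.one_lt).mp hdvd
    omega
  exact hc'p (CEN_h7_core E M hE hEc hEcomm hM hpow hcen a ha u₁ u₂ hu₁ hu₁p hau₁p hu₂ h1 h2 c' hc'M hac')

end Cfsg.Agent.S4079P
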