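import Mathlib
import Cfsg.Agent.Helper2.S4130Defs
import Cfsg.Agent.Helper2.S4130SS
import Cfsg.Agent.Helper19.Subnormal

/-!
# S4130 board, rows PMIN and PQG
-/

set_option autoImplicit false
set_option linter.style.haveILetI false

namespace Cfsg.Agent.S4130P

open Subgroup

/-- (PMIN) in an (SQ)-group every nontrivial normal subgroup contains a normal subgroup of
prime order. -/
theorem PMIN {G : Type*} [Group G] [Finite G] (h : SqfCls G) [Group.IsSolvable G]
    (M : Subgroup G) [M.Normal] (hM : M ≠ ⊥) :
    ∃ N : Subgroup G, N ≤ M ∧ N.Normal ∧ (Nat.card N).Prime := by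
  obtain ⟨N, ⟨hNn, hN0, hNmin⟩, hNM⟩ := Cfsg.Agent.Helper19.exists_isMinNormal_le
    (inferInstance : M.Normal) hM
  exact ⟨N, hNM, hNn, @MINN G _ _ h N hNn hN0 hNmin⟩

/-- (PQG) solvable (SQ)-group in which all normal subgroups of prime order have order `q`:
every nilpotent normal subgroup is a `q`-group. -/
theorem PQG {G : Type*} [Group G] [Finite G] (h : SqfCls G) [Group.IsSolvable G] (q : ℕ)
    [Fact q.Prime]
    (hq : ∀ N : Subgroup G, N.Normal → (Nat.card N).Prime → Nat.card N = q)
    (K : Subgroup G) [K.Normal] (hK : Group.IsNilpotent K) : IsPGroup q K := by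
  have hqp : q.Prime := Fact.out
  -- every prime divisor of `|K|` is `q`
  have key : ∀ t : ℕ, t.Prime → t ∣ Nat.card K → t = q := by
    intro t ht htK
    haveI : Fact t.Prime := ⟨ht⟩
    obtain ⟨T⟩ : Nonempty (Sylow t K) := inferInstance
    have hTn : (T : Subgroup K).Normal := by
      haveI := hK
      infer_instance
    haveI := hTn
    haveI hTc : (T : Subgroup K).Characteristic := Sylow.characteristic_of_normal T hTn
    -- the image of `T` in `G` is normal
    have hTG : ((T : Subgroup K).map K.subtype).Normal := by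
      refine ⟨fun x hx g => ?_⟩
      obtain ⟨y, hy, rfl⟩ := hx
      have hc := (Subgroup.characteristic_iff_map_eq.mp hTc) (MulAut.conjNormal g : MulAut K)
      have : (MulAut.conjNormal g : MulAut K) y ∈ (T : Subgroup K) := by
        rw [← hc]; exact ⟨y, hy, rfl⟩
      refine ⟨_, this, ?_⟩
      simp [MulAut.conjNormal_apply]
    haveI := hTG
    have hT0 : (T : Subgroup K).map K.subtype ≠ ⊥ := by
      intro h0
      have h1 : (T : Subgroup K) = ⊥ := by
        rw [eq_bot_iff]
        intro y hy
        have : (y : G) ∈ (T : Subgroup K).map K.subtype := ⟨y, hy, rfl⟩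
        rw [h0, Subgroup.mem_bot] at this
        rw [Subgroup.mem_bot]; exact Subtype.ext this
      have h2 : t ∣ Nat.card (T : Subgroup K) := T.dvd_card_of_dvd_card htK
      rw [h1, Subgroup.card_bot] at h2
      exact ht.one_lt.ne' (Nat.dvd_one.mp h2)
    obtain ⟨N, hNT, hNn, hNp⟩ := PMIN h _ hT0
    have hNq := hq N hNn hNp
    -- `N` is a `t`-group
    have hTt : IsPGroup t ((T : Subgroup K).map K.subtype) := T.isPGroup'.map _
    have hNt : IsPGroup t N := hTt.to_le hNT
    obtain ⟨k, hk⟩ := IsPGroup.iff_card.mp hNt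
    rw [hNq] at hk
    have : q ∣ t ^ k := by rw [← hk]
    exact ((Nat.prime_dvd_prime_iff_eq hqp ht).mp (hqp.dvd_of_dvd_pow this)).symm
  apply IsPGroup.of_card (n := (Nat.card K).factorization q)
  have hne : Nat.card K ≠ 0 := Nat.card_pos.ne'
  apply Nat.eq_of_factorization_eq hne (pow_ne_zero _ hqp.ne_zero)
  intro t
  rw [hqp.factorization_pow, Finsupp.single_apply]
  split_ifs with htq
  · rw [htq]
  · by_cases ht : t.Prime
    · rw [Nat.factorization_eq_zero_iff]
      right; left
      intro hdvd
      exact htq (key t ht hdvd).symm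
    · exact Nat.factorization_eq_zero_of_not_prime _ ht

end Cfsg.Agent.S4130P
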