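import Mathlib
import Cfsg.Agent.Helper2.S4130Defs
import Cfsg.Agent.Helper2.S4130SOLV
import Cfsg.Agent.Helper2.S4130SS
import Cfsg.Agent.Helper23.S4130INHQ
import Cfsg.Agent.Helper7.S4130PMIN
import Cfsg.Agent.Helper18.S4130PABC
import Cfsg.Agent.Helper21.S4130PABL
import Cfsg.Agent.Helper3.S4130PNONAB
import Cfsg.Agent.S0526

/-!
# S4130 board, rows PAB, PGDS, PGD: the derived subgroup of an (SQ)-group is cyclic of
square-free order
-/

set_option autoImplicit false
set_option linter.style.haveILetI false

namespace Cfsg.Agent.S4130P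

universe u

open Subgroup

/-- (PAB) (SQ)-group, normal abelian Sylow `q`-subgroup `P` containing `G'`: `|G'| ∣ q`. -/
theorem PAB {G : Type*} [Group G] [Finite G] (h : SqfCls G) (q : ℕ) [Fact q.Prime]
    (P : Sylow q G) [(P : Subgroup G).Normal] (hab : IsMulCommutative (P : Subgroup G))
    (hG' : commutator G ≤ P) : Nat.card (commutator G) ∣ q :=
  (Subgroup.card_dvd_of_le (PABC q P hG')).trans (PABL h q P hab hG')

/-- `|K|` divides `|K N / N| * |N|`. -/
theorem PGDS_aux_card_dvd {G : Type*} [Group G] [Finite G] (N K : Subgroup G) [N.Normal] :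
    Nat.card K ∣ Nat.card (K.map (QuotientGroup.mk' N)) * Nat.card N := by
  have h1 : N.relIndex K = Nat.card (K.map (QuotientGroup.mk' N)) := by
    have := Subgroup.relIndex_ker (QuotientGroup.mk' N) (K := K)
    rwa [QuotientGroup.ker_mk'] at this
  have h2 : Nat.card (N.subgroupOf K) * (N.subgroupOf K).index = Nat.card K :=
    Subgroup.card_mul_index _
  have h3 : Nat.card (N.subgroupOf K) ∣ Nat.card N := by
    rw [← inf_subgroupOf_right, Nat.card_congr (subgroupOfEquivOfLe (inf_le_right : N ⊓ K ≤ K)).toEquiv]
    exact Subgroup.card_dvd_of_le inf_le_left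
  rw [← h2, ← h1, mul_comm]
  exact Nat.mul_dvd_mul (dvd_refl _) h3

theorem PGDS_aux : ∀ (n : ℕ) (G : Type u) [Group G] [Finite G], Nat.card G = n → SqfCls G →
    Squarefree (Nat.card (commutator G)) := by
  intro n
  induction n using Nat.strong_induction_on with
  | _ n ih =>
    intro G _ _ hn h
    haveI : Group.IsSolvable G := SOLV h
    rw [Nat.squarefree_iff_prime_squarefree]
    intro q hq hdvd
    haveI : Fact q.Prime := ⟨hq⟩
    by_cases hA : ∃ N : Subgroup G, N.Normal ∧ (Nat.card N).Prime ∧ Nat.card N ≠ q
    · obtain ⟨N, hNn, hNp, hNq⟩ := hA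
      haveI := hNn
      have hlt : Nat.card (G ⧸ N) < n := by
        rw [← hn, ← Subgroup.index_eq_card, ← Subgroup.card_mul_index N]
        have h2 : 2 ≤ Nat.card N := hNp.two_le
        have hpos : 0 < N.index := Nat.pos_of_ne_zero Subgroup.index_ne_zero_of_finite
        nlinarith
      have hIH := ih _ hlt (G ⧸ N) rfl (Chk.INHQ h N)
      have hmap : (commutator G).map (QuotientGroup.mk' N) = commutator (G ⧸ N) := by
        rw [commutator_def, commutator_def, Subgroup.map_commutator,
          Subgroup.map_top_of_surjective _ (QuotientGroup.mk'_surjective N)]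
      have hcard := PGDS_aux_card_dvd N (commutator G)
      rw [hmap] at hcard
      have h1 : q * q ∣ Nat.card (commutator (G ⧸ N)) * Nat.card N := hdvd.trans hcard
      have hcop : (q * q).Coprime (Nat.card N) := by
        apply Nat.Coprime.mul_left <;>
        exact (Nat.coprime_primes hq hNp).mpr (Ne.symm hNq)
      have h2 : q * q ∣ Nat.card (commutator (G ⧸ N)) := hcop.dvd_of_dvd_mul_right h1
      rw [Nat.squarefree_iff_prime_squarefree] at hIH
      exact hIH q hq h2
    · have hq' : ∀ N : Subgroup G, N.Normal → (Nat.card N).Prime → Nat.card N = q := by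
        intro N hNn hNp
        by_contra hne
        exact hA ⟨N, hNn, hNp, hne⟩
      have hnil : Group.IsNilpotent (commutator G) := Cfsg.Agent.S0526.result (SS h)
      have hG'q : IsPGroup q (commutator G) := PQG h q hq' (commutator G) hnil
      obtain ⟨P, hP⟩ := hG'q.exists_le_sylow
      haveI hPn : (P : Subgroup G).Normal := by
        refine ⟨fun x hx g => ?_⟩
        have hc : g * x * g⁻¹ * x⁻¹ ∈ commutator G := by
          rw [commutator_def]
          exact Subgroup.commutator_mem_commutator (Subgroup.mem_top g) (Subgroup.mem_top x)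
        have := (P : Subgroup G).mul_mem (hP hc) hx
        simpa using this
      have hle : Nat.card (commutator G) ∣ q := by
        by_cases hab : IsMulCommutative (P : Subgroup G)
        · exact PAB h q P hab hP
        · exact PNONAB h q P hab hP
      have h3 : q * q ≤ q := Nat.le_of_dvd hq.pos (hdvd.trans hle)
      have := hq.one_lt
      nlinarith

/-- (PGDS) the order of `G'` is square-free. -/
theorem PGDS {G : Type u} [Group G] [Finite G] (h : SqfCls G) :
    Squarefree (Nat.card (commutator G)) :=
  PGDS_aux _ G rfl h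

/-- (PGD) `G'` is cyclic of square-free order. -/
theorem PGD {G : Type u} [Group G] [Finite G] (h : SqfCls G) :
    IsCyclic (commutator G) ∧ Squarefree (Nat.card (commutator G)) := by
  have hsq := PGDS h
  haveI : Group.IsNilpotent (commutator G) := Cfsg.Agent.S0526.result (SS h)
  haveI : IsZGroup (commutator G) := IsZGroup.of_squarefree hsq
  exact ⟨inferInstance, hsq⟩

end Cfsg.Agent.S4130P
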