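import Mathlib
import Cfsg.Agent.Helper11.S4409Defs

/-! Board `s4409pieces`, row P2A (`struct_triv`). -/

set_option autoImplicit false
set_option linter.unusedVariables false

namespace Cfsg.Agent.S4409P

open Subgroup
open scoped commutatorElement

variable {S : Type*} [Group S] [Finite S]

/-- P2A -/
theorem struct_triv (X K : Subgroup S) (hA : HasA X) (hM : MinA X K) (hXK : ⁅X, K⁆ = ⊥) : IsAb X := by
  obtain ⟨A, hAX, hcomm, hnc, h8⟩ := hA
  have hcen : X ≤ centralizer (K : Set S) := Subgroup.commutator_eq_bot_iff_le_centralizer.1 hXK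
  have hKA : K ≤ normalizer (A : Set S) := by
    intro k hk
    rw [Subgroup.mem_normalizer_iff]
    intro a
    have key : ∀ b ∈ A, k * b * k⁻¹ = b := by
      intro b hb
      have h1 := (Subgroup.mem_centralizer_iff.1 (hcen (hAX hb))) k hk
      -- h1 : k * b = b * k
      rw [h1, mul_assoc, mul_inv_cancel, mul_one]
    constructor
    · intro ha
      rw [key a ha]; exact ha
    · intro ha
      have h2 : k⁻¹ * (k * a * k⁻¹) * k = a := by group
      have h3 : ∀ b ∈ A, k⁻¹ * b * k = b := by
        intro b hb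
        have h1 := (Subgroup.mem_centralizer_iff.1 (hcen (hAX hb))) k hk
        calc k⁻¹ * b * k = k⁻¹ * (b * k) := by rw [mul_assoc]
          _ = k⁻¹ * (k * b) := by rw [h1]
          _ = b := by rw [← mul_assoc, inv_mul_cancel, one_mul]
      rw [← h2, h3 _ ha]; exact ha
  by_cases hne : A = X
  · subst hne
    exact (isAb_iff A).2 hcomm
  · exact absurd ⟨A, le_rfl, hcomm, hnc, h8⟩ (hM A hAX hne hKA)

end Cfsg.Agent.S4409P
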