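import Mathlib
import Cfsg.Prelude.Def_Characters
import Cfsg.Prelude.Def_Blocks
import Cfsg.Agent.Helper24.Abelian
import Cfsg.Agent.Helper24.Linear
import Cfsg.Agent.Helper15.O7920n
set_option autoImplicit false

/-! S4501 piece CNT (driver helper8): the class multiplication formula specialised to the three
characters `1, χf, χg` that do not vanish at `σ`. -/

namespace Cfsg.Agent.S4501P
open Cfsg Cfsg.Agent.Helper24
open scoped ComplexConjugate
universe u
variable {G : Type u} [Group G] [Finite G]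

theorem count_formula (σ : G) (f : ℕ) (χf χg : IrrCharacter G) (hf2 : 2 ≤ f)
    (hdf : irrDeg χf = f) (hdg : irrDeg χg = f + 1) (hfg : χf ≠ χg)
    (hf1 : χf ≠ trivIrr G) (hg1 : χg ≠ trivIrr G)
    (hvf : (χf : G → ℂ) σ = 1) (hvg : (χg : G → ℂ) σ = -1)
    (hoth : ∀ χ : IrrCharacter G, χ ≠ trivIrr G → χ ≠ χf → χ ≠ χg → (χ : G → ℂ) σ = 0)
    (z : G) (a : ℤ) (ha : (χf : G → ℂ) z = a) (hg : (χg : G → ℂ) z = a + 1) :
    (Nat.card {s : G // IsConj z s ∧ IsConj z (s⁻¹ * σ)} : ℤ) *
        (Nat.card (Subgroup.centralizer ({z} : Set G)) : ℤ) ^ 2 * f * (f + 1) =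
      (Nat.card G : ℤ) * ((f : ℤ) - a) ^ 2 := by
  classical
  have : Fintype G := Fintype.ofFinite G
  have : Fintype (IrrCharacter G) := Fintype.ofFinite _
  have key := Cfsg.Agent.Helper15.O7920.card_factorizations_gen z z σ
  -- the character sum
  have hsum : ∑ ψ : IrrCharacter G, (ψ : G → ℂ) z * (ψ : G → ℂ) z *
      (starRingEnd ℂ) ((ψ : G → ℂ) σ) / (ψ : G → ℂ) 1
      = 1 + (a : ℂ) ^ 2 / f - ((a : ℂ) + 1) ^ 2 / ((f : ℂ) + 1) := by
    have hsub : ({trivIrr G, χf, χg} : Finset (IrrCharacter G)) ⊆ Finset.univ :=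
      Finset.subset_univ _
    rw [← Finset.sum_subset hsub]
    · rw [Finset.sum_insert, Finset.sum_pair hfg]
      · simp only [trivIrr_apply, irrDeg_spec, hdf, hdg, hvf, hvg, ha, hg, map_one, map_neg]
        push_cast
        ring
      · simp only [Finset.mem_insert, Finset.mem_singleton, not_or]
        exact ⟨fun h => hf1 h.symm, fun h => hg1 h.symm⟩
    · intro ψ _ hψ
      simp only [Finset.mem_insert, Finset.mem_singleton, not_or] at hψ
      rw [hoth ψ hψ.1 hψ.2.1 hψ.2.2, map_zero, mul_zero, zero_div]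
  rw [hsum] at key
  -- the index
  have hidx : ((Subgroup.centralizer ({z} : Set G)).index : ℂ) *
      (Nat.card (Subgroup.centralizer ({z} : Set G)) : ℂ) = (Nat.card G : ℂ) := by
    have := Subgroup.index_mul_card (Subgroup.centralizer ({z} : Set G))
    exact_mod_cast this
  have hcpos : (Nat.card (Subgroup.centralizer ({z} : Set G)) : ℂ) ≠ 0 := by
    have : 0 < Nat.card (Subgroup.centralizer ({z} : Set G)) := Nat.card_pos
    exact_mod_cast this.ne'
  have hGpos : (Nat.card G : ℂ) ≠ 0 := by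
    have : 0 < Nat.card G := Nat.card_pos
    exact_mod_cast this.ne'
  have hfpos : (f : ℂ) ≠ 0 := by
    have : 0 < f := by omega
    exact_mod_cast this.ne'
  have hf1pos : (f : ℂ) + 1 ≠ 0 := by
    have : ((f + 1 : ℕ) : ℂ) ≠ 0 := by exact_mod_cast (Nat.succ_ne_zero f)
    simpa using this
  have hC : ((Nat.card {s : G // IsConj z s ∧ IsConj z (s⁻¹ * σ)} : ℤ) : ℂ) *
      ((Nat.card (Subgroup.centralizer ({z} : Set G)) : ℤ) : ℂ) ^ 2 * (f : ℂ) * ((f : ℂ) + 1) =
      ((Nat.card G : ℤ) : ℂ) * ((f : ℂ) - (a : ℂ)) ^ 2 := by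
    push_cast
    set N : ℂ := (Nat.card {s : G // IsConj z s ∧ IsConj z (s⁻¹ * σ)} : ℂ) with hN
    set c : ℂ := (Nat.card (Subgroup.centralizer ({z} : Set G)) : ℂ) with hc
    set i : ℂ := ((Subgroup.centralizer ({z} : Set G)).index : ℂ) with hi
    set n : ℂ := (Nat.card G : ℂ) with hn
    -- key : N * n = i * i * (1 + a^2/f - (a+1)^2/(f+1)),  hidx : i * c = n
    have hi' : i = n / c := by
      rw [eq_div_iff hcpos]; exact hidx
    rw [hi'] at key
    have key2 : N * n * (c ^ 2 * (f * (f + 1))) = n * n * ((f - a) ^ 2) := by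
      rw [key]
      field_simp
      ring
    have key3 : n * (N * c ^ 2 * f * (f + 1)) = n * (n * (f - a) ^ 2) := by
      linear_combination key2
    exact mul_left_cancel₀ hGpos key3
  exact_mod_cast hC

end Cfsg.Agent.S4501P
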