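import Mathlib
import Cfsg.Agent.Helper7.S3Iso

set_option autoImplicit false
set_option linter.style.haveILetI false
set_option linter.unusedSectionVars false
set_option linter.unusedVariables false
set_option maxRecDepth 100000

/-! # The Klein four-group in `S₄` -/

namespace Cfsg.Agent.Helper7.S4Inv

open Subgroup

theorem kleinFour_mul : ∀ a b : Equiv.Perm (Fin 4), (a * a = 1 ∧ Equiv.Perm.sign a = 1) →
    (b * b = 1 ∧ Equiv.Perm.sign b = 1) →
    ((a * b) * (a * b) = 1 ∧ Equiv.Perm.sign (a * b) = 1) := by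
  decide

theorem kleinFour_inv : ∀ a : Equiv.Perm (Fin 4), (a * a = 1 ∧ Equiv.Perm.sign a = 1) →
    (a⁻¹ * a⁻¹ = 1 ∧ Equiv.Perm.sign a⁻¹ = 1) := by
  decide

theorem kleinFour_conj : ∀ a g : Equiv.Perm (Fin 4), (a * a = 1 ∧ Equiv.Perm.sign a = 1) →
    ((g * a * g⁻¹) * (g * a * g⁻¹) = 1 ∧ Equiv.Perm.sign (g * a * g⁻¹) = 1) := by
  decide

theorem kleinFour_centralizer : ∀ g : Equiv.Perm (Fin 4),
    (∀ a : Equiv.Perm (Fin 4), (a * a = 1 ∧ Equiv.Perm.sign a = 1) → a * g = g * a) →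
    (g * g = 1 ∧ Equiv.Perm.sign g = 1) := by
  decide

/-- The Klein four-group, as the even permutations of order at most two. -/
def kleinFour : Subgroup (Equiv.Perm (Fin 4)) where
  carrier := {a | a * a = 1 ∧ Equiv.Perm.sign a = 1}
  one_mem' := by decide
  mul_mem' := fun {a b} ha hb => kleinFour_mul a b ha hb
  inv_mem' := fun {a} ha => kleinFour_inv a ha

theorem mem_kleinFour (a : Equiv.Perm (Fin 4)) :
    a ∈ kleinFour ↔ a * a = 1 ∧ Equiv.Perm.sign a = 1 := Iff.rfl

instance kleinFour_normal : kleinFour.Normal :=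
  ⟨fun a ha g => kleinFour_conj a g ha⟩

theorem kleinFour_sq (a : Equiv.Perm (Fin 4)) (ha : a ∈ kleinFour) : a * a = 1 := ha.1

theorem mem_kleinFour_of_centralizes (g : Equiv.Perm (Fin 4))
    (h : ∀ a ∈ kleinFour, a * g = g * a) : g ∈ kleinFour :=
  kleinFour_centralizer g h

theorem kleinFour_isPGroup : IsPGroup 2 kleinFour := by
  rintro ⟨a, ha⟩
  refine ⟨1, ?_⟩
  apply Subtype.ext
  simp only [pow_one, SubgroupClass.coe_pow, OneMemClass.coe_one]
  rw [pow_two]; exact ha.1

instance : DecidablePred (· ∈ kleinFour) := fun a =>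
  inferInstanceAs (Decidable (a * a = 1 ∧ Equiv.Perm.sign a = 1))

theorem card_kleinFour : Nat.card kleinFour = 4 := by
  rw [Nat.card_eq_fintype_card]
  decide

theorem card_quotient_kleinFour : Nat.card (Equiv.Perm (Fin 4) ⧸ kleinFour) = 6 := by
  have h1 := Subgroup.card_eq_card_quotient_mul_card_subgroup kleinFour
  rw [card_kleinFour, Nat.card_perm] at h1
  have h2 : Nat.card (Fin 4) = 4 := by simp
  rw [h2] at h1
  have h3 : Nat.factorial 4 = 24 := by decide
  rw [h3] at h1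
  omega

theorem quotient_kleinFour_noncomm : ∃ a b : Equiv.Perm (Fin 4) ⧸ kleinFour, a * b ≠ b * a := by
  refine ⟨QuotientGroup.mk (Equiv.swap 0 1), QuotientGroup.mk (Equiv.swap 1 2), ?_⟩
  rw [← QuotientGroup.mk_mul, ← QuotientGroup.mk_mul]
  intro h
  rw [QuotientGroup.eq] at h
  revert h
  rw [mem_kleinFour]
  decide

theorem nonempty_quotient_kleinFour_equiv :
    Nonempty ((Equiv.Perm (Fin 4) ⧸ kleinFour) ≃* Equiv.Perm (Fin 3)) :=
  nonempty_mulEquiv_perm_three_of_card_six card_quotient_kleinFour quotient_kleinFour_noncomm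

end Cfsg.Agent.Helper7.S4Inv
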