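import Mathlib
import Cfsg.Agent.Helper7.S4Inv6
import Cfsg.Agent.Helper9.S4Section

set_option autoImplicit false
set_option linter.style.haveILetI false
set_option linter.unusedSectionVars false
set_option linter.unusedVariables false

/-! # `S₄` involved forces `S₃` involved in `N(T)/C(T)` for some `2`-subgroup `T` -/

namespace Cfsg.Agent.Helper7.S4Inv

open Subgroup

theorem involves_of_ker_le {M Qt H : Type*} [Group M] [Group Qt] [Group H] (φ : M →* Qt)
    (g : M →* H) (hg : Function.Surjective g) (hker : φ.ker ≤ g.ker) : Cfsg.Involves H Qt := by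
  let ψ : φ.range →* H :=
    (QuotientGroup.lift φ.ker g hker).comp (QuotientGroup.quotientKerEquivRange φ).symm.toMonoidHom
  apply Cfsg.Agent.Helper9.S4Sec.involves_of_surjective φ.range ψ
  intro h
  obtain ⟨m, rfl⟩ := hg h
  refine ⟨⟨φ m, m, rfl⟩, ?_⟩
  have h1 : (QuotientGroup.quotientKerEquivRange φ).symm ⟨φ m, m, rfl⟩ = QuotientGroup.mk m := by
    rw [MulEquiv.symm_apply_eq]; rfl
  show (QuotientGroup.lift φ.ker g hker)
    ((QuotientGroup.quotientKerEquivRange φ).symm ⟨φ m, m, rfl⟩) = g m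
  rw [h1]; rfl

theorem exists_two_subgroup_of_involves_S4 {G : Type*} [Group G] [Finite G]
    (h : Cfsg.Involves (Equiv.Perm (Fin 4)) G) :
    ∃ T : Subgroup G, IsPGroup 2 T ∧ Cfsg.Involves (Equiv.Perm (Fin 3))
      (↥(normalizer (T : Set G)) ⧸
        (centralizer (T : Set G)).subgroupOf (normalizer (T : Set G))) := by
  classical
  haveI : Fact (Nat.Prime 2) := ⟨Nat.prime_two⟩
  obtain ⟨K, f, hf⟩ := Cfsg.Agent.Helper9.S4Sec.exists_surjective_of_involves h
  obtain ⟨e⟩ := nonempty_quotient_kleinFour_equiv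
  let q : K →* Equiv.Perm (Fin 3) := e.toMonoidHom.comp ((QuotientGroup.mk' kleinFour).comp f)
  have hq : Function.Surjective q :=
    e.surjective.comp ((QuotientGroup.mk'_surjective _).comp hf)
  have hq1 : ∀ x : K, q x = 1 ↔ f x ∈ kleinFour := by
    intro x
    show e (QuotientGroup.mk' kleinFour (f x)) = 1 ↔ _
    rw [MulEquiv.map_eq_one_iff]
    exact QuotientGroup.eq_one_iff _
  haveI hVpn : (kleinFour.comap f).Normal := inferInstance
  obtain ⟨S⟩ : Nonempty (Sylow 2 (kleinFour.comap f)) := Sylow.nonempty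
  have hfr := Sylow.normalizer_sup_eq_top S
  obtain ⟨S', hS'⟩ : ∃ S' : Subgroup K,
      S' = (S : Subgroup (kleinFour.comap f)).map (kleinFour.comap f).subtype := ⟨_, rfl⟩
  rw [← hS'] at hfr
  have hS'p : IsPGroup 2 S' := by rw [hS']; exact S.2.map _
  have hfV : Function.Surjective (f.subgroupComap kleinFour) :=
    MonoidHom.subgroupComap_surjective_of_surjective f kleinFour hf
  have hSmap : ∀ σ ∈ kleinFour, ∃ s ∈ S', f s = σ := by
    intro σ hσ
    have hP : IsPGroup 2 (⊤ : Subgroup kleinFour) := kleinFour_isPGroup.to_subgroup _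
    have hmax := (S.mapSurjective hfV).3 hP le_top
    have hmem : (⟨σ, hσ⟩ : kleinFour) ∈ ((S.mapSurjective hfV : Sylow 2 kleinFour) :
        Subgroup kleinFour) := by
      have : (⟨σ, hσ⟩ : kleinFour) ∈ (⊤ : Subgroup kleinFour) := mem_top _
      rw [hmax] at this
      exact this
    rw [Sylow.coe_mapSurjective] at hmem
    obtain ⟨s, hs, hsσ⟩ := hmem
    refine ⟨(s : K), ?_, ?_⟩
    · rw [hS']; exact mem_map_of_mem _ hs
    · have := congrArg Subtype.val hsσ
      exact this
  obtain ⟨M, hM⟩ : ∃ M : Subgroup K, M = normalizer (S' : Set K) := ⟨_, rfl⟩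
  rw [← hM] at hfr
  obtain ⟨T, hTdef⟩ : ∃ T : Subgroup G, T = S'.map K.subtype := ⟨_, rfl⟩
  have hTp : IsPGroup 2 T := by rw [hTdef]; exact hS'p.map _
  refine ⟨T, hTp, ?_⟩
  have hMN : ∀ m : M, (K.subtype.comp M.subtype) m ∈ normalizer (T : Set G) := by
    intro m
    have h1 : ((m : K) : G) ∈ (normalizer (S' : Set K)).map K.subtype :=
      ⟨(m : K), hM ▸ m.2, rfl⟩
    have h2 := Subgroup.le_normalizer_map K.subtype h1
    rw [hTdef]; exact h2
  let ι : M →* ↥(normalizer (T : Set G)) :=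
    (K.subtype.comp M.subtype).codRestrict (normalizer (T : Set G)) hMN
  let φ : M →* (↥(normalizer (T : Set G)) ⧸
      (centralizer (T : Set G)).subgroupOf (normalizer (T : Set G))) :=
    (QuotientGroup.mk' _).comp ι
  apply involves_of_ker_le φ (q.comp M.subtype)
  · intro s
    obtain ⟨k, rfl⟩ := hq s
    have hk : k ∈ M ⊔ kleinFour.comap f := by rw [hfr]; exact mem_top _
    rw [← SetLike.mem_coe, Subgroup.mul_normal] at hk
    obtain ⟨m, hm, v, hv, rfl⟩ := Set.mem_mul.mp hk
    refine ⟨⟨m, hm⟩, ?_⟩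
    show q m = q (m * v)
    rw [map_mul, (hq1 v).mpr hv, mul_one]
  · intro m hm
    rw [MonoidHom.mem_ker] at hm ⊢
    show q (m : K) = 1
    rw [hq1]
    apply mem_kleinFour_of_centralizes
    intro σ hσ
    obtain ⟨s, hs, rfl⟩ := hSmap σ hσ
    have h1 : ι m ∈ (centralizer (T : Set G)).subgroupOf (normalizer (T : Set G)) :=
      (QuotientGroup.eq_one_iff _).mp hm
    have h2 : ((m : K) : G) ∈ centralizer (T : Set G) := mem_subgroupOf.mp h1
    have h3 : ((s : K) : G) ∈ T := by rw [hTdef]; exact mem_map_of_mem _ hs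
    have h4 := (mem_centralizer_iff.mp h2) _ h3
    have h5 : s * (m : K) = (m : K) * s := Subtype.ext h4
    rw [← map_mul, ← map_mul, h5]

end Cfsg.Agent.Helper7.S4Inv
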