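import Cfsg.Agent.Helper1.S5639Lib

set_option autoImplicit false

/-! S5639 piece KADD (driver helper1; helper7): the sets `Kij` are closed under `+`, `-` and contain
`F₀`. -/

namespace Cfsg.Agent.S5639P

open Matrix
open Cfsg.Agent.Helper28.SLMax Cfsg.Agent.Helper28.SimMax

variable {F : Type*} [Field F] {n : ℕ}

local notation "GLn" => Matrix.GeneralLinearGroup (Fin n) F
local notation "Mat" => Matrix (Fin n) (Fin n) F

namespace KADD

/-- coordinate covector against a coordinate vector at another index -/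
theorem single_dot_single_of_ne {i j : Fin n} (hij : i ≠ j) (a b : F) :
    (Pi.single j a : Fin n → F) ⬝ᵥ (Pi.single i b : Fin n → F) = 0 := by
  rw [single_dotProduct, Pi.single_eq_of_ne (Ne.symm hij) , mul_zero]

theorem single_dot_single_self (j : Fin n) (a b : F) :
    (Pi.single j a : Fin n → F) ⬝ᵥ (Pi.single j b : Fin n → F) = a * b := by
  rw [single_dotProduct, Pi.single_eq_same]

end KADD

open KADD

theorem KADD.kij_add (M : Subgroup GLn) (i j : Fin n) (hij : i ≠ j) {c d : F}
    (hc : c ∈ Kij M i j) (hd : d ∈ Kij M i j) : c + d ∈ Kij M i j := by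
  have hc : E (Pi.single i c : Fin n → F) (Pi.single j 1) ∈ MS M := hc
  have hd : E (Pi.single i d : Fin n → F) (Pi.single j 1) ∈ MS M := hd
  show E (Pi.single i (c + d) : Fin n → F) (Pi.single j 1) ∈ MS M
  have h := E_mul_E_axis (Pi.single i c : Fin n → F) (Pi.single i d) (Pi.single j 1)
    (single_dot_single_of_ne hij 1 d)
  rw [← Pi.single_add] at h
  rw [← h]
  exact MS_mul hc hd

theorem KADD.kij_neg (M : Subgroup GLn) (i j : Fin n) (hij : i ≠ j) {c : F}
    (hc : c ∈ Kij M i j) : -c ∈ Kij M i j := by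
  have hc : E (Pi.single i c : Fin n → F) (Pi.single j 1) ∈ MS M := hc
  show E (Pi.single i (-c) : Fin n → F) (Pi.single j 1) ∈ MS M
  have h := MS_E_neg (single_dot_single_of_ne hij 1 c) hc
  have e : E (Pi.single i (-c) : Fin n → F) (Pi.single j 1) =
      E (Pi.single i c : Fin n → F) (-(Pi.single j 1 : Fin n → F)) := by
    have h1 : (Pi.single i (-c) : Fin n → F) = (-1 : F) • (Pi.single i c : Fin n → F) := by
      rw [neg_smul, one_smul, Pi.single_neg]
    rw [h1, E_smul_left, neg_smul, one_smul]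
  rw [e]
  exact h

theorem KADD.kij_rat (F₀ : Subfield F) (M : Subgroup GLn) (hM : HasRat F₀ M) (i j : Fin n)
    (hij : i ≠ j) {c : F} (hc : c ∈ F₀) : c ∈ Kij M i j := by
  show E (Pi.single i c : Fin n → F) (Pi.single j 1) ∈ MS M
  exact hM _ _ (Rat.single i hc) (Rat.single j F₀.one_mem) (single_dot_single_of_ne hij 1 c)

end Cfsg.Agent.S5639P
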