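import Cfsg.Agent.Helper1.S5639Lib

set_option autoImplicit false

/-! S5639 piece KMUL (driver helper1; helper7): `[x_ij(c), x_jk(d)] = x_ik(cd)` on the level of the
sets `Kij`. -/

namespace Cfsg.Agent.S5639P

open Matrix
open Cfsg.Agent.Helper28.SLMax Cfsg.Agent.Helper28.SimMax

variable {F : Type*} [Field F] {n : ℕ}

local notation "GLn" => Matrix.GeneralLinearGroup (Fin n) F
local notation "Mat" => Matrix (Fin n) (Fin n) F

namespace KMUL

theorem dot_single_of_ne {i j : Fin n} (hij : i ≠ j) (a b : F) :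
    (Pi.single j a : Fin n → F) ⬝ᵥ (Pi.single i b : Fin n → F) = 0 := by
  rw [single_dotProduct, Pi.single_eq_of_ne (Ne.symm hij) , mul_zero]

theorem dot_single_self (j : Fin n) (a b : F) :
    (Pi.single j a : Fin n → F) ⬝ᵥ (Pi.single j b : Fin n → F) = a * b := by
  rw [single_dotProduct, Pi.single_eq_same]

end KMUL

open KMUL

/-- KMUL: `[x_ij(c), x_jk(d)] = x_ik(cd)`. -/
theorem KMUL.kij_mul (M : Subgroup GLn) (i j k : Fin n) (hij : i ≠ j) (hjk : j ≠ k) (hik : i ≠ k)
    {c d : F} (hc : c ∈ Kij M i j) (hd : d ∈ Kij M j k) : c * d ∈ Kij M i k := by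
  have hc : E (Pi.single i c : Fin n → F) (Pi.single j 1) ∈ MS M := hc
  have hd : E (Pi.single j d : Fin n → F) (Pi.single k 1) ∈ MS M := hd
  show E (Pi.single i (c * d) : Fin n → F) (Pi.single k 1) ∈ MS M
  have h := MS_comm_E (M := M) (Pi.single j d : Fin n → F) (Pi.single k 1) (Pi.single i c)
    (Pi.single j 1) (dot_single_of_ne hjk 1 d) (dot_single_of_ne hij 1 c)
    (dot_single_of_ne hik 1 c) hd hc
  rw [dot_single_self, one_mul] at h
  have e : d • (Pi.single i c : Fin n → F) = Pi.single i (c * d) := by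
    rw [← Pi.single_smul, smul_eq_mul, mul_comm]
  rw [e] at h
  exact h

end Cfsg.Agent.S5639P
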