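import Cfsg.Agent.Helper7.S5639KADD
import Cfsg.Agent.Helper7.S5639KMUL

set_option autoImplicit false

/-! S5639 piece KEQ (driver helper1; helper7): all the sets `Kij` coincide (`n ≥ 3`). -/

namespace Cfsg.Agent.S5639P

open Matrix
open Cfsg.Agent.Helper28.SLMax Cfsg.Agent.Helper28.SimMax

variable {F : Type*} [Field F] {n : ℕ}

local notation "GLn" => Matrix.GeneralLinearGroup (Fin n) F
local notation "Mat" => Matrix (Fin n) (Fin n) F

namespace KEQ

/-- move the second index -/
theorem snd_le (F₀ : Subfield F) (M : Subgroup GLn) (hM : HasRat F₀ M) {i j l : Fin n}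
    (hij : i ≠ j) (hil : i ≠ l) : Kij M i j ⊆ Kij M i l := by
  intro c hc
  by_cases hjl : j = l
  · subst hjl; exact hc
  · have h1 : (1 : F) ∈ Kij M j l := KADD.kij_rat F₀ M hM j l hjl F₀.one_mem
    have := KMUL.kij_mul M i j l hij hjl hil hc h1
    rwa [mul_one] at this

/-- move the first index -/
theorem fst_le (F₀ : Subfield F) (M : Subgroup GLn) (hM : HasRat F₀ M) {i j k : Fin n}
    (hij : i ≠ j) (hkj : k ≠ j) : Kij M i j ⊆ Kij M k j := by
  intro c hc
  by_cases hki : k = i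
  · subst hki; exact hc
  · have h1 : (1 : F) ∈ Kij M k i := KADD.kij_rat F₀ M hM k i hki F₀.one_mem
    have := KMUL.kij_mul M k i j hki hij hkj h1 hc
    rwa [one_mul] at this

/-- a third index -/
theorem exists_third (hn : 3 ≤ n) (i j : Fin n) : ∃ m : Fin n, m ≠ i ∧ m ≠ j := by
  by_contra hcon0
  have hcon : ∀ m : Fin n, m ≠ i → m = j := fun m hm => by
    by_contra h
    exact hcon0 ⟨m, hm, h⟩
  have hsub : (Finset.univ : Finset (Fin n)) ⊆ {i, j} := by
    intro m _
    by_cases hm : m = i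
    · rw [hm]; exact Finset.mem_insert_self _ _
    · rw [hcon m hm]
      exact Finset.mem_insert_of_mem (Finset.mem_singleton_self _)
  have h1 := Finset.card_le_card hsub
  have h2 : ({i, j} : Finset (Fin n)).card ≤ 2 := Finset.card_le_two
  rw [Finset.card_univ, Fintype.card_fin] at h1
  omega

theorem kij_le (F₀ : Subfield F) (hn : 3 ≤ n) (M : Subgroup GLn) (hM : HasRat F₀ M)
    (i j k l : Fin n) (hij : i ≠ j) (hkl : k ≠ l) : Kij M i j ⊆ Kij M k l := by
  by_cases hkj : k = j
  · subst hkj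
    by_cases hli : l = i
    · subst hli
      obtain ⟨m, hm1, hm2⟩ := exists_third hn l k
      exact ((snd_le F₀ M hM hij (Ne.symm hm1)).trans
        (fst_le F₀ M hM (Ne.symm hm1) (Ne.symm hm2))).trans
        (snd_le F₀ M hM (Ne.symm hm2) hkl)
    · exact (snd_le F₀ M hM hij (Ne.symm hli)).trans (fst_le F₀ M hM (Ne.symm hli) hkl)
  · exact (fst_le F₀ M hM hij hkj).trans (snd_le F₀ M hM hkj hkl)

end KEQ

open KEQ

/-- KEQ: all `Kij` coincide. -/
theorem KEQ.kij_eq (F₀ : Subfield F) (hn : 3 ≤ n) (M : Subgroup GLn) (hM : HasRat F₀ M)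
    (i j k l : Fin n) (hij : i ≠ j) (hkl : k ≠ l) : Kij M i j = Kij M k l :=
  Set.Subset.antisymm (kij_le F₀ hn M hM i j k l hij hkl) (kij_le F₀ hn M hM k l i j hkl hij)

end Cfsg.Agent.S5639P
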