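import Mathlib
import Cfsg.Prelude.Def_Classical
import Cfsg.Agent.Helper23.S5953Defs
import Cfsg.Agent.Helper28.Herm
import Cfsg.Agent.Helper7.S5955MODEL2
import Cfsg.Agent.Helper7.S5953DETONE
import Cfsg.Agent.Helper7.S5953TRANSPORTU
import Cfsg.Agent.Helper19.S5953MODELSPU
import Cfsg.Agent.Helper22.S5953MODELBOUNDU

set_option autoImplicit false
open scoped MatrixGroups Matrix

/-! S5953 piece MODEL2U: the model element of `SU_n(q)` in the self-dual case. -/

universe u

namespace Cfsg.Agent.S5953P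

open Polynomial Cfsg.Agent.S5955P Cfsg.Agent.Helper28.HW Cfsg.Agent.Helper28.HermFrame

open Cfsg.Agent.S5955P.MODEL2 in
/-- MODEL2U -/
theorem exists_model_even_u {F : Type u} [Field F] [Fintype F] {p : ℕ} [Fact p.Prime]
    [CharP F p] {q : ℕ} (hF : Fintype.card F = q ^ 2) (r : ℕ) [Fact r.Prime] (hr2 : r ≠ 2)
    (hrp : r ≠ p) (hrq : ¬ r ∣ q + 1) (hsd : orderOf (q : ZMod r) % 4 = 2) (n bN κ : ℕ)
    (hb1 : 1 ≤ bN) (hn : κ + orderOf ((Fintype.card F : ℕ) : ZMod r) * bN = n)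
    (hb : bN ≤ (r - 1) / orderOf ((Fintype.card F : ℕ) : ZMod r) ∨
      Even (bN - (r - 1) / orderOf ((Fintype.card F : ℕ) : ZMod r))) :
    ∃ x : Matrix.SpecialLinearGroup (Fin n) F, x ∈ Cfsg.SU n F q ∧
      (x : Matrix (Fin n) (Fin n) F) ^ r = 1 ∧ (x : Matrix (Fin n) (Fin n) F) ≠ 1 ∧
      Module.finrank F (LinearMap.ker (Matrix.toLin' (x : Matrix (Fin n) (Fin n) F) - 1)) = κ ∧
      ∀ W : Submodule F (Fin n → F),
        W.map (Matrix.toLin' (x : Matrix (Fin n) (Fin n) F)) ≤ W →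
        (∀ u ∈ W, ∀ v ∈ W, Cfsg.hermForm n F q u v = 0) →
        Module.finrank F W ≤ Module.finrank F ↥(W ⊓ LinearMap.ker (Matrix.toLin'
          (x : Matrix (Fin n) (Fin n) F) - 1)) +
          orderOf ((Fintype.card F : ℕ) : ZMod r) *
            ((bN - (r - 1) / orderOf ((Fintype.card F : ℕ) : ZMod r)) / 2) := by
  classical
  have hipos := orderOf_card_pos (F := F) r hrp
  obtain ⟨σ, hσ, -⟩ := Cfsg.Agent.Helper28.exists_frob hF
  obtain ⟨V, _, _, _, B, y, hY, hfr, hker, g₀, hg₀m, hg₀d, hα, hβ⟩ :=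
    exists_model_space_u hF σ hσ r hr2 hrp hsd bN κ hb1 hb
  obtain ⟨x, e, hxU, hxr, heB, hey⟩ := exists_un_of_yu B y r hY n (hfr.trans hn)
  have hdet : x.det = 1 := det_eq_one_of_isUn hF r hrq x hxU hxr
  obtain ⟨X, hXmem, hXx⟩ := exists_SU_of_isUn x hdet hxU
  -- the intertwining relation for `x - 1`
  have hcomp : (Matrix.toLin' x - 1).comp
      (e : V →ₗ[F] (Fin n → F)) = (e : V →ₗ[F] (Fin n → F)).comp (y - 1) := by
    apply LinearMap.ext
    intro v
    simp only [LinearMap.comp_apply, LinearMap.sub_apply, LinearEquiv.coe_coe,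
      Module.End.one_apply, map_sub]
    rw [hey]
  have hkerx : (LinearMap.ker (Matrix.toLin' x - 1)).comap
      (e : V →ₗ[F] (Fin n → F)) = LinearMap.ker (y - 1) := by
    rw [← LinearMap.ker_comp, hcomp, LinearMap.ker_comp, LinearEquiv.ker, Submodule.comap_bot]
  have hkerfr : Module.finrank F (LinearMap.ker (Matrix.toLin' x - 1)) = κ := by
    rw [← finrank_comap_equiv e, hkerx, hker]
  refine ⟨X, hXmem, ?_, ?_, ?_, ?_⟩
  · rw [hXx]
    exact hxr
  · -- `x ≠ 1`
    rw [hXx]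
    intro h1
    rw [h1, Matrix.toLin'_one] at hkerfr
    have : (LinearMap.id : (Fin n → F) →ₗ[F] (Fin n → F)) - 1 = 0 := by
      apply LinearMap.ext
      intro v
      simp
    rw [this, LinearMap.ker_zero, finrank_top, Module.finrank_fintype_fun_eq_card,
      Fintype.card_fin] at hkerfr
    have : 0 < orderOf ((Fintype.card F : ℕ) : ZMod r) * bN := Nat.mul_pos hipos hb1
    omega
  · rw [hXx]
    exact hkerfr
  · rw [hXx]
    intro W hWx hWti
    have hW' : (W.comap (e : V →ₗ[F] (Fin n → F))).map y ≤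
        W.comap (e : V →ₗ[F] (Fin n → F)) := by
      rintro _ ⟨v, hv, rfl⟩
      rw [Submodule.mem_comap, LinearEquiv.coe_coe, hey]
      exact hWx (Submodule.mem_map_of_mem hv)
    have hti' : OrthU B (W.comap (e : V →ₗ[F] (Fin n → F)))
        (W.comap (e : V →ₗ[F] (Fin n → F))) := by
      intro u hu v hv
      rw [← heB]
      exact hWti _ hv _ hu
    have h := model_bound_u r hr2 hrp B y hY hsd g₀ hg₀m hg₀d
      ((bN - (r - 1) / orderOf ((Fintype.card F : ℕ) : ZMod r)) / 2) hα hβ _ hW' hti'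
    rw [finrank_comap_equiv e, ← hkerx, ← Submodule.comap_inf, finrank_comap_equiv e] at h
    exact h

end Cfsg.Agent.S5953P
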