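import Mathlib
import Cfsg.Prelude.Def_Classical
import Cfsg.Agent.Helper23.S5953Defs
import Cfsg.Agent.Helper8.S5955INVSPLIT
import Cfsg.Agent.Helper7.S5953GUYU
import Cfsg.Agent.Helper7.S5953TIFIXU

set_option autoImplicit false
open scoped MatrixGroups Matrix

/-! S5953: the common step of the necessity pieces NECBASICU / NECEVENU. -/

universe u

namespace Cfsg.Agent.S5953P

open Polynomial Cfsg.Agent.S5955P Cfsg.Agent.Helper28.HW Cfsg.Agent.Helper28.HermFrame

/-- common step: from an invariant t.i. `W` of finrank `m` for a unitary `x` with small fixed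
space -/
theorem NECU.fix_eq_mod {F : Type*} [Field F] [Fintype F] {p : ℕ} [Fact p.Prime] [CharP F p]
    {q : ℕ} (hF : Fintype.card F = q ^ 2) (σ : F →+* F) (hσ : ∀ a, σ a = a ^ q)
    (r : ℕ) [Fact r.Prime] (hrp : r ≠ p) (n m : ℕ)
    (x : Matrix (Fin n) (Fin n) F) (hxU : IsUn q x) (hx : x ^ r = 1)
    (hker : Module.finrank F (LinearMap.ker (Matrix.toLin' x - 1)) <
      2 * orderOf ((Fintype.card F : ℕ) : ZMod r))
    (W : Submodule F (Fin n → F)) (hWm : Module.finrank F ↥W = m)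
    (hWti : ∀ u ∈ W, ∀ v ∈ W, Cfsg.hermForm n F q u v = 0)
    (hWinv : W.map (Matrix.toLin' x) ≤ W) :
    Module.finrank F ↥(W ⊓ LinearMap.ker (Matrix.toLin' x - 1)) =
      m % orderOf ((Fintype.card F : ℕ) : ZMod r) ∧
    2 * (m % orderOf ((Fintype.card F : ℕ) : ZMod r)) ≤
      Module.finrank F (LinearMap.ker (Matrix.toLin' x - 1)) ∧
    Module.finrank F ↥(W ⊓ LinearMap.range (Matrix.toLin' x - 1)) =
      orderOf ((Fintype.card F : ℕ) : ZMod r) * (m / orderOf ((Fintype.card F : ℕ) : ZMod r)) ∧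
    IsYU q (hB σ n) (Matrix.toLin' x) r ∧ OrthU (hB σ n) W W := by
  have hY := un_isYU hF σ hσ n x hxU r hx
  have hti : OrthU (hB σ n) W W := fun u hu v hv => by
    rw [hB_herm σ hσ]
    exact hWti v hv u hu
  have h1 := ti_fix_le_u (p := p) r hrp (hB σ n) _ hY W hti
  obtain ⟨-, hsplit, hdiv⟩ := inv_split (p := p) r hrp _ hY.pow W hWinv
  obtain ⟨e, he⟩ := hdiv
  rw [hWm, he] at hsplit
  have ha'lt : Module.finrank F ↥(W ⊓ LinearMap.ker (Matrix.toLin' x - 1)) <
      orderOf ((Fintype.card F : ℕ) : ZMod r) := by omega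
  have hipos : 0 < orderOf ((Fintype.card F : ℕ) : ZMod r) := by omega
  have hmod : m % orderOf ((Fintype.card F : ℕ) : ZMod r) =
      Module.finrank F ↥(W ⊓ LinearMap.ker (Matrix.toLin' x - 1)) := by
    rw [← hsplit, Nat.add_mul_mod_self_left, Nat.mod_eq_of_lt ha'lt]
  have hdiv' : m / orderOf ((Fintype.card F : ℕ) : ZMod r) = e := by
    rw [← hsplit, Nat.add_mul_div_left _ _ hipos, Nat.div_eq_of_lt ha'lt, zero_add]
  exact ⟨hmod.symm, by rw [hmod]; exact h1, by rw [he, hdiv'], hY, hti⟩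

end Cfsg.Agent.S5953P
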