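import Mathlib
import Cfsg.Prelude.Def_Classical
import Cfsg.Agent.Helper23.S5953Defs
import Cfsg.Agent.Helper28.Herm
import Cfsg.Agent.Helper18.S5953ARITHU
import Cfsg.Agent.Helper7.S5953NECFIX
import Cfsg.Agent.Helper7.S5953ELTU

set_option autoImplicit false
open scoped MatrixGroups Matrix

/-! S5953 piece NECBASICU: the basic necessary conditions (`r` odd, `r ∤ q + 1`). -/

universe u

namespace Cfsg.Agent.S5953P

open Polynomial Cfsg.Agent.S5955P Cfsg.Agent.Helper28.HW Cfsg.Agent.Helper28.HermFrame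

/-- NECBASICU -/
theorem nec_basic_u {F : Type u} [Field F] [Fintype F] {p : ℕ} [Fact p.Prime] [CharP F p]
    {q : ℕ} (hF : Fintype.card F = q ^ 2) (r : ℕ) [Fact r.Prime] (hr2 : r ≠ 2) (hrp : r ≠ p)
    (hrq : ¬ r ∣ q + 1) (n m : ℕ) (hm : 1 ≤ m) (hmn : 2 * m ≤ n)
    (j : ℕ) (hj1 : n + 1 ≤ j + 2 * m) (hj2 : j ≤ n) (hcj : cu q r ∣ j)
    (hall : ∀ x : Matrix.SpecialLinearGroup (Fin n) F, x ∈ Cfsg.SU n F q →
      (x : Matrix (Fin n) (Fin n) F) ^ r = 1 → (x : Matrix (Fin n) (Fin n) F) ≠ 1 →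
      ∃ W : Submodule F (Fin n → F), Module.finrank F ↥W = m ∧
        (∀ u ∈ W, ∀ v ∈ W, Cfsg.hermForm n F q u v = 0) ∧
        W.map (Matrix.toLin' (x : Matrix (Fin n) (Fin n) F)) ≤ W) :
    orderOf ((Fintype.card F : ℕ) : ZMod r) ≤ m ∧
    2 * (m % orderOf ((Fintype.card F : ℕ) : ZMod r)) ≤ n % cu q r := by
  classical
  have hrp' : r.Prime := Fact.out
  obtain ⟨σ, hσ, -⟩ := Cfsg.Agent.Helper28.exists_frob hF
  obtain ⟨-, -, hbpos, -, hcudef, hcudvd, -⟩ := cu_arith hF r hr2 hrp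
  have hcpos : 0 < cu q r := by
    rcases Nat.eq_zero_or_pos (cu q r) with h0 | h0
    · rw [h0, zero_dvd_iff] at hcudvd
      have := hrp'.two_le
      omega
    · exact h0
  have hc2b : cu q r ≤ 2 * orderOf ((Fintype.card F : ℕ) : ZMod r) := by
    rw [hcudef]; split_ifs <;> omega
  have hjpos : 0 < j := by omega
  have hcle : cu q r ≤ n := le_trans (Nat.le_of_dvd hjpos hcj) hj2
  obtain ⟨x, hxmem, hx, hx1, hker⟩ := exists_elt_u hF r hr2 hrp hrq n hcle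
  have hk_lt : n % cu q r < cu q r := Nat.mod_lt _ hcpos
  obtain ⟨W, hWm, hWti, hWinv⟩ := hall x hxmem hx hx1
  obtain ⟨-, h2, -⟩ := NECU.fix_eq_mod (p := p) hF σ hσ r hrp n m
    (x : Matrix (Fin n) (Fin n) F) ((mem_SU_iff x).mp hxmem) hx (by rw [hker]; omega)
    W hWm hWti hWinv
  rw [hker] at h2
  refine ⟨?_, h2⟩
  by_contra hlt
  push Not at hlt
  rw [Nat.mod_eq_of_lt hlt] at h2
  obtain ⟨w, hw⟩ := hcj
  have h3 : n % cu q r = (n - j) % cu q r := by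
    have h4 : n = (n - j) + cu q r * w := by omega
    conv_lhs => rw [h4]
    rw [Nat.add_mul_mod_self_left]
  have h5 : (n - j) % cu q r ≤ n - j := Nat.mod_le _ _
  omega

end Cfsg.Agent.S5953P
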