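import Mathlib
import Cfsg.Prelude.Def_Classical
import Cfsg.Agent.Helper23.S5953Defs
import Cfsg.Agent.Helper28.Herm
import Cfsg.Agent.Helper18.S5953ARITHU
import Cfsg.Agent.Helper7.S5953NECFIX
import Cfsg.Agent.Helper7.S5953MODEL2U

set_option autoImplicit false
set_option linter.unusedVariables false
open scoped MatrixGroups Matrix

/-! S5953 piece NECEVENU: the necessary condition of the self-dual case. -/

universe u

namespace Cfsg.Agent.S5953P

open Polynomial Cfsg.Agent.S5955P Cfsg.Agent.Helper28.HW Cfsg.Agent.Helper28.HermFrame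

/-- NECEVENU -/
theorem nec_even_u {F : Type u} [Field F] [Fintype F] {p : ℕ} [Fact p.Prime] [CharP F p]
    {q : ℕ} (hF : Fintype.card F = q ^ 2) (r : ℕ) [Fact r.Prime] (hr2 : r ≠ 2) (hrp : r ≠ p)
    (hrq : ¬ r ∣ q + 1) (hsd : orderOf (q : ZMod r) % 4 = 2) (n m : ℕ) (hm : 1 ≤ m)
    (hmn : 2 * m ≤ n) (hbm : orderOf ((Fintype.card F : ℕ) : ZMod r) ≤ m)
    (h2 : 2 * (m % orderOf ((Fintype.card F : ℕ) : ZMod r)) ≤
      n % orderOf ((Fintype.card F : ℕ) : ZMod r))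
    (hall : ∀ x : Matrix.SpecialLinearGroup (Fin n) F, x ∈ Cfsg.SU n F q →
      (x : Matrix (Fin n) (Fin n) F) ^ r = 1 → (x : Matrix (Fin n) (Fin n) F) ≠ 1 →
      ∃ W : Submodule F (Fin n → F), Module.finrank F ↥W = m ∧
        (∀ u ∈ W, ∀ v ∈ W, Cfsg.hermForm n F q u v = 0) ∧
        W.map (Matrix.toLin' (x : Matrix (Fin n) (Fin n) F)) ≤ W) :
    (r - 1) / orderOf ((Fintype.card F : ℕ) : ZMod r) +
      2 * (m / orderOf ((Fintype.card F : ℕ) : ZMod r)) ≤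
    n / orderOf ((Fintype.card F : ℕ) : ZMod r) := by
  classical
  obtain ⟨σ, hσ, -⟩ := Cfsg.Agent.Helper28.exists_frob hF
  obtain ⟨-, -, hipos, -, -, -, -⟩ := cu_arith hF r hr2 hrp
  obtain ⟨i, hidef⟩ : ∃ i : ℕ, i = orderOf ((Fintype.card F : ℕ) : ZMod r) := ⟨_, rfl⟩
  rw [← hidef] at hipos hbm h2 ⊢
  obtain ⟨t, htdef⟩ : ∃ t : ℕ, t = (r - 1) / i := ⟨_, rfl⟩
  rw [← htdef]
  -- the quotient and remainder
  obtain ⟨n', hn'⟩ : ∃ n' : ℕ, n' = n / i := ⟨_, rfl⟩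
  obtain ⟨k, hk⟩ : ∃ k : ℕ, k = n % i := ⟨_, rfl⟩
  rw [← hn']
  rw [← hk] at h2
  have hdm : i * n' + k = n := by rw [hn', hk]; exact Nat.div_add_mod _ _
  have hklt : k < i := by rw [hk]; exact Nat.mod_lt _ hipos
  have hn'2 : 2 ≤ n' := by
    by_contra hlt
    push Not at hlt
    have : i * n' ≤ i * 1 := Nat.mul_le_mul_left i (by omega)
    omega
  by_contra hcon
  push Not at hcon
  -- the parameters of the model
  obtain ⟨b, κ, hb1, hbd, hb, hbn, hκlt⟩ : ∃ b κ : ℕ, 1 ≤ b ∧ κ + i * b = n ∧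
      (b ≤ t ∨ Even (b - t)) ∧ b ≤ n' ∧ κ < 2 * i := by
    by_cases hnt : n' ≤ t
    · exact ⟨n', k, by omega, by omega, Or.inl hnt, le_refl _, by omega⟩
    · push Not at hnt
      by_cases hpar : Even (n' - t)
      · exact ⟨n', k, by omega, by omega, Or.inr hpar, le_refl _, by omega⟩
      · refine ⟨n' - 1, k + i, by omega, ?_, Or.inr ?_, by omega, by omega⟩
        · have : i * (n' - 1) + i = i * n' := by
            rw [← Nat.mul_succ]; congr 1; omega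
          omega
        · have hodd : Odd (n' - t) := Nat.not_even_iff_odd.mp hpar
          obtain ⟨a, ha⟩ := hodd
          exact ⟨a, by omega⟩
  have hb' : b ≤ (r - 1) / orderOf ((Fintype.card F : ℕ) : ZMod r) ∨
      Even (b - (r - 1) / orderOf ((Fintype.card F : ℕ) : ZMod r)) := by
    rw [← hidef, ← htdef]; exact hb
  obtain ⟨x, hxmem, hx, hx1, hker, hbound⟩ := exists_model_even_u (p := p) hF r hr2 hrp hrq hsd
    n b κ hb1 (by rw [← hidef]; exact hbd) hb'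
  obtain ⟨W, hWm, hWti, hWinv⟩ := hall x hxmem hx hx1
  obtain ⟨h3, -, h5, hY, -⟩ := NECU.fix_eq_mod (p := p) hF σ hσ r hrp n m
    (x : Matrix (Fin n) (Fin n) F) ((mem_SU_iff x).mp hxmem) hx
    (by rw [hker, ← hidef]; exact hκlt) W hWm hWti hWinv
  have h6 := hbound W hWinv hWti
  obtain ⟨-, hsplit, -⟩ := inv_split (p := p) r hrp _ hY.pow W hWinv
  rw [hWm, h3] at h6
  rw [h3, h5, hWm] at hsplit
  rw [← hidef, ← htdef] at h6
  rw [← hidef] at hsplit
  -- m' ≤ (b - t) / 2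
  have hm' : i * (m / i) ≤ i * ((b - t) / 2) := by omega
  have hm'2 : m / i ≤ (b - t) / 2 := Nat.le_of_mul_le_mul_left hm' hipos
  have hmi : 1 ≤ m / i := Nat.div_pos hbm hipos
  omega

end Cfsg.Agent.S5953P
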