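import Mathlib
import Cfsg.Prelude.Def_ClassicalGeometry
import Cfsg.Agent.Helper16.S5955Defs
import Cfsg.Agent.Helper7.S5955MODEL2
import Cfsg.Agent.Helper19.S5955MODELSP

/-!
# S5955, piece MODEL2: the model element of `Sp(2d, q)` for `i` even
-/

set_option autoImplicit false
open scoped MatrixGroups

universe u

namespace Cfsg.Agent.S5955P

open Polynomial Cfsg.Agent.Helper2.SympInvol Cfsg.Agent.Helper2.SympUnits Cfsg.Agent.S5961P

/-- MODEL2 -/
theorem exists_model_even {F : Type*} [Field F] [Fintype F] {p : ℕ} [Fact p.Prime]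
    [CharP F p] (r : ℕ) [Fact r.Prime] (hr2 : r ≠ 2) (hrp : r ≠ p)
    (hev : Even (orderOf ((Fintype.card F : ℕ) : ZMod r))) (d b κ : ℕ) (hb1 : 1 ≤ b)
    (hκ : Even κ) (hd : κ + orderOf ((Fintype.card F : ℕ) : ZMod r) * b = 2 * d)
    (hb : b ≤ (r - 1) / orderOf ((Fintype.card F : ℕ) : ZMod r) ∨
      Even (b - (r - 1) / orderOf ((Fintype.card F : ℕ) : ZMod r))) :
    ∃ x : Matrix.symplecticGroup (Fin d) F,
      (x : Matrix (Fin d ⊕ Fin d) (Fin d ⊕ Fin d) F) ^ r = 1 ∧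
      (x : Matrix (Fin d ⊕ Fin d) (Fin d ⊕ Fin d) F) ≠ 1 ∧
      Module.finrank F (LinearMap.ker (Matrix.toLin'
        (x : Matrix (Fin d ⊕ Fin d) (Fin d ⊕ Fin d) F) - 1)) = κ ∧
      ∀ W : Submodule F (Fin d ⊕ Fin d → F),
        W.map (Matrix.toLin' (x : Matrix (Fin d ⊕ Fin d) (Fin d ⊕ Fin d) F)) ≤ W →
        (∀ u ∈ W, ∀ v ∈ W, Cfsg.sympForm d F u v = 0) →
        Module.finrank F W ≤ Module.finrank F ↥(W ⊓ LinearMap.ker (Matrix.toLin'
          (x : Matrix (Fin d ⊕ Fin d) (Fin d ⊕ Fin d) F) - 1)) +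
          orderOf ((Fintype.card F : ℕ) : ZMod r) *
            ((b - (r - 1) / orderOf ((Fintype.card F : ℕ) : ZMod r)) / 2) :=
  MODEL2.of_space r hr2 hrp hev d b κ hb1 hκ hd hb
    (exists_model_space r hr2 hrp hev b κ hb1 hκ hb)

end Cfsg.Agent.S5955P
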