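import Mathlib
import Cfsg.Prelude.Def_GeometricClasses
import Cfsg.Prelude.Def_Classical
import Cfsg.Prelude.Def_LieClassical
import Cfsg.Agent.Helper6.S5992Defs
import Cfsg.Agent.Helper18.S5961ARITH
import Cfsg.Agent.Helper12.BCGraphO
import Cfsg.Agent.Helper7.S5955MODEL2
import Cfsg.Agent.Helper7.S5992PRODQ
import Cfsg.Agent.Helper7.S5992STDTRANS
import Cfsg.Agent.Helper7.S5992BLOCKSPACE

/-! S5992 piece MODEL: an element of order `r` of `Ω_{2d+1}(q)` with fixed space of dimension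
`(2d+1) % cc F r`. -/

set_option autoImplicit false
open scoped MatrixGroups
universe u

namespace Cfsg.Agent.S5992P

open Cfsg.Agent.Helper2.SympInvol Cfsg.Agent.Helper2.SympUnits Cfsg.Agent.S5961P Cfsg.Agent.S2614
  Cfsg.Agent.S5955P

open Cfsg.Agent.S5955P.MODEL2 in
/-- MODEL -/
theorem exists_model {F : Type*} [Field F] [Fintype F] {p : ℕ} [Fact p.Prime] [CharP F p]
    (h2 : (2 : F) ≠ 0) (r : ℕ) [Fact r.Prime] (hr2 : r ≠ 2) (hrp : r ≠ p) (d : ℕ)
    (hcd : cc F r ≤ 2 * d) :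
    ∃ x : GL (Unit ⊕ (Fin d ⊕ Fin d)) F, x ∈ Cfsg.Geo.omegaGL (Cfsg.quadFormOdd d F) ∧
      orderOf x = r ∧
      Module.finrank F (LinearMap.ker (Matrix.toLin'
        (x : Matrix (Unit ⊕ (Fin d ⊕ Fin d)) (Unit ⊕ (Fin d ⊕ Fin d)) F) - 1)) =
        (2 * d + 1) % cc F r := by
  classical
  have hrp' : r.Prime := Fact.out
  obtain ⟨-, hcpos, -, -, -, -, -, -⟩ := cc_arith (F := F) (p := p) r hr2 hrp
  obtain ⟨E, _, _, _, QE, yE, hE, hfix, hEfr⟩ := exists_block_space (F := F) (p := p) h2 r hr2 hrp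
  obtain ⟨V, _, _, _, Q, y, hY, hfr, hker⟩ :=
    exists_power_space h2 r QE yE hE hfix ((2 * d + 1) % cc F r) ((2 * d + 1) / cc F r)
  have hfrn : Module.finrank F V = 2 * d + 1 := by
    rw [hfr, hEfr]
    exact Nat.mod_add_div' _ _
  obtain ⟨x, e, c, -, hxmem, -, hey⟩ := exists_std_of_space h2 Q y r hY d hfrn
  -- the fixed space
  have hcomp : (Matrix.toLin'
      (x : Matrix (Unit ⊕ (Fin d ⊕ Fin d)) (Unit ⊕ (Fin d ⊕ Fin d)) F) - 1).comp
      (e : V →ₗ[F] (Unit ⊕ (Fin d ⊕ Fin d) → F)) =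
      (e : V →ₗ[F] (Unit ⊕ (Fin d ⊕ Fin d) → F)).comp (y - 1) := by
    apply LinearMap.ext
    intro v
    simp only [LinearMap.comp_apply, LinearMap.sub_apply, LinearEquiv.coe_coe,
      Module.End.one_apply, map_sub]
    rw [hey]
  have hkerx : (LinearMap.ker (Matrix.toLin'
      (x : Matrix (Unit ⊕ (Fin d ⊕ Fin d)) (Unit ⊕ (Fin d ⊕ Fin d)) F) - 1)).comap
      (e : V →ₗ[F] (Unit ⊕ (Fin d ⊕ Fin d) → F)) = LinearMap.ker (y - 1) := by
    rw [← LinearMap.ker_comp, hcomp, LinearMap.ker_comp, LinearEquiv.ker, Submodule.comap_bot]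
  have hkerfr : Module.finrank F (LinearMap.ker (Matrix.toLin'
      (x : Matrix (Unit ⊕ (Fin d ⊕ Fin d)) (Unit ⊕ (Fin d ⊕ Fin d)) F) - 1)) =
      (2 * d + 1) % cc F r := by
    rw [← finrank_comap_equiv e, hkerx, hker]
  -- `x ^ r = 1`
  have hpow : ∀ (k : ℕ) (v : V),
      Matrix.toLin' ((x : Matrix (Unit ⊕ (Fin d ⊕ Fin d)) (Unit ⊕ (Fin d ⊕ Fin d)) F) ^ k)
        (e v) = e ((y ^ k) v) := by
    intro k
    induction k with
    | zero => intro v; simp
    | succ k ih =>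
      intro v
      rw [pow_succ, Matrix.toLin'_mul, LinearMap.comp_apply, ← hey, ih, pow_succ,
        Module.End.mul_apply]
  have hxr' : (x : Matrix (Unit ⊕ (Fin d ⊕ Fin d)) (Unit ⊕ (Fin d ⊕ Fin d)) F) ^ r = 1 := by
    apply Matrix.toLin'.injective
    apply LinearMap.ext
    intro w
    obtain ⟨v, rfl⟩ := e.surjective w
    rw [hpow, hY.pow, Matrix.toLin'_one]
    rfl
  have hxr : x ^ r = 1 := by
    apply Units.ext
    rw [Units.val_pow_eq_pow_val, hxr']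
    rfl
  have hx1 : x ≠ 1 := by
    intro h1
    rw [h1] at hkerfr
    have h3 : Matrix.toLin'
        ((1 : GL (Unit ⊕ (Fin d ⊕ Fin d)) F) :
          Matrix (Unit ⊕ (Fin d ⊕ Fin d)) (Unit ⊕ (Fin d ⊕ Fin d)) F) - 1 = 0 := by
      rw [Units.val_one, Matrix.toLin'_one]
      apply LinearMap.ext
      intro v
      simp
    rw [h3, LinearMap.ker_zero, finrank_top, Module.finrank_fintype_fun_eq_card] at hkerfr
    simp only [Fintype.card_sum, Fintype.card_unique, Fintype.card_fin] at hkerfr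
    have := Nat.mod_lt (2 * d + 1) hcpos
    omega
  have hord : orderOf x = r := orderOf_eq_prime hxr hx1
  refine ⟨x, ?_, hord, hkerfr⟩
  -- membership in `Ω`
  have hodd : Odd (orderOf (⟨x, hxmem⟩ : ↥(Cfsg.isometryGroup F (Cfsg.quadFormOdd d F)))) := by
    have h5 : orderOf (⟨x, hxmem⟩ : ↥(Cfsg.isometryGroup F (Cfsg.quadFormOdd d F))) = r := by
      rw [← Subgroup.orderOf_coe]
      exact hord
    rw [h5]
    exact hrp'.odd_of_ne_two hr2
  have hΩ := Cfsg.Agent.Helper12.BCG.mem_Omega_of_odd' h2 d ⟨x, hxmem⟩ hodd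
  unfold Cfsg.Geo.omegaGL
  rw [Subgroup.mem_map]
  exact ⟨⟨x, hxmem⟩, hΩ, rfl⟩

end Cfsg.Agent.S5992P
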