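import Mathlib
import Cfsg.Prelude.Def_Local
import Cfsg.Agent.Helper7.Layer
import Cfsg.Agent.Helper7.Signalizer2
import Cfsg.Agent.Helper7.ExtLayer

set_option autoImplicit false
set_option linter.style.haveILetI false
set_option linter.unusedSectionVars false

/-! # Standard subgroups: S1306 -/

namespace Cfsg.Agent.Helper7

open Subgroup Cfsg

universe u

/-- Components of a subgroup are transported by isomorphisms of the ambient group. -/
theorem isComponent_subgroupOf_map_equiv {G G' : Type*} [Group G] [Group G'] (e : G ≃* G')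
    {L H : Subgroup G} (hLH : L ≤ H) (hL : IsComponent (L.subgroupOf H)) :
    IsComponent ((L.map (e : G →* G')).subgroupOf (H.map (e : G →* G'))) := by
  have h := isComponent_map_equiv (e.subgroupMap H) hL
  have heq : (L.subgroupOf H).map (e.subgroupMap H).toMonoidHom =
      (L.map (e : G →* G')).subgroupOf (H.map (e : G →* G')) := by
    ext ⟨z, hz⟩
    constructor
    · rintro ⟨h', hh', hz'⟩
      rw [mem_subgroupOf]
      refine ⟨(h' : G), mem_subgroupOf.1 hh', ?_⟩
      have := congrArg Subtype.val hz'
      exact this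
    · intro hmem
      rw [mem_subgroupOf] at hmem
      obtain ⟨l, hl, hlz⟩ := hmem
      refine ⟨⟨l, hLH hl⟩, mem_subgroupOf.2 hl, ?_⟩
      apply Subtype.ext
      exact hlz
  rw [heq] at h
  exact h

theorem isComponent_subgroupOf_map_conj {G : Type*} [Group G] (g : G)
    {L H : Subgroup G} (hLH : L ≤ H) (hL : IsComponent (L.subgroupOf H)) :
    IsComponent ((L.map (MulAut.conj g).toMonoidHom).subgroupOf
      (H.map (MulAut.conj g).toMonoidHom)) :=
  isComponent_subgroupOf_map_equiv (MulAut.conj g) hLH hL

variable {G : Type u} [Group G] [Finite G]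

theorem centralizer_singleton_map_conj (y g : G) :
    (centralizer ({y} : Set G)).map (MulAut.conj g).toMonoidHom =
      centralizer ({g * y * g⁻¹} : Set G) := by
  ext z
  rw [mem_map_conj_iff, mem_centralizer_singleton_iff, mem_centralizer_singleton_iff]
  constructor
  · intro h
    have : g * (g⁻¹ * z * g * y) * g⁻¹ = g * (y * (g⁻¹ * z * g)) * g⁻¹ := by rw [h]
    calc z * (g * y * g⁻¹) = g * (g⁻¹ * z * g * y) * g⁻¹ := by group
      _ = g * (y * (g⁻¹ * z * g)) * g⁻¹ := this
      _ = g * y * g⁻¹ * z := by group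
  · intro h
    calc g⁻¹ * z * g * y = g⁻¹ * (z * (g * y * g⁻¹)) * g := by group
      _ = g⁻¹ * (g * y * g⁻¹ * z) * g := by rw [h]
      _ = y * (g⁻¹ * z * g) := by group

/-- S1306 -/
theorem isStandardSubgroup_of_forall_component (x : G) (hx : orderOf x = 2) (L : Subgroup G)
    (hLx : L ≤ centralizer ({x} : Set G))
    (hL : IsComponent (L.subgroupOf (centralizer ({x} : Set G))))
    (hne : ∀ y : G, orderOf y = 2 → y ∈ centralizer (L : Set G) →
      L ≤ centralizer ({y} : Set G) ∧ IsComponent (L.subgroupOf (centralizer ({y} : Set G))))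
    (hnc : ∀ g : G, L.map (MulAut.conj g).toMonoidHom ≠ L →
      ⁅L, L.map (MulAut.conj g).toMonoidHom⁆ ≠ ⊥) : IsStandardSubgroup L := by
  set K := centralizer (L : Set G) with hK
  have hQ : IsQuasisimple L := isQuasisimple_of_mulEquiv (subgroupOfEquivOfLe hLx) hL.2
  have hxK : x ∈ K := by
    rw [hK, mem_centralizer_iff]
    intro l hl
    exact (mem_centralizer_singleton_iff.1 (hLx hl))
  have hNLK : normalizer (L : Set G) ≤ normalizer (K : Set G) :=
    normalizer_le_normalizer_centralizer L
  have hKmap : ∀ g : G, K.map (MulAut.conj g).toMonoidHom =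
      centralizer ((L.map (MulAut.conj g).toMonoidHom : Subgroup G) : Set G) := fun g =>
    (centralizer_map_equiv (MulAut.conj g) L).symm
  have key : ∀ g y : G, orderOf y = 2 → y ∈ K → y ∈ K.map (MulAut.conj g).toMonoidHom →
      L.map (MulAut.conj g).toMonoidHom = L := by
    intro g y hy hyK hyKg
    by_contra hneq
    apply hnc g hneq
    obtain ⟨hLy, hLcomp⟩ := hne y hy hyK
    have hy' : g⁻¹ * y * g ∈ K := mem_map_conj_iff.1 hyKg
    have hy'ord : orderOf (g⁻¹ * y * g) = 2 := by
      rw [← hy]
      have := orderOf_injective (MulAut.conj g⁻¹).toMonoidHom (MulAut.conj g⁻¹).injective y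
      simpa [MulAut.conj_apply] using this
    obtain ⟨hLy', hLcomp'⟩ := hne _ hy'ord hy'
    have h1 := isComponent_subgroupOf_map_conj g hLy' hLcomp'
    have h2 : (centralizer ({g⁻¹ * y * g} : Set G)).map (MulAut.conj g).toMonoidHom =
        centralizer ({y} : Set G) := by
      rw [centralizer_singleton_map_conj]
      congr 2
      group
    rw [h2] at h1
    have hLgy : L.map (MulAut.conj g).toMonoidHom ≤ centralizer ({y} : Set G) := by
      rw [← h2]; exact map_mono hLy'
    have hne' : L.subgroupOf (centralizer ({y} : Set G)) ≠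
        (L.map (MulAut.conj g).toMonoidHom).subgroupOf (centralizer ({y} : Set G)) := by
      intro heq
      apply hneq
      apply le_antisymm
      · exact (subgroupOf_le_subgroupOf_iff hLgy).1 heq.ge
      · exact (subgroupOf_le_subgroupOf_iff hLy).1 heq.le
    have h3 := components_commute hLcomp h1 hne'
    exact (commutator_subgroupOf_eq_bot_iff hLy hLgy).1 h3
  refine ⟨hQ, ⟨?_, ?_⟩, hnc, ?_⟩
  · have h2 : 2 ∣ Nat.card K := by
      have : orderOf (⟨x, hxK⟩ : K) = 2 := by rw [Subgroup.orderOf_mk]; exact hx
      rw [← this]; exact orderOf_dvd_natCard _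
    exact even_iff_two_dvd.2 h2
  · intro g hg
    by_contra hodd
    rw [Nat.not_odd_iff_even, even_iff_two_dvd] at hodd
    haveI : Fact (Nat.Prime 2) := ⟨Nat.prime_two⟩
    obtain ⟨y, hy⟩ := exists_prime_orderOf_dvd_card' 2 hodd
    have hyord : orderOf (y : G) = 2 := by rw [Subgroup.orderOf_coe]; exact hy
    have := key g y hyord y.2.1 y.2.2
    exact hg (hNLK (mem_normalizer_iff_map_conj_eq'.2 this))
  · apply le_antisymm hNLK
    intro g hg
    have hKg : K.map (MulAut.conj g).toMonoidHom = K := mem_normalizer_iff_map_conj_eq'.1 hg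
    have := key g x hx hxK (by rw [hKg]; exact hxK)
    exact mem_normalizer_iff_map_conj_eq'.2 this

end Cfsg.Agent.Helper7
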