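import Mathlib
import Cfsg.Prelude.Def_Local
import Cfsg.Agent.Helper7.GLComp
import Cfsg.Agent.Helper7.TransvCent
import Cfsg.Agent.Helper7.Standard

set_option autoImplicit false
set_option linter.style.haveILetI false
set_option linter.unusedSectionVars false

/-! # The hyperplane involution of `SL_n(F)` and its standard component (S1348) -/

namespace Cfsg.Agent.Helper7

open Matrix Subgroup Cfsg

section BlkL

variable {F : Type*} [Field F] {m : ℕ}

/-- The block matrix `diag(A, 1)`. -/
def blkL (A : Matrix (Fin m) (Fin m) F) : Matrix (Fin (m + 1)) (Fin (m + 1)) F :=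
  fun i j => Fin.lastCases (Fin.lastCases 1 (fun _ => 0) j)
    (fun i' => Fin.lastCases 0 (fun j' => A i' j') j) i

@[simp] theorem blkL_last_last (A : Matrix (Fin m) (Fin m) F) :
    blkL A (Fin.last m) (Fin.last m) = 1 := by
  simp [blkL]
@[simp] theorem blkL_last_castSucc (A : Matrix (Fin m) (Fin m) F) (j : Fin m) :
    blkL A (Fin.last m) j.castSucc = 0 := by
  simp [blkL]
@[simp] theorem blkL_castSucc_last (A : Matrix (Fin m) (Fin m) F) (i : Fin m) :
    blkL A i.castSucc (Fin.last m) = 0 := by
  simp [blkL]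
@[simp] theorem blkL_castSucc_castSucc (A : Matrix (Fin m) (Fin m) F) (i j : Fin m) :
    blkL A i.castSucc j.castSucc = A i j := by
  simp [blkL]

theorem blkL_mul (A B : Matrix (Fin m) (Fin m) F) : blkL (A * B) = blkL A * blkL B := by
  ext i j
  rw [Matrix.mul_apply, Fin.sum_univ_castSucc]
  refine Fin.lastCases ?_ (fun i' => ?_) i <;> refine Fin.lastCases ?_ (fun j' => ?_) j <;>
    simp [Matrix.mul_apply]

theorem blkL_one : blkL (1 : Matrix (Fin m) (Fin m) F) = 1 := by
  ext i j
  refine Fin.lastCases ?_ (fun i' => ?_) i <;> refine Fin.lastCases ?_ (fun j' => ?_) j <;>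
    simp [Matrix.one_apply, Fin.castSucc_ne_last, (Fin.castSucc_ne_last _).symm]

theorem det_of_blockL {M : Matrix (Fin (m + 1)) (Fin (m + 1)) F}
    (h0 : ∀ j : Fin m, M (Fin.last m) j.castSucc = 0) :
    M.det = M (Fin.last m) (Fin.last m) * (M.submatrix Fin.castSucc Fin.castSucc).det := by
  rw [Matrix.det_succ_row M (Fin.last m), Fin.sum_univ_castSucc]
  have : ∑ j : Fin m, (-1 : F) ^ ((Fin.last m : ℕ) + ((j.castSucc : Fin (m + 1)) : ℕ)) *
      M (Fin.last m) j.castSucc *
      (M.submatrix (Fin.last m).succAbove (j.castSucc).succAbove).det = 0 := by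
    apply Finset.sum_eq_zero
    intro j _
    rw [h0 j]; ring
  rw [this, zero_add, Fin.succAbove_last]
  have h1 : (-1 : F) ^ ((Fin.last m : ℕ) + ((Fin.last m : Fin (m + 1)) : ℕ)) = 1 :=
    Even.neg_one_pow ⟨_, rfl⟩
  rw [h1, one_mul]

theorem det_blkL (A : Matrix (Fin m) (Fin m) F) : (blkL A).det = A.det := by
  rw [det_of_blockL (fun j => blkL_last_castSucc A j), blkL_last_last, one_mul]
  congr 1
  ext i j
  simp

theorem eq_blkL_of_block {M : Matrix (Fin (m + 1)) (Fin (m + 1)) F}
    (h00 : M (Fin.last m) (Fin.last m) = 1) (h0 : ∀ j : Fin m, M (Fin.last m) j.castSucc = 0)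
    (h1 : ∀ i : Fin m, M i.castSucc (Fin.last m) = 0) :
    M = blkL (M.submatrix Fin.castSucc Fin.castSucc) := by
  ext i j
  refine Fin.lastCases ?_ (fun i' => ?_) i <;> refine Fin.lastCases ?_ (fun j' => ?_) j <;>
    simp [h00, h0, h1]

end BlkL

section Main

variable {F : Type*} [Field F] {m : ℕ}

/-- The block embedding `SL_m(F) → SL_{m+1}(F)`, `A ↦ diag(A, 1)`. -/
def iotaL : Matrix.SpecialLinearGroup (Fin m) F →* Matrix.SpecialLinearGroup (Fin (m + 1)) F where
  toFun A := ⟨blkL A.val, by rw [det_blkL]; exact A.2⟩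
  map_one' := Subtype.ext blkL_one
  map_mul' A B := Subtype.ext (blkL_mul A.val B.val)

theorem iotaL_val (A : Matrix.SpecialLinearGroup (Fin m) F) : (iotaL A).val = blkL A.val := rfl

theorem iotaL_injective : Function.Injective (iotaL (F := F) (m := m)) := by
  intro A B h
  have h' : blkL A.val = blkL B.val := by rw [← iotaL_val, ← iotaL_val, h]
  apply Subtype.ext
  ext i j
  have := congrFun (congrFun h' i.castSucc) j.castSucc
  simpa using this

/-- The diagonal entries `(-1, …, -1, 1)`. -/
def tLdiag (F : Type*) [Field F] (m : ℕ) : Fin (m + 1) → F :=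
  fun i => if (i : ℕ) + 1 = m + 1 then 1 else -1

@[simp] theorem tLdiag_last : tLdiag F m (Fin.last m) = 1 := by
  simp [tLdiag]

@[simp] theorem tLdiag_castSucc (i : Fin m) : tLdiag F m i.castSucc = -1 := by
  have : ¬ (((i.castSucc : Fin (m + 1)) : ℕ) + 1 = m + 1) := by
    have := i.2
    simp only [Fin.val_castSucc]
    omega
  unfold tLdiag
  rw [if_neg this]

variable {t : Matrix.SpecialLinearGroup (Fin (m + 1)) F}

theorem centralizer_entry_castSucc_last (h2 : (2 : F) ≠ 0)
    (ht : t.val = Matrix.diagonal (tLdiag F m))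
    {c : Matrix.SpecialLinearGroup (Fin (m + 1)) F}
    (hc : c ∈ centralizer ({t} : Set (Matrix.SpecialLinearGroup (Fin (m + 1)) F)))
    (i : Fin m) : c.val i.castSucc (Fin.last m) = 0 := by
  have h := mem_centralizer_singleton_iff.1 hc
  have h' := congrArg (fun g : Matrix.SpecialLinearGroup (Fin (m + 1)) F =>
    g.val i.castSucc (Fin.last m)) h
  simp only [Matrix.SpecialLinearGroup.coe_mul, ht, Matrix.mul_diagonal, Matrix.diagonal_mul,
    tLdiag_last, tLdiag_castSucc] at h'
  have : (2 : F) * c.val i.castSucc (Fin.last m) = 0 := by linear_combination h'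
  rcases mul_eq_zero.1 this with h | h
  · exact absurd h h2
  · exact h

theorem centralizer_entry_last_castSucc (h2 : (2 : F) ≠ 0)
    (ht : t.val = Matrix.diagonal (tLdiag F m))
    {c : Matrix.SpecialLinearGroup (Fin (m + 1)) F}
    (hc : c ∈ centralizer ({t} : Set (Matrix.SpecialLinearGroup (Fin (m + 1)) F)))
    (j : Fin m) : c.val (Fin.last m) j.castSucc = 0 := by
  have h := mem_centralizer_singleton_iff.1 hc
  have h' := congrArg (fun g : Matrix.SpecialLinearGroup (Fin (m + 1)) F =>
    g.val (Fin.last m) j.castSucc) h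
  simp only [Matrix.SpecialLinearGroup.coe_mul, ht, Matrix.mul_diagonal, Matrix.diagonal_mul,
    tLdiag_last, tLdiag_castSucc] at h'
  have : (2 : F) * c.val (Fin.last m) j.castSucc = 0 := by linear_combination -h'
  rcases mul_eq_zero.1 this with h | h
  · exact absurd h h2
  · exact h

/-- `c ↦ c_{last,last}` on the centralizer of `t`. -/
def psiL (h2 : (2 : F) ≠ 0) (ht : t.val = Matrix.diagonal (tLdiag F m)) :
    ↥(centralizer ({t} : Set (Matrix.SpecialLinearGroup (Fin (m + 1)) F))) →* F where
  toFun c := c.val.val (Fin.last m) (Fin.last m)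
  map_one' := by simp
  map_mul' := fun c c' => by
    show (c.val.val * c'.val.val) (Fin.last m) (Fin.last m) =
      c.val.val (Fin.last m) (Fin.last m) * c'.val.val (Fin.last m) (Fin.last m)
    rw [Matrix.mul_apply, Fin.sum_univ_castSucc]
    have : ∑ k : Fin m, c.val.val (Fin.last m) k.castSucc * c'.val.val k.castSucc (Fin.last m)
        = 0 :=
      Finset.sum_eq_zero (fun k _ => by
        rw [centralizer_entry_last_castSucc h2 ht c.2 k]; ring)
    rw [this, zero_add]

theorem iotaL_mem_centralizer (ht : t.val = Matrix.diagonal (tLdiag F m))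
    (A : Matrix.SpecialLinearGroup (Fin m) F) :
    iotaL A ∈ centralizer ({t} : Set (Matrix.SpecialLinearGroup (Fin (m + 1)) F)) := by
  rw [mem_centralizer_singleton_iff]
  apply Subtype.ext
  rw [Matrix.SpecialLinearGroup.coe_mul, Matrix.SpecialLinearGroup.coe_mul, iotaL_val, ht]
  ext i j
  rw [Matrix.mul_diagonal, Matrix.diagonal_mul]
  refine Fin.lastCases ?_ (fun i' => ?_) i <;> refine Fin.lastCases ?_ (fun j' => ?_) j <;> simp

theorem range_iotaL_le (ht : t.val = Matrix.diagonal (tLdiag F m)) :
    (iotaL (F := F) (m := m)).range ≤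
      centralizer ({t} : Set (Matrix.SpecialLinearGroup (Fin (m + 1)) F)) := by
  rintro _ ⟨A, rfl⟩
  exact iotaL_mem_centralizer ht A

theorem range_iotaL_subgroupOf (h2 : (2 : F) ≠ 0) (ht : t.val = Matrix.diagonal (tLdiag F m)) :
    (iotaL (F := F) (m := m)).range.subgroupOf
      (centralizer ({t} : Set (Matrix.SpecialLinearGroup (Fin (m + 1)) F))) =
      (psiL h2 ht).ker := by
  ext c
  rw [mem_subgroupOf, MonoidHom.mem_range, MonoidHom.mem_ker]
  constructor
  · rintro ⟨A, hA⟩
    show c.val.val (Fin.last m) (Fin.last m) = 1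
    rw [← hA, iotaL_val, blkL_last_last]
  · intro h
    have h00 : c.val.val (Fin.last m) (Fin.last m) = 1 := h
    have h0 := centralizer_entry_last_castSucc h2 ht c.2
    have h1 := centralizer_entry_castSucc_last h2 ht c.2
    have heq := eq_blkL_of_block h00 h0 h1
    have hd : (c.val.val.submatrix Fin.castSucc Fin.castSucc).det = 1 := by
      rw [← det_blkL, ← heq]; exact c.val.2
    let B : Matrix.SpecialLinearGroup (Fin m) F :=
      ⟨c.val.val.submatrix Fin.castSucc Fin.castSucc, hd⟩
    refine ⟨B, ?_⟩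
    apply Subtype.ext
    rw [iotaL_val]
    exact heq.symm

theorem blkL_transvection (i j : Fin m) (c : F) :
    blkL (Matrix.transvection i j c) = Matrix.transvection i.castSucc j.castSucc c := by
  ext a b
  refine Fin.lastCases ?_ (fun a' => ?_) a <;> refine Fin.lastCases ?_ (fun b' => ?_) b <;>
    simp [Matrix.transvection, Matrix.single_apply, Matrix.one_apply, Fin.castSucc_ne_last,
      (Fin.castSucc_ne_last _).symm]

/-- The transvection `1 + E_{ij}` of `SL_m(F)`. -/
def transvSL {i j : Fin m} (hij : i ≠ j) : Matrix.SpecialLinearGroup (Fin m) F :=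
  ⟨Matrix.transvection i j 1, Matrix.det_transvection_of_ne i j hij 1⟩

theorem commute_transvection_of_mem_centralizer
    {g : Matrix.SpecialLinearGroup (Fin (m + 1)) F}
    (hg : g ∈ centralizer ((iotaL (F := F) (m := m)).range : Set _)) {i j : Fin m} (hij : i ≠ j) :
    g.val * Matrix.transvection i.castSucc j.castSucc 1 =
      Matrix.transvection i.castSucc j.castSucc 1 * g.val := by
  have h := mem_centralizer_iff.1 hg (iotaL (transvSL hij)) ⟨_, rfl⟩
  have h' := congrArg (fun x : Matrix.SpecialLinearGroup (Fin (m + 1)) F => x.val) h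
  simp only [Matrix.SpecialLinearGroup.coe_mul, iotaL_val] at h'
  have h3 : (transvSL (F := F) hij).val = Matrix.transvection i j 1 := rfl
  rw [h3, blkL_transvection] at h'
  exact h'.symm

/-- Elements centralising the block `SL_m(F)` are of the form `diag(μ, …, μ, λ)`. -/
theorem val_of_mem_centralizer_range_iotaL (hm : 2 ≤ m)
    {g : Matrix.SpecialLinearGroup (Fin (m + 1)) F}
    (hg : g ∈ centralizer ((iotaL (F := F) (m := m)).range : Set _)) :
    ∃ μ lam : F, g.val = Matrix.diagonal (Fin.lastCases lam (fun _ => μ)) := by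
  have hex : ∀ i : Fin m, ∃ j : Fin m, j ≠ i := by
    intro i
    by_cases h0 : (i : ℕ) = 0
    · refine ⟨⟨1, by omega⟩, ?_⟩
      intro h
      have := congrArg Fin.val h
      simp at this
      omega
    · refine ⟨⟨0, by omega⟩, ?_⟩
      intro h
      have := congrArg Fin.val h
      simp at this
      omega
  -- off-diagonal entries vanish
  have hcol : ∀ (i : Fin m) (k : Fin (m + 1)), k ≠ i.castSucc → g.val k i.castSucc = 0 := by
    intro i k hk
    obtain ⟨j, hj⟩ := hex i
    exact (entries_of_commute_transvection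
      (commute_transvection_of_mem_centralizer hg (Ne.symm hj))).1 k hk
  have hrow : ∀ (j : Fin m) (l : Fin (m + 1)), l ≠ j.castSucc → g.val j.castSucc l = 0 := by
    intro j l hl
    obtain ⟨i, hi⟩ := hex j
    exact (entries_of_commute_transvection
      (commute_transvection_of_mem_centralizer hg hi)).2.1 l hl
  have hdiag : ∀ i j : Fin m, g.val i.castSucc i.castSucc = g.val j.castSucc j.castSucc := by
    intro i j
    by_cases hij : i = j
    · rw [hij]
    · exact (entries_of_commute_transvection
        (commute_transvection_of_mem_centralizer hg hij)).2.2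
  have i0 : Fin m := ⟨0, by omega⟩
  refine ⟨g.val i0.castSucc i0.castSucc, g.val (Fin.last m) (Fin.last m), ?_⟩
  ext a b
  rw [Matrix.diagonal_apply]
  refine Fin.lastCases ?_ (fun a' => ?_) a <;> refine Fin.lastCases ?_ (fun b' => ?_) b
  · simp
  · rw [if_neg (Fin.castSucc_ne_last b').symm]
    exact hcol b' _ (Fin.castSucc_ne_last b').symm
  · rw [if_neg (Fin.castSucc_ne_last a')]
    exact hrow a' _ (Fin.castSucc_ne_last a').symm
  · by_cases hab : a' = b'
    · subst hab
      simp only [if_true, Fin.lastCases_castSucc]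
      exact hdiag a' i0
    · have hab' : a'.castSucc ≠ b'.castSucc := fun h => hab (Fin.castSucc_injective _ h)
      rw [if_neg hab']
      exact hcol b' _ hab'

theorem eq_of_involution_mem_centralizer_range_iotaL (hm : 2 ≤ m) (hmeven : Even m)
    (ht : t.val = Matrix.diagonal (tLdiag F m))
    {g : Matrix.SpecialLinearGroup (Fin (m + 1)) F}
    (hg : g ∈ centralizer ((iotaL (F := F) (m := m)).range : Set _)) (hg2 : orderOf g = 2) :
    g = t := by
  obtain ⟨μ, lam, hval⟩ := val_of_mem_centralizer_range_iotaL hm hg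
  have i0 : Fin m := ⟨0, by omega⟩
  have hsq : g * g = 1 := by rw [← sq, ← hg2, pow_orderOf_eq_one]
  have hsq' : g.val * g.val = 1 := by
    have := congrArg (fun x : Matrix.SpecialLinearGroup (Fin (m + 1)) F => x.val) hsq
    simpa using this
  rw [hval, Matrix.diagonal_mul_diagonal] at hsq'
  have hμ : μ * μ = 1 := by
    have := congrFun (congrFun hsq' i0.castSucc) i0.castSucc
    simpa using this
  have hlam : lam * lam = 1 := by
    have := congrFun (congrFun hsq' (Fin.last m)) (Fin.last m)
    simpa using this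
  have hdet : μ ^ m * lam = 1 := by
    have := g.2
    rw [hval, Matrix.det_diagonal, Fin.prod_univ_castSucc] at this
    simpa using this
  have hμm : μ ^ m = 1 := by
    obtain ⟨k, hk⟩ := hmeven
    rw [hk, ← two_mul, pow_mul, sq, hμ, one_pow]
  have hlam1 : lam = 1 := by rw [hμm, one_mul] at hdet; exact hdet
  have hμ' : μ = 1 ∨ μ = -1 := by
    have : (μ - 1) * (μ + 1) = 0 := by linear_combination hμ
    rcases mul_eq_zero.1 this with h | h
    · left; linear_combination h
    · right; linear_combination h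
  rcases hμ' with h | h
  · exfalso
    have : g = 1 := by
      apply Subtype.ext
      rw [hval, h, hlam1]
      ext a b
      rw [Matrix.diagonal_apply, Matrix.SpecialLinearGroup.coe_one, Matrix.one_apply]
      refine Fin.lastCases ?_ (fun a' => ?_) a <;> simp
    rw [this, orderOf_one] at hg2
    omega
  · apply Subtype.ext
    rw [hval, ht, h, hlam1]
    congr 1
    ext a
    refine Fin.lastCases ?_ (fun a' => ?_) a <;> simp

theorem commute_of_mem_centralizer_range_iotaL (hm : 2 ≤ m)
    {g h : Matrix.SpecialLinearGroup (Fin (m + 1)) F}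
    (hg : g ∈ centralizer ((iotaL (F := F) (m := m)).range : Set _))
    (hh : h ∈ centralizer ((iotaL (F := F) (m := m)).range : Set _)) : g * h = h * g := by
  obtain ⟨μ, lam, hval⟩ := val_of_mem_centralizer_range_iotaL hm hg
  obtain ⟨μ', lam', hval'⟩ := val_of_mem_centralizer_range_iotaL hm hh
  apply Subtype.ext
  rw [Matrix.SpecialLinearGroup.coe_mul, Matrix.SpecialLinearGroup.coe_mul, hval, hval',
    Matrix.diagonal_mul_diagonal, Matrix.diagonal_mul_diagonal]
  congr 1
  ext a
  exact mul_comm _ _

theorem orderOf_eq_two_of_val (h2 : (2 : F) ≠ 0) (hm : 1 ≤ m)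
    (ht : t.val = Matrix.diagonal (tLdiag F m)) : orderOf t = 2 := by
  apply orderOf_eq_prime
  · apply Subtype.ext
    rw [sq, Matrix.SpecialLinearGroup.coe_mul, ht, Matrix.diagonal_mul_diagonal,
      Matrix.SpecialLinearGroup.coe_one, ← Matrix.diagonal_one]
    congr 1
    ext a
    refine Fin.lastCases ?_ (fun a' => ?_) a <;> simp
  · intro h
    have i0 : Fin m := ⟨0, by omega⟩
    have h' := congrArg (fun A : Matrix.SpecialLinearGroup (Fin (m + 1)) F =>
      A.val i0.castSucc i0.castSucc) h
    simp only [ht, Matrix.diagonal_apply_eq, tLdiag_castSucc, Matrix.SpecialLinearGroup.coe_one,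
      Matrix.one_apply_eq] at h'
    apply h2
    have h3 : (2 : F) = 1 - (-1) := by ring
    rw [h3, h']; ring

end Main

section Final

variable {F : Type*} [Field F] [Fintype F] {m : ℕ}
  {t : Matrix.SpecialLinearGroup (Fin (m + 1)) F}

theorem layer_centralizer_eq_range_iotaL (hF : Odd (Fintype.card F)) (hm : 3 ≤ m)
    (ht : t.val = Matrix.diagonal (tLdiag F m)) :
    IsComponent ((iotaL (F := F) (m := m)).range.subgroupOf
      (centralizer ({t} : Set (Matrix.SpecialLinearGroup (Fin (m + 1)) F)))) ∧
    (layer ↥(centralizer ({t} : Set (Matrix.SpecialLinearGroup (Fin (m + 1)) F)))).map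
      (centralizer ({t} : Set (Matrix.SpecialLinearGroup (Fin (m + 1)) F))).subtype =
      (iotaL (F := F) (m := m)).range := by
  have h2 : (2 : F) ≠ 0 := two_ne_zero_of_odd_card hF
  set C := centralizer ({t} : Set (Matrix.SpecialLinearGroup (Fin (m + 1)) F)) with hC
  set L₀ := (iotaL (F := F) (m := m)).range with hL₀
  have hL₀C : L₀ ≤ C := range_iotaL_le ht
  have hker : L₀.subgroupOf C = (psiL h2 ht).ker := range_iotaL_subgroupOf h2 ht
  have hqSL : IsQuasisimple (Matrix.SpecialLinearGroup (Fin m) F) :=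
    isQuasisimple_SL (by omega) (by omega)
  have hqL₀ : IsQuasisimple ↥L₀ :=
    isQuasisimple_of_mulEquiv (MonoidHom.ofInjective iotaL_injective) hqSL
  have hqL₀C : IsQuasisimple ↥(L₀.subgroupOf C) :=
    isQuasisimple_of_mulEquiv (subgroupOfEquivOfLe hL₀C).symm hqL₀
  have hn : (L₀.subgroupOf C).Normal := by rw [hker]; exact MonoidHom.normal_ker _
  have hcomp : IsComponent (L₀.subgroupOf C) := ⟨hn.isSubnormal, hqL₀C⟩
  refine ⟨hcomp, ?_⟩
  have hlayer : layer ↥C = L₀.subgroupOf C := by
    apply le_antisymm _ (IsComponent.le_layer hcomp)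
    rw [layer_le_iff]
    intro K hK
    rw [hker, ← IsComponent.commutator_eq hK, commutator_le]
    intro a _ b _
    rw [MonoidHom.mem_ker, commutatorElement_def, map_mul, map_mul, map_mul]
    have ha : (psiL h2 ht) a * (psiL h2 ht) a⁻¹ = 1 := by rw [← map_mul, mul_inv_cancel, map_one]
    have hb : (psiL h2 ht) b * (psiL h2 ht) b⁻¹ = 1 := by rw [← map_mul, mul_inv_cancel, map_one]
    calc (psiL h2 ht) a * (psiL h2 ht) b * (psiL h2 ht) a⁻¹ * (psiL h2 ht) b⁻¹
        = ((psiL h2 ht) a * (psiL h2 ht) a⁻¹) * ((psiL h2 ht) b * (psiL h2 ht) b⁻¹) := by ring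
      _ = 1 := by rw [ha, hb, one_mul]
  rw [hlayer, subgroupOf_map_subtype, inf_eq_left.2 hL₀C]

/-- **S1348**, with `n = m + 1`. -/
theorem isStandardSubgroup_layer_centralizer_SL (hF : Odd (Fintype.card F)) (hm : 3 ≤ m)
    (hmeven : Even m) (ht : t.val = Matrix.diagonal (tLdiag F m)) :
    IsStandardSubgroup
      ((layer ↥(centralizer ({t} : Set (Matrix.SpecialLinearGroup (Fin (m + 1)) F)))).map
        (centralizer ({t} : Set (Matrix.SpecialLinearGroup (Fin (m + 1)) F))).subtype) := by
  have h2 : (2 : F) ≠ 0 := two_ne_zero_of_odd_card hF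
  obtain ⟨hcomp, hlayer⟩ := layer_centralizer_eq_range_iotaL hF hm ht
  rw [hlayer]
  set L₀ := (iotaL (F := F) (m := m)).range with hL₀
  have hL₀C : L₀ ≤ centralizer ({t} : Set (Matrix.SpecialLinearGroup (Fin (m + 1)) F)) :=
    range_iotaL_le ht
  have ht2 : orderOf t = 2 := orderOf_eq_two_of_val h2 (by omega) ht
  have hqL₀ : IsQuasisimple ↥L₀ :=
    isQuasisimple_of_mulEquiv (subgroupOfEquivOfLe hL₀C) hcomp.2
  apply isStandardSubgroup_of_forall_component t ht2 L₀ hL₀C hcomp
  · intro y hy hyc
    have : y = t := eq_of_involution_mem_centralizer_range_iotaL (by omega) hmeven ht hyc hy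
    subst this
    exact ⟨hL₀C, hcomp⟩
  · intro g hne hbot
    rw [commutator_comm, commutator_eq_bot_iff_le_centralizer] at hbot
    apply IsQuasisimple.not_isMulCommutative hqL₀
    refine ⟨⟨fun a b => ?_⟩⟩
    have ha : (MulAut.conj g) (a : Matrix.SpecialLinearGroup (Fin (m + 1)) F) ∈
        L₀.map (MulAut.conj g).toMonoidHom := mem_map_of_mem _ a.2
    have hb : (MulAut.conj g) (b : Matrix.SpecialLinearGroup (Fin (m + 1)) F) ∈
        L₀.map (MulAut.conj g).toMonoidHom := mem_map_of_mem _ b.2
    have hcomm := commute_of_mem_centralizer_range_iotaL (by omega) (hbot ha) (hbot hb)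
    rw [← map_mul, ← map_mul] at hcomm
    apply Subtype.ext
    exact (MulAut.conj g).injective hcomm

end Final

end Cfsg.Agent.Helper7
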