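import Mathlib
import Cfsg.Prelude.Def_GeometricClasses
import Cfsg.Agent.Helper7.GUr1

set_option autoImplicit false
set_option linter.unusedSectionVars false
set_option linter.style.haveILetI false

/-! Symplectic similarity groups given by abstract forms: Gram matrix and characteristic polynomial
symmetry. -/

namespace Cfsg.Agent.Helper7.SpDer

open Matrix Polynomial Cfsg.Geo

variable {F : Type*} [Field F] {n : ℕ} {f : (Fin n → F) → (Fin n → F) → F}

/-- the bilinear form attached to a symplectic form given as a function. -/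
noncomputable def bil (hf : IsSymplecticForm f) : LinearMap.BilinForm F (Fin n → F) :=
  LinearMap.mk₂ F f hf.bilinear.add_left hf.bilinear.smul_left hf.bilinear.add_right
    hf.bilinear.smul_right

theorem bil_apply (hf : IsSymplecticForm f) (u v : Fin n → F) : bil hf u v = f u v := rfl

/-- the Gram matrix. -/
noncomputable def gram (hf : IsSymplecticForm f) : Matrix (Fin n) (Fin n) F :=
  LinearMap.BilinForm.toMatrix' (bil hf)

theorem form_eq_gram (hf : IsSymplecticForm f) (u v : Fin n → F) :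
    f u v = u ⬝ᵥ (gram hf *ᵥ v) := by
  rw [← bil_apply hf, ← Matrix.toBilin'_apply', gram, Matrix.toBilin'_toMatrix']

theorem bil_nondegenerate (hf : IsSymplecticForm f) : (bil hf).Nondegenerate := by
  constructor
  · intro v hv
    by_contra hv0
    obtain ⟨-, ⟨x, hx⟩⟩ := hf.nondegenerate v hv0
    exact hx (hv x)
  · intro v hv
    by_contra hv0
    obtain ⟨⟨x, hx⟩, -⟩ := hf.nondegenerate v hv0
    exact hx (hv x)

theorem gram_det_ne_zero (hf : IsSymplecticForm f) : (gram hf).det ≠ 0 := by
  have h1 := bil_nondegenerate hf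
  rw [← LinearMap.BilinForm.nondegenerate_toMatrix'_iff, Matrix.nondegenerate_iff_det_ne_zero] at h1
  exact h1

theorem gram_transpose (hf : IsSymplecticForm f) : (gram hf)ᵀ = -gram hf := by
  ext i j
  rw [Matrix.transpose_apply, Matrix.neg_apply, gram, LinearMap.BilinForm.toMatrix'_apply,
    LinearMap.BilinForm.toMatrix'_apply, bil_apply, bil_apply]
  exact hf.skew _ _

/-- a matrix identity from a similarity. -/
theorem gram_of_sim (hf : IsSymplecticForm f) (g : Matrix (Fin n) (Fin n) F) (c : F)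
    (h : ∀ u v, f (g *ᵥ u) (g *ᵥ v) = c * f u v) : gᵀ * gram hf * g = c • gram hf := by
  have h1 : (bil hf).comp (Matrix.toLin' g) (Matrix.toLin' g) = c • bil hf := by
    apply LinearMap.ext
    intro u
    apply LinearMap.ext
    intro v
    simp only [LinearMap.BilinForm.comp_apply, Matrix.toLin'_apply, bil_apply,
      LinearMap.smul_apply, smul_eq_mul]
    exact h u v
  have h2 := congrArg LinearMap.BilinForm.toMatrix' h1
  rw [LinearMap.BilinForm.toMatrix'_comp, LinearMap.toMatrix'_toLin', map_smul] at h2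
  exact h2

/-- a similarity `g` with multiplier `c` has the same characteristic polynomial as `c • g⁻¹`. -/
theorem charpoly_of_sim (hf : IsSymplecticForm f) (g : GL (Fin n) F) (c : F)
    (h : ∀ u v, f ((g : Matrix (Fin n) (Fin n) F) *ᵥ u) ((g : Matrix (Fin n) (Fin n) F) *ᵥ v) =
      c * f u v) :
    (g : Matrix (Fin n) (Fin n) F).charpoly =
      (c • ((g⁻¹ : GL (Fin n) F) : Matrix (Fin n) (Fin n) F)).charpoly := by
  have h1 := gram_of_sim hf _ c h
  have hG : IsUnit (gram hf) := (Matrix.isUnit_iff_isUnit_det _).2 (isUnit_iff_ne_zero.2 (gram_det_ne_zero hf))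
  obtain ⟨U, hU⟩ := hG
  have hgi : (g : Matrix (Fin n) (Fin n) F) * ((g⁻¹ : GL (Fin n) F) : Matrix (Fin n) (Fin n) F) = 1 := by
    rw [← Units.val_mul, mul_inv_cancel, Units.val_one]
  have h2 : (g : Matrix (Fin n) (Fin n) F)ᵀ =
      (U : Matrix (Fin n) (Fin n) F) * (c • ((g⁻¹ : GL (Fin n) F) : Matrix (Fin n) (Fin n) F)) *
        ((U⁻¹ : (Matrix (Fin n) (Fin n) F)ˣ) : Matrix (Fin n) (Fin n) F) := by
    have h3 : (g : Matrix (Fin n) (Fin n) F)ᵀ * (U : Matrix (Fin n) (Fin n) F) =
        (U : Matrix (Fin n) (Fin n) F) * (c • ((g⁻¹ : GL (Fin n) F) : Matrix (Fin n) (Fin n) F)) := by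
      rw [hU]
      calc (g : Matrix (Fin n) (Fin n) F)ᵀ * gram hf
          = (g : Matrix (Fin n) (Fin n) F)ᵀ * gram hf * ((g : Matrix (Fin n) (Fin n) F) *
              ((g⁻¹ : GL (Fin n) F) : Matrix (Fin n) (Fin n) F)) := by rw [hgi, mul_one]
        _ = ((g : Matrix (Fin n) (Fin n) F)ᵀ * gram hf * (g : Matrix (Fin n) (Fin n) F)) *
              ((g⁻¹ : GL (Fin n) F) : Matrix (Fin n) (Fin n) F) := by rw [mul_assoc, mul_assoc, mul_assoc]
        _ = gram hf * (c • ((g⁻¹ : GL (Fin n) F) : Matrix (Fin n) (Fin n) F)) := by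
            rw [h1, Matrix.smul_mul, Matrix.mul_smul]
    calc (g : Matrix (Fin n) (Fin n) F)ᵀ
        = (g : Matrix (Fin n) (Fin n) F)ᵀ * ((U : Matrix (Fin n) (Fin n) F) *
            ((U⁻¹ : (Matrix (Fin n) (Fin n) F)ˣ) : Matrix (Fin n) (Fin n) F)) := by
          rw [← Units.val_mul, mul_inv_cancel, Units.val_one, mul_one]
      _ = _ := by rw [← mul_assoc, h3]
  rw [← Matrix.charpoly_transpose, h2, Matrix.coe_units_inv U, Matrix.charpoly_units_conj]

end Cfsg.Agent.Helper7.SpDer
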