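import Mathlib
import Cfsg.Agent.Helper7.SpDer1
import Cfsg.Agent.Helper12.SympConjI

set_option autoImplicit false
set_option linter.unusedSectionVars false
set_option linter.style.haveILetI false

/-! A nondegenerate alternating form over a finite field is equivalent to the standard one. -/

namespace Cfsg.Agent.Helper7.SpDer

open Matrix Polynomial Cfsg.Geo

universe u

variable {F : Type u} [Field F] [Finite F] {n : ℕ} {f : (Fin n → F) → (Fin n → F) → F}

theorem bil_isAlt (hf : IsSymplecticForm f) : (bil hf).IsAlt := hf.alternating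

/-- the standard alternating form. -/
noncomputable def stdBil (m : ℕ) : LinearMap.BilinForm F (Fin m ⊕ Fin m → F) :=
  Matrix.toBilin' (Matrix.J (Fin m) F)

theorem stdBil_isAlt (m : ℕ) : (stdBil (F := F) m).IsAlt := by
  intro x
  have h1 : stdBil (F := F) m x x = x ⬝ᵥ (Matrix.J (Fin m) F *ᵥ x) := Matrix.toBilin'_apply' _ _ _
  have h2 : x ⬝ᵥ (Matrix.J (Fin m) F *ᵥ x) = - (x ⬝ᵥ (Matrix.J (Fin m) F *ᵥ x)) := by
    conv_lhs => rw [Matrix.dotProduct_mulVec, dotProduct_comm, ← Matrix.mulVec_transpose,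
      Matrix.J_transpose, Matrix.neg_mulVec, dotProduct_neg]
  rw [h1]
  -- direct computation: J = [[0,-1],[1,0]]
  simp only [Matrix.J, Matrix.mulVec, dotProduct, Fintype.sum_sum_type, Matrix.fromBlocks_apply₁₁,
    Matrix.fromBlocks_apply₁₂, Matrix.fromBlocks_apply₂₁, Matrix.fromBlocks_apply₂₂,
    Matrix.zero_apply, Matrix.neg_apply, Matrix.one_apply, zero_mul]
  simp only [neg_mul, ite_mul, one_mul, zero_mul, Finset.sum_neg_distrib, Finset.sum_ite_eq,
    Finset.mem_univ, if_true]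
  rw [← Finset.sum_add_distrib]
  apply Finset.sum_eq_zero
  intro i _
  simp only [Finset.sum_const_zero]
  ring

theorem stdBil_nondegenerate (m : ℕ) : (stdBil (F := F) m).Nondegenerate := by
  rw [stdBil, LinearMap.BilinForm.nondegenerate_toBilin'_iff_det_ne_zero]
  exact (Matrix.isUnit_det_J (Fin m) F).ne_zero

/-- change of basis to the standard form. -/
theorem exists_std (hf : IsSymplecticForm f) (m : ℕ) (hn : n = m + m) :
    ∃ (Φ : Matrix (Fin m ⊕ Fin m) (Fin n) F) (Ψ : Matrix (Fin n) (Fin m ⊕ Fin m) F),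
      Ψ * Φ = 1 ∧ Φ * Ψ = 1 ∧ Φᵀ * Matrix.J (Fin m) F * Φ = gram hf := by
  have hI1 : Cfsg.Agent.Helper12.SympConj.IsIsom (bil hf) (1 : Module.End F (Fin n → F)) 2 :=
    ⟨fun x y => rfl, one_pow 2, le_rfl⟩
  have hI2 : Cfsg.Agent.Helper12.SympConj.IsIsom (stdBil (F := F) m)
      (1 : Module.End F (Fin m ⊕ Fin m → F)) 2 :=
    ⟨fun x y => rfl, one_pow 2, le_rfl⟩
  have hs1 : (1 : Module.End F (Fin n → F)).IsSemisimple := by
    rw [Module.End.one_eq_id]; exact Module.End.isSemisimple_id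
  have hs2 : (1 : Module.End F (Fin m ⊕ Fin m → F)).IsSemisimple := by
    rw [Module.End.one_eq_id]; exact Module.End.isSemisimple_id
  have hc : LinearMap.charpoly (1 : Module.End F (Fin n → F)) =
      LinearMap.charpoly (1 : Module.End F (Fin m ⊕ Fin m → F)) := by
    rw [LinearMap.charpoly_one, LinearMap.charpoly_one, Module.finrank_fintype_fun_eq_card,
      Module.finrank_fintype_fun_eq_card, Fintype.card_fin, Fintype.card_sum, Fintype.card_fin, hn]
  obtain ⟨φ, -, hφ⟩ := Cfsg.Agent.Helper12.SympConj.exists_isometry hI1 hI2 (bil_isAlt hf)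
    (stdBil_isAlt m) (bil_nondegenerate hf) (stdBil_nondegenerate m) hs1 hs2 hc
  refine ⟨LinearMap.toMatrix' (φ : (Fin n → F) →ₗ[F] (Fin m ⊕ Fin m → F)),
    LinearMap.toMatrix' (φ.symm : (Fin m ⊕ Fin m → F) →ₗ[F] (Fin n → F)), ?_, ?_, ?_⟩
  · rw [← LinearMap.toMatrix'_comp, LinearEquiv.comp_coe, LinearEquiv.self_trans_symm,
      LinearEquiv.refl_toLinearMap, LinearMap.toMatrix'_id]
  · rw [← LinearMap.toMatrix'_comp, LinearEquiv.comp_coe, LinearEquiv.symm_trans_self,
      LinearEquiv.refl_toLinearMap, LinearMap.toMatrix'_id]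
  · have h1 : (stdBil (F := F) m).comp (φ : (Fin n → F) →ₗ[F] (Fin m ⊕ Fin m → F))
        (φ : (Fin n → F) →ₗ[F] (Fin m ⊕ Fin m → F)) = bil hf := by
      apply LinearMap.ext
      intro x
      apply LinearMap.ext
      intro y
      exact hφ x y
    have h2 := congrArg LinearMap.BilinForm.toMatrix' h1
    rw [LinearMap.BilinForm.toMatrix'_comp, stdBil, LinearMap.BilinForm.toMatrix'_toBilin'] at h2
    exact h2

end Cfsg.Agent.Helper7.SpDer
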