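import Mathlib
import Cfsg.Agent.Helper7.SpDer2
import Cfsg.Agent.Helper2.SpCard
import Cfsg.Agent.Helper12.SLCardDvd

set_option autoImplicit false
set_option linter.unusedSectionVars false
set_option linter.style.haveILetI false

/-! The index of the symplectic-type subgroup of `SL_n(q)`. -/

namespace Cfsg.Agent.Helper7.SpDer

open Matrix Polynomial Cfsg.Geo

universe u

variable {F : Type u} [Field F] [Finite F] {n : ℕ} {f : (Fin n → F) → (Fin n → F) → F}

/-- converse of `gram_of_sim`. -/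
theorem sim_of_gram (hf : IsSymplecticForm f) (g : Matrix (Fin n) (Fin n) F) (c : F)
    (h : gᵀ * gram hf * g = c • gram hf) (u v : Fin n → F) :
    f (g *ᵥ u) (g *ᵥ v) = c * f u v := by
  rw [form_eq_gram hf, form_eq_gram hf, Matrix.mulVec_mulVec, ← Matrix.vecMul_transpose,
    ← Matrix.dotProduct_mulVec, Matrix.mulVec_mulVec, ← Matrix.mul_assoc, h, Matrix.smul_mulVec,
    dotProduct_smul, smul_eq_mul]

/-- the order of `Sp_{2m}(q)` divides the order of `H`. -/
theorem card_sp_dvd (hf : IsSymplecticForm f) (m : ℕ) (hn : n = m + m) :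
    Nat.card (Matrix.symplecticGroup (Fin m) F) ∣
      Nat.card ((similarityGroup f).comap
        (SpecialLinearGroup.toGL : SpecialLinearGroup (Fin n) F →* GL (Fin n) F)) := by
  obtain ⟨Φ, Ψ, h1, h2, h3⟩ := exists_std hf m hn
  let j0 : Matrix.symplecticGroup (Fin m) F → SpecialLinearGroup (Fin n) F := fun A =>
    ⟨Ψ * A.1 * Φ, by rw [Matrix.det_conj_of_mul_eq_one h1 h2, SymplecticGroup.det_eq_one A.2]⟩
  let j : Matrix.symplecticGroup (Fin m) F →* SpecialLinearGroup (Fin n) F :=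
    MonoidHom.mk' j0 (by
      intro A B
      apply Subtype.ext
      show Ψ * (A.1 * B.1) * Φ = (Ψ * A.1 * Φ) * (Ψ * B.1 * Φ)
      calc Ψ * (A.1 * B.1) * Φ = Ψ * A.1 * (Φ * Ψ) * B.1 * Φ := by
            rw [h2, Matrix.mul_one]
            simp only [Matrix.mul_assoc]
        _ = (Ψ * A.1 * Φ) * (Ψ * B.1 * Φ) := by
            simp only [Matrix.mul_assoc])
  have hj : ∀ A, ((j A : SpecialLinearGroup (Fin n) F) : Matrix (Fin n) (Fin n) F) =
      Ψ * A.1 * Φ := fun A => rfl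
  have hinj : Function.Injective j := by
    intro A B hAB
    have h4 : Ψ * A.1 * Φ = Ψ * B.1 * Φ := by rw [← hj, ← hj, hAB]
    apply Subtype.ext
    calc A.1 = (Φ * Ψ) * A.1 * (Φ * Ψ) := by rw [h2, Matrix.one_mul, Matrix.mul_one]
      _ = Φ * (Ψ * A.1 * Φ) * Ψ := by simp only [Matrix.mul_assoc]
      _ = Φ * (Ψ * B.1 * Φ) * Ψ := by rw [h4]
      _ = (Φ * Ψ) * B.1 * (Φ * Ψ) := by simp only [Matrix.mul_assoc]
      _ = B.1 := by rw [h2, Matrix.one_mul, Matrix.mul_one]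
  have hle : j.range ≤ (similarityGroup f).comap
      (SpecialLinearGroup.toGL : SpecialLinearGroup (Fin n) F →* GL (Fin n) F) := by
    rintro _ ⟨A, rfl⟩
    rw [Subgroup.mem_comap]
    refine ⟨1, fun u v => ?_⟩
    rw [Units.val_one]
    apply sim_of_gram hf
    rw [one_smul]
    show (Ψ * A.1 * Φ)ᵀ * gram hf * (Ψ * A.1 * Φ) = gram hf
    have hA : (A.1)ᵀ * J (Fin m) F * A.1 = J (Fin m) F := SymplecticGroup.mem_iff'.1 A.2
    have h2' : Ψᵀ * Φᵀ = 1 := by rw [← Matrix.transpose_mul, h2, Matrix.transpose_one]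
    calc (Ψ * A.1 * Φ)ᵀ * gram hf * (Ψ * A.1 * Φ)
        = Φᵀ * (A.1)ᵀ * (Ψᵀ * Φᵀ) * J (Fin m) F * (Φ * Ψ) * A.1 * Φ := by
          rw [← h3, Matrix.transpose_mul, Matrix.transpose_mul]
          simp only [Matrix.mul_assoc]
      _ = Φᵀ * ((A.1)ᵀ * J (Fin m) F * A.1) * Φ := by
          rw [h2', h2, Matrix.mul_one, Matrix.mul_one]
          simp only [Matrix.mul_assoc]
      _ = gram hf := by rw [hA, h3]
  calc Nat.card (Matrix.symplecticGroup (Fin m) F) = Nat.card j.range :=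
        Nat.card_congr (Equiv.ofInjective j hinj)
    _ ∣ _ := Subgroup.card_dvd_of_le hle

/-- the order formula of `SL_{N+1}(q)`. -/
def slOrd (q N : ℕ) : ℕ := q ^ N * ∏ i ∈ Finset.range N, (q ^ (N + 1) - q ^ i)

/-- the order formula of `Sp_{2m}(q)`. -/
def spOrd (q m : ℕ) : ℕ := q ^ (m ^ 2) * ∏ i ∈ Finset.range m, (q ^ (2 * (i + 1)) - 1)

/-- the index of `Sp_{2m+2}(q)` in `SL_{2m+2}(q)`. -/
def spIdx (q m : ℕ) : ℕ := ∏ k ∈ Finset.range m, (q ^ (2 * k + 2) * (q ^ (2 * k + 3) - 1))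

theorem slOrd_succ (q N : ℕ) :
    slOrd q (N + 1) = slOrd q N * (q ^ (N + 1) * (q ^ (N + 2) - 1)) := by
  have h1 : ∀ i ∈ Finset.range N, q ^ (N + 1 + 1) - q ^ (i + 1) = q * (q ^ (N + 1) - q ^ i) := by
    intro i _
    rw [Nat.mul_sub, pow_succ (q) (N + 1), pow_succ q i, mul_comm q (q ^ (N + 1)), mul_comm q (q ^ i)]
  rw [slOrd, slOrd, Finset.prod_range_succ', Finset.prod_congr rfl h1, Finset.prod_mul_distrib,
    Finset.prod_const, Finset.card_range, pow_zero]
  ring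

theorem spOrd_succ (q m : ℕ) :
    spOrd q (m + 1) = spOrd q m * (q ^ (2 * m + 1) * (q ^ (2 * m + 2) - 1)) := by
  rw [spOrd, spOrd, Finset.prod_range_succ]
  have e : 2 * (m + 1) = 2 * m + 2 := by ring
  rw [e]
  ring

theorem spIdx_succ (q m : ℕ) :
    spIdx q (m + 1) = spIdx q m * (q ^ (2 * m + 2) * (q ^ (2 * m + 3) - 1)) := by
  rw [spIdx, spIdx, Finset.prod_range_succ]

theorem slOrd_eq (q m : ℕ) : slOrd q (2 * m + 1) = spOrd q (m + 1) * spIdx q m := by
  induction m with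
  | zero =>
    simp [slOrd, spOrd, spIdx]
  | succ m ih =>
    have e1 : 2 * (m + 1) + 1 = (2 * m + 1) + 1 + 1 := by ring
    rw [e1, slOrd_succ, slOrd_succ, ih, spOrd_succ q (m + 1), spIdx_succ]
    have e2 : 2 * m + 1 + 1 = 2 * m + 2 := by ring
    have e3 : 2 * m + 1 + 2 = 2 * m + 3 := by ring
    have e4 : 2 * m + 2 + 1 = 2 * m + 3 := by ring
    have e5 : 2 * m + 2 + 2 = 2 * m + 4 := by ring
    have e6 : 2 * (m + 1) + 1 = 2 * m + 3 := by ring
    have e7 : 2 * (m + 1) + 2 = 2 * m + 4 := by ring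
    rw [e2, e3, e4, e5, e6, e7]
    ring

theorem spOrd_pos (q m : ℕ) (hq : 2 ≤ q) : 0 < spOrd q m := by
  rw [spOrd]
  apply Nat.mul_pos (pow_pos (by omega) _)
  apply Finset.prod_pos
  intro i _
  have : 1 < q ^ (2 * (i + 1)) := Nat.one_lt_pow (by omega) (by omega)
  omega

/-- the index of `H` divides `spIdx`. -/
theorem index_dvd (hf : IsSymplecticForm f) (m : ℕ) (hn : n = 2 * m + 2) :
    ((similarityGroup f).comap
        (SpecialLinearGroup.toGL : SpecialLinearGroup (Fin n) F →* GL (Fin n) F)).index ∣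
      spIdx (Nat.card F) m := by
  haveI := Fintype.ofFinite F
  have hq : 2 ≤ Nat.card F := by
    rw [Nat.card_eq_fintype_card]
    exact Fintype.one_lt_card
  have h1 := card_sp_dvd hf (m + 1) (by omega)
  rw [Cfsg.Agent.Helper2.Sp.card_symplectic_fin, ← Nat.card_eq_fintype_card] at h1
  obtain ⟨t, ht⟩ := h1
  have h2 := Subgroup.card_mul_index ((similarityGroup f).comap
        (SpecialLinearGroup.toGL : SpecialLinearGroup (Fin n) F →* GL (Fin n) F))
  have h3 : Nat.card (SpecialLinearGroup (Fin n) F) = slOrd (Nat.card F) (2 * m + 1) := by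
    subst hn
    rw [Cfsg.Agent.Helper12.SLCardDvd.card_SL_succ, ← Nat.card_eq_fintype_card]
    rfl
  rw [h3, slOrd_eq, ht] at h2
  have h4 : spOrd (Nat.card F) (m + 1) * (t * ((similarityGroup f).comap
        (SpecialLinearGroup.toGL : SpecialLinearGroup (Fin n) F →* GL (Fin n) F)).index) =
      spOrd (Nat.card F) (m + 1) * spIdx (Nat.card F) m := by
    rw [← h2, spOrd]
    ring
  have h5 := Nat.eq_of_mul_eq_mul_left (spOrd_pos _ _ hq) h4
  exact ⟨t, by rw [← h5, mul_comm]⟩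

/-- a prime dividing the index divides `q` or some `q^j - 1` with `j` odd, `3 ≤ j ≤ n - 1`. -/
theorem prime_dvd_index_cases (hf : IsSymplecticForm f) (m : ℕ) (hn : n = 2 * m + 2) (r : ℕ)
    (hr : r.Prime)
    (hdvd : r ∣ ((similarityGroup f).comap
        (SpecialLinearGroup.toGL : SpecialLinearGroup (Fin n) F →* GL (Fin n) F)).index) :
    r ∣ Nat.card F ∨ ∃ k, k < m ∧ r ∣ Nat.card F ^ (2 * k + 3) - 1 := by
  have h1 := dvd_trans hdvd (index_dvd hf m hn)
  rw [spIdx, Prime.dvd_finsetProd_iff (Nat.prime_iff.1 hr)] at h1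
  obtain ⟨k, hk, h2⟩ := h1
  rcases (Nat.Prime.dvd_mul hr).1 h2 with h3 | h3
  · exact Or.inl (hr.dvd_of_dvd_pow h3)
  · exact Or.inr ⟨k, Finset.mem_range.1 hk, h3⟩

end Cfsg.Agent.Helper7.SpDer
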