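import Mathlib
import Cfsg.Agent.Helper7.SpDer1

set_option autoImplicit false
set_option linter.unusedSectionVars false
set_option linter.style.haveILetI false

/-! Reduction of "a conjugate lies in the symplectic-type subgroup" to a matrix statement. -/

namespace Cfsg.Agent.Helper7.SpDer

open Matrix Polynomial Cfsg.Geo

variable {F : Type*} [Field F] {n : ℕ} {f : (Fin n → F) → (Fin n → F) → F}

/-- powers of a similarity. -/
theorem mult_pow (G x : Matrix (Fin n) (Fin n) F) (c : F) (h : xᵀ * G * x = c • G) (k : ℕ) :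
    (x ^ k)ᵀ * G * x ^ k = c ^ k • G := by
  induction k with
  | zero => rw [pow_zero, pow_zero, Matrix.transpose_one, Matrix.one_mul, Matrix.mul_one, one_smul]
  | succ k ih =>
    calc (x ^ (k + 1))ᵀ * G * x ^ (k + 1) = xᵀ * ((x ^ k)ᵀ * G * x ^ k) * x := by
          rw [pow_succ, Matrix.transpose_mul]
          simp only [Matrix.mul_assoc]
      _ = c ^ (k + 1) • G := by
          rw [ih, Matrix.mul_smul, Matrix.smul_mul, h, smul_smul, pow_succ]

theorem mult_pow_eq_one (hn : 0 < n) (G x : Matrix (Fin n) (Fin n) F) (hG : G.det ≠ 0) (c : F)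
    (h : xᵀ * G * x = c • G) (k : ℕ) (hk : x ^ k = 1) : c ^ k = 1 := by
  have h1 := mult_pow G x c h k
  rw [hk, Matrix.transpose_one, Matrix.one_mul, Matrix.mul_one] at h1
  have h2 : ∃ i j, G i j ≠ 0 := by
    by_contra hcon
    push Not at hcon
    apply hG
    have hG0 : G = 0 := by
      ext i j
      exact hcon i j
    haveI : Nonempty (Fin n) := ⟨⟨0, hn⟩⟩
    rw [hG0, Matrix.det_zero]
  obtain ⟨i, j, hij⟩ := h2
  have h3 := congrFun (congrFun h1 i) j
  rw [Matrix.smul_apply, smul_eq_mul] at h3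
  have h4 : (c ^ k - 1) * G i j = 0 := by rw [sub_mul, one_mul, ← h3, sub_self]
  rcases mul_eq_zero.1 h4 with h5 | h5
  · exact sub_eq_zero.1 h5
  · exact absurd h5 hij

/-- a similarity `g` of an invertible Gram matrix with multiplier `c` has the same characteristic
polynomial as `c • g⁻¹`. -/
theorem charpoly_of_gram_sim (G : Matrix (Fin n) (Fin n) F) (hG : G.det ≠ 0)
    (g gi : Matrix (Fin n) (Fin n) F) (hgi : g * gi = 1) (c : F)
    (h1 : gᵀ * G * g = c • G) : g.charpoly = (c • gi).charpoly := by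
  have hG' : IsUnit G := (Matrix.isUnit_iff_isUnit_det _).2 (isUnit_iff_ne_zero.2 hG)
  obtain ⟨U, hU⟩ := hG'
  have h2 : gᵀ = (U : Matrix (Fin n) (Fin n) F) * (c • gi) *
        ((U⁻¹ : (Matrix (Fin n) (Fin n) F)ˣ) : Matrix (Fin n) (Fin n) F) := by
    have h3 : gᵀ * (U : Matrix (Fin n) (Fin n) F) = (U : Matrix (Fin n) (Fin n) F) * (c • gi) := by
      rw [hU]
      calc gᵀ * G = gᵀ * G * (g * gi) := by rw [hgi, mul_one]
        _ = (gᵀ * G * g) * gi := by rw [mul_assoc, mul_assoc, mul_assoc]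
        _ = G * (c • gi) := by rw [h1, Matrix.smul_mul, Matrix.mul_smul]
    calc gᵀ = gᵀ * ((U : Matrix (Fin n) (Fin n) F) *
            ((U⁻¹ : (Matrix (Fin n) (Fin n) F)ˣ) : Matrix (Fin n) (Fin n) F)) := by
          rw [← Units.val_mul, mul_inv_cancel, Units.val_one, mul_one]
      _ = _ := by rw [← mul_assoc, h3]
  rw [← Matrix.charpoly_transpose, h2, Matrix.coe_units_inv U, Matrix.charpoly_units_conj]

/-- If a conjugate of `x` lies in the symplectic-type subgroup then `x` is a similarity of some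
invertible skew-symmetric matrix. -/
theorem conj_reduce (hf : IsSymplecticForm f) (x P : SpecialLinearGroup (Fin n) F)
    (h : P⁻¹ * x * P ∈ (similarityGroup f).comap
        (SpecialLinearGroup.toGL : SpecialLinearGroup (Fin n) F →* GL (Fin n) F)) :
    ∃ (G : Matrix (Fin n) (Fin n) F) (c : F), Gᵀ = -G ∧ G.det ≠ 0 ∧ c ≠ 0 ∧
      (x.1)ᵀ * G * x.1 = c • G := by
  rw [Subgroup.mem_comap] at h
  obtain ⟨c, hc⟩ := h
  have h1 := gram_of_sim hf _ (c : F) hc
  rw [SpecialLinearGroup.coe_GL_coe_matrix] at h1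
  have hy : ((P⁻¹ * x * P : SpecialLinearGroup (Fin n) F) : Matrix (Fin n) (Fin n) F) =
      (P⁻¹).1 * x.1 * P.1 := rfl
  have hP : P.1 * (P⁻¹).1 = 1 := by
    have : ((P * P⁻¹ : SpecialLinearGroup (Fin n) F) : Matrix (Fin n) (Fin n) F) = 1 := by
      rw [mul_inv_cancel]; rfl
    exact this
  have hyP : ((P⁻¹ * x * P : SpecialLinearGroup (Fin n) F) : Matrix (Fin n) (Fin n) F) * (P⁻¹).1 =
      (P⁻¹).1 * x.1 := by
    rw [hy, Matrix.mul_assoc, hP, Matrix.mul_one]
  refine ⟨((P⁻¹).1)ᵀ * gram hf * (P⁻¹).1, c, ?_, ?_, c.ne_zero, ?_⟩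
  · rw [Matrix.transpose_mul, Matrix.transpose_mul, Matrix.transpose_transpose, gram_transpose,
      Matrix.neg_mul, Matrix.mul_neg, Matrix.mul_assoc]
  · rw [Matrix.det_mul, Matrix.det_mul, Matrix.det_transpose, (P⁻¹).2, one_mul, mul_one]
    exact gram_det_ne_zero hf
  · calc (x.1)ᵀ * (((P⁻¹).1)ᵀ * gram hf * (P⁻¹).1) * x.1
        = ((P⁻¹).1 * x.1)ᵀ * gram hf * ((P⁻¹).1 * x.1) := by
          rw [Matrix.transpose_mul]
          simp only [Matrix.mul_assoc]
      _ = ((P⁻¹).1)ᵀ * (((P⁻¹ * x * P : SpecialLinearGroup (Fin n) F) :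
            Matrix (Fin n) (Fin n) F)ᵀ * gram hf *
            ((P⁻¹ * x * P : SpecialLinearGroup (Fin n) F) : Matrix (Fin n) (Fin n) F)) *
            (P⁻¹).1 := by
          rw [← hyP, Matrix.transpose_mul]
          simp only [Matrix.mul_assoc]
      _ = (c : F) • (((P⁻¹).1)ᵀ * gram hf * (P⁻¹).1) := by
          rw [h1, Matrix.mul_smul, Matrix.smul_mul, Matrix.mul_assoc]

end Cfsg.Agent.Helper7.SpDer
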