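import Mathlib
import Cfsg.Agent.Helper7.SpDer4

set_option autoImplicit false
set_option linter.unusedSectionVars false
set_option linter.style.haveILetI false

/-! The defining-characteristic case: a unipotent element with Jordan block of size three. -/

namespace Cfsg.Agent.Helper7.SpDer

open Matrix Polynomial Cfsg.Geo

variable {F : Type*} [Field F] {n : ℕ}

/-- the nilpotent part. -/
def nil3 (i0 i1 i2 : Fin n) : Matrix (Fin n) (Fin n) F :=
  Matrix.single i0 i1 1 + Matrix.single i1 i2 1 + Matrix.single i0 i2 1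

theorem transv_mul (i0 i1 i2 : Fin n) :
    (transvection i0 i1 (1 : F) * transvection i1 i2 1 : Matrix (Fin n) (Fin n) F) =
      1 + nil3 i0 i1 i2 := by
  rw [transvection, transvection, nil3, Matrix.add_mul, Matrix.mul_add, Matrix.mul_add,
    Matrix.one_mul, Matrix.one_mul, Matrix.mul_one, Matrix.single_mul_single_same, mul_one]
  abel

theorem nil3_sq (i0 i1 i2 : Fin n) (h01 : i0 ≠ i1) (h02 : i0 ≠ i2) (h12 : i1 ≠ i2) :
    (nil3 i0 i1 i2 : Matrix (Fin n) (Fin n) F) * nil3 i0 i1 i2 = Matrix.single i0 i2 1 := by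
  simp only [nil3, Matrix.add_mul, Matrix.mul_add]
  simp [Matrix.single_mul_single_of_ne, h01.symm, h02.symm, h12.symm]

theorem nil3_cube (i0 i1 i2 : Fin n) (h01 : i0 ≠ i1) (h02 : i0 ≠ i2) (h12 : i1 ≠ i2) :
    (nil3 i0 i1 i2 : Matrix (Fin n) (Fin n) F) * nil3 i0 i1 i2 * nil3 i0 i1 i2 = 0 := by
  rw [nil3_sq i0 i1 i2 h01 h02 h12]
  simp only [nil3, Matrix.mul_add]
  simp [Matrix.single_mul_single_of_ne, h02.symm, h12.symm]

theorem nil3_pow (i0 i1 i2 : Fin n) (h01 : i0 ≠ i1) (h02 : i0 ≠ i2) (h12 : i1 ≠ i2) (k : ℕ)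
    (hk : 3 ≤ k) : (nil3 i0 i1 i2 : Matrix (Fin n) (Fin n) F) ^ k = 0 := by
  obtain ⟨j, rfl⟩ := Nat.exists_eq_add_of_le hk
  rw [pow_add, pow_succ, pow_two, nil3_cube i0 i1 i2 h01 h02 h12, zero_mul]

theorem one_add_nil3_pow_char (p : ℕ) [Fact p.Prime] [CharP F p] (hp2 : p ≠ 2)
    (i0 i1 i2 : Fin n) (h01 : i0 ≠ i1) (h02 : i0 ≠ i2) (h12 : i1 ≠ i2) :
    (1 + nil3 i0 i1 i2 : Matrix (Fin n) (Fin n) F) ^ p = 1 := by
  haveI : Nonempty (Fin n) := ⟨i0⟩
  have hp : p.Prime := Fact.out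
  have hp3 : 3 ≤ p := by
    have := hp.two_le
    omega
  rw [add_pow_char_of_commute _ (Commute.one_left _), one_pow, nil3_pow i0 i1 i2 h01 h02 h12 p hp3,
    add_zero]

theorem two_ne_zero_of_char (p : ℕ) [Fact p.Prime] [CharP F p] (hp2 : p ≠ 2) : (2 : F) ≠ 0 := by
  have hp : p.Prime := Fact.out
  intro h
  have h1 : ((2 : ℕ) : F) = 0 := by rw [Nat.cast_ofNat]; exact h
  rw [CharP.cast_eq_zero_iff F p] at h1
  exact hp2 ((Nat.prime_dvd_prime_iff_eq hp Nat.prime_two).1 h1)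

/-- in odd characteristic, `1 + N` with `N` a nilpotent Jordan block of size three is not a
similarity of an invertible skew-symmetric matrix. -/
theorem unip_not_sim (p : ℕ) [Fact p.Prime] [CharP F p] (hp2 : p ≠ 2)
    (i0 i1 i2 : Fin n) (h01 : i0 ≠ i1) (h02 : i0 ≠ i2) (h12 : i1 ≠ i2)
    (G : Matrix (Fin n) (Fin n) F) (hGt : Gᵀ = -G) (hG : G.det ≠ 0) (c : F)
    (h : (1 + nil3 i0 i1 i2 : Matrix (Fin n) (Fin n) F)ᵀ * G * (1 + nil3 i0 i1 i2) = c • G) :
    False := by
  have hp : p.Prime := Fact.out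
  have hn : 0 < n := Nat.lt_of_le_of_lt (Nat.zero_le _) i0.2
  have hc : c = 1 := by
    have h1 := mult_pow_eq_one (F := F) hn G _ hG c h p (one_add_nil3_pow_char (F := F) p hp2 i0 i1 i2 h01 h02 h12)
    have h2 : (c - 1) ^ p = 0 := by rw [sub_pow_char, h1, one_pow, sub_self]
    exact sub_eq_zero.1 (pow_eq_zero_iff hp.ne_zero |>.1 h2)
  rw [hc, one_smul] at h
  have hN3 := nil3_cube (F := F) i0 i1 i2 h01 h02 h12
  have hN2 := nil3_sq (F := F) i0 i1 i2 h01 h02 h12
  generalize (nil3 i0 i1 i2 : Matrix (Fin n) (Fin n) F) = N at h hN3 hN2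
  have k1 : Nᵀ * G * (1 + N) = -(G * N) := by
    have e : (1 + N)ᵀ * G * (1 + N) = G + G * N + Nᵀ * G * (1 + N) := by
      rw [Matrix.transpose_add, Matrix.transpose_one]; noncomm_ring
    rw [e] at h
    have e2 : Nᵀ * G * (1 + N) = (G + G * N + Nᵀ * G * (1 + N)) - G - G * N := by abel
    rw [e2, h]
    abel
  have k2 : Nᵀ * G = G * (N * N - N) := by
    have e : (1 + N) * (1 - N + N * N) = 1 + N * N * N := by noncomm_ring
    calc Nᵀ * G = Nᵀ * G * ((1 + N) * (1 - N + N * N)) := by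
            rw [e, hN3, add_zero, mul_one]
      _ = (Nᵀ * G * (1 + N)) * (1 - N + N * N) := by rw [mul_assoc (Nᵀ * G)]
      _ = -(G * N) * (1 - N + N * N) := by rw [k1]
      _ = G * (N * N - N) - G * (N * N * N) := by noncomm_ring
      _ = G * (N * N - N) := by rw [hN3, mul_zero, sub_zero]
  have k3 : (N * N)ᵀ * G = G * (N * N) := by
    have e : (N * N - N) * (N * N - N) = N * N * N * N - N * N * N - N * N * N + N * N := by
      noncomm_ring
    calc (N * N)ᵀ * G = Nᵀ * (Nᵀ * G) := by rw [Matrix.transpose_mul, mul_assoc]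
      _ = (Nᵀ * G) * (N * N - N) := by rw [k2, ← mul_assoc, ← k2]
      _ = G * ((N * N - N) * (N * N - N)) := by rw [k2, mul_assoc]
      _ = G * (N * N) := by rw [e, hN3, zero_mul, sub_zero, sub_zero, zero_add]
  have k4 : (G * (N * N))ᵀ = -(G * (N * N)) := by
    rw [Matrix.transpose_mul, hGt, Matrix.mul_neg, k3]
  rw [hN2] at k4
  apply hG
  apply Matrix.det_eq_zero_of_column_eq_zero i0
  intro a
  have k5 := congrFun (congrFun k4 i2) a
  rw [Matrix.transpose_apply, Matrix.neg_apply, Matrix.mul_single_apply_same, mul_one] at k5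
  by_cases ha : a = i2
  · subst ha
    rw [Matrix.mul_single_apply_same, mul_one] at k5
    have h2 : (2 : F) * G a i0 = 0 := by
      rw [two_mul]
      nth_rewrite 1 [k5]
      rw [neg_add_cancel]
    rcases mul_eq_zero.1 h2 with h3 | h3
    · exact absurd h3 (two_ne_zero_of_char (F := F) p hp2)
    · exact h3
  · rw [Matrix.mul_single_apply_of_ne _ _ _ _ _ ha, neg_zero] at k5
    exact k5

/-- the defining-characteristic case of the derangement statement. -/
theorem case_char {f : (Fin n → F) → (Fin n → F) → F} (hf : IsSymplecticForm f)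
    (p : ℕ) [Fact p.Prime] [CharP F p] (hp2 : p ≠ 2) (hn : 3 ≤ n) :
    ∃ x : SpecialLinearGroup (Fin n) F,
      ((x ^ p : SpecialLinearGroup (Fin n) F) : Matrix (Fin n) (Fin n) F) = 1 ∧
      (∀ z : F, (x : Matrix (Fin n) (Fin n) F) ≠ z • (1 : Matrix (Fin n) (Fin n) F)) ∧
      ∀ P : SpecialLinearGroup (Fin n) F, P⁻¹ * x * P ∉ (similarityGroup f).comap
        (SpecialLinearGroup.toGL : SpecialLinearGroup (Fin n) F →* GL (Fin n) F) := by
  let i0 : Fin n := ⟨0, by omega⟩
  let i1 : Fin n := ⟨1, by omega⟩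
  let i2 : Fin n := ⟨2, by omega⟩
  have h01 : i0 ≠ i1 := by
    intro h
    have := congrArg Fin.val h
    simp [i0, i1] at this
  have h02 : i0 ≠ i2 := by
    intro h
    have := congrArg Fin.val h
    simp [i0, i2] at this
  have h12 : i1 ≠ i2 := by
    intro h
    have := congrArg Fin.val h
    simp [i1, i2] at this
  let x : SpecialLinearGroup (Fin n) F :=
    ⟨transvection i0 i1 (1 : F) * transvection i1 i2 1, by
      rw [Matrix.det_mul, Matrix.det_transvection_of_ne _ _ h01, Matrix.det_transvection_of_ne _ _ h12,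
        one_mul]⟩
  have hx : (x : Matrix (Fin n) (Fin n) F) = 1 + nil3 i0 i1 i2 := transv_mul i0 i1 i2
  refine ⟨x, ?_, ?_, ?_⟩
  · have h1 : ((x ^ p : SpecialLinearGroup (Fin n) F) : Matrix (Fin n) (Fin n) F) =
        (x : Matrix (Fin n) (Fin n) F) ^ p := Matrix.SpecialLinearGroup.coe_pow x p
    rw [h1, hx]
    exact one_add_nil3_pow_char p hp2 i0 i1 i2 h01 h02 h12
  · intro z hz
    have h1 := congrFun (congrFun hz i0) i1
    rw [hx] at h1
    simp [nil3, h01, h01.symm, h12.symm] at h1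
  · intro P hP
    obtain ⟨G, c, hGt, hG, -, hc⟩ := conj_reduce hf x P hP
    rw [hx] at hc
    exact unip_not_sim p hp2 i0 i1 i2 h01 h02 h12 G hGt hG c hc

end Cfsg.Agent.Helper7.SpDer
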