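import Mathlib
import Cfsg.Agent.Helper7.SpDer4
import Cfsg.Agent.Helper12.PrimeOrderClassE
import Cfsg.Agent.Helper12.SpPrimeD

set_option autoImplicit false
set_option linter.unusedSectionVars false
set_option linter.style.haveILetI false

/-! The case of a prime `r` with odd order `i > 1` of `q` modulo `r`: a semisimple element whose
characteristic polynomial is not self-reciprocal. -/

namespace Cfsg.Agent.Helper7.SpDer

open Matrix Polynomial Cfsg.Geo Cfsg.Agent.Helper12.SpPrime Cfsg.Agent.Helper12.POC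

universe u

variable {F : Type u} [Field F] [Fintype F] {n : ℕ}

/-- an `r`-th root of unity is trivial when `r ∤ q - 1`. -/
theorem unit_eq_one_of_pow (r : ℕ) [Fact r.Prime]
    (hi : orderOf ((Fintype.card F : ℕ) : ZMod r) ≠ 1) (u : Fˣ) (hu : u ^ r = 1) : u = 1 := by
  classical
  have hr : r.Prime := Fact.out
  by_contra hne
  have h1 : orderOf u = r := orderOf_eq_prime hu hne
  have h2 : r ∣ Fintype.card Fˣ := by
    rw [← h1]
    exact orderOf_dvd_card
  rw [Fintype.card_units] at h2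
  apply hi
  rw [orderOf_eq_one_iff]
  have hq : 1 ≤ Fintype.card F := Fintype.card_pos
  have h3 : ((Fintype.card F - 1 : ℕ) : ZMod r) = 0 := (ZMod.natCast_eq_zero_iff _ _).2 h2
  have h4 : Fintype.card F = (Fintype.card F - 1) + 1 := by omega
  rw [h4, Nat.cast_add, h3, zero_add, Nat.cast_one]

theorem field_eq_one_of_pow (r : ℕ) [Fact r.Prime]
    (hi : orderOf ((Fintype.card F : ℕ) : ZMod r) ≠ 1) (c : F) (hc : c ^ r = 1) : c = 1 := by
  have hr : r.Prime := Fact.out
  have hc0 : c ≠ 0 := by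
    intro h
    rw [h, zero_pow hr.ne_zero] at hc
    exact zero_ne_one hc
  have h1 := unit_eq_one_of_pow r hi (Units.mk0 c hc0) (by
    apply Units.ext
    rw [Units.val_pow_eq_pow_val, Units.val_mk0, hc, Units.val_one])
  have := congrArg Units.val h1
  rwa [Units.val_mk0, Units.val_one] at this

/-- the case where the order `i` of `q` modulo `r` is odd and greater than one. -/
theorem case_odd {f : (Fin n → F) → (Fin n → F) → F} (hf : IsSymplecticForm f)
    (p : ℕ) [Fact p.Prime] [CharP F p] (r : ℕ) [Fact r.Prime] (hrp : r ≠ p) (hr2 : r ≠ 2)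
    (hi1 : orderOf ((Fintype.card F : ℕ) : ZMod r) ≠ 1)
    (hodd : Odd (orderOf ((Fintype.card F : ℕ) : ZMod r)))
    (hin : orderOf ((Fintype.card F : ℕ) : ZMod r) ≤ n) (hn : 0 < n) :
    ∃ x : Matrix.SpecialLinearGroup (Fin n) F,
      ((x ^ r : Matrix.SpecialLinearGroup (Fin n) F) : Matrix (Fin n) (Fin n) F) = 1 ∧
      (∀ z : F, (x : Matrix (Fin n) (Fin n) F) ≠ z • (1 : Matrix (Fin n) (Fin n) F)) ∧
      ∀ P : Matrix.SpecialLinearGroup (Fin n) F, P⁻¹ * x * P ∉ (similarityGroup f).comap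
        (Matrix.SpecialLinearGroup.toGL : Matrix.SpecialLinearGroup (Fin n) F →* GL (Fin n) F) := by
  classical
  have hr : r.Prime := Fact.out
  obtain ⟨S, hS, hcard, hSd, -⟩ := exists_factorSet (K := F) p r hr hrp
  have hSne : S.Nonempty := by
    rw [← Finset.card_pos]
    by_contra h0
    have h00 : S.card = 0 := by omega
    rw [h00, zero_mul] at hcard
    have := hr.two_le
    omega
  obtain ⟨P0, hP0⟩ := hSne
  let a : S → ℕ := fun P => if P = ⟨P0, hP0⟩ then 1 else 0
  have hsum : ∑ P, a P = 1 := by simp [a]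
  have ha0 : a ≠ 0 := by
    intro h
    have := congrFun h ⟨P0, hP0⟩
    simp [a] at this
  have ha : orderOf ((Fintype.card F : ℕ) : ZMod r) * ∑ P, a P ≤ n := by
    rw [hsum, mul_one]; exact hin
  obtain ⟨s, hs1, hs2⟩ := exists_gl_order_eq p n r hr hrp hS hSd a ha0 ha
  have hT : tuplePoly S (orderOf ((Fintype.card F : ℕ) : ZMod r)) n a =
      (X - C 1) ^ (n - orderOf ((Fintype.card F : ℕ) : ZMod r)) * P0 := by
    rw [tuplePoly, hsum, mul_one]
    congr 1
    rw [Fintype.prod_eq_single ⟨P0, hP0⟩]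
    · simp [a]
    · intro P hP
      simp [a, hP]
  have hsr : s ^ r = 1 := by rw [← hs2]; exact pow_orderOf_eq_one s
  have hsr' : (s : Matrix (Fin n) (Fin n) F) ^ r = 1 := by
    rw [← Units.val_pow_eq_pow_val, hsr, Units.val_one]
  have hdet : (s : Matrix (Fin n) (Fin n) F).det = 1 := by
    have h1 : (Matrix.GeneralLinearGroup.det s) ^ r = 1 := by rw [← map_pow, hsr, map_one]
    have h2 := unit_eq_one_of_pow r hi1 _ h1
    have h3 := congrArg Units.val h2
    rwa [Matrix.GeneralLinearGroup.val_det_apply, Units.val_one] at h3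
  let x : Matrix.SpecialLinearGroup (Fin n) F := ⟨(s : Matrix (Fin n) (Fin n) F), hdet⟩
  have hx : (x : Matrix (Fin n) (Fin n) F) = (s : Matrix (Fin n) (Fin n) F) := rfl
  have hxr : ((x ^ r : Matrix.SpecialLinearGroup (Fin n) F) : Matrix (Fin n) (Fin n) F) = 1 := by
    have h1 : ((x ^ r : Matrix.SpecialLinearGroup (Fin n) F) : Matrix (Fin n) (Fin n) F) =
        (x : Matrix (Fin n) (Fin n) F) ^ r := Matrix.SpecialLinearGroup.coe_pow x r
    rw [h1, hx, hsr']
  refine ⟨x, hxr, ?_, ?_⟩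
  · intro z hz
    rw [hx] at hz
    have h1 : (z • (1 : Matrix (Fin n) (Fin n) F)) ^ r = 1 := by
      rw [← hz]; exact hsr'
    rw [_root_.smul_pow, one_pow] at h1
    have h2 := congrFun (congrFun h1 ⟨0, hn⟩) ⟨0, hn⟩
    rw [Matrix.smul_apply, Matrix.one_apply_eq, smul_eq_mul, mul_one] at h2
    have h3 := field_eq_one_of_pow r hi1 z h2
    rw [h3, one_smul] at hz
    have h4 : s = 1 := Units.ext hz
    rw [h4, orderOf_one] at hs2
    exact hr.one_lt.ne hs2
  · intro P hP
    obtain ⟨G, c, hGt, hG, hc0, hc⟩ := conj_reduce hf x P hP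
    rw [hx] at hc
    have h1 := mult_pow_eq_one hn G _ hG c hc r hsr'
    have h2 := field_eq_one_of_pow r hi1 c h1
    have hgi : (s : Matrix (Fin n) (Fin n) F) * ((s⁻¹ : GL (Fin n) F) : Matrix (Fin n) (Fin n) F) = 1 := by
      rw [← Units.val_mul, mul_inv_cancel, Units.val_one]
    have h3 := charpoly_of_gram_sim G hG _ _ hgi c hc
    rw [h2, one_smul, Matrix.coe_units_inv s,
      Cfsg.Agent.Helper7.GUr.charpoly_inv_eq_recip _ ⟨s, rfl⟩, hs1, hT,
      Cfsg.Agent.Helper7.GUr.recip_mul, Cfsg.Agent.Helper7.GUr.recip_pow, recip_X_sub_one] at h3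
    have h4 := mul_left_cancel₀ (pow_ne_zero _ (X_sub_C_ne_zero (1 : F))) h3
    refine recip_ne_self_of_odd r (hr.odd_of_ne_two hr2) (hS.monic P0 hP0) (hS.irred P0 hP0)
      (hS.coeff_zero P0 hP0) (hSd P0 hP0) ?_ ?_ h4.symm
    · intro h
      apply hS.notMem
      rw [← h]
      exact hP0
    · rw [hS.deg P0 hP0]
      exact hodd

end Cfsg.Agent.Helper7.SpDer
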