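import Mathlib
import Cfsg.Agent.Helper7.SpDer4

set_option autoImplicit false
set_option linter.unusedSectionVars false
set_option linter.style.haveILetI false

/-! The case `r ∣ q - 1`: a diagonal element `diag(ζ, ζ, ζ⁻², 1, …, 1)`. -/

namespace Cfsg.Agent.Helper7.SpDer

open Matrix Polynomial Cfsg.Geo

variable {F : Type*} [Field F] {n : ℕ}

theorem roots_prod_diag (d : Fin n → F) :
    (∏ i, (X - C (d i))).roots = Finset.univ.val.map d := by
  rw [Finset.prod_eq_multiset_prod]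
  have : Multiset.map (fun i => X - C (d i)) Finset.univ.val =
      Multiset.map (fun a => X - C a) (Multiset.map d Finset.univ.val) := by
    rw [Multiset.map_map]; rfl
  rw [this, roots_multiset_prod_X_sub_C]

/-- a diagonal similarity of an invertible Gram matrix: the multiset of diagonal entries is
stable under `a ↦ c / a`. -/
theorem diag_sim_multiset (d : Fin n → F) (hd : ∀ j, d j ≠ 0) (G : Matrix (Fin n) (Fin n) F)
    (hG : G.det ≠ 0) (c : F) (h : (diagonal d)ᵀ * G * diagonal d = c • G) :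
    (List.ofFn d : Multiset F) = ((List.ofFn d).map fun a => c * a⁻¹ : List F) := by
  have hgi : diagonal d * diagonal (fun j => (d j)⁻¹) = 1 := by
    rw [Matrix.diagonal_mul_diagonal]
    have : (fun j => d j * (d j)⁻¹) = fun _ => (1 : F) := by
      funext j
      exact mul_inv_cancel₀ (hd j)
    rw [this, Matrix.diagonal_one]
  have h1 := charpoly_of_gram_sim G hG _ _ hgi c h
  have h2 : c • diagonal (fun j => (d j)⁻¹) = diagonal (fun j => c * (d j)⁻¹) := by
    rw [← Matrix.diagonal_smul]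
    rfl
  rw [h2, Matrix.charpoly_diagonal, Matrix.charpoly_diagonal] at h1
  have h3 := congrArg Polynomial.roots h1
  rw [roots_prod_diag, roots_prod_diag, Fin.univ_val_map, Fin.univ_val_map] at h3
  rw [h3]
  congr 1
  rw [List.map_ofFn]
  rfl

/-- the diagonal entries `ζ, ζ, ζ⁻², 1, …, 1`. -/
def dvec (t : ℕ) (ζ : F) : Fin (t + 3) → F :=
  Fin.cons ζ (Fin.cons ζ (Fin.cons (ζ⁻¹ * ζ⁻¹) (fun _ : Fin t => (1 : F))))

theorem ofFn_dvec (t : ℕ) (ζ : F) :
    List.ofFn (dvec t ζ) = ζ :: ζ :: (ζ⁻¹ * ζ⁻¹) :: List.replicate t 1 := by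
  rw [dvec, List.ofFn_cons, List.ofFn_cons, List.ofFn_cons, List.ofFn_const]

theorem dvec_forall (t : ℕ) (ζ : F) (P : F → Prop) (h1 : P ζ) (h2 : P (ζ⁻¹ * ζ⁻¹)) (h3 : P 1) :
    ∀ j, P (dvec t ζ j) := by
  intro j
  have h : dvec t ζ j ∈ List.ofFn (dvec t ζ) := by
    rw [List.mem_ofFn]
    exact ⟨j, rfl⟩
  rw [ofFn_dvec] at h
  simp only [List.mem_cons, List.mem_replicate] at h
  rcases h with h | h | h | ⟨-, h⟩ <;> rw [h] <;> assumption

theorem dvec_exists_one (t : ℕ) (ht : t ≠ 0) (ζ : F) : ∃ j, dvec t ζ j = 1 := by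
  have h : (1 : F) ∈ List.ofFn (dvec t ζ) := by
    rw [ofFn_dvec]
    simp [ht]
  rw [List.mem_ofFn] at h
  exact h

theorem dvec_zero (t : ℕ) (ζ : F) : dvec t ζ 0 = ζ := rfl

theorem prod_dvec (t : ℕ) (ζ : F) (hζ : ζ ≠ 0) : ∏ j, dvec t ζ j = 1 := by
  rw [dvec, Fin.prod_cons, Fin.prod_cons, Fin.prod_cons, Finset.prod_const_one]
  field_simp

theorem count_key [DecidableEq F] (t : ℕ) (ζ c : F) (hζ : ζ ≠ 0)
    (G : Matrix (Fin (t + 3)) (Fin (t + 3)) F) (hG : G.det ≠ 0)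
    (h : (diagonal (dvec t ζ))ᵀ * G * diagonal (dvec t ζ) = c • G) (μ : F) :
    (if ζ = μ then 1 else 0) + (if ζ = μ then 1 else 0) + (if ζ⁻¹ * ζ⁻¹ = μ then 1 else 0) +
        (if 1 = μ then t else 0) =
      (if c * ζ⁻¹ = μ then 1 else 0) + (if c * ζ⁻¹ = μ then 1 else 0) +
        (if c * (ζ * ζ) = μ then 1 else 0) + (if c = μ then t else 0) := by
  have hd : ∀ j, dvec t ζ j ≠ 0 :=
    dvec_forall t ζ (fun a => a ≠ 0) hζ (mul_ne_zero (inv_ne_zero hζ) (inv_ne_zero hζ)) one_ne_zero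
  have h1 := diag_sim_multiset (dvec t ζ) hd G hG c h
  rw [ofFn_dvec] at h1
  have h2 := congrArg (Multiset.count μ) h1
  rw [Multiset.coe_count, Multiset.coe_count, List.map_cons, List.map_cons, List.map_cons,
    List.map_replicate] at h2
  simp only [List.count_cons, List.count_replicate, beq_iff_eq, mul_inv, inv_inv, inv_one,
    mul_one] at h2
  omega

/-- `diag(ζ, ζ, ζ⁻², 1, …, 1)` is not a similarity of an invertible Gram matrix. -/
theorem diag_not_sim (r : ℕ) [Fact r.Prime] (hr2 : r ≠ 2) (t : ℕ) (ht : Odd t)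
    (hgap : ¬ (t = 3 ∧ r = 3)) (ζ : F) (hζ1 : ζ ≠ 1) (hζr : ζ ^ r = 1)
    (G : Matrix (Fin (t + 3)) (Fin (t + 3)) F) (hG : G.det ≠ 0) (c : F) (hc0 : c ≠ 0)
    (h : (diagonal (dvec t ζ))ᵀ * G * diagonal (dvec t ζ) = c • G) : False := by
  classical
  have hr : r.Prime := Fact.out
  have hζ0 : ζ ≠ 0 := by
    rintro rfl
    rw [zero_pow hr.ne_zero] at hζr
    exact zero_ne_one hζr
  have hord : orderOf ζ = r := orderOf_eq_prime hζr hζ1
  have hpow : ∀ k, ζ ^ k = 1 → r ∣ k := fun k hk => hord ▸ orderOf_dvd_of_pow_eq_one hk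
  have h2 : ζ * ζ ≠ 1 := by
    intro h'
    have h1 := hpow 2 (by rw [pow_two]; exact h')
    exact hr2 ((Nat.prime_dvd_prime_iff_eq hr Nat.prime_two).1 h1)
  have h4 : ζ * ζ * (ζ * ζ) ≠ 1 := by
    intro h'
    have h1 := hpow 4 (by rw [← h']; ring)
    have h1' : r ∣ 2 * 2 := h1
    rcases (Nat.Prime.dvd_mul hr).1 h1' with h5 | h5 <;>
      exact hr2 ((Nat.prime_dvd_prime_iff_eq hr Nat.prime_two).1 h5)
  have h3 : ζ * ζ * ζ = 1 → r = 3 := by
    intro h'
    have h1 := hpow 3 (by rw [← h']; ring)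
    exact (Nat.prime_dvd_prime_iff_eq hr Nat.prime_three).1 h1
  have hinv : ζ⁻¹ * ζ = 1 := inv_mul_cancel₀ hζ0
  have key := count_key t ζ c hζ0 G hG h
  obtain ⟨k, hk⟩ := ht
  by_cases hc1 : c = 1
  · have e := key ζ
    rw [hc1, one_mul, one_mul] at e
    have p1 : ζ = ζ := rfl
    have n1 : ¬ (ζ⁻¹ = ζ) := by
      intro h'
      apply h2
      nth_rewrite 1 [← h']
      exact hinv
    have n2 : ¬ (ζ * ζ = ζ) := by
      intro h'
      apply hζ1
      have := mul_right_cancel₀ hζ0 (h'.trans (one_mul ζ).symm)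
      exact this
    have n3 : ¬ ((1 : F) = ζ) := fun h' => hζ1 h'.symm
    rw [if_pos p1, if_neg n1, if_neg n2, if_neg n3] at e
    omega
  · have e := key c
    have p1 : c = c := rfl
    have n1 : ¬ ((1 : F) = c) := fun h' => hc1 h'.symm
    have n2 : ¬ (c * ζ⁻¹ = c) := by
      intro h'
      apply hζ1
      have h5 : ζ⁻¹ = 1 := mul_left_cancel₀ hc0 (h'.trans (mul_one c).symm)
      rw [← inv_inv ζ, h5, inv_one]
    have n3 : ¬ (c * (ζ * ζ) = c) := by
      intro h'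
      exact h2 (mul_left_cancel₀ hc0 (h'.trans (mul_one c).symm))
    rw [if_neg n1, if_neg n2, if_neg n3, if_pos p1] at e
    by_cases hcz : ζ = c
    · rw [if_pos hcz] at e
      by_cases h5 : ζ⁻¹ * ζ⁻¹ = c
      · rw [if_pos h5] at e
        have ht3 : t = 3 := by omega
        have h6 : ζ * ζ * ζ = 1 := by
          rw [← hcz] at h5
          calc ζ * ζ * ζ = ζ * ζ * (ζ⁻¹ * ζ⁻¹) := by rw [h5]
            _ = (ζ * ζ⁻¹) * (ζ * ζ⁻¹) := by ring
            _ = 1 := by rw [mul_inv_cancel₀ hζ0, one_mul]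
        exact hgap ⟨ht3, h3 h6⟩
      · rw [if_neg h5] at e
        omega
    · rw [if_neg hcz] at e
      by_cases h5 : ζ⁻¹ * ζ⁻¹ = c
      · rw [if_pos h5] at e
        have e2 := key ζ
        have p2 : ζ = ζ := rfl
        have m1 : ¬ (c * ζ⁻¹ = ζ) := by
          intro h'
          apply h4
          rw [← h5] at h'
          calc ζ * ζ * (ζ * ζ) = ζ * ζ * ζ * (ζ⁻¹ * ζ⁻¹ * ζ⁻¹) := by rw [h']; ring
            _ = (ζ * ζ⁻¹) * (ζ * ζ⁻¹) * (ζ * ζ⁻¹) := by ring
            _ = 1 := by rw [mul_inv_cancel₀ hζ0, one_mul, one_mul]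
        have m2 : ¬ (c * (ζ * ζ) = ζ) := by
          intro h'
          apply hζ1
          rw [← h5] at h'
          rw [← h']
          calc ζ⁻¹ * ζ⁻¹ * (ζ * ζ) = (ζ⁻¹ * ζ) * (ζ⁻¹ * ζ) := by ring
            _ = 1 := by rw [hinv, one_mul]
        have m3 : ¬ (c = ζ) := fun h' => hcz h'.symm
        rw [if_pos p2, if_neg m1, if_neg m2, if_neg m3] at e2
        omega
      · rw [if_neg h5] at e
        omega

/-- the case `r ∣ q - 1` of the derangement statement. -/
theorem case_split [Fintype F] (r : ℕ) [Fact r.Prime] (hr2 : r ≠ 2) (t : ℕ) (ht : Odd t)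
    (hgap : ¬ (t = 3 ∧ r = 3)) (hdvd : r ∣ Fintype.card F - 1)
    {f : (Fin (t + 3) → F) → (Fin (t + 3) → F) → F} (hf : IsSymplecticForm f) :
    ∃ x : Matrix.SpecialLinearGroup (Fin (t + 3)) F,
      ((x ^ r : Matrix.SpecialLinearGroup (Fin (t + 3)) F) :
        Matrix (Fin (t + 3)) (Fin (t + 3)) F) = 1 ∧
      (∀ z : F, (x : Matrix (Fin (t + 3)) (Fin (t + 3)) F) ≠
        z • (1 : Matrix (Fin (t + 3)) (Fin (t + 3)) F)) ∧
      ∀ P : Matrix.SpecialLinearGroup (Fin (t + 3)) F, P⁻¹ * x * P ∉ (similarityGroup f).comap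
        (Matrix.SpecialLinearGroup.toGL :
          Matrix.SpecialLinearGroup (Fin (t + 3)) F →* GL (Fin (t + 3)) F) := by
  classical
  have hr : r.Prime := Fact.out
  have hcard : r ∣ Fintype.card Fˣ := by rw [Fintype.card_units]; exact hdvd
  obtain ⟨u, hu⟩ := exists_prime_orderOf_dvd_card r hcard
  have hζr : (u : F) ^ r = 1 := by
    rw [← Units.val_pow_eq_pow_val, ← hu, pow_orderOf_eq_one, Units.val_one]
  have hζ1 : (u : F) ≠ 1 := by
    intro h
    have h1 : u = 1 := Units.ext h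
    rw [h1, orderOf_one] at hu
    exact hr.one_lt.ne hu
  have hζ0 : (u : F) ≠ 0 := u.ne_zero
  have ht0 : t ≠ 0 := by
    rintro rfl
    exact absurd ht (by decide)
  let x : Matrix.SpecialLinearGroup (Fin (t + 3)) F :=
    ⟨diagonal (dvec t (u : F)), by rw [Matrix.det_diagonal, prod_dvec t _ hζ0]⟩
  have hx : (x : Matrix (Fin (t + 3)) (Fin (t + 3)) F) = diagonal (dvec t (u : F)) := rfl
  refine ⟨x, ?_, ?_, ?_⟩
  · have h1 : ((x ^ r : Matrix.SpecialLinearGroup (Fin (t + 3)) F) :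
        Matrix (Fin (t + 3)) (Fin (t + 3)) F) =
        (x : Matrix (Fin (t + 3)) (Fin (t + 3)) F) ^ r := Matrix.SpecialLinearGroup.coe_pow x r
    rw [h1, hx, Matrix.diagonal_pow]
    have h2 : dvec t (u : F) ^ r = fun _ => (1 : F) := by
      funext j
      rw [Pi.pow_apply]
      exact dvec_forall t (u : F) (fun a => a ^ r = 1) hζr
        (by rw [mul_pow, inv_pow, hζr, inv_one, one_mul]) (one_pow r) j
    rw [h2, Matrix.diagonal_one]
  · intro z hz
    rw [hx] at hz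
    obtain ⟨j1, hj1⟩ := dvec_exists_one t ht0 (u : F)
    have e0 := congrFun (congrFun hz 0) 0
    have e1 := congrFun (congrFun hz j1) j1
    rw [Matrix.diagonal_apply_eq, Matrix.smul_apply, Matrix.one_apply_eq, smul_eq_mul, mul_one]
      at e0 e1
    rw [dvec_zero] at e0
    rw [hj1] at e1
    exact hζ1 (e0.trans e1.symm)
  · intro P hP
    obtain ⟨G, c, -, hG, hc0, hc⟩ := conj_reduce hf x P hP
    rw [hx] at hc
    exact diag_not_sim r hr2 t ht hgap (u : F) hζ1 hζr G hG c hc0 hc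

end Cfsg.Agent.Helper7.SpDer
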