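import Mathlib
import Cfsg.Agent.Helper7.SpGU1
import Cfsg.Agent.Helper12.SympConjJ
import Cfsg.Agent.S2677

set_option autoImplicit false
set_option linter.style.haveILetI false
open Cfsg

/-! Centraliser in `Sp_2m(q)`, `q ≡ 2 (mod 3)`, of a fixed-point-free element of order three:
it is isomorphic to `GU_m(q)`. -/

namespace Cfsg.Agent.Helper7.SpGU

open Matrix Polynomial Cfsg.Agent.Helper13 Module Cfsg.Agent.S2639

/-- a monic polynomial all of whose irreducible factors divide the irreducible `N` is a power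
of `N`. -/
theorem eq_pow_of_forall_irreducible_dvd {F : Type*} [Field F] (N : F[X]) (hN : Irreducible N)
    (hNm : N.Monic) : ∀ (d : ℕ) (p : F[X]), p.natDegree = d → p.Monic →
      (∀ Q : F[X], Irreducible Q → Q ∣ p → Q ∣ N) → ∃ k : ℕ, p = N ^ k := by
  intro d
  induction d using Nat.strong_induction_on with
  | _ d ih =>
    intro p hd hp hQ
    by_cases h1 : p = 1
    · exact ⟨0, by rw [h1, pow_zero]⟩
    · have hnu : ¬ IsUnit p := by
        intro hu
        exact h1 (hp.eq_one_of_isUnit hu)
      obtain ⟨Q, hQi, hQp⟩ := WfDvdMonoid.exists_irreducible_factor hnu hp.ne_zero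
      have hQN : Q ∣ N := hQ Q hQi hQp
      have hNQ : N ∣ Q := hQi.dvd_symm hN hQN
      obtain ⟨p', hp'⟩ := hNQ.trans hQp
      have hp'm : p'.Monic := hNm.of_mul_monic_left (hp' ▸ hp)
      have hdeg : p.natDegree = N.natDegree + p'.natDegree := by
        rw [hp', hNm.natDegree_mul hp'm]
      have hNpos : 0 < N.natDegree := hN.natDegree_pos
      obtain ⟨k, hk⟩ := ih p'.natDegree (by omega) p' rfl hp'm
        (fun R hR hRp => hQ R hR (hRp.trans ⟨N, by rw [hp', mul_comm]⟩))
      exact ⟨k + 1, by rw [hp', hk, pow_succ']⟩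

/-- an irreducible factor of the characteristic polynomial divides every annihilating polynomial
(general index type; after `Helper12.SpPrime.dvd_of_irreducible_dvd_charpoly_gen`). -/
theorem dvd_of_irreducible_dvd_charpoly' {F : Type*} [Field F] {ι : Type*} [Fintype ι]
    [DecidableEq ι] (g : Matrix ι ι F) (N : F[X])
    (hN : aeval g N = 0) (Q : F[X]) (hQ : Irreducible Q) (hQg : Q ∣ g.charpoly) : Q ∣ N := by
  have hQ' : Q ∣ LinearMap.charpoly (Matrix.toLin' g) := by
    rw [Matrix.charpoly_toLin']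
    exact hQg
  obtain ⟨w, hw0, hw⟩ :=
    Cfsg.Agent.Helper12.exists_ne_zero_aeval_eq_zero (Matrix.toLin' g) Q hQ hQ'
  by_contra hndvd
  obtain ⟨a, b, hab⟩ := (hQ.coprime_iff_not_dvd).2 hndvd
  apply hw0
  have hN' : aeval (Matrix.toLin' g) N = 0 := by
    have := Polynomial.aeval_algHom_apply (Matrix.toLinAlgEquiv' (R := F) (n := ι)).toAlgHom g N
    have e1 : ((Matrix.toLinAlgEquiv' (R := F) (n := ι)).toAlgHom : _ → _) g =
        Matrix.toLin' g := rfl
    rw [e1] at this
    rw [this, hN, map_zero]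
  have h1 : aeval (Matrix.toLin' g) (a * Q + b * N) w = w := by
    rw [hab, map_one, Module.End.one_apply]
  rw [map_add, map_mul, map_mul, LinearMap.add_apply, Module.End.mul_apply,
    Module.End.mul_apply, hw, hN', map_zero, LinearMap.zero_apply, map_zero, add_zero] at h1
  exact h1.symm

/-- the characteristic polynomial of a matrix annihilated by a monic irreducible `N` is a power
of `N`. -/
theorem charpoly_eq_pow {F : Type*} [Field F] {ι : Type*} [Fintype ι] [DecidableEq ι]
    (A : Matrix ι ι F) (N : F[X]) (hN : Irreducible N) (hNm : N.Monic) (hA : aeval A N = 0) :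
    ∃ k : ℕ, A.charpoly = N ^ k :=
  eq_pow_of_forall_irreducible_dvd N hN hNm _ A.charpoly rfl (Matrix.charpoly_monic A)
    (fun Q hQ hQd => dvd_of_irreducible_dvd_charpoly' A N hA Q hQ hQd)

/-- two matrices of the same size annihilated by the same monic irreducible polynomial have the
same characteristic polynomial. -/
theorem charpoly_eq_of_aeval {F : Type*} [Field F] {ι : Type*} [Fintype ι] [DecidableEq ι]
    (A A' : Matrix ι ι F) (N : F[X]) (hN : Irreducible N) (hNm : N.Monic) (hA : aeval A N = 0)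
    (hA' : aeval A' N = 0) : A.charpoly = A'.charpoly := by
  obtain ⟨k, hk⟩ := charpoly_eq_pow A N hN hNm hA
  obtain ⟨k', hk'⟩ := charpoly_eq_pow A' N hN hNm hA'
  have h1 : A.charpoly.natDegree = A'.charpoly.natDegree := by
    rw [Matrix.charpoly_natDegree_eq_dim, Matrix.charpoly_natDegree_eq_dim]
  rw [hk, hk', hNm.natDegree_pow, hNm.natDegree_pow] at h1
  have hNpos : 0 < N.natDegree := hN.natDegree_pos
  have : k = k' := Nat.eq_of_mul_eq_mul_right hNpos h1
  rw [hk, hk', this]

/-- conjugate elements have centralisers of the same order. -/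
theorem card_centralizer_of_isConj {G : Type*} [Group G] {a b : G} (h : IsConj a b) :
    Nat.card ↥(Subgroup.centralizer ({a} : Set G)) =
      Nat.card ↥(Subgroup.centralizer ({b} : Set G)) := by
  obtain ⟨c, rfl⟩ := isConj_iff.1 h
  refine Nat.card_congr ⟨fun g => ⟨c * g.1 * c⁻¹, ?_⟩, fun g => ⟨c⁻¹ * g.1 * c, ?_⟩, ?_, ?_⟩
  · rw [Subgroup.mem_centralizer_iff]
    intro y hy
    rw [Set.mem_singleton_iff] at hy
    have hg := (Subgroup.mem_centralizer_iff.1 g.2) a (Set.mem_singleton a)
    rw [hy]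
    calc c * a * c⁻¹ * (c * g.1 * c⁻¹) = c * (a * g.1) * c⁻¹ := by group
      _ = c * (g.1 * a) * c⁻¹ := by rw [hg]
      _ = c * g.1 * c⁻¹ * (c * a * c⁻¹) := by group
  · rw [Subgroup.mem_centralizer_iff]
    intro y hy
    rw [Set.mem_singleton_iff] at hy
    have hg := (Subgroup.mem_centralizer_iff.1 g.2) (c * a * c⁻¹) (Set.mem_singleton _)
    rw [hy]
    calc a * (c⁻¹ * g.1 * c) = c⁻¹ * (c * a * c⁻¹ * g.1) * c := by group
      _ = c⁻¹ * (g.1 * (c * a * c⁻¹)) * c := by rw [hg]
      _ = c⁻¹ * g.1 * c * a := by group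
  · intro g
    apply Subtype.ext
    show c⁻¹ * (c * g.1 * c⁻¹) * c = g.1
    group
  · intro g
    apply Subtype.ext
    show c * (c⁻¹ * g.1 * c) * c⁻¹ = g.1
    group

section main

variable {K F : Type*} [Field K] [Fintype K] [Field F] [Fintype F] [Algebra F K] {q : ℕ}
  (hK : Fintype.card K = q ^ 2) (hF : Fintype.card F = q)

local notation "ι" => algebraMap F K

omit [Fintype K] [Fintype F] [Algebra F K] in
theorem hermForm_smul_right' {m : ℕ} (c : K) (u v : Fin m → K) :
    Cfsg.hermForm m K q u (c • v) = c ^ q * Cfsg.hermForm m K q u v := by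
  simp only [Cfsg.hermForm, Pi.smul_apply, smul_eq_mul, Finset.mul_sum, mul_pow]
  refine Finset.sum_congr rfl fun i _ => ?_
  ring

include hF in
theorem three_ne_zero_of_mod (hq3 : q % 3 = 2) : (3 : F) ≠ 0 := by
  intro h
  have h1 : addOrderOf (1 : F) ∣ 3 := by
    apply addOrderOf_dvd_of_nsmul_eq_zero
    rw [nsmul_eq_mul, mul_one]
    exact_mod_cast h
  have h2 : addOrderOf (1 : F) ∣ Fintype.card F := addOrderOf_dvd_card
  have h3 : addOrderOf (1 : F) ≠ 1 := by
    intro h'
    rw [AddMonoid.addOrderOf_eq_one_iff] at h'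
    exact one_ne_zero h'
  have h4 : addOrderOf (1 : F) = 3 := by
    rcases (Nat.dvd_prime Nat.prime_three).1 h1 with h' | h'
    · exact absurd h' h3
    · exact h'
  rw [h4, hF] at h2
  omega

include hF in
theorem no_root (hq3 : q % 3 = 2) (s : F) : s ^ 2 + s + 1 ≠ 0 := by
  classical
  intro hs
  have h3 : (3 : F) ≠ 0 := three_ne_zero_of_mod hF hq3
  have hs3 : s ^ 3 = 1 := by linear_combination (s - 1) * hs
  have hs1 : s ≠ 1 := by
    rintro rfl
    apply h3
    linear_combination hs
  have hs0 : s ≠ 0 := by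
    rintro rfl
    simp at hs3
  have hord : orderOf (Units.mk0 s hs0) = 3 := by
    haveI : Fact (Nat.Prime 3) := ⟨Nat.prime_three⟩
    apply orderOf_eq_prime
    · apply Units.ext
      simp [hs3]
    · intro h
      apply hs1
      have := congrArg Units.val h
      simpa using this
  have hdvd : 3 ∣ Fintype.card Fˣ := by
    rw [← hord]
    exact orderOf_dvd_card
  rw [Fintype.card_units, hF] at hdvd
  omega

include hF in
theorem irreducible_N (hq3 : q % 3 = 2) : Irreducible (X ^ 2 + X + 1 : F[X]) := by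
  have hm : (X ^ 2 + X + 1 : F[X]).Monic := by monicity!
  have hdeg : (X ^ 2 + X + 1 : F[X]).natDegree = 2 := by compute_degree!
  rw [Polynomial.Monic.irreducible_iff_roots_eq_zero_of_degree_le_three hm (by omega) (by omega)]
  rw [Multiset.eq_zero_iff_forall_notMem]
  intro s hs
  rw [mem_roots hm.ne_zero] at hs
  apply no_root hF hq3 s
  simpa [IsRoot] using hs

include hK hF in
theorem exists_omega (hq3 : q % 3 = 2) :
    ∃ ω : K, ω ^ 2 + ω + 1 = 0 ∧ ω ^ (q + 1) = 1 ∧ ∀ x : F, ι x ≠ ω := by
  classical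
  have hq1 : 1 < q := by rw [← hF]; exact Fintype.one_lt_card
  obtain ⟨k, hk⟩ : 3 ∣ q + 1 := by omega
  have h3 : 3 ∣ Fintype.card Kˣ := by
    rw [Fintype.card_units, hK]
    have h1 : q ^ 2 - 1 = (q + 1) * (q - 1) := by
      have := Nat.sq_sub_sq q 1
      simpa using this
    rw [h1, hk, mul_assoc]
    exact dvd_mul_right _ _
  haveI : Fact (Nat.Prime 3) := ⟨Nat.prime_three⟩
  obtain ⟨w, hw⟩ := exists_prime_orderOf_dvd_card 3 h3
  have hw3 : (w : K) ^ 3 = 1 := by
    have := pow_orderOf_eq_one w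
    rw [hw] at this
    have := congrArg Units.val this
    simpa using this
  have hw1 : (w : K) ≠ 1 := by
    intro h
    have : w = 1 := Units.ext h
    rw [this, orderOf_one] at hw
    omega
  have hw2 : (w : K) ^ 2 + (w : K) + 1 = 0 := by
    have h1 : ((w : K) - 1) * ((w : K) ^ 2 + (w : K) + 1) = 0 := by
      linear_combination hw3
    rcases mul_eq_zero.1 h1 with h | h
    · exact absurd (sub_eq_zero.1 h) hw1
    · exact h
  refine ⟨(w : K), hw2, ?_, ?_⟩
  · rw [hk, pow_mul, hw3, one_pow]
  · intro x hx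
    apply no_root hF hq3 x
    apply (algebraMap F K).injective
    rw [map_add, map_add, map_pow, map_one, map_zero, hx]
    exact hw2

end main

end Cfsg.Agent.Helper7.SpGU
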