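import Mathlib
import Cfsg.Agent.Helper7.SpGU2

set_option autoImplicit false
set_option linter.style.haveILetI false
open Cfsg

/-! Centraliser in `Sp_2m(q)`, `q ≡ 2 (mod 3)`, of a fixed-point-free element of order three:
it has the order of `GU_m(q)`. -/

namespace Cfsg.Agent.Helper7.SpGU

open Matrix Polynomial Cfsg.Agent.Helper13 Module Cfsg.Agent.S2639

section main

variable {K F : Type*} [Field K] [Fintype K] [Field F] [Fintype F] [Algebra F K] {q : ℕ}
  (hK : Fintype.card K = q ^ 2) (hF : Fintype.card F = q)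

local notation "ι" => algebraMap F K

omit [Fintype F] in
/-- `x² + x + 1 = 0` for a matrix with `x³ = 1` and `x - 1` invertible. -/
theorem sq_add_self_add_one {ι' : Type*} [Fintype ι'] [DecidableEq ι'] (x : Matrix ι' ι' F)
    (hx3 : x ^ 3 = 1) (hfpf : IsUnit (x - 1)) : x ^ 2 + x + 1 = 0 := by
  have h1 : (x - 1) * (x ^ 2 + x + 1) = 0 := by
    calc (x - 1) * (x ^ 2 + x + 1) = x ^ 3 - 1 := by noncomm_ring
      _ = 0 := by rw [hx3, sub_self]
  obtain ⟨u, hu⟩ := hfpf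
  have h2 := congrArg (fun M => ((u⁻¹ : (Matrix ι' ι' F)ˣ) : Matrix ι' ι' F) * M) h1
  simp only [mul_zero] at h2
  rw [← mul_assoc, ← hu, Units.inv_mul, one_mul] at h2
  exact h2

omit [Fintype F] in
theorem aeval_N {ι' : Type*} [Fintype ι'] [DecidableEq ι'] (x : Matrix ι' ι' F)
    (h : x ^ 2 + x + 1 = 0) : aeval x (X ^ 2 + X + 1 : F[X]) = 0 := by
  simp [h]

omit [Fintype F] in
theorem pow_three_of_sq {ι' : Type*} [Fintype ι'] [DecidableEq ι'] (x : Matrix ι' ι' F)
    (h : x ^ 2 + x + 1 = 0) : x ^ 3 = 1 := by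
  have h1 : x ^ 3 - 1 = (x - 1) * (x ^ 2 + x + 1) := by noncomm_ring
  rw [h, mul_zero, sub_eq_zero] at h1
  exact h1

include hK hF in
/-- the centraliser in `Sp_2m(q)` of a fixed-point-free element of order 3 (`q ≡ 2 mod 3`) has
the order of `GU_m(q)`. -/
theorem card_centralizer (hq3 : q % 3 = 2) (m : ℕ) (x : Matrix.symplecticGroup (Fin m) F)
    (hx3 : x ^ 3 = 1)
    (hfpf : IsUnit ((x : Matrix (Fin m ⊕ Fin m) (Fin m ⊕ Fin m) F) - 1)) :
    Nat.card ↥(Subgroup.centralizer ({x} : Set ↥(Matrix.symplecticGroup (Fin m) F))) =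
      Nat.card ↥(Cfsg.GU m K q) := by
  classical
  obtain ⟨ω, hω2, hωq, hωF⟩ := exists_omega hK hF hq3
  obtain ⟨B, lam, δ, hδ0, hlam0, hG⟩ := exists_frame hK hF m
  set S : Matrix (Fin m) (Fin m) K := ω • 1 with hS
  have hSpres : ∀ u v, Cfsg.hermForm m K q (S *ᵥ u) (S *ᵥ v) = Cfsg.hermForm m K q u v := by
    intro u v
    rw [hS, Matrix.smul_mulVec, Matrix.smul_mulVec, Matrix.one_mulVec,
      Matrix.one_mulVec, hermForm_smul_left', hermForm_smul_right', ← mul_assoc, ← pow_succ',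
      hωq, one_mul]
  have hx0mem := Nmat_mem_sp hK hF B hδ0 hG S hSpres
  set X0 : Matrix.symplecticGroup (Fin m) F := ⟨Nmat B S, hx0mem⟩ with hX0
  have hNi : Irreducible (X ^ 2 + X + 1 : F[X]) := irreducible_N hF hq3
  have hNm : (X ^ 2 + X + 1 : F[X]).Monic := by monicity!
  have hx3' : (x : Matrix (Fin m ⊕ Fin m) (Fin m ⊕ Fin m) F) ^ 3 = 1 := by
    have := congrArg Subtype.val hx3
    simpa using this
  have hxsq := sq_add_self_add_one (x : Matrix (Fin m ⊕ Fin m) (Fin m ⊕ Fin m) F) hx3' hfpf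
  have hSsq : S * S + S + 1 = 0 := by
    rw [hS, Matrix.smul_mul, Matrix.mul_smul, one_mul, smul_smul]
    have : (ω * ω) • (1 : Matrix (Fin m) (Fin m) K) + ω • 1 + 1 =
        (ω ^ 2 + ω + 1) • (1 : Matrix (Fin m) (Fin m) K) := by
      rw [add_smul, add_smul, one_smul, pow_two]
    rw [this, hω2, zero_smul]
  have hx0sq : Nmat B S ^ 2 + Nmat B S + 1 = 0 := by
    rw [pow_two, ← Nmat_mul, ← Nmat_add, ← Nmat_one B, ← Nmat_add, hSsq, Nmat_zero]
  have hc : (x : Matrix (Fin m ⊕ Fin m) (Fin m ⊕ Fin m) F).charpoly =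
      (X0 : Matrix (Fin m ⊕ Fin m) (Fin m ⊕ Fin m) F).charpoly :=
    charpoly_eq_of_aeval _ _ _ hNi hNm (aeval_N _ hxsq) (aeval_N _ hx0sq)
  have h3 : (3 : F) ≠ 0 := three_ne_zero_of_mod hF hq3
  have h3' : ((3 : ℕ) : F) ≠ 0 := by exact_mod_cast h3
  have hs : Module.End.IsSemisimple
      (Matrix.toLin' (x : Matrix (Fin m ⊕ Fin m) (Fin m ⊕ Fin m) F)) :=
    Cfsg.Agent.Helper12.SympConj.isSemisimple_toLin'_of_pow_eq_one _ 3 h3' hx3'
  have hs0 : Module.End.IsSemisimple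
      (Matrix.toLin' (X0 : Matrix (Fin m ⊕ Fin m) (Fin m ⊕ Fin m) F)) :=
    Cfsg.Agent.Helper12.SympConj.isSemisimple_toLin'_of_pow_eq_one _ 3 h3'
      (pow_three_of_sq _ hx0sq)
  have hconj : IsConj x X0 :=
    Cfsg.Agent.Helper12.SympConj.sp_isConj_of_semisimple m x X0 hs hs0 hc
  rw [card_centralizer_of_isConj hconj]
  -- the bijection `GU → C(X0)`
  have hcommS : ∀ g : Matrix (Fin m) (Fin m) K, Nmat B S * Nmat B g = Nmat B g * Nmat B S := by
    intro g
    rw [← Nmat_mul, ← Nmat_mul, hS, Matrix.smul_mul, Matrix.mul_smul, one_mul, mul_one]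
  have hGUpres : ∀ g : ↥(Cfsg.GU m K q), ∀ u v,
      Cfsg.hermForm m K q ((g.1 : Matrix (Fin m) (Fin m) K) *ᵥ u)
        ((g.1 : Matrix (Fin m) (Fin m) K) *ᵥ v) = Cfsg.hermForm m K q u v :=
    fun g u v => g.2 u v
  let ψ : ↥(Cfsg.GU m K q) →
      ↥(Subgroup.centralizer ({X0} : Set ↥(Matrix.symplecticGroup (Fin m) F))) :=
    fun g => ⟨⟨Nmat B (g.1 : Matrix (Fin m) (Fin m) K),
      Nmat_mem_sp hK hF B hδ0 hG _ (hGUpres g)⟩, by
        rw [Subgroup.mem_centralizer_iff]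
        intro y hy
        rw [Set.mem_singleton_iff] at hy
        rw [hy]
        apply Subtype.ext
        exact hcommS _⟩
  have hψinj : Function.Injective ψ := by
    intro g h hgh
    have h1 : Nmat B (g.1 : Matrix (Fin m) (Fin m) K) = Nmat B (h.1 : Matrix (Fin m) (Fin m) K) :=
      congrArg (fun z => ((z.1 : Matrix.symplecticGroup (Fin m) F) :
        Matrix (Fin m ⊕ Fin m) (Fin m ⊕ Fin m) F)) hgh
    apply Subtype.ext
    apply Units.ext
    exact Nmat_injective B h1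
  have hψsurj : Function.Surjective ψ := by
    intro A
    have hAc := (Subgroup.mem_centralizer_iff.1 A.2) X0 (Set.mem_singleton X0)
    have hAc' : (A.1 : Matrix (Fin m ⊕ Fin m) (Fin m ⊕ Fin m) F) * Nmat B S =
        Nmat B S * (A.1 : Matrix (Fin m ⊕ Fin m) (Fin m ⊕ Fin m) F) := by
      have := congrArg Subtype.val hAc
      exact this.symm
    have hAi := (Subgroup.centralizer ({X0} : Set ↥(Matrix.symplecticGroup (Fin m) F))).inv_mem A.2
    have hAic := (Subgroup.mem_centralizer_iff.1 hAi) X0 (Set.mem_singleton X0)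
    have hAic' : ((A.1⁻¹ : Matrix.symplecticGroup (Fin m) F) :
        Matrix (Fin m ⊕ Fin m) (Fin m ⊕ Fin m) F) * Nmat B S =
        Nmat B S * ((A.1⁻¹ : Matrix.symplecticGroup (Fin m) F) :
          Matrix (Fin m ⊕ Fin m) (Fin m ⊕ Fin m) F) := by
      have := congrArg Subtype.val hAic
      exact this.symm
    obtain ⟨g, hgp, hgA⟩ := exists_of_commute hK hF B hlam0 hG ω hωF _ A.1.2 hAc'
    obtain ⟨g', _, hgA'⟩ := exists_of_commute hK hF B hlam0 hG ω hωF _ (A.1⁻¹).2 hAic'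
    have h1 : g * g' = 1 := by
      apply Nmat_injective B
      rw [Nmat_mul, hgA, hgA', Nmat_one]
      have := congrArg Subtype.val (mul_inv_cancel A.1)
      exact this
    have h2 : g' * g = 1 := by
      apply Nmat_injective B
      rw [Nmat_mul, hgA, hgA', Nmat_one]
      have := congrArg Subtype.val (inv_mul_cancel A.1)
      exact this
    let G : GL (Fin m) K := ⟨g, g', h1, h2⟩
    have hGmem : G ∈ Cfsg.GU m K q := fun u v => hgp u v
    refine ⟨⟨G, hGmem⟩, ?_⟩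
    apply Subtype.ext
    apply Subtype.ext
    exact hgA
  exact (Nat.card_congr (Equiv.ofBijective ψ ⟨hψinj, hψsurj⟩)).symm

end main

end Cfsg.Agent.Helper7.SpGU
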