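import Mathlib
import Cfsg.Agent.Helper7.SubF1
import Cfsg.Agent.Helper7.SubF2

set_option autoImplicit false
set_option linter.unusedSectionVars false
set_option linter.style.haveILetI false

/-! Elements of order 3 of `PSL_n(q)` in characteristic 3 are conjugate into the subfield
subgroup when the determinant can be adjusted. -/

namespace Cfsg.Agent.Helper7.SubF

open Matrix Cfsg.Geo

variable {F : Type*} [Field F] [Fintype F] [CharP F 3] {n : ℕ}

theorem exists_cube_root (a : F) : ∃ c : F, c ^ 3 = a := by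
  haveI : Fact (Nat.Prime 3) := ⟨Nat.prime_three⟩
  obtain ⟨c, hc⟩ := surjective_frobenius F 3 a
  exact ⟨c, by rw [← hc, frobenius_def]⟩

/-- an element with scalar cube is `λ (1 + N)` with `N ^ 3 = 0`. -/
theorem exists_nil_of_cube (x : Matrix (Fin n) (Fin n) F) (z : F) (hz : z ≠ 0)
    (hx : x ^ 3 = z • (1 : Matrix (Fin n) (Fin n) F)) :
    ∃ (l : F) (N : Matrix (Fin n) (Fin n) F), l ≠ 0 ∧ N ^ 3 = 0 ∧ x = l • (1 + N) := by
  haveI : Fact (Nat.Prime 3) := ⟨Nat.prime_three⟩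
  obtain ⟨l, hl⟩ := exists_cube_root z
  have hl0 : l ≠ 0 := by
    rintro rfl
    rw [zero_pow (by norm_num)] at hl
    exact hz hl.symm
  rcases isEmpty_or_nonempty (Fin n) with he | he
  · exact ⟨l, 0, hl0, Subsingleton.elim _ _, Subsingleton.elim _ _⟩
  refine ⟨l, l⁻¹ • x - 1, hl0, ?_, ?_⟩
  · have h1 : l⁻¹ • x - 1 = l⁻¹ • (x - l • (1 : Matrix (Fin n) (Fin n) F)) := by
      rw [smul_sub, smul_smul, inv_mul_cancel₀ hl0, one_smul]
    have hc : Commute x (l • (1 : Matrix (Fin n) (Fin n) F)) := by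
      rw [Commute, SemiconjBy, Matrix.mul_smul, Matrix.smul_mul, Matrix.mul_one, Matrix.one_mul]
    rw [h1, _root_.smul_pow, sub_pow_char_of_commute 3 hc, hx, _root_.smul_pow, one_pow, hl,
      sub_self, smul_zero]
  · rw [add_sub_cancel, smul_smul, mul_inv_cancel₀ hl0, one_smul]

/-- every element of order 3 (mod scalars) is conjugate into the subfield subgroup, provided
`n` is odd or every nonzero element is a subfield element times a square. -/
theorem conj_into_subfield (F₀ : Subfield F) (x : Matrix.SpecialLinearGroup (Fin n) F)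
    (hx3 : ∃ z : F, ((x ^ 3 : Matrix.SpecialLinearGroup (Fin n) F) : Matrix (Fin n) (Fin n) F) =
      z • (1 : Matrix (Fin n) (Fin n) F))
    (hxns : ∀ z : F, (x : Matrix (Fin n) (Fin n) F) ≠ z • (1 : Matrix (Fin n) (Fin n) F))
    (hcase : Odd n ∨ ∀ a : F, a ≠ 0 → ∃ (ε : F₀) (s : F), a = (ε : F) * s ^ 2) :
    ∃ P : Matrix.SpecialLinearGroup (Fin n) F,
      P⁻¹ * x * P ∈ (subfieldSubgroup F₀ (1 : GL (Fin n) F)).comap
        (Matrix.SpecialLinearGroup.toGL :
          Matrix.SpecialLinearGroup (Fin n) F →* GL (Fin n) F) := by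
  classical
  obtain ⟨z, hz⟩ := hx3
  have hn : 0 < n := by
    rcases Nat.eq_zero_or_pos n with rfl | hn
    · exact absurd (Subsingleton.elim _ _) (hxns 0)
    · exact hn
  have hx3' : (x : Matrix (Fin n) (Fin n) F) ^ 3 = z • (1 : Matrix (Fin n) (Fin n) F) := by
    rw [← hz]
    exact (Matrix.SpecialLinearGroup.coe_pow x 3).symm
  have hz0 : z ≠ 0 := by
    rintro rfl
    have h1 := congrArg Matrix.det hx3'
    haveI : Nonempty (Fin n) := ⟨⟨0, hn⟩⟩
    rw [Matrix.det_pow, x.2, one_pow, zero_smul, Matrix.det_zero] at h1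
    exact one_ne_zero h1
  obtain ⟨l, N, hl0, hN3, hxN⟩ := exists_nil_of_cube _ z hz0 hx3'
  obtain ⟨ι, _, d, D₀, hD₀, hpos, hsum, hle, hP⟩ := exists_rational_conj N ⟨3, hN3⟩ F₀
  have hd3 : ∀ i, d i ≤ 3 := fun i => hle i 3 hN3
  -- choice of the block and the scalars
  have hchoice : ∃ (i0 : ι) (c : F) (ε : F₀), c ^ (d i0) * (ε : F) * D₀ = 1 := by
    by_cases h1 : ∃ i0, d i0 = 1
    · obtain ⟨i0, hi0⟩ := h1
      refine ⟨i0, D₀⁻¹, 1, ?_⟩
      rw [hi0, pow_one, Subfield.coe_one, mul_one, inv_mul_cancel₀ hD₀]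
    by_cases h3 : ∃ i0, d i0 = 3
    · obtain ⟨i0, hi0⟩ := h3
      obtain ⟨c, hc⟩ := exists_cube_root D₀⁻¹
      refine ⟨i0, c, 1, ?_⟩
      rw [hi0, hc, Subfield.coe_one, mul_one, inv_mul_cancel₀ hD₀]
    push Not at h1 h3
    have h2 : ∀ i, d i = 2 := by
      intro i
      have := hpos i
      have := hd3 i
      have := h1 i
      have := h3 i
      omega
    have heven : Even n := by
      rw [← hsum, Finset.sum_congr rfl (fun i _ => h2 i), Finset.sum_const, smul_eq_mul]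
      exact ⟨Finset.univ.card, by ring⟩
    rcases hcase with ho | hsq
    · exact absurd heven (Nat.not_even_iff_odd.2 ho)
    · obtain ⟨ε, s, hs⟩ := hsq D₀⁻¹ (inv_ne_zero hD₀)
      have hne : Nonempty ι := by
        by_contra hemp
        rw [not_nonempty_iff] at hemp
        rw [Finset.univ_eq_empty, Finset.sum_empty] at hsum
        omega
      obtain ⟨i0⟩ := hne
      refine ⟨i0, s, ε, ?_⟩
      rw [h2 i0, mul_comm (s ^ 2), ← hs, inv_mul_cancel₀ hD₀]
  obtain ⟨i0, c, ε, hc⟩ := hchoice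
  obtain ⟨P, M₀, hdet, hNP⟩ := hP i0 c ε
  rw [hc] at hdet
  let P' : Matrix.SpecialLinearGroup (Fin n) F := ⟨P, hdet⟩
  refine ⟨P', ?_⟩
  apply mem_subfieldH_of F₀ _ (1 + M₀) l hl0
  have h1 : ((P'⁻¹ * x * P' : Matrix.SpecialLinearGroup (Fin n) F) : Matrix (Fin n) (Fin n) F) =
      (P'⁻¹ : Matrix.SpecialLinearGroup (Fin n) F).1 * x.1 * P := rfl
  have h2 : (P'⁻¹ : Matrix.SpecialLinearGroup (Fin n) F).1 * P = 1 := by
    have : ((P'⁻¹ * P' : Matrix.SpecialLinearGroup (Fin n) F) : Matrix (Fin n) (Fin n) F) = 1 := by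
      rw [inv_mul_cancel]; rfl
    exact this
  have h3 : x.1 * P = P * (l • (1 + M₀).map F₀.subtype) := by
    have hx1 : x.1 = l • (1 + N) := hxN
    rw [hx1, Matrix.map_add _ (fun a b => by simp), Matrix.map_one _ (by simp) (by simp),
      Matrix.smul_mul, Matrix.mul_smul, Matrix.add_mul, Matrix.mul_add, Matrix.one_mul,
      Matrix.mul_one, hNP]
  rw [h1, Matrix.mul_assoc, h3, ← Matrix.mul_assoc, h2, Matrix.one_mul]

end Cfsg.Agent.Helper7.SubF
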