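import Mathlib

set_option autoImplicit false
set_option linter.unusedSectionVars false
set_option linter.style.haveILetI false

/-! A discriminant for square-zero matrices with kernel equal to image: the determinant of
`[W | N W]` modulo squares. -/

namespace Cfsg.Agent.Helper7.SubF

open Matrix

variable {F : Type*} [Field F]

/-- a nonvanishing maximal minor exists when some product `E * W` is invertible. -/
theorem exists_minor {ν : Type*} [Fintype ν] [DecidableEq ν] {b : ℕ} (E : Matrix (Fin b) ν F)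
    (W : Matrix ν (Fin b) F) (h : (E * W).det ≠ 0) :
    ∃ φ : Fin b → ν, (E.submatrix id φ).det ≠ 0 := by
  by_contra hcon
  push Not at hcon
  apply h
  rw [← Matrix.det_transpose]
  have h1 : (E * W)ᵀ = Matrix.of (fun j => ∑ s, W s j • (fun i => E i s)) := by
    ext j i
    rw [Matrix.transpose_apply, Matrix.mul_apply, Matrix.of_apply, Finset.sum_apply]
    apply Finset.sum_congr rfl
    intro s _
    rw [Pi.smul_apply, smul_eq_mul, mul_comm]
  rw [h1]
  show Matrix.detRowAlternating (fun j => ∑ s, W s j • (fun i => E i s)) = 0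
  rw [← AlternatingMap.coe_multilinearMap, MultilinearMap.map_sum]
  apply Finset.sum_eq_zero
  intro φ _
  rw [MultilinearMap.map_smul_univ]
  have h2 := hcon φ
  rw [← Matrix.det_transpose] at h2
  have h3 : (Matrix.detRowAlternating : (Fin b → F) [⋀^Fin b]→ₗ[F] F).toMultilinearMap
      (fun j => (fun i => E i (φ j))) = ((E.submatrix id φ)ᵀ).det := rfl
  rw [AlternatingMap.coe_multilinearMap] at h3 ⊢
  rw [h3, h2, smul_zero]

/-- change of the complement `W`: the matrix `[W' | N W']` is `[W | N W]` times a block matrix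
`[[A, 0], [C, A]]`. -/
theorem disc_change {b : ℕ} (N : Matrix (Fin b ⊕ Fin b) (Fin b ⊕ Fin b) F) (hN : N * N = 0)
    (W W' : Matrix (Fin b ⊕ Fin b) (Fin b) F) (hB : (fromCols W (N * W)).det ≠ 0) :
    fromCols W' (N * W') =
      fromCols W (N * W) *
        fromBlocks ((fromCols W (N * W))⁻¹ * W').toRows₁ 0 ((fromCols W (N * W))⁻¹ * W').toRows₂
          ((fromCols W (N * W))⁻¹ * W').toRows₁ := by
  set B := fromCols W (N * W) with hBdef
  set X := B⁻¹ * W' with hX
  have hBu : IsUnit B.det := isUnit_iff_ne_zero.2 hB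
  have h1 : B * X = W' := by
    rw [hX, ← Matrix.mul_assoc, Matrix.mul_nonsing_inv _ hBu, Matrix.one_mul]
  have h2 : W' = W * X.toRows₁ + (N * W) * X.toRows₂ := by
    rw [← fromCols_mul_fromRows, fromRows_toRows, ← hBdef, h1]
  have h3 : N * W' = (N * W) * X.toRows₁ := by
    rw [h2, Matrix.mul_add, ← Matrix.mul_assoc, ← Matrix.mul_assoc N (N * W), ← Matrix.mul_assoc N N,
      hN, Matrix.zero_mul, Matrix.zero_mul, add_zero]
  rw [fromCols_mul_fromBlocks, Matrix.mul_zero, zero_add, ← h2, ← h3]

theorem disc_det {b : ℕ} (N : Matrix (Fin b ⊕ Fin b) (Fin b ⊕ Fin b) F) (hN : N * N = 0)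
    (W W' : Matrix (Fin b ⊕ Fin b) (Fin b) F) (hB : (fromCols W (N * W)).det ≠ 0) :
    (fromCols W' (N * W')).det =
      (fromCols W (N * W)).det * (((fromCols W (N * W))⁻¹ * W').toRows₁.det *
        ((fromCols W (N * W))⁻¹ * W').toRows₁.det) := by
  conv_lhs => rw [disc_change N hN W W' hB]
  rw [Matrix.det_mul, Matrix.det_fromBlocks_zero₁₂]

end Cfsg.Agent.Helper7.SubF
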