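import Mathlib
import Cfsg.Agent.Helper7.SubF5

set_option autoImplicit false
set_option linter.unusedSectionVars false
set_option linter.style.haveILetI false

/-! The discriminant of a square-zero matrix with entries in a subfield lies in the subfield
(times a square). -/

namespace Cfsg.Agent.Helper7.SubF

open Matrix

variable {F : Type*} [Field F]

theorem toRows₁_mul' {b : ℕ} {κ : Type*} [Fintype κ]
    (X : Matrix (Fin b ⊕ Fin b) (Fin b ⊕ Fin b) F) (Y : Matrix (Fin b ⊕ Fin b) κ F) :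
    (X * Y).toRows₁ = X.toRows₁ * Y := by
  ext i j
  rw [toRows₁_apply, Matrix.mul_apply, Matrix.mul_apply]
  rfl

/-- the discriminant of a rational square-zero matrix is rational up to a nonzero square. -/
theorem disc_rational {b : ℕ} (N : Matrix (Fin b ⊕ Fin b) (Fin b ⊕ Fin b) F) (hN : N * N = 0)
    (W : Matrix (Fin b ⊕ Fin b) (Fin b) F) (hB : (fromCols W (N * W)).det ≠ 0)
    (F₀ : Subfield F) (K₁ : Matrix (Fin b ⊕ Fin b) (Fin b ⊕ Fin b) F₀)
    (hK : N = K₁.map F₀.subtype) :
    ∃ (a : F) (t : F₀), a ≠ 0 ∧ (t : F) = (fromCols W (N * W)).det * (a * a) := by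
  classical
  set B := fromCols W (N * W) with hBdef
  have hBu : IsUnit B.det := isUnit_iff_ne_zero.2 hB
  have hE : (B⁻¹).toRows₁ * W = 1 := by
    have h1 : B⁻¹ * B = 1 := Matrix.nonsing_inv_mul _ hBu
    ext i j
    have h2 := congrFun (congrFun h1 (Sum.inl i)) (Sum.inl j)
    rw [Matrix.mul_apply] at h2
    rw [Matrix.mul_apply]
    simp only [toRows₁_apply]
    rw [Matrix.one_apply] at h2 ⊢
    simp only [Sum.inl.injEq] at h2
    rw [← h2]
    apply Finset.sum_congr rfl
    intro s _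
    rw [hBdef, fromCols_apply_inl]
  have hdet1 : ((B⁻¹).toRows₁ * W).det ≠ 0 := by
    rw [hE, Matrix.det_one]
    exact one_ne_zero
  obtain ⟨φ, hφ⟩ := exists_minor _ _ hdet1
  let W₀' : Matrix (Fin b ⊕ Fin b) (Fin b) F₀ := Matrix.of (fun s j => if s = φ j then 1 else 0)
  have hW₀ : (B⁻¹).toRows₁ * W₀'.map F₀.subtype = (B⁻¹).toRows₁.submatrix id φ := by
    ext i j
    rw [Matrix.mul_apply, Matrix.submatrix_apply, Finset.sum_eq_single (φ j)]
    · simp [W₀']
    · intro s _ hs
      simp [W₀', hs]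
    · intro h
      exact absurd (Finset.mem_univ _) h
  have h3 := disc_det N hN W (W₀'.map F₀.subtype) hB
  rw [← hBdef, toRows₁_mul', hW₀] at h3
  refine ⟨((B⁻¹).toRows₁.submatrix id φ).det, (fromCols W₀' (K₁ * W₀')).det, hφ, ?_⟩
  rw [← h3, hK, ← Matrix.map_mul, ← fromCols_map]
  exact (RingHom.map_det F₀.subtype _)

end Cfsg.Agent.Helper7.SubF
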