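import Mathlib
import Cfsg.Agent.Helper7.SubF6

set_option autoImplicit false
set_option linter.unusedSectionVars false
set_option linter.style.haveILetI false

/-! A square-zero unipotent element with nonsquare discriminant is not `SL`-conjugate into
`GL_n(F₀) · scalars` when all elements of `F₀` are squares in `F`. -/

namespace Cfsg.Agent.Helper7.SubF

open Matrix

variable {F : Type*} [Field F]

/-- the twisted square-zero matrix `[[0,0],[D,0]]`, `D = diag(δ,1,…,1)`. -/
def nDelta (b : ℕ) (i₀ : Fin b) (δ : F) : Matrix (Fin b ⊕ Fin b) (Fin b ⊕ Fin b) F :=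
  fromBlocks 0 0 (diagonal (Function.update (fun _ => (1 : F)) i₀ δ)) 0

theorem nDelta_sq (b : ℕ) (i₀ : Fin b) (δ : F) : nDelta b i₀ δ * nDelta b i₀ δ = 0 := by
  simp [nDelta, fromBlocks_multiply]

theorem nDelta_apply (b : ℕ) (i₀ : Fin b) (δ : F) :
    nDelta b i₀ δ (Sum.inr i₀) (Sum.inl i₀) = δ := by
  simp [nDelta]

theorem det_one_add_nDelta (b : ℕ) (i₀ : Fin b) (δ : F) : (1 + nDelta b i₀ δ).det = 1 := by
  have : (1 + nDelta b i₀ δ) =
      fromBlocks 1 0 (diagonal (Function.update (fun _ => (1 : F)) i₀ δ)) 1 := by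
    rw [nDelta, ← fromBlocks_one, fromBlocks_add]
    simp
  rw [this, det_fromBlocks_zero₁₂, det_one, one_mul]

theorem core (h2 : (2 : F) ≠ 0) (b : ℕ) (i₀ : Fin b) (δ : F) (hδ : ¬ IsSquare δ)
    (F₀ : Subfield F) (hsq : ∀ a : F₀, IsSquare (a : F))
    (P : Matrix (Fin b ⊕ Fin b) (Fin b ⊕ Fin b) F) (hP : P.det = 1) (μ : F) (hμ : μ ≠ 0)
    (M₀ : Matrix (Fin b ⊕ Fin b) (Fin b ⊕ Fin b) F₀)
    (h : (1 + nDelta b i₀ δ) * P = P * (μ • M₀.map F₀.subtype)) : False := by
  classical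
  have hPu : IsUnit P.det := by rw [hP]; exact isUnit_one
  have hPi : P⁻¹ * P = 1 := Matrix.nonsing_inv_mul _ hPu
  have hPi' : P * P⁻¹ = 1 := Matrix.mul_nonsing_inv _ hPu
  set Nd := nDelta b i₀ δ with hNd
  set N' := μ • M₀.map F₀.subtype - 1 with hN'
  have e1 : Nd * P = P * N' := by
    have h' := h
    rw [Matrix.add_mul, Matrix.one_mul] at h'
    rw [hN', Matrix.mul_sub, Matrix.mul_one, ← h']
    abel
  have e2 : N' * N' = 0 := by
    have h3 : P * (N' * N') = 0 := by
      rw [← Matrix.mul_assoc, ← e1, Matrix.mul_assoc, ← e1, ← Matrix.mul_assoc, nDelta_sq,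
        Matrix.zero_mul]
    calc N' * N' = P⁻¹ * (P * (N' * N')) := by rw [← Matrix.mul_assoc, hPi, Matrix.one_mul]
      _ = 0 := by rw [h3, Matrix.mul_zero]
  have hδ0 : δ ≠ 0 := by
    rintro rfl
    exact hδ ⟨0, by ring⟩
  have hN'ne : N' ≠ 0 := by
    intro h0
    rw [h0, Matrix.mul_zero] at e1
    have h3 : Nd = 0 := by
      calc Nd = Nd * (P * P⁻¹) := by rw [hPi', Matrix.mul_one]
        _ = (Nd * P) * P⁻¹ := by rw [Matrix.mul_assoc]
        _ = 0 := by rw [e1, Matrix.zero_mul]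
    have h4 := congrFun (congrFun h3 (Sum.inr i₀)) (Sum.inl i₀)
    rw [hNd, nDelta_apply] at h4
    exact hδ0 h4
  -- `μ` lies in `F₀`
  have hμ₀ : ∃ μ₀ : F₀, (μ₀ : F) = μ := by
    by_cases hoff : ∃ i j, i ≠ j ∧ M₀ i j ≠ 0
    · obtain ⟨i, j, hij, hM⟩ := hoff
      have h4 : N' * N' = (μ * μ) • ((M₀ * M₀).map F₀.subtype) -
          μ • (M₀.map F₀.subtype) - μ • (M₀.map F₀.subtype) + 1 := by
        have h5 : ∀ A : Matrix (Fin b ⊕ Fin b) (Fin b ⊕ Fin b) F,
            (A - 1) * (A - 1) = A * A - A - A + 1 := by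
          intro A
          noncomm_ring
        rw [hN', h5, Matrix.map_mul, Matrix.smul_mul, Matrix.mul_smul, smul_smul]
      have h3 := congrFun (congrFun e2 i) j
      rw [h4] at h3
      simp only [Matrix.add_apply, Matrix.sub_apply, Matrix.smul_apply, Matrix.map_apply,
        Matrix.one_apply_ne hij, Matrix.zero_apply, smul_eq_mul, add_zero,
        Subfield.coe_subtype] at h3
      have hm1 : ((M₀ i j : F₀) : F) ≠ 0 := fun h0 => hM (Subtype.ext h0)
      have h5 : μ * (((M₀ * M₀) i j : F₀) : F) = 2 * ((M₀ i j : F₀) : F) := by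
        have h6 : μ * (μ * (((M₀ * M₀) i j : F₀) : F)) = μ * (2 * ((M₀ i j : F₀) : F)) := by
          linear_combination h3
        exact mul_left_cancel₀ hμ h6
      have hm2 : (((M₀ * M₀) i j : F₀) : F) ≠ 0 := by
        intro h0
        rw [h0, mul_zero] at h5
        exact mul_ne_zero h2 hm1 h5.symm
      refine ⟨(2 : F₀) * M₀ i j / (M₀ * M₀) i j, ?_⟩
      push_cast
      rw [div_eq_iff hm2]
      exact h5.symm
    · push Not at hoff
      exfalso
      apply hN'ne
      have hd : ∀ i j, i ≠ j → N' i j = 0 := by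
        intro i j hij
        simp [hN', hoff i j hij, Matrix.one_apply_ne hij]
      ext i j
      by_cases hij : i = j
      · subst hij
        have h3 := congrFun (congrFun e2 i) i
        rw [Matrix.mul_apply, Finset.sum_eq_single i] at h3
        · exact mul_self_eq_zero.1 h3
        · intro s _ hs
          rw [hd i s (Ne.symm hs), zero_mul]
        · intro hh
          exact absurd (Finset.mem_univ _) hh
      · exact hd i j hij
  obtain ⟨μ₀, rfl⟩ := hμ₀
  let K₁ : Matrix (Fin b ⊕ Fin b) (Fin b ⊕ Fin b) F₀ := μ₀ • M₀ - 1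
  have hK : N' = K₁.map F₀.subtype := by
    ext i j
    simp only [hN', K₁, Matrix.sub_apply, Matrix.smul_apply, Matrix.map_apply, smul_eq_mul,
      Subfield.coe_subtype, Subfield.coe_sub, Subfield.coe_mul, Matrix.one_apply]
    split_ifs <;> simp
  let W : Matrix (Fin b ⊕ Fin b) (Fin b) F := fromRows 1 0
  have hNW : Nd * W = fromRows 0 (diagonal (Function.update (fun _ => (1 : F)) i₀ δ)) := by
    simp [hNd, nDelta, W, fromBlocks_mul_fromRows]
  have hBW : fromCols W (Nd * W) =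
      fromBlocks 1 0 0 (diagonal (Function.update (fun _ => (1 : F)) i₀ δ)) := by
    rw [hNW]
    exact fromCols_fromRows_eq_fromBlocks _ _ _ _
  have hdetB : (fromCols W (Nd * W)).det = δ := by
    rw [hBW, det_fromBlocks_zero₂₁, det_one, one_mul, det_diagonal,
      Finset.prod_update_of_mem (Finset.mem_univ _)]
    simp
  let W'' := P⁻¹ * W
  have e3 : P⁻¹ * Nd = N' * P⁻¹ := by
    calc P⁻¹ * Nd = P⁻¹ * Nd * (P * P⁻¹) := by rw [hPi', Matrix.mul_one]
      _ = P⁻¹ * (Nd * P) * P⁻¹ := by simp only [Matrix.mul_assoc]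
      _ = P⁻¹ * (P * N') * P⁻¹ := by rw [e1]
      _ = N' * P⁻¹ := by rw [← Matrix.mul_assoc P⁻¹ P, hPi, Matrix.one_mul]
  have hB'' : fromCols W'' (N' * W'') = P⁻¹ * fromCols W (Nd * W) := by
    rw [mul_fromCols]
    congr 1
    simp only [W'']
    rw [← Matrix.mul_assoc, ← e3, Matrix.mul_assoc]
  have hdetB'' : (fromCols W'' (N' * W'')).det = δ := by
    rw [hB'', det_mul, hdetB, det_nonsing_inv, hP, Ring.inverse_one, one_mul]
  obtain ⟨a, t, ha, ht⟩ := disc_rational N' e2 W'' (by rw [hdetB'']; exact hδ0) F₀ K₁ hK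
  rw [hdetB''] at ht
  obtain ⟨s, hs⟩ := hsq t
  apply hδ
  refine ⟨s / a, ?_⟩
  field_simp
  rw [pow_two, pow_two, ← hs, ht]

end Cfsg.Agent.Helper7.SubF
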