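import Mathlib
import Cfsg.Agent.Helper7.SubF1
import Cfsg.Agent.Helper7.SubF7

set_option autoImplicit false
set_option linter.unusedSectionVars false
set_option linter.style.haveILetI false

/-! In even dimension, over a quadratic extension in characteristic 3, some element of order 3 of
`SL_n(F)` is not conjugate into the subfield subgroup. -/

namespace Cfsg.Agent.Helper7.SubF

open Matrix Cfsg.Geo

variable {F : Type*} [Field F] [CharP F 3]

theorem two_ne_zero_char_three : (2 : F) ≠ 0 := by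
  intro h
  have h1 : ((2 : ℕ) : F) = 0 := by rw [Nat.cast_ofNat]; exact h
  rw [CharP.cast_eq_zero_iff F 3] at h1
  omega

/-- the bad element. -/
theorem exists_bad_element (b : ℕ) (hb : 0 < b) (δ : F) (hδ : ¬ IsSquare δ)
    (F₀ : Subfield F) (hsq : ∀ a : F₀, IsSquare (a : F)) :
    ∃ x : Matrix.SpecialLinearGroup (Fin (b + b)) F,
      ((x ^ 3 : Matrix.SpecialLinearGroup (Fin (b + b)) F) : Matrix (Fin (b + b)) (Fin (b + b)) F)
        = 1 ∧
      (∀ z : F, (x : Matrix (Fin (b + b)) (Fin (b + b)) F) ≠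
        z • (1 : Matrix (Fin (b + b)) (Fin (b + b)) F)) ∧
      ∀ P : Matrix.SpecialLinearGroup (Fin (b + b)) F,
        P⁻¹ * x * P ∉ (subfieldSubgroup F₀ (1 : GL (Fin (b + b)) F)).comap
          (Matrix.SpecialLinearGroup.toGL :
            Matrix.SpecialLinearGroup (Fin (b + b)) F →* GL (Fin (b + b)) F) := by
  classical
  haveI : Fact (Nat.Prime 3) := ⟨Nat.prime_three⟩
  let e : Fin b ⊕ Fin b ≃ Fin (b + b) := finSumFinEquiv
  let i₀ : Fin b := ⟨0, hb⟩
  have hδ0 : δ ≠ 0 := by
    rintro rfl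
    exact hδ ⟨0, by ring⟩
  let Nd' : Matrix (Fin (b + b)) (Fin (b + b)) F := (nDelta b i₀ δ).submatrix e.symm e.symm
  have hNd'sq : Nd' * Nd' = 0 := by
    simp only [Nd']
    rw [Matrix.submatrix_mul_equiv, nDelta_sq]
    rfl
  have hone : (1 : Matrix (Fin b ⊕ Fin b) (Fin b ⊕ Fin b) F).submatrix e.symm e.symm = 1 :=
    Matrix.submatrix_one_equiv e.symm
  have hxsub : (1 + nDelta b i₀ δ).submatrix e.symm e.symm = 1 + Nd' := by
    ext i j
    rw [Matrix.submatrix_apply, Matrix.add_apply, Matrix.add_apply, ← hone]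
    rfl
  let x : Matrix.SpecialLinearGroup (Fin (b + b)) F :=
    ⟨1 + Nd', by rw [← hxsub, Matrix.det_submatrix_equiv_self, det_one_add_nDelta]⟩
  have hx : (x : Matrix (Fin (b + b)) (Fin (b + b)) F) = 1 + Nd' := rfl
  refine ⟨x, ?_, ?_, ?_⟩
  · have h1 : ((x ^ 3 : Matrix.SpecialLinearGroup (Fin (b + b)) F) :
        Matrix (Fin (b + b)) (Fin (b + b)) F) =
        (x : Matrix (Fin (b + b)) (Fin (b + b)) F) ^ 3 := Matrix.SpecialLinearGroup.coe_pow x 3
    haveI : Nonempty (Fin (b + b)) := ⟨⟨0, by omega⟩⟩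
    rw [h1, hx, add_pow_char_of_commute 3 (Commute.one_left _), one_pow, pow_succ, pow_two, hNd'sq,
      Matrix.zero_mul, add_zero]
  · intro z hz
    rw [hx] at hz
    have h1 := congrFun (congrFun hz (e (Sum.inr i₀))) (e (Sum.inl i₀))
    have hne : e (Sum.inr i₀) ≠ e (Sum.inl i₀) := by
      intro h
      have := e.injective h
      simp at this
    rw [Matrix.add_apply, Matrix.smul_apply, Matrix.one_apply_ne hne, smul_zero, zero_add] at h1
    simp only [Nd', Matrix.submatrix_apply, Equiv.symm_apply_apply] at h1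
    rw [nDelta_apply] at h1
    exact hδ0 h1
  · intro P hP
    obtain ⟨M₀, μ, hμ, hM⟩ := exists_of_mem_subfieldH F₀ _ hP
    have h1 : ((P⁻¹ * x * P : Matrix.SpecialLinearGroup (Fin (b + b)) F) :
        Matrix (Fin (b + b)) (Fin (b + b)) F) =
        (P⁻¹ : Matrix.SpecialLinearGroup (Fin (b + b)) F).1 * x.1 * P.1 := rfl
    have h2 : P.1 * (P⁻¹ : Matrix.SpecialLinearGroup (Fin (b + b)) F).1 = 1 := by
      have : ((P * P⁻¹ : Matrix.SpecialLinearGroup (Fin (b + b)) F) :
          Matrix (Fin (b + b)) (Fin (b + b)) F) = 1 := by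
        rw [mul_inv_cancel]; rfl
      exact this
    have h3 : x.1 * P.1 = P.1 * (μ • M₀.map F₀.subtype) := by
      rw [← hM, h1, ← Matrix.mul_assoc, ← Matrix.mul_assoc, h2, Matrix.one_mul]
    -- transport to the index type `Fin b ⊕ Fin b`
    have h4 : (x.1 * P.1).submatrix e e = (P.1 * (μ • M₀.map F₀.subtype)).submatrix e e := by
      rw [h3]
    rw [← Matrix.submatrix_mul_equiv _ _ e e e, ← Matrix.submatrix_mul_equiv _ _ e e e] at h4
    have h5 : x.1.submatrix e e = 1 + nDelta b i₀ δ := by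
      show (1 + Nd').submatrix e e = _
      rw [← hxsub, Matrix.submatrix_submatrix]
      simp
    have h6 : (μ • M₀.map F₀.subtype).submatrix e e = μ • (M₀.submatrix e e).map F₀.subtype := by
      ext i j
      simp
    rw [h5, h6] at h4
    exact core two_ne_zero_char_three b i₀ δ hδ F₀ hsq (P.1.submatrix e e)
      (by rw [Matrix.det_submatrix_equiv_self]; exact P.2) μ hμ (M₀.submatrix e e) h4

end Cfsg.Agent.Helper7.SubF
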