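import Mathlib
import Cfsg.Prelude.Def_PLocal
import Cfsg.Agent.Helper7.FFModule4
import Cfsg.Agent.Helper1.SubnIn

set_option autoImplicit false
set_option linter.style.haveILetI false
set_option linter.unusedSectionVars false

/-! # Pairs of subnormal subgroups acting irreducibly on their commutators (KS 9.3.6), part 1 -/

namespace Cfsg.Agent.Helper7

open Subgroup Cfsg
open scoped commutatorElement
open Cfsg.Agent.Helper1 (SubnIn)

variable {G : Type*} [Group G]

/-- A faithful group acting quadratically on an elementary abelian `p`-group is a `p`-group. -/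
theorem isPGroup_of_quadratic {p : ℕ} [hp : Fact p.Prime] {V A : Subgroup G}
    (hV : IsElementaryAbelian p V) (hAV : A ≤ normalizer (V : Set G))
    (hf : A ⊓ centralizer (V : Set G) = ⊥) (hq : ⁅⁅V, A⁆, A⁆ = ⊥) : IsPGroup p A := by
  intro a
  refine ⟨1, ?_⟩
  rw [pow_one]
  apply Subtype.ext
  rw [Subgroup.coe_pow, Subgroup.coe_one]
  have h1 : (a : G) ^ p ∈ A ⊓ centralizer (V : Set G) := by
    refine mem_inf.mpr ⟨pow_mem a.2 p, ?_⟩
    rw [mem_centralizer_iff]
    intro v hv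
    have hv' : v ∈ V := hv
    set c : G := ⁅(a : G), v⁆ with hc
    have hcVA : c ∈ ⁅V, A⁆ := by
      rw [commutator_comm]
      exact commutator_mem_commutator a.2 hv'
    have hcV : c ∈ V := Cfsg.Agent.Lead.commutator_le_of_le_normalizer hAV hcVA
    have hca : (a : G) * c = c * (a : G) := by
      have h2 : ⁅c, (a : G)⁆ ∈ ⁅⁅V, A⁆, A⁆ := commutator_mem_commutator hcVA a.2
      rw [hq, mem_bot, commutatorElement_eq_one_iff_mul_comm] at h2
      exact h2.symm
    have hconj : (a : G) * v * (a : G)⁻¹ = c * v := by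
      rw [hc, commutatorElement_def]; group
    have h3 := conj_pow_mul_eq hca hconj p
    rw [hV.2 c hcV, one_mul] at h3
    calc v * (a : G) ^ p = (a : G) ^ p * v * ((a : G) ^ p)⁻¹ * (a : G) ^ p := by rw [h3]
      _ = (a : G) ^ p * v := by group
  rw [hf, mem_bot] at h1
  exact h1

/-- The conclusion of the subnormal-pair lemma. -/
def SPConcl (V E X Y : Subgroup G) : Prop :=
  ⁅X, Y⁆ = ⊥ ∧ X ⊓ Y = ⊥ ∧ ⁅V, X⁆ ⊓ ⁅V, Y⁆ = ⊥ ∧ ⁅V, E⁆ = ⁅V, X⁆ ⊔ ⁅V, Y⁆

/-- The standing hypotheses of the subnormal-pair lemma. -/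
structure SPair (p : ℕ) (V E X Y : Subgroup G) : Prop where
  hV : IsElementaryAbelian p V
  hEV : E ≤ normalizer (V : Set G)
  hf : E ⊓ centralizer (V : Set G) = ⊥
  hgen : E = X ⊔ Y
  hsX : SubnIn X E
  hsY : SubnIn Y E
  hOp : ∀ P : Subgroup G, SubnIn P E → IsPGroup p P → P = ⊥
  hirrX : ∀ U : Subgroup G, U ≤ ⁅V, X⁆ → X ≤ normalizer (U : Set G) → U = ⊥ ∨ U = ⁅V, X⁆
  hirrY : ∀ U : Subgroup G, U ≤ ⁅V, Y⁆ → Y ≤ normalizer (U : Set G) → U = ⊥ ∨ U = ⁅V, Y⁆
  hXY : ¬ ⁅V, X⁆ ≤ ⁅V, Y⁆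
  hYX : ¬ ⁅V, Y⁆ ≤ ⁅V, X⁆
  hcX : 2 < Nat.card X
  hcY : 2 < Nat.card Y

theorem SPair.symm {p : ℕ} {V E X Y : Subgroup G} (h : SPair p V E X Y) : SPair p V E Y X :=
  ⟨h.hV, h.hEV, h.hf, by rw [h.hgen, sup_comm], h.hsY, h.hsX, h.hOp, h.hirrY, h.hirrX, h.hYX,
    h.hXY, h.hcY, h.hcX⟩

theorem SPConcl.symm {V E X Y : Subgroup G} (h : SPConcl V E X Y) : SPConcl V E Y X := by
  obtain ⟨h1, h2, h3, h4⟩ := h
  exact ⟨by rw [commutator_comm]; exact h1, by rw [inf_comm]; exact h2,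
    by rw [inf_comm]; exact h3, by rw [sup_comm]; exact h4⟩

theorem SPair.hXE {p : ℕ} {V E X Y : Subgroup G} (h : SPair p V E X Y) : X ≤ E := h.hsX.1
theorem SPair.hYE {p : ℕ} {V E X Y : Subgroup G} (h : SPair p V E X Y) : Y ≤ E := h.hsY.1

/-- A subnormal subgroup of `E` acting quadratically is trivial. -/
theorem SPair.eq_bot_of_quadratic {p : ℕ} [hp : Fact p.Prime] {V E X Y : Subgroup G}
    (h : SPair p V E X Y) {A : Subgroup G} (hA : SubnIn A E) (hq : ⁅⁅V, A⁆, A⁆ = ⊥) : A = ⊥ := by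
  apply h.hOp A hA
  apply isPGroup_of_quadratic h.hV (hA.1.trans h.hEV) _ hq
  rw [eq_bot_iff, ← h.hf]
  exact inf_le_inf_right _ hA.1

/-- **Case 1**: `Y` normalizes `[V, X]`. -/
theorem SPair.concl_of_le_normalizer [Finite G] {p : ℕ} [hp : Fact p.Prime] {V E X Y : Subgroup G}
    (h : SPair p V E X Y) (hN : Y ≤ normalizer ((⁅V, X⁆ : Subgroup G) : Set G)) :
    SPConcl V E X Y := by
  have hXV : X ≤ normalizer (V : Set G) := h.hXE.trans h.hEV
  have hYV : Y ≤ normalizer (V : Set G) := h.hYE.trans h.hEV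
  have hVX : ⁅V, X⁆ ≤ V := Cfsg.Agent.Lead.commutator_le_of_le_normalizer hXV
  have hVY : ⁅V, Y⁆ ≤ V := Cfsg.Agent.Lead.commutator_le_of_le_normalizer hYV
  have hXN : X ≤ normalizer ((⁅V, X⁆ : Subgroup G) : Set G) :=
    Cfsg.Agent.Lead.le_normalizer_commutator_right V X
  have hYNY : Y ≤ normalizer ((⁅V, Y⁆ : Subgroup G) : Set G) :=
    Cfsg.Agent.Lead.le_normalizer_commutator_right V Y
  -- `V_X ∩ V_Y = 1`
  have hinf : ⁅V, X⁆ ⊓ ⁅V, Y⁆ = ⊥ := by
    rcases h.hirrY (⁅V, X⁆ ⊓ ⁅V, Y⁆) inf_le_right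
      (Cfsg.Agent.Helper10.le_normalizer_inf_of_le hN hYNY) with h1 | h1
    · exact h1
    · exfalso
      apply h.hYX
      rw [← h1]
      exact inf_le_left
  -- `Y` centralizes `V_X`
  have hYC : Y ≤ centralizer ((⁅V, X⁆ : Subgroup G) : Set G) := by
    rw [le_centralizer_iff, ← commutator_eq_bot_iff_le_centralizer, eq_bot_iff, ← hinf]
    exact le_inf (Cfsg.Agent.Lead.commutator_le_of_le_normalizer hN) (commutator_mono hVX le_rfl)
  -- `K = [X, Y]`
  set K : Subgroup G := ⁅X, Y⁆ with hK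
  have hKE : K ≤ E := by
    rw [hK]
    exact (commutator_mono h.hXE h.hYE).trans (Cfsg.Agent.Helper10.commutator_self_le E)
  have hKC : K ≤ centralizer ((⁅V, X⁆ : Subgroup G) : Set G) := by
    rw [hK, commutator_le]
    intro x hx y hy
    have hXNC : X ≤ normalizer ((centralizer ((⁅V, X⁆ : Subgroup G) : Set G) : Subgroup G) : Set G) :=
      Cfsg.Agent.Helper10.le_normalizer_centralizer_of_le hXN
    rw [commutatorElement_def]
    have h1 : x * y * x⁻¹ ∈ centralizer ((⁅V, X⁆ : Subgroup G) : Set G) :=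
      conj_mem_of_mem_normalizer (hXNC hx) (hYC hy)
    exact mul_mem h1 (inv_mem (hYC hy))
  have hVK : ⁅V, K⁆ ≤ ⁅V, X⁆ := by
    have hle : K ≤ sSup {B : Subgroup G | ∃ y ∈ Y, B = X.map (MulAut.conj y).toMonoidHom} := by
      rw [hK, commutator_le]
      intro x hx y hy
      have h1 : X ≤ sSup {B : Subgroup G | ∃ y ∈ Y, B = X.map (MulAut.conj y).toMonoidHom} :=
        le_sSup ⟨1, one_mem _, (map_conj_one X).symm⟩
      have h2 : X.map (MulAut.conj y).toMonoidHom ≤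
          sSup {B : Subgroup G | ∃ y ∈ Y, B = X.map (MulAut.conj y).toMonoidHom} :=
        le_sSup ⟨y, hy, rfl⟩
      have e : ⁅x, y⁆ = x * (y * x⁻¹ * y⁻¹) := by rw [commutatorElement_def]; group
      rw [e]
      exact mul_mem (h1 hx) (h2 ⟨x⁻¹, inv_mem hx, rfl⟩)
    refine (commutator_mono le_rfl hle).trans (commutator_sSup_le hVX ?_)
    rintro B ⟨y, hy, rfl⟩
    rw [commutator_map_conj (hYV hy), map_conj_eq_of_mem_normalizer (hN hy)]
  have hK1 : K = ⊥ := by
    apply h.eq_bot_of_quadratic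
    · apply SubnIn.of_normal hKE
      rw [h.hgen]
      exact sup_le (Cfsg.Agent.Lead.le_normalizer_commutator_left X Y)
        (Cfsg.Agent.Lead.le_normalizer_commutator_right X Y)
    · rw [eq_bot_iff]
      refine (commutator_mono hVK le_rfl).trans ?_
      rw [commutator_eq_bot_iff_le_centralizer.mpr (le_centralizer_iff.mp hKC)]
  -- `X ∩ Y = 1`
  have hXYc : X ≤ centralizer (Y : Set G) := by
    rw [← commutator_eq_bot_iff_le_centralizer]
    exact hK1
  have hZ : X ⊓ Y = ⊥ := by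
    apply h.eq_bot_of_quadratic
    · apply SubnIn.of_normal (inf_le_left.trans h.hXE)
      rw [h.hgen]
      refine le_trans ?_ (centralizer_le_normalizer _)
      apply sup_le
      · exact hXYc.trans (centralizer_le inf_le_right)
      · exact (le_centralizer_iff.mp hXYc).trans (centralizer_le inf_le_left)
    · rw [eq_bot_iff]
      refine (commutator_mono (commutator_mono le_rfl inf_le_left) inf_le_right).trans ?_
      rw [commutator_eq_bot_iff_le_centralizer.mpr (le_centralizer_iff.mp hYC)]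
  refine ⟨hK1, hZ, hinf, ?_⟩
  rw [h.hgen]
  exact commutator_sup_right_eq hXV hYV

end Cfsg.Agent.Helper7
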