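import Mathlib
import Cfsg.Prelude.Def_PLocal
import Cfsg.Agent.Helper7.SubnPair1
import Cfsg.Agent.Helper7.FFModule5

set_option autoImplicit false
set_option linter.style.haveILetI false
set_option linter.unusedSectionVars false

/-! # Pairs of subnormal subgroups (KS 9.3.6), part 2: conjugate families -/

namespace Cfsg.Agent.Helper7

open Subgroup Cfsg
open scoped commutatorElement
open Cfsg.Agent.Helper1 (SubnIn)
open scoped Pointwise

variable {G : Type*} [Group G]

theorem map_conj_inv_map_conj_sp2 (A : Subgroup G) (g : G) :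
    (A.map (MulAut.conj g⁻¹).toMonoidHom).map (MulAut.conj g).toMonoidHom = A := by
  rw [map_conj_map_conj, mul_inv_cancel, map_conj_one]

theorem map_conj_map_conj_inv_sp2 (A : Subgroup G) (g : G) :
    (A.map (MulAut.conj g).toMonoidHom).map (MulAut.conj g⁻¹).toMonoidHom = A := by
  rw [map_conj_map_conj, inv_mul_cancel, map_conj_one]

theorem map_conj_le_normalizer {A U : Subgroup G} (h : A ≤ normalizer (U : Set G)) (g : G) :
    A.map (MulAut.conj g).toMonoidHom ≤
      normalizer ((U.map (MulAut.conj g).toMonoidHom : Subgroup G) : Set G) := by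
  rintro _ ⟨a, ha, rfl⟩
  rw [mem_normalizer_iff_map_conj_eq', map_conj_map_conj]
  have e : (MulAut.conj g).toMonoidHom a * g = g * a := by
    simp [MulAut.conj_apply]
  rw [e, ← map_conj_map_conj, map_conj_eq_of_mem_normalizer (h ha)]

theorem map_conj_eq_bot_iff (A : Subgroup G) (g : G) :
    A.map (MulAut.conj g).toMonoidHom = ⊥ ↔ A = ⊥ :=
  Subgroup.map_eq_bot_iff_of_injective _ (MulAut.conj g).injective

theorem map_conj_injective (g : G) {A B : Subgroup G}
    (h : A.map (MulAut.conj g).toMonoidHom = B.map (MulAut.conj g).toMonoidHom) : A = B :=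
  Subgroup.map_injective (MulAut.conj g).injective h

theorem subnIn_map_conj {A E : Subgroup G} (h : SubnIn A E) {g : G} (hg : g ∈ E) :
    SubnIn (A.map (MulAut.conj g).toMonoidHom) E := by
  have h1 := h.conj g
  have h2 : MulAut.conj g • E = E := by
    rw [← map_conj_eq_smul]
    exact map_conj_eq_self_of_mem hg
  rw [h2] at h1
  exact h1

/-- Irreducibility transfers to conjugates. -/
theorem irr_map_conj {V X : Subgroup G}
    (hirr : ∀ U : Subgroup G, U ≤ ⁅V, X⁆ → X ≤ normalizer (U : Set G) → U = ⊥ ∨ U = ⁅V, X⁆)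
    {g : G} (hg : g ∈ normalizer (V : Set G)) :
    ∀ U : Subgroup G, U ≤ ⁅V, X.map (MulAut.conj g).toMonoidHom⁆ →
      X.map (MulAut.conj g).toMonoidHom ≤ normalizer (U : Set G) →
      U = ⊥ ∨ U = ⁅V, X.map (MulAut.conj g).toMonoidHom⁆ := by
  intro U hU hN
  rw [commutator_map_conj hg] at hU ⊢
  have h1 : U.map (MulAut.conj g⁻¹).toMonoidHom ≤ ⁅V, X⁆ := by
    have := map_mono (f := (MulAut.conj g⁻¹).toMonoidHom) hU
    rwa [map_conj_map_conj_inv_sp2] at this
  have h2 : X ≤ normalizer ((U.map (MulAut.conj g⁻¹).toMonoidHom : Subgroup G) : Set G) := by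
    have := map_conj_le_normalizer hN g⁻¹
    rwa [map_conj_map_conj_inv_sp2] at this
  rcases hirr _ h1 h2 with h3 | h3
  · left
    exact (map_conj_eq_bot_iff U g⁻¹).mp h3
  · right
    rw [← h3, map_conj_inv_map_conj_sp2]

section main

variable [Finite G] {p : ℕ} [hp : Fact p.Prime] {V E X Y : Subgroup G}

theorem SPair.X_ne (h : SPair p V E X Y) : X ≠ E := by
  intro hXE
  apply h.hYX
  rw [hXE]
  exact commutator_mono le_rfl h.hYE

theorem SPair.X_ne_bot (h : SPair p V E X Y) : X ≠ ⊥ := by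
  intro hX
  have := h.hcX
  rw [hX, card_bot] at this
  omega

/-- A join of two conjugates of `X` is a proper subgroup of `E`. -/
theorem SPair.card_conj_sup_lt (h : SPair p V E X Y) {g k : G} (hg : g ∈ E) (hk : k ∈ E) :
    Nat.card ↥(X.map (MulAut.conj g).toMonoidHom ⊔ X.map (MulAut.conj k).toMonoidHom) <
      Nat.card E := by
  have hne : X.subgroupOf E ≠ ⊤ := by
    intro htop
    apply h.X_ne
    exact le_antisymm h.hXE (subgroupOf_eq_top.mp htop)
  obtain ⟨N, hNn, hXN, hNlt⟩ := h.hsX.2.exists_normal_and_le_and_lt_top_of_ne hne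
  have hconj : ∀ g ∈ E, X.map (MulAut.conj g).toMonoidHom ≤ N.map E.subtype := by
    rintro g hg _ ⟨x, hx, rfl⟩
    have hx' : (⟨x, h.hXE hx⟩ : ↥E) ∈ N := hXN (mem_subgroupOf.mpr hx)
    exact ⟨⟨g, hg⟩ * ⟨x, h.hXE hx⟩ * ⟨g, hg⟩⁻¹, hNn.conj_mem _ hx' _, by simp [MulAut.conj_apply]⟩
  have hle : X.map (MulAut.conj g).toMonoidHom ⊔ X.map (MulAut.conj k).toMonoidHom ≤
      N.map E.subtype := sup_le (hconj g hg) (hconj k hk)
  have hNE : N.map E.subtype < E := by
    refine lt_of_le_of_ne (map_subtype_le N) ?_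
    intro heq
    apply hNlt.ne
    rw [eq_top_iff]
    intro e _
    have : (e : G) ∈ N.map E.subtype := by rw [heq]; exact e.2
    obtain ⟨n, hn, hne⟩ := this
    have : n = e := Subtype.ext hne
    rwa [← this]
  have hlt : Nat.card ↥(N.map E.subtype) < Nat.card E :=
    lt_of_le_of_ne (card_le_of_le hNE.le)
      (fun heq => hNE.ne (eq_of_le_of_card_ge hNE.le heq.ge))
  exact lt_of_le_of_lt (card_le_of_le hle) hlt

/-- The induction hypothesis applied to two conjugates of `X` with distinct commutators. -/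
theorem SPair.conj_pair (h : SPair p V E X Y)
    (IH : ∀ E' X' Y' : Subgroup G, Nat.card E' < Nat.card E → SPair p V E' X' Y' →
      SPConcl V E' X' Y') {g k : G} (hg : g ∈ E) (hk : k ∈ E)
    (hne : (⁅V, X⁆).map (MulAut.conj g).toMonoidHom ≠ (⁅V, X⁆).map (MulAut.conj k).toMonoidHom) :
    ⁅X.map (MulAut.conj g).toMonoidHom, X.map (MulAut.conj k).toMonoidHom⁆ = ⊥ ∧
      (⁅V, X⁆).map (MulAut.conj g).toMonoidHom ⊓ (⁅V, X⁆).map (MulAut.conj k).toMonoidHom = ⊥ := by
  set Xg : Subgroup G := X.map (MulAut.conj g).toMonoidHom with hXg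
  set Xk : Subgroup G := X.map (MulAut.conj k).toMonoidHom with hXk
  have hgV := h.hEV hg
  have hkV := h.hEV hk
  have hsg : SubnIn Xg E := subnIn_map_conj h.hsX hg
  have hsk : SubnIn Xk E := subnIn_map_conj h.hsX hk
  have hE'E : Xg ⊔ Xk ≤ E := sup_le hsg.1 hsk.1
  have hcg : ⁅V, Xg⁆ = (⁅V, X⁆).map (MulAut.conj g).toMonoidHom := commutator_map_conj hgV X
  have hck : ⁅V, Xk⁆ = (⁅V, X⁆).map (MulAut.conj k).toMonoidHom := commutator_map_conj hkV X
  have hcard : Nat.card ↥(⁅V, Xg⁆) = Nat.card ↥(⁅V, Xk⁆) := by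
    rw [hcg, hck, card_map_conj, card_map_conj]
  have hpair : SPair p V (Xg ⊔ Xk) Xg Xk := by
    refine ⟨h.hV, hE'E.trans h.hEV, ?_, rfl, hsg.mono le_sup_left hE'E,
      hsk.mono le_sup_right hE'E, ?_, irr_map_conj h.hirrX hgV, irr_map_conj h.hirrX hkV, ?_, ?_,
      ?_, ?_⟩
    · rw [eq_bot_iff, ← h.hf]
      exact inf_le_inf_right _ hE'E
    · intro P hP hPp
      exact h.hOp P (hP.trans (hsg.sup hsk)) hPp
    · intro hle
      apply hne
      rw [← hcg, ← hck]
      exact eq_of_le_of_card_ge hle hcard.ge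
    · intro hle
      apply hne
      rw [← hcg, ← hck]
      exact (eq_of_le_of_card_ge hle hcard.le).symm
    · rw [hXg, card_map_conj]; exact h.hcX
    · rw [hXk, card_map_conj]; exact h.hcX
  obtain ⟨h1, -, h3, -⟩ := IH _ _ _ (h.card_conj_sup_lt hg hk) hpair
  rw [hcg, hck] at h3
  exact ⟨h1, h3⟩

/-- (R1) A conjugate of `X` centralizes the commutator of a conjugate with a different one. -/
theorem SPair.conj_le_centralizer (h : SPair p V E X Y)
    (IH : ∀ E' X' Y' : Subgroup G, Nat.card E' < Nat.card E → SPair p V E' X' Y' →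
      SPConcl V E' X' Y') {g k : G} (hg : g ∈ E) (hk : k ∈ E)
    (hne : (⁅V, X⁆).map (MulAut.conj g).toMonoidHom ≠ (⁅V, X⁆).map (MulAut.conj k).toMonoidHom) :
    X.map (MulAut.conj g).toMonoidHom ≤
      centralizer (((⁅V, X⁆).map (MulAut.conj k).toMonoidHom : Subgroup G) : Set G) := by
  obtain ⟨h1, h2⟩ := h.conj_pair IH hg hk hne
  set Xg : Subgroup G := X.map (MulAut.conj g).toMonoidHom with hXg
  set Xk : Subgroup G := X.map (MulAut.conj k).toMonoidHom with hXk
  have hgV := h.hEV hg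
  have hkV := h.hEV hk
  have hXgV : Xg ≤ normalizer (V : Set G) := (subnIn_map_conj h.hsX hg).1.trans h.hEV
  have hcg : ⁅V, Xg⁆ = (⁅V, X⁆).map (MulAut.conj g).toMonoidHom := commutator_map_conj hgV X
  have hck : ⁅V, Xk⁆ = (⁅V, X⁆).map (MulAut.conj k).toMonoidHom := commutator_map_conj hkV X
  have hXgXk : Xg ≤ normalizer (Xk : Set G) := by
    refine le_trans ?_ (centralizer_le_normalizer _)
    rw [← commutator_eq_bot_iff_le_centralizer]
    exact h1
  have hN : Xg ≤ normalizer ((⁅V, Xk⁆ : Subgroup G) : Set G) :=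
    Cfsg.Agent.Helper10.le_normalizer_commutator_of_le hXgV hXgXk
  rw [← hck, le_centralizer_iff, ← commutator_eq_bot_iff_le_centralizer, eq_bot_iff, ← h2, ← hcg,
    ← hck]
  refine le_inf ?_ (Cfsg.Agent.Lead.commutator_le_of_le_normalizer hN)
  exact commutator_mono (Cfsg.Agent.Lead.commutator_le_of_le_normalizer
    ((subnIn_map_conj h.hsX hk).1.trans h.hEV)) le_rfl

/-- (R2) A conjugate of `[V, X]` is independent of the join of two different conjugates. -/
theorem SPair.inf_sup_conj_eq_bot (h : SPair p V E X Y)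
    (IH : ∀ E' X' Y' : Subgroup G, Nat.card E' < Nat.card E → SPair p V E' X' Y' →
      SPConcl V E' X' Y') {g₀ g k : G} (hg₀ : g₀ ∈ E) (hg : g ∈ E) (hk : k ∈ E)
    (hneg : (⁅V, X⁆).map (MulAut.conj g).toMonoidHom ≠ (⁅V, X⁆).map (MulAut.conj g₀).toMonoidHom)
    (hnek : (⁅V, X⁆).map (MulAut.conj k).toMonoidHom ≠
      (⁅V, X⁆).map (MulAut.conj g₀).toMonoidHom) :
    (⁅V, X⁆).map (MulAut.conj g₀).toMonoidHom ⊓ ((⁅V, X⁆).map (MulAut.conj g).toMonoidHom ⊔
      (⁅V, X⁆).map (MulAut.conj k).toMonoidHom) = ⊥ := by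
  set X₀ : Subgroup G := X.map (MulAut.conj g₀).toMonoidHom with hX₀
  have hg₀V := h.hEV hg₀
  have hc₀ : ⁅V, X₀⁆ = (⁅V, X⁆).map (MulAut.conj g₀).toMonoidHom := commutator_map_conj hg₀V X
  have hcg : X₀ ≤ centralizer (((⁅V, X⁆).map (MulAut.conj g).toMonoidHom : Subgroup G) : Set G) :=
    h.conj_le_centralizer IH hg₀ hg hneg.symm
  have hck : X₀ ≤ centralizer (((⁅V, X⁆).map (MulAut.conj k).toMonoidHom : Subgroup G) : Set G) :=
    h.conj_le_centralizer IH hg₀ hk hnek.symm
  set T : Subgroup G := (⁅V, X⁆).map (MulAut.conj g).toMonoidHom ⊔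
      (⁅V, X⁆).map (MulAut.conj k).toMonoidHom with hT
  have hXT : X₀ ≤ centralizer (T : Set G) := by
    rw [hT, centralizer_sup_eq]
    exact le_inf hcg hck
  have hs₀ : SubnIn X₀ E := subnIn_map_conj h.hsX hg₀
  have hXN : X₀ ≤ normalizer ((⁅V, X₀⁆ ⊓ T : Subgroup G) : Set G) :=
    Cfsg.Agent.Helper10.le_normalizer_inf_of_le
      (Cfsg.Agent.Lead.le_normalizer_commutator_right V X₀)
      (hXT.trans (centralizer_le_normalizer _))
  rw [← hc₀]
  rcases irr_map_conj h.hirrX hg₀V _ inf_le_left hXN with h1 | h1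
  · exact h1
  · exfalso
    apply h.X_ne_bot
    have h2 : X₀ = ⊥ := by
      apply h.eq_bot_of_quadratic hs₀
      rw [commutator_eq_bot_iff_le_centralizer, le_centralizer_iff]
      refine hXT.trans (centralizer_le ?_)
      rw [← h1]
      exact inf_le_right
    exact (map_conj_eq_bot_iff X g₀).mp h2

end main

end Cfsg.Agent.Helper7
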