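import Mathlib
import Cfsg.Prelude.Def_PLocal
import Cfsg.Agent.Helper7.SubnPair2
import Cfsg.Agent.Helper14.Subnormal2

set_option autoImplicit false
set_option linter.style.haveILetI false
set_option linter.unusedSectionVars false

/-! # Pairs of subnormal subgroups (KS 9.3.6), part 3: the contradiction and the theorem -/

namespace Cfsg.Agent.Helper7

open Subgroup Cfsg
open scoped commutatorElement
open Cfsg.Agent.Helper1 (SubnIn)

variable {G : Type*} [Group G] [Finite G] {p : ℕ} [hp : Fact p.Prime] {V E X Y : Subgroup G}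

/-- Step C: the two commutators meet trivially. -/
theorem SPair.inf_eq_bot_of_moved (h : SPair p V E X Y)
    (IH : ∀ E' X' Y' : Subgroup G, Nat.card E' < Nat.card E → SPair p V E' X' Y' →
      SPConcl V E' X' Y') {y₀ x₀ : G} (hy₀ : y₀ ∈ Y) (hx₀ : x₀ ∈ X)
    (hy₀N : (⁅V, X⁆).map (MulAut.conj y₀).toMonoidHom ≠ ⁅V, X⁆)
    (hx₀N : (⁅V, Y⁆).map (MulAut.conj x₀).toMonoidHom ≠ ⁅V, Y⁆) :
    ⁅V, X⁆ ⊓ ⁅V, Y⁆ = ⊥ := by
  have h1E : (1 : G) ∈ E := one_mem E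
  rw [eq_bot_iff]
  rintro v ⟨hvX, hvY⟩
  rw [mem_bot]
  have hXN : X ≤ normalizer ((⁅V, X⁆ : Subgroup G) : Set G) :=
    Cfsg.Agent.Lead.le_normalizer_commutator_right V X
  set v' : G := x₀ * v * x₀⁻¹ with hv'
  have hv'X : v' ∈ ⁅V, X⁆ := conj_mem_of_mem_normalizer (hXN hx₀) hvX
  have hv'Y : v' ∈ (⁅V, Y⁆).map (MulAut.conj x₀).toMonoidHom := ⟨v, hvY, rfl⟩
  have hYc : Y ≤ centralizer (((⁅V, Y⁆).map (MulAut.conj x₀).toMonoidHom : Subgroup G) : Set G) := by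
    have := h.symm.conj_le_centralizer IH h1E (h.hXE hx₀)
      (by rw [map_conj_one]; exact hx₀N.symm)
    rwa [map_conj_one] at this
  have hcomm : y₀ * v' * y₀⁻¹ = v' := by
    have := (mem_centralizer_iff.mp (hYc hy₀)) v' hv'Y
    rw [← this, mul_inv_cancel_right]
  have hv'2 : v' ∈ (⁅V, X⁆).map (MulAut.conj y₀).toMonoidHom := by
    rw [← hcomm]
    exact ⟨v', hv'X, rfl⟩
  have hinf := (h.conj_pair IH h1E (h.hYE hy₀) (by rw [map_conj_one]; exact hy₀N.symm)).2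
  rw [map_conj_one] at hinf
  have hv'1 : v' = 1 := by
    have : v' ∈ ⁅V, X⁆ ⊓ (⁅V, X⁆).map (MulAut.conj y₀).toMonoidHom := ⟨hv'X, hv'2⟩
    rwa [hinf, mem_bot] at this
  have : v = x₀⁻¹ * v' * x₀ := by rw [hv']; group
  rw [this, hv'1]
  group

/-- Lemma I: an element of `Y` moving `[V, X]` gives an injection `[V, X] → [V, Y]`. -/
theorem SPair.card_le_of_moved (h : SPair p V E X Y)
    (IH : ∀ E' X' Y' : Subgroup G, Nat.card E' < Nat.card E → SPair p V E' X' Y' →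
      SPConcl V E' X' Y') {y : G} (hy : y ∈ Y)
    (hyN : (⁅V, X⁆).map (MulAut.conj y).toMonoidHom ≠ ⁅V, X⁆) :
    Nat.card ↥(⁅V, X⁆) ≤ Nat.card ↥(⁅V, Y⁆) ∧
      (Nat.card ↥(⁅V, Y⁆) ≤ Nat.card ↥(⁅V, X⁆) →
        ⁅V, Y⁆ ≤ ⁅V, X⁆ ⊔ (⁅V, X⁆).map (MulAut.conj y).toMonoidHom) := by
  have h1E : (1 : G) ∈ E := one_mem E
  have hVX : ⁅V, X⁆ ≤ V :=
    Cfsg.Agent.Lead.commutator_le_of_le_normalizer (h.hXE.trans h.hEV)
  have hinf := (h.conj_pair IH h1E (h.hYE hy) (by rw [map_conj_one]; exact hyN.symm)).2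
  rw [map_conj_one] at hinf
  set f : ↥(⁅V, X⁆) → ↥(⁅V, Y⁆) := fun v =>
    ⟨⁅(v : G), y⁆, commutator_mem_commutator (hVX v.2) hy⟩ with hf
  have hyV : y ∈ normalizer (V : Set G) := h.hEV (h.hYE hy)
  have hfinj : Function.Injective f := by
    intro v w hvw
    have h1 : ⁅(v : G), y⁆ = ⁅(w : G), y⁆ := congrArg Subtype.val hvw
    rw [commutatorElement_def, commutatorElement_def] at h1
    -- `w⁻¹ v = y (w⁻¹ v) y⁻¹`
    have hvV : (v : G) ∈ V := hVX v.2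
    have hwV : (w : G) ∈ V := hVX w.2
    have hyv : y * (v : G)⁻¹ * y⁻¹ ∈ V := conj_mem_of_mem_normalizer hyV (inv_mem hvV)
    have hyw : y * (w : G)⁻¹ * y⁻¹ ∈ V := conj_mem_of_mem_normalizer hyV (inv_mem hwV)
    have h2 : (v : G) * (y * (v : G)⁻¹ * y⁻¹) = (w : G) * (y * (w : G)⁻¹ * y⁻¹) := by
      calc (v : G) * (y * (v : G)⁻¹ * y⁻¹) = (v : G) * y * (v : G)⁻¹ * y⁻¹ := by group
        _ = (w : G) * y * (w : G)⁻¹ * y⁻¹ := h1
        _ = (w : G) * (y * (w : G)⁻¹ * y⁻¹) := by group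
    have h3 : (w : G)⁻¹ * (v : G) = y * ((w : G)⁻¹ * (v : G)) * y⁻¹ := by
      have h5 : (w : G)⁻¹ * ((v : G) * (y * (v : G)⁻¹ * y⁻¹)) * (y * (v : G)⁻¹ * y⁻¹)⁻¹ =
          (w : G)⁻¹ * ((w : G) * (y * (w : G)⁻¹ * y⁻¹)) * (y * (v : G)⁻¹ * y⁻¹)⁻¹ := by rw [h2]
      calc (w : G)⁻¹ * (v : G)
          = (w : G)⁻¹ * ((v : G) * (y * (v : G)⁻¹ * y⁻¹)) * (y * (v : G)⁻¹ * y⁻¹)⁻¹ := by group
        _ = (w : G)⁻¹ * ((w : G) * (y * (w : G)⁻¹ * y⁻¹)) * (y * (v : G)⁻¹ * y⁻¹)⁻¹ := h5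
        _ = y * ((w : G)⁻¹ * (v : G)) * y⁻¹ := by group
    have h4 : (w : G)⁻¹ * (v : G) ∈ ⁅V, X⁆ ⊓ (⁅V, X⁆).map (MulAut.conj y).toMonoidHom := by
      refine mem_inf.mpr ⟨mul_mem (inv_mem w.2) v.2, ?_⟩
      rw [h3]
      exact ⟨(w : G)⁻¹ * (v : G), mul_mem (inv_mem w.2) v.2, rfl⟩
    rw [hinf, mem_bot] at h4
    apply Subtype.ext
    exact (inv_mul_eq_one.mp h4).symm
  refine ⟨Nat.card_le_card_of_injective f hfinj, ?_⟩
  intro hle
  have hbij := hfinj.bijective_of_nat_card_le hle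
  intro u hu
  obtain ⟨v, hv⟩ := hbij.2 ⟨u, hu⟩
  have h1 : u = ⁅(v : G), y⁆ := (congrArg Subtype.val hv).symm
  rw [h1, commutatorElement_def]
  have e : (v : G) * y * (v : G)⁻¹ * y⁻¹ = (v : G) * (y * (v : G)⁻¹ * y⁻¹) := by group
  rw [e]
  exact mul_mem (mem_sup_left v.2) (mem_sup_right ⟨(v : G)⁻¹, inv_mem v.2, rfl⟩)

/-- Lemma T: `Y` cannot move `[V, X]` to two further different conjugates. -/
theorem SPair.false_of_triple (h : SPair p V E X Y)
    (IH : ∀ E' X' Y' : Subgroup G, Nat.card E' < Nat.card E → SPair p V E' X' Y' →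
      SPConcl V E' X' Y') {y y' : G} (hy : y ∈ Y) (hy' : y' ∈ Y)
    (hcard : Nat.card ↥(⁅V, Y⁆) ≤ Nat.card ↥(⁅V, X⁆))
    (hyN : (⁅V, X⁆).map (MulAut.conj y).toMonoidHom ≠ ⁅V, X⁆)
    (hy'N : (⁅V, X⁆).map (MulAut.conj y').toMonoidHom ≠ ⁅V, X⁆)
    (hne : (⁅V, X⁆).map (MulAut.conj y).toMonoidHom ≠ (⁅V, X⁆).map (MulAut.conj y').toMonoidHom) :
    False := by
  have h1E : (1 : G) ∈ E := one_mem E
  have hVX : ⁅V, X⁆ ≤ V :=
    Cfsg.Agent.Lead.commutator_le_of_le_normalizer (h.hXE.trans h.hEV)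
  have h1 := (h.card_le_of_moved IH hy hyN).2 hcard
  have h2 := (h.card_le_of_moved IH hy' hy'N).2 hcard
  have hR2 := h.inf_sup_conj_eq_bot IH (g₀ := y') (g := 1) (k := y) (h.hYE hy') h1E (h.hYE hy)
    (by rw [map_conj_one]; exact hy'N.symm) hne
  rw [map_conj_one] at hR2
  apply h.hYX
  intro w hw
  have hw1 := h1 hw
  have hw2 := h2 hw
  have hN1 : (⁅V, X⁆).map (MulAut.conj y).toMonoidHom ≤ normalizer ((⁅V, X⁆ : Subgroup G) : Set G) := by
    intro u hu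
    obtain ⟨u₀, hu₀, rfl⟩ := hu
    have huV : (MulAut.conj y).toMonoidHom u₀ ∈ V :=
      conj_mem_of_mem_normalizer (h.hEV (h.hYE hy)) (hVX hu₀)
    rw [mem_normalizer_iff]
    intro n
    have hcomm : ∀ n ∈ V, (MulAut.conj y).toMonoidHom u₀ * n *
        ((MulAut.conj y).toMonoidHom u₀)⁻¹ = n := by
      intro n hn
      rw [IsElementaryAbelian.commute h.hV huV hn, mul_inv_cancel_right]
    constructor
    · intro hn
      rw [hcomm n (hVX hn)]
      exact hn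
    · intro hn
      have hnV : n ∈ V := by
        have := hVX hn
        have h3 : n = ((MulAut.conj y).toMonoidHom u₀)⁻¹ *
            ((MulAut.conj y).toMonoidHom u₀ * n * ((MulAut.conj y).toMonoidHom u₀)⁻¹) *
            (MulAut.conj y).toMonoidHom u₀ := by group
        rw [h3]
        exact mul_mem (mul_mem (inv_mem huV) this) huV
      rw [hcomm n hnV] at hn
      exact hn
  have hN2 : (⁅V, X⁆).map (MulAut.conj y').toMonoidHom ≤
      normalizer ((⁅V, X⁆ : Subgroup G) : Set G) := by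
    intro u hu
    obtain ⟨u₀, hu₀, rfl⟩ := hu
    have huV : (MulAut.conj y').toMonoidHom u₀ ∈ V :=
      conj_mem_of_mem_normalizer (h.hEV (h.hYE hy')) (hVX hu₀)
    rw [mem_normalizer_iff]
    intro n
    have hcomm : ∀ n ∈ V, (MulAut.conj y').toMonoidHom u₀ * n *
        ((MulAut.conj y').toMonoidHom u₀)⁻¹ = n := by
      intro n hn
      rw [IsElementaryAbelian.commute h.hV huV hn, mul_inv_cancel_right]
    constructor
    · intro hn
      rw [hcomm n (hVX hn)]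
      exact hn
    · intro hn
      have hnV : n ∈ V := by
        have := hVX hn
        have h3 : n = ((MulAut.conj y').toMonoidHom u₀)⁻¹ *
            ((MulAut.conj y').toMonoidHom u₀ * n * ((MulAut.conj y').toMonoidHom u₀)⁻¹) *
            (MulAut.conj y').toMonoidHom u₀ := by group
        rw [h3]
        exact mul_mem (mul_mem (inv_mem huV) this) huV
      rw [hcomm n hnV] at hn
      exact hn
  rw [← SetLike.mem_coe, coe_mul_of_right_le_normalizer_left _ _ hN1, Set.mem_mul] at hw1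
  rw [← SetLike.mem_coe, coe_mul_of_right_le_normalizer_left _ _ hN2, Set.mem_mul] at hw2
  obtain ⟨a, ha, b, hb, hab⟩ := hw1
  obtain ⟨a', ha', c, hc, hac⟩ := hw2
  have hc1 : c ∈ (⁅V, X⁆).map (MulAut.conj y').toMonoidHom ⊓
      (⁅V, X⁆ ⊔ (⁅V, X⁆).map (MulAut.conj y).toMonoidHom) := by
    refine mem_inf.mpr ⟨hc, ?_⟩
    have e : c = a'⁻¹ * (a * b) := by
      have : a' * c = a * b := hac.trans hab.symm
      rw [← this]; group
    rw [e]
    exact mul_mem (mem_sup_left (inv_mem ha')) (mul_mem (mem_sup_left ha) (mem_sup_right hb))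
  rw [hR2, mem_bot] at hc1
  rw [← hac, hc1, mul_one]
  exact ha'

end Cfsg.Agent.Helper7
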