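import Mathlib
import Cfsg.Prelude.Def_PLocal
import Cfsg.Agent.Helper7.SubnPair3

set_option autoImplicit false
set_option linter.style.haveILetI false
set_option linter.unusedSectionVars false

/-! # Pairs of subnormal subgroups (KS 9.3.6), part 4: endgame and the theorem (= S0615) -/

namespace Cfsg.Agent.Helper7

open Subgroup Cfsg
open scoped commutatorElement
open Cfsg.Agent.Helper1 (SubnIn)

variable {G : Type*} [Group G] [Finite G] {p : ℕ} [hp : Fact p.Prime] {V E X Y : Subgroup G}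

/-- Case 3 is contradictory. -/
theorem SPair.false_of_moved (h : SPair p V E X Y)
    (IH : ∀ E' X' Y' : Subgroup G, Nat.card E' < Nat.card E → SPair p V E' X' Y' →
      SPConcl V E' X' Y') {y₀ x₀ : G} (hy₀ : y₀ ∈ Y) (hx₀ : x₀ ∈ X)
    (hy₀N : (⁅V, X⁆).map (MulAut.conj y₀).toMonoidHom ≠ ⁅V, X⁆)
    (hx₀N : (⁅V, Y⁆).map (MulAut.conj x₀).toMonoidHom ≠ ⁅V, Y⁆) : False := by
  set Vx : Subgroup G := ⁅V, X⁆ with hVx
  set Vy : Subgroup G := ⁅V, Y⁆ with hVy
  have hXV : X ≤ normalizer (V : Set G) := h.hXE.trans h.hEV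
  have hYV : Y ≤ normalizer (V : Set G) := h.hYE.trans h.hEV
  have hVxV : Vx ≤ V := Cfsg.Agent.Lead.commutator_le_of_le_normalizer hXV
  have hVyV : Vy ≤ V := Cfsg.Agent.Lead.commutator_le_of_le_normalizer hYV
  have hYNy : Y ≤ normalizer (Vy : Set G) := Cfsg.Agent.Lead.le_normalizer_commutator_right V Y
  have hinf : Vx ⊓ Vy = ⊥ := h.inf_eq_bot_of_moved IH hy₀ hx₀ hy₀N hx₀N
  have hc1 := (h.card_le_of_moved IH hy₀ hy₀N).1
  have hc2 := (h.symm.card_le_of_moved IH hx₀ hx₀N).1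
  have hVyT : Vy ≤ Vx ⊔ Vx.map (MulAut.conj y₀).toMonoidHom :=
    (h.card_le_of_moved IH hy₀ hy₀N).2 hc2
  -- (a)
  have ha : ∀ y ∈ Y, Vx.map (MulAut.conj y).toMonoidHom = Vx ∨
      Vx.map (MulAut.conj y).toMonoidHom = Vx.map (MulAut.conj y₀).toMonoidHom := by
    intro y hy
    by_contra hcon
    push Not at hcon
    exact h.false_of_triple IH hy₀ hy hc2 hy₀N hcon.1 (Ne.symm hcon.2)
  set T : Subgroup G := Vx ⊔ Vx.map (MulAut.conj y₀).toMonoidHom with hT
  -- (b)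
  have hYT : Y ≤ normalizer (T : Set G) := by
    apply le_normalizer_of_forall_conj_mem
    intro y hy t ht
    have h1 : T.map (MulAut.conj y).toMonoidHom ≤ T := by
      rw [hT, Subgroup.map_sup, map_conj_map_conj]
      apply sup_le
      · rcases ha y hy with h2 | h2
        · rw [h2]; exact le_sup_left
        · rw [h2]; exact le_sup_right
      · rcases ha (y * y₀) (mul_mem hy hy₀) with h2 | h2
        · rw [h2]; exact le_sup_left
        · rw [h2]; exact le_sup_right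
    exact h1 ⟨t, ht, rfl⟩
  -- (c)
  set Y₁ : Subgroup G := Y ⊓ centralizer (T : Set G) with hY₁
  have hY₁ : Y₁ = ⊥ := by
    apply h.eq_bot_of_quadratic
    · refine SubnIn.trans (SubnIn.of_normal inf_le_left ?_) h.hsY
      exact Cfsg.Agent.Helper10.le_normalizer_inf_of_le le_normalizer
        (Cfsg.Agent.Helper10.le_normalizer_centralizer_of_le hYT)
    · rw [commutator_eq_bot_iff_le_centralizer, le_centralizer_iff]
      refine inf_le_right.trans (centralizer_le ?_)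
      exact (commutator_mono le_rfl inf_le_left).trans hVyT
  -- `V_X^{y₀} ∩ V_Y = 1`
  have hinf' : Vx.map (MulAut.conj y₀).toMonoidHom ⊓ Vy = ⊥ := by
    rw [eq_bot_iff]
    rintro u ⟨⟨u₀, hu₀, rfl⟩, huY⟩
    rw [mem_bot]
    have h1 : u₀ ∈ Vy := by
      have := conj_inv_mem_of_mem_normalizer (hYNy hy₀) huY
      simpa [MulAut.conj_apply, mul_assoc] using this
    have h2 : u₀ ∈ Vx ⊓ Vy := ⟨hu₀, h1⟩
    rw [hinf, mem_bot] at h2
    rw [h2, map_one]
  -- (d)
  have hd : Y ⊓ normalizer (Vx : Set G) ≤ Y₁ := by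
    rintro y ⟨hy, hyN⟩
    have hyN' : y ∈ normalizer (Vx : Set G) := hyN
    refine mem_inf.mpr ⟨hy, ?_⟩
    have key : ∀ U : Subgroup G, U ≤ V → y ∈ normalizer (U : Set G) → U ⊓ Vy = ⊥ →
        y ∈ centralizer (U : Set G) := by
      intro U hUV hyU hUy
      rw [mem_centralizer_iff]
      intro u hu
      have hu' : u ∈ U := hu
      have h1 : ⁅u, y⁆ ∈ U ⊓ Vy := by
        refine mem_inf.mpr ⟨?_, commutator_mem_commutator (hUV hu') hy⟩
        rw [commutatorElement_def]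
        have : y * u⁻¹ * y⁻¹ ∈ U := conj_mem_of_mem_normalizer hyU (inv_mem hu')
        have e : u * y * u⁻¹ * y⁻¹ = u * (y * u⁻¹ * y⁻¹) := by group
        rw [e]
        exact mul_mem hu' this
      rw [hUy, mem_bot, commutatorElement_eq_one_iff_mul_comm] at h1
      exact h1
    have hy2 : y ∈ normalizer ((Vx.map (MulAut.conj y₀).toMonoidHom : Subgroup G) : Set G) := by
      rw [mem_normalizer_iff_map_conj_eq', map_conj_map_conj]
      rcases ha (y * y₀) (mul_mem hy hy₀) with h2 | h2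
      · exfalso
        apply hy₀N
        have h3 : Vx.map (MulAut.conj (y⁻¹ * (y * y₀))).toMonoidHom = Vx := by
          rw [← map_conj_map_conj, h2, map_conj_eq_of_mem_normalizer (inv_mem hyN')]
        rwa [inv_mul_cancel_left] at h3
      · exact h2
    rw [hT, centralizer_sup_eq]
    refine mem_inf.mpr ⟨key Vx hVxV hyN' hinf, key _ ?_ hy2 hinf'⟩
    calc Vx.map (MulAut.conj y₀).toMonoidHom ≤ V.map (MulAut.conj y₀).toMonoidHom := map_mono hVxV
      _ = V := map_conj_eq_of_mem_normalizer (hYV hy₀)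
  -- (e)
  have he : ∀ y ∈ Y, y ≠ 1 → y = y₀ := by
    intro y hy hy1
    have hyN : y ∉ normalizer (Vx : Set G) := by
      intro hyN
      have : y ∈ Y₁ := hd ⟨hy, hyN⟩
      rw [hY₁, mem_bot] at this
      exact hy1 this
    have h1 : Vx.map (MulAut.conj y).toMonoidHom = Vx.map (MulAut.conj y₀).toMonoidHom := by
      rcases ha y hy with h2 | h2
      · exact absurd (mem_normalizer_iff_map_conj_eq'.mpr h2) hyN
      · exact h2
    have h2 : y₀⁻¹ * y ∈ Y ⊓ normalizer (Vx : Set G) := by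
      refine mem_inf.mpr ⟨mul_mem (inv_mem hy₀) hy, ?_⟩
      rw [mem_normalizer_iff_map_conj_eq', ← map_conj_map_conj, h1, map_conj_map_conj_inv_sp2]
    have h3 := hd h2
    rw [hY₁, mem_bot] at h3
    exact (inv_mul_eq_one.mp h3).symm
  -- (f)
  have hcard : Nat.card Y ≤ 2 := by
    classical
    set φ : ↥Y → Fin 2 := fun y => if (y : G) = 1 then 0 else 1 with hφ
    have hinj : Function.Injective φ := by
      intro a b hab
      apply Subtype.ext
      by_cases ha1 : (a : G) = 1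
      · by_cases hb1 : (b : G) = 1
        · rw [ha1, hb1]
        · exfalso
          simp only [hφ, if_pos ha1, if_neg hb1] at hab
          exact absurd hab (by decide)
      · by_cases hb1 : (b : G) = 1
        · exfalso
          simp only [hφ, if_neg ha1, if_pos hb1] at hab
          exact absurd hab (by decide)
        · rw [he a a.2 ha1, he b b.2 hb1]
    have := Nat.card_le_card_of_injective φ hinj
    rwa [Nat.card_fin] at this
  have := h.hcY
  omega

/-- **KS 9.3.6.** -/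
theorem SPair.concl_aux : ∀ (n : ℕ) (E X Y : Subgroup G), Nat.card E = n → SPair p V E X Y →
    SPConcl V E X Y := by
  intro n
  induction n using Nat.strong_induction_on with
  | _ n ih =>
  intro E X Y hn h
  have IH : ∀ E' X' Y' : Subgroup G, Nat.card E' < Nat.card E → SPair p V E' X' Y' →
      SPConcl V E' X' Y' := fun E' X' Y' hlt hp' => ih (Nat.card E') (hn ▸ hlt) E' X' Y' rfl hp'
  by_cases hN : Y ≤ normalizer ((⁅V, X⁆ : Subgroup G) : Set G)
  · exact h.concl_of_le_normalizer hN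
  by_cases hN' : X ≤ normalizer ((⁅V, Y⁆ : Subgroup G) : Set G)
  · exact (h.symm.concl_of_le_normalizer hN').symm
  exfalso
  obtain ⟨y₀, hy₀, hy₀N⟩ := SetLike.not_le_iff_exists.mp hN
  obtain ⟨x₀, hx₀, hx₀N⟩ := SetLike.not_le_iff_exists.mp hN'
  exact h.false_of_moved IH hy₀ hx₀
    (fun heq => hy₀N (mem_normalizer_iff_map_conj_eq'.mpr heq))
    (fun heq => hx₀N (mem_normalizer_iff_map_conj_eq'.mpr heq))

/-- KS 9.3.6 (= S0615). -/
theorem subnormal_pair_direct_product (V E E₁ E₂ : Subgroup G) (hV : IsElementaryAbelian p V)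
    (hEV : E ≤ normalizer (V : Set G)) (hf : E ⊓ centralizer (V : Set G) = ⊥)
    (hgen : E = E₁ ⊔ E₂) (hs₁ : (E₁.subgroupOf E).IsSubnormal)
    (hs₂ : (E₂.subgroupOf E).IsSubnormal) (hOp : Cfsg.pCore p ↥E = ⊥)
    (hirr₁ : ∀ U : Subgroup G, U ≤ ⁅V, E₁⁆ → E₁ ≤ normalizer (U : Set G) → U = ⊥ ∨ U = ⁅V, E₁⁆)
    (hirr₂ : ∀ U : Subgroup G, U ≤ ⁅V, E₂⁆ → E₂ ≤ normalizer (U : Set G) → U = ⊥ ∨ U = ⁅V, E₂⁆)
    (h12 : ¬ ⁅V, E₁⁆ ≤ ⁅V, E₂⁆) (h21 : ¬ ⁅V, E₂⁆ ≤ ⁅V, E₁⁆) (hc₁ : 2 < Nat.card E₁)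
    (hc₂ : 2 < Nat.card E₂) :
    ⁅E₁, E₂⁆ = ⊥ ∧ E₁ ⊓ E₂ = ⊥ ∧ ⁅V, E₁⁆ ⊓ ⁅V, E₂⁆ = ⊥ ∧ ⁅V, E⁆ = ⁅V, E₁⁆ ⊔ ⁅V, E₂⁆ := by
  have h1E : E₁ ≤ E := by rw [hgen]; exact le_sup_left
  have h2E : E₂ ≤ E := by rw [hgen]; exact le_sup_right
  have hOp' : ∀ P : Subgroup G, SubnIn P E → IsPGroup p P → P = ⊥ := by
    intro P hP hPp
    have hPp' : IsPGroup p ↥(P.subgroupOf E) :=
      hPp.of_equiv (subgroupOfEquivOfLe hP.1).symm
    have h1 := Cfsg.Agent.Helper14.le_pCore_of_isSubnormal hP.2 hPp'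
    rw [hOp, le_bot_iff] at h1
    have hPE : P ≤ E := hP.1
    rw [eq_bot_iff]
    intro x hx
    have h2 : ∀ e : ↥E, e ∈ P.subgroupOf E → e = 1 := by
      intro e he
      rw [h1, mem_bot] at he
      exact he
    have h3 := h2 ⟨x, hPE hx⟩ (mem_subgroupOf.mpr hx)
    rw [mem_bot]
    exact congrArg Subtype.val h3
  exact SPair.concl_aux (Nat.card E) E E₁ E₂ rfl
    ⟨hV, hEV, hf, hgen, ⟨h1E, hs₁⟩, ⟨h2E, hs₂⟩, hOp', hirr₁, hirr₂, h12, h21, hc₁, hc₂⟩

end Cfsg.Agent.Helper7
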