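import Mathlib
import Cfsg.Agent.Helper29.SylMaxDefs
set_option autoImplicit false

/-! S2245 piece J4 (driver helper29): a primitive group of degree `≥ 9` (or `5`) containing the
double transpositions on a 4-set contains the alternating group (Jordan glue). -/

namespace Cfsg.Agent.Helper7.SylMax
open MulAction Equiv Cfsg.Agent.Helper29.SylMax
open scoped Pointwise
universe u v
variable {𝔾 : Type u} [Group 𝔾] {α : Type v} [Fintype α] [DecidableEq α] [MulAction 𝔾 α]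

/-- the other two points of a 4-set. -/
theorem exists_other_two (Γ : Finset α) (hΓ : Γ.card = 4) {a b : α} (ha : a ∈ Γ) (hb : b ∈ Γ)
    (hab : a ≠ b) :
    ∃ c d : α, c ∈ Γ ∧ d ∈ Γ ∧ a ≠ c ∧ a ≠ d ∧ b ≠ c ∧ b ≠ d ∧ c ≠ d := by
  have h2 : ((Γ.erase a).erase b).card = 2 := by
    rw [Finset.card_erase_of_mem (Finset.mem_erase.mpr ⟨hab.symm, hb⟩),
      Finset.card_erase_of_mem ha, hΓ]
  obtain ⟨c, d, hcd, hE⟩ := Finset.card_eq_two.mp h2
  have hc : c ∈ (Γ.erase a).erase b := by rw [hE]; simp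
  have hd : d ∈ (Γ.erase a).erase b := by rw [hE]; simp
  simp only [Finset.mem_erase] at hc hd
  exact ⟨c, d, hc.2.2, hd.2.2, fun h => hc.2.1 h.symm, fun h => hd.2.1 h.symm,
    fun h => hc.1 h.symm, fun h => hd.1 h.symm, hcd⟩

theorem alternatingGroup_le_of_klein (hα : 9 ≤ Nat.card α ∨ Nat.card α = 5)
    (G : Subgroup (Perm α)) (hG : IsPreprimitive G α) (Γ : Finset α) (hΓ : Γ.card = 4)
    (hV : ∀ a ∈ Γ, ∀ b ∈ Γ, ∀ c ∈ Γ, ∀ d ∈ Γ, a ≠ b → a ≠ c → a ≠ d → b ≠ c → b ≠ d → c ≠ d →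
      swap a b * swap c d ∈ G)
    (hC : IsMultiplyPretransitive G α 2 →
      ∃ g : G, (Γ ∩ Γ.image (fun x => g • x)).card = 1 ∨
        (Γ ∩ Γ.image (fun x => g • x)).card = 3)
    (hT : ∀ g : Perm α, g ∈ G → ((Γ ∩ Γ.image g).card = 1 ∨ (Γ ∩ Γ.image g).card = 3) →
      ∃ σ ∈ G, σ.IsThreeCycle) :
    alternatingGroup α ≤ G := by
  have hn5 : 5 ≤ Nat.card α := by rcases hα with h | h <;> omega
  have h2 : IsMultiplyPretransitive G α 2 := by
    have hs : ((Γ : Set α)ᶜ).ncard = (Nat.card α - 5) + 1 := by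
      rw [Set.ncard_compl, Set.ncard_coe_finset, hΓ]
      omega
    refine hG.is_two_pretransitive hs (by omega) ⟨?_⟩
    rintro ⟨a, ha⟩ ⟨b, hb⟩
    rw [SubMulAction.mem_ofFixingSubgroup_iff] at ha hb
    have haΓ : a ∈ Γ := by
      by_contra hcon; exact ha (by simpa using hcon)
    have hbΓ : b ∈ Γ := by
      by_contra hcon; exact hb (by simpa using hcon)
    by_cases hab : a = b
    · subst hab
      exact ⟨1, one_smul _ _⟩
    · obtain ⟨c, d, hc, hd, hac, had, hbc, hbd, hcd⟩ := exists_other_two Γ hΓ haΓ hbΓ hab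
      have hmem : swap a b * swap c d ∈ G := hV a haΓ b hbΓ c hc d hd hab hac had hbc hbd hcd
      have hfix : (⟨swap a b * swap c d, hmem⟩ : G) ∈ fixingSubgroup G ((Γ : Set α)ᶜ) := by
        rw [mem_fixingSubgroup_iff]
        intro x hx
        have hxΓ : x ∉ Γ := by simpa using hx
        have hxa : x ≠ a := fun h => hxΓ (h ▸ haΓ)
        have hxb : x ≠ b := fun h => hxΓ (h ▸ hbΓ)
        have hxc : x ≠ c := fun h => hxΓ (h ▸ hc)
        have hxd : x ≠ d := fun h => hxΓ (h ▸ hd)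
        show (swap a b * swap c d) x = x
        rw [Perm.mul_apply, swap_apply_of_ne_of_ne hxc hxd, swap_apply_of_ne_of_ne hxa hxb]
      refine ⟨⟨⟨swap a b * swap c d, hmem⟩, hfix⟩, ?_⟩
      apply Subtype.ext
      show (swap a b * swap c d) a = b
      rw [Perm.mul_apply, swap_apply_of_ne_of_ne hac had, swap_apply_left]
  obtain ⟨g, hg⟩ := hC h2
  obtain ⟨σ, hσ, h3⟩ := hT g.1 g.2 hg
  exact Equiv.Perm.alternatingGroup_le_of_isPreprimitive_of_isThreeCycle_mem hG h3 hσ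

end Cfsg.Agent.Helper7.SylMax
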