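import Mathlib
import Cfsg.Prelude.Def_Balance
import Cfsg.Agent.Helper7.Signalizer
import Cfsg.Agent.Helper7.Hyperplane2
import Cfsg.Agent.Lead.CoprimeSylow
import Cfsg.Agent.Lead.CoprimeSylow2
import Cfsg.Agent.Helper7.ExtLayer
import Cfsg.Agent.Helper7.Connected

set_option autoImplicit false
set_option linter.style.haveILetI false
set_option linter.unusedSectionVars false

/-! # The transitivity theorem for solvable signalizer functors (S1283) -/

namespace Cfsg.Agent.Helper7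

open Subgroup Cfsg

variable {G : Type*} [Group G] [Finite G] {p : ℕ} [hp : Fact p.Prime] {A : Subgroup G}
  {θ : G → Subgroup G}

theorem signalizerFamily_of_le {X U : Subgroup G} (hX : X ∈ signalizerFamily p A θ)
    (hUX : U ≤ X) (hUA : ∀ b ∈ A, ∀ u ∈ U, b * u * b⁻¹ ∈ U) : U ∈ signalizerFamily p A θ := by
  obtain ⟨hs, hpX, _, hθ⟩ := hX
  refine ⟨isSolvable_of_le hUX hs, fun h => hpX (h.trans (card_dvd_of_le hUX)), hUA, ?_⟩
  intro a ha ha1
  exact (inf_le_inf_right _ hUX).trans (hθ a ha ha1)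

theorem signalizerFamily_of_le_theta (hθ : IsSolvableSignalizerFunctor p A θ) {a : G}
    (ha : a ∈ A) (ha1 : a ≠ 1) {U : Subgroup G} (hU : U ≤ θ a)
    (hUA : ∀ b ∈ A, ∀ u ∈ U, b * u * b⁻¹ ∈ U) : U ∈ signalizerFamily p A θ := by
  obtain ⟨⟨_, hpd, _, hbal⟩, hsol⟩ := hθ
  refine ⟨isSolvable_of_le hU (hsol a ha ha1),
    fun h => hpd a ha ha1 (h.trans (card_dvd_of_le hU)), hUA, ?_⟩
  intro b hb hb1
  exact (inf_le_inf_right _ hU).trans (hbal a ha ha1 b hb hb1)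

theorem signalizerInf_le_theta {a : G} (ha : a ∈ A) (ha1 : a ≠ 1) :
    signalizerInf A θ ≤ θ a :=
  iInf_le (fun a : {a : G // a ∈ A ∧ a ≠ 1} => θ (a : G)) ⟨a, ha, ha1⟩

theorem signalizerInf_le_centralizer (hθ : IsSignalizerFunctor p A θ) :
    signalizerInf A θ ≤ centralizer (A : Set G) := by
  intro c hc
  rw [mem_centralizer_iff]
  intro a ha
  by_cases ha1 : a = 1
  · rw [ha1, one_mul, mul_one]
  · have h1 : c ∈ centralizer ({a} : Set G) := hθ.1 a ha ha1 (signalizerInf_le_theta ha ha1 hc)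
    exact (mem_centralizer_singleton_iff.1 h1).symm

theorem mem_signalizerInf_of_mem {X : Subgroup G} (hX : X ∈ signalizerFamily p A θ) {c : G}
    (hcX : c ∈ X) (hcA : c ∈ centralizer (A : Set G)) : c ∈ signalizerInf A θ := by
  unfold signalizerInf
  rw [mem_iInf]
  rintro ⟨a, ha, ha1⟩
  apply hX.2.2.2 a ha ha1
  refine Subgroup.mem_inf.2 ⟨hcX, ?_⟩
  rw [mem_centralizer_singleton_iff]
  exact ((mem_centralizer_iff.1 hcA) a ha).symm

theorem signalizerFamily_map_conj (hθ : IsSignalizerFunctor p A θ) {c : G}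
    (hc : c ∈ signalizerInf A θ) {U : Subgroup G} (hU : U ∈ signalizerFamily p A θ) :
    U.map (MulAut.conj c).toMonoidHom ∈ signalizerFamily p A θ := by
  obtain ⟨hs, hpU, hUA, hUθ⟩ := hU
  have hcA := signalizerInf_le_centralizer hθ hc
  have hcomm : ∀ a ∈ A, a * c = c * a := fun a ha => (mem_centralizer_iff.1 hcA) a ha
  refine ⟨?_, ?_, ?_, ?_⟩
  · haveI := hs
    exact Group.isSolvable_of_surjective
      (f := (U.equivMapOfInjective _ (MulAut.conj c).injective).toMonoidHom)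
      (U.equivMapOfInjective _ (MulAut.conj c).injective).surjective
  · rw [card_map_of_injective (MulAut.conj c).injective]; exact hpU
  · rintro b hb _ ⟨u, hu, rfl⟩
    refine ⟨b * u * b⁻¹, hUA b hb u hu, ?_⟩
    show c * (b * u * b⁻¹) * c⁻¹ = b * (c * u * c⁻¹) * b⁻¹
    have h1 : b * c = c * b := hcomm b hb
    have h2 : c⁻¹ * b⁻¹ = b⁻¹ * c⁻¹ := by
      rw [← mul_inv_rev, ← mul_inv_rev, h1]
    calc c * (b * u * b⁻¹) * c⁻¹ = (c * b) * u * (b⁻¹ * c⁻¹) := by group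
      _ = (b * c) * u * (c⁻¹ * b⁻¹) := by rw [h1, h2]
      _ = b * (c * u * c⁻¹) * b⁻¹ := by group
  · intro a ha ha1
    rintro x ⟨⟨u, hu, rfl⟩, hxa⟩
    have hca : c ∈ θ a := signalizerInf_le_theta ha ha1 hc
    have h1 : a * c = c * a := hcomm a ha
    have hua : u ∈ centralizer ({a} : Set G) := by
      rw [mem_centralizer_singleton_iff]
      have h3 : Commute (c * u * c⁻¹) a := mem_centralizer_singleton_iff.1 hxa
      have hc' : Commute c a := h1.symm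
      have hu' : Commute (c⁻¹ * (c * u * c⁻¹) * c) a := (hc'.inv_left.mul_left h3).mul_left hc'
      have e : c⁻¹ * (c * u * c⁻¹) * c = u := by group
      rw [e] at hu'
      exact hu'.eq
    have : u ∈ θ a := hUθ a ha ha1 (Subgroup.mem_inf.2 ⟨hu, hua⟩)
    exact (θ a).mul_mem ((θ a).mul_mem hca this) ((θ a).inv_mem hca)

/-- `Q` is maximal among the `q`-subgroups in the family of `θ`. -/
def IsMaxQ (p : ℕ) (A : Subgroup G) (θ : G → Subgroup G) (q : ℕ) (Q : Subgroup G) : Prop :=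
  Q ∈ signalizerFamily p A θ ∧ IsPGroup q Q ∧
    ∀ R ∈ signalizerFamily p A θ, IsPGroup q R → Q ≤ R → R = Q

theorem exists_isMaxQ_ge {q : ℕ} {R : Subgroup G} (hR : R ∈ signalizerFamily p A θ)
    (hRq : IsPGroup q R) : ∃ Q, IsMaxQ p A θ q Q ∧ R ≤ Q := by
  let S : Set (Subgroup G) := {R' | R' ∈ signalizerFamily p A θ ∧ IsPGroup q R'}
  obtain ⟨Q, hRQ, ⟨hQF, hQq⟩, hmax⟩ := (Set.toFinite S).exists_le_maximal (a := R) ⟨hR, hRq⟩
  refine ⟨Q, ⟨hQF, hQq, ?_⟩, hRQ⟩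
  intro R' hR' hR'q hQR'
  exact le_antisymm (hmax ⟨hR', hR'q⟩ hQR') hQR'

theorem IsMaxQ.map_conj (hθ : IsSignalizerFunctor p A θ) {q : ℕ} {c : G}
    (hc : c ∈ signalizerInf A θ) {Q : Subgroup G} (hQ : IsMaxQ p A θ q Q) :
    IsMaxQ p A θ q (Q.map (MulAut.conj c).toMonoidHom) := by
  obtain ⟨hQF, hQq, hmax⟩ := hQ
  refine ⟨signalizerFamily_map_conj hθ hc hQF, hQq.map _, ?_⟩
  intro R hR hRq hQR
  have hc' : c⁻¹ ∈ signalizerInf A θ := inv_mem hc
  have h1 := hmax _ (signalizerFamily_map_conj hθ hc' hR) (hRq.map _) (by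
    have := map_mono (f := (MulAut.conj c⁻¹).toMonoidHom) hQR
    rwa [map_conj_inv_map_conj] at this)
  rw [← h1, map_conj_map_conj_inv]

/-- Conjugacy under `θ(C_G(A))`. -/
def InfConj (A : Subgroup G) (θ : G → Subgroup G) (Q Q' : Subgroup G) : Prop :=
  ∃ c ∈ signalizerInf A θ, Q.map (MulAut.conj c).toMonoidHom = Q'

theorem InfConj.refl (Q : Subgroup G) : InfConj A θ Q Q := ⟨1, one_mem _, map_conj_one_cn Q⟩

theorem InfConj.symm {Q Q' : Subgroup G} (h : InfConj A θ Q Q') : InfConj A θ Q' Q := by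
  obtain ⟨c, hc, rfl⟩ := h
  exact ⟨c⁻¹, inv_mem hc, map_conj_inv_map_conj Q c⟩

theorem InfConj.trans {Q Q' Q'' : Subgroup G} (h : InfConj A θ Q Q') (h' : InfConj A θ Q' Q'') :
    InfConj A θ Q Q'' := by
  obtain ⟨c, hc, rfl⟩ := h
  obtain ⟨c', hc', rfl⟩ := h'
  exact ⟨c' * c, mul_mem hc' hc, map_conj_mul Q c' c⟩

theorem transitivity_aux (hA : IsElementaryAbelian p A) (hA3 : p ^ 3 ≤ Nat.card A)
    (hθ : IsSolvableSignalizerFunctor p A θ) (q : ℕ) [hq : Fact q.Prime] :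
    ∀ k : ℕ, ∀ Q₁ Q₂ : Subgroup G, IsMaxQ p A θ q Q₁ → IsMaxQ p A θ q Q₂ →
      Nat.card G - Nat.card (Q₁ ⊓ Q₂ : Subgroup G) = k → InfConj A θ Q₁ Q₂ := by
  intro k
  induction k using Nat.strong_induction_on with
  | _ k ih =>
  intro Q₁ Q₂ hQ₁ hQ₂ hk
  obtain ⟨hQ₁F, hQ₁q, hmax₁⟩ := hQ₁
  obtain ⟨hQ₂F, hQ₂q, hmax₂⟩ := hQ₂
  have hθ' : IsSignalizerFunctor p A θ := hθ.1
  set D := Q₁ ⊓ Q₂ with hD
  by_cases hD₁ : D = Q₁
  · have h12 : Q₁ ≤ Q₂ := by rw [← hD₁]; exact inf_le_right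
    rw [hmax₁ Q₂ hQ₂F hQ₂q h12]
    exact InfConj.refl _
  by_cases hD₂ : D = Q₂
  · have h21 : Q₂ ≤ Q₁ := by rw [← hD₂]; exact inf_le_left
    rw [hmax₂ Q₁ hQ₁F hQ₁q h21]
    exact InfConj.refl _
  -- `q ≠ p`
  have hqp : q ≠ p := by
    rintro rfl
    apply hD₁
    have : Q₁ = ⊥ := by
      obtain ⟨j, hj⟩ := hQ₁q.exists_card_eq
      rcases j with _ | j
      · rw [pow_zero] at hj; exact card_eq_one.1 hj
      · exfalso
        apply hQ₁F.2.1
        rw [hj]; exact dvd_pow_self q (Nat.succ_ne_zero j)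
    rw [hD, this, bot_inf_eq]
  have hAQ₁ : A ≤ normalizer (Q₁ : Set G) := le_normalizer_of_forall_conj_mem hQ₁F.2.2.1
  have hAQ₂ : A ≤ normalizer (Q₂ : Set G) := le_normalizer_of_forall_conj_mem hQ₂F.2.2.1
  obtain ⟨a, haA, ha1, hN₁, hN₂⟩ := exists_mem_normalizer_inf_centralizer_not_le p A hA hA3 q hqp
    Q₁ Q₂ hQ₁q hQ₂q hAQ₁ hAQ₂ hD₁ hD₂
  have hAD : A ≤ normalizer (D : Set G) :=
    (le_inf hAQ₁ hAQ₂).trans (normalizer_inf_normalizer_le_normalizer_inf _ _)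
  have hDF : D ∈ signalizerFamily p A θ :=
    signalizerFamily_of_le hQ₁F inf_le_left (forall_conj_mem_of_le_normalizer hAD)
  have hDq : IsPGroup q D := hQ₁q.to_le inf_le_left
  -- `Y = N_{θ(a)}(D)`
  set Y := θ a ⊓ normalizer (D : Set G) with hY
  have hAθa : A ≤ normalizer ((θ a : Subgroup G) : Set G) :=
    le_normalizer_of_forall_conj_mem (hθ'.2.2.1 a haA ha1)
  have hAY : A ≤ normalizer (Y : Set G) :=
    (le_inf hAθa (hAD.trans le_normalizer)).trans (normalizer_inf_normalizer_le_normalizer_inf _ _)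
  have hYF : Y ∈ signalizerFamily p A θ :=
    signalizerFamily_of_le_theta hθ haA ha1 inf_le_left (forall_conj_mem_of_le_normalizer hAY)
  set X := D ⊔ Y with hX
  have hXF : X ∈ signalizerFamily p A θ :=
    signalizerFamily_sup p A hA θ D Y hDF hYF inf_le_right
  have hAX : A ≤ normalizer (X : Set G) := le_normalizer_of_forall_conj_mem hXF.2.2.1
  have hcopX : (Nat.card A).Coprime (Nat.card X) := by
    obtain ⟨j, hj⟩ := (IsElementaryAbelian.isPGroup hA).exists_card_eq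
    rw [hj]
    exact Nat.Coprime.pow_left _ ((Nat.Prime.coprime_iff_not_dvd hp.out).2 hXF.2.1)
  -- the two `q`-subgroups `U_i = D N_i`
  have hstep : ∀ Q : Subgroup G, Q ∈ signalizerFamily p A θ → IsPGroup q Q → D ≤ Q →
      A ≤ normalizer (Q : Set G) →
      ¬ (normalizer (D : Set G) ⊓ Q ⊓ centralizer {a} ≤ D) →
      ∃ U : Subgroup G, U ≤ X ∧ U ≤ Q ∧ IsPGroup q U ∧ A ≤ normalizer (U : Set G) ∧
        Nat.card D < Nat.card U := by
    intro Q hQF hQq hDQ hAQ hN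
    set N := normalizer (D : Set G) ⊓ Q ⊓ centralizer {a} with hNdef
    have hNQ : N ≤ Q := inf_le_left.trans inf_le_right
    have hNθ : N ≤ θ a := by
      intro x hx
      exact hQF.2.2.2 a haA ha1 (Subgroup.mem_inf.2 ⟨hNQ hx, hx.2⟩)
    have hNY : N ≤ Y := le_inf hNθ (inf_le_left.trans inf_le_left)
    have hAN : A ≤ normalizer (N : Set G) := by
      have h1 : A ≤ normalizer ((centralizer {a} : Subgroup G) : Set G) :=
        (le_centralizer_of_mem_elementaryAbelian hA haA).trans le_normalizer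
      exact (le_inf ((le_inf (hAD.trans le_normalizer) hAQ).trans
        (normalizer_inf_normalizer_le_normalizer_inf _ _)) h1).trans
        (normalizer_inf_normalizer_le_normalizer_inf _ _)
    have hND : N ≤ normalizer (D : Set G) := inf_le_left.trans inf_le_left
    refine ⟨D ⊔ N, sup_le le_sup_left (hNY.trans le_sup_right), sup_le hDQ hNQ, ?_, ?_, ?_⟩
    · exact IsPGroup.to_sup_of_normal_left' hDq (hQq.to_le hNQ) hND
    · exact (le_inf hAD hAN).trans (normalizer_inf_le_normalizer_sup _ _)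
    · apply lt_of_le_of_ne (Subgroup.card_le_of_le le_sup_left)
      intro heq
      apply hN
      have : D = D ⊔ N := Subgroup.eq_of_le_of_card_ge le_sup_left heq.ge
      rw [this]; exact le_sup_right
  obtain ⟨U₁, hU₁X, hU₁Q, hU₁q, hAU₁, hcard₁⟩ := hstep Q₁ hQ₁F hQ₁q inf_le_left hAQ₁ hN₁
  obtain ⟨U₂, hU₂X, hU₂Q, hU₂q, hAU₂, hcard₂⟩ := hstep Q₂ hQ₂F hQ₂q inf_le_right hAQ₂ hN₂
  obtain ⟨P₁, hU₁P, hAP₁⟩ := Cfsg.Agent.Lead.coprime_invariant_pgroup_le_sylow A X hAX hcopX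
    (Or.inr hXF.1) q U₁ hU₁X hU₁q hAU₁
  obtain ⟨P₂, hU₂P, hAP₂⟩ := Cfsg.Agent.Lead.coprime_invariant_pgroup_le_sylow A X hAX hcopX
    (Or.inr hXF.1) q U₂ hU₂X hU₂q hAU₂
  obtain ⟨c, hcA, hcP⟩ := Cfsg.Agent.Lead.coprime_invariant_sylow_conj A X hAX hcopX
    (Or.inr hXF.1) q P₁ P₂ hAP₁ hAP₂
  set R₁ := (P₁ : Subgroup X).map X.subtype with hR₁
  set R₂ := (P₂ : Subgroup X).map X.subtype with hR₂
  have hcI : (c : G) ∈ signalizerInf A θ := mem_signalizerInf_of_mem hXF c.2 hcA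
  have hR12 : R₁.map (MulAut.conj (c : G)).toMonoidHom = R₂ := by
    have h1 : ((MulAut.conj c • P₁ : Sylow q X) : Subgroup X) = (P₂ : Subgroup X) := by rw [hcP]
    rw [Sylow.pointwise_smul_def] at h1
    have h2 := Cfsg.Agent.Lead.map_conj_smul X.subtype c (P₁ : Subgroup X)
    rw [h1] at h2
    rw [hR₂, h2]
    rfl
  have hR₁F : R₁ ∈ signalizerFamily p A θ :=
    signalizerFamily_of_le hXF (map_subtype_le _) (forall_conj_mem_of_le_normalizer hAP₁)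
  have hR₂F : R₂ ∈ signalizerFamily p A θ :=
    signalizerFamily_of_le hXF (map_subtype_le _) (forall_conj_mem_of_le_normalizer hAP₂)
  have hR₁q : IsPGroup q R₁ := P₁.isPGroup'.map _
  have hR₂q : IsPGroup q R₂ := P₂.isPGroup'.map _
  obtain ⟨Q₁', hQ₁', hRQ₁'⟩ := exists_isMaxQ_ge hR₁F hR₁q
  obtain ⟨Q₂', hQ₂', hRQ₂'⟩ := exists_isMaxQ_ge hR₂F hR₂q
  have hcardG : ∀ S : Subgroup G, Nat.card S ≤ Nat.card G := fun S => card_le_card_group S
  -- the three uses of the induction hypothesis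
  have use_ih : ∀ Q Q' U : Subgroup G, IsMaxQ p A θ q Q → IsMaxQ p A θ q Q' → U ≤ Q → U ≤ Q' →
      Nat.card D < Nat.card U → InfConj A θ Q Q' := by
    intro Q Q' U hQ hQ' hUQ hUQ' hlt
    have h1 : Nat.card U ≤ Nat.card (Q ⊓ Q' : Subgroup G) := Subgroup.card_le_of_le (le_inf hUQ hUQ')
    have h2 := hcardG (Q ⊓ Q')
    have h3 := hcardG D
    exact ih (Nat.card G - Nat.card (Q ⊓ Q' : Subgroup G)) (by omega) Q Q' hQ hQ' rfl
  have e1 : InfConj A θ Q₁ Q₁' :=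
    use_ih Q₁ Q₁' U₁ ⟨hQ₁F, hQ₁q, hmax₁⟩ hQ₁' hU₁Q (hU₁P.trans hRQ₁') hcard₁
  have e2 : InfConj A θ Q₂' Q₂ :=
    (use_ih Q₂ Q₂' U₂ ⟨hQ₂F, hQ₂q, hmax₂⟩ hQ₂' hU₂Q (hU₂P.trans hRQ₂') hcard₂).symm
  have e3 : InfConj A θ Q₁' (Q₁'.map (MulAut.conj (c : G)).toMonoidHom) := ⟨c, hcI, rfl⟩
  have e4 : InfConj A θ (Q₁'.map (MulAut.conj (c : G)).toMonoidHom) Q₂' := by
    apply use_ih _ _ U₂ (IsMaxQ.map_conj hθ' hcI hQ₁') hQ₂' _ (hU₂P.trans hRQ₂') hcard₂
    rw [← hR12] at hU₂P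
    exact hU₂P.trans (map_mono hRQ₁')
  exact (e1.trans e3).trans (e4.trans e2)

/-- S1283: the transitivity theorem. -/
theorem transitivity (hA : IsElementaryAbelian p A) (hA3 : p ^ 3 ≤ Nat.card A)
    (hθ : IsSolvableSignalizerFunctor p A θ) (q : ℕ) [hq : Fact q.Prime] (Q₁ Q₂ : Subgroup G)
    (hQ₁ : IsMaxQ p A θ q Q₁) (hQ₂ : IsMaxQ p A θ q Q₂) :
    ∃ c ∈ signalizerInf A θ, Q₁.map (MulAut.conj c).toMonoidHom = Q₂ :=
  transitivity_aux hA hA3 hθ q _ Q₁ Q₂ hQ₁ hQ₂ rfl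

end Cfsg.Agent.Helper7
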