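import Mathlib
import Cfsg.Prelude.Def_Balance
import Cfsg.Agent.Helper7.Transitivity

set_option autoImplicit false
set_option linter.style.haveILetI false
set_option linter.unusedSectionVars false

/-! # Consequences of the transitivity theorem (S1284, S1285) -/

namespace Cfsg.Agent.Helper7

open Subgroup Cfsg

variable {G : Type*} [Group G] [Finite G] {p : ℕ} [hp : Fact p.Prime] {A : Subgroup G}
  {θ : G → Subgroup G}

theorem map_conj_eq_self_of_mem_t2 {H : Subgroup G} {c : G} (hc : c ∈ H) :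
    H.map (MulAut.conj c).toMonoidHom = H := by
  have := Subgroup.conj_smul_eq_self_of_mem hc
  rwa [Subgroup.pointwise_smul_def] at this

theorem bot_mem_signalizerFamily : (⊥ : Subgroup G) ∈ signalizerFamily p A θ := by
  refine ⟨inferInstance, ?_, ?_, ?_⟩
  · rw [Subgroup.card_bot]
    exact hp.out.one_lt.ne' ∘ Nat.dvd_one.1
  · intro b _ u hu
    rw [Subgroup.mem_bot] at hu
    rw [hu, mul_one, mul_inv_cancel]
    exact one_mem _
  · intro a _ _
    exact inf_le_left.trans bot_le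

theorem theta_mem_signalizerFamily (hθ : IsSolvableSignalizerFunctor p A θ) {a : G}
    (ha : a ∈ A) (ha1 : a ≠ 1) : θ a ∈ signalizerFamily p A θ :=
  signalizerFamily_of_le_theta hθ ha ha1 le_rfl (hθ.1.2.2.1 a ha ha1)

/-- S1285: if every `θ a` is a `q`-group then `θ` is complete. -/
theorem complete_of_forall_isPGroup (hA : IsElementaryAbelian p A) (hA3 : p ^ 3 ≤ Nat.card A)
    (hθ : IsSolvableSignalizerFunctor p A θ) (q : ℕ) [hq : Fact q.Prime]
    (hqθ : ∀ a ∈ A, a ≠ 1 → IsPGroup q (θ a)) : IsCompleteSignalizerFunctor p A θ := by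
  refine ⟨hθ.1, ?_⟩
  obtain ⟨Q, hQ, -⟩ := exists_isMaxQ_ge (p := p) (A := A) (θ := θ) (q := q)
    bot_mem_signalizerFamily IsPGroup.of_bot
  refine ⟨Q, hQ.1.2.2.1, hQ.1.2.1, ?_⟩
  intro a ha ha1
  apply le_antisymm (hQ.1.2.2.2 a ha ha1)
  refine le_inf ?_ (hθ.1.1 a ha ha1)
  obtain ⟨Q', hQ', hle⟩ := exists_isMaxQ_ge (theta_mem_signalizerFamily hθ ha ha1) (hqθ a ha ha1)
  obtain ⟨c, hc, hcQ⟩ := transitivity hA hA3 hθ q Q' Q hQ' hQ
  have hca : c ∈ θ a := signalizerInf_le_theta ha ha1 hc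
  rw [← hcQ, ← map_conj_eq_self_of_mem_t2 hca]
  exact map_mono hle

theorem coprime_card_of_mem_family (hA : IsElementaryAbelian p A) {X : Subgroup G}
    (hX : X ∈ signalizerFamily p A θ) : (Nat.card A).Coprime (Nat.card X) := by
  obtain ⟨j, hj⟩ := (IsElementaryAbelian.isPGroup hA).exists_card_eq
  rw [hj]
  exact Nat.Coprime.pow_left _ ((Nat.Prime.coprime_iff_not_dvd hp.out).2 hX.2.1)

/-- S1284 (a). -/
theorem exists_conj_inf_sylow (hA : IsElementaryAbelian p A) (hA3 : p ^ 3 ≤ Nat.card A)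
    (hθ : IsSolvableSignalizerFunctor p A θ) (q : ℕ) [hq : Fact q.Prime] {Q : Subgroup G}
    (hQ : IsMaxQ p A θ q Q) {H : Subgroup G} (hH : H ∈ signalizerFamily p A θ) :
    ∃ c ∈ signalizerInf A θ, ∃ S : Sylow q H,
      (S : Subgroup H).map H.subtype = Q.map (MulAut.conj c).toMonoidHom ⊓ H := by
  have hAH : A ≤ normalizer (H : Set G) := le_normalizer_of_forall_conj_mem hH.2.2.1
  obtain ⟨P, -, hAP⟩ := Cfsg.Agent.Lead.coprime_invariant_pgroup_le_sylow A H hAH
    (coprime_card_of_mem_family hA hH) (Or.inr hH.1) q ⊥ bot_le IsPGroup.of_bot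
    (by intro x _; rw [Subgroup.mem_normalizer_iff]; intro y; simp [Subgroup.mem_bot])
  set R := (P : Subgroup H).map H.subtype with hR
  have hRF : R ∈ signalizerFamily p A θ :=
    signalizerFamily_of_le hH (map_subtype_le _) (forall_conj_mem_of_le_normalizer hAP)
  have hRq : IsPGroup q R := P.isPGroup'.map _
  obtain ⟨Q', hQ', hRQ'⟩ := exists_isMaxQ_ge hRF hRq
  obtain ⟨c, hc, hcQ⟩ := transitivity hA hA3 hθ q Q Q' hQ hQ'
  refine ⟨c, hc, P, ?_⟩
  rw [hcQ]
  have h1 : (Q' ⊓ H).subgroupOf H = (P : Subgroup H) := by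
    apply P.is_maximal'
    · exact (hQ'.2.1.to_le inf_le_left).comap_subtype
    · intro x hx
      rw [mem_subgroupOf]
      exact Subgroup.mem_inf.2 ⟨hRQ' (mem_map_of_mem _ hx), x.2⟩
  rw [← h1, map_subgroupOf_eq_of_le inf_le_right]

theorem signalizerInf_mono {B : Subgroup G} (hBA : B ≤ A) :
    signalizerInf A θ ≤ signalizerInf B θ := by
  unfold signalizerInf
  refine le_iInf ?_
  rintro ⟨b, hb, hb1⟩
  exact iInf_le (fun a : {a : G // a ∈ A ∧ a ≠ 1} => θ (a : G)) ⟨b, hBA hb, hb1⟩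

theorem signalizerInf_le_centralizer' (hθ : IsSignalizerFunctor p A θ) {B : Subgroup G}
    (hBA : B ≤ A) : signalizerInf B θ ≤ centralizer (B : Set G) := by
  intro c hc
  rw [mem_centralizer_iff]
  intro a ha
  by_cases ha1 : a = 1
  · rw [ha1, one_mul, mul_one]
  · have h0 : c ∈ θ a := signalizerInf_le_theta (A := B) ha ha1 hc
    have h1 : c ∈ centralizer ({a} : Set G) := hθ.1 a (hBA ha) ha1 h0
    exact (mem_centralizer_singleton_iff.1 h1).symm

/-- S1284 (b). -/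
theorem exists_sylow_signalizerInf (hA : IsElementaryAbelian p A) (hA3 : p ^ 3 ≤ Nat.card A)
    (hθ : IsSolvableSignalizerFunctor p A θ) (q : ℕ) [hq : Fact q.Prime] {Q : Subgroup G}
    (hQ : IsMaxQ p A θ q Q) {B : Subgroup G} (hBA : B ≤ A) (hB : B ≠ ⊥) :
    ∃ S : Sylow q (signalizerInf B θ),
      (S : Subgroup (signalizerInf B θ)).map (signalizerInf B θ).subtype =
        Q ⊓ centralizer (B : Set G) := by
  set T := signalizerInf B θ with hT
  obtain ⟨b, hbB, hb1⟩ := (Subgroup.ne_bot_iff_exists_ne_one).1 hB |>.imp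
    (fun b h => h) |> fun ⟨b, hb1⟩ => (⟨(b : G), b.2, fun h => hb1 (Subtype.ext h)⟩ :
      ∃ b : G, b ∈ B ∧ b ≠ 1)
  have hTb : T ≤ θ b := signalizerInf_le_theta (A := B) hbB hb1
  have hTA : ∀ a ∈ A, ∀ u ∈ T, a * u * a⁻¹ ∈ T := by
    intro a ha u hu
    rw [hT] at hu ⊢
    unfold signalizerInf at hu ⊢
    rw [mem_iInf] at hu ⊢
    rintro ⟨b', hb', hb'1⟩
    exact hθ.1.2.2.1 b' (hBA hb') hb'1 a ha u (hu ⟨b', hb', hb'1⟩)
  have hTF : T ∈ signalizerFamily p A θ :=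
    signalizerFamily_of_le_theta hθ (hBA hbB) hb1 hTb hTA
  obtain ⟨c, hc, S, hS⟩ := exists_conj_inf_sylow hA hA3 hθ q hQ hTF
  have hcT : c ∈ T := signalizerInf_mono hBA hc
  have hQT : Q ⊓ centralizer (B : Set G) = Q ⊓ T := by
    apply le_antisymm
    · refine le_inf inf_le_left ?_
      intro x hx
      rw [hT]
      unfold signalizerInf
      rw [mem_iInf]
      rintro ⟨b', hb', hb'1⟩
      apply hQ.1.2.2.2 b' (hBA hb') hb'1
      refine Subgroup.mem_inf.2 ⟨hx.1, ?_⟩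
      rw [mem_centralizer_singleton_iff]
      exact ((mem_centralizer_iff.1 hx.2) b' hb').symm
    · exact inf_le_inf_left _ (signalizerInf_le_centralizer' hθ.1 hBA)
  rw [hQT]
  let c' : T := ⟨c⁻¹, inv_mem hcT⟩
  refine ⟨MulAut.conj c' • S, ?_⟩
  rw [Sylow.pointwise_smul_def, Cfsg.Agent.Lead.map_conj_smul T.subtype c' (S : Subgroup T), hS,
    Subgroup.pointwise_smul_def]
  show (Q.map (MulAut.conj c).toMonoidHom ⊓ T).map (MulAut.conj c⁻¹).toMonoidHom = Q ⊓ T
  ext x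
  constructor
  · rintro ⟨y, ⟨⟨z, hz, rfl⟩, hyT⟩, rfl⟩
    have e : (MulAut.conj c⁻¹).toMonoidHom ((MulAut.conj c).toMonoidHom z) = z := by
      simp [MulAut.conj_apply]; group
    rw [e]
    refine Subgroup.mem_inf.2 ⟨hz, ?_⟩
    rw [← e]
    exact T.mul_mem (T.mul_mem (inv_mem hcT) hyT) (by simpa using hcT)
  · intro hx
    refine ⟨c * x * c⁻¹, Subgroup.mem_inf.2 ⟨⟨x, hx.1, rfl⟩, ?_⟩, ?_⟩
    · exact T.mul_mem (T.mul_mem hcT hx.2) (inv_mem hcT)
    · simp; group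

end Cfsg.Agent.Helper7
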