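import Mathlib
import Cfsg.Agent.Helper2.SU.Main
import Cfsg.Agent.Helper2.SU.Simple

set_option autoImplicit false

/-!
# S2090 piece GEN: a subgroup of `SU_4(3)` containing one unitary transvection and transitive on
isotropic points is everything.
-/

namespace Cfsg.Agent.Helper7.U43

open Matrix Cfsg.Agent.S2644 Cfsg.Agent.Helper2.SUGen

/-- in a field with `9` elements, the fourth power of a nonzero element is `±1` -/
theorem pow_four_of_card_nine {F : Type*} [Field F] [Fintype F] (hF : Fintype.card F = 3 ^ 2)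
    {a : F} (ha : a ≠ 0) : a ^ 4 = 1 ∨ a ^ 4 = -1 := by
  have h8 : a ^ 8 = 1 := by
    have := FiniteField.pow_card_sub_one_eq_one a ha
    rw [hF] at this
    norm_num at this
    exact this
  have h2 : (a ^ 4) ^ 2 = 1 ^ 2 := by rw [← pow_mul, one_pow]; exact h8
  rcases sq_eq_sq_iff_eq_or_eq_neg.mp h2 with h | h
  · exact Or.inl h
  · exact Or.inr h

/-- the skew elements `c ^ 3 = -c` are `0, c0, -c0` -/
theorem skew_cases {F : Type*} [Field F] {c0 c : F} (hc0 : c0 ≠ 0) (hskew : c0 ^ 3 = -c0)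
    (hc : c ^ 3 = -c) : c = 0 ∨ c = c0 ∨ c = -c0 := by
  by_cases h0 : c = 0
  · exact Or.inl h0
  right
  have h1 : c ^ 2 = -1 := by
    have : c * (c ^ 2 + 1) = 0 := by linear_combination hc
    rcases mul_eq_zero.mp this with h | h
    · exact absurd h h0
    · linear_combination h
  have h2 : c0 ^ 2 = -1 := by
    have : c0 * (c0 ^ 2 + 1) = 0 := by linear_combination hskew
    rcases mul_eq_zero.mp this with h | h
    · exact absurd h hc0
    · linear_combination h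
  have h3 : c ^ 2 = c0 ^ 2 := by rw [h1, h2]
  exact sq_eq_sq_iff_eq_or_eq_neg.mp h3

theorem eq_top_of_transvection {F : Type*} [Field F] [Fintype F] (hF : Fintype.card F = 3 ^ 2)
    (H : Subgroup (Cfsg.SU 4 F 3)) (v0 : Fin 4 → F) (c0 : F)
    (hiso : Cfsg.hermForm 4 F 3 v0 v0 = 0) (hc0 : c0 ≠ 0) (hskew : c0 ^ 3 = -c0)
    (hT : ∃ g ∈ H, Cfsg.Agent.S2644.toM F 4 3 g = Cfsg.unitaryTransvection 4 3 v0 c0)
    (htrans : ∀ v : Fin 4 → F, v ≠ 0 → Cfsg.hermForm 4 F 3 v v = 0 →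
      ∃ g ∈ H, ∃ a : F, a ≠ 0 ∧ Matrix.mulVec (Cfsg.Agent.S2644.toM F 4 3 g) v0 = a • v) :
    H = ⊤ := by
  classical
  obtain ⟨σ, hσ, hσ2⟩ := Cfsg.Agent.Helper28.exists_frob hF
  have hσid := Cfsg.Agent.S0837.frob_ne_id hF σ hσ
  let D : Frob F 3 := ⟨σ, hσ, hσ2, hσid⟩
  -- the image of `H` in the matrices
  let S : Submonoid (Matrix (Fin 4) (Fin 4) F) := (H.toSubmonoid).map (toM F 4 3)
  have hS : ∀ M, M ∈ S ↔ ∃ g ∈ H, toM F 4 3 g = M := by
    intro M
    exact Submonoid.mem_map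
  obtain ⟨g0, hg0H, hg0⟩ := hT
  -- the inverse of `g0`
  have hg0inv : toM F 4 3 g0⁻¹ = Cfsg.unitaryTransvection 4 3 v0 (-c0) := by
    have h1 : toM F 4 3 g0⁻¹ * toM F 4 3 g0 = 1 := by
      rw [← map_mul, inv_mul_cancel, map_one]
    have h2 : Cfsg.unitaryTransvection 4 3 v0 c0 * Cfsg.unitaryTransvection 4 3 v0 (-c0) = 1 := by
      rw [Cfsg.Agent.S0781.T_mul σ hσ v0 c0 (-c0) hiso, add_neg_cancel]
      exact Cfsg.Agent.S0781.T_zero_coeff v0
    calc toM F 4 3 g0⁻¹ = toM F 4 3 g0⁻¹ * (Cfsg.unitaryTransvection 4 3 v0 c0 *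
          Cfsg.unitaryTransvection 4 3 v0 (-c0)) := by rw [h2, Matrix.mul_one]
      _ = (toM F 4 3 g0⁻¹ * toM F 4 3 g0) * Cfsg.unitaryTransvection 4 3 v0 (-c0) := by
          rw [hg0, Matrix.mul_assoc]
      _ = Cfsg.unitaryTransvection 4 3 v0 (-c0) := by rw [h1, Matrix.one_mul]
  -- conjugates
  have hconj : ∀ (x : Fin 4 → F), x ≠ 0 → Cfsg.hermForm 4 F 3 x x = 0 →
      (Cfsg.unitaryTransvection 4 3 x c0 ∈ S ∧ Cfsg.unitaryTransvection 4 3 x (-c0) ∈ S) := by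
    intro x hx0 hxx
    obtain ⟨g, hgH, a, ha0, hga⟩ := htrans x hx0 hxx
    have key : ∀ c1 : F, ∀ k ∈ H, toM F 4 3 k = Cfsg.unitaryTransvection 4 3 v0 c1 →
        Cfsg.unitaryTransvection 4 3 x (c1 * a ^ 4) ∈ S := by
      intro c1 k hkH hk
      rw [hS]
      refine ⟨g * k * g⁻¹, H.mul_mem (H.mul_mem hgH hkH) (H.inv_mem hgH), ?_⟩
      rw [map_mul, map_mul, hk, T_conj _ (toM_pres g), hga, Matrix.mul_assoc, ← map_mul,
        mul_inv_cancel, map_one, Matrix.mul_one, T_smul]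
    have k1 := key c0 g0 hg0H hg0
    have k2 := key (-c0) g0⁻¹ (H.inv_mem hg0H) hg0inv
    rcases pow_four_of_card_nine hF ha0 with h4 | h4
    · rw [h4, mul_one] at k1 k2
      exact ⟨k1, k2⟩
    · rw [h4, mul_neg, mul_one] at k1 k2
      rw [neg_neg] at k2
      exact ⟨k2, k1⟩
  have hTS : TT D (⊤ : Submodule F (Fin 4 → F)) ≤ S := by
    apply Submonoid.closure_le.mpr
    rintro M ⟨x, c, -, hxx, hc, rfl⟩
    have hc3 : c ^ 3 = -c := by rw [← hσ c]; exact hc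
    by_cases hx0 : x = 0
    · rw [hx0, Cfsg.Agent.S0781.T_zero_vec]
      exact S.one_mem
    rcases skew_cases hc0 hskew hc3 with h | h | h
    · rw [h, Cfsg.Agent.S0781.T_zero_coeff]
      exact S.one_mem
    · rw [h]
      exact (hconj x hx0 hxx).1
    · rw [h]
      exact (hconj x hx0 hxx).2
  rw [eq_top_iff]
  intro g _
  have hdet : (toM F 4 3 g).det = 1 := g.1.2
  have hmem := hTS (SU_le_TT D hF (by norm_num) (by norm_num) (toM_pres g) hdet)
  rw [hS] at hmem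
  obtain ⟨g', hg'H, hg'⟩ := hmem
  rw [← toM_injective hg']
  exact hg'H

end Cfsg.Agent.Helper7.U43
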