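import Mathlib
import Cfsg.Prelude.Def_Characters
import Cfsg.Agent.Helper7.S2333Defs
import Cfsg.Agent.Helper7.S2333Basic
import Cfsg.Agent.Helper12.WGDefs
import Cfsg.Agent.Helper13.WGGapDefs
import Cfsg.Agent.Helper24.WGGapUNIV

/-!
# S2524, chapter GAP, piece GAP-NZERO: if all singular vectors are in the radical then there are at
least `q^(n-2)` singular vectors
-/

set_option autoImplicit false
set_option linter.unusedSectionVars false

namespace Cfsg.Agent.S2524P

open Matrix Cfsg Cfsg.Agent.S2333P

variable {F : Type*} [Field F] [Fintype F]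

/-- the polar form as a linear functional of the second argument -/
def gap_nzero_polarLin {n : ℕ} (M : Matrix (Fin n) (Fin n) F) (u : Fin n → F) :
    (Fin n → F) →ₗ[F] F where
  toFun := polar (qf M) u
  map_add' := polar_add_right M u
  map_smul' := fun t y => by
    rw [polar_smul_right, RingHom.id_apply, smul_eq_mul]

theorem gap_nzero_polarLin_apply {n : ℕ} (M : Matrix (Fin n) (Fin n) F) (u w : Fin n → F) :
    gap_nzero_polarLin M u w = polar (qf M) u w := rfl

/-- **GAP-NZERO**: if all singular vectors are in the radical (and the rank is at least two) then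
there are at least `q^(n-2)` singular vectors (uses GAP-UNIV) -/
theorem gap_card_zero_ge (h2 : (2 : F) ≠ 0) (n : ℕ) (hn : 2 ≤ n)
    (M : Matrix (Fin n) (Fin n) F)
    (hE : ∀ u, qf M u = 0 → ∀ v, polar (qf M) u v = 0)
    (u₀ v₀ : Fin n → F)
    (hd : 4 * qf M u₀ * qf M v₀ - (polar (qf M) u₀ v₀) ^ 2 ≠ 0) :
    Fintype.card F ^ (n - 2) ≤
      (open Classical in Finset.univ.filter (fun u : Fin n → F => qf M u = 0)).card := by
  classical
  obtain ⟨L, hL⟩ : ∃ L : (Fin n → F) →ₗ[F] F × F,
      L = (gap_nzero_polarLin M u₀).prod (gap_nzero_polarLin M v₀) := ⟨_, rfl⟩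
  have hmem : ∀ w, w ∈ LinearMap.ker L ↔ polar (qf M) u₀ w = 0 ∧ polar (qf M) v₀ w = 0 := by
    intro w
    rw [LinearMap.mem_ker, hL]
    show ((gap_nzero_polarLin M u₀ w, gap_nzero_polarLin M v₀ w) : F × F) = 0 ↔ _
    rw [Prod.mk_eq_zero, gap_nzero_polarLin_apply, gap_nzero_polarLin_apply]
  obtain ⟨a, ha⟩ : ∃ a : F, a = qf M u₀ := ⟨_, rfl⟩
  obtain ⟨c, hc⟩ : ∃ c : F, c = qf M v₀ := ⟨_, rfl⟩
  obtain ⟨b, hb⟩ : ∃ b : F, b = polar (qf M) u₀ v₀ := ⟨_, rfl⟩
  have hb' : polar (qf M) v₀ u₀ = b := by rw [polar_comm, hb]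
  rw [← ha, ← hc, ← hb] at hd
  have hsing : ∀ w ∈ LinearMap.ker L, qf M w = 0 := by
    intro w hw
    rw [hmem] at hw
    by_contra hne
    obtain ⟨x, y, hxy⟩ := gap_exists_value h2 M u₀ v₀ (by rw [← ha, ← hc, ← hb]; exact hd)
      (-(qf M w))
    have hzw : polar (qf M) (x • u₀ + y • v₀) w = 0 := by
      rw [polar_add_left, polar_smul_left, polar_smul_left, hw.1, hw.2]
      ring
    have hQ : qf M (x • u₀ + y • v₀ + w) = 0 := by
      rw [qf_add, hxy, hzw]
      ring
    have hrad := hE _ hQ
    have e0 := hrad u₀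
    rw [polar_add_left, polar_add_left, polar_smul_left, polar_smul_left, gap_polar_self, hb',
      polar_comm (qf M) w u₀, hw.1, ← ha] at e0
    have e1 := hrad v₀
    rw [polar_add_left, polar_add_left, polar_smul_left, polar_smul_left, gap_polar_self, ← hb,
      polar_comm (qf M) w v₀, hw.2, ← hc] at e1
    have hx : (4 * a * c - b ^ 2) * x = 0 := by
      linear_combination 2 * c * e0 - b * e1
    have hy : (4 * a * c - b ^ 2) * y = 0 := by
      linear_combination 2 * a * e1 - b * e0
    have hx0 : x = 0 := by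
      rcases mul_eq_zero.1 hx with h | h
      · exact absurd h hd
      · exact h
    have hy0 : y = 0 := by
      rcases mul_eq_zero.1 hy with h | h
      · exact absurd h hd
      · exact h
    rw [hx0, hy0, zero_smul, zero_smul, add_zero, qf_zero] at hxy
    apply hne
    rw [← neg_eq_zero]
    exact hxy.symm
  have hfr : n ≤ Module.finrank F (LinearMap.ker L) + 2 := by
    have h := LinearMap.finrank_range_add_finrank_ker L
    have h' : Module.finrank F (LinearMap.range L) ≤ 2 := by
      have := Submodule.finrank_le (LinearMap.range L)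
      rwa [Module.finrank_prod, Module.finrank_self] at this
    rw [Module.finrank_fin_fun] at h
    omega
  have hcardW : Fintype.card (LinearMap.ker L) =
      Fintype.card F ^ Module.finrank F (LinearMap.ker L) := Module.card_eq_pow_finrank
  calc Fintype.card F ^ (n - 2) ≤ Fintype.card F ^ Module.finrank F (LinearMap.ker L) :=
        Nat.pow_le_pow_right Fintype.card_pos (by omega)
    _ = Fintype.card (LinearMap.ker L) := hcardW.symm
    _ ≤ (Finset.univ.filter (fun u : Fin n → F => qf M u = 0)).card := by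
        rw [← Fintype.card_subtype]
        exact Fintype.card_le_of_injective
          (fun w : LinearMap.ker L => (⟨w.1, hsing w.1 w.2⟩ : {u : Fin n → F // qf M u = 0}))
          (fun a b h => Subtype.ext (congrArg
            (fun z : {u : Fin n → F // qf M u = 0} => (z : Fin n → F)) h))

end Cfsg.Agent.S2524P
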