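import Mathlib
import Cfsg.Prelude.Def_Characters
import Cfsg.Agent.Helper12.WGDefs
import Cfsg.Agent.Helper12.WGDefsC
import Cfsg.Agent.Helper12.WGDefsD
import Cfsg.Agent.Helper12.WGStruct
import Cfsg.Agent.Helper26.WGNONTRIV

set_option autoImplicit false
set_option linter.unusedSectionVars false

/-! # S2524 piece QNORMAL: the normal closure of the Siegel radical is everything
(a wrapper around helper26's `nontriv_normal_eq_top`). -/

namespace Cfsg.Agent.S2524P

open Matrix Cfsg Cfsg.Agent.S2333P Cfsg.Agent.Helper2.Sp Cfsg.Agent.Helper12.LSp Cfsg.Agent.Helper25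

variable {F : Type*} [Field F] [Fintype F]

/-- **QNORMAL**: the normal closure of the Siegel radical is everything -/
theorem normal_top_of_US {n : ℕ} (hn : 1 ≤ n) (N : Subgroup ↥(symplecticGroup (Fin n) F))
    [N.Normal] (h : ∀ Y : Multiplicative ↥(SymM n F), US n F Y ∈ N) : N = ⊤ :=
  nontriv_normal_eq_top hn N inferInstance (fun Y => h (Multiplicative.ofAdd Y))

end Cfsg.Agent.S2524P
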